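import Cfsg.Agent.Lib.Coprime.Action
import Cfsg.Agent.Lib.Coprime.Core
import Cfsg.Agent.Lib.Coprime.Fitting
import Cfsg.Agent.Lib.PGroup.Basic
import Cfsg.Prelude.Def_OddOrderLocal

/-!
# Elementary consequences of the type P data
-/

set_option autoImplicit false
set_option linter.style.haveILetI false

namespace CfsgLib.CFun

open Subgroup
open scoped commutatorElement
open CfsgLib.Coprime (IsPiNum)

universe u

/-- `M_F` has order coprime to its index. -/
theorem fittingHall_coprime (M : Type u) [Group M] [Finite M] :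
    (Nat.card (Cfsg.fittingHall M)).Coprime (Cfsg.fittingHall M).index := by
  set S := {N : Subgroup M | N.Normal ∧ Group.IsNilpotent N ∧ (Nat.card N).Coprime N.index}
  set π := {q : ℕ | ∃ N ∈ S, q ∣ Nat.card N}
  have hle : Cfsg.fittingHall M ≤ Cfsg.piCore π M := sSup_le fun N hN =>
    haveI := hN.1
    CfsgLib.Coprime.le_piCore fun q _ hd => ⟨N, hN, hd⟩
  refine Nat.coprime_of_dvd fun q hq h1 h2 => ?_
  obtain ⟨N, hN, hd⟩ := CfsgLib.Coprime.piCore_isPiNum π q hq (h1.trans (card_dvd_of_le hle))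
  exact hq.one_lt.ne' (Nat.eq_one_of_dvd_coprimes hN.2.2 hd
    (h2.trans (index_dvd_of_le (le_sSup hN))))

/-- In a nilpotent group elements of coprime orders commute. -/
theorem commute_of_coprime_order {F : Type u} [Group F] [Finite F] [Group.IsNilpotent F] {x y : F}
    (h : (orderOf x).Coprime (orderOf y)) : Commute x y := by
  set π := {q : ℕ | q ∣ orderOf x}
  have hx : x ∈ Cfsg.piCore π F := CfsgLib.Coprime.isPiNum_le_piCore_of_isSubnormal
    (CfsgLib.PGroup.isSubnormal_of_isNilpotent (zpowers x))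
    (fun q _ hd => by rwa [Nat.card_zpowers] at hd) (mem_zpowers x)
  have hy : y ∈ Cfsg.piCore πᶜ F := CfsgLib.Coprime.isPiNum_le_piCore_of_isSubnormal
    (CfsgLib.PGroup.isSubnormal_of_isNilpotent (zpowers y))
    (fun q hq hd h' => hq.one_lt.ne' (Nat.eq_one_of_dvd_coprimes h h' (by rwa [Nat.card_zpowers] at hd)))
    (mem_zpowers y)
  haveI : (Cfsg.piCore π F).Normal := sSup_normal _ fun _ h => h.1
  haveI : (Cfsg.piCore πᶜ F).Normal := sSup_normal _ fun _ h => h.1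
  refine Subgroup.commute_of_normal_of_disjoint _ _ inferInstance inferInstance ?_ x y hx hy
  exact disjoint_iff.2 (CfsgLib.Coprime.disjoint_of_coprime_card (Nat.coprime_of_dvd fun q hq h1 h2 =>
    CfsgLib.Coprime.piCore_isPiNum πᶜ q hq h2 (CfsgLib.Coprime.piCore_isPiNum π q hq h1)))

variable {G : Type u} [Group G] [Finite G] {M W₁ U W₂ : Subgroup G}

theorem fittingHallOf_le : Cfsg.fittingHallOf M ≤ M := map_subtype_le _

/-- The complement of `M_F` in `M'` has order prime to that of `M_F`. -/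
theorem typeP_coprime (hP : Cfsg.IsTypePWith M W₁ U W₂) :
    (Nat.card (Cfsg.fittingHallOf M)).Coprime (Nat.card U) := by
  obtain ⟨hHD, hUD, hHU, -⟩ := hP.U_compl
  set H := Cfsg.fittingHallOf M
  have hHM : H ≤ M := fittingHallOf_le
  have hidx : H.relIndex M = (Cfsg.fittingHall M).index := by
    show (((Cfsg.fittingHall M).map M.subtype).subgroupOf M).index = _
    rw [subgroupOf, comap_map_eq_self_of_injective M.subtype_injective]
  have hU : Nat.card U ∣ H.relIndex M := by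
    have hUM : U ≤ M := hUD.trans (commutator_le_self M)
    rw [← relIndex_bot_left U, ← hHU, inf_relIndex_right]
    haveI : (H.subgroupOf M).Normal := by
      rw [show H.subgroupOf M = Cfsg.fittingHall M from
        comap_map_eq_self_of_injective M.subtype_injective _]
      infer_instance
    rw [← relIndex_subgroupOf hUM]
    exact relIndex_dvd_index_of_normal _ _
  refine (Nat.Coprime.coprime_dvd_right hU ?_)
  rw [hidx, show Nat.card H = Nat.card (Cfsg.fittingHall M) from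
    card_map_of_injective M.subtype_injective]
  exact fittingHall_coprime M

/-- `U ∩ F(M)` centralizes `M_F`. -/
theorem typeP_inf_fitting_le (hP : Cfsg.IsTypePWith M W₁ U W₂) :
    U ⊓ Cfsg.fittingOf M ≤ centralizer (Cfsg.fittingHallOf M : Set G) := by
  rintro u ⟨huU, ⟨u', hu', rfl⟩⟩
  refine mem_centralizer_iff.2 fun h hh => ?_
  have hhF : h ∈ Cfsg.fittingOf M := hP.fitting_eq.le (mem_sup_left hh)
  obtain ⟨h', hh', rfl⟩ := hhF
  haveI := CfsgLib.Coprime.fitting_isNilpotent (G := M)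
  have h1 := commute_of_coprime_order (x := (⟨h', hh'⟩ : Cfsg.fittingSubgroup M)) (y := ⟨u', hu'⟩) (by
    rw [← Subgroup.orderOf_coe, ← Subgroup.orderOf_coe (⟨u', hu'⟩ : Cfsg.fittingSubgroup M),
      ← Subgroup.orderOf_coe, ← Subgroup.orderOf_coe u']
    exact ((typeP_coprime hP).coprime_dvd_left (Subgroup.orderOf_dvd_natCard _ hh)).coprime_dvd_right
      (Subgroup.orderOf_dvd_natCard _ huU))
  exact congrArg (fun z : Cfsg.fittingSubgroup M => ((z : M) : G)) h1.eq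

theorem typeP_fitting (hP : Cfsg.IsTypePWith M W₁ U W₂) :
    Cfsg.fittingOf M = Cfsg.fittingHallOf M ⊔ (U ⊓ centralizer (Cfsg.fittingHallOf M : Set G)) := by
  obtain ⟨hHD, hUD, -, hdec⟩ := hP.U_compl
  have hUM : U ≤ M := hUD.trans (commutator_le_self M)
  refine le_antisymm (fun f hf => ?_) ?_
  · obtain ⟨a, ha, b, hb, rfl⟩ := hdec f (hP.fitting_le hf)
    have hbF : b ∈ Cfsg.fittingOf M := by
      rw [show b = a⁻¹ * (a * b) by group]
      exact mul_mem (inv_mem (hP.fitting_eq.le (mem_sup_left ha))) hf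
    exact mul_mem (mem_sup_left ha)
      (mem_sup_right (mem_inf.2 ⟨hb, typeP_inf_fitting_le hP (mem_inf.2 ⟨hb, hbF⟩)⟩))
  · rw [← hP.fitting_eq]
    exact sup_le_sup_left (inf_le_inf_right _ hUM) _

theorem typeP_derived (hP : Cfsg.IsTypePWith M W₁ U W₂) :
    ⁅U, U⁆ ≤ centralizer (Cfsg.fittingHallOf M : Set G) ∧
      (U ≠ ⊥ → ¬ U ≤ centralizer (Cfsg.fittingHallOf M : Set G)) := by
  obtain ⟨hHD, hUD, hHU, hdec⟩ := hP.U_compl
  have hUM : U ≤ M := hUD.trans (commutator_le_self M)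
  refine ⟨fun x hx => typeP_inf_fitting_le hP (mem_inf.2 ⟨commutator_le_self U hx, ?_⟩), fun hU0 hUC => hU0 ?_⟩
  · exact hP.fitting_eq.le (hP.derived_two_le (commutator_mono hUD hUD hx))
  -- `M' = F(M)` is then a normal nilpotent Hall subgroup
  have hDF : ⁅M, M⁆ = Cfsg.fittingOf M := by
    refine le_antisymm (fun d hd => ?_) hP.fitting_le
    obtain ⟨a, ha, b, hb, rfl⟩ := hdec d hd
    exact hP.fitting_eq.le (mul_mem (mem_sup_left ha) (mem_sup_right (mem_inf.2 ⟨hUM hb, hUC hb⟩)))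
  have hHall : (Nat.card (Cfsg.fittingSubgroup M)).Coprime (Cfsg.fittingSubgroup M).index := by
    obtain ⟨hDM, hWM, hDW, hdec'⟩ := hP.W₁_compl
    have hc : Nat.card M = Nat.card ↥⁅M, M⁆ * Nat.card W₁ := by
      rw [← Nat.card_prod]
      refine (Nat.card_congr (Equiv.ofBijective (fun z : ↥⁅M, M⁆ × W₁ =>
        (⟨z.1 * z.2, mul_mem (hDM z.1.2) (hWM z.2.2)⟩ : M)) ⟨?_, ?_⟩)).symm
      · rintro ⟨⟨a, ha⟩, ⟨b, hb⟩⟩ ⟨⟨a', ha'⟩, ⟨b', hb'⟩⟩ e
        have e' : a * b = a' * b' := congrArg Subtype.val e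
        have h1 : a'⁻¹ * a ∈ ⁅M, M⁆ ⊓ W₁ := mem_inf.2 ⟨mul_mem (inv_mem ha') ha, by
          rw [show a'⁻¹ * a = a'⁻¹ * (a * b) * b⁻¹ by group, e',
            show a'⁻¹ * (a' * b') * b⁻¹ = b' * b⁻¹ by group]
          exact mul_mem hb' (inv_mem hb)⟩
        rw [hDW, mem_bot, inv_mul_eq_one] at h1
        subst h1
        simp [mul_left_cancel e']
      · rintro ⟨m, hm⟩
        obtain ⟨a, ha, b, hb, rfl⟩ := hdec' m hm
        exact ⟨(⟨a, ha⟩, ⟨b, hb⟩), rfl⟩
    have e1 : Nat.card (Cfsg.fittingSubgroup M) = Nat.card ↥⁅M, M⁆ := by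
      rw [hDF, Cfsg.fittingOf, card_map_of_injective M.subtype_injective]
    have e2 : (Cfsg.fittingSubgroup M).index = Nat.card W₁ :=
      Nat.eq_of_mul_eq_mul_left Nat.card_pos ((card_mul_index _).trans (hc.trans (by rw [e1])))
    have e3 : W₁.relIndex M = Nat.card ↥⁅M, M⁆ :=
      Nat.eq_of_mul_eq_mul_left (Nat.card_pos (α := W₁)) (by
        rw [mul_comm (Nat.card W₁) (Nat.card _), ← hc]
        rw [relIndex, ← Nat.card_congr (subgroupOfEquivOfLe hWM).toEquiv, card_mul_index])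
    rw [e1, e2, ← e3]
    exact hP.W₁_hall.symm
  have h1 : Cfsg.fittingSubgroup M ≤ Cfsg.fittingHall M :=
    le_sSup ⟨CfsgLib.Coprime.fitting_normal, CfsgLib.Coprime.fitting_isNilpotent, hHall⟩
  refine le_bot_iff.1 (hHU ▸ le_inf ?_ le_rfl)
  exact hUD.trans (hDF.le.trans (map_mono h1))

/-- The factor `W₂` of type P data is determined by the self-normalizing pair. -/
theorem typeP_W₂_eq {S W₁ W₂ U W₂' : Subgroup G} (hW : Cfsg.IsSelfNormalizingCyclic W₁ W₂)
    (hW₂S : W₂ ≤ S) (hP : Cfsg.IsTypePWith S W₁ U W₂') : W₂' = W₂ := by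
  obtain ⟨hW1, hW2, h12, hcomm, hcyc, hnorm⟩ := hW
  obtain ⟨-, -, h12', hcomm', hcyc', -⟩ := hP.selfNormalizing
  obtain ⟨hDS, hWS, hDW, hdec⟩ := hP.W₁_compl
  obtain ⟨⟨x, hx⟩, hx1⟩ := (Subgroup.ne_bot_iff_exists_ne_one).1 hW1
  have hx1' : x ≠ 1 := fun e => hx1 (Subtype.ext e)
  have hle : W₂ ≤ W₁ ⊔ W₂' := by
    intro v hv
    obtain ⟨d, hd, w, hw, rfl⟩ := hdec v (hW₂S hv)
    refine mul_mem (mem_sup_right ?_) (mem_sup_left hw)
    rw [← hP.W₂_centralizer x hx hx1']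
    refine mem_inf.2 ⟨hd, mem_centralizer_singleton_iff.2 ?_⟩
    haveI := hP.W₁_cyclic
    letI := IsCyclic.commGroup (α := W₁)
    have h1 : x * w = w * x := congrArg Subtype.val (mul_comm (⟨x, hx⟩ : W₁) ⟨w, hw⟩)
    have h2 : x * (d * w) = d * w * x := hcomm x hx _ hv
    rw [mul_assoc, ← h1, ← mul_assoc, ← mul_assoc] at h2
    exact (mul_right_cancel h2).symm
  obtain ⟨⟨v, hv⟩, hv1⟩ := (Subgroup.ne_bot_iff_exists_ne_one).1 hW2
  have hv1' : v ≠ 1 := fun e => hv1 (Subtype.ext e)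
  have heq : W₁ ⊔ W₂' = W₁ ⊔ W₂ := by
    refine le_antisymm ?_ (sup_le le_sup_left hle)
    have hX : ({x * v} : Set G) ⊆ (↑(W₁ ⊔ W₂) : Set G) \ (↑W₁ ∪ ↑W₂) := by
      rintro _ rfl
      refine ⟨mul_mem (mem_sup_left hx) (mem_sup_right hv), ?_⟩
      rintro (h | h)
      · exact hv1' (mem_bot.1 (h12.le (mem_inf.2 ⟨by simpa using mul_mem (inv_mem hx) h, hv⟩)))
      · exact hx1' (mem_bot.1 (h12.le (mem_inf.2 ⟨hx, by simpa using mul_mem h (inv_mem hv)⟩)))
    rw [← hnorm _ hX (Set.singleton_nonempty _)]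
    intro g hg
    haveI := hcyc'
    letI := IsCyclic.commGroup (α := ↥(W₁ ⊔ W₂'))
    have h1 : g * (x * v) = x * v * g := congrArg Subtype.val (mul_comm (⟨g, hg⟩ : ↥(W₁ ⊔ W₂'))
      ⟨x * v, mul_mem (mem_sup_left hx) (hle hv)⟩)
    refine mem_set_normalizer_iff.2 fun n => ⟨fun h => ?_, fun h => ?_⟩
    · rw [Set.mem_singleton_iff] at h ⊢
      rw [h, h1, mul_inv_cancel_right]
    · rw [Set.mem_singleton_iff] at h ⊢
      rw [mul_inv_eq_iff_eq_mul, ← h1] at h
      exact mul_left_cancel h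
  have hcard : ∀ {V : Subgroup G}, W₁ ⊓ V = ⊥ → (∀ a ∈ W₁, ∀ b ∈ V, a * b = b * a) →
      Nat.card ↥(W₁ ⊔ V) = Nat.card W₁ * Nat.card V := by
    intro V h hc
    have hn : V ≤ normalizer (W₁ : Set G) := fun b hb => centralizer_le_normalizer _
      (mem_centralizer_iff.2 fun a ha => hc a ha b hb)
    rw [← Nat.card_prod]
    refine (Nat.card_congr (Equiv.ofBijective (fun z : W₁ × V =>
      (⟨z.1 * z.2, mul_mem (mem_sup_left z.1.2) (mem_sup_right z.2.2)⟩ : ↥(W₁ ⊔ V))) ⟨?_, ?_⟩)).symm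
    · rintro ⟨⟨a, ha⟩, ⟨b, hb⟩⟩ ⟨⟨a', ha'⟩, ⟨b', hb'⟩⟩ e
      have e' : a * b = a' * b' := congrArg Subtype.val e
      have h1 : a'⁻¹ * a ∈ W₁ ⊓ V := mem_inf.2 ⟨mul_mem (inv_mem ha') ha, by
        rw [show a'⁻¹ * a = a'⁻¹ * (a * b) * b⁻¹ by group, e',
          show a'⁻¹ * (a' * b') * b⁻¹ = b' * b⁻¹ by group]
        exact mul_mem hb' (inv_mem hb)⟩
      rw [h, mem_bot, inv_mul_eq_one] at h1
      subst h1
      simp [mul_left_cancel e']
    · rintro ⟨m, hm⟩
      obtain ⟨a, ha, b, hb, rfl⟩ := CfsgLib.Coprime.mem_sup_exists hn hm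
      exact ⟨(⟨a, ha⟩, ⟨b, hb⟩), rfl⟩
  have hc : Nat.card W₂' = Nat.card W₂ := by
    refine Nat.eq_of_mul_eq_mul_left (Nat.card_pos (α := W₁)) ?_
    rw [← hcard h12' hcomm', ← hcard h12 hcomm, heq]
  have hW' : W₂' ≤ W₁ ⊔ W₂ := le_sup_right.trans heq.le
  haveI := hcyc
  classical
  haveI : Fintype ↥(W₁ ⊔ W₂) := Fintype.ofFinite _
  set n := Nat.card W₂
  set A := W₂'.subgroupOf (W₁ ⊔ W₂)
  set B := W₂.subgroupOf (W₁ ⊔ W₂)
  have hA : Nat.card A = n := by rw [Nat.card_congr (subgroupOfEquivOfLe hW').toEquiv, hc]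
  have hB : Nat.card B = n := Nat.card_congr (subgroupOfEquivOfLe le_sup_right).toEquiv
  set T := Finset.univ.filter fun y : ↥(W₁ ⊔ W₂) => y ^ n = 1
  have hT : T.card ≤ n := IsCyclic.card_pow_eq_one_le Nat.card_pos
  have key : ∀ C : Subgroup ↥(W₁ ⊔ W₂), Nat.card C = n →
      Finset.univ.filter (fun y => y ∈ C) = T := fun C hC => by
    refine Finset.eq_of_subset_of_card_le (fun y hy => ?_) (hT.trans (le_of_eq ?_))
    · simp only [T, Finset.mem_filter, Finset.mem_univ, true_and] at hy ⊢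
      rw [← orderOf_dvd_iff_pow_eq_one, ← hC]
      exact Subgroup.orderOf_dvd_natCard C hy
    · rw [← hC, Nat.card_eq_fintype_card, ← Fintype.card_subtype]
  have hsub : A = B := by
    ext y
    have h1 := congrArg (fun F : Finset ↥(W₁ ⊔ W₂) => y ∈ F) ((key A hA).trans (key B hB).symm)
    simpa using h1
  have := congrArg (Subgroup.map (W₁ ⊔ W₂).subtype) hsub
  rwa [map_subgroupOf_eq_of_le hW', map_subgroupOf_eq_of_le le_sup_right] at this

end CfsgLib.CFun
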