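import Cfsg.Agent.Lib.CFun.Tools
import Cfsg.Agent.Lib.Fusion.Sylow
import Cfsg.Prelude.Def_ConjugacyFunctors
import Cfsg.Prelude.Def_Solvable

/-!
# Conjugacy functors and isomorphism-invariant functors: basic properties and transport
-/

set_option autoImplicit false
set_option linter.style.haveILetI false

open Subgroup
open CfsgLib.Fusion (conjBy mem_conjBy conjBy_le_iff conjBy_eq_iff conjBy_normalizer conjBy_conjBy
  exists_conj_le_of_not_dvd_relIndex eq_of_le_of_isPGroup_of_not_dvd_relIndex)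

namespace CfsgLib.CFun

universe u

section Conjugacy

variable {G : Type*} [Group G] {p : ℕ} {W : Subgroup G → Subgroup G}

theorem cfun_le (hW : Cfsg.IsConjugacyFunctor p W) {P : Subgroup G} (hP : IsPGroup p P) : W P ≤ P :=
  (hW P hP).1

theorem cfun_conjBy (hW : Cfsg.IsConjugacyFunctor p W) {P : Subgroup G} (hP : IsPGroup p P)
    (g : G) : W (conjBy g P) = conjBy g (W P) :=
  (hW P hP).2.2 g

theorem cfun_normalizer_le (hW : Cfsg.IsConjugacyFunctor p W) {P : Subgroup G}
    (hP : IsPGroup p P) : normalizer (P : Set G) ≤ normalizer ((W P : Subgroup G) : Set G) :=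
  fun g hg => conjBy_eq_iff.1 (by rw [← cfun_conjBy hW hP, conjBy_eq_iff.2 hg])

/-- The subgroup generated by the derived subgroups of the normalizers, as seen in `T`. -/
abbrev famSup (𝓦 : Set (Subgroup G → Subgroup G)) (T H : Subgroup G) : Subgroup G :=
  ⨆ W ∈ 𝓦, T ⊓ ⁅H ⊓ normalizer ((W T : Subgroup G) : Set G),
    H ⊓ normalizer ((W T : Subgroup G) : Set G)⁆

theorem famSup_conjBy {𝓦 : Set (Subgroup G → Subgroup G)}
    (h𝓦 : ∀ W ∈ 𝓦, Cfsg.IsConjugacyFunctor p W) {T : Subgroup G} (hT : IsPGroup p T)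
    (H : Subgroup G) (g : G) : famSup 𝓦 (conjBy g T) (conjBy g H) = conjBy g (famSup 𝓦 T H) := by
  have hi : Function.Injective (MulAut.conj g).toMonoidHom := (MulAut.conj g).injective
  show _ = Subgroup.map _ _
  rw [Subgroup.map_iSup]
  refine iSup_congr fun W => ?_
  rw [Subgroup.map_iSup]
  refine iSup_congr fun hW => ?_
  rw [Subgroup.map_inf _ _ _ hi, Subgroup.map_commutator, cfun_conjBy (h𝓦 W hW) hT]
  show _ ⊓ ⁅conjBy g H ⊓ _, conjBy g H ⊓ _⁆ = _
  rw [← conjBy_normalizer, ← Subgroup.map_inf _ _ _ hi]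

theorem famSup_le (𝓦 : Set (Subgroup G → Subgroup G)) (T H : Subgroup G) :
    famSup 𝓦 T H ≤ T ⊓ ⁅H, H⁆ :=
  iSup₂_le fun _ _ => inf_le_inf le_rfl (commutator_mono inf_le_left inf_le_left)

/-- Control of transfer in `H` may be checked in any Sylow `p`-subgroup of `H`. -/
theorem famControl_any [Finite G] [Fact p.Prime] {𝓦 : Set (Subgroup G → Subgroup G)}
    (h𝓦 : ∀ W ∈ 𝓦, Cfsg.IsConjugacyFunctor p W) {H T : Subgroup G}
    (h : Cfsg.FamilyControlsTransferIn p 𝓦 H) (hTH : T ≤ H) (hT : IsPGroup p T)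
    (hTi : ¬ p ∣ T.relIndex H) : T ⊓ ⁅H, H⁆ = famSup 𝓦 T H := by
  obtain ⟨T₀, hT₀H, hT₀, hT₀i, hc⟩ := h
  obtain ⟨g, hg, hle⟩ := exists_conj_le_of_not_dvd_relIndex hT hTH hTi hT₀ hT₀H
  have hH : conjBy g H = H := conjBy_eq_iff.2 (le_normalizer hg)
  have e : conjBy g T₀ = T := by
    refine (eq_of_le_of_isPGroup_of_not_dvd_relIndex hT hle hTH ?_).symm
    rw [← hH]
    exact CfsgLib.Fusion.not_dvd_relIndex_conjBy g hT₀i
  have := congrArg (conjBy g) hc
  rw [← e, ← hH, famSup_conjBy h𝓦 hT₀, ← Subgroup.map_commutator,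
    ← Subgroup.map_inf _ _ _ (MulAut.conj g).injective]
  exact this

theorem controlsTransferIn_iff_family {H : Subgroup G} :
    Cfsg.ControlsTransferIn p W H ↔ Cfsg.FamilyControlsTransferIn p {W} H := by
  unfold Cfsg.ControlsTransferIn Cfsg.FamilyControlsTransferIn
  simp only [iSup_singleton]

end Conjugacy

section Induced

variable {G G' : Type u} [Group G] [Group G'] {p : ℕ}
  {W : ∀ (Q : Type u) [Group Q], Subgroup Q}

theorem induced_le (W : ∀ (Q : Type u) [Group Q], Subgroup Q) (P : Subgroup G) :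
    Cfsg.inducedFunctor W P ≤ P :=
  map_subtype_le _

theorem induced_of_equiv [Finite G] (hW : Cfsg.IsCharPFunctor.{u} p W) {P : Subgroup G}
    (hP : IsPGroup p P) {P' : Subgroup G'} (e : P ≃* P') (f : G →* G')
    (he : ∀ x : P, (e x : G') = f x) :
    Cfsg.inducedFunctor W P' = (Cfsg.inducedFunctor W P).map f := by
  have hc : f.comp P.subtype = P'.subtype.comp e.toMonoidHom := MonoidHom.ext fun x => (he x).symm
  show (W P').map P'.subtype = ((W P).map P.subtype).map f
  rw [Subgroup.map_map, hc, ← Subgroup.map_map, hW.2 P P' hP e]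

theorem induced_map [Finite G] (hW : Cfsg.IsCharPFunctor.{u} p W) {P : Subgroup G}
    (hP : IsPGroup p P) (f : G →* G') (hf : Function.Injective f) :
    Cfsg.inducedFunctor W (P.map f) = (Cfsg.inducedFunctor W P).map f :=
  induced_of_equiv hW hP (P.equivMapOfInjective f hf) f fun _ => rfl

theorem induced_ne_bot [Finite G] (hW : Cfsg.IsCharPFunctor.{u} p W) {P : Subgroup G}
    (hP : IsPGroup p P) (hne : P ≠ ⊥) : Cfsg.inducedFunctor W P ≠ ⊥ := fun h =>
  hW.1 P hP ((Subgroup.nontrivial_iff_ne_bot P).2 hne)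
    ((Subgroup.map_eq_bot_iff_of_injective _ P.subtype_injective).1 h)

theorem isConjugacyFunctor_induced [Finite G] (hW : Cfsg.IsCharPFunctor.{u} p W) :
    Cfsg.IsConjugacyFunctor p (Cfsg.inducedFunctor (G := G) W) :=
  fun _ hP => ⟨induced_le W _, induced_ne_bot hW hP,
    fun g => induced_map hW hP _ (MulAut.conj g).injective⟩

/-- The family of induced conjugacy functors. -/
abbrev indFam (G : Type u) [Group G] (𝓦 : Set (∀ (Q : Type u) [Group Q], Subgroup Q)) :
    Set (Subgroup G → Subgroup G) :=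
  (fun W => Cfsg.inducedFunctor (G := G) W) '' 𝓦

variable {𝓦 : Set (∀ (Q : Type u) [Group Q], Subgroup Q)}

theorem indFam_isConjugacyFunctor [Finite G] (h𝓦 : ∀ W ∈ 𝓦, Cfsg.IsCharPFunctor.{u} p W) :
    ∀ W' ∈ indFam G 𝓦, Cfsg.IsConjugacyFunctor p W' := by
  rintro _ ⟨W, hW, rfl⟩
  exact isConjugacyFunctor_induced (h𝓦 W hW)

theorem map_inf_normalizer (f : G →* G') (hf : Function.Injective f) (H X : Subgroup G) :
    (H ⊓ normalizer (X : Set G)).map f = H.map f ⊓ normalizer ((X.map f : Subgroup G') : Set G') := by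
  refine le_antisymm (le_inf (map_mono inf_le_left)
    ((map_mono inf_le_right).trans (le_normalizer_map f))) ?_
  rintro _ ⟨⟨x, hx, rfl⟩, hn⟩
  refine mem_map_of_mem f (mem_inf.2 ⟨hx, mem_normalizer_iff.2 fun y => ?_⟩)
  have h := mem_normalizer_iff.1 hn (f y)
  rwa [← map_inv, ← map_mul, ← map_mul, mem_map_iff_mem hf, mem_map_iff_mem hf] at h

theorem famControl_map [Finite G] (h𝓦 : ∀ W ∈ 𝓦, Cfsg.IsCharPFunctor.{u} p W) (f : G →* G')
    (hf : Function.Injective f) {H : Subgroup G}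
    (h : Cfsg.FamilyControlsTransferIn p (indFam G 𝓦) H) :
    Cfsg.FamilyControlsTransferIn p (indFam G' 𝓦) (H.map f) := by
  obtain ⟨T, hTH, hT, hTi, hc⟩ := h
  refine ⟨T.map f, map_mono hTH, hT.map f, ?_, ?_⟩
  · rwa [Subgroup.relIndex_map_map_of_injective _ _ hf]
  · rw [← Subgroup.map_commutator, ← Subgroup.map_inf _ _ _ hf, hc, iSup_image, iSup_image,
      Subgroup.map_iSup]
    refine iSup_congr fun W => ?_
    rw [Subgroup.map_iSup]
    refine iSup_congr fun hW => ?_
    rw [Subgroup.map_inf _ _ _ hf, Subgroup.map_commutator, induced_map (h𝓦 W hW) hT f hf,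
      map_inf_normalizer f hf]

/-- The property that the functors control transfer in the whole group. -/
abbrev Ctrl (p : ℕ) (𝓦 : Set (∀ (Q : Type u) [Group Q], Subgroup Q)) (G : Type u) [Group G] :
    Prop :=
  Cfsg.FamilyControlsTransferIn p (indFam G 𝓦) ⊤

theorem ctrl_congr [Finite G] (h𝓦 : ∀ W ∈ 𝓦, Cfsg.IsCharPFunctor.{u} p W) (e : G ≃* G')
    (h : Ctrl p 𝓦 G) : Ctrl p 𝓦 G' := by
  have := famControl_map h𝓦 e.toMonoidHom e.injective h
  rwa [Subgroup.map_top_of_surjective _ e.surjective] at this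

theorem famControl_of_ctrl [Finite G] (h𝓦 : ∀ W ∈ 𝓦, Cfsg.IsCharPFunctor.{u} p W) (H : Subgroup G)
    (h : Ctrl p 𝓦 H) : Cfsg.FamilyControlsTransferIn p (indFam G 𝓦) H := by
  have := famControl_map h𝓦 H.subtype H.subtype_injective h
  rwa [← MonoidHom.range_eq_map, Subgroup.range_subtype] at this

end Induced

end CfsgLib.CFun
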