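import Cfsg.Agent.Lib.CFun.Functor
import Cfsg.Agent.Lib.Fusion.Thompson
import Cfsg.Agent.Lib.Fusion.Transfer

/-!
# Well-placed subgroups; control of transfer and of fusion pass from local subgroups to the group
-/

set_option autoImplicit false
set_option linter.style.haveILetI false

open Subgroup
open scoped commutatorElement
open CfsgLib.Fusion (conjBy mem_conjBy conj_mem_conjBy conjBy_le_iff conjBy_eq_iff conjBy_conjBy
  conjBy_mono conjBy_normalizer card_conjBy isPGroup_conjBy exists_conj_fully_normalized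
  exists_conj_le_of_not_dvd_relIndex eq_of_le_of_isPGroup_of_not_dvd_relIndex lt_inf_normalizer)

namespace CfsgLib.CFun

variable {G : Type*} [Group G] [Finite G] {p : ℕ} [Fact p.Prime]

theorem card_lt_card {H K : Subgroup G} (h : H < K) : Nat.card H < Nat.card K :=
  Set.Finite.card_lt_card (Set.toFinite _) h

theorem lt_inf_normalizer_sylow (S : Sylow p G) {R : Subgroup G} (hR : R ≤ (S : Subgroup G))
    (hne : R ≠ (S : Subgroup G)) : R < (S : Subgroup G) ⊓ normalizer (R : Set G) := by
  haveI := S.2.isNilpotent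
  exact lt_inf_normalizer hR hne

theorem functorTower_succ' (W : Subgroup G → Subgroup G) (S R : Subgroup G) (i : ℕ) :
    Cfsg.functorTower W S R (i + 1) =
      Cfsg.functorTower W S (W (S ⊓ normalizer (R : Set G))) i := by
  induction i with
  | zero => rfl
  | succ i ih =>
    show W (S ⊓ normalizer ((Cfsg.functorTower W S R (i + 1) : Subgroup G) : Set G)) = _
    rw [ih]
    rfl

/-- Every subgroup of `S` has a well-placed conjugate receiving its normalizer in `S`. -/
theorem exists_wellPlaced (S : Sylow p G) {W : Subgroup G → Subgroup G}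
    (hW : Cfsg.IsConjugacyFunctor p W) (n : ℕ) :
    ∀ R : Subgroup G, R ≤ (S : Subgroup G) →
      Nat.card (S : Subgroup G) - Nat.card ((S : Subgroup G) ⊓ normalizer (R : Set G) : Subgroup G) = n →
      ∃ h : G, conjBy h ((S : Subgroup G) ⊓ normalizer (R : Set G)) ≤ (S : Subgroup G) ∧
        Cfsg.IsWellPlaced p W (S : Subgroup G) (conjBy h R) := by
  induction n using Nat.strong_induction_on with
  | _ n ih =>
    intro R hR hn
    obtain ⟨g, hR₀, hle, hfull⟩ := exists_conj_fully_normalized S hR
    set S0 : Subgroup G := (S : Subgroup G) with hS0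
    set R₀ := conjBy g R
    set L := S0 ⊓ normalizer (R₀ : Set G) with hL
    have hLS : L ≤ S0 := inf_le_left
    have hLp : IsPGroup p L := S.2.to_le hLS
    by_cases hLeq : L = S0
    · refine ⟨g, hle.trans inf_le_left, hR₀, fun i => ?_⟩
      induction i with
      | zero => exact hfull
      | succ i _ =>
        suffices hh : ∀ j, S0 ⊓ normalizer ((Cfsg.functorTower W S0 R₀ (j + 1) : Subgroup G) : Set G) = S0 by
          rw [hh i]
          exact fun hd => S.not_dvd_index
            (hd.trans (relIndex_dvd_index_of_le ((inf_eq_left.1 (hh i)))))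
        intro j
        induction j with
        | zero =>
          refine inf_eq_left.2 ?_
          show S0 ≤ normalizer ((W (S0 ⊓ normalizer (R₀ : Set G)) : Subgroup G) : Set G)
          rw [← hL, hLeq]
          exact le_normalizer.trans (cfun_normalizer_le hW S.2)
        | succ j ihj =>
          refine inf_eq_left.2 ?_
          show S0 ≤ normalizer ((W (S0 ⊓ normalizer
            ((Cfsg.functorTower W S0 R₀ (j + 1) : Subgroup G) : Set G)) : Subgroup G) : Set G)
          rw [ihj]
          exact le_normalizer.trans (cfun_normalizer_le hW S.2)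
    · have hlt : Nat.card L < Nat.card (S0 ⊓ normalizer ((W L : Subgroup G) : Set G) : Subgroup G) :=
        lt_of_lt_of_le (card_lt_card (lt_inf_normalizer_sylow S hLS hLeq))
          (Subgroup.card_le_of_le (inf_le_inf le_rfl (cfun_normalizer_le hW hLp)))
      have hge : Nat.card (S0 ⊓ normalizer (R : Set G) : Subgroup G) ≤ Nat.card L := by
        rw [← card_conjBy g]; exact Subgroup.card_le_of_le hle
      obtain ⟨h, hhle, hhS, hhw⟩ := ih _ (by
        have := Subgroup.card_le_of_le (inf_le_left : S0 ⊓ normalizer ((W L : Subgroup G) : Set G) ≤ S0)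
        omega) (W L) ((cfun_le hW hLp).trans hLS) rfl
      have hL' : L ≤ S0 ⊓ normalizer ((W L : Subgroup G) : Set G) :=
        le_inf hLS (le_normalizer.trans (cfun_normalizer_le hW hLp))
      have h1 : conjBy h L ≤ S0 ⊓ normalizer (conjBy h R₀ : Set G) := by
        refine le_inf ((conjBy_mono hL').trans hhle) ?_
        rw [← conjBy_normalizer]; exact conjBy_mono inf_le_right
      have h2 : conjBy h L = S0 ⊓ normalizer (conjBy h R₀ : Set G) := by
        refine (eq_of_le_of_isPGroup_of_not_dvd_relIndex (S.2.to_le inf_le_left) h1 inf_le_right ?_).symm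
        rw [← conjBy_normalizer]
        exact CfsgLib.Fusion.not_dvd_relIndex_conjBy h hfull
      refine ⟨h * g, ?_, ?_, fun i => ?_⟩
      · rw [← conjBy_conjBy]
        exact ((conjBy_mono hle).trans h1).trans inf_le_left
      · rw [← conjBy_conjBy]
        exact (conjBy_mono (le_inf hR₀ le_normalizer : R₀ ≤ L)).trans (h1.trans inf_le_left)
      · rw [← conjBy_conjBy]
        cases i with
        | zero =>
          show ¬ p ∣ (S0 ⊓ normalizer (conjBy h R₀ : Set G)).relIndex
            (normalizer (conjBy h R₀ : Set G))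
          rw [← h2, ← conjBy_normalizer]
          exact CfsgLib.Fusion.not_dvd_relIndex_conjBy h hfull
        | succ i =>
          rw [functorTower_succ', ← h2, cfun_conjBy hW hLp]
          exact hhw i

/-- The hypotheses on a notion of local subgroup used in the reductions. -/
structure LocalData (S : Sylow p G) (Placed : Subgroup G → Prop) : Prop where
  full : ∀ R, Placed R → ¬ p ∣ ((S : Subgroup G) ⊓ normalizer (R : Set G)).relIndex
    (normalizer (R : Set G))
  ex : ∀ R, R ≤ (S : Subgroup G) → ∃ h : G,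
    conjBy h ((S : Subgroup G) ⊓ normalizer (R : Set G)) ≤ (S : Subgroup G) ∧ Placed (conjBy h R)

theorem localData_full (S : Sylow p G) : LocalData S fun R =>
    ¬ p ∣ ((S : Subgroup G) ⊓ normalizer (R : Set G)).relIndex (normalizer (R : Set G)) :=
  ⟨fun _ h => h, fun _ hR => by
    obtain ⟨g, -, hle, hfull⟩ := exists_conj_fully_normalized S hR
    exact ⟨g, hle.trans inf_le_left, hfull⟩⟩

theorem localData_wellPlaced (S : Sylow p G) {W : Subgroup G → Subgroup G}
    (hW : Cfsg.IsConjugacyFunctor p W) :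
    LocalData S (Cfsg.IsWellPlaced p W (S : Subgroup G)) :=
  ⟨fun _ h => h.2 0, fun R hR => exists_wellPlaced S hW _ R hR rfl⟩

theorem LocalData.le_of_le {S : Sylow p G} {R : Subgroup G} (hR : R ≤ (S : Subgroup G)) {h : G}
    (hle : conjBy h ((S : Subgroup G) ⊓ normalizer (R : Set G)) ≤ (S : Subgroup G)) :
    conjBy h R ≤ (S : Subgroup G) :=
  (conjBy_mono (le_inf hR le_normalizer)).trans hle

theorem transfer_local_to_global (S : Sylow p G) {𝓦 : Set (Subgroup G → Subgroup G)}
    (h𝓦 : ∀ W ∈ 𝓦, Cfsg.IsConjugacyFunctor p W) {Placed : Subgroup G → Prop}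
    (D : LocalData S Placed)
    (hloc : ∀ T : Subgroup G, T ≤ (S : Subgroup G) → T ≠ ⊥ → Placed T →
      Cfsg.FamilyControlsTransferIn p 𝓦 (normalizer (T : Set G))) :
    Cfsg.FamilyControlsTransferIn p 𝓦 ⊤ := by
  set S0 : Subgroup G := (S : Subgroup G) with hS0
  set F := famSup 𝓦 S0 ⊤ with hF
  have hmeasure : ∀ {R : Subgroup G}, R ≤ S0 → Nat.card R ≤ Nat.card S0 := fun h =>
    Subgroup.card_le_of_le h
  -- simultaneous downward induction
  have main : ∀ n : ℕ,
      (∀ R : Subgroup G, R ≤ S0 → Nat.card S0 - Nat.card R = n → ∀ g : G, conjBy g R ≤ S0 →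
        ∀ x ∈ R, x⁻¹ * (g * x * g⁻¹) ∈ F) ∧
      (∀ P : Subgroup G, P ≤ S0 → P ≠ ⊥ → Placed P →
        Nat.card S0 - Nat.card (S0 ⊓ normalizer (P : Set G) : Subgroup G) = n →
        (S0 ⊓ normalizer (P : Set G)) ⊓ ⁅normalizer (P : Set G), normalizer (P : Set G)⁆ ≤ F) := by
    intro n
    induction n using Nat.strong_induction_on with
    | _ n ih =>
      have hB : ∀ P : Subgroup G, P ≤ S0 → P ≠ ⊥ → Placed P →
          Nat.card S0 - Nat.card (S0 ⊓ normalizer (P : Set G) : Subgroup G) = n →
          (S0 ⊓ normalizer (P : Set G)) ⊓ ⁅normalizer (P : Set G), normalizer (P : Set G)⁆ ≤ F := by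
        intro P hPS hP hpl hn
        set L := S0 ⊓ normalizer (P : Set G) with hL
        have hLS : L ≤ S0 := inf_le_left
        have hLp : IsPGroup p L := S.2.to_le hLS
        rw [famControl_any h𝓦 (hloc P hPS hP hpl) inf_le_right hLp (D.full P hpl)]
        refine iSup₂_le fun W hW => ?_
        by_cases hLeq : L = S0
        · refine le_iSup₂_of_le W hW ?_
          rw [show S0 ⊓ normalizer (P : Set G) = S0 from hLeq, top_inf_eq]
          exact inf_le_inf le_rfl (commutator_mono inf_le_right inf_le_right)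
        intro z hz
        have hW' := h𝓦 W hW
        have hLne : L ≠ ⊥ := ne_bot_of_le_ne_bot hP (le_inf hPS le_normalizer)
        have hlt : Nat.card L < Nat.card (S0 ⊓ normalizer ((W L : Subgroup G) : Set G) : Subgroup G) :=
          lt_of_lt_of_le (card_lt_card (lt_inf_normalizer_sylow S hLS hLeq))
            (Subgroup.card_le_of_le (inf_le_inf le_rfl (cfun_normalizer_le hW' hLp)))
        set R := S0 ⊓ normalizer ((W L : Subgroup G) : Set G) with hR
        have hRS : R ≤ S0 := inf_le_left
        have := hmeasure hRS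
        obtain ⟨k, hk, hkpl⟩ := D.ex (W L) ((cfun_le hW' hLp).trans hLS)
        set P₂ := conjBy k (W L)
        have hP₂S : P₂ ≤ S0 := LocalData.le_of_le ((cfun_le hW' hLp).trans hLS) hk
        have hP₂ne : P₂ ≠ ⊥ := fun h => (hW' L hLp).2.1 hLne
          ((Subgroup.map_eq_bot_iff_of_injective _ (MulAut.conj k).injective).1 h)
        have hkR : conjBy k R ≤ S0 ⊓ normalizer (P₂ : Set G) :=
          le_inf hk (conjBy_normalizer k (W L) ▸ conjBy_mono inf_le_right)
        have hcard : Nat.card R ≤ Nat.card (S0 ⊓ normalizer (P₂ : Set G) : Subgroup G) := by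
          rw [← card_conjBy k]; exact Subgroup.card_le_of_le hkR
        have := hmeasure (inf_le_left : S0 ⊓ normalizer (P₂ : Set G) ≤ S0)
        have hzR : z ∈ R :=
          le_inf hLS (le_normalizer.trans (cfun_normalizer_le hW' hLp)) hz.1
        have h1 : k * z * k⁻¹ ∈ F := by
          refine (ih _ (by omega)).2 P₂ hP₂S hP₂ne hkpl rfl
            (mem_inf.2 ⟨hkR (conj_mem_conjBy hzR), ?_⟩)
          rw [← conjBy_normalizer, ← Subgroup.map_commutator]
          exact conj_mem_conjBy (commutator_mono inf_le_right inf_le_right hz.2)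
        have h2 : z⁻¹ * (k * z * k⁻¹) ∈ F := (ih _ (by omega)).1 R hRS rfl k hk z hzR
        have h3 := F.mul_mem h1 (F.inv_mem h2)
        rwa [mul_inv_rev, inv_inv, mul_inv_cancel_left] at h3
      refine ⟨?_, hB⟩
      intro R hR hn g hg x hx
      by_cases hRb : R = ⊥
      · rw [hRb, mem_bot] at hx
        rw [hx]
        simp
      set R' := conjBy g R
      obtain ⟨h, hh, hpl⟩ := D.ex R hR
      set Rs := conjBy h R
      have hRsS : Rs ≤ S0 := LocalData.le_of_le hR hh
      have hRs : Rs ≠ ⊥ := fun e => hRb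
        ((Subgroup.map_eq_bot_iff_of_injective _ (MulAut.conj h).injective).1 e)
      have hcR := hmeasure hR
      -- commutators in the local subgroup
      have hlocal : ∀ y ∈ Rs, ∀ m ∈ normalizer (Rs : Set G), y⁻¹ * (m * y * m⁻¹) ∈ F := by
        intro y hy m hm
        have hc : Nat.card R ≤ Nat.card (S0 ⊓ normalizer (Rs : Set G) : Subgroup G) := by
          rw [← card_conjBy h]; exact Subgroup.card_le_of_le (le_inf hRsS le_normalizer)
        have := hmeasure (inf_le_left : S0 ⊓ normalizer (Rs : Set G) ≤ S0)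
        have hmem : y⁻¹ * (m * y * m⁻¹) ∈ (S0 ⊓ normalizer (Rs : Set G)) ⊓
            ⁅normalizer (Rs : Set G), normalizer (Rs : Set G)⁆ := by
          have hmy : y⁻¹ * (m * y * m⁻¹) ∈ Rs :=
            mul_mem (inv_mem hy) ((mem_normalizer_iff.1 hm y).1 hy)
          refine mem_inf.2 ⟨⟨hRsS hmy, le_normalizer hmy⟩, ?_⟩
          have := commutator_mem_commutator (inv_mem (le_normalizer hy : y ∈ normalizer (Rs : Set G))) hm
          rwa [commutatorElement_def, inv_inv, mul_assoc, mul_assoc, ← mul_assoc m] at this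
        rcases eq_or_lt_of_le (show Nat.card S0 -
            Nat.card (S0 ⊓ normalizer (Rs : Set G) : Subgroup G) ≤ n by omega) with e | e
        · exact hB Rs hRsS hRs hpl e hmem
        · exact (ih _ e).2 Rs hRsS hRs hpl rfl hmem
      rcases eq_or_ne R S0 with hRS | hRS
      · have hgR : R' = R := Subgroup.eq_of_le_of_card_ge (hRS ▸ hg) (card_conjBy g R).ge
        have hhR : Rs = R := Subgroup.eq_of_le_of_card_ge (hRS ▸ hRsS) (card_conjBy h R).ge
        exact hlocal x (hhR.symm ▸ hx) g (by rw [hhR]; exact conjBy_eq_iff.1 hgR)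
      · -- move to the well placed conjugate from both sides
        have hR'S : R' ≠ S0 := fun e => hRS (Subgroup.eq_of_le_of_card_ge hR
          (by rw [← e, card_conjBy]))
        have hR'card : Nat.card R' = Nat.card R := card_conjBy g R
        set m := h * g⁻¹
        have hmR : conjBy m R' = Rs := by rw [conjBy_conjBy]; simp [m, Rs]
        set X := S0 ⊓ normalizer (R' : Set G) with hX
        have hXS : X ≤ S0 := inf_le_left
        have hX1 : conjBy m X ≤ normalizer (Rs : Set G) := by
          rw [← hmR, ← conjBy_normalizer]; exact conjBy_mono inf_le_right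
        obtain ⟨c, hc, hcX⟩ := exists_conj_le_of_not_dvd_relIndex
          (S.2.to_le (inf_le_left : S0 ⊓ normalizer (Rs : Set G) ≤ S0)) inf_le_right
          (D.full Rs hpl) (isPGroup_conjBy m (S.2.to_le hXS)) hX1
        rw [conjBy_conjBy] at hcX
        have hy : g * x * g⁻¹ ∈ R' := conj_mem_conjBy hx
        set Y := S0 ⊓ normalizer (R : Set G) with hY
        have hYS : Y ≤ S0 := inf_le_left
        have l1 : Nat.card R < Nat.card Y := card_lt_card (lt_inf_normalizer_sylow S hR hRS)
        have l2 : Nat.card R' < Nat.card X := card_lt_card (lt_inf_normalizer_sylow S hg hR'S)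
        have := hmeasure hYS
        have := hmeasure hXS
        have a1 : x⁻¹ * (h * x * h⁻¹) ∈ F :=
          (ih _ (by omega)).1 Y hYS rfl h hh x (mem_inf.2 ⟨hR hx, le_normalizer hx⟩)
        have a2 : (g * x * g⁻¹)⁻¹ * ((c * m) * (g * x * g⁻¹) * (c * m)⁻¹) ∈ F :=
          (ih _ (by omega)).1 X hXS rfl (c * m) (hcX.trans inf_le_left) _
            (mem_inf.2 ⟨hg hy, le_normalizer hy⟩)
        have a3 : (h * x * h⁻¹)⁻¹ * (c * (h * x * h⁻¹) * c⁻¹) ∈ F :=
          hlocal _ (conj_mem_conjBy hx) c hc
        have a4 := F.mul_mem (F.mul_mem a1 a3) (F.inv_mem a2)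
        have e : x⁻¹ * (h * x * h⁻¹) * ((h * x * h⁻¹)⁻¹ * (c * (h * x * h⁻¹) * c⁻¹)) *
            ((g * x * g⁻¹)⁻¹ * ((c * m) * (g * x * g⁻¹) * (c * m)⁻¹))⁻¹ =
            x⁻¹ * (g * x * g⁻¹) := by simp only [m]; group
        rwa [e] at a4
  refine ⟨S0, le_top, S.2, by rw [relIndex_top_right]; exact S.not_dvd_index,
    le_antisymm ?_ (famSup_le 𝓦 S0 ⊤)⟩
  rw [← _root_.commutator_def, inf_comm,
    CfsgLib.Fusion.commutator_inf_eq_focal (CfsgLib.Fusion.coprime_card_focalQuotient S),
    Subgroup.focalSubgroup_def, Subgroup.closure_le]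
  rintro _ ⟨hxu, x, hx, u, rfl⟩
  have hc : u * x⁻¹ * u⁻¹ ∈ S0 := by
    have h4 := S0.mul_mem (S0.inv_mem hx) hxu
    rwa [commutatorElement_def, show x⁻¹ * (x * u * x⁻¹ * u⁻¹) = u * x⁻¹ * u⁻¹ by group] at h4
  have h5 := (main (Nat.card S0 - Nat.card (zpowers x⁻¹))).1 (zpowers x⁻¹)
    (zpowers_le.2 (inv_mem hx)) rfl u (by
      rw [conjBy_le_iff]
      rintro y hy
      obtain ⟨i, rfl⟩ := mem_zpowers_iff.1 hy
      rw [← conj_zpow]
      exact zpow_mem hc i) x⁻¹ (mem_zpowers _)
  rw [inv_inv] at h5
  show ⁅x, u⁆ ∈ F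
  rwa [commutatorElement_def, mul_assoc, mul_assoc, ← mul_assoc u]

end CfsgLib.CFun
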