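import Cfsg.Agent.Lib.CFun.KSeq
import Cfsg.Agent.Lib.CFun.Functor

/-!
# The `K`-infinity subgroups as isomorphism-invariant functors
-/

set_option autoImplicit false

open Subgroup

namespace CfsgLib.CFun

universe u

theorem kInfLower_isCharPFunctor {p : ℕ} [Fact p.Prime] :
    Cfsg.IsCharPFunctor.{u} p Cfsg.kInfLower := by
  refine ⟨fun Q _ _ hQ _ h => ?_, fun Q R _ _ _ _ φ => kInfLower_equiv φ⟩
  haveI := hQ.center_nontrivial
  exact (Subgroup.nontrivial_iff_ne_bot _).1 this (le_bot_iff.1 (center_le_kInf.1.trans h.le))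

theorem kInfUpper_isCharPFunctor {p : ℕ} [Fact p.Prime] :
    Cfsg.IsCharPFunctor.{u} p Cfsg.kInfUpper := by
  refine ⟨fun Q _ _ hQ _ h => ?_, fun Q R _ _ _ _ φ => kInfUpper_equiv φ⟩
  haveI := hQ.center_nontrivial
  exact (Subgroup.nontrivial_iff_ne_bot _).1 this (le_bot_iff.1 (center_le_kInf.2.trans h.le))

/-- The centre of a subgroup lies in its `K`-infinity subgroups. -/
theorem cen_le_induced_kInf {G : Type u} [Group G] [Finite G] (P : Subgroup G) :
    P ⊓ centralizer (P : Set G) ≤ Cfsg.inducedFunctor Cfsg.kInfLower P ∧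
      P ⊓ centralizer (P : Set G) ≤ Cfsg.inducedFunctor Cfsg.kInfUpper P := by
  have h : P ⊓ centralizer (P : Set G) ≤ (center P).map P.subtype := fun x hx =>
    ⟨⟨x, hx.1⟩, mem_center_iff.2 fun y => Subtype.ext (mem_centralizer_iff.1 hx.2 y y.2), rfl⟩
  exact ⟨h.trans (map_mono center_le_kInf.1), h.trans (map_mono center_le_kInf.2)⟩

end CfsgLib.CFun
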