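import Cfsg.Agent.Lib.CFun.Tools
import Cfsg.Agent.Lib.PGroup.OmegaCentral
import Cfsg.Agent.Lib.Coprime.Core
import Mathlib.GroupTheory.Sylow

/-!
# Critical subgroups of finite `p`-groups
-/

set_option autoImplicit false
set_option linter.style.haveILetI false

open Subgroup
open scoped commutatorElement

namespace CfsgLib.CFun

universe u

variable {P : Type u} [Group P]

/-- The defining properties of a critical subgroup, before self-centralization. -/
def CriticalLike (p : ℕ) (C : Subgroup P) : Prop :=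
  C.Characteristic ∧ (∀ a ∈ C, a ^ p ∈ cen C) ∧ ⁅C, C⁆ ≤ centralizer (C : Set P) ∧
    ⁅(⊤ : Subgroup P), C⁆ ≤ cen C

theorem mem_of_map_conj {C : Subgroup P} [hC : C.Characteristic] (φ : P ≃* P) {x : P} (hx : x ∈ C) :
    φ x ∈ C := by
  have := characteristic_iff_map_eq.1 hC φ
  rw [← this]
  exact ⟨x, hx, rfl⟩

theorem exists_critical [Finite P] {p : ℕ} [Fact p.Prime] (hP : IsPGroup p P) :
    ∃ C : Subgroup P, CriticalLike p C ∧ centralizer (C : Set P) ≤ C := by
  obtain ⟨C, hC, hmax⟩ := (Set.toFinite {C : Subgroup P | CriticalLike p C}).exists_maximal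
    ⟨⊥, inferInstance, fun a ha => by rw [mem_bot.1 ha, one_pow]; exact one_mem _,
      by rw [commutator_bot_left]; exact bot_le, by rw [commutator_bot_right]; exact bot_le⟩
  refine ⟨C, hC, ?_⟩
  obtain ⟨hchar, hpow, hcc, hPC⟩ := hC
  by_contra hne
  set Z := cen C with hZdef
  have hZmem : ∀ (φ : P ≃* P) (z : P), z ∈ Z → φ z ∈ Z := by
    intro φ z hz
    refine mem_inf.2 ⟨mem_of_map_conj φ hz.1, mem_centralizer_iff.2 fun c hc => ?_⟩
    have hc' := mem_of_map_conj φ.symm hc
    have := congrArg φ (mem_centralizer_iff.1 hz.2 _ hc')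
    simpa using this
  have hcenZ : ∀ z ∈ Z, ∀ y ∈ centralizer (C : Set P), Commute z y := fun z hz y hy =>
    mem_centralizer_iff.1 hy z hz.1
  -- the elements centralizing `C`, central of exponent `p` modulo `Z`
  let L : Subgroup P :=
    { carrier := {l | l ∈ centralizer (C : Set P) ∧ l ^ p ∈ Z ∧ ∀ x : P, ⁅x, l⁆ ∈ Z}
      one_mem' := ⟨one_mem _, by rw [one_pow]; exact one_mem Z,
        fun x => by rw [commutatorElement_one_right]; exact one_mem Z⟩
      mul_mem' := fun {a b} ha hb => ⟨mul_mem ha.1 hb.1, by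
          have hc := ha.2.2 b
          have hba : b * a = ⁅b, a⁆ * (a * b) := by rw [commutatorElement_def]; group
          rw [CfsgLib.PGroup.mul_pow_of_commute_commutator hba (hcenZ _ hc a ha.1)
            (hcenZ _ hc b hb.1)]
          exact mul_mem (mul_mem ha.2.1 hb.2.1) (pow_mem hc _), fun x => by
          have e : ⁅x, a * b⁆ = ⁅x, a⁆ * (a * ⁅x, b⁆ * a⁻¹) := by
            simp only [commutatorElement_def]; group
          rw [e, ← (hcenZ _ (hb.2.2 x) a ha.1).eq, mul_inv_cancel_right]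
          exact mul_mem (ha.2.2 x) (hb.2.2 x)⟩
      inv_mem' := fun {a} ha => ⟨inv_mem ha.1, by rw [inv_pow]; exact inv_mem ha.2.1, fun x => by
          have e : ⁅x, a⁻¹⁆ = a⁻¹ * ⁅x, a⁆⁻¹ * a := by simp only [commutatorElement_def]; group
          rw [e, ← (hcenZ _ (inv_mem (ha.2.2 x)) _ (inv_mem ha.1)).eq, inv_mul_cancel_right]
          exact inv_mem (ha.2.2 x)⟩ }
  haveI hLc : L.Characteristic := by
    refine characteristic_iff_map_le.2 fun φ => ?_
    rintro _ ⟨l, ⟨hl1, hl2, hl3⟩, rfl⟩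
    refine ⟨mem_centralizer_iff.2 fun c hc => ?_, ?_, fun x => ?_⟩
    · have := congrArg φ (mem_centralizer_iff.1 hl1 _ (mem_of_map_conj φ.symm hc))
      simpa using this
    · simpa using hZmem φ _ hl2
    · have := hZmem φ _ (hl3 (φ.symm x))
      simpa [map_commutatorElement] using this
  -- `L` is not contained in `C`
  haveI hZn : Z.Normal := ⟨fun z hz g => hZmem (MulAut.conj g) z hz⟩
  obtain ⟨x, hxC, hxZ, -, hx⟩ := exists_commutator_le hP (A := Z) (C := centralizer (C : Set P))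
    (H := ⊤) (by rw [Subgroup.normalizer_eq_top Z])
    (le_normalizer_centralizer (by rw [Subgroup.normalizer_eq_top C]))
    (by rw [Subgroup.normalizer_eq_top Z]; exact le_top)
    (fun h => hne (h.trans inf_le_left))
  obtain ⟨k, hk⟩ := hP x
  have hex : ∃ i, x ^ p ^ i ∈ Z := ⟨k, by rw [hk]; exact one_mem Z⟩
  obtain ⟨i, hi0, hi1⟩ : ∃ i, x ^ p ^ i ∉ Z ∧ x ^ p ^ (i + 1) ∈ Z := by
    by_contra hno
    push Not at hno
    obtain ⟨j, hj⟩ := hex
    exact (Nat.rec (motive := fun i => x ^ p ^ i ∉ Z) (by simpa using hxZ)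
      (fun i ih => hno i ih) j) hj
  set y := x ^ p ^ i with hy
  have hyL : y ∈ L := by
    refine ⟨pow_mem hxC _, by rw [hy, ← pow_mul, ← pow_succ]; exact hi1, fun w => ?_⟩
    have h1 : QuotientGroup.mk' Z x * QuotientGroup.mk' Z w =
        QuotientGroup.mk' Z w * QuotientGroup.mk' Z x := by
      refine commutatorElement_eq_one_iff_mul_comm.1 ?_
      rw [← map_commutatorElement, QuotientGroup.mk'_apply, QuotientGroup.eq_one_iff]
      exact (hx w (mem_top w)).1
    rw [← QuotientGroup.eq_one_iff, ← QuotientGroup.mk'_apply, map_commutatorElement, hy, map_pow]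
    exact (show Commute _ _ from h1).symm.pow_right _ |>.commutator_eq
  have hyC : y ∉ C := fun h => hi0 (mem_inf.2 ⟨h, hyL.1⟩)
  -- the bigger subgroup
  haveI := hchar
  have hCL : C ≤ normalizer (L : Set P) := by rw [Subgroup.normalizer_eq_top L]; exact le_top
  have hcl : ∀ c ∈ C, ∀ l ∈ L, Commute c l := fun c hc l hl => mem_centralizer_iff.1 hl.1 c hc
  have hZD : Z ≤ cen (C ⊔ L) := fun z hz => by
    refine mem_inf.2 ⟨mem_sup_left hz.1, ?_⟩
    rw [mem_centralizer_iff]
    intro w hw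
    have : C ⊔ L ≤ centralizer ({z} : Set P) :=
      sup_le (fun c hc => mem_centralizer_singleton_iff.2 (commute_of_mem_cen hz hc).eq.symm)
        (fun l hl => mem_centralizer_singleton_iff.2 (hcenZ z hz l hl.1).eq.symm)
    exact mem_centralizer_singleton_iff.1 (this hw)
  have htop : ∀ w ∈ C ⊔ L, ∀ x : P, ⁅x, w⁆ ∈ Z := by
    intro w hw x
    rw [← SetLike.mem_coe, coe_mul_of_left_le_normalizer_right C L hCL, Set.mem_mul] at hw
    obtain ⟨c, hc, l, hl, rfl⟩ := hw
    have e : ⁅x, c * l⁆ = ⁅x, c⁆ * (c * ⁅x, l⁆ * c⁻¹) := by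
      simp only [commutatorElement_def]; group
    rw [e]
    exact mul_mem (hPC (commutator_mem_commutator (mem_top x) hc)) (hZn.conj_mem _ (hl.2.2 x) c)
  have hD : CriticalLike p (C ⊔ L) := by
    refine ⟨characteristic_iff_map_eq.2 fun φ => ?_, fun w hw => ?_, ?_, ?_⟩
    · rw [Subgroup.map_sup, characteristic_iff_map_eq.1 hchar, characteristic_iff_map_eq.1 hLc]
    · rw [← SetLike.mem_coe, coe_mul_of_left_le_normalizer_right C L hCL, Set.mem_mul] at hw
      obtain ⟨c, hc, l, hl, rfl⟩ := hw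
      rw [(hcl c hc l hl).mul_pow]
      exact hZD (mul_mem (hpow c hc) hl.2.1)
    · exact commutator_le.2 fun a _ b hb => (hZD (htop b hb a)).2
    · exact commutator_le.2 fun a _ b hb => hZD (htop b hb a)
  exact hyC (hmax hD le_sup_left (mem_sup_right hyL))

/-- A coprime automorphism fixing a critical subgroup is trivial. -/
theorem eq_one_of_fixes_critical [Finite P] {p : ℕ} [Fact p.Prime] (hP : IsPGroup p P)
    {C : Subgroup P} (hPC : ⁅(⊤ : Subgroup P), C⁆ ≤ C) (hcen : centralizer (C : Set P) ≤ C)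
    (φ : MulAut P) (hφ : (orderOf φ).Coprime p) (hfix : ∀ c ∈ C, φ c = c) : φ = 1 := by
  refine MulEquiv.ext fun x => ?_
  have hv : x⁻¹ * φ x ∈ C := by
    refine hcen (mem_centralizer_iff.2 fun c hc => ?_)
    have h1 := hfix _ (hPC (commutator_mem_commutator (mem_top x) hc))
    rw [map_commutatorElement, hfix c hc, commutatorElement_def, commutatorElement_def,
      mul_left_inj] at h1
    calc c * (x⁻¹ * φ x) = x⁻¹ * (x * c * x⁻¹) * φ x := by group
      _ = x⁻¹ * (φ x * c * (φ x)⁻¹) * φ x := by rw [h1]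
      _ = x⁻¹ * φ x * c := by group
  set v := x⁻¹ * φ x with hvdef
  have hpow : ∀ n : ℕ, (φ ^ n) x = x * v ^ n := by
    intro n
    induction n with
    | zero => simp
    | succ n ih =>
      rw [pow_succ', MulAut.mul_apply, ih, map_mul, map_pow, hfix v hv, pow_succ' v, ← mul_assoc]
      congr 1
      rw [hvdef, mul_inv_cancel_left]
  have h0 := hpow (orderOf φ)
  rw [pow_orderOf_eq_one, MulAut.one_apply, left_eq_mul] at h0
  obtain ⟨k, hk⟩ := hP v
  have hv1 : v = 1 := orderOf_eq_one_iff.1 (Nat.eq_one_of_dvd_coprimes (hφ.pow_right k)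
    (orderOf_dvd_of_pow_eq_one h0) (orderOf_dvd_of_pow_eq_one hk))
  rw [MulAut.one_apply]
  exact (inv_mul_eq_one.1 hv1).symm

/-- A critical subgroup of a normal `p`-subgroup, inside the group. -/
theorem exists_critical_in {G : Type u} [Group G] [Finite G] {p : ℕ} [Fact p.Prime]
    {Q : Subgroup G} [Q.Normal] (hQ : IsPGroup p Q) :
    ∃ A : Subgroup G, A ≤ Q ∧ A.Normal ∧ (A.subgroupOf Q).Characteristic ∧
      (∀ a ∈ A, a ^ p ∈ cen A) ∧ ⁅A, A⁆ ≤ centralizer (A : Set G) ∧ ⁅Q, A⁆ ≤ cen A ∧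
      Q ⊓ centralizer (A : Set G) = cen A ∧
      ∀ φ : MulAut Q, (orderOf φ).Coprime p → (∀ a : Q, (a : G) ∈ A → φ a = a) → φ = 1 := by
  obtain ⟨C, ⟨hchar, hpow, hcc, hPC⟩, hcen⟩ := exists_critical hQ
  haveI := hchar
  have hi := Q.subtype_injective
  have htop : (⊤ : Subgroup Q).map Q.subtype = Q := by
    rw [← MonoidHom.range_eq_map, range_subtype]
  have hmc : ∀ (x : Q), (x : G) ∈ centralizer ((C.map Q.subtype : Subgroup G) : Set G) →
      x ∈ centralizer (C : Set Q) := fun x hx => mem_centralizer_iff.2 fun c hc =>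
    Subtype.ext (mem_centralizer_iff.1 hx _ (mem_map_of_mem _ hc))
  have hmc' : ∀ (x : Q), x ∈ centralizer (C : Set Q) →
      (x : G) ∈ centralizer ((C.map Q.subtype : Subgroup G) : Set G) := by
    intro x hx
    refine mem_centralizer_iff.2 ?_
    rintro _ ⟨c, hc, rfl⟩
    exact congrArg Subtype.val (mem_centralizer_iff.1 hx c hc)
  have hsub : (C.map Q.subtype).subgroupOf Q = C := comap_map_eq_self_of_injective hi C
  refine ⟨C.map Q.subtype, map_subtype_le C,
    CfsgLib.Coprime.map_subtype_normal_of_characteristic Q C, hsub.symm ▸ hchar, ?_, ?_, ?_, ?_,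
    fun φ hφ hfix => ?_⟩
  · rintro _ ⟨a, ha, rfl⟩
    rw [← map_pow]
    exact mem_inf.2 ⟨mem_map_of_mem _ (hpow a ha).1, hmc' _ (hpow a ha).2⟩
  · rw [← map_commutator]
    rintro _ ⟨a, ha, rfl⟩
    exact hmc' a (hcc ha)
  · conv_lhs => arg 1; rw [← htop]
    rw [← map_commutator]
    rintro _ ⟨a, ha, rfl⟩
    exact mem_inf.2 ⟨mem_map_of_mem _ (hPC ha).1, hmc' _ (hPC ha).2⟩
  · refine le_antisymm (fun x hx => mem_inf.2 ⟨?_, hx.2⟩) (inf_le_inf_right _ (map_subtype_le C))
    exact ⟨⟨x, hx.1⟩, hcen (hmc ⟨x, hx.1⟩ hx.2), rfl⟩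
  · exact eq_one_of_fixes_critical hQ (hPC.trans inf_le_left) hcen φ hφ
      fun c hc => hfix c (mem_map_of_mem _ hc)

end CfsgLib.CFun
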