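import Cfsg.Agent.Lib.CFun.Tools
import Cfsg.Agent.Lib.Coprime.QdRankTwo.Tools
import Cfsg.Agent.Lib.Coprime.Core
import Cfsg.Prelude.Def_LocalEven

/-!
# Elements trivial on the chief factors between two normal subgroups
-/

set_option autoImplicit false
set_option linter.style.haveILetI false

open Subgroup
open scoped commutatorElement
open CfsgLib.Coprime.QdRankTwo (trivOn mem_trivOn exists_fixed_section)

namespace CfsgLib.CFun

universe u

variable {G : Type u} [Group G]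

/-- The elements trivial on every chief factor between `L` and `N`. -/
def trivSeries (L N : Subgroup G) : Subgroup G where
  carrier := {x | ∀ U V : Subgroup G, Cfsg.IsChiefFactor U V → L ≤ V → U ≤ N → ∀ u ∈ U, ⁅x, u⁆ ∈ V}
  one_mem' := fun U V _ _ _ u _ => by rw [commutatorElement_one_left]; exact one_mem V
  mul_mem' := fun {a b} ha hb U V h h1 h2 u hu => by
    have e : ⁅a * b, u⁆ = a * ⁅b, u⁆ * a⁻¹ * ⁅a, u⁆ := by simp only [commutatorElement_def]; group
    rw [e]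
    exact mul_mem (h.2.2.1.conj_mem _ (hb U V h h1 h2 u hu) a) (ha U V h h1 h2 u hu)
  inv_mem' := fun {a} ha U V h h1 h2 u hu => by
    have e : ⁅a⁻¹, u⁆ = a⁻¹ * ⁅a, u⁆⁻¹ * a⁻¹⁻¹ := by simp only [commutatorElement_def]; group
    rw [e]
    exact h.2.2.1.conj_mem _ (inv_mem (ha U V h h1 h2 u hu)) a⁻¹

theorem mem_trivSeries {L N : Subgroup G} {x : G} :
    x ∈ trivSeries L N ↔ ∀ U V : Subgroup G, Cfsg.IsChiefFactor U V → L ≤ V → U ≤ N →
      ∀ u ∈ U, ⁅x, u⁆ ∈ V := Iff.rfl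

theorem trivSeries_normal (L N : Subgroup G) : (trivSeries L N).Normal := by
  refine ⟨fun x hx g U V h h1 h2 u hu => ?_⟩
  have hu' : g⁻¹ * u * g ∈ U := by simpa using h.2.1.conj_mem u hu g⁻¹
  have := h.2.2.1.conj_mem _ (hx U V h h1 h2 _ hu') g
  have e : g * ⁅x, g⁻¹ * u * g⁆ * g⁻¹ = ⁅g * x * g⁻¹, u⁆ := by
    simp only [commutatorElement_def]; group
  rwa [e] at this

theorem commutator_zpowers_le_of_mem {U V : Subgroup G} [V.Normal] {x : G}
    (h : ∀ u ∈ U, ⁅x, u⁆ ∈ V) : ⁅U, zpowers x⁆ ≤ V := by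
  have hx : zpowers x ≤ trivOn V U := zpowers_le.2 (mem_trivOn.2 h)
  rw [commutator_comm]
  exact commutator_le.2 fun y hy u hu => mem_trivOn.1 (hx hy) u hu

/-- A normal `p`-subgroup is trivial on every chief factor inside a `p`-subgroup. -/
theorem le_trivSeries [Finite G] {p : ℕ} [Fact p.Prime] {Q : Subgroup G} [Q.Normal]
    (hQ : IsPGroup p Q) {L N : Subgroup G} (hN : IsPGroup p N) : Q ≤ trivSeries L N := by
  intro x hx U V h _ hUN u hu
  haveI := h.2.1
  haveI := h.2.2.1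
  obtain ⟨b, hbU, hbV, hb⟩ := exists_fixed_section V U h.1 (hN.to_le hUN) hQ
  let F : Subgroup G := U ⊓ trivOn V Q
  haveI : F.Normal := normal_inf_normal U _
  have hVF : V ≤ F := le_inf h.1.le fun v hv => mem_trivOn.2 fun r _ => by
    rw [commutatorElement_def, mul_assoc v r, mul_assoc v]
    exact mul_mem hv (h.2.2.1.conj_mem _ (inv_mem hv) r)
  rcases h.2.2.2 F inferInstance hVF inf_le_left with hF | hF
  · exfalso
    refine hbV (hF ▸ mem_inf.2 ⟨hbU, mem_trivOn.2 fun r hr => ?_⟩)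
    rw [← commutatorElement_inv]; exact inv_mem (hb r hr)
  · rw [← commutatorElement_inv]
    exact inv_mem (mem_trivOn.1 (mem_inf.1 (hF.symm ▸ hu : u ∈ F)).2 x hx)

theorem exists_chief_above [Finite G] {L N : Subgroup G} [L.Normal] [N.Normal] (h : L < N) :
    ∃ V : Subgroup G, L ≤ V ∧ V < N ∧ Cfsg.IsChiefFactor N V := by
  obtain ⟨V, ⟨h1, h2, h3⟩, hmax⟩ := (Set.toFinite
    {V : Subgroup G | V.Normal ∧ L ≤ V ∧ V < N}).exists_maximal ⟨L, inferInstance, le_rfl, h⟩
  refine ⟨V, h2, h3, h3, inferInstance, h1, fun M hM hVM hMN => ?_⟩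
  rcases eq_or_lt_of_le hMN with h' | h'
  · exact Or.inr h'
  · exact Or.inl (le_antisymm (hmax ⟨hM, h2.trans hVM, h'⟩ hVM) hVM)

/-- An element of order prime to `p` trivial on a series of a `p`-group centralizes it. -/
theorem commute_of_mem_trivSeries [Finite G] {p : ℕ} [Fact p.Prime] {L : Subgroup G} [L.Normal]
    {x : G} (hx : ¬ p ∣ orderOf x) (hxL : ∀ l ∈ L, Commute x l) :
    ∀ N : Subgroup G, N.Normal → L ≤ N → IsPGroup p N → x ∈ trivSeries L N →
      ∀ n ∈ N, Commute x n := by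
  intro N
  induction N using WellFoundedLT.induction with
  | _ N ih =>
    intro hNn hLN hNp hxs n hn
    rcases eq_or_lt_of_le hLN with rfl | hlt
    · exact hxL n hn
    haveI := hNn
    obtain ⟨V, hLV, hVN, hch⟩ := exists_chief_above hlt
    have hv : ⁅x, n⁆ ∈ V := hxs N V hch hLV le_rfl n hn
    have hcv : Commute x ⁅x, n⁆ := ih V hVN hch.2.2.1 hLV (hNp.to_le hVN.le)
      (fun U' V' h' h1 h2 => hxs U' V' h' h1 (h2.trans hVN.le)) _ hv
    have hpow : ∀ k : ℕ, x ^ k * n * (x ^ k)⁻¹ = ⁅x, n⁆ ^ k * n := by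
      intro k
      induction k with
      | zero => simp
      | succ k ihk =>
        calc x ^ (k + 1) * n * (x ^ (k + 1))⁻¹ = x * (x ^ k * n * (x ^ k)⁻¹) * x⁻¹ := by
              rw [pow_succ']; group
          _ = x * ⁅x, n⁆ ^ k * n * x⁻¹ := by rw [ihk]; group
          _ = ⁅x, n⁆ ^ k * (x * n * x⁻¹) := by rw [(hcv.pow_right k).eq]; group
          _ = ⁅x, n⁆ ^ k * (⁅x, n⁆ * n) := by rw [commutatorElement_def]; group
          _ = ⁅x, n⁆ ^ (k + 1) * n := by rw [pow_succ]; group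
    have h0 := hpow (orderOf x)
    rw [pow_orderOf_eq_one, one_mul, inv_one, mul_one, right_eq_mul] at h0
    obtain ⟨m, hm⟩ := hNp ⟨_, hVN.le hv⟩
    have h1 : orderOf ⁅x, n⁆ ∣ p ^ m :=
      orderOf_dvd_of_pow_eq_one (by simpa using congrArg Subtype.val hm)
    have h2 : orderOf ⁅x, n⁆ ∣ orderOf x := orderOf_dvd_of_pow_eq_one h0
    exact commutatorElement_eq_one_iff_mul_comm.1 (orderOf_eq_one_iff.1
      (Nat.eq_one_of_dvd_coprimes
        (((Fact.out : p.Prime).coprime_iff_not_dvd.2 hx).pow_left m) h1 h2))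

theorem exists_ppow_order [Finite G] (p : ℕ) [Fact p.Prime] (x : G) :
    ∃ k : ℕ, ¬ p ∣ orderOf (x ^ p ^ k) := by
  obtain ⟨k, m, hm, hk⟩ := Nat.exists_eq_pow_mul_and_not_dvd (orderOf_pos x).ne' p
    (Fact.out : p.Prime).ne_one
  refine ⟨k, fun h => hm (h.trans ?_)⟩
  refine orderOf_dvd_of_pow_eq_one ?_
  rw [← pow_mul, ← hk, pow_orderOf_eq_one]

/-- A subgroup whose elements of order prime to `p` are trivial is a `p`-group. -/
theorem isPGroup_of_forall [Finite G] {p : ℕ} [Fact p.Prime] {X : Subgroup G}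
    (h : ∀ x ∈ X, ¬ p ∣ orderOf x → x = 1) : IsPGroup p X := by
  intro x
  obtain ⟨k, hk⟩ := exists_ppow_order p (x : G)
  exact ⟨k, Subtype.ext (by simpa using h _ (pow_mem x.2 _) hk)⟩

end CfsgLib.CFun
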