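import Cfsg.Agent.Lib.CFun.SectionOp
import Cfsg.Agent.Lib.CFun.Series
import Mathlib.RingTheory.Nilpotent.Basic

/-!
# Unipotence degree on a `p`-group from the degrees on a critical subgroup and its centre
-/

set_option autoImplicit false
set_option linter.style.haveILetI false

open Subgroup
open scoped commutatorElement
open CfsgLib.Coprime.QdRankTwo (trivOn mem_trivOn trivOn_normal)

namespace CfsgLib.CFun

universe u

variable {G : Type u} [Group G]

theorem chief_commute [Finite G] {p : ℕ} [Fact p.Prime] {P : Subgroup G} [P.Normal]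
    (hP : IsPGroup p P) {U V : Subgroup G} [V.Normal] (h : Cfsg.IsChiefFactor U V) (hU : U ≤ P) :
    ∀ a ∈ U.map (QuotientGroup.mk' V), ∀ b ∈ U.map (QuotientGroup.mk' V), Commute a b := by
  rintro _ ⟨a, ha, rfl⟩ _ ⟨b, hb, rfl⟩
  refine commutatorElement_eq_one_iff_mul_comm.1 ?_
  rw [← map_commutatorElement, QuotientGroup.mk'_apply, QuotientGroup.eq_one_iff]
  exact le_trivSeries hP (L := ⊥) (N := P) hP (hU ha) U V h bot_le hU b hb

theorem iterCommutator_antitone {N K : Subgroup G} (h : K ≤ normalizer (N : Set G)) :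
    Antitone (Cfsg.iterCommutator N K) :=
  antitone_nat_of_succ_le fun n =>
    le_normalizer_iff_commutator_le_left.1 (iterCommutator_le_of_le_normalizer h n).2

/-- The degree on a chief factor of `P` is bounded by the sum of the degrees on `Q` and on the
centre of `Q`, less one. -/
theorem chief_degree [Finite G] {p : ℕ} [Fact p.Prime] {P Q : Subgroup G} [P.Normal] [Q.Normal]
    (hP : IsPGroup p P) (hQP : Q ≤ P) (hPQ : ⁅P, Q⁆ ≤ cen Q)
    (hCQ : P ⊓ centralizer (Q : Set G) ≤ cen Q) (g : G) (i j : ℕ) (hi : 1 ≤ i) (hj : 1 ≤ j)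
    (hQi : ∀ U V : Subgroup G, Cfsg.IsChiefFactor U V → U ≤ Q →
      Cfsg.iterCommutator U (zpowers g) i ≤ V)
    (hZj : ∀ U V : Subgroup G, Cfsg.IsChiefFactor U V → U ≤ cen Q →
      Cfsg.iterCommutator U (zpowers g) j ≤ V) :
    ∀ U V : Subgroup G, Cfsg.IsChiefFactor U V → U ≤ P →
      Cfsg.iterCommutator U (zpowers g) (i + j - 1) ≤ V := by
  intro U V hch hUP
  haveI hUn := hch.2.1
  haveI hVn := hch.2.2.1
  haveI hZn : (cen Q).Normal := normal_inf_normal Q _
  obtain ⟨U0, ⟨hU0n, hU0U, hU0V⟩, hmin⟩ := (Set.toFinite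
    {W : Subgroup G | W.Normal ∧ W ≤ U ∧ W ⊔ V = U}).exists_minimal
    ⟨U, hUn, le_rfl, sup_eq_left.2 hch.1.le⟩
  haveI := hU0n
  set V0 := U0 ⊓ V
  haveI hV0n : V0.Normal := normal_inf_normal U0 V
  have hmax : ∀ N : Subgroup G, N.Normal → N ≤ U0 → N ≠ U0 → N ≤ V0 := by
    intro N hN hle hne
    haveI := hN
    refine le_inf hle ?_
    rcases hch.2.2.2 (N ⊔ V) inferInstance le_sup_right (sup_le (hle.trans hU0U) hch.1.le) with h | h
    · exact le_sup_left.trans h.le
    · exact absurd (le_antisymm hle (hmin ⟨hN, hle.trans hU0U, h⟩ hle)) hne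
  have hch0 : Cfsg.IsChiefFactor U0 V0 := by
    refine ⟨lt_of_le_of_ne inf_le_left fun h => hch.1.ne ?_, hU0n, hV0n, fun N hN h1 h2 => ?_⟩
    · rw [← hU0V, sup_eq_right.2 (inf_eq_left.1 h)]
    · rcases eq_or_ne N U0 with h | h
      · exact Or.inr h
      · exact Or.inl (le_antisymm (hmax N hN h2 h) h1)
  suffices hmain : Cfsg.iterCommutator U0 (zpowers g) (i + j - 1) ≤ V0 by
    have hmap : U.map (QuotientGroup.mk' V) = U0.map (QuotientGroup.mk' V) := by
      rw [← hU0V, Subgroup.map_sup, QuotientGroup.map_mk'_self, sup_bot_eq]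
    rw [iterCommutator_le_iff, hmap, ← iterCommutator_le_iff]
    exact hmain.trans inf_le_right
  have hU0P : U0 ≤ P := hU0U.trans hUP
  by_cases hU0Z : U0 ≤ cen Q
  · have hn : zpowers g ≤ normalizer (U0 : Set G) := by
      rw [Subgroup.normalizer_eq_top U0]; exact le_top
    exact (iterCommutator_antitone hn (by omega : j ≤ i + j - 1)).trans (hZj U0 V0 hch0 hU0Z)
  -- the two sections
  set Z1 := ⁅U0, Q⁆
  have hZ1 : Z1 ≤ cen Q := (commutator_mono hU0P le_rfl).trans hPQ
  have hZ1bot : (⊥ : Subgroup G) < Z1 := bot_lt_iff_ne_bot.2 fun h =>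
    hU0Z (le_trans (le_inf hU0P (commutator_eq_bot_iff_le_centralizer.1 h)) hCQ)
  haveI hZ1n : Z1.Normal := commutator_normal U0 Q
  obtain ⟨Z2, -, hZ21, hchZ⟩ := exists_chief_above hZ1bot
  haveI hZ2n := hchZ.2.2.1
  set Q2 := Q ⊓ trivOn Z2 U0
  haveI hQ2n : Q2.Normal := normal_inf_normal Q _
  have hQ2Q : Q2 < Q := lt_of_le_of_ne inf_le_left fun h => hZ21.not_ge (commutator_le.2
    fun u hu q hq => by
      have := mem_trivOn.1 (mem_inf.1 (h.symm ▸ hq : q ∈ Q2)).2 u hu
      rw [← commutatorElement_inv]; exact inv_mem this)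
  obtain ⟨Q1, ⟨hQ1n, hQ21, hQ1Q⟩, hQ1min⟩ := (Set.toFinite
    {W : Subgroup G | W.Normal ∧ Q2 < W ∧ W ≤ Q}).exists_minimal ⟨Q, inferInstance, hQ2Q, le_rfl⟩
  haveI := hQ1n
  have hchQ : Cfsg.IsChiefFactor Q1 Q2 := ⟨hQ21, hQ1n, hQ2n, fun N hN h1 h2 => by
    rcases eq_or_lt_of_le h1 with h | h
    · exact Or.inl h.symm
    · exact Or.inr (le_antisymm h2 (hQ1min ⟨hN, h, h2.trans hQ1Q⟩ h2))⟩
  set qu := QuotientGroup.mk' V0
  set qq := QuotientGroup.mk' Q2
  set qz := QuotientGroup.mk' Z2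
  haveI : (U0.map qu).Normal := Subgroup.Normal.map hU0n qu (QuotientGroup.mk'_surjective _)
  haveI : (Q1.map qq).Normal := Subgroup.Normal.map hQ1n qq (QuotientGroup.mk'_surjective _)
  haveI : (Z1.map qz).Normal := Subgroup.Normal.map hZ1n qz (QuotientGroup.mk'_surjective _)
  have hcu := chief_commute hP hch0 hU0P
  have hcq := chief_commute hP hchQ (hQ1Q.trans hQP)
  have hcz := chief_commute hP hchZ (hZ1.trans (inf_le_left.trans hQP))
  letI := addCommGroupOfCommute (U0.map qu) hcu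
  letI := addCommGroupOfCommute (Q1.map qq) hcq
  letI := addCommGroupOfCommute (Z1.map qz) hcz
  have hconjZ : ∀ {x z : G}, x ∈ P → z ∈ Z1 → qz (x * z * x⁻¹) = qz z := by
    intro x z hx hz
    have h := le_trivSeries hP (L := ⊥) (N := P) hP hx Z1 Z2 hchZ bot_le
      (hZ1.trans (inf_le_left.trans hQP)) z hz
    rw [← mul_inv_eq_one, ← map_inv, ← map_mul, QuotientGroup.mk'_apply, QuotientGroup.eq_one_iff]
    simpa [commutatorElement_def, mul_assoc] using h
  -- the pairing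
  let fu : U0 → (Q1 →* (Z1.map qz)) := fun u => MonoidHom.mk'
    (fun q => ⟨qz ⁅(u : G), (q : G)⁆,
      mem_map_of_mem qz (commutator_mem_commutator u.2 (hQ1Q q.2))⟩) fun a b => Subtype.ext (by
      show qz ⁅(u : G), (a : G) * (b : G)⁆ = qz ⁅(u : G), (a : G)⁆ * qz ⁅(u : G), (b : G)⁆
      have e : ⁅(u : G), (a : G) * (b : G)⁆ = ⁅(u : G), (a : G)⁆ *
          ((a : G) * ⁅(u : G), (b : G)⁆ * (a : G)⁻¹) := by
        simp only [commutatorElement_def]; group
      rw [e, map_mul, hconjZ (hQP (hQ1Q a.2)) (commutator_mem_commutator u.2 (hQ1Q b.2))])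
  let r : Q1 →* Q1.map qq := qq.subgroupMap Q1
  have hr : Function.Surjective r := qq.subgroupMap_surjective Q1
  have hker : ∀ u : U0, r.ker ≤ (fu u).ker := by
    intro u q hq
    have hq' : (q : G) ∈ Q2 := by
      have := congrArg Subtype.val (MonoidHom.mem_ker.1 hq)
      change qq (q : G) = 1 at this
      rwa [QuotientGroup.mk'_apply, QuotientGroup.eq_one_iff] at this
    refine MonoidHom.mem_ker.2 (Subtype.ext ?_)
    show qz ⁅(u : G), (q : G)⁆ = 1
    rw [QuotientGroup.mk'_apply, QuotientGroup.eq_one_iff, ← commutatorElement_inv]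
    exact inv_mem (mem_trivOn.1 hq'.2 _ u.2)
  let β : U0 → (Additive (Q1.map qq) →+ Additive (Z1.map qz)) := fun u =>
    MonoidHom.toAdditive (r.liftOfSurjective hr ⟨fu u, hker u⟩)
  have hβ : ∀ (u : U0) (q : Q1), β u (Additive.ofMul (r q)) = Additive.ofMul (fu u q) := fun u q =>
    congrArg Additive.ofMul (r.liftOfRightInverse_comp_apply _ _ ⟨fu u, hker u⟩ q)
  have hβmul : ∀ a b : U0, β (a * b) = β a + β b := by
    intro a b
    refine AddMonoidHom.ext fun x => ?_
    obtain ⟨q, hq⟩ := hr x.toMul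
    have hx : x = Additive.ofMul (r q) := by rw [hq]; rfl
    rw [hx, AddMonoidHom.add_apply, hβ, hβ, hβ]
    refine congrArg Additive.ofMul (Subtype.ext ?_)
    show qz ⁅(a : G) * (b : G), (q : G)⁆ = qz ⁅(a : G), (q : G)⁆ * qz ⁅(b : G), (q : G)⁆
    have hb1 : ⁅(b : G), (q : G)⁆ ∈ Z1 := commutator_mem_commutator b.2 (hQ1Q q.2)
    have e : ⁅(a : G) * (b : G), (q : G)⁆ =
        (a : G) * ⁅(b : G), (q : G)⁆ * (a : G)⁻¹ * ⁅(a : G), (q : G)⁆ := by
      simp only [commutatorElement_def]; group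
    rw [e, map_mul, hconjZ (hU0P a.2) hb1]
    exact (hcz _ (mem_map_of_mem qz hb1) _
      (mem_map_of_mem qz (commutator_mem_commutator a.2 (hQ1Q q.2)))).eq
  let θ : U0 →* Multiplicative (Additive (Q1.map qq) →+ Additive (Z1.map qz)) :=
    MonoidHom.mk' (fun u => Multiplicative.ofAdd (β u)) fun a b =>
      congrArg Multiplicative.ofAdd (hβmul a b)
  have hθ1 : ∀ u : U0, β u = 0 → (u : G) ∈ V0 := by
    intro u hu
    have hu' : (u : G) ∈ U0 ⊓ trivOn Z2 Q1 := by
      refine mem_inf.2 ⟨u.2, mem_trivOn.2 fun q hq => ?_⟩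
      have := hβ u ⟨q, hq⟩
      rw [hu, AddMonoidHom.zero_apply] at this
      have h1 := congrArg (fun z : Additive (Z1.map qz) => ((z.toMul : Z1.map qz) : G ⧸ Z2)) this
      change (1 : G ⧸ Z2) = qz ⁅(u : G), q⁆ at h1
      rwa [eq_comm, QuotientGroup.mk'_apply, QuotientGroup.eq_one_iff] at h1
    refine hmax _ (normal_inf_normal U0 _) inf_le_left (fun h => hQ21.not_ge fun q hq => ?_) hu'
    refine mem_inf.2 ⟨hQ1Q hq, mem_trivOn.2 fun x hx => ?_⟩
    rw [← commutatorElement_inv]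
    exact inv_mem (mem_trivOn.1 (mem_inf.1 (h.symm ▸ hx : x ∈ U0 ⊓ trivOn Z2 Q1)).2 q hq)
  -- the operators
  set φz := secEnd (Z1.map qz) hcz (qz g)
  set φq := secEnd (Q1.map qq) hcq (qq g⁻¹)
  let L : AddMonoid.End (Additive (Q1.map qq) →+ Additive (Z1.map qz)) :=
    AddMonoidHom.mk' (fun h => φz.comp h) fun a b => AddMonoidHom.comp_add φz a b
  let R : AddMonoid.End (Additive (Q1.map qq) →+ Additive (Z1.map qz)) :=
    AddMonoidHom.mk' (fun h => h.comp φq) fun a b => AddMonoidHom.add_comp a b φq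
  have hnz : (φz - 1) ^ j = 0 := by
    rw [← iterCommutator_eq_bot_iff]
    have := (iterCommutator_le_iff Z2 Z1 (zpowers g) j).1 (hZj Z1 Z2 hchZ hZ1)
    rwa [MonoidHom.map_zpowers] at this
  have hnq : (φq - 1) ^ i = 0 := by
    rw [← iterCommutator_eq_bot_iff]
    have := (iterCommutator_le_iff Q2 Q1 (zpowers g) i).1 (hQi Q1 Q2 hchQ hQ1Q)
    rwa [MonoidHom.map_zpowers, ← zpowers_inv, ← map_inv] at this
  have hLn : (L - 1) ^ j = 0 := by
    have : ∀ (n : ℕ) h x, ((L - 1) ^ n) h x = ((φz - 1) ^ n) (h x) := by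
      intro n
      induction n with
      | zero => intro h x; rfl
      | succ n ih =>
        intro h x
        rw [pow_succ (L - 1), pow_succ (φz - 1)]
        show ((L - 1) ^ n) ((L - 1) h) x = ((φz - 1) ^ n) ((φz - 1) (h x))
        rw [ih]
        rfl
    refine DFunLike.ext _ _ fun h => DFunLike.ext _ _ fun x => ?_
    rw [this, hnz]
    rfl
  have hRn : (R - 1) ^ i = 0 := by
    have : ∀ (n : ℕ) h x, ((R - 1) ^ n) h x = h (((φq - 1) ^ n) x) := by
      intro n
      induction n with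
      | zero => intro h x; rfl
      | succ n ih =>
        intro h x
        rw [pow_succ (R - 1), pow_succ' (φq - 1)]
        show ((R - 1) ^ n) ((R - 1) h) x = h ((φq - 1) (((φq - 1) ^ n) x))
        rw [ih]
        show h (φq _) - h _ = h (φq _ - _)
        rw [map_sub]
        rfl
    refine DFunLike.ext _ _ fun h => DFunLike.ext _ _ fun x => ?_
    rw [this, hnq]
    exact map_zero h
  have hcomm : Commute L R := AddMonoidHom.ext fun _ => rfl
  have hnil : (L * R - 1) ^ (i + j - 1) = 0 := by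
    have e : L * R - 1 = (L - 1) * R + (R - 1) := by rw [sub_mul, one_mul]; abel
    rw [e]
    refine Commute.add_pow_eq_zero_of_add_le_succ_of_pow_eq_zero ?_ (m := j) (n := i) ?_ hRn
      (by omega)
    · exact ((hcomm.sub_left (Commute.one_left R)).sub_right
        ((Commute.one_right (L - 1)))).mul_left ((Commute.refl R).sub_right (Commute.one_right R))
    · rw [(hcomm.sub_left (Commute.one_left R)).mul_pow, hLn, zero_mul]
  have hequiv : ∀ (u : U0) (w : U0), (w : G) = g * (u : G) * g⁻¹ → β w = (L * R) (β u) := by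
    intro u w hw
    refine AddMonoidHom.ext fun x => ?_
    obtain ⟨q, hq⟩ := hr x.toMul
    have hx : x = Additive.ofMul (r q) := by rw [hq]; rfl
    have hq' : g⁻¹ * (q : G) * g ∈ Q1 := by simpa using hQ1n.conj_mem _ q.2 g⁻¹
    have hφ : φq (Additive.ofMul (r q)) = Additive.ofMul (r ⟨_, hq'⟩) := by
      refine Additive.toMul.injective (Subtype.ext ?_)
      refine (secEnd_apply (Q1.map qq) hcq (qq g⁻¹) _).trans ?_
      show qq g⁻¹ * qq (q : G) * (qq g⁻¹)⁻¹ = qq (g⁻¹ * (q : G) * g)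
      rw [← map_inv, inv_inv, map_mul, map_mul]
    rw [hx, hβ]
    show _ = φz (β u (φq (Additive.ofMul (r q))))
    rw [hφ, hβ]
    refine Additive.toMul.injective (Subtype.ext ?_)
    refine Eq.trans ?_ (secEnd_apply (Z1.map qz) hcz (qz g) _).symm
    show qz ⁅(w : G), (q : G)⁆ = qz g * qz ⁅(u : G), g⁻¹ * (q : G) * g⁆ * (qz g)⁻¹
    rw [← map_inv, ← map_mul, ← map_mul, hw]
    congr 1
    simp only [commutatorElement_def]; group
  -- conclusion
  rw [iterCommutator_le_iff, MonoidHom.map_zpowers, iterCommutator_eq_bot_iff _ hcu]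
  refine AddMonoidHom.ext fun x => ?_
  obtain ⟨u0, hu0, hx⟩ := mem_map.1 x.toMul.2
  have key : ∀ n : ℕ, ∃ u : U0, qu (u : G) =
      val' (U0.map qu) (((secEnd (U0.map qu) hcu (qu g) - 1) ^ n) x) ∧
      β u = ((L * R - 1) ^ n) (β ⟨u0, hu0⟩) := by
    intro n
    induction n with
    | zero => exact ⟨⟨u0, hu0⟩, hx, rfl⟩
    | succ n ih =>
      obtain ⟨u, hu1, hu2⟩ := ih
      have hmem : g * (u : G) * g⁻¹ ∈ U0 := hU0n.conj_mem _ u.2 g
      refine ⟨⟨_, hmem⟩ * u⁻¹, ?_, ?_⟩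
      · rw [pow_succ' (secEnd (U0.map qu) hcu (qu g) - 1)]
        show _ = val' (U0.map qu) ((secEnd (U0.map qu) hcu (qu g) - 1)
          (((secEnd (U0.map qu) hcu (qu g) - 1) ^ n) x))
        rw [sub_one_apply, ← hu1, ← map_commutatorElement, commutatorElement_def]
        rfl
      · rw [hβmul, hequiv u ⟨_, hmem⟩ rfl, pow_succ' (L * R - 1)]
        show _ = (L * R - 1) (((L * R - 1) ^ n) (β ⟨u0, hu0⟩))
        rw [← hu2]
        show _ = (L * R) (β u) - β u
        rw [sub_eq_add_neg]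
        congr 1
        have h0 : θ u⁻¹ = (θ u)⁻¹ := map_inv θ u
        exact congrArg Multiplicative.toAdd h0
  obtain ⟨u, hu1, hu2⟩ := key (i + j - 1)
  have hzero : β u = 0 := by rw [hu2, hnil]; rfl
  refine Additive.toMul.injective (Subtype.ext ?_)
  show val' (U0.map qu) (((secEnd (U0.map qu) hcu (qu g) - 1) ^ (i + j - 1)) x) = 1
  rw [← hu1]
  exact (QuotientGroup.eq_one_iff _).2 (hθ1 u hzero)

end CfsgLib.CFun
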