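import Cfsg.Agent.Lib.CFun.Tools

/-!
# Complete reducibility on an irreducible abelian normal subgroup, for subnormal subgroups
-/

set_option autoImplicit false

open Subgroup
open scoped commutatorElement

namespace CfsgLib.CFun

variable {G : Type*} [Group G]

/-- Every `Y`-invariant subgroup of `U` has a `Y`-invariant complement in `U`. -/
def Semi (Y U : Subgroup G) : Prop :=
  ∀ W : Subgroup G, W ≤ U → Y ≤ normalizer (W : Set G) →
    ∃ K : Subgroup G, K ≤ U ∧ Y ≤ normalizer (K : Set G) ∧ W ⊔ K = U ∧ W ⊓ K = ⊥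

theorem le_normalizer_sup {H A B : Subgroup G} (hA : H ≤ normalizer (A : Set G))
    (hB : H ≤ normalizer (B : Set G)) : H ≤ normalizer ((A ⊔ B : Subgroup G) : Set G) := by
  intro h hh
  rw [mem_normalizer_iff_map_conj_eq, Subgroup.map_sup, mem_normalizer_iff_map_conj_eq.1 (hA hh),
    mem_normalizer_iff_map_conj_eq.1 (hB hh)]

theorem le_normalizer_inf {H A B : Subgroup G} (hA : H ≤ normalizer (A : Set G))
    (hB : H ≤ normalizer (B : Set G)) : H ≤ normalizer ((A ⊓ B : Subgroup G) : Set G) := by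
  intro h hh
  refine mem_normalizer_iff.2 fun n => ?_
  simp only [mem_inf]
  exact and_congr (mem_normalizer_iff.1 (hA hh) n) (mem_normalizer_iff.1 (hB hh) n)

theorem semi_top {U : Subgroup G} [U.Normal]
    (hirr : ∀ N : Subgroup G, N.Normal → N ≤ U → N = ⊥ ∨ N = U) : Semi ⊤ U := by
  intro W hW hn
  haveI : W.Normal := normalizer_eq_top_iff.1 (top_le_iff.1 hn)
  rcases hirr W inferInstance hW with rfl | rfl
  · exact ⟨U, le_rfl, by rw [Subgroup.normalizer_eq_top U], bot_sup_eq U, bot_inf_eq U⟩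
  · exact ⟨⊥, bot_le, by rw [Subgroup.normalizer_eq_top (⊥ : Subgroup G)], sup_bot_eq W,
      inf_bot_eq W⟩

theorem semi_down [Finite G] {U Y Y' : Subgroup G} [U.Normal]
    (hU : ∀ a ∈ U, ∀ b ∈ U, Commute a b) (hYY : Y ≤ Y') (hn : Y' ≤ normalizer (Y : Set G))
    (h : Semi Y' U) : Semi Y U := by
  intro W hW hWn
  have hUn : Y ≤ normalizer (U : Set G) := by rw [Subgroup.normalizer_eq_top U]; exact le_top
  -- the join of the minimal invariant subgroups
  let At : Subgroup G → Prop := fun M => M ≤ U ∧ M ≠ ⊥ ∧ Y ≤ normalizer (M : Set G) ∧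
    ∀ M', M' ≤ M → M' ≠ ⊥ → Y ≤ normalizer (M' : Set G) → M' = M
  have hex : ∀ N : Subgroup G, N ≤ U → N ≠ ⊥ → Y ≤ normalizer (N : Set G) →
      ∃ M, At M ∧ M ≤ N := by
    intro N hN hN0 hNn
    obtain ⟨M, ⟨hMN, hM0, hMn⟩, hmin⟩ := (Set.toFinite
      {M : Subgroup G | M ≤ N ∧ M ≠ ⊥ ∧ Y ≤ normalizer (M : Set G)}).exists_minimal
      ⟨N, le_rfl, hN0, hNn⟩
    exact ⟨M, ⟨hMN.trans hN, hM0, hMn, fun M' hle h0 hn' =>
      le_antisymm hle (hmin ⟨hle.trans hMN, h0, hn'⟩ hle)⟩, hMN⟩
  let T := ⨆ M : {M // At M}, M.1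
  have hTU : T ≤ U := iSup_le fun M => M.2.1
  have hconj : ∀ y ∈ Y', ∀ M, At M → At (M.map (MulAut.conj y).toMonoidHom) := by
    intro y hy M hM
    have hinj : Function.Injective (MulAut.conj y).toMonoidHom := (MulAut.conj y).injective
    have hYy : Y.map (MulAut.conj y).toMonoidHom = Y := mem_normalizer_iff_map_conj_eq.1 (hn hy)
    have hnm : ∀ H : Subgroup G, Y ≤ normalizer (H : Set G) →
        Y ≤ normalizer ((H.map (MulAut.conj y).toMonoidHom : Subgroup G) : Set G) := by
      intro H hH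
      conv_lhs => rw [← hYy]
      rw [le_normalizer_iff_commutator_le_right, ← map_commutator, map_le_map_iff_of_injective hinj]
      exact le_normalizer_iff_commutator_le_right.1 hH
    refine ⟨?_, fun h0 => hM.2.1 ((map_eq_bot_iff_of_injective _ hinj).1 h0), hnm M hM.2.2.1,
      fun M' hle h0 hn' => ?_⟩
    · rintro _ ⟨m, hm, rfl⟩
      exact ‹U.Normal›.conj_mem m (hM.1 hm) y
    · set M'' := M'.comap (MulAut.conj y).toMonoidHom with hM''
      have he : M''.map (MulAut.conj y).toMonoidHom = M' :=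
        map_comap_eq_self_of_surjective (MulAut.conj y).surjective M'
      have h1 : M'' ≤ M := by
        rw [← map_le_map_iff_of_injective hinj, he]; exact hle
      have h2 : M'' ≠ ⊥ := fun h => h0 (by rw [← he, h, Subgroup.map_bot])
      have h3 : Y ≤ normalizer (M'' : Set G) := by
        rw [le_normalizer_iff_commutator_le_right, ← map_le_map_iff_of_injective hinj,
          map_commutator, hYy, he]
        exact le_normalizer_iff_commutator_le_right.1 hn'
      rw [← he, hM.2.2.2 M'' h1 h2 h3]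
  have hTn : Y' ≤ normalizer (T : Set G) := by
    intro y hy
    have hle : ∀ z ∈ Y', T.map (MulAut.conj z).toMonoidHom ≤ T := by
      intro z hz
      rw [map_iSup]
      exact iSup_le fun M =>
        le_iSup (fun M : {M // At M} => M.1) ⟨_, hconj z hz M.1 M.2⟩
    rw [mem_normalizer_iff_map_conj_eq]
    refine le_antisymm (hle y hy) fun x hx => ?_
    exact ⟨y⁻¹ * x * y, by simpa using hle y⁻¹ (inv_mem hy) ⟨x, hx, rfl⟩, by simp [mul_assoc]⟩
  have hT : T = U := by
    obtain ⟨K, hKU, hKn, hsup, hinf⟩ := h T hTU hTn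
    rcases eq_or_ne K ⊥ with rfl | hK0
    · simpa using hsup
    · obtain ⟨M, hM, hMK⟩ := hex K hKU hK0 (hYY.trans hKn)
      exact absurd (le_bot_iff.1 (le_of_le_of_eq
        (le_inf (le_iSup (fun M : {M // At M} => M.1) ⟨M, hM⟩) hMK) hinf)) hM.2.1
  -- a maximal invariant subgroup meeting `W` trivially
  obtain ⟨K, ⟨hKU, hKn, hKW⟩, hmax⟩ := (Set.toFinite
    {K : Subgroup G | K ≤ U ∧ Y ≤ normalizer (K : Set G) ∧ W ⊓ K = ⊥}).exists_maximal
    ⟨⊥, bot_le, by rw [Subgroup.normalizer_eq_top (⊥ : Subgroup G)]; exact le_top, inf_bot_eq W⟩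
  refine ⟨K, hKU, hKn, ?_, hKW⟩
  refine le_antisymm (sup_le hW hKU) ?_
  rw [← hT]
  refine iSup_le fun M => ?_
  obtain ⟨hMU, hM0, hMn, hMmin⟩ := M.2
  by_contra hnle
  have hdis : M.1 ⊓ (W ⊔ K) = ⊥ := by
    by_contra hne
    exact hnle ((hMmin _ inf_le_left hne (le_normalizer_inf hMn (le_normalizer_sup hWn hKn))).ge.trans
      inf_le_right)
  have hKM : K ≤ normalizer (M.1 : Set G) := fun k hk => mem_normalizer_iff.2 fun n => by
    constructor
    · intro hn'
      rwa [(hU k (hKU hk) n (hMU hn')).eq, mul_inv_cancel_right]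
    · intro hn'
      have e : n = k⁻¹ * (k * n * k⁻¹) * k := by group
      rw [e, mul_assoc, ← (hU k (hKU hk) _ (hMU hn')).eq, inv_mul_cancel_left]
      exact hn'
  have hnew : W ⊓ (K ⊔ M.1) = ⊥ := by
    refine eq_bot_iff.2 fun x hx => ?_
    obtain ⟨hxW, hxKM⟩ := mem_inf.1 hx
    rw [← SetLike.mem_coe, coe_mul_of_left_le_normalizer_right K _ hKM, Set.mem_mul] at hxKM
    obtain ⟨k, hk, m, hm, rfl⟩ := hxKM
    have hm' : m ∈ M.1 ⊓ (W ⊔ K) := mem_inf.2 ⟨hm, by
      have := mul_mem (inv_mem (mem_sup_right (S := W) hk)) (mem_sup_left (T := K) hxW)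
      rwa [inv_mul_cancel_left] at this⟩
    rw [hdis, mem_bot] at hm'
    subst hm'
    rw [mul_one] at hxW ⊢
    exact hKW ▸ mem_inf.2 ⟨hxW, hk⟩
  exact hnle ((le_sup_right.trans (hmax ⟨sup_le hKU hMU, le_normalizer_sup hKn hMn, hnew⟩
    le_sup_left)).trans le_sup_right)

/-- Semisimplicity passes to a subgroup between a normal subgroup and an overgroup which is a
`p`-group modulo it. -/
theorem semi_of_between [Finite G] {p : ℕ} [Fact p.Prime] {U X X₀ : Subgroup G} [U.Normal]
    [X₀.Normal] (hU : ∀ a ∈ U, ∀ b ∈ U, Commute a b)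
    (hp : IsPGroup p (X.map (QuotientGroup.mk' X₀))) (hX : Semi X U) :
    ∀ Y : Subgroup G, X₀ ≤ Y → Y ≤ X → Semi Y U := by
  intro Y
  induction Y using WellFoundedGT.induction with
  | _ Y ih =>
    intro h0 hY
    rcases eq_or_lt_of_le hY with rfl | hlt
    · exact hX
    set q := QuotientGroup.mk' X₀
    have hYX : Y.map q < X.map q := by
      refine lt_of_le_not_ge (map_mono hY) fun h => hlt.not_ge ?_
      calc X ≤ (X.map q).comap q := le_comap_map q X
        _ ≤ (Y.map q).comap q := comap_mono h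
        _ = Y := comap_map_eq_self (by rwa [QuotientGroup.ker_mk'])
    haveI := hp.isNilpotent
    have hlt' : (Y.map q).subgroupOf (X.map q) < ⊤ :=
      lt_top_iff_ne_top.2 fun h => hYX.not_ge (subgroupOf_eq_top.1 h)
    obtain ⟨z, hzN, hzY⟩ := SetLike.exists_of_lt (Group.normalizerCondition_of_isNilpotent _ hlt')
    obtain ⟨x, hxX, hxz⟩ := mem_map.1 z.2
    have hxN : x ∈ normalizer (Y : Set G) := by
      have hY' : (Y.map q).comap q = Y := comap_map_eq_self (by rwa [QuotientGroup.ker_mk'])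
      refine mem_normalizer_iff.2 fun n => ?_
      by_cases hn : n ∈ X
      · have h1 := mem_normalizer_iff.1 hzN ⟨q n, mem_map_of_mem q hn⟩
        simp only [mem_subgroupOf, coe_mul, coe_inv, ← hxz, ← map_mul, ← map_inv,
          ← mem_comap, hY'] at h1
        exact h1
      · refine ⟨fun h => absurd (hY h) hn, fun h => absurd ?_ hn⟩
        have := mul_mem (mul_mem (inv_mem hxX) (hY h)) hxX
        simpa [mul_assoc] using this
    have hnew : Y < X ⊓ normalizer (Y : Set G) := by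
      refine lt_of_le_not_ge (le_inf hY le_normalizer) fun h => hzY ?_
      rw [mem_subgroupOf, ← hxz]
      exact mem_map_of_mem q (h (mem_inf.2 ⟨hxX, hxN⟩))
    exact semi_down hU hnew.le inf_le_right (ih _ hnew (h0.trans hnew.le) inf_le_left)

end CfsgLib.CFun
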