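import Cfsg.Agent.Lib.CFun.Overflow
import Cfsg.Agent.Lib.CFun.Semisimple
import Cfsg.Agent.Lib.CFun.Series
import Cfsg.Prelude.Def_PLocal

/-!
# Glauberman's theorem: if a `K`-infinity subgroup is not normal, some element outside `O_p` acts
cubically on a critical subgroup and quadratically on one of its chief factors
-/

set_option autoImplicit false
set_option linter.style.haveILetI false

open Subgroup
open scoped commutatorElement

namespace CfsgLib.CFun

universe u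

theorem cen_map_le {G G' : Type*} [Group G] [Group G'] {f : G →* G'} (hf : Function.Injective f)
    (A : Subgroup G) : (cen A).map f ≤ cen (A.map f) := (cen_map f hf A).le

/-- The overflow alternatives inside `G`. -/
theorem data_in_ambient {G : Type u} [Group G] [Finite G] {p : ℕ} [Fact p.Prime] (S : Sylow p G)
    (A : Subgroup G) [A.Normal] (hA2 : ⁅A, A⁆ ≤ centralizer (A : Set G))
    (hAQ : A ≤ Cfsg.pCore p G) (hQA : ⁅Cfsg.pCore p G, A⁆ ≤ cen A)
    (hK : ¬ (Cfsg.inducedFunctor Cfsg.kInfLower (S : Subgroup G)).Normal ∨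
      ¬ (Cfsg.inducedFunctor Cfsg.kInfUpper (S : Subgroup G)).Normal) :
    (EngelData A (Cfsg.pCore p G) ∧ ∃ B : Subgroup G, B ≤ (S : Subgroup G) ∧ ¬ B ≤ Cfsg.pCore p G ∧
        ⁅⁅A, B⁆, B⁆ ≤ cen A ∧ ⁅⁅⁅A, B⁆, B⁆, B⁆ = ⊥ ∧ ⁅⁅cen A, B⁆, B⁆ = ⊥) ∨
      ∃ B : Subgroup G, B ≤ (S : Subgroup G) ∧ B ∈ Cfsg.classTwoSubgroups G ∧
        ¬ B ≤ Cfsg.pCore p G ∧ A ≤ normalizer (B : Set G) ∧ ⁅⁅⁅A, B⁆, B⁆, B⁆ = ⊥ ∧
        ⁅⁅cen A, B⁆, B⁆ = ⊥ ∧ ∀ A₀ ≤ A, B ≤ normalizer (A₀ : Set G) → ⁅B, ⁅A₀, A₀⁆⁆ = ⊥ →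
          ⁅B, A₀⁆ ≤ cen B := by
  set Q := Cfsg.pCore p G with hQdef
  set S0 : Subgroup G := (S : Subgroup G) with hS0
  haveI hQn : Q.Normal := CfsgLib.Coprime.pCore_normal' p
  have hQS : Q ≤ S0 := (CfsgLib.Coprime.pCore_isPGroup (G := G) p).le_sylow_of_normal S
  have hAS : A ≤ S0 := hAQ.trans hQS
  have hi := S0.subtype_injective
  set AP := A.subgroupOf S0 with hAP
  set QP := Q.subgroupOf S0 with hQP
  have eA : AP.map S0.subtype = A := map_subgroupOf_eq_of_le hAS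
  have eQ : QP.map S0.subtype = Q := map_subgroupOf_eq_of_le hQS
  have hover : ¬ ∀ n : ℕ, Cfsg.kSeqEven S0 n ≤ QP ∧ Cfsg.kSeqOdd S0 (n + 1) ≤ QP := by
    intro h
    obtain ⟨h1, h2⟩ := kInf_subgroup QP h
    let e : QP ≃* Q := subgroupOfEquivOfLe hQS
    have he : (Q.subtype.comp e.toMonoidHom) = S0.subtype.comp QP.subtype := by
      ext x; rfl
    have key : ∀ (W : ∀ (R : Type u) [Group R], Subgroup R),
        (W QP).map e.toMonoidHom = W Q → (W Q).Characteristic →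
        (W QP).map QP.subtype = W S0 → (Cfsg.inducedFunctor W S0).Normal := by
      intro W hW hc hW'
      haveI := hc
      show ((W S0).map S0.subtype).Normal
      rw [← hW', Subgroup.map_map, ← he, ← Subgroup.map_map, hW]
      infer_instance
    rcases hK with hK | hK
    · exact hK (key _ (kInfLower_equiv e) kInfLower_characteristic h1)
    · exact hK (key _ (kInfUpper_equiv e) kInfUpper_characteristic h2)
  have hA2' : AP ∈ Cfsg.classTwoSubgroups S0 := by
    rw [← classTwo_map_iff S0.subtype hi, eA]; exact hA2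
  have hQA' : ⁅QP, AP⁆ ≤ cen AP := by
    rw [← map_le_map_iff_of_injective hi, map_commutator, cen_map _ hi, eA, eQ]; exact hQA
  have hAQ' : AP ≤ QP := fun x hx => hAQ hx
  rcases data_of_overflow hA2' hAQ' hQA' hover with ⟨B, hB, h1, h2, h3⟩ |
      ⟨B, hB2, hB, -, hn, h2, h3, ht⟩
  · have hnle : ¬ B.map S0.subtype ≤ Q := fun h => hB fun x hx => h (mem_map_of_mem _ hx)
    have h1' : ⁅⁅A, B.map S0.subtype⁆, B.map S0.subtype⁆ ≤ cen A := by
      rw [← eA, ← cen_map _ hi, ← map_commutator, ← map_commutator]; exact map_mono h1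
    have h2' : ⁅⁅⁅A, B.map S0.subtype⁆, B.map S0.subtype⁆, B.map S0.subtype⁆ = ⊥ := by
      rw [← eA, ← map_commutator, ← map_commutator, ← map_commutator, h2, Subgroup.map_bot]
    have h3' : ⁅⁅cen A, B.map S0.subtype⁆, B.map S0.subtype⁆ = ⊥ := by
      rw [← eA, ← cen_map _ hi, ← map_commutator, ← map_commutator, h3, Subgroup.map_bot]
    exact Or.inl ⟨⟨_, hnle, h1', h2', h3'⟩, _, map_subtype_le B, hnle, h1', h2', h3'⟩
  · refine Or.inr ⟨B.map S0.subtype, map_subtype_le B, (classTwo_map_iff _ hi B).2 hB2,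
      fun h => hB fun x hx => h (mem_map_of_mem _ hx), ?_, ?_, ?_, fun A₀ h0 hn0 hc => ?_⟩
    · rw [← eA]; exact (le_normalizer_map_iff _ hi).2 hn
    · rw [← eA, ← map_commutator, ← map_commutator, ← map_commutator, h2, Subgroup.map_bot]
    · rw [← eA, ← cen_map _ hi, ← map_commutator, ← map_commutator, h3, Subgroup.map_bot]
    · have e0 : (A₀.subgroupOf S0).map S0.subtype = A₀ := map_subgroupOf_eq_of_le (h0.trans hAS)
      rw [← e0] at hn0 hc ⊢
      rw [← map_commutator, ← cen_map _ hi]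
      rw [← map_commutator, commutator_map_eq_bot_iff _ hi] at hc
      exact map_mono (ht _ (fun x hx => h0 hx) ((le_normalizer_map_iff _ hi).1 hn0) hc)

variable {G : Type u} [Group G] [Finite G] {p : ℕ} [Fact p.Prime]

/-- Elements outside `O_p` of a constrained group move a chief factor of a critical subgroup. -/
theorem exists_moved (hcon : centralizer ((Cfsg.pCore p G : Subgroup G) : Set G) ≤ Cfsg.pCore p G)
    {A : Subgroup G} [A.Normal] (hAQ : A ≤ Cfsg.pCore p G)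
    (hA5 : ∀ φ : MulAut ↥(Cfsg.pCore p G), (orderOf φ).Coprime p →
      (∀ a : ↥(Cfsg.pCore p G), (a : G) ∈ A → φ a = a) → φ = 1) {g : G}
    (hg : g ∉ Cfsg.pCore p G) :
    g ∉ trivSeries ⊥ (cen A) ∨ g ∉ trivSeries (cen A) A := by
  by_contra h
  push Not at h
  haveI := trivSeries_normal (⊥ : Subgroup G) (cen A)
  haveI := trivSeries_normal (cen A) A
  set Q := Cfsg.pCore p G
  haveI hQn : Q.Normal := CfsgLib.Coprime.pCore_normal' p
  haveI hZn : (cen A).Normal := normal_inf_normal A _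
  have hQp : IsPGroup p Q := CfsgLib.Coprime.pCore_isPGroup p
  set X := trivSeries ⊥ (cen A) ⊓ trivSeries (cen A) A
  haveI : X.Normal := normal_inf_normal _ _
  have hX : IsPGroup p X := by
    refine isPGroup_of_forall fun x hx hord => ?_
    have hZ : ∀ z ∈ cen A, Commute x z := commute_of_mem_trivSeries hord
      (fun l hl => by rw [mem_bot.1 hl]; exact Commute.one_right x) _ hZn bot_le
      (hQp.to_le (inf_le_left.trans hAQ)) hx.1
    have hA : ∀ a ∈ A, Commute x a := commute_of_mem_trivSeries hord hZ _ inferInstance inf_le_left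
      (hQp.to_le hAQ) hx.2
    have hφ : (MulAut.conjNormal x : MulAut Q) = 1 := by
      refine hA5 _ ?_ fun a ha => Subtype.ext ?_
      · refine Nat.Coprime.coprime_dvd_left (orderOf_map_dvd MulAut.conjNormal x) ?_
        exact ((Nat.Prime.coprime_iff_not_dvd Fact.out).2 hord).symm
      · rw [MulAut.conjNormal_apply, (hA a ha).eq, mul_inv_cancel_right]
    have hxC : x ∈ centralizer (Q : Set G) := mem_centralizer_iff.2 fun q hq => by
      have := congrArg (fun f : MulAut Q => ((f ⟨q, hq⟩ : Q) : G)) hφ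
      simp only [MulAut.conjNormal_apply, MulAut.one_apply] at this
      calc q * x = x * q * x⁻¹ * x := by rw [this]
        _ = x * q := inv_mul_cancel_right _ _
    obtain ⟨k, hk⟩ := hQp ⟨x, hcon hxC⟩
    exact orderOf_eq_one_iff.1 (Nat.eq_one_of_dvd_coprimes
      (((Fact.out : p.Prime).coprime_iff_not_dvd.2 hord).pow_left k)
      (orderOf_dvd_of_pow_eq_one (by simpa using congrArg Subtype.val hk)) dvd_rfl)
  exact hg (CfsgLib.Coprime.le_pCore hX (mem_inf.2 h))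

/-- The conclusion of Glauberman's theorem. -/
def EngelConclusion (S : Subgroup G) (p : ℕ) (A : Subgroup G) (g : G) : Prop :=
  g ∈ S ∧ g ∉ Cfsg.pCore p G ∧ Cfsg.iterCommutator A (zpowers g) 3 ≤ cen A ∧
    ⁅⁅cen A, zpowers g⁆, zpowers g⁆ = ⊥ ∧
    (centralizer ((Cfsg.pCore p G : Subgroup G) : Set G) ≤ Cfsg.pCore p G →
      ∃ U V : Subgroup G, Cfsg.IsChiefFactor U V ∧ U ≤ A ∧
        ⁅⁅U, zpowers g⁆, zpowers g⁆ ≤ V ∧ ¬ ⁅U, zpowers g⁆ ≤ V)

theorem iterCommutator_three (A H : Subgroup G) :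
    Cfsg.iterCommutator A H 3 = ⁅⁅⁅A, H⁆, H⁆, H⁆ := rfl

/-- The test property makes an element quadratic on the factors above the centre. -/
theorem quadratic_of_test {A B : Subgroup G} [A.Normal]
    (hA2 : ⁅A, A⁆ ≤ centralizer (A : Set G)) (hAp : IsPGroup p A)
    (hB2 : B ∈ Cfsg.classTwoSubgroups G) (hAB : A ≤ normalizer (B : Set G))
    (hBX : B ≤ trivSeries ⊥ (cen A))
    (ht : ∀ A₀ ≤ A, B ≤ normalizer (A₀ : Set G) → ⁅B, ⁅A₀, A₀⁆⁆ = ⊥ → ⁅B, A₀⁆ ≤ cen B)
    {U V : Subgroup G} (hch : Cfsg.IsChiefFactor U V) (hZV : cen A ≤ V) (hUA : U ≤ A) :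
    ⁅⁅U, B⁆, B⁆ ≤ V := by
  haveI hUn := hch.2.1
  haveI hVn := hch.2.2.1
  haveI hZn : (cen A).Normal := normal_inf_normal A _
  set X := trivSeries ⊥ (cen A)
  haveI hXn : X.Normal := trivSeries_normal _ _
  set X0 := closure {x : G | x ∈ X ∧ ¬ p ∣ orderOf x} with hX0
  have hX0X : X0 ≤ X := (closure_le _).2 fun x hx => hx.1
  haveI hX0n : X0.Normal := by
    refine ⟨fun x hx g => ?_⟩
    have : X0.map (MulAut.conj g).toMonoidHom ≤ X0 := by
      rw [hX0, MonoidHom.map_closure, closure_le]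
      rintro _ ⟨y, hy, rfl⟩
      refine subset_closure ⟨hXn.conj_mem y hy.1 g, ?_⟩
      rw [orderOf_injective (MulAut.conj g).toMonoidHom (MulAut.conj g).injective y]
      exact hy.2
    exact this ⟨x, hx, rfl⟩
  have hX0Z : ∀ h ∈ X0, ∀ z ∈ cen A, Commute h z := by
    intro h hh z hz
    have : X0 ≤ centralizer ({z} : Set G) := (closure_le _).2 fun x hx =>
      mem_centralizer_singleton_iff.2 (commute_of_mem_trivSeries hx.2
        (fun l hl => by rw [mem_bot.1 hl]; exact Commute.one_right x) _ hZn bot_le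
        (hAp.to_le inf_le_left) hx.1 z hz).eq
    exact mem_centralizer_singleton_iff.1 (this hh)
  set gens := {y : G | ∃ h ∈ X0, ∃ x ∈ A ⊓ ⁅B, B⁆, h * x * h⁻¹ = y} with hgens
  set W0 := closure gens with hW0
  have hW0A : W0 ≤ A := (closure_le _).2 (by
    rintro _ ⟨h, -, x, hx, rfl⟩; exact ‹A.Normal›.conj_mem x hx.1 h)
  have hnorm : ∀ z : G, (∀ y ∈ gens, z * y * z⁻¹ ∈ gens) →
      ∀ y ∈ W0, z * y * z⁻¹ ∈ W0 := by
    intro z hz y hy
    have : W0.map (MulAut.conj z).toMonoidHom ≤ W0 := by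
      rw [hW0, MonoidHom.map_closure, closure_le]
      rintro _ ⟨w, hw, rfl⟩
      exact subset_closure (hz w hw)
    exact this ⟨y, hy, rfl⟩
  have hnB : ∀ b ∈ B, ∀ y ∈ W0, b * y * b⁻¹ ∈ W0 := fun b hb => hnorm b (by
    rintro _ ⟨h, hh, x, hx, rfl⟩
    refine ⟨b * h * b⁻¹, hX0n.conj_mem h hh b, x, hx, ?_⟩
    have e : b * x * b⁻¹ = x := by
      rw [mem_centralizer_iff.1 (hB2 hx.2) b hb, mul_inv_cancel_right]
    calc b * h * b⁻¹ * x * (b * h * b⁻¹)⁻¹ = b * h * b⁻¹ * (b * x * b⁻¹) * (b * h * b⁻¹)⁻¹ := by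
          rw [e]
      _ = b * (h * x * h⁻¹) * b⁻¹ := by group)
  have hnX : ∀ k ∈ X0, ∀ y ∈ W0, k * y * k⁻¹ ∈ W0 := fun k hk => hnorm k (by
    rintro _ ⟨h, hh, x, hx, rfl⟩
    exact ⟨k * h, mul_mem hk hh, x, hx, by group⟩)
  have toN : ∀ H : Subgroup G, (∀ z ∈ H, ∀ y ∈ W0, z * y * z⁻¹ ∈ W0) →
      H ≤ normalizer (W0 : Set G) := fun H hH z hz => mem_normalizer_iff.2 fun n =>
    ⟨fun hn => hH z hz n hn, fun hn => by simpa [mul_assoc] using hH z⁻¹ (inv_mem hz) _ hn⟩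
  have hBW : B ≤ normalizer (W0 : Set G) := toN B hnB
  -- the derived group of `W0` is centralized by `B`
  have hAA : ∀ a ∈ A, ∀ c ∈ A, ⁅a, c⁆ ∈ cen A := fun a ha c hc =>
    commutator_le_cen_of_classTwo hA2 (commutator_mem_commutator ha hc)
  have hW0c : ⁅B, ⁅W0, W0⁆⁆ = ⊥ := by
    let T : Subgroup G :=
      { carrier := {y | y ∈ A ∧ ∀ a ∈ A, ⁅y, a⁆ ∈ centralizer (B : Set G)}
        one_mem' := ⟨one_mem A, fun a _ => by rw [commutatorElement_one_left]; exact one_mem _⟩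
        mul_mem' := fun {y z} hy hz => ⟨mul_mem hy.1 hz.1, fun a ha => by
          have e : ⁅y * z, a⁆ = y * ⁅z, a⁆ * y⁻¹ * ⁅y, a⁆ := by
            simp only [commutatorElement_def]; group
          rw [e, ← (commute_of_mem_cen (hAA z hz.1 a ha) hy.1).eq, mul_inv_cancel_right]
          exact mul_mem (hz.2 a ha) (hy.2 a ha)⟩
        inv_mem' := fun {y} hy => ⟨inv_mem hy.1, fun a ha => by
          have e : ⁅y⁻¹, a⁆ = y⁻¹ * ⁅y, a⁆⁻¹ * y := by simp only [commutatorElement_def]; group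
          rw [e, ← (commute_of_mem_cen (inv_mem (hAA y hy.1 a ha)) (inv_mem hy.1)).eq,
            inv_mul_cancel_right]
          exact inv_mem (hy.2 a ha)⟩ }
    have hT : W0 ≤ T := (closure_le _).2 (by
      rintro _ ⟨h, hh, x, hx, rfl⟩
      refine ⟨‹A.Normal›.conj_mem x hx.1 h, fun a ha => ?_⟩
      have ha' : h⁻¹ * a * h ∈ A := by simpa using ‹A.Normal›.conj_mem a ha h⁻¹
      have e : ⁅h * x * h⁻¹, a⁆ = h * ⁅x, h⁻¹ * a * h⁆ * h⁻¹ := by
        simp only [commutatorElement_def]; group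
      rw [e, (hX0Z h hh _ (hAA x hx.1 _ ha')).eq, mul_inv_cancel_right]
      refine hB2 ((le_normalizer_iff_commutator_le_left.1
        (le_normalizer_commutator hAB hAB)) (commutator_mem_commutator hx.2 ha')))
    rw [commutator_eq_bot_iff_le_centralizer, le_centralizer_iff, commutator_le]
    exact fun y hy a ha => (hT hy).2 a (hW0A ha)
  have hquad : ⁅⁅W0, B⁆, B⁆ = ⊥ := by
    have h := ht W0 hW0A hBW hW0c
    rw [commutator_comm] at h
    exact le_bot_iff.1 ((commutator_mono h le_rfl).trans (cen_commutator_eq_bot B).le)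
  have hABW : ⁅⁅A, B⁆, B⁆ ≤ W0 := by
    intro y hy
    have h1 : y ∈ A := (commutator_mono (commutator_le_left A B) le_rfl).trans
      (commutator_le_left A B) hy
    have h2 : y ∈ ⁅B, B⁆ :=
      commutator_mono (le_normalizer_iff_commutator_le_right.1 hAB) le_rfl hy
    exact subset_closure ⟨1, one_mem X0, y, mem_inf.2 ⟨h1, h2⟩, by simp⟩
  -- pass to the quotient by `V`
  set q := QuotientGroup.mk' V with hq
  have hqs : Function.Surjective q := QuotientGroup.mk'_surjective V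
  haveI : (U.map q).Normal := Subgroup.Normal.map hUn q hqs
  haveI : (X.map q).Normal := Subgroup.Normal.map hXn q hqs
  haveI : (X0.map q).Normal := Subgroup.Normal.map hX0n q hqs
  have hUc : ∀ a ∈ U.map q, ∀ b ∈ U.map q, Commute a b := by
    rintro _ ⟨a, ha, rfl⟩ _ ⟨b, hb, rfl⟩
    refine commutatorElement_eq_one_iff_mul_comm.1 ?_
    rw [← map_commutatorElement, hq, QuotientGroup.mk'_apply, QuotientGroup.eq_one_iff]
    exact hZV (hAA a (hUA ha) b (hUA hb))
  have hirr : ∀ N : Subgroup (G ⧸ V), N.Normal → N ≤ U.map q → N = ⊥ ∨ N = U.map q := by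
    intro N hN hle
    have h2 : N.comap q ≤ U := by
      refine (comap_mono hle).trans ?_
      rw [comap_map_eq_self (by rw [hq, QuotientGroup.ker_mk']; exact hch.1.le)]
    have h1 : V ≤ N.comap q := fun v hv => by
      rw [mem_comap, hq, QuotientGroup.mk'_apply, (QuotientGroup.eq_one_iff v).2 hv]
      exact one_mem N
    have hN' : (N.comap q).map q = N := map_comap_eq_self_of_surjective hqs N
    rcases hch.2.2.2 _ (hN.comap q) h1 h2 with h | h
    · exact Or.inl (by rw [← hN', h, hq, QuotientGroup.map_mk'_self])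
    · exact Or.inr (by rw [← hN', h])
  set Y := X0 ⊔ B
  have hYX : Y ≤ X := sup_le hX0X hBX
  have hsemi : Semi (Y.map q) (U.map q) := by
    refine semi_of_between (p := p) (X := X.map q) (X₀ := X0.map q) hUc ?_
      (semi_down hUc le_top (by rw [Subgroup.normalizer_eq_top (X.map q)]) (semi_top hirr))
      _ (map_mono le_sup_left) (map_mono hYX)
    rintro ⟨_, _, ⟨x, hx, rfl⟩, rfl⟩
    obtain ⟨k, hk⟩ := exists_ppow_order p x
    refine ⟨k, Subtype.ext ?_⟩
    simp only [SubgroupClass.coe_pow, OneMemClass.coe_one, ← map_pow]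
    exact (QuotientGroup.eq_one_iff _).2 (mem_map_of_mem q (subset_closure ⟨pow_mem hx _, hk⟩))
  have hYW : Y ≤ normalizer (W0 : Set G) := sup_le (toN X0 hnX) hBW
  have hmapN : ∀ H K : Subgroup G, H ≤ normalizer (K : Set G) →
      H.map q ≤ normalizer ((K.map q : Subgroup (G ⧸ V)) : Set (G ⧸ V)) := fun H K hH => by
    rw [le_normalizer_iff_commutator_le_right, ← map_commutator]
    exact map_mono (le_normalizer_iff_commutator_le_right.1 hH)
  have hUall : ∀ H : Subgroup (G ⧸ V), H ≤ normalizer ((U.map q : Subgroup _) : Set (G ⧸ V)) := by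
    intro H; rw [Subgroup.normalizer_eq_top (U.map q)]; exact le_top
  set Wb := W0.map q ⊓ U.map q
  obtain ⟨K, hKU, hKn, hsup, hinf⟩ := hsemi Wb inf_le_right
    (le_normalizer_inf (hmapN _ _ hYW) (hUall _))
  set Bb := B.map q
  have hBY : Bb ≤ Y.map q := map_mono le_sup_right
  have hBWb : Bb ≤ normalizer (Wb : Set (G ⧸ V)) :=
    le_normalizer_inf (hmapN _ _ hBW) (hUall _)
  have hBK : Bb ≤ normalizer (K : Set (G ⧸ V)) := hBY.trans hKn
  have hc1 : ⁅Wb, Bb⁆ ≤ Wb := le_normalizer_iff_commutator_le_left.1 hBWb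
  have hc2 : ⁅K, Bb⁆ ≤ K := le_normalizer_iff_commutator_le_left.1 hBK
  have step1 : ⁅Wb ⊔ K, Bb⁆ ≤ ⁅Wb, Bb⁆ ⊔ ⁅K, Bb⁆ :=
    commutator_sup_le hBWb hBK fun a ha b hb => hUc a ha.2 b (hKU hb)
  have step2 : ⁅⁅Wb, Bb⁆ ⊔ ⁅K, Bb⁆, Bb⁆ ≤ ⁅⁅Wb, Bb⁆, Bb⁆ ⊔ ⁅⁅K, Bb⁆, Bb⁆ :=
    commutator_sup_le (normalizer_commutator_ge_right _ _) (normalizer_commutator_ge_right _ _)
      fun a ha b hb => hUc a (hc1 ha).2 b (hKU (hc2 hb))
  have hW1 : ⁅⁅Wb, Bb⁆, Bb⁆ = ⊥ := by
    refine le_bot_iff.1 ((commutator_mono (commutator_mono inf_le_left le_rfl) le_rfl).trans ?_)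
    rw [← map_commutator, ← map_commutator, hquad, Subgroup.map_bot]
  have hK1 : ⁅⁅K, Bb⁆, Bb⁆ ≤ ⊥ := by
    rw [← hinf]
    refine le_inf (le_inf ?_ ?_) ((commutator_mono hc2 le_rfl).trans hc2)
    · refine (commutator_mono (commutator_mono hKU le_rfl) le_rfl).trans ?_
      rw [← map_commutator, ← map_commutator]
      exact map_mono ((commutator_mono (commutator_mono hUA le_rfl) le_rfl).trans hABW)
    · exact ((commutator_mono hc2 le_rfl).trans hc2).trans hKU
  have htot : ⁅⁅U.map q, Bb⁆, Bb⁆ ≤ ⊥ := by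
    rw [← hsup]
    exact ((commutator_mono step1 le_rfl).trans step2).trans (sup_le hW1.le hK1)
  rw [← map_commutator, ← map_commutator, le_bot_iff, Subgroup.map_eq_bot_iff, hq,
    QuotientGroup.ker_mk'] at htot
  exact htot

theorem engel (S : Sylow p G) (A : Subgroup G) [A.Normal] (hAQ : A ≤ Cfsg.pCore p G)
    (hA2 : ⁅A, A⁆ ≤ centralizer (A : Set G)) (hQA : ⁅Cfsg.pCore p G, A⁆ ≤ cen A)
    (hA5 : ∀ φ : MulAut ↥(Cfsg.pCore p G), (orderOf φ).Coprime p →
      (∀ a : ↥(Cfsg.pCore p G), (a : G) ∈ A → φ a = a) → φ = 1)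
    (hK : ¬ (Cfsg.inducedFunctor Cfsg.kInfLower (S : Subgroup G)).Normal ∨
      ¬ (Cfsg.inducedFunctor Cfsg.kInfUpper (S : Subgroup G)).Normal) :
    ∃ g : G, EngelConclusion (S : Subgroup G) p A g := by
  set Q := Cfsg.pCore p G
  haveI hQn : Q.Normal := CfsgLib.Coprime.pCore_normal' p
  have hQp : IsPGroup p Q := CfsgLib.Coprime.pCore_isPGroup p
  -- choosing an element of a subgroup
  have build : ∀ (B : Subgroup G), B ≤ (S : Subgroup G) → ∀ g ∈ B, g ∉ Q →
      ⁅⁅⁅A, B⁆, B⁆, B⁆ = ⊥ → ⁅⁅cen A, B⁆, B⁆ = ⊥ →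
      (centralizer ((Q : Subgroup G) : Set G) ≤ Q → ∃ U V : Subgroup G,
        Cfsg.IsChiefFactor U V ∧ U ≤ A ∧ ⁅⁅U, B⁆, B⁆ ≤ V ∧ ¬ ⁅U, zpowers g⁆ ≤ V) →
      EngelConclusion (S : Subgroup G) p A g := by
    intro B hBS g hg hgQ h3 h2 hch
    have hz : zpowers g ≤ B := zpowers_le.2 hg
    refine ⟨hBS hg, hgQ, ?_, ?_, fun hcon => ?_⟩
    · rw [iterCommutator_three]
      exact ((commutator_mono (commutator_mono (commutator_mono le_rfl hz) hz) hz).trans h3.le).trans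
        bot_le
    · exact le_bot_iff.1 ((commutator_mono (commutator_mono le_rfl hz) hz).trans h2.le)
    · obtain ⟨U, V, h, hU, hq, hn⟩ := hch hcon
      exact ⟨U, V, h, hU, (commutator_mono (commutator_mono le_rfl hz) hz).trans hq, hn⟩
  have movedPair : ∀ {L N : Subgroup G} {g : G}, g ∉ trivSeries L N →
      ∃ U V : Subgroup G, Cfsg.IsChiefFactor U V ∧ L ≤ V ∧ U ≤ N ∧ ¬ ⁅U, zpowers g⁆ ≤ V := by
    intro L N g h
    rw [mem_trivSeries] at h
    push Not at h
    obtain ⟨U, V, hc, hL, hN, u, hu, hn⟩ := h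
    refine ⟨U, V, hc, hL, hN, fun hle => hn ?_⟩
    rw [← commutatorElement_inv]
    exact inv_mem (hle (commutator_mem_commutator hu (mem_zpowers g)))
  rcases data_in_ambient S A hA2 hAQ hQA hK with ⟨-, B, hBS, hBQ, h1, h3, h2⟩ |
      ⟨B, hBS, hB2, hBQ, hAB, h3, h2, ht⟩
  · obtain ⟨g, hg, hgQ⟩ := SetLike.not_le_iff_exists.1 hBQ
    refine ⟨g, build B hBS g hg hgQ h3 h2 fun hcon => ?_⟩
    rcases exists_moved hcon hAQ hA5 hgQ with h | h
    · obtain ⟨U, V, hc, -, hU, hn⟩ := movedPair h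
      exact ⟨U, V, hc, hU.trans inf_le_left,
        ((commutator_mono (commutator_mono hU le_rfl) le_rfl).trans h2.le).trans bot_le, hn⟩
    · obtain ⟨U, V, hc, hV, hU, hn⟩ := movedPair h
      exact ⟨U, V, hc, hU,
        ((commutator_mono (commutator_mono hU le_rfl) le_rfl).trans h1).trans hV, hn⟩
  · by_cases hX : B ≤ trivSeries ⊥ (cen A)
    · obtain ⟨g, hg, hgQ⟩ := SetLike.not_le_iff_exists.1 hBQ
      refine ⟨g, build B hBS g hg hgQ h3 h2 fun hcon => ?_⟩
      have h := (exists_moved hcon hAQ hA5 hgQ).resolve_left (fun h => h (hX hg))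
      obtain ⟨U, V, hc, hV, hU, hn⟩ := movedPair h
      exact ⟨U, V, hc, hU, quadratic_of_test hA2 (hQp.to_le hAQ) hB2 hAB hX ht hc hV hU, hn⟩
    · obtain ⟨g, hg, hgX⟩ := SetLike.not_le_iff_exists.1 hX
      have hgQ : g ∉ Q := fun h => hgX (le_trivSeries hQp (hQp.to_le (inf_le_left.trans hAQ)) h)
      refine ⟨g, build B hBS g hg hgQ h3 h2 fun _ => ?_⟩
      obtain ⟨U, V, hc, -, hU, hn⟩ := movedPair hgX
      exact ⟨U, V, hc, hU.trans inf_le_left,
        ((commutator_mono (commutator_mono hU le_rfl) le_rfl).trans h2.le).trans bot_le, hn⟩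

end CfsgLib.CFun
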