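import Cfsg.Agent.Lib.CFun.Series
import Cfsg.Agent.Lib.Coprime.Core
import Cfsg.Agent.Lib.Coprime.QdRankTwo.Tools
import Cfsg.Prelude.Def_LocalEven
import Mathlib.GroupTheory.Sylow

/-!
# A `p`-core modulo the kernel of an irreducible action on a `p`-group is trivial
-/

set_option autoImplicit false
set_option linter.style.haveILetI false

open Subgroup
open scoped commutatorElement

namespace CfsgLib.CFun

universe u

variable {G : Type u} [Group G] [Finite G] {p : ℕ} [Fact p.Prime]

/-- A normal subgroup that is a `p`-group modulo the kernel centralizes a minimal normal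
`p`-subgroup. -/
theorem le_centralizer_of_ppow_kernel {P : Subgroup G} [P.Normal] (hP : IsPGroup p P)
    (hch : Cfsg.IsChiefFactor P ⊥) {Y : Subgroup G} [Y.Normal]
    (hY : ∀ y ∈ Y, ∃ k : ℕ, y ^ p ^ k ∈ centralizer (P : Set G)) :
    Y ≤ centralizer (P : Set G) := by
  obtain ⟨T⟩ := (inferInstance : Nonempty (Sylow p Y))
  set R : Subgroup G := (T : Subgroup Y).map Y.subtype
  have hR : IsPGroup p R := T.isPGroup'.map _
  obtain ⟨b, hbP, hb1, hb⟩ :=
    CfsgLib.Coprime.QdRankTwo.exists_fixed_section ⊥ P hch.1 hP hR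
  -- `Y` is the product of `R` and its part centralizing `P`
  set X : Subgroup Y := (centralizer (P : Set G)).subgroupOf Y
  haveI : X.Normal := inferInstance
  have hq : IsPGroup p (Y ⧸ X) := by
    intro x
    obtain ⟨y, rfl⟩ := QuotientGroup.mk'_surjective X x
    obtain ⟨k, hk⟩ := hY y y.2
    refine ⟨k, ?_⟩
    rw [← map_pow, QuotientGroup.mk'_apply, QuotientGroup.eq_one_iff]
    exact hk
  have htop : (T : Subgroup Y).map (QuotientGroup.mk' X) = ⊤ :=
    ((T.mapSurjective (QuotientGroup.mk'_surjective X)).is_maximal'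
      (hq.to_subgroup ⊤) le_top).symm
  have hbY : ∀ y ∈ Y, Commute y b := by
    intro y hy
    obtain ⟨t, ht, hty⟩ := mem_map.1 (htop.symm ▸ mem_top (QuotientGroup.mk' X ⟨y, hy⟩) :
      QuotientGroup.mk' X ⟨y, hy⟩ ∈ (T : Subgroup Y).map (QuotientGroup.mk' X))
    have hc : ((t⁻¹ * ⟨y, hy⟩ : Y) : G) ∈ centralizer (P : Set G) :=
      (QuotientGroup.eq (s := X)).1 hty
    have h1 : Commute (t : G) b :=
      commutatorElement_eq_one_iff_mul_comm.1 (mem_bot.1 (hb _ (mem_map_of_mem _ ht)))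
    have h2 : Commute ((t⁻¹ * ⟨y, hy⟩ : Y) : G) b := (mem_centralizer_iff.1 hc b hbP).symm
    have he : y = (t : G) * ((t⁻¹ * ⟨y, hy⟩ : Y) : G) := by simp
    rw [he]
    exact h1.mul_left h2
  set F := P ⊓ centralizer (Y : Set G)
  haveI : F.Normal := normal_inf_normal P _
  rcases hch.2.2.2 F inferInstance bot_le inf_le_left with h | h
  · refine absurd (h ▸ mem_inf.2 ⟨hbP, mem_centralizer_iff.2 fun y hy => (hbY y hy).eq⟩ : b ∈
      (⊥ : Subgroup G)) hb1
  · intro y hy
    refine mem_centralizer_iff.2 fun x hx => ?_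
    exact (mem_centralizer_iff.1 (h.symm ▸ hx : x ∈ F).2 y hy).symm

/-- A quadratic element moving a minimal normal `p`-subgroup witnesses the failure of
`p`-stability. -/
theorem not_normalizerPStable_of_quadratic {P : Subgroup G} [P.Normal] (hP : IsPGroup p P)
    (hch : Cfsg.IsChiefFactor P ⊥) {g : G} (hq : ⁅⁅P, zpowers g⁆, zpowers g⁆ = ⊥)
    (hne : ¬ g ∈ centralizer (P : Set G)) : ¬ Cfsg.IsNormalizerPStable p G := by
  intro hst
  have htop : normalizer (P : Set G) = ⊤ := Subgroup.normalizer_eq_top P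
  have hg : g ∈ normalizer (P : Set G) := htop ▸ mem_top g
  have h := hst P hP g hg hq
  set N := normalizer (P : Set G)
  set C := (centralizer (P : Set G)).subgroupOf N
  haveI : C.Normal := inferInstance
  set Yq := Cfsg.pCore p (N ⧸ C)
  haveI : Yq.Normal := CfsgLib.Coprime.pCore_normal' p
  haveI : (⊤ : Subgroup G).Normal := inferInstance
  set Y := (Yq.comap (QuotientGroup.mk' C)).map N.subtype
  haveI : Y.Normal := by
    refine Subgroup.Normal.map inferInstance N.subtype fun x => ⟨⟨x, htop ▸ mem_top x⟩, rfl⟩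
  refine hne (le_centralizer_of_ppow_kernel hP hch (Y := Y) ?_ (mem_map.2 ⟨⟨g, hg⟩, h, rfl⟩))
  rintro _ ⟨y, hy, rfl⟩
  obtain ⟨k, hk⟩ := (CfsgLib.Coprime.pCore_isPGroup (G := N ⧸ C) p) ⟨_, hy⟩
  refine ⟨k, ?_⟩
  have hk' := congrArg Subtype.val hk
  simp only [SubmonoidClass.coe_pow, OneMemClass.coe_one] at hk'
  rw [← map_pow, QuotientGroup.mk'_apply, QuotientGroup.eq_one_iff] at hk'
  exact hk'

end CfsgLib.CFun
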