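import Cfsg.Agent.Lib.CFun.FusionSection
import Cfsg.Agent.Lib.CFun.KFunctor
import Cfsg.Agent.Lib.Qd.Unstable
import Cfsg.Agent.S1983

/-!
# In `Qd(p)`-free groups the `K`-infinity subgroups control strong fusion
-/

set_option autoImplicit false
set_option linter.style.haveILetI false

open Subgroup

namespace CfsgLib.CFun

universe u

variable {p : ℕ} [Fact p.Prime]

theorem kInf_normal_of_qdFree {G : Type u} [Group G] [Finite G] (hp : p ≠ 2)
    (hfree : ¬ Cfsg.Involves ↥(Cfsg.qd p) G)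
    (hcon : centralizer ((Cfsg.pCore p G : Subgroup G) : Set G) ≤ Cfsg.pCore p G) (S : Sylow p G) :
    (Cfsg.inducedFunctor Cfsg.kInfLower (S : Subgroup G)).Normal ∧
      (Cfsg.inducedFunctor Cfsg.kInfUpper (S : Subgroup G)).Normal := by
  by_contra h
  obtain ⟨g, -, -, -, -, hex⟩ := Cfsg.Agent.S1983.result S (not_and_or.1 h)
  obtain ⟨N, hN, hns⟩ := hex hcon
  simp only [Cfsg.IsNormalizerPStable, not_forall] at hns
  obtain ⟨P, hP, a, ha, hq, hout⟩ := hns
  exact hfree (CfsgLib.Fusion.involves_of_surjective (QuotientGroup.mk' N)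
    (QuotientGroup.mk'_surjective N) (CfsgLib.Qd.sections_of_not_mem hp P hP ha hq hout).1)

theorem strongCtrl_kInf_of_qdFree {G : Type u} [Group G] [Finite G] (hp : p ≠ 2)
    (hfree : ¬ Cfsg.Involves ↥(Cfsg.qd p) G) :
    StrongCtrl p Cfsg.kInfLower G ∧ StrongCtrl p Cfsg.kInfUpper G := by
  have up : ∀ (Y : Type u) [Group Y], Cfsg.Involves Y G → ¬ Cfsg.Involves ↥(Cfsg.qd p) Y := by
    rintro Y _ ⟨K, R, hR, ⟨e⟩⟩ hY
    haveI := hR
    exact hfree (CfsgLib.Fusion.involves_of_injective K.subtype K.subtype_injective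
      (CfsgLib.Fusion.involves_of_surjective (QuotientGroup.mk' (R.subgroupOf K))
        (QuotientGroup.mk'_surjective _)
        (CfsgLib.Fusion.involves_of_injective e.symm.toMonoidHom e.symm.injective hY)))
  exact ⟨strongCtrl_of_constrained kInfLower_isCharPFunctor _ G rfl fun Y _ _ hY hcon T =>
      (kInf_normal_of_qdFree hp (up Y hY) hcon T).1,
    strongCtrl_of_constrained kInfUpper_isCharPFunctor _ G rfl fun Y _ _ hY hcon T =>
      (kInf_normal_of_qdFree hp (up Y hY) hcon T).2⟩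

/-- Transfer control for `p ≥ 5` by a functor normal in the absence of quartic elements. -/
theorem ctrl_of_quartic {W : ∀ (Q : Type u) [Group Q], Subgroup Q} (hW : Cfsg.IsCharPFunctor.{u} p W)
    (hp : 5 ≤ p)
    (hq : ∀ (X : Type u) [Group X] [Finite X] (S : Sylow p X),
      ¬ (Cfsg.inducedFunctor W (S : Subgroup X)).Normal →
        ¬ (Cfsg.inducedFunctor Cfsg.kInfLower (S : Subgroup X)).Normal ∨
          ¬ (Cfsg.inducedFunctor Cfsg.kInfUpper (S : Subgroup X)).Normal)
    {G : Type u} [Group G] [Finite G] : Ctrl p {W} G := by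
  by_contra hfail
  obtain ⟨K, R, hR, hm⟩ := exists_minFail (𝓦 := {W})
    (fun W' hW' => Set.mem_singleton_iff.1 hW' ▸ hW) (Set.singleton_nonempty W) hfail
  haveI := hR
  obtain ⟨T⟩ := (inferInstance : Nonempty (Sylow p (↥K ⧸ R.subgroupOf K)))
  refine hm.not_le T (le_iSup₂_of_le _ ⟨W, rfl, rfl⟩ ?_)
  by_cases hn : (Cfsg.inducedFunctor W (T : Subgroup (↥K ⧸ R.subgroupOf K))).Normal
  · haveI := hn
    simp only [top_inf_eq, Subgroup.normalizer_eq_top]
    exact inf_le_inf le_rfl (le_of_eq (_root_.commutator_def _))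
  · obtain ⟨g, h1, h2, h3, -, -⟩ := Cfsg.Agent.S1983.result T (hq _ T hn)
    obtain ⟨U, V, hc, hU, hnot⟩ := hm.no_engel T h1 h2
    haveI := hc.2.1
    exact absurd ((iterCommutator_antitone (le_top.trans (Subgroup.normalizer_eq_top U).ge)
      (by omega : 4 ≤ p - 1)).trans (h3 U V hc hU)) hnot

end CfsgLib.CFun
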