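import Cfsg.Agent.Lib.CFun.OddCriteria
import Cfsg.Agent.S1293
import Cfsg.Agent.Lib.Invol.SolvableBalance
import Cfsg.Agent.Lib.Invol.CharTwo
import Cfsg.Agent.Lib.Coprime.Fitting
import Cfsg.Agent.Lib.PGroup.Basic
import Cfsg.Agent.Lib.Char.CNOdd
import Cfsg.Agent.Lib.Fusion.System.QdConstrained
import Cfsg.Agent.Lib.CFun.Functor

/-!
# Cores of maximal subgroups of a minimal simple group of odd order
-/

set_option autoImplicit false
set_option linter.style.haveILetI false
set_option linter.unusedSectionVars false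

open Subgroup
open scoped commutatorElement
open CfsgLib.Coprime (conj_mem_of_le_normalizer)

namespace CfsgLib.CFun

universe u

variable {G : Type u} [Group G] [Finite G]

/-- `O_s(H)` inside the ambient group. -/
def core (H : Subgroup G) (s : ℕ) : Subgroup G := (Cfsg.pCore s H).map H.subtype

/-- `O_{s'}(H)` inside the ambient group. -/
def coCore (H : Subgroup G) (s : ℕ) : Subgroup G := (Cfsg.pPrimeCore s H).map H.subtype

variable {H L X Y : Subgroup G} {r s : ℕ}

theorem core_le : core H s ≤ H := map_subtype_le _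

theorem coCore_le : coCore H s ≤ H := map_subtype_le _

theorem isPGroup_core [Fact s.Prime] : IsPGroup s (core H s) :=
  (CfsgLib.Coprime.pCore_isPGroup s).map _

theorem le_normalizer_core : H ≤ normalizer (core H s : Set G) := fun h hh => by
  haveI := CfsgLib.Coprime.pCore_normal' (G := H) s
  exact le_normalizer_map H.subtype ⟨⟨h, hh⟩,
    (normalizer_eq_top (Cfsg.pCore s H)).symm ▸ mem_top _, rfl⟩

theorem le_normalizer_coCore : H ≤ normalizer (coCore H s : Set G) := fun h hh => by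
  haveI : (Cfsg.pPrimeCore s H).Normal := Subgroup.sSup_normal _ fun _ h => h.1
  exact le_normalizer_map H.subtype ⟨⟨h, hh⟩,
    (normalizer_eq_top (Cfsg.pPrimeCore s H)).symm ▸ mem_top _, rfl⟩

theorem not_dvd_coCore [Fact s.Prime] : ¬ s ∣ Nat.card (coCore H s) := by
  rw [coCore, card_map_of_injective H.subtype_injective]
  exact CfsgLib.Coprime.pPrimeCore_not_dvd (Fact.out : s.Prime)

theorem le_coCore [Fact s.Prime] (hX : X ≤ H) (hn : H ≤ normalizer (X : Set G))
    (hs : ¬ s ∣ Nat.card X) : X ≤ coCore H s := by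
  haveI : (X.subgroupOf H).Normal := normal_subgroupOf_of_le_normalizer hn
  have h1 : X.subgroupOf H ≤ Cfsg.pPrimeCore s H :=
    CfsgLib.Coprime.le_pPrimeCore_of_not_dvd (Fact.out : s.Prime) (by
      rwa [Nat.card_congr (subgroupOfEquivOfLe hX).toEquiv])
  exact fun x hx => ⟨⟨x, hX hx⟩, h1 hx, rfl⟩

theorem not_dvd_of_isPGroup [Fact s.Prime] [Fact r.Prime] (h : r ≠ s) (hX : IsPGroup r X) :
    ¬ s ∣ Nat.card X := fun hd => by
  obtain ⟨k, hk⟩ := IsPGroup.iff_card.1 hX
  rw [hk] at hd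
  exact h ((Nat.prime_dvd_prime_iff_eq Fact.out Fact.out).1 ((Fact.out : s.Prime).dvd_of_dvd_pow hd)).symm

theorem inf_eq_bot_of_isPGroup [Fact s.Prime] (hX : IsPGroup s X) (hY : ¬ s ∣ Nat.card Y) :
    X ⊓ Y = ⊥ := by
  obtain ⟨k, hk⟩ := IsPGroup.iff_card.1 (hX.to_le (inf_le_left : X ⊓ Y ≤ X))
  rcases k with _ | k
  · exact card_eq_one.1 (by rw [hk, pow_zero])
  · exact absurd ((dvd_pow_self s k.succ_ne_zero).trans
      (hk ▸ card_dvd_of_le (inf_le_right : X ⊓ Y ≤ Y))) hY

theorem core_le_coCore [Fact s.Prime] [Fact r.Prime] (h : r ≠ s) : core H r ≤ coCore H s :=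
  le_coCore core_le le_normalizer_core (not_dvd_of_isPGroup h isPGroup_core)

theorem le_centralizer_of_inf_eq_bot (hXY : X ≤ normalizer (Y : Set G))
    (hYX : Y ≤ normalizer (X : Set G)) (h : X ⊓ Y = ⊥) : X ≤ centralizer (Y : Set G) :=
  commutator_eq_bot_iff_le_centralizer.1 (le_bot_iff.1 (h ▸ le_inf
    (le_normalizer_iff_commutator_le_left.1 hYX) (le_normalizer_iff_commutator_le_right.1 hXY)))

theorem core_le_fittingOf [Fact s.Prime] : core H s ≤ Cfsg.fittingOf H :=
  map_mono (CfsgLib.Coprime.pCore_le_fitting s)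

theorem fittingOf_le_of_cores (h : ∀ t : ℕ, t.Prime → core H t ≤ X) : Cfsg.fittingOf H ≤ X := by
  rw [Cfsg.fittingOf, CfsgLib.Coprime.fitting_eq_iSup_pCore, Subgroup.map_iSup]
  exact iSup_le fun t => h t t.2

theorem fittingOf_le : Cfsg.fittingOf H ≤ H := map_subtype_le _

theorem le_normalizer_fittingOf : H ≤ normalizer (Cfsg.fittingOf H : Set G) := fun h hh => by
  haveI := CfsgLib.Coprime.fitting_normal (G := H)
  exact le_normalizer_map H.subtype ⟨⟨h, hh⟩,
    (normalizer_eq_top (Cfsg.fittingSubgroup H)).symm ▸ mem_top _, rfl⟩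

theorem centralizer_fittingOf_le [Group.IsSolvable H] :
    H ⊓ centralizer (Cfsg.fittingOf H : Set G) ≤ Cfsg.fittingOf H := by
  rintro x ⟨hxH, hxC⟩
  refine ⟨⟨x, hxH⟩, CfsgLib.Coprime.centralizer_fitting_le (mem_centralizer_iff.2 fun f hf =>
    Subtype.ext (mem_centralizer_iff.1 hxC _ ⟨f, hf, rfl⟩)), rfl⟩

theorem core_ne_bot_of_dvd [Fact s.Prime] (h : s ∣ Nat.card (Cfsg.fittingOf H)) :
    core H s ≠ ⊥ := fun hb => by
  refine not_dvd_coCore (H := H) (h.trans (card_dvd_of_le (fittingOf_le_of_cores fun t ht => ?_)))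
  haveI : Fact t.Prime := ⟨ht⟩
  rcases eq_or_ne t s with rfl | hne
  · rw [hb]; exact bot_le
  · exact core_le_coCore hne

theorem dvd_of_core_ne_bot [Fact s.Prime] (h : core H s ≠ ⊥) :
    s ∣ Nat.card (Cfsg.fittingOf H) := by
  by_contra hd
  exact h ((inf_eq_bot_of_isPGroup isPGroup_core hd).symm ▸
    (inf_eq_left.2 core_le_fittingOf).symm)

theorem le_core_of_le_fittingOf [Fact s.Prime] (hX : X ≤ Cfsg.fittingOf H) (hXs : IsPGroup s X) :
    X ≤ core H s := by
  haveI := CfsgLib.Coprime.fitting_normal (G := H)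
  haveI := CfsgLib.Coprime.fitting_isNilpotent (G := H)
  have hle : X.subgroupOf H ≤ Cfsg.fittingSubgroup H := fun x hx => by
    obtain ⟨f, hf, e⟩ := hX hx
    have : f = x := Subtype.ext e
    exact this ▸ hf
  have h1 : (X.subgroupOf H).IsSubnormal :=
    IsSubnormal.trans hle (CfsgLib.PGroup.isSubnormal_of_isNilpotent _)
      (Normal.isSubnormal inferInstance)
  have h2 : X.subgroupOf H ≤ Cfsg.pCore s H := CfsgLib.Coprime.le_pCore_of_isSubnormal h1
    (hXs.of_equiv (subgroupOfEquivOfLe (hX.trans fittingOf_le)).symm)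
  exact fun x hx => ⟨⟨x, fittingOf_le (hX hx)⟩, h2 hx, rfl⟩

/-- The transfer lemma: `p'`-subgroups invariant in the centralizer of a `p`-subgroup. -/
theorem le_coCore_of_centralizer [Group.IsSolvable L] [Fact r.Prime] {R : Subgroup G}
    (hR : IsPGroup r R) (hR1 : R ≠ ⊥) (hRL : R ≤ L) (hXL : X ≤ L) (hXr : ¬ r ∣ Nat.card X)
    (hXR : X ≤ centralizer (R : Set G))
    (hn : L ⊓ centralizer (R : Set G) ≤ normalizer (X : Set G)) : X ≤ coCore L r := by
  have hp : r.Prime := Fact.out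
  set R' := R.subgroupOf L
  set X' := X.subgroupOf L
  have hR'1 : R' ≠ ⊥ := fun h => hR1 (by
    rw [← map_subgroupOf_eq_of_le hRL, show R.subgroupOf L = ⊥ from h, Subgroup.map_bot])
  have h1 := (Cfsg.Agent.S1293.result r (CfsgLib.Invol.pLayer_eq_bot_of_solvable (G := L)) R'
    (hR.of_equiv (subgroupOfEquivOfLe hRL).symm) hR'1).2
  set N := normalizer (R' : Set L)
  set C := centralizer (R' : Set L)
  have hCN : C ≤ N := CfsgLib.Coprime.centralizer_le_normalizer_self _
  have hcoe : ∀ {c : L}, c ∈ C → (c : G) ∈ centralizer (R : Set G) := fun {c} hc =>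
    mem_centralizer_iff.2 fun a ha =>
      congrArg Subtype.val (mem_centralizer_iff.1 hc ⟨a, hRL ha⟩ ha)
  haveI hCn : (C.subgroupOf N).Normal :=
    (normal_subgroupOf_iff_le_normalizer hCN).2
      (CfsgLib.Coprime.normalizer_le_normalizer_centralizer _)
  have hXC : X' ≤ C := fun x hx => mem_centralizer_iff.2 fun a ha =>
    Subtype.ext (mem_centralizer_iff.1 (hXR hx) a ha)
  haveI : ((X'.subgroupOf N).subgroupOf (C.subgroupOf N)).Normal := by
    refine ⟨fun x hx g => ?_⟩
    simp only [mem_subgroupOf] at hx ⊢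
    exact conj_mem_of_le_normalizer hn (mem_inf.2 ⟨g.1.1.2, hcoe g.2⟩) hx
  have hXN : X'.subgroupOf N ≤ C.subgroupOf N := comap_mono hXC
  have hle : (X'.subgroupOf N).subgroupOf (C.subgroupOf N) ≤
      Cfsg.pPrimeCore r (C.subgroupOf N) := by
    refine CfsgLib.Coprime.le_pPrimeCore_of_not_dvd hp ?_
    rw [Nat.card_congr (subgroupOfEquivOfLe hXN).toEquiv,
      Nat.card_congr (subgroupOfEquivOfLe (hXC.trans hCN)).toEquiv,
      Nat.card_congr (subgroupOfEquivOfLe hXL).toEquiv]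
    exact hXr
  have h2 : X'.subgroupOf N ≤ Cfsg.pPrimeCore r N := by
    have h3 := map_mono (f := (C.subgroupOf N).subtype) hle
    rw [map_subgroupOf_eq_of_le hXN, CfsgLib.Coprime.pPrimeCore_map_subtype_eq hp] at h3
    exact h3.trans inf_le_left
  intro x hx
  exact ⟨⟨x, hXL hx⟩,
    h1 ⟨⟨⟨x, hXL hx⟩, hCN (hXC hx)⟩, h2 (show (⟨x, hXL hx⟩ : L) ∈ X' from hx), rfl⟩, rfl⟩

section MinSimple

variable (hG : Cfsg.IsMinSimpleOddOrder G)
include hG

theorem ms_solvable (hH : H ≠ ⊤) : Group.IsSolvable H := hG.2.2.2 H hH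

theorem ms_isSolvable_top (h : Group.IsSolvable (⊤ : Subgroup G)) : False := by
  obtain ⟨hsimp, hnab, -⟩ := hG.2
  haveI := hsimp
  haveI : Group.IsSolvable G :=
    Group.isSolvable_of_surjective (f := (⊤ : Subgroup G).subtype) fun x => ⟨⟨x, mem_top x⟩, rfl⟩
  exact hnab ⟨⟨IsSimpleGroup.comm_iff_isSolvable.2 inferInstance⟩⟩

theorem ms_normalizer_ne_top (hX : X ≠ ⊥) (hX' : X ≠ ⊤) : normalizer (X : Set G) ≠ ⊤ := fun h => by
  haveI := hG.2.1
  haveI : X.Normal := normalizer_eq_top_iff.1 h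
  exact (IsSimpleGroup.eq_bot_or_eq_top_of_normal X inferInstance).elim hX hX'

theorem ms_isPGroup_ne_top {p : ℕ} [Fact p.Prime] (hX : IsPGroup p X) : X ≠ ⊤ := by
  rintro rfl
  haveI := hX.isNilpotent
  exact ms_isSolvable_top hG inferInstance

theorem ms_normalizer_eq (hL : IsCoatom L) (hXL : X ≤ L) (hX : X ≠ ⊥)
    (hn : L ≤ normalizer (X : Set G)) : normalizer (X : Set G) = L :=
  (hL.le_iff.1 hn).resolve_left (ms_normalizer_ne_top hG hX fun e => hL.1 (top_le_iff.1 (e ▸ hXL)))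

theorem ms_centralizer_le (hL : IsCoatom L) (hXL : X ≤ L) (hX : X ≠ ⊥)
    (hn : L ≤ normalizer (X : Set G)) : centralizer (X : Set G) ≤ L :=
  (CfsgLib.Coprime.centralizer_le_normalizer_self X).trans (ms_normalizer_eq hG hL hXL hX hn).le

theorem ms_ne_two {p : ℕ} [Fact p.Prime] (h : p ∣ Nat.card G) : p ≠ 2 := by
  rintro rfl
  exact Nat.not_even_iff_odd.2 hG.1 (even_iff_two_dvd.2 h)

end MinSimple

/-- The product of the cores avoiding the primes of `S` other than `q`. -/
def coLayer (H : Subgroup G) (S : Finset ℕ) (q : ℕ) : Subgroup G :=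
  H ⊓ ⨅ s ∈ S.erase q, coCore H s

theorem coLayer_le {S : Finset ℕ} {q : ℕ} : coLayer H S q ≤ H := inf_le_left

theorem coLayer_le_coCore {S : Finset ℕ} {q : ℕ} (hs : s ∈ S) (hsq : s ≠ q) :
    coLayer H S q ≤ coCore H s :=
  inf_le_right.trans (iInf₂_le s (Finset.mem_erase.2 ⟨hsq, hs⟩))

theorem le_coLayer {S : Finset ℕ} {q : ℕ} (hX : X ≤ H)
    (h : ∀ s ∈ S, s ≠ q → X ≤ coCore H s) : X ≤ coLayer H S q :=
  le_inf hX (le_iInf₂ fun s hs => h s (Finset.mem_erase.1 hs).2 (Finset.mem_erase.1 hs).1)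

theorem le_normalizer_coLayer {S : Finset ℕ} {q : ℕ} :
    H ≤ normalizer (coLayer H S q : Set G) := by
  refine CfsgLib.Coprime.inf_le_normalizer le_normalizer fun g hg => ?_
  rw [mem_normalizer_iff]
  intro x
  simp only [mem_iInf, SetLike.mem_coe]
  exact ⟨fun h s hs => (mem_normalizer_iff.1 (le_normalizer_coCore (s := s) hg) x).1 (h s hs),
    fun h s hs => (mem_normalizer_iff.1 (le_normalizer_coCore (s := s) hg) x).2 (h s hs)⟩

/-- Two maximal subgroups whose cores lie in one another. -/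
structure CorePair (H L : Subgroup G) (S : Finset ℕ) : Prop where
  prime : ∀ s ∈ S, s.Prime
  two : 1 < S.card
  maxH : IsCoatom H
  maxL : IsCoatom L
  neH : ∀ s ∈ S, core H s ≠ ⊥
  neL : ∀ s ∈ S, core L s ≠ ⊥
  leL : ∀ s ∈ S, core H s ≤ L
  leH : ∀ s ∈ S, core L s ≤ H
  botH : ∀ Y : Subgroup G, Y ≤ H → H ≤ normalizer (Y : Set G) →
    (∀ s ∈ S, ¬ s ∣ Nat.card Y) → Y = ⊥
  botL : ∀ Y : Subgroup G, Y ≤ L → L ≤ normalizer (Y : Set G) →
    (∀ s ∈ S, ¬ s ∣ Nat.card Y) → Y = ⊥

theorem CorePair.symm {S : Finset ℕ} (h : CorePair H L S) : CorePair L H S :=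
  ⟨h.prime, h.two, h.maxL, h.maxH, h.neL, h.neH, h.leH, h.leL, h.botL, h.botH⟩

theorem CorePair.coLayer_le (hG : Cfsg.IsMinSimpleOddOrder G) {S : Finset ℕ} (h : CorePair H L S)
    {q : ℕ} (hq : q ∈ S) : coLayer H S q ≤ coLayer L S q := by
  haveI : Group.IsSolvable H := ms_solvable hG h.maxH.1
  haveI : Group.IsSolvable L := ms_solvable hG h.maxL.1
  have hfact : ∀ {t : ℕ}, t ∈ S → Fact t.Prime := fun ht => ⟨h.prime _ ht⟩
  have ha : ∀ {a b : ℕ}, a ∈ S → b ∈ S → a ≠ b → core L a ≤ coCore H b := by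
    intro a b haS hbS hab
    haveI := hfact haS
    haveI := hfact hbS
    have hni : core L a ⊓ core L b = ⊥ :=
      inf_eq_bot_of_isPGroup isPGroup_core (not_dvd_of_isPGroup hab.symm isPGroup_core)
    refine le_coCore_of_centralizer isPGroup_core (h.neL b hbS) (h.leH b hbS) (h.leH a haS)
      (not_dvd_of_isPGroup hab isPGroup_core)
      (le_centralizer_of_inf_eq_bot (core_le.trans le_normalizer_core)
        (core_le.trans le_normalizer_core) hni)
      (inf_le_right.trans ((ms_centralizer_le hG h.maxL core_le (h.neL b hbS)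
        le_normalizer_core).trans le_normalizer_core))
  have hbot : ∀ {a b : ℕ}, a ≠ b → coLayer H S a ⊓ coLayer H S b = ⊥ := fun {a b} hab =>
    h.botH _ (inf_le_left.trans CfsgLib.CFun.coLayer_le)
      (CfsgLib.Coprime.inf_le_normalizer le_normalizer_coLayer le_normalizer_coLayer)
      fun s hs hd => by
        haveI := hfact hs
        rcases ne_or_eq s a with hsa | hsa
        · exact not_dvd_coCore (H := H)
            (hd.trans (card_dvd_of_le (inf_le_left.trans (coLayer_le_coCore hs hsa))))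
        · exact not_dvd_coCore (H := H)
            (hd.trans (card_dvd_of_le (inf_le_right.trans (coLayer_le_coCore hs (hsa ▸ hab)))))
  have hcomm : ∀ {a b : ℕ}, a ≠ b → coLayer H S a ≤ centralizer (coLayer H S b : Set G) :=
    fun hab => le_centralizer_of_inf_eq_bot (CfsgLib.CFun.coLayer_le.trans le_normalizer_coLayer)
      (CfsgLib.CFun.coLayer_le.trans le_normalizer_coLayer) (hbot hab)
  obtain ⟨r₀, hr₀, hne⟩ := Finset.exists_mem_ne h.two q
  haveI := hfact hr₀
  have hL : coLayer H S q ≤ L := by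
    refine (hcomm hne.symm).trans ((centralizer_le ?_).trans
      (ms_centralizer_le hG h.maxL core_le (h.neL r₀ hr₀) le_normalizer_core))
    exact le_coLayer (h.leH r₀ hr₀) fun s hs hsr => ha hr₀ hs hsr.symm
  refine le_coLayer hL fun r hr hrq => ?_
  haveI := hfact hr
  refine le_coCore_of_centralizer isPGroup_core (h.neH r hr) (h.leL r hr) hL
    (fun hd => not_dvd_coCore (H := H) (hd.trans (card_dvd_of_le (coLayer_le_coCore hr hrq))))
    ((hcomm hrq.symm).trans (centralizer_le ?_))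
    (inf_le_right.trans ((ms_centralizer_le hG h.maxH core_le (h.neH r hr)
      le_normalizer_core).trans le_normalizer_coLayer))
  refine le_coLayer core_le fun s hs hsr => ?_
  haveI := hfact hs
  exact core_le_coCore hsr.symm

theorem CorePair.eq (hG : Cfsg.IsMinSimpleOddOrder G) {S : Finset ℕ} (h : CorePair H L S) :
    H = L := by
  obtain ⟨q, hq⟩ := Finset.card_pos.1 (lt_trans zero_lt_one h.two)
  haveI : Fact q.Prime := ⟨h.prime q hq⟩
  have e : coLayer H S q = coLayer L S q :=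
    le_antisymm (h.coLayer_le hG hq) (h.symm.coLayer_le hG hq)
  have hne : coLayer H S q ≠ ⊥ := ne_bot_of_le_ne_bot (h.neH q hq)
    (le_coLayer core_le fun s hs hsq => by
      haveI : Fact s.Prime := ⟨h.prime s hs⟩
      exact core_le_coCore hsq.symm)
  rw [← ms_normalizer_eq hG h.maxH CfsgLib.CFun.coLayer_le hne le_normalizer_coLayer, e,
    ms_normalizer_eq hG h.maxL CfsgLib.CFun.coLayer_le (e ▸ hne) le_normalizer_coLayer]

end CfsgLib.CFun
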