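import Cfsg.Agent.Lib.CFun.OddSCNSetup
import Cfsg.Agent.Lib.PGroup.MetacyclicOmega
import Cfsg.Agent.Lib.Fusion.ZJElementary

/-!
# Invariant `q`-subgroups that are uniqueness subgroups
-/

set_option autoImplicit false
set_option linter.style.haveILetI false
set_option linter.unusedSectionVars false

open Subgroup
open scoped commutatorElement
open CfsgLib.Coprime (conjBy conjBy_conjBy conjBy_one conjBy_eq_self_iff mem_conjBy conj_mem_conjBy
  conj_mem_of_le_normalizer card_conjBy IsSylowIn)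

namespace CfsgLib.CFun

universe u

variable {G : Type u} [Group G]

/-- The central elements of exponent `q` of a subgroup. -/
def centerSocle (X : Subgroup G) (q : ℕ) : Subgroup G where
  carrier := {x | x ∈ X ∧ x ^ q = 1 ∧ ∀ y ∈ X, Commute x y}
  one_mem' := ⟨one_mem X, one_pow q, fun y _ => Commute.one_left y⟩
  mul_mem' := fun {a b} ⟨ha, haq, hac⟩ ⟨hb, hbq, hbc⟩ => ⟨mul_mem ha hb, by
    rw [(hac b hb).mul_pow, haq, hbq, one_mul], fun y hy => (hac y hy).mul_left (hbc y hy)⟩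
  inv_mem' := fun {a} ⟨ha, haq, hac⟩ => ⟨inv_mem ha, by rw [inv_pow, haq, inv_one],
    fun y hy => (hac y hy).inv_left⟩

theorem mem_centerSocle {X : Subgroup G} {q : ℕ} {x : G} :
    x ∈ centerSocle X q ↔ x ∈ X ∧ x ^ q = 1 ∧ ∀ y ∈ X, Commute x y := Iff.rfl

theorem centerSocle_le {X : Subgroup G} {q : ℕ} : centerSocle X q ≤ X := fun _ h => h.1

theorem isElementaryAbelian_centerSocle (X : Subgroup G) (q : ℕ) :
    Cfsg.IsElementaryAbelian q (centerSocle X q) :=
  ⟨⟨⟨fun a b => Subtype.ext (a.2.2.2 b b.2.1).eq⟩⟩, fun _ h => h.2.1⟩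

theorem normalizer_le_normalizer_centerSocle (X : Subgroup G) (q : ℕ) :
    normalizer (X : Set G) ≤ normalizer (centerSocle X q : Set G) := by
  have key : ∀ g ∈ normalizer (X : Set G), ∀ x ∈ centerSocle X q, g * x * g⁻¹ ∈ centerSocle X q := by
    rintro g hg x ⟨hx, hxq, hxc⟩
    refine ⟨(mem_normalizer_iff.1 hg x).1 hx, by rw [conj_pow, hxq, mul_one, mul_inv_cancel],
      fun y hy => ?_⟩
    have h1 := hxc (g⁻¹ * y * g) ((mem_normalizer_iff''.1 hg y).1 hy)
    show g * x * g⁻¹ * y = y * (g * x * g⁻¹)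
    calc g * x * g⁻¹ * y = g * (x * (g⁻¹ * y * g)) * g⁻¹ := by group
      _ = g * ((g⁻¹ * y * g) * x) * g⁻¹ := by rw [h1.eq]
      _ = y * (g * x * g⁻¹) := by group
  intro g hg
  rw [mem_normalizer_iff]
  refine fun x => ⟨key g hg x, fun hx => ?_⟩
  have := key g⁻¹ (inv_mem hg) _ hx
  rwa [inv_inv, show g⁻¹ * (g * x * g⁻¹) * g = x by group] at this

/-- Elements of exponent `q` central modulo the central elements of exponent `q`. -/
def upperSocle {q : ℕ} (hq : q.Prime) (hq2 : q ≠ 2) (Q : Subgroup G) : Subgroup G where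
  carrier := {x | x ∈ Q ∧ x ^ q = 1 ∧ ∀ y ∈ Q, ⁅x, y⁆ ∈ centerSocle Q q}
  one_mem' := ⟨one_mem Q, one_pow q, fun y _ => by
    rw [commutatorElement_one_left]; exact one_mem _⟩
  mul_mem' := fun {a b} ⟨ha, haq, hac⟩ ⟨hb, hbq, hbc⟩ => ⟨mul_mem ha hb, by
    have h := hbc a ha
    rw [CfsgLib.Fusion.mul_pow_eq_of_central_commutator hq hq2 (c := ⁅b, a⁆)
      (by rw [commutatorElement_def]; group) (h.2.2 a ha) (h.2.2 b hb) h.2.1, haq, hbq, one_mul],
    fun y hy => by
      have h1 := hbc y hy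
      rw [show ⁅a * b, y⁆ = a * ⁅b, y⁆ * a⁻¹ * ⁅a, y⁆ by
        simp only [commutatorElement_def]; group]
      refine mul_mem ?_ (hac y hy)
      rw [(h1.2.2 a ha).symm.eq, mul_inv_cancel_right]
      exact h1⟩
  inv_mem' := fun {a} ⟨ha, haq, hac⟩ => ⟨inv_mem ha, by rw [inv_pow, haq, inv_one], fun y hy => by
    have h1 := hac y hy
    rw [show ⁅a⁻¹, y⁆ = a⁻¹ * ⁅a, y⁆⁻¹ * a by simp only [commutatorElement_def]; group,
      ((h1.2.2 a ha).symm.inv_left.inv_right).eq, inv_mul_cancel_right]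
    exact inv_mem h1⟩

theorem upperSocle_le {q : ℕ} (hq : q.Prime) (hq2 : q ≠ 2) {Q : Subgroup G} :
    upperSocle hq hq2 Q ≤ Q := fun _ h => h.1

theorem le_normalizer_upperSocle {q : ℕ} (hq : q.Prime) (hq2 : q ≠ 2) (Q : Subgroup G) :
    normalizer (Q : Set G) ≤ normalizer (upperSocle hq hq2 Q : Set G) := by
  have key : ∀ g ∈ normalizer (Q : Set G), ∀ x ∈ upperSocle hq hq2 Q,
      g * x * g⁻¹ ∈ upperSocle hq hq2 Q := by
    rintro g hg x ⟨hx, hxq, hxc⟩
    refine ⟨(mem_normalizer_iff.1 hg x).1 hx, by rw [conj_pow, hxq, mul_one, mul_inv_cancel],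
      fun y hy => ?_⟩
    have h1 := (mem_normalizer_iff.1 (normalizer_le_normalizer_centerSocle Q q hg) _).1
      (hxc (g⁻¹ * y * g) ((mem_normalizer_iff''.1 hg y).1 hy))
    rwa [show ⁅g * x * g⁻¹, y⁆ = g * ⁅x, g⁻¹ * y * g⁆ * g⁻¹ by
      simp only [commutatorElement_def]; group]
  intro g hg
  rw [mem_normalizer_iff]
  refine fun x => ⟨key g hg x, fun hx => ?_⟩
  have := key g⁻¹ (inv_mem hg) _ hx
  rwa [inv_inv, show g⁻¹ * (g * x * g⁻¹) * g = x by group] at this

variable [Finite G] {p : ℕ} [hp : Fact p.Prime]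

theorem centerSocle_le_upperSocle {q : ℕ} (hq : q.Prime) (hq2 : q ≠ 2) {Q : Subgroup G} :
    centerSocle Q q ≤ upperSocle hq hq2 Q := fun x hx => ⟨hx.1, hx.2.1, fun y hy => by
  rw [commutatorElement_eq_one_iff_commute.2 (hx.2.2 y hy)]; exact one_mem _⟩

/-- A nontrivial `q`-group has central elements of order `q`. -/
theorem centerSocle_ne_bot {q : ℕ} [Fact q.Prime] {X : Subgroup G} (hX : IsPGroup q X)
    {W : Subgroup G} (hWX : W ≤ X) (hn : X ≤ normalizer (W : Set G)) (hW : W ≠ ⊥) :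
    ∃ x ∈ W ⊓ centerSocle X q, x ≠ 1 := by
  haveI := hX.isNilpotent
  haveI : (W.subgroupOf X).Normal := normal_subgroupOf_of_le_normalizer hn
  have h1 := CfsgLib.Coprime.nilpotent_inf_center_ne_bot (W.subgroupOf X) fun h => hW (by
    rw [← map_subgroupOf_eq_of_le hWX, h, Subgroup.map_bot])
  set Z := W.subgroupOf X ⊓ center X
  obtain ⟨k, hk⟩ := IsPGroup.iff_card.1 (hX.to_subgroup Z)
  rcases k with _ | k
  · exact absurd (card_eq_one.1 (by rw [hk, pow_zero])) h1
  obtain ⟨z, hz⟩ := exists_prime_orderOf_dvd_card' q (hk ▸ dvd_pow_self q k.succ_ne_zero)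
  refine ⟨((z : X) : G), ⟨z.2.1, (z : X).2, ?_, fun y hy => ?_⟩, fun h => ?_⟩
  · have := pow_orderOf_eq_one z
    rw [hz] at this
    exact congrArg (fun w : Z => ((w : X) : G)) this
  · exact congrArg Subtype.val (mem_center_iff.1 z.2.2 ⟨y, hy⟩).symm
  · have : z = 1 := Subtype.ext (Subtype.ext h)
    rw [this, orderOf_one] at hz
    exact (Fact.out : q.Prime).ne_one hz.symm

/-- A normal elementary subgroup of order `q²` lies in the upper socle. -/
theorem le_upperSocle_of_normal_two {q : ℕ} [hqf : Fact q.Prime] (hq2 : q ≠ 2) {Q E' : Subgroup G}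
    (hQ : IsPGroup q Q) (hE'Q : E' ≤ Q) (hQE' : Q ≤ normalizer (E' : Set G))
    (hE'e : Cfsg.IsElementaryAbelian q E') (hE'2 : Nat.card E' = q ^ 2) :
    E' ≤ upperSocle hqf.out hq2 Q := by
  intro x hx
  refine ⟨hE'Q hx, hE'e.2 x hx, fun y hy => ?_⟩
  -- modulo a central line, `E'` is central
  obtain ⟨z, hz, hz1⟩ := centerSocle_ne_bot hQ hE'Q hQE' fun h => by
    rw [h, card_bot] at hE'2
    exact absurd hE'2.symm (ne_of_gt (Nat.one_lt_pow (by norm_num) hqf.out.one_lt))
  have hzc : zpowers z ≤ centerSocle Q q := zpowers_le.2 hz.2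
  haveI hTn : ((zpowers z).subgroupOf Q).Normal := ⟨fun n hn g => by
    have := ((hzc (mem_subgroupOf.1 hn)).2.2 (g : G) g.2).symm.eq
    rw [mem_subgroupOf, Subgroup.coe_mul, Subgroup.coe_mul, Subgroup.coe_inv, this,
      mul_inv_cancel_right]
    exact mem_subgroupOf.1 hn⟩
  haveI : (E'.subgroupOf Q).Normal := normal_subgroupOf_of_le_normalizer hQE'
  set π := QuotientGroup.mk' ((zpowers z).subgroupOf Q)
  haveI : ((E'.subgroupOf Q).map π).Normal :=
    Subgroup.Normal.map inferInstance π (QuotientGroup.mk'_surjective _)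
  have hcard : Nat.card ↥((E'.subgroupOf Q).map π) ≤ q := by
    have hle : (zpowers z).subgroupOf Q ≤ E'.subgroupOf Q := comap_mono (zpowers_le.2 hz.1)
    have h1 := card_mul_index (((zpowers z).subgroupOf Q).subgroupOf (E'.subgroupOf Q))
    rw [Nat.card_congr (subgroupOfEquivOfLe hle).toEquiv,
      Nat.card_congr (subgroupOfEquivOfLe ((zpowers_le.2 hz.1).trans hE'Q)).toEquiv,
      Nat.card_congr (subgroupOfEquivOfLe hE'Q).toEquiv, ← Subgroup.relIndex] at h1
    have h2 : ((zpowers z).subgroupOf Q).relIndex (E'.subgroupOf Q) =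
        Nat.card ↥((E'.subgroupOf Q).map π) := by
      rw [← relIndex_ker (f := π), QuotientGroup.ker_mk']
    rw [h2, hE'2, card_zpowers_of_mem_elementary hE'e hz.1 hz1, sq] at h1
    exact (Nat.eq_of_mul_eq_mul_left hqf.out.pos h1).le
  have hcen := CfsgLib.MetacyclicOmega.le_center_of_card_le (hQ.to_quotient _) _ hcard
    (mem_map_of_mem π (show (⟨x, hE'Q hx⟩ : Q) ∈ E'.subgroupOf Q from hx))
  have h3 : π ⁅(⟨x, hE'Q hx⟩ : Q), ⟨y, hy⟩⁆ = 1 := by
    rw [map_commutatorElement, commutatorElement_eq_one_iff_commute]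
    exact ((mem_center_iff.1 hcen) (π ⟨y, hy⟩)).symm
  exact hzc ((QuotientGroup.eq_one_iff (N := (zpowers z).subgroupOf Q) _).1 h3)

/-- A noncyclic group has a noncyclic upper socle. -/
theorem lt_card_upperSocle {q : ℕ} [hqf : Fact q.Prime] (hq2 : q ≠ 2) {Q : Subgroup G}
    (hQ : IsPGroup q Q) (hnc : ¬ IsCyclic Q) : q < Nat.card (upperSocle hqf.out hq2 Q) := by
  obtain ⟨E', hE'Q, hQE', hE'e, hE'2⟩ := exists_normal_elementary_two hq2 hQ hnc
  refine lt_of_lt_of_le ?_ (card_le_of_le (le_upperSocle_of_normal_two hq2 hQ hE'Q hQE' hE'e hE'2))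
  rw [hE'2]
  calc q = q ^ 1 := (pow_one q).symm
    _ < q ^ 2 := Nat.pow_lt_pow_right hqf.out.one_lt (by norm_num)

/-- The conjugating group. -/
local notation "Θ" A => Cfsg.piCoreOf (Cfsg.primesNotDvd (Nat.card A)) (centralizer (A : Set G))

/-- A maximal invariant `q`-subgroup whose elementary subgroups of rank three are uniqueness
subgroups, in its maximal subgroup `M`. -/
structure Anchor (p : ℕ) (A E : Subgroup G) (q : ℕ) (Q M : Subgroup G) : Prop where
  data : SCNData p A E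
  prime : q.Prime
  ne : q ≠ p
  ne_two : q ≠ 2
  maxM : IsCoatom M
  maxQ : IsMaxInv A q Q
  leM : Q ≤ M
  rank : ¬ Cfsg.PRankLE q 2 Q
  big : ∀ V : Subgroup G, V ≤ Q → Cfsg.IsElementaryAbelian q V → q ^ 3 ≤ Nat.card V →
    Cfsg.InUniqueMaximal V

variable {A E Q M : Subgroup G} {q : ℕ}

theorem Anchor.noncyclic (h : Anchor p A E q Q M) : ¬ IsCyclic Q := fun hc => by
  haveI : Fact q.Prime := ⟨h.prime⟩
  obtain ⟨V, hVQ, hVe, hV3⟩ := exists_elementary_of_not_pRankLE h.rank
  haveI := hc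
  exact not_isCyclic_of_elementary hVe (hV3 ▸ Nat.pow_le_pow_right h.prime.pos (by norm_num))
    (isCyclic_of_injective (Subgroup.inclusion hVQ) (Subgroup.inclusion_injective _))

/-- Proper overgroups of an elementary subgroup of rank three of `Q` lie in `M`. -/
theorem Anchor.le_of_rank (h : Anchor p A E q Q M) {V Y : Subgroup G} (hVQ : V ≤ Q)
    (hVe : Cfsg.IsElementaryAbelian q V) (hV3 : q ^ 3 ≤ Nat.card V) (hVY : V ≤ Y) (hY : Y ≠ ⊤) :
    Y ≤ M :=
  le_of_unique h.data.hG (h.big V hVQ hVe hV3) h.maxM (hVQ.trans h.leM) hVY hY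

/-- The upper socle of `Q`. -/
def Anchor.socle (h : Anchor p A E q Q M) : Subgroup G := upperSocle h.prime h.ne_two Q

theorem Anchor.socle_le (h : Anchor p A E q Q M) : h.socle ≤ Q := upperSocle_le _ _

theorem Anchor.socle_inv (h : Anchor p A E q Q M) : A ≤ normalizer (h.socle : Set G) :=
  h.maxQ.2.1.trans (le_normalizer_upperSocle _ _ Q)

/-- Centralizers of elements of the upper socle lie in `M`, and so do their normalizers. -/
theorem Anchor.socle_cen (h : Anchor p A E q Q M) {u : G} (hu : u ∈ h.socle) (hu1 : u ≠ 1) :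
    centralizer ({u} : Set G) ≤ M ∧ normalizer (zpowers u : Set G) ≤ M := by
  haveI : Fact q.Prime := ⟨h.prime⟩
  obtain ⟨huQ, huq, huc⟩ := hu
  have hQp := h.maxQ.1
  suffices key : ∃ Y : Subgroup G, Cfsg.InUniqueMaximal Y ∧ Y ≤ M ∧ Y ≤ centralizer ({u} : Set G) by
    obtain ⟨Y, hY, hYM, hYu⟩ := key
    refine ⟨le_of_unique h.data.hG hY h.maxM hYM hYu
      (ms_centralizer_singleton_ne_top h.data.hG hu1), ?_⟩
    refine le_of_unique h.data.hG hY h.maxM hYM (hYu.trans ?_)
      (ms_normalizer_ne_top h.data.hG (zpowers_ne_bot.2 hu1) (ms_isPGroup_ne_top h.data.hG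
        (hQp.to_le (zpowers_le.2 huQ))))
    rw [← centralizer_closure, ← zpowers_eq_closure]
    exact CfsgLib.Coprime.centralizer_le_normalizer_self _
  obtain ⟨V, hVQ, hVe, hV3⟩ := exists_elementary_of_not_pRankLE h.rank
  set Z := centerSocle Q q
  by_cases huZ : u ∈ Z
  · refine ⟨V, h.big V hVQ hVe hV3.ge, hVQ.trans h.leM, fun v hv => mem_centralizer_iff.2 ?_⟩
    rintro _ rfl
    exact (huZ.2.2 v (hVQ hv)).eq
  -- the normal elementary subgroup generated by `u` and the centre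
  have hWe : Cfsg.IsElementaryAbelian q (zpowers u ⊔ Z) := by
    have hc : zpowers u ⊔ Z ≤ centralizer ((zpowers u ⊔ Z : Subgroup G) : Set G) := by
      refine le_centralizer_iff.1 (sup_le ?_ ?_)
      · refine le_centralizer_iff.1 (sup_le (le_centralizer_of_comm inferInstance) fun z hz => ?_)
        refine mem_centralizer_iff.2 ?_
        intro w hw
        exact ((hz.2.2 w (zpowers_le.2 huQ hw))).symm.eq
      · exact fun z hz => mem_centralizer_iff.2 fun w hw =>
          (hz.2.2 w ((sup_le (zpowers_le.2 huQ) centerSocle_le) hw)).symm.eq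
    refine ⟨⟨⟨fun a b => Subtype.ext (mem_centralizer_iff.1 (hc b.2) _ a.2)⟩⟩, fun w hw => ?_⟩
    have hn : Z ≤ normalizer (zpowers u : Set G) := fun z hz =>
      CfsgLib.Coprime.centralizer_le_normalizer_self _ (mem_centralizer_iff.2 fun v hv =>
        (hz.2.2 v (zpowers_le.2 huQ hv)).symm.eq)
    rw [← SetLike.mem_coe, sup_comm, coe_mul_of_left_le_normalizer_right _ _ hn] at hw
    obtain ⟨z, hz, a, ha, rfl⟩ := hw
    obtain ⟨i, rfl⟩ := mem_zpowers_iff.1 ha
    rw [(hz.2.2 _ (zpowers_le.2 huQ (mem_zpowers_iff.2 ⟨i, rfl⟩))).mul_pow, hz.2.1, one_mul,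
      ← zpow_natCast, ← zpow_mul, mul_comm, zpow_mul, zpow_natCast, huq, one_zpow]
  have hWQ : zpowers u ⊔ Z ≤ Q := sup_le (zpowers_le.2 huQ) centerSocle_le
  have hWu : zpowers u ⊔ Z ≤ centralizer ({u} : Set G) := by
    refine le_trans (le_centralizer_of_comm hWe.1) (centralizer_le ?_)
    simpa using mem_sup_left (mem_zpowers u)
  by_cases hW3 : q ^ 3 ≤ Nat.card ↥(zpowers u ⊔ Z)
  · exact ⟨_, h.big _ hWQ hWe hW3, hWQ.trans h.leM, hWu⟩
  -- then it extends to a self-centralizing subgroup of rank three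
  have hW2 : Nat.card ↥(zpowers u ⊔ Z) = q ^ 2 := by
    obtain ⟨k, hk⟩ := IsPGroup.iff_card.1 (isPGroup_of_elementary hWe)
    obtain ⟨z, hz, hz1⟩ := centerSocle_ne_bot hQp le_rfl le_normalizer
      (fun e => hu1 (mem_bot.1 (e ▸ huQ)))
    have h2 : q ^ 2 ≤ Nat.card ↥(zpowers u ⊔ Z) := by
      refine le_trans (sup_zpowers_card hWe (x := z) (y := u) (mem_sup_right hz.2)
        (mem_sup_left (mem_zpowers u)) hz1 fun hu' => huZ (zpowers_le.2 hz.2 hu')).2.ge
        (card_le_of_le (sup_le (zpowers_le.2 (mem_sup_right hz.2)) le_sup_left))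
    rw [hk] at h2 hW3 ⊢
    have a1 := (Nat.pow_le_pow_iff_right h.prime.one_lt).1 h2
    have a2 : ¬ 3 ≤ k := fun h3 => hW3 (Nat.pow_le_pow_right h.prime.pos h3)
    congr 1
    omega
  set W := zpowers u ⊔ Z
  have hQW : Q ≤ normalizer (W : Set G) := by
    intro y hy
    have key : ∀ y ∈ Q, ∀ w ∈ W, y * w * y⁻¹ ∈ W := by
      intro y hy
      suffices W ≤ W.comap (MulAut.conj y).toMonoidHom from fun w hw => this hw
      refine sup_le (zpowers_le.2 ?_) fun z hz => ?_
      · show y * u * y⁻¹ ∈ W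
        rw [show y * u * y⁻¹ = ⁅u, y⁆⁻¹ * u by rw [commutatorElement_def]; group]
        exact mul_mem (mem_sup_right (inv_mem (huc y hy))) (mem_sup_left (mem_zpowers u))
      · show y * z * y⁻¹ ∈ W
        rw [(hz.2.2 y hy).symm.eq, mul_inv_cancel_right]
        exact mem_sup_right hz
    rw [mem_normalizer_iff]
    refine fun w => ⟨key y hy w, fun hw => ?_⟩
    have := key y⁻¹ (inv_mem hy) _ hw
    rwa [inv_inv, show y⁻¹ * (y * w * y⁻¹) * y = w by group] at this
  haveI : (W.subgroupOf Q).Normal := normal_subgroupOf_of_le_normalizer hQW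
  have hWe' : Cfsg.IsElementaryAbelian q (W.subgroupOf Q) :=
    ⟨⟨⟨fun a b => Subtype.ext (Subtype.ext
      (show ((a : Q) : G) * (b : Q) = (b : Q) * (a : Q) from
        congrArg Subtype.val (hWe.1.is_comm.comm (⟨_, a.2⟩ : W) ⟨_, b.2⟩)))⟩⟩,
      fun a ha => Subtype.ext (hWe.2 a ha)⟩
  obtain ⟨C, hWC, -, hCc, -, hC3⟩ := exists_scn_three_ge h.ne_two hQp h.rank (W.subgroupOf Q) hWe'
    ((Nat.card_congr (subgroupOfEquivOfLe hWQ).toEquiv).trans hW2)
  have hC3' : ¬ Cfsg.PRankLE q 2 ↥(C.map Q.subtype) := fun h' => hC3 fun F hFc hFe => by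
    haveI := hFc
    have h1 := h' (F.map (C.equivMapOfInjective Q.subtype Q.subtype_injective).toMonoidHom)
      inferInstance (by rintro _ ⟨a, ha, rfl⟩; rw [← map_pow, hFe a ha, map_one])
    rwa [card_map_of_injective (C.equivMapOfInjective Q.subtype Q.subtype_injective).injective] at h1
  obtain ⟨V', hV'C, hV'e, hV'3⟩ := exists_elementary_of_not_pRankLE hC3'
  refine ⟨V', h.big V' (hV'C.trans (map_subtype_le C)) hV'e hV'3.ge,
    (hV'C.trans (map_subtype_le C)).trans h.leM, hV'C.trans ?_⟩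
  rintro _ ⟨c, hc, rfl⟩
  refine mem_centralizer_iff.2 ?_
  rintro _ rfl
  exact congrArg (fun w : C => ((w : Q) : G))
    (hCc.is_comm.comm (⟨⟨_, huQ⟩, hWC (mem_sup_left (mem_zpowers _) : _)⟩ : C) ⟨c, hc⟩)

/-- A noncyclic elementary subgroup of the upper socle is a uniqueness subgroup. -/
theorem Anchor.socle_unique (h : Anchor p A E q Q M) {B : Subgroup G} (hB : B ≤ h.socle)
    (hBe : Cfsg.IsElementaryAbelian q B) (hB2 : q ^ 2 ≤ Nat.card B) : Cfsg.InUniqueMaximal B := by
  haveI : Fact q.Prime := ⟨h.prime⟩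
  have hnc := not_isCyclic_of_elementary hBe hB2
  exact inUniqueMaximal_of_inv h.data.hG h.maxM ((hB.trans h.socle_le).trans h.leM) hBe hnc
    fun Y hBY hY => inv_le_of_centralizers h.data.hG h.maxM hBe hnc
      (fun b hb hb1 => (h.socle_cen (hB hb) hb1).1) hBY hY

/-- An element fixing more than a line of the upper socle has its centralizer in `M`. -/
theorem Anchor.good_of_wide (h : Anchor p A E q Q M) {Y : Subgroup G} (hY : Y ≠ ⊤)
    (hw : q < Nat.card ↥(h.socle ⊓ Y)) : Y ≤ M := by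
  haveI : Fact q.Prime := ⟨h.prime⟩
  have hXp : IsPGroup q ↥(h.socle ⊓ Y) := h.maxQ.1.to_le (inf_le_left.trans h.socle_le)
  have hnc : ¬ IsCyclic ↥(h.socle ⊓ Y) := fun hc => by
    obtain ⟨g, hg⟩ := IsCyclic.exists_generator (α := ↥(h.socle ⊓ Y))
    have h1 : Nat.card ↥(h.socle ⊓ Y) ∣ q := by
      rw [← orderOf_eq_card_of_forall_mem_zpowers hg]
      exact orderOf_dvd_of_pow_eq_one (Subtype.ext g.2.1.2.1)
    exact absurd (Nat.le_of_dvd h.prime.pos h1) (not_le.2 hw)
  obtain ⟨B, hBX, -, hBe, hB2⟩ := exists_normal_elementary_two h.ne_two hXp hnc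
  exact le_of_unique h.data.hG (h.socle_unique (hBX.trans inf_le_left) hBe hB2.ge) h.maxM
    (((hBX.trans inf_le_left).trans h.socle_le).trans h.leM) (hBX.trans inf_le_right) hY

theorem Anchor.lt_card_socle (h : Anchor p A E q Q M) : q < Nat.card h.socle :=
  haveI : Fact q.Prime := ⟨h.prime⟩
  lt_card_upperSocle h.ne_two h.maxQ.1 h.noncyclic

theorem Anchor.socle_not_dvd (h : Anchor p A E q Q M) : ¬ p ∣ Nat.card h.socle :=
  haveI : Fact q.Prime := ⟨h.prime⟩
  not_dvd_of_isPGroup h.ne (h.maxQ.1.to_le h.socle_le)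

theorem Anchor.elem_le_normalizer (h : Anchor p A E q Q M) : E ≤ normalizer (h.socle : Set G) :=
  h.data.le.trans h.socle_inv

theorem Anchor.theta_le (h : Anchor p A E q Q M) : (Θ A) ≤ M ∧ A ≤ M := by
  haveI : Fact q.Prime := ⟨h.prime⟩
  obtain ⟨e, he, he1, hw⟩ := exists_wide_fixed h.data.elem h.data.card h.elem_le_normalizer
    h.socle_not_dvd (n := q) h.prime.one_lt.le h.lt_card_socle (fun X hX hX1 => by
      obtain ⟨k, hk⟩ := IsPGroup.iff_card.1 ((h.maxQ.1.to_le h.socle_le).to_le hX)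
      rcases k with _ | k
      · exact absurd (card_eq_one.1 (by rw [hk, pow_zero])) hX1
      · rw [hk]; exact Nat.le_self_pow k.succ_ne_zero q)
  have hC := h.good_of_wide (ms_centralizer_singleton_ne_top h.data.hG he1) hw
  exact ⟨(h.data.theta_le he).trans hC, (h.data.le_centralizer he).trans hC⟩

/-- A bad point normalizes only within `M`. -/
theorem Anchor.normalizer_inf_le (h : Anchor p A E q Q M) {b : G} (hb : b ∈ E) (hb1 : b ≠ 1)
    (hbad : ¬ centralizer ({b} : Set G) ≤ M) (hne : h.socle ⊓ centralizer ({b} : Set G) ≠ ⊥) :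
    normalizer ((Q ⊓ centralizer ({b} : Set G) : Subgroup G) : Set G) ≤ M := by
  haveI : Fact q.Prime := ⟨h.prime⟩
  set C := centralizer ({b} : Set G) with hC
  set X := Q ⊓ C
  have hCtop : C ≠ ⊤ := ms_centralizer_singleton_ne_top h.data.hG hb1
  have hXp : IsPGroup q X := h.maxQ.1.to_le inf_le_left
  set B := centerSocle X q
  have hBQ : B ≤ Q := centerSocle_le.trans inf_le_left
  have hBC : B ≤ C := centerSocle_le.trans inf_le_right
  have hWX : h.socle ⊓ C ≤ X := inf_le_inf_right _ h.socle_le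
  have hXW : X ≤ normalizer ((h.socle ⊓ C : Subgroup G) : Set G) :=
    CfsgLib.Coprime.inf_le_normalizer
      ((inf_le_left.trans le_normalizer).trans (le_normalizer_upperSocle _ _ Q))
      (inf_le_right.trans le_normalizer)
  obtain ⟨x, hx, hx1⟩ := centerSocle_ne_bot hXp hWX hXW hne
  refine (normalizer_le_normalizer_centerSocle X q).trans ?_
  have hBtop : normalizer (B : Set G) ≠ ⊤ := ms_normalizer_ne_top h.data.hG
    (fun e => hx1 (mem_bot.1 (e ▸ hx.2))) (ms_isPGroup_ne_top h.data.hG (h.maxQ.1.to_le hBQ))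
  have hsmall : ∀ {V : Subgroup G}, V ≤ Q → Cfsg.IsElementaryAbelian q V → q ^ 3 ≤ Nat.card V →
      V ≤ C → False := fun hVQ hVe hV3 hVC => hbad (h.le_of_rank hVQ hVe hV3 hVC hCtop)
  obtain ⟨k, hk⟩ := IsPGroup.iff_card.1 (h.maxQ.1.to_le hBQ)
  by_cases hk2 : k ≤ 1
  · -- the socle of the centre is a line inside the upper socle
    have hBx : B = zpowers x := (eq_of_le_of_card_ge (zpowers_le.2 hx.2) (by
      rw [hk, card_zpowers_of_mem_elementary (isElementaryAbelian_centerSocle X q) hx.2 hx1]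
      exact (Nat.pow_le_pow_right h.prime.pos hk2).trans (pow_one q).le)).symm
    rw [show centerSocle X q = zpowers x from hBx]
    exact (h.socle_cen hx.1.1 hx1).2
  have hB2 : q ^ 2 ≤ Nat.card B := hk ▸ Nat.pow_le_pow_right h.prime.pos (by omega)
  have hBe := isElementaryAbelian_centerSocle X q
  -- joins with `B` of rank three put the normalizer into `M`
  have join : ∀ {Y : Subgroup G}, Y ≤ Q → Cfsg.IsElementaryAbelian q Y →
      Y ≤ centralizer (B : Set G) → q ^ 3 ≤ Nat.card ↥(B ⊔ Y) →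
      normalizer (B : Set G) ≤ M := by
    intro Y hYQ hYe hYB h3
    have hc : B ⊔ Y ≤ centralizer ((B ⊔ Y : Subgroup G) : Set G) :=
      le_centralizer_iff.1 (sup_le
        (le_centralizer_iff.1 (sup_le (le_centralizer_of_comm hBe.1) hYB))
        (le_centralizer_iff.1 (sup_le (le_centralizer_iff.1 hYB) (le_centralizer_of_comm hYe.1))))
    have hn : B ≤ normalizer (Y : Set G) := ((le_centralizer_iff.1 hYB)).trans
      (CfsgLib.Coprime.centralizer_le_normalizer_self _)
    have he : Cfsg.IsElementaryAbelian q (B ⊔ Y) := by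
      refine ⟨⟨⟨fun a b => Subtype.ext (mem_centralizer_iff.1 (hc b.2) _ a.2)⟩⟩, fun w hw => ?_⟩
      rw [← SetLike.mem_coe, coe_mul_of_left_le_normalizer_right _ _ hn] at hw
      obtain ⟨a, ha, y, hy, rfl⟩ := hw
      have hay : Commute a y := mem_centralizer_iff.1 (hYB hy) a ha
      rw [hay.mul_pow, hBe.2 a ha, hYe.2 y hy, one_mul]
    refine h.le_of_rank (sup_le hBQ hYQ) he h3 (sup_le le_normalizer (hYB.trans ?_)) hBtop
    exact CfsgLib.Coprime.centralizer_le_normalizer_self B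
  set Z := centerSocle Q q
  by_cases hZB : ¬ Z ≤ B
  · obtain ⟨z, hz, hzB⟩ := SetLike.not_le_iff_exists.1 hZB
    refine join centerSocle_le (isElementaryAbelian_centerSocle Q q) (fun w hw =>
      mem_centralizer_iff.2 fun a ha => (hw.2.2 a (hBQ ha)).symm.eq) ?_
    have hlt : Nat.card B < Nat.card ↥(B ⊔ Z) := Set.Finite.card_lt_card (Set.toFinite _)
      (show B < B ⊔ Z from lt_of_le_not_ge le_sup_left fun hle => hzB (hle (mem_sup_right hz)))
    obtain ⟨l, hl⟩ := IsPGroup.iff_card.1 (h.maxQ.1.to_le (sup_le hBQ centerSocle_le : B ⊔ Z ≤ Q))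
    rw [hk, hl] at hlt
    rw [hl]
    exact Nat.pow_le_pow_right h.prime.pos (by
      have := (Nat.pow_lt_pow_iff_right h.prime.one_lt).1 hlt; omega)
  push Not at hZB
  have hWcard : Nat.card ↥(h.socle ⊓ C) ≤ q := not_lt.1 fun hlt =>
    hbad (h.good_of_wide hCtop hlt)
  have hZW : Z ≤ h.socle ⊓ C := le_inf (centerSocle_le_upperSocle _ _) (hZB.trans hBC)
  obtain ⟨z₀, hz₀, hz₀1⟩ := centerSocle_ne_bot h.maxQ.1 (le_refl Q) le_normalizer
    fun e => hx1 (mem_bot.1 (e ▸ hBQ hx.2))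
  have hZeq : h.socle ⊓ C = Z := by
    refine (eq_of_le_of_card_ge hZW (hWcard.trans ?_)).symm
    rw [← card_zpowers_of_mem_elementary (isElementaryAbelian_centerSocle Q q) hz₀.2 hz₀1]
    exact card_le_of_le (zpowers_le.2 hz₀.2)
  -- elements of the upper socle centralizing `B` lie in the centre
  by_cases hUB : ∃ u ∈ h.socle, u ∈ centralizer (B : Set G) ∧ u ∉ B
  · obtain ⟨u, hu, huB, hu'⟩ := hUB
    refine join (zpowers_le.2 (h.socle_le hu)) ⟨inferInstance, fun w hw => ?_⟩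
      (zpowers_le.2 huB) ?_
    · obtain ⟨i, rfl⟩ := mem_zpowers_iff.1 hw
      rw [← zpow_natCast, ← zpow_mul, mul_comm, zpow_mul, zpow_natCast, hu.2.1, one_zpow]
    · have hlt : Nat.card B < Nat.card ↥(B ⊔ zpowers u) := Set.Finite.card_lt_card (Set.toFinite _)
        (show B < B ⊔ zpowers u from
          lt_of_le_not_ge le_sup_left fun hle => hu' (hle (mem_sup_right (mem_zpowers u))))
      obtain ⟨l, hl⟩ := IsPGroup.iff_card.1 (h.maxQ.1.to_le
        (sup_le hBQ (zpowers_le.2 (h.socle_le hu)) : B ⊔ zpowers u ≤ Q))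
      rw [hk, hl] at hlt
      rw [hl]
      exact Nat.pow_le_pow_right h.prime.pos (by
        have := (Nat.pow_lt_pow_iff_right h.prime.one_lt).1 hlt; omega)
  push Not at hUB
  -- hence `b` centralizes the upper socle
  have hfix : ∀ u ∈ h.socle, u ∈ C := by
    intro u hu
    have hbn : b ∈ normalizer (h.socle : Set G) := h.elem_le_normalizer hb
    have hu' : b * u * b⁻¹ ∈ h.socle := (mem_normalizer_iff.1 hbn u).1 hu
    set v := u⁻¹ * (b * u * b⁻¹) with hv
    have hbc : ∀ {w : G}, w ∈ C → b * w * b⁻¹ = w := fun {w} hw => by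
      rw [mem_centralizer_iff.1 hw b rfl, mul_inv_cancel_right]
    have hvB : v ∈ centralizer (B : Set G) := by
      refine mem_centralizer_iff.2 fun w hw => ?_
      have h1 : b * ⁅u, w⁆ * b⁻¹ = ⁅u, w⁆ := hbc ((hu.2.2 w (hBQ hw)) |> fun hz => hBC (hZB hz))
      have h2 : b * ⁅u, w⁆ * b⁻¹ = ⁅b * u * b⁻¹, b * w * b⁻¹⁆ := by
        simp only [commutatorElement_def]; group
      rw [h2, hbc (hBC hw), commutatorElement_def, commutatorElement_def, mul_left_inj] at h1
      calc w * v = u⁻¹ * (u * w * u⁻¹) * (b * u * b⁻¹) := by rw [hv]; group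
        _ = u⁻¹ * ((b * u * b⁻¹) * w * (b * u * b⁻¹)⁻¹) * (b * u * b⁻¹) := by rw [h1]
        _ = v * w := by rw [hv]; group
    have hvS : v ∈ h.socle := mul_mem (inv_mem hu) hu'
    have hvC : v ∈ C := hBC (hUB v hvS hvB)
    have hiter : ∀ n : ℕ, b ^ n * u * (b ^ n)⁻¹ = u * v ^ n := by
      intro n
      induction n with
      | zero => simp
      | succ n ih =>
        calc b ^ (n + 1) * u * (b ^ (n + 1))⁻¹ = b * (b ^ n * u * (b ^ n)⁻¹) * b⁻¹ := by
              rw [pow_succ']; group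
          _ = (b * u * b⁻¹) * (b * v ^ n * b⁻¹) := by rw [ih]; group
          _ = u * v * v ^ n := by
              rw [hbc (pow_mem hvC n), show u * v = b * u * b⁻¹ by rw [hv]; group]
          _ = u * v ^ (n + 1) := by rw [mul_assoc, ← pow_succ']
    have h3 := hiter p
    rw [h.data.elem.2 b hb, one_mul, inv_one, mul_one] at h3
    have h4 : v ^ p = 1 := mul_left_cancel (h3.symm.trans (mul_one u).symm)
    have h5 : v = 1 := orderOf_eq_one_iff.1 (Nat.eq_one_of_dvd_coprimes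
      ((Nat.coprime_primes h.prime hp.out).2 h.ne)
      (orderOf_dvd_of_pow_eq_one hvS.2.1) (orderOf_dvd_of_pow_eq_one h4))
    refine mem_centralizer_iff.2 ?_
    intro w hw
    rw [Set.mem_singleton_iff.1 hw]
    have e : u = b * u * b⁻¹ := inv_mul_eq_one.1 h5
    exact mul_inv_eq_iff_eq_mul.1 e.symm
  exact absurd (h.good_of_wide hCtop (lt_of_lt_of_le h.lt_card_socle
    (card_le_of_le (le_inf le_rfl hfix)))) hbad

end CfsgLib.CFun
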