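import Cfsg.Agent.Lib.CFun.OddZgroupCore
import Cfsg.Agent.Lib.CFun.OddCores
import Cfsg.Agent.Lib.CFun.OddSCNAnchor
import Cfsg.Agent.Lib.Coprime.Hall
import Cfsg.Agent.Lib.Coprime.Action
import Cfsg.Agent.Lib.Fusion.System.ZJControl
import Cfsg.Agent.Lib.PGroup.PSolvable
import Cfsg.Agent.Lib.PGroup.FpfSections

/-!
# `p`-length one from an operator of prime order with metacyclic fixed points
-/

set_option autoImplicit false
set_option linter.style.haveILetI false
set_option linter.unusedSectionVars false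

open Subgroup
open scoped commutatorElement
open CfsgLib.Coprime (conj_mem_of_le_normalizer mem_sup_exists IsHallIn IsSylowIn conjBy)
open CfsgLib.PGroup (SectionGroup sectionImg mem_sectionImg)

namespace CfsgLib.CFun.ZLen

universe u v

variable {Γ : Type u} [Group Γ] [Finite Γ] {p : ℕ} [hp : Fact p.Prime]

/-- A `p`-length one witness for a subgroup. -/
def POne (p : ℕ) (H : Subgroup Γ) : Prop :=
  ∃ M : Subgroup Γ, M ≤ H ∧ H ≤ normalizer (M : Set Γ) ∧ ¬ p ∣ M.relIndex H ∧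
    ∀ m ∈ M, ∃ k : ℕ, m ^ p ^ k ∈ coCore H p

theorem normalizer_le_normalizer_core (H : Subgroup Γ) (s : ℕ) :
    normalizer (H : Set Γ) ≤ normalizer (core H s : Set Γ) := by
  haveI := CfsgLib.Coprime.pCore_characteristic (G := H) s
  exact CfsgLib.PGroup.normalizer_le_normalizer_map_char H _

theorem normalizer_le_normalizer_coCore (H : Subgroup Γ) (s : ℕ) :
    normalizer (H : Set Γ) ≤ normalizer (coCore H s : Set Γ) := by
  haveI := CfsgLib.Coprime.pPrimeCore_characteristic (G := H) s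
  exact CfsgLib.PGroup.normalizer_le_normalizer_map_char H _

theorem le_core_of_normal {H X : Subgroup Γ} (hX : X ≤ H) (hn : H ≤ normalizer (X : Set Γ))
    (hXp : IsPGroup p X) : X ≤ core H p := by
  haveI : (X.subgroupOf H).Normal := normal_subgroupOf_of_le_normalizer hn
  exact fun x hx => ⟨⟨x, hX hx⟩, CfsgLib.Coprime.le_pCore (N := X.subgroupOf H) hXp.comap_subtype
    (show (⟨x, hX hx⟩ : H) ∈ X.subgroupOf H from hx), rfl⟩

theorem POne.pLengthLE {H : Subgroup Γ} (h : POne p H) : Cfsg.PLengthLE p 1 H := by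
  obtain ⟨M, hMH, hHM, hMi, hMk⟩ := h
  refine CfsgLib.PGroup.pLengthLE_one_of_not_dvd fun hd => hMi ?_
  set O := Cfsg.pPrimeCore p H
  haveI : O.Normal := Subgroup.sSup_normal _ fun _ h => h.1
  haveI : (M.subgroupOf H).Normal := normal_subgroupOf_of_le_normalizer hHM
  haveI : ((M.subgroupOf H).map (QuotientGroup.mk' O)).Normal :=
    (inferInstance : (M.subgroupOf H).Normal).map _ (QuotientGroup.mk'_surjective O)
  have hle : (M.subgroupOf H).map (QuotientGroup.mk' O) ≤ Cfsg.pCore p (H ⧸ O) := by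
    refine CfsgLib.Coprime.le_pCore ?_
    rintro ⟨_, m, hm, rfl⟩
    obtain ⟨k, z, hz, ez⟩ := hMk m hm
    refine ⟨k, Subtype.ext ?_⟩
    show (QuotientGroup.mk' O m) ^ p ^ k = 1
    rw [← map_pow, QuotientGroup.mk'_apply, QuotientGroup.eq_one_iff]
    exact (show z = m ^ p ^ k from Subtype.ext (ez.trans (SubmonoidClass.coe_pow m _).symm)) ▸ hz
  refine dvd_trans (hd.trans ?_) (show (M.subgroupOf H).index ∣ M.relIndex H from dvd_rfl)
  exact (index_dvd_of_le hle).trans (index_map_dvd _ (QuotientGroup.mk'_surjective O))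

theorem mem_of_pow {N K : Subgroup Γ} (hN : N ≤ K) (hKN : K ≤ normalizer (N : Set Γ))
    (h : ¬ p ∣ N.relIndex K) {x : Γ} (hx : x ∈ K) {k : ℕ} (hk : x ^ p ^ k = 1) : x ∈ N := by
  haveI : (N.subgroupOf K).Normal := normal_subgroupOf_of_le_normalizer hKN
  have h1 : orderOf (QuotientGroup.mk (⟨x, hx⟩ : K) : K ⧸ N.subgroupOf K) = 1 := by
    refine Nat.eq_one_of_dvd_coprimes ((hp.out.coprime_iff_not_dvd.2 h).pow_left k)
      (orderOf_dvd_of_pow_eq_one ?_) ?_
    · rw [← QuotientGroup.mk_pow, show (⟨x, hx⟩ : K) ^ p ^ k = 1 from Subtype.ext hk]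
      rfl
    · rw [relIndex, index_eq_card]; exact _root_.orderOf_dvd_natCard _
  exact (QuotientGroup.eq_one_iff (⟨x, hx⟩ : K)).1 (orderOf_eq_one_iff.1 h1)

/-- Two witnesses over subgroups with trivial intersection. -/
theorem POne.of_pair {H N₁ N₂ K₁ K₂ M₁ M₂ : Subgroup Γ} (hN : N₁ ⊓ N₂ = ⊥)
    (hN₁ : N₁ ≤ K₁) (hN₂ : N₂ ≤ K₂) (hHN₁ : H ≤ normalizer (N₁ : Set Γ))
    (hHN₂ : H ≤ normalizer (N₂ : Set Γ)) (hK₁ : K₁ ≤ H) (hK₂ : K₂ ≤ H) (hM₁ : M₁ ≤ H)
    (hHK₁ : H ≤ normalizer (K₁ : Set Γ)) (hHK₂ : H ≤ normalizer (K₂ : Set Γ))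
    (hHM₁ : H ≤ normalizer (M₁ : Set Γ)) (hHM₂ : H ≤ normalizer (M₂ : Set Γ))
    (hi₁ : ¬ p ∣ N₁.relIndex K₁) (hi₂ : ¬ p ∣ N₂.relIndex K₂)
    (hj₁ : ¬ p ∣ M₁.relIndex H) (hj₂ : ¬ p ∣ M₂.relIndex H)
    (hm₁ : ∀ m ∈ M₁, ∃ k : ℕ, m ^ p ^ k ∈ K₁) (hm₂ : ∀ m ∈ M₂, ∃ k : ℕ, m ^ p ^ k ∈ K₂) :
    POne p H := by
  have hK : K₁ ⊓ K₂ ≤ coCore H p := by
    refine le_coCore (inf_le_left.trans hK₁) (CfsgLib.Coprime.inf_le_normalizer hHK₁ hHK₂) fun hd => ?_
    obtain ⟨g, hg⟩ := exists_prime_orderOf_dvd_card' p hd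
    have hg1 : (g : Γ) ^ p ^ 1 = 1 := by
      rw [pow_one, ← Subgroup.coe_pow, ← hg, pow_orderOf_eq_one, coe_one]
    have hgN : (g : Γ) ∈ N₁ ⊓ N₂ := mem_inf.2
      ⟨mem_of_pow hN₁ (hK₁.trans hHN₁) hi₁ (mem_inf.1 g.2).1 hg1,
        mem_of_pow hN₂ (hK₂.trans hHN₂) hi₂ (mem_inf.1 g.2).2 hg1⟩
    rw [hN, mem_bot] at hgN
    rw [show g = 1 from Subtype.ext hgN, orderOf_one] at hg
    exact hp.out.one_lt.ne hg
  refine ⟨M₁ ⊓ M₂, inf_le_left.trans hM₁, CfsgLib.Coprime.inf_le_normalizer hHM₁ hHM₂, fun hd => ?_,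
    fun m hm => ?_⟩
  · haveI : (M₁.subgroupOf H).Normal := normal_subgroupOf_of_le_normalizer hHM₁
    haveI : (M₂.subgroupOf H).Normal := normal_subgroupOf_of_le_normalizer hHM₂
    have e : ((M₁ ⊓ M₂).subgroupOf H).index =
        (M₂.subgroupOf H).relIndex (M₁.subgroupOf H) * (M₁.subgroupOf H).index := by
      rw [show (M₁ ⊓ M₂).subgroupOf H = M₁.subgroupOf H ⊓ M₂.subgroupOf H from comap_inf _ _ _,
        ← relIndex_mul_index (inf_le_left : M₁.subgroupOf H ⊓ M₂.subgroupOf H ≤ M₁.subgroupOf H),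
        inf_relIndex_left]
    rw [relIndex, e] at hd
    rcases hp.out.dvd_mul.1 hd with h | h
    · exact hj₂ (h.trans (relIndex_dvd_index_of_normal _ _))
    · exact hj₁ h
  · obtain ⟨i, hi⟩ := hm₁ m (mem_inf.1 hm).1
    obtain ⟨j, hj⟩ := hm₂ m (mem_inf.1 hm).2
    refine ⟨i + j, hK (mem_inf.2 ⟨?_, ?_⟩)⟩
    · rw [pow_add, pow_mul]; exact pow_mem hi _
    · rw [pow_add, mul_comm, pow_mul]; exact pow_mem hj _

/-- The hypothesis of the induction. -/
structure ZHyp (r : ℕ) (x : Γ) (H R : Subgroup Γ) : Prop where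
  rP : r.Prime
  mem : x ∈ R
  ord : orderOf x = r
  norm : R ≤ normalizer (H : Set Γ)
  cop : (Nat.card R).Coprime (Nat.card H)
  sol : Group.IsSolvable H
  oddH : Odd (Nat.card H)
  oddR : Odd (Nat.card R)
  zg : IsZGroup ↥(H ⊓ centralizer ({x} : Set Γ))
  eqH : ⁅H, R⁆ = H

theorem isZGroup_of_le {A B : Subgroup Γ} (h : A ≤ B) (hB : IsZGroup B) : IsZGroup A := by
  haveI := hB
  exact IsZGroup.of_injective (inclusion_injective h)

variable {r : ℕ} {x : Γ} {H R : Subgroup Γ}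

theorem ZHyp.commutator (h : ZHyp r x H R) {Y : Subgroup Γ} (hY : Y ≤ H)
    (hR : R ≤ normalizer (Y : Set Γ)) : ZHyp r x ⁅Y, R⁆ R := by
  have hle : ⁅Y, R⁆ ≤ Y := le_normalizer_iff_commutator_le_left.1 hR
  have hcop := h.cop.coprime_dvd_right (card_dvd_of_le hY)
  haveI := h.sol
  exact
    { rP := h.rP
      mem := h.mem
      ord := h.ord
      norm := by rw [commutator_comm]; exact Subgroup.normalizer_commutator_ge_left R Y
      cop := h.cop.coprime_dvd_right (card_dvd_of_le (hle.trans hY))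
      sol := CfsgLib.Coprime.isSolvable_of_le (hle.trans hY) h.sol
      oddH := h.oddH.of_dvd_nat (card_dvd_of_le (hle.trans hY))
      oddR := h.oddR
      zg := isZGroup_of_le (inf_le_inf_right _ (hle.trans hY)) h.zg
      eqH := CfsgLib.Coprime.commutator_commutator_eq hR hcop
        (Or.inr (CfsgLib.Coprime.isSolvable_of_le hY h.sol)) }

section Sections

variable {N : Subgroup Γ}

theorem card_sectionImg_dvd {Y : Subgroup Γ} (hY : Y ≤ normalizer (N : Set Γ)) :
    Nat.card (sectionImg N Y) ∣ Nat.card Y := by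
  rw [← Nat.card_congr (subgroupOfEquivOfLe hY).toEquiv]
  exact card_map_dvd _ _

theorem le_normalizer_pullback {X : Subgroup (SectionGroup N)} {Y : Subgroup Γ}
    (hY : Y ≤ normalizer (N : Set Γ)) (h : sectionImg N Y ≤ normalizer (X : Set (SectionGroup N))) :
    Y ≤ normalizer (((X.comap (QuotientGroup.mk' _)).map
      (normalizer (N : Set Γ)).subtype : Subgroup Γ) : Set Γ) := fun g hg =>
  le_normalizer_map _ ⟨⟨g, hY hg⟩,
    le_normalizer_comap (QuotientGroup.mk' _) (h (mem_sectionImg.2 ⟨⟨g, hY hg⟩, hg, rfl⟩)), rfl⟩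

/-- The witness of a proper section, pulled back. -/
theorem ZHyp.exists_witness (h : ZHyp r x H R)
    (IH : ∀ (r' : ℕ) (x' : SectionGroup N) (H' R' : Subgroup (SectionGroup N)),
      ZHyp r' x' H' R' → Nat.card H' < Nat.card H → POne p H')
    (hNH : N ≤ H) (hN : N ≠ ⊥) (hHN : H ≤ normalizer (N : Set Γ))
    (hRN : R ≤ normalizer (N : Set Γ)) :
    ∃ M K : Subgroup Γ, N ≤ K ∧ K ≤ H ∧ M ≤ H ∧ H ≤ normalizer (K : Set Γ) ∧
      R ≤ normalizer (K : Set Γ) ∧ H ≤ normalizer (M : Set Γ) ∧ ¬ p ∣ M.relIndex H ∧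
      ¬ p ∣ N.relIndex K ∧ ∀ m ∈ M, ∃ k : ℕ, m ^ p ^ k ∈ K := by
  set M₀ : Subgroup Γ := normalizer (N : Set Γ)
  set π : M₀ →* SectionGroup N := QuotientGroup.mk' _
  have hπ : Function.Surjective π := QuotientGroup.mk'_surjective _
  set H' := sectionImg N H
  set R' := sectionImg N R
  set x' : SectionGroup N := π ⟨x, hRN h.mem⟩
  have hlt : Nat.card H' < Nat.card H := CfsgLib.PGroup.card_sectionImg_lt hHN hNH hN
  have hpre : ∀ y : M₀, π y ∈ H' → (y : Γ) ∈ H := by
    intro y hy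
    obtain ⟨k, hk, e⟩ := mem_sectionImg.1 hy
    have h1 : (k : Γ)⁻¹ * y ∈ N := (QuotientGroup.eq (s := N.subgroupOf M₀)).1 e
    simpa using mul_mem hk (hNH h1)
  have hord : orderOf x' = r := by
    rcases (Nat.dvd_prime h.rP).1 ((orderOf_map_dvd π ⟨x, hRN h.mem⟩).trans
      (by rw [← Subgroup.orderOf_coe]; exact h.ord.dvd)) with e | e
    · exfalso
      have h1 : x ∈ N := (QuotientGroup.eq_one_iff (N := N.subgroupOf M₀) ⟨x, hRN h.mem⟩).1
        (orderOf_eq_one_iff.1 e)
      have h2 := Nat.eq_one_of_dvd_coprimes h.cop (Subgroup.orderOf_dvd_natCard R h.mem)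
        (Subgroup.orderOf_dvd_natCard H (hNH h1))
      exact h.rP.one_lt.ne (h2 ▸ h.ord)
    · exact e
  have hxfix : H' ⊓ centralizer ({x'} : Set (SectionGroup N)) ≤
      sectionImg N (H ⊓ centralizer ({x} : Set Γ)) := by
    rintro y ⟨hy, hyc⟩
    obtain ⟨k, hk, rfl⟩ := mem_sectionImg.1 hy
    have hzN : zpowers x ≤ M₀ := zpowers_le.2 (hRN h.mem)
    obtain ⟨n, hn, hn'⟩ := CfsgLib.Coprime.exists_fixed_in_coset (A := zpowers x) (N := N) hzN
      ((h.cop.coprime_dvd_left (card_dvd_of_le (zpowers_le.2 h.mem))).coprime_dvd_right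
        (card_dvd_of_le hNH))
      (Or.inl (CfsgLib.Coprime.isSolvable_of_isMulCommutative inferInstance)) k.2 (fun b hb => by
        obtain ⟨i, rfl⟩ := hb
        have e : (π ⟨x, hRN h.mem⟩) ^ i * π k = π k * (π ⟨x, hRN h.mem⟩) ^ i :=
          ((show Commute x' (π k) from (mem_centralizer_singleton_iff.1 hyc).symm).zpow_left i).eq
        rw [← map_zpow, ← map_mul, ← map_mul, eq_comm] at e
        have e1 := (QuotientGroup.eq (s := N.subgroupOf M₀)).1 e
        have e2 := conj_mem_of_le_normalizer (K := N) le_rfl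
          (mul_mem k.2 (zpow_mem (hRN h.mem) i)) e1
        simpa [mul_assoc] using e2)
    refine mem_sectionImg.2 ⟨k * ⟨n, le_normalizer hn⟩, mem_inf.2 ⟨mul_mem hk (hNH hn), ?_⟩, ?_⟩
    · exact mem_centralizer_singleton_iff.2 (mem_centralizer_iff.1 hn' x (mem_zpowers x)).symm
    · rw [map_mul, show π ⟨n, le_normalizer hn⟩ = 1 from (QuotientGroup.eq_one_iff _).2 hn, mul_one]
  have hZ : ZHyp r x' H' R' := by
    refine ⟨h.rP, mem_sectionImg.2 ⟨⟨x, hRN h.mem⟩, h.mem, rfl⟩, hord,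
      CfsgLib.PGroup.sectionImg_le_normalizer h.norm,
      (h.cop.coprime_dvd_left (card_sectionImg_dvd hRN)).coprime_dvd_right (card_sectionImg_dvd hHN),
      ?_, h.oddH.of_dvd_nat (card_sectionImg_dvd hHN), h.oddR.of_dvd_nat (card_sectionImg_dvd hRN),
      ?_, ?_⟩
    · haveI := h.sol
      haveI : Group.IsSolvable (H.subgroupOf M₀) :=
        Group.isSolvable_of_surjective (f := (subgroupOfEquivOfLe hHN).symm.toMonoidHom)
          (subgroupOfEquivOfLe hHN).symm.surjective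
      exact Group.isSolvable_of_surjective (MonoidHom.subgroupMap_surjective π (H.subgroupOf M₀))
    · refine isZGroup_of_le hxfix ?_
      haveI := h.zg
      haveI : IsZGroup ↥((H ⊓ centralizer ({x} : Set Γ)).subgroupOf M₀) :=
        IsZGroup.of_injective (f := (subgroupOfEquivOfLe (inf_le_left.trans hHN)).toMonoidHom)
          (MulEquiv.injective _)
      exact IsZGroup.of_surjective (MonoidHom.subgroupMap_surjective π _)
    · show ⁅(H.subgroupOf M₀).map π, (R.subgroupOf M₀).map π⁆ = (H.subgroupOf M₀).map π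
      rw [← map_commutator]
      congr 1
      refine map_injective M₀.subtype_injective ?_
      rw [map_commutator, map_subgroupOf_eq_of_le hHN, map_subgroupOf_eq_of_le hRN, h.eqH]
  obtain ⟨M', hM'H, hH'M, hM'i, hM'k⟩ := IH r x' H' R' hZ hlt
  have hpb : ∀ X : Subgroup (SectionGroup N), X ≤ H' → (X.comap π).map M₀.subtype ≤ H := by
    rintro X hX _ ⟨y, hy, rfl⟩
    exact hpre y (hX hy)
  have hidx : ∀ X Y : Subgroup (SectionGroup N),
      ((X.comap π).map M₀.subtype).relIndex ((Y.comap π).map M₀.subtype) = X.relIndex Y := by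
    intro X Y
    rw [relIndex_map_map_of_injective _ _ M₀.subtype_injective, relIndex_comap,
      map_comap_eq_self_of_surjective hπ]
  have hH : (H'.comap π).map M₀.subtype = H :=
    le_antisymm (hpb H' le_rfl) fun y hy => ⟨⟨y, hHN hy⟩, mem_sectionImg.2 ⟨_, hy, rfl⟩, rfl⟩
  have hN' : ((⊥ : Subgroup (SectionGroup N)).comap π).map M₀.subtype = N := by
    rw [MonoidHom.comap_bot, QuotientGroup.ker_mk', map_subgroupOf_eq_of_le le_normalizer]
  refine ⟨(M'.comap π).map M₀.subtype, ((coCore H' p).comap π).map M₀.subtype, ?_, hpb _ coCore_le,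
    hpb _ hM'H, le_normalizer_pullback hHN le_normalizer_coCore,
    le_normalizer_pullback hRN ((CfsgLib.PGroup.sectionImg_le_normalizer h.norm).trans
      (normalizer_le_normalizer_coCore H' p)), le_normalizer_pullback hHN hH'M, ?_, ?_, ?_⟩
  · conv_lhs => rw [← hN']
    exact map_mono (comap_mono bot_le)
  · conv => arg 1; arg 2; arg 2; rw [← hH]
    rw [hidx]; exact hM'i
  · conv => arg 1; arg 2; arg 1; rw [← hN']
    rw [hidx, relIndex_bot_left]; exact not_dvd_coCore
  · rintro _ ⟨m, hm, rfl⟩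
    obtain ⟨k, hk⟩ := hM'k _ hm
    refine ⟨k, m ^ p ^ k, ?_, map_pow _ _ _⟩
    show π (m ^ p ^ k) ∈ coCore H' p
    rw [map_pow]; exact hk

end Sections

/-- A normal `p`-subgroup of index prime to `p` is a witness. -/
theorem POne.of_core {H : Subgroup Γ} (h : ¬ p ∣ (core H p).relIndex H) : POne p H :=
  ⟨core H p, core_le, le_normalizer_core, h, fun m hm => by
    obtain ⟨k, hk⟩ := isPGroup_core (H := H) (s := p) ⟨m, hm⟩
    exact ⟨k, (show m ^ p ^ k = 1 from congrArg Subtype.val hk).symm ▸ one_mem _⟩⟩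

theorem le_normalizer_of_sup {A B X : Subgroup Γ} (hA : A ≤ normalizer (X : Set Γ))
    (hB : B ≤ normalizer (X : Set Γ)) : A ⊔ B ≤ normalizer (X : Set Γ) := sup_le hA hB

/-- The Frattini argument for a Hall subgroup. -/
theorem le_sup_normalizer {K Q₀ H : Subgroup Γ} {π : Set ℕ} (hQ : IsHallIn π Q₀ K)
    (hsol : Group.IsSolvable K) (hK : K ≤ H) (hHK : H ≤ normalizer (K : Set Γ)) {g : Γ}
    (hg : g ∈ H) : g ∈ K ⊔ (H ⊓ normalizer (Q₀ : Set Γ)) := by
  have hgQ : IsHallIn π (conjBy g Q₀) K := by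
    refine ⟨?_, by rw [CfsgLib.Coprime.card_conjBy]; exact hQ.2.1, ?_⟩
    · rw [← CfsgLib.Coprime.conjBy_eq_self_iff.2 (hHK hg)]; exact map_mono hQ.1
    · rw [← CfsgLib.Coprime.conjBy_eq_self_iff.2 (hHK hg),
        relIndex_map_map_of_injective _ _ (MulEquiv.injective _)]
      exact hQ.2.2
  obtain ⟨y, hy, e⟩ := hgQ.exists_conj hQ hsol
  rw [CfsgLib.Coprime.conjBy_conjBy, CfsgLib.Coprime.conjBy_eq_self_iff] at e
  have := mul_mem (mem_sup_left (T := H ⊓ normalizer (Q₀ : Set Γ)) (inv_mem hy))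
    (mem_sup_right (S := K) (mem_inf.2 ⟨mul_mem (hK hy) hg, e⟩))
  simpa using this

theorem card_sup_eq {A B : Subgroup Γ} (hB : B ≤ normalizer (A : Set Γ)) (h : A ⊓ B = ⊥) :
    Nat.card ↥(A ⊔ B) = Nat.card A * Nat.card B := by
  haveI : (A.subgroupOf (A ⊔ B)).Normal :=
    normal_subgroupOf_of_le_normalizer (sup_le le_normalizer hB)
  rw [← CfsgLib.Coprime.card_mul_relIndex (le_sup_left : A ≤ A ⊔ B)]
  congr 1
  rw [← relIndex_subgroupOf (le_refl (A ⊔ B)), subgroupOf_sup le_sup_left le_sup_right,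
    relIndex_sup_left, relIndex_subgroupOf le_sup_right, ← inf_relIndex_right, h,
    relIndex_bot_left]

section Main

variable {V L : Subgroup Γ}

/-- Inside a proper invariant subgroup over `V` the moved part of a `p`-subgroup is in the core. -/
theorem ZHyp.moved_le_core (h : ZHyp r x H R)
    (IH : ∀ (r' : ℕ) (x' : Γ) (H' R' : Subgroup Γ),
      ZHyp r' x' H' R' → Nat.card H' < Nat.card H → POne p H')
    (hVp : IsPGroup p V) (hVH : V ≤ H) (hHV : H ≤ normalizer (V : Set Γ))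
    (hRV : R ≤ normalizer (V : Set Γ)) (hcent : H ⊓ centralizer (V : Set Γ) ≤ V)
    {Y : Subgroup Γ} (hY : Y ≤ H) (hRY : R ≤ normalizer (Y : Set Γ))
    (hlt : Nat.card ↥(V ⊔ Y) < Nat.card H) {S : Subgroup Γ} (hS : S ≤ Y) (hSp : IsPGroup p S)
    (hRS : R ≤ normalizer (S : Set Γ)) : ⁅S, R⁆ ≤ core Y p := by
  set W := V ⊔ Y
  have hWH : W ≤ H := sup_le hVH hY
  have hRW : R ≤ normalizer (W : Set Γ) := CfsgLib.Coprime.sup_le_normalizer hRV hRY
  set W' := ⁅W, R⁆
  have hW'W : W' ≤ W := le_normalizer_iff_commutator_le_left.1 hRW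
  have hWW' : W ≤ normalizer (W' : Set Γ) := Subgroup.normalizer_commutator_ge_left W R
  obtain ⟨M, hMW, hWM, hMi, hMk⟩ := IH r x W' R (h.commutator hWH hRW)
    ((Nat.le_of_dvd Nat.card_pos (card_dvd_of_le hW'W)).trans_lt hlt)
  have hK : coCore W' p = ⊥ := by
    have hn : W ≤ normalizer (coCore W' p : Set Γ) :=
      hWW'.trans (normalizer_le_normalizer_coCore W' p)
    have hKV : coCore W' p ⊓ V = ⊥ := by rw [inf_comm]; exact inf_eq_bot_of_isPGroup hVp not_dvd_coCore
    have hKH : coCore W' p ≤ H := coCore_le.trans (hW'W.trans hWH)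
    have hle : coCore W' p ≤ V := le_trans (le_inf hKH
      (le_centralizer_of_inf_eq_bot (hKH.trans hHV) (le_sup_left.trans hn) hKV)) hcent
    rwa [inf_eq_left.2 hle] at hKV
  have hMp : IsPGroup p M := fun m => by
    obtain ⟨k, hk⟩ := hMk m m.2
    rw [hK, mem_bot] at hk
    exact ⟨k, Subtype.ext hk⟩
  -- every `p`-element of `W'` lies in `M`
  have hall : ∀ {y : Γ}, y ∈ W' → (∃ k : ℕ, y ^ p ^ k = 1) → y ∈ M :=
    fun {y} hy ⟨k, hk⟩ => mem_of_pow hMW hWM hMi hy hk
  have hcore : M ≤ core W' p := le_core_of_normal hMW hWM hMp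
  have hW'core : core W' p ≤ core W p :=
    le_core_of_normal (core_le.trans hW'W) (hWW'.trans (normalizer_le_normalizer_core W' p))
      isPGroup_core
  intro y hy
  have hyS : y ∈ S := le_normalizer_iff_commutator_le_left.1 hRS hy
  have hyW : y ∈ core W p := by
    obtain ⟨k, hk⟩ := hSp ⟨y, hyS⟩
    exact hW'core (hcore (hall (commutator_mono (hS.trans le_sup_right) le_rfl hy)
      ⟨k, congrArg Subtype.val hk⟩))
  exact le_core_of_normal (inf_le_right : core W p ⊓ Y ≤ Y)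
    (CfsgLib.Coprime.inf_le_normalizer ((le_sup_right : Y ≤ W).trans le_normalizer_core) le_normalizer)
    ((isPGroup_core (H := W) (s := p)).to_le inf_le_left) (mem_inf.2 ⟨hyW, hS hyS⟩)

/-- The last step: the complement of the minimal normal subgroup. -/
theorem ZHyp.false_of_complement (h : ZHyp r x H R)
    (IH : ∀ (r' : ℕ) (x' : Γ) (H' R' : Subgroup Γ),
      ZHyp r' x' H' R' → Nat.card H' < Nat.card H → POne p H')
    (hVp : IsPGroup p V) (hVe : Cfsg.IsElementaryAbelian p V) (hV0 : V ≠ ⊥) (hVH : V ≤ H)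
    (hHV : H ≤ normalizer (V : Set Γ)) (hRV : R ≤ normalizer (V : Set Γ))
    (hmin : ∀ W : Subgroup Γ, W ≤ V → H ≤ normalizer (W : Set Γ) → R ≤ normalizer (W : Set Γ) →
      W = ⊥ ∨ W = V)
    (hcent : H ⊓ centralizer (V : Set Γ) ≤ V)
    (hLH : L ≤ H) (hRL : R ≤ normalizer (L : Set Γ)) (hLV : V ⊓ L = ⊥) (hsup : V ⊔ L = H)
    (hcore : core L p = ⊥)
    (hwit : ∃ M : Subgroup Γ, M ≤ L ∧ L ≤ normalizer (M : Set Γ) ∧ ¬ p ∣ M.relIndex L ∧
      ∀ m ∈ M, ∃ k : ℕ, m ^ p ^ k ∈ coCore L p)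
    (hpL : p ∣ Nat.card L) : False := by
  classical
  have hcopH : ∀ {Y : Subgroup Γ}, Y ≤ H → (Nat.card R).Coprime (Nat.card Y) :=
    fun hY => h.cop.coprime_dvd_right (card_dvd_of_le hY)
  have hsolH : ∀ {Y : Subgroup Γ}, Y ≤ H → Group.IsSolvable Y :=
    fun hY => CfsgLib.Coprime.isSolvable_of_le hY h.sol
  have hLn : L ≤ normalizer (V : Set Γ) := hLH.trans hHV
  have hcard : ∀ {Y : Subgroup Γ}, Y ≤ L → Y ≠ L → Nat.card ↥(V ⊔ Y) < Nat.card H := by
    intro Y hY hne
    have e1 := card_sup_eq (hY.trans hLn) (le_bot_iff.1 ((inf_le_inf_left V hY).trans hLV.le))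
    have e2 := card_sup_eq hLn hLV
    rw [hsup] at e2
    rw [e1, e2]
    refine (Nat.mul_lt_mul_left Nat.card_pos).2 ?_
    exact lt_of_le_of_ne (Nat.le_of_dvd Nat.card_pos (card_dvd_of_le hY))
      fun e => hne (eq_of_le_of_card_ge hY e.ge)
  set Q := coCore L p
  have hQL : Q ≤ L := coCore_le
  have hLQ : L ≤ normalizer (Q : Set Γ) := le_normalizer_coCore
  have hRQ : R ≤ normalizer (Q : Set Γ) := hRL.trans (normalizer_le_normalizer_coCore L p)
  have hCQ : L ⊓ centralizer (Q : Set Γ) ≤ Q := by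
    haveI := hsolH hLH
    have hF : Cfsg.fittingOf L ≤ Q := fittingOf_le_of_cores fun t ht => by
      haveI : Fact t.Prime := ⟨ht⟩
      rcases eq_or_ne t p with rfl | hne
      · rw [hcore]; exact bot_le
      · exact core_le_coCore hne
    exact (inf_le_inf_left L (centralizer_le hF)).trans (centralizer_fittingOf_le.trans hF)
  have hQp : ¬ p ∣ Nat.card Q := not_dvd_coCore
  obtain ⟨S, hS, hRS⟩ := CfsgLib.Coprime.exists_invariant_sylow hRL (hcopH hLH)
    (Or.inr (hsolH hLH)) p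
  have hSp : IsPGroup p S := hS.isPGroup
  have hSQ : Q ⊓ S = ⊥ := by rw [inf_comm]; exact inf_eq_bot_of_isPGroup hSp hQp
  have hS0 : S ≠ ⊥ := by
    intro e
    have h1 := hS.2
    rw [e, card_bot] at h1
    have h2 := hp.out.factorization_pos_of_dvd Nat.card_pos.ne' hpL
    exact (Nat.one_lt_pow h2.ne' hp.out.one_lt).ne h1
  have hSL : S ≤ L := hS.1
  have hSi : ¬ p ∣ S.relIndex L := by
    rw [show S = (hS.toSylow : Subgroup L).map L.subtype from hS.map_toSylow.symm]
    show ¬ p ∣ (((hS.toSylow : Subgroup L).map L.subtype).subgroupOf L).index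
    rw [show ((hS.toSylow : Subgroup L).map L.subtype).subgroupOf L = (hS.toSylow : Subgroup L) from
      comap_map_eq_self_of_injective L.subtype_injective _]
    exact hS.toSylow.not_dvd_index
  -- the witness is `Q S`
  have hQS : L ≤ normalizer ((Q ⊔ S : Subgroup Γ) : Set Γ) := by
    obtain ⟨M, hML, hLM, hMi, hMk⟩ := hwit
    have h1 : S ≤ M := fun s hs => by
      obtain ⟨k, hk⟩ := hSp ⟨s, hs⟩
      exact mem_of_pow hML hLM hMi (hSL hs) (congrArg Subtype.val hk)
    have h2 : Q ⊔ M = Q ⊔ S := by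
      refine le_antisymm (sup_le le_sup_left fun m hm => ?_) (sup_le_sup_left h1 Q)
      haveI hn : (Q.subgroupOf L).Normal := normal_subgroupOf_of_le_normalizer hLQ
      haveI : ((M.subgroupOf L).map (QuotientGroup.mk' (Q.subgroupOf L))).Normal :=
        (normal_subgroupOf_of_le_normalizer hLM).map _ (QuotientGroup.mk'_surjective _)
      have hPG : IsPGroup p ((M.subgroupOf L).map (QuotientGroup.mk' (Q.subgroupOf L))) := by
        rintro ⟨_, m, hm, rfl⟩
        obtain ⟨k, hk⟩ := hMk m hm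
        refine ⟨k, Subtype.ext ?_⟩
        show (QuotientGroup.mk' _ m) ^ p ^ k = 1
        rw [← map_pow, QuotientGroup.mk'_apply, QuotientGroup.eq_one_iff, mem_subgroupOf,
          SubmonoidClass.coe_pow]
        exact hk
      set T := hS.toSylow.mapSurjective (QuotientGroup.mk'_surjective (Q.subgroupOf L))
      have e : (M.subgroupOf L).map (QuotientGroup.mk' (Q.subgroupOf L)) = T :=
        T.3 hPG (map_mono fun z hz => h1 hz)
      obtain ⟨s, hs, hse⟩ := e.le (mem_map_of_mem _ (show (⟨m, hML hm⟩ : L) ∈ M.subgroupOf L from hm))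
      have hd : (s : Γ)⁻¹ * m ∈ Q := (QuotientGroup.eq (s := Q.subgroupOf L)).1 hse
      have := mul_mem (mem_sup_right (S := Q) (show (s : Γ) ∈ S from hs)) (mem_sup_left (T := S) hd)
      simpa using this
    rw [← h2]; exact CfsgLib.Coprime.sup_le_normalizer hLQ hLM
  have hQSL : Q ⊔ S ≤ L := sup_le hQL hSL
  -- the moved part of `S` in a proper subgroup containing `Q`
  have hmoved : ∀ {Q' S' : Subgroup Γ}, Q' ≤ Q → S' ≤ S → R ≤ normalizer (Q' : Set Γ) →
      R ≤ normalizer (S' : Set Γ) → S' ≤ normalizer (Q' : Set Γ) → Q' ⊔ S' ≠ L →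
      ⁅S', R⁆ ≤ centralizer (Q' : Set Γ) := by
    intro Q' S' hQ' hS' hRQ' hRS' hn hne
    have hY : Q' ⊔ S' ≤ L := sup_le (hQ'.trans hQL) (hS'.trans hSL)
    have hYQ : Q' ⊔ S' ≤ normalizer (Q' : Set Γ) := sup_le le_normalizer hn
    refine (h.moved_le_core IH hVp hVH hHV hRV hcent (hY.trans hLH)
      (CfsgLib.Coprime.sup_le_normalizer hRQ' hRS') (hcard hY hne) le_sup_right (hSp.to_le hS')
      hRS').trans ?_
    refine le_centralizer_of_inf_eq_bot (core_le.trans hYQ) (le_sup_left.trans le_normalizer_core) ?_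
    exact inf_eq_bot_of_isPGroup isPGroup_core fun hd => hQp (hd.trans (card_dvd_of_le hQ'))
  have hLe : ⁅L, R⁆ = L := by
    refine le_antisymm (le_normalizer_iff_commutator_le_left.1 hRL) ?_
    have hL'L : ⁅L, R⁆ ≤ L := le_normalizer_iff_commutator_le_left.1 hRL
    have hX : H ≤ V ⊔ ⁅L, R⁆ := by
      conv_lhs => rw [← h.eqH]
      rw [commutator_le]
      intro g hg t ht
      rw [← hsup] at hg
      obtain ⟨v, hv, l, hl, rfl⟩ := mem_sup_exists hLn hg
      have hvt : ⁅v, t⁆ ∈ V := le_normalizer_iff_commutator_le_left.1 hRV (commutator_mem_commutator hv ht)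
      rw [show ⁅v * l, t⁆ = v * ⁅l, t⁆ * v⁻¹ * ⁅v, t⁆ by simp only [commutatorElement_def]; group]
      exact mul_mem (mul_mem (mul_mem (mem_sup_left hv)
        (mem_sup_right (commutator_mem_commutator hl ht))) (mem_sup_left (inv_mem hv))) (mem_sup_left hvt)
    intro l hl
    obtain ⟨v, hv, l', hl', e⟩ := mem_sup_exists (hL'L.trans hLn) (hX (hLH hl))
    have h1 : v ∈ V ⊓ L := mem_inf.2 ⟨hv, by
      rw [show v = l * l'⁻¹ by rw [← e]; group]; exact mul_mem hl (inv_mem (hL'L hl'))⟩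
    rw [hLV, mem_bot] at h1
    rwa [← e, h1, one_mul]
  -- `L = Q S`
  have hLQS : Q ⊔ S = L := by
    by_contra hne
    have hSR : ⁅S, R⁆ = ⊥ := by
      have h2 : ⁅S, R⁆ ≤ Q ⊓ S := le_inf
        ((le_inf ((le_normalizer_iff_commutator_le_left.1 hRS).trans hSL)
          (hmoved le_rfl le_rfl hRQ hRS (hSL.trans hLQ) hne)).trans hCQ)
        (le_normalizer_iff_commutator_le_left.1 hRS)
      exact le_bot_iff.1 (h2.trans hSQ.le)
    rw [commutator_eq_bot_iff_le_centralizer] at hSR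
    set C := L ⊓ centralizer (S : Set Γ)
    have hLQC : L ≤ Q ⊔ C := by
      conv_lhs => rw [← hLe]
      rw [commutator_le]
      intro l hl t ht
      have hfr : l ∈ (Q ⊔ S) ⊔ (L ⊓ normalizer (S : Set Γ)) := by
        haveI hn : ((Q ⊔ S).subgroupOf L).Normal := normal_subgroupOf_of_le_normalizer hQS
        have hQSt : (hS.toSylow : Subgroup L) ≤ (Q ⊔ S).subgroupOf L :=
          comap_mono le_sup_right
        have h3 := (Sylow.normalizer_sup_eq_top' hS.toSylow hQSt)
        have h4 : (⟨l, hl⟩ : L) ∈ ((Q ⊔ S).subgroupOf L) ⊔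
            normalizer ((hS.toSylow : Subgroup L) : Set L) := by
          rw [sup_comm]; exact h3.symm ▸ mem_top _
        obtain ⟨a, ha, b, hb, e⟩ := mem_sup_exists
          (by rw [normalizer_eq_top ((Q ⊔ S).subgroupOf L)]; exact le_top) h4
        rw [show l = (a : Γ) * (b : Γ) from (congrArg Subtype.val e).symm]
        refine mul_mem (mem_sup_left ha) (mem_sup_right (mem_inf.2 ⟨b.2, ?_⟩))
        have h5 := le_normalizer_map L.subtype ⟨b, hb, rfl⟩
        rwa [hS.map_toSylow] at h5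
      rw [show (Q ⊔ S) ⊔ (L ⊓ normalizer (S : Set Γ)) = Q ⊔ (L ⊓ normalizer (S : Set Γ)) from by
        rw [sup_assoc, sup_eq_right.2 (le_inf hSL le_normalizer)]] at hfr
      obtain ⟨y, hy, n, hn, rfl⟩ := mem_sup_exists (inf_le_left.trans hLQ) hfr
      have hyt : ⁅y, t⁆ ∈ Q :=
        le_normalizer_iff_commutator_le_left.1 hRQ (commutator_mem_commutator hy ht)
      have hnt : ⁅n, t⁆ ∈ C := by
        refine mem_inf.2 ⟨le_normalizer_iff_commutator_le_left.1 hRL
          (commutator_mem_commutator (mem_inf.1 hn).1 ht), mem_centralizer_iff.2 fun s hs => ?_⟩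
        have hcm : ∀ b ∈ S, t * b = b * t := fun b hb => mem_centralizer_iff.1 (hSR hb) t ht
        have hcm' : ∀ b ∈ S, t⁻¹ * b = b * t⁻¹ :=
          fun b hb => mem_centralizer_iff.1 (hSR hb) t⁻¹ (inv_mem ht)
        have hs' : n⁻¹ * s * n ∈ S := (mem_normalizer_iff''.1 (mem_inf.1 hn).2 s).1 hs
        rw [commutatorElement_def]
        calc s * (n * t * n⁻¹ * t⁻¹) = n * ((n⁻¹ * s * n) * t) * n⁻¹ * t⁻¹ := by group
          _ = n * (t * (n⁻¹ * s * n)) * n⁻¹ * t⁻¹ := by rw [hcm _ hs']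
          _ = n * t * n⁻¹ * (s * t⁻¹) := by group
          _ = n * t * n⁻¹ * t⁻¹ * s := by rw [← hcm' _ hs]; group
      rw [show ⁅y * n, t⁆ = y * ⁅n, t⁆ * y⁻¹ * ⁅y, t⁆ by simp only [commutatorElement_def]; group]
      exact mul_mem (mul_mem (mul_mem (mem_sup_left hy) (mem_sup_right hnt))
        (mem_sup_left (inv_mem hy))) (mem_sup_left hyt)
    -- a complement of `S` is normal
    obtain ⟨T, hT, hQT⟩ := CfsgLib.Coprime.IsHallIn.exists_ge (π := {q : ℕ | q ≠ p}) (hsolH hLH) hQL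
      (fun q hq hd e => hQp (e ▸ hd))
    have hTp : ¬ p ∣ Nat.card T := fun hd => hT.2.1 p hp.out hd rfl
    have hST : T ⊔ S = L := by
      refine eq_of_le_of_card_ge (sup_le hT.1 hSL) ?_
      have d1 : Nat.card L ∣ Nat.card ↥(T ⊔ S) := by
        rw [← CfsgLib.Coprime.card_mul_relIndex hT.1]
        obtain ⟨k, hk⟩ : ∃ k, T.relIndex L = p ^ k := ⟨_, Nat.eq_prime_pow_of_unique_prime_dvd
          (by simp [relIndex, FiniteIndex.index_ne_zero]) fun {q} hq hd => by
            by_contra hne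
            exact hT.2.2 q hq hd hne⟩
        have h4 : p ^ k ∣ Nat.card S := by
          rw [hS.2]
          refine pow_dvd_pow p ((hp.out.pow_dvd_iff_le_factorization Nat.card_pos.ne').1 ?_)
          rw [← CfsgLib.Coprime.card_mul_relIndex hT.1, ← hk]
          exact dvd_mul_left _ _
        rw [hk]
        refine Nat.Coprime.mul_dvd_of_dvd_of_dvd ?_ (card_dvd_of_le le_sup_left)
          (h4.trans (card_dvd_of_le le_sup_right))
        exact ((hp.out.coprime_iff_not_dvd.2 hTp).pow_left k).symm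
      exact Nat.le_of_dvd Nat.card_pos d1
    have hSnT : S ≤ normalizer (T : Set Γ) := by
      have key : ∀ s ∈ S, ∀ t ∈ T, s * t * s⁻¹ ∈ T := by
        intro s hs t ht
        obtain ⟨y, hy, c, hc, e⟩ := mem_sup_exists (inf_le_left.trans hLQ) (hLQC (hT.1 ht))
        have hsy : s * y * s⁻¹ ∈ Q := conj_mem_of_le_normalizer (hSL.trans hLQ) hs hy
        have hsc : s * c * s⁻¹ = c := by
          rw [mem_centralizer_iff.1 (mem_inf.1 hc).2 s hs, mul_inv_cancel_right]
        have hcT : c ∈ T := by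
          rw [show c = y⁻¹ * t by rw [← e]; group]; exact mul_mem (inv_mem (hQT hy)) ht
        rw [← e, show s * (y * c) * s⁻¹ = (s * y * s⁻¹) * (s * c * s⁻¹) by group, hsc]
        exact mul_mem (hQT hsy) hcT
      refine fun s hs => mem_normalizer_iff.2 fun t => ⟨key s hs t, fun ht => ?_⟩
      have := key s⁻¹ (inv_mem hs) _ ht
      simpa [mul_assoc] using this
    have hTQ : T ≤ Q := le_coCore hT.1 (by
      conv_lhs => rw [← hST]
      exact sup_le le_normalizer hSnT) hTp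
    exact hne (le_antisymm hQSL (hST ▸ sup_le_sup_right hTQ S))
  -- `S = [S, R]`
  have hSS : ⁅S, R⁆ = S := by
    refine le_antisymm (le_normalizer_iff_commutator_le_left.1 hRS) ?_
    have hle : ⁅S, R⁆ ≤ L := (le_normalizer_iff_commutator_le_left.1 hRS).trans hSL
    have hX : L ≤ Q ⊔ ⁅S, R⁆ := by
      conv_lhs => rw [← hLe]
      rw [commutator_le]
      intro l hl t ht
      rw [← hLQS] at hl
      obtain ⟨y, hy, s, hs, rfl⟩ := mem_sup_exists (hSL.trans hLQ) hl
      have hyt : ⁅y, t⁆ ∈ Q := le_normalizer_iff_commutator_le_left.1 hRQ (commutator_mem_commutator hy ht)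
      rw [show ⁅y * s, t⁆ = y * ⁅s, t⁆ * y⁻¹ * ⁅y, t⁆ by simp only [commutatorElement_def]; group]
      exact mul_mem (mul_mem (mul_mem (mem_sup_left hy)
        (mem_sup_right (commutator_mem_commutator hs ht))) (mem_sup_left (inv_mem hy))) (mem_sup_left hyt)
    intro s hs
    obtain ⟨y, hy, s', hs', e⟩ := mem_sup_exists (hle.trans hLQ) (hX (hSL hs))
    have h1 : y ∈ Q ⊓ S := mem_inf.2 ⟨hy, by
      rw [show y = s * s'⁻¹ by rw [← e]; group]
      exact mul_mem hs (inv_mem (le_normalizer_iff_commutator_le_left.1 hRS hs'))⟩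
    rw [hSQ, mem_bot] at h1
    rwa [← e, h1, one_mul]
  have hfaithQ : ∀ g ∈ S, g ∈ centralizer (Q : Set Γ) → g = 1 := fun g hg hc => by
    have h1 : g ∈ Q ⊓ S := mem_inf.2 ⟨hCQ (mem_inf.2 ⟨hSL hg, hc⟩), hg⟩
    rwa [hSQ, mem_bot] at h1
  have hred : ∀ Y : Subgroup Γ, Y ≤ Q → S ≤ normalizer (Y : Set Γ) → R ≤ normalizer (Y : Set Γ) →
      Y ≠ Q → S ≤ centralizer (Y : Set Γ) := by
    intro Y hY hSY hRY hne
    have h1 := hmoved hY le_rfl hRY hRS hSY fun e => hne (le_antisymm hY fun y hy => by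
      obtain ⟨y', hy', s, hs, rfl⟩ := mem_sup_exists hSY (e.ge (hQL hy))
      have h1 : s ∈ Q ⊓ S := mem_inf.2 ⟨(mul_mem_cancel_left (hY hy')).1 hy, hs⟩
      rw [hSQ, mem_bot] at h1
      rwa [h1, mul_one])
    rwa [hSS] at h1
  have hproper : ∀ S' : Subgroup Γ, S' ≤ S → S' ≠ S → R ≤ normalizer (S' : Set Γ) →
      R ≤ centralizer (S' : Set Γ) := by
    intro S' hS' hne hRS'
    have h1 := hmoved le_rfl hS' hRQ hRS' ((hS'.trans hSL).trans hLQ) fun e =>
      hne (le_antisymm hS' fun s hs => by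
        obtain ⟨y, hy, s', hs', e'⟩ := mem_sup_exists ((hS'.trans hSL).trans hLQ) (e.ge (hSL hs))
        have h1 : y ∈ Q ⊓ S := mem_inf.2 ⟨hy, by
          rw [show y = s * s'⁻¹ by rw [← e']; group]; exact mul_mem hs (inv_mem (hS' hs'))⟩
        rw [hSQ, mem_bot] at h1
        rwa [← e', h1, one_mul])
    have h2 : ⁅S', R⁆ = ⊥ := (Subgroup.eq_bot_iff_forall _).2 fun g hg => hfaithQ g
      (hS' (le_normalizer_iff_commutator_le_left.1 hRS' hg)) (h1 hg)
    exact commutator_eq_bot_iff_le_centralizer.1 (by rw [commutator_comm]; exact h2)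
  -- `S` has class two
  have hS' : ⁅S, S⁆ ≠ S := by
    intro e
    haveI : Nontrivial S := nontrivial_iff_ne_bot S |>.2 hS0
    haveI := hsolH (hSL.trans hLH)
    refine (Group.IsSolvable.commutator_lt_top_of_nontrivial (G := S)).ne ?_
    refine map_injective S.subtype_injective ?_
    rw [_root_.commutator_def, map_commutator, ← MonoidHom.range_eq_map, range_subtype, e]
  have hRS' := hproper ⁅S, S⁆ (commutator_le_self S) hS' (CfsgLib.PGroup.le_normalizer_commutator hRS hRS)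
  have hclass : ⁅S, S⁆ ≤ centralizer (S : Set Γ) := by
    have h1 : ⁅⁅R, ⁅S, S⁆⁆, S⁆ = ⊥ := by
      rw [commutator_eq_bot_iff_le_centralizer.2 hRS', commutator_bot_left]
    have h2 : ⁅⁅⁅S, S⁆, S⁆, R⁆ = ⊥ := by
      rw [commutator_eq_bot_iff_le_centralizer]
      refine le_trans (commutator_mono (commutator_le_self S) le_rfl) (le_centralizer_iff.1 hRS')
    have h3 := commutator_commutator_eq_bot_of_rotate h1 h2
    rw [hSS, commutator_eq_bot_iff_le_centralizer] at h3
    exact le_centralizer_iff.1 h3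
  -- `Q` is a `q`-group
  obtain ⟨q, hq, hQq, hqQ⟩ : ∃ q : ℕ, q.Prime ∧ IsPGroup q Q ∧ q ∣ Nat.card Q := by
    by_contra hno
    push Not at hno
    have hA : S ⊔ R ≤ normalizer (Q : Set Γ) := sup_le (hSL.trans hLQ) hRQ
    have hSR' : S ⊓ R = ⊥ :=
      CfsgLib.Coprime.disjoint_of_coprime_card (hcopH (hSL.trans hLH)).symm
    have hAc : (Nat.card ↥(S ⊔ R)).Coprime (Nat.card Q) := by
      rw [card_sup_eq hRS hSR']
      refine Nat.Coprime.mul_left ?_ (hcopH (hQL.trans hLH))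
      obtain ⟨k, hk⟩ := IsPGroup.iff_card.1 hSp
      rw [hk]
      exact (hp.out.coprime_iff_not_dvd.2 hQp).pow_left k
    have hle : Q ≤ centralizer (S : Set Γ) := by
      have hdvd : Nat.card Q ∣ Nat.card ↥(Q ⊓ centralizer (S : Set Γ)) := by
        refine (Nat.dvd_iff_prime_pow_dvd_dvd _ _).2 fun t k ht hd => ?_
        haveI : Fact t.Prime := ⟨ht⟩
        obtain ⟨P, hP, hPA⟩ := CfsgLib.Coprime.exists_invariant_sylow hA hAc
          (Or.inr (hsolH (hQL.trans hLH))) t
        rcases k with _ | k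
        · simp
        by_cases hPQ : P = Q
        · exact absurd ((dvd_pow_self t k.succ_ne_zero).trans hd) (hno t ht (hPQ ▸ hP.isPGroup))
        · refine dvd_trans ?_ (card_dvd_of_le (le_inf hP.1 (le_centralizer_iff.1
            (hred P hP.1 (le_sup_left.trans hPA) (le_sup_right.trans hPA) hPQ))))
          rw [hP.2]
          exact pow_dvd_pow t ((ht.pow_dvd_iff_le_factorization Nat.card_pos.ne').1 hd)
      exact inf_eq_left.1 (eq_of_le_of_card_ge inf_le_left (Nat.le_of_dvd Nat.card_pos hdvd))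
    exact hS0 ((Subgroup.eq_bot_iff_forall _).2 fun g hg =>
      hfaithQ g hg ((le_centralizer_iff.1 hle) hg))
  have hQS' : ⁅Q, S⁆ = Q := by
    have hle : ⁅Q, S⁆ ≤ Q := le_normalizer_iff_commutator_le_left.1 (hSL.trans hLQ)
    by_contra hne
    have h1 : S ≤ centralizer (Q : Set Γ) :=
      CfsgLib.Coprime.le_centralizer_of_le_centralizer_commutator (hSL.trans hLQ) (by
          obtain ⟨k, hk⟩ := IsPGroup.iff_card.1 hSp
          rw [hk]; exact (hp.out.coprime_iff_not_dvd.2 hQp).pow_left k)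
        (Or.inr (hsolH (hQL.trans hLH))) (hred _ hle
          (by rw [commutator_comm]; exact Subgroup.normalizer_commutator_ge_left S Q)
          (CfsgLib.PGroup.le_normalizer_commutator hRQ hRS) hne)
    exact hS0 ((Subgroup.eq_bot_iff_forall _).2 fun g hg => hfaithQ g hg (h1 hg))
  have hcyc : ∀ {Y : Subgroup Γ} {t : ℕ}, t.Prime → Y ≤ H → IsPGroup t Y →
      IsCyclic ↥(Y ⊓ centralizer ({x} : Set Γ)) := fun {Y t} ht hY hYp => by
    haveI : Fact t.Prime := ⟨ht⟩
    haveI := isZGroup_of_le (inf_le_inf_right (centralizer ({x} : Set Γ)) hY) h.zg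
    haveI := (hYp.to_le (inf_le_left : Y ⊓ centralizer ({x} : Set Γ) ≤ Y)).isNilpotent
    infer_instance
  have hrR : r ∣ Nat.card R := h.ord ▸ Subgroup.orderOf_dvd_natCard R h.mem
  have hne : ∀ {t : ℕ}, t ∣ Nat.card H → r ≠ t := fun {t} ht e =>
    h.rP.one_lt.ne' (Nat.eq_one_of_dvd_coprimes h.cop hrR (e ▸ ht))
  have hodd2 : ∀ {t n : ℕ}, Odd n → t ∣ n → t ≠ 2 := fun hn ht e => by
    subst e; exact (Nat.not_even_iff_odd.2 hn) (even_iff_two_dvd.2 ht)
  have hpH : p ∣ Nat.card H := hpL.trans (card_dvd_of_le hLH)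
  have hqH : q ∣ Nat.card H := hqQ.trans (card_dvd_of_le (hQL.trans hLH))
  have hcfg : Config r p q x V Q S R :=
    { rP := h.rP
      pP := hp.out
      qP := hq
      r_ne_two := hodd2 h.oddR hrR
      p_ne_two := hodd2 h.oddH hpH
      q_ne_two := hodd2 h.oddH hqH
      r_ne_p := hne hpH
      r_ne_q := hne hqH
      q_ne_p := fun e => hQp (e ▸ hqQ)
      ord := h.ord ▸ pow_orderOf_eq_one x
      mem := h.mem
      comm := hVe.1
      expV := hVe.2
      V_ne := hV0
      pQ := hQq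
      pP' := hSp
      P_ne := hS0
      PQ := hSL.trans hLQ
      RQ := hRQ
      RP := hRS
      QV := hQL.trans hLn
      PV := hSL.trans hLn
      RV := hRV
      irred := fun W hW hQW hSW hRW => hmin W hW (by
        rw [← hsup, ← hLQS]
        refine sup_le (fun v hv => mem_normalizer_iff.2 fun w => ?_) (sup_le hQW hSW)
        have hc : ∀ b ∈ V, v * b = b * v := fun b hb =>
          congrArg Subtype.val (hVe.1.is_comm.comm (⟨v, hv⟩ : V) ⟨b, hb⟩)
        refine ⟨fun hw => by rwa [hc w (hW hw), mul_inv_cancel_right], fun hw => ?_⟩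
        have e : v⁻¹ * (v * w * v⁻¹) * v = w := by group
        rw [← e, mul_assoc, ← hc _ (hW hw), ← mul_assoc, inv_mul_cancel, one_mul]
        exact hw) hRW
      faithV := fun y hy hyc => by
        have h1 : y ∈ V ⊓ L := mem_inf.2 ⟨hcent (mem_inf.2 ⟨hLH (hQL hy), hyc⟩), hQL hy⟩
        rwa [hLV, mem_bot] at h1
      faithQ := hfaithQ
      red := hred
      QP := hQS'
      PR := hSS.ge
      derP := fun a ha b hb => mem_centralizer_iff.2 fun c hc => by
        have hab := commutator_mem_commutator ha hb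
        rcases hc with hc | rfl
        · exact mem_centralizer_iff.1 (hclass hab) c hc
        · exact (mem_centralizer_iff.1 (hRS' h.mem) _ hab).symm
      fixV := hcyc hp.out hVH hVp
      fixQ := hcyc hq (hQL.trans hLH) hQq
      fixP := hcyc hp.out (hSL.trans hLH) hSp }
  exact hcfg.false

end Main

/-- A solvable subgroup of order divisible by `p` without a `p'`-core has a `p`-core. -/
theorem core_ne_bot_of_coCore_eq_bot {C : Subgroup Γ} (hsol : Group.IsSolvable C) (hC : C ≠ ⊥)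
    (h : coCore C p = ⊥) : core C p ≠ ⊥ := by
  intro hb
  haveI := hsol
  have hF : Cfsg.fittingOf C ≤ ⊥ := fittingOf_le_of_cores fun t ht => by
    haveI : Fact t.Prime := ⟨ht⟩
    rcases eq_or_ne t p with rfl | hne
    · exact hb.le
    · exact (core_le_coCore hne).trans h.le
  refine hC (le_bot_iff.1 ((le_inf le_rfl fun z _ => mem_centralizer_iff.2 fun w hw => ?_).trans
    (centralizer_fittingOf_le.trans hF)))
  rw [show w = 1 from mem_bot.1 (hF hw), one_mul, mul_one]

/-- The induction. -/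
theorem pOne_of_zhyp : ∀ (n : ℕ) {Γ : Type u} [Group Γ] [Finite Γ] {r : ℕ} {x : Γ}
    {H R : Subgroup Γ}, ZHyp r x H R → Nat.card H ≤ n → POne p H := by
  classical
  intro n
  induction n with
  | zero =>
    intro Γ _ _ r x H R _ hn
    exact absurd hn (not_le.2 Nat.card_pos)
  | succ n ih =>
  intro Γ _ _ r x H R h hn
  have IH : ∀ {Γ' : Type u} [Group Γ'] [Finite Γ'] (r' : ℕ) (x' : Γ') (H' R' : Subgroup Γ'),
      ZHyp r' x' H' R' → Nat.card H' < Nat.card H → POne p H' :=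
    fun r' x' H' R' h' hlt => ih h' (by omega)
  have hsol := h.sol
  by_cases hpH : p ∣ Nat.card H
  swap
  · exact POne.of_core fun hd => hpH (hd.trans (relIndex_dvd_card _ _))
  by_cases hK0 : coCore H p = ⊥
  swap
  · obtain ⟨M, K, hNK, hKH, hMH, hHK, -, hHM, hMi, hKi, hm⟩ :=
      h.exists_witness (IH (Γ' := SectionGroup (coCore H p))) coCore_le hK0 le_normalizer_coCore
        (h.norm.trans (normalizer_le_normalizer_coCore H p))
    refine ⟨M, hMH, hHM, hMi, fun m hm' => ?_⟩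
    obtain ⟨k, hk⟩ := hm m hm'
    refine ⟨k, le_coCore hKH hHK ?_ hk⟩
    rw [← CfsgLib.Coprime.card_mul_relIndex hNK]
    exact fun hd => (hp.out.dvd_mul.1 hd).elim not_dvd_coCore hKi
  have hH0 : H ≠ ⊥ := fun e => by
    rw [e, card_bot] at hpH; exact hp.out.one_lt.ne' (Nat.dvd_one.1 hpH)
  have hcore0 : core H p ≠ ⊥ := core_ne_bot_of_coCore_eq_bot hsol hH0 hK0
  -- a minimal invariant subgroup of the core
  obtain ⟨V, ⟨hVc, hV0, hHV, hRV⟩, hminV⟩ := exists_minimal_of_wellFoundedLT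
    (fun W : Subgroup Γ => W ≤ core H p ∧ W ≠ ⊥ ∧ H ≤ normalizer (W : Set Γ) ∧
      R ≤ normalizer (W : Set Γ))
    ⟨core H p, le_rfl, hcore0, le_normalizer_core, h.norm.trans (normalizer_le_normalizer_core H p)⟩
  have hmin : ∀ W : Subgroup Γ, W ≤ V → H ≤ normalizer (W : Set Γ) → R ≤ normalizer (W : Set Γ) →
      W = ⊥ ∨ W = V := by
    intro W hW hHW hRW
    by_cases hW0 : W = ⊥
    · exact Or.inl hW0
    · exact Or.inr (le_antisymm hW (hminV ⟨hW.trans hVc, hW0, hHW, hRW⟩ hW))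
  have hVp : IsPGroup p V := isPGroup_core.to_le hVc
  have hVH : V ≤ H := hVc.trans core_le
  have hVe : Cfsg.IsElementaryAbelian p V := by
    rcases hmin (centerSocle V p) centerSocle_le
      (hHV.trans (normalizer_le_normalizer_centerSocle V p))
      (hRV.trans (normalizer_le_normalizer_centerSocle V p)) with e | e
    · exfalso
      haveI : Nontrivial V := (nontrivial_iff_ne_bot V).2 hV0
      haveI := hVp.center_nontrivial
      obtain ⟨z, hz⟩ := exists_prime_orderOf_dvd_card' p (G := center V) (by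
        obtain ⟨k, hk⟩ := IsPGroup.iff_card.1 (hVp.to_subgroup (center V))
        rcases k with _ | k
        · exact absurd (hk.trans (pow_zero p)) Finite.one_lt_card.ne'
        · exact hk ▸ dvd_pow_self p k.succ_ne_zero)
      have hmem : ((z : V) : Γ) ∈ centerSocle V p := ⟨(z : V).2, by
        rw [← hz, ← Subgroup.coe_pow, ← Subgroup.coe_pow, pow_orderOf_eq_one]; rfl,
        fun y hy => (congrArg Subtype.val (mem_center_iff.1 z.2 ⟨y, hy⟩)).symm⟩
      rw [e, mem_bot] at hmem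
      rw [show z = 1 from Subtype.ext (Subtype.ext hmem), orderOf_one] at hz
      exact hp.out.one_lt.ne hz
    · exact e ▸ isElementaryAbelian_centerSocle V p
  have hVab : V ≤ centralizer (V : Set Γ) := fun a ha => mem_centralizer_iff.2 fun b hb =>
    congrArg Subtype.val (hVe.1.is_comm.comm (⟨b, hb⟩ : V) ⟨a, ha⟩)
  have hcoreV : core H p ≤ centralizer (V : Set Γ) := by
    have h1 : V ⊓ centralizer (core H p : Set Γ) ≠ ⊥ := fun e =>
      CfsgLib.Fusion.inf_centralizer_ne_bot isPGroup_core hVc hV0 (core_le.trans hHV)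
        (le_bot_iff.1 ((inf_le_inf_left V inf_le_right).trans e.le))
    have h2 := normalizer_le_normalizer_core H p
    rcases hmin _ inf_le_left
      (CfsgLib.Coprime.inf_le_normalizer hHV
        (le_normalizer_core.trans (CfsgLib.Coprime.normalizer_le_normalizer_centralizer _)))
      (CfsgLib.Coprime.inf_le_normalizer hRV
        ((h.norm.trans h2).trans (CfsgLib.Coprime.normalizer_le_normalizer_centralizer _))) with e | e
    · exact absurd e h1
    · exact le_centralizer_iff.1 (e.ge.trans inf_le_right)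
  obtain ⟨M, K, hVK, hKH, hMH, hHK, hRK, hHM, hMi, hKi, hm⟩ :=
    h.exists_witness (IH (Γ' := SectionGroup V)) hVH hV0 hHV hRV
  by_cases hKV : K ≤ V
  · refine POne.of_core fun hd => hMi (hd.trans (relIndex_dvd_of_le_left H
      (le_core_of_normal hMH hHM fun m => ?_)))
    obtain ⟨k, hk⟩ := hm m m.2
    obtain ⟨j, hj⟩ := hVp ⟨_, hKV hk⟩
    refine ⟨k + j, Subtype.ext ?_⟩
    rw [Subgroup.coe_pow, coe_one, pow_add, pow_mul]
    exact congrArg Subtype.val hj
  have hsolK : Group.IsSolvable K := CfsgLib.Coprime.isSolvable_of_le hKH hsol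
  -- an invariant complement of `V` in `K`
  obtain ⟨Q₁, hQ₁⟩ := CfsgLib.Coprime.exists_hallIn {t : ℕ | t ≠ p} hsolK
  have hHallc : ∀ {g : Γ}, g ∈ normalizer (K : Set Γ) → IsHallIn {t : ℕ | t ≠ p} (conjBy g Q₁) K := by
    intro g hg
    refine ⟨?_, by rw [CfsgLib.Coprime.card_conjBy]; exact hQ₁.2.1, ?_⟩
    · rw [← CfsgLib.Coprime.conjBy_eq_self_iff.2 hg]; exact map_mono hQ₁.1
    · rw [← CfsgLib.Coprime.conjBy_eq_self_iff.2 hg,
        relIndex_map_map_of_injective _ _ (MulEquiv.injective _)]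
      exact hQ₁.2.2
  obtain ⟨y, hy, hRQ₀⟩ := CfsgLib.Coprime.exists_invariant_conj hRK
    (h.cop.coprime_dvd_right (card_dvd_of_le hKH)) (Or.inr hsolK) (S := Q₁) fun a ha => by
      obtain ⟨k, hk, e⟩ := hQ₁.exists_conj (hHallc (hRK ha)) hsolK
      exact ⟨k, hk, e.symm⟩
  set Q₀ := conjBy y Q₁
  have hQ₀ : IsHallIn {t : ℕ | t ≠ p} Q₀ K := hHallc (le_normalizer hy)
  have hQ₀p : ¬ p ∣ Nat.card Q₀ := fun hd => hQ₀.2.1 p hp.out hd rfl
  have hKeq : K = V ⊔ Q₀ := by
    refine (eq_of_le_of_card_ge (sup_le hVK hQ₀.1) ?_).symm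
    obtain ⟨i, hi⟩ := IsPGroup.iff_card.1 hVp
    have hcop : (Nat.card V).Coprime (Nat.card Q₀) := by
      rw [hi]; exact (hp.out.coprime_iff_not_dvd.2 hQ₀p).pow_left i
    have h1 : V.relIndex K ∣ Nat.card Q₀ := by
      refine Nat.Coprime.dvd_of_dvd_mul_right (n := Q₀.relIndex K) ?_
        (Dvd.intro_left _ ((CfsgLib.Coprime.card_mul_relIndex hVK).trans
          (CfsgLib.Coprime.card_mul_relIndex hQ₀.1).symm))
      refine Nat.coprime_of_dvd fun t ht h1 h2 => ?_
      by_cases htp : t = p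
      · exact hKi (htp ▸ h1)
      · exact hQ₀.2.2 t ht h2 htp
    refine Nat.le_of_dvd Nat.card_pos (dvd_trans ?_ (hcop.mul_dvd_of_dvd_of_dvd
      (card_dvd_of_le le_sup_left) (card_dvd_of_le le_sup_right)))
    rw [← CfsgLib.Coprime.card_mul_relIndex hVK]
    exact mul_dvd_mul_left _ h1
  set L := H ⊓ normalizer (Q₀ : Set Γ)
  have hLH : L ≤ H := inf_le_left
  have hQL : Q₀ ≤ L := le_inf (hQ₀.1.trans hKH) le_normalizer
  have hsup : V ⊔ L = H := by
    refine le_antisymm (sup_le hVH hLH) fun g hg => ?_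
    have h1 := le_sup_normalizer hQ₀ hsolK hKH hHK hg
    rwa [hKeq, sup_assoc, sup_eq_right.2 hQL] at h1
  have hRL : R ≤ normalizer (L : Set Γ) := CfsgLib.Coprime.inf_le_normalizer h.norm
    (hRQ₀.trans le_normalizer)
  have hLn : L ≤ normalizer (V : Set Γ) := hLH.trans hHV
  have hLV : V ⊓ L = ⊥ := by
    have hVn : V ≤ normalizer ((V ⊓ L : Subgroup Γ) : Set Γ) :=
      (hVab.trans (centralizer_le (inf_le_left : V ⊓ L ≤ V))).trans
        (CfsgLib.Coprime.centralizer_le_normalizer_self _)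
    rcases hmin (V ⊓ L) inf_le_left (by
        conv_lhs => rw [← hsup]
        exact sup_le hVn (CfsgLib.Coprime.inf_le_normalizer hLn le_normalizer))
      (CfsgLib.Coprime.inf_le_normalizer hRV hRL) with e | e
    · exact e
    · exfalso
      have hHQ : H ≤ normalizer (Q₀ : Set Γ) := by
        rw [← hsup, sup_eq_right.2 (e ▸ inf_le_right : V ≤ L)]; exact inf_le_right
      have h1 : Q₀ ≤ coCore H p := le_coCore (hQ₀.1.trans hKH) hHQ hQ₀p
      rw [hK0, le_bot_iff] at h1
      exact hKV (by rw [hKeq, h1, sup_bot_eq])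
  by_cases hC : L ⊓ centralizer (V : Set Γ) = ⊥
  swap
  · set C := L ⊓ centralizer (V : Set Γ)
    have hCH : C ≤ H := inf_le_left.trans hLH
    have hHC : H ≤ normalizer (C : Set Γ) := by
      conv_lhs => rw [← hsup]
      exact sup_le ((le_centralizer_iff.1 (inf_le_right : C ≤ centralizer (V : Set Γ))).trans
          (CfsgLib.Coprime.centralizer_le_normalizer_self _))
        (CfsgLib.Coprime.inf_le_normalizer le_normalizer
          (hLn.trans (CfsgLib.Coprime.normalizer_le_normalizer_centralizer _)))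
    have hRC : R ≤ normalizer (C : Set Γ) := CfsgLib.Coprime.inf_le_normalizer hRL
      (hRV.trans (CfsgLib.Coprime.normalizer_le_normalizer_centralizer _))
    have hCco : coCore C p = ⊥ := le_bot_iff.1 ((le_coCore (coCore_le.trans hCH)
      (hHC.trans (normalizer_le_normalizer_coCore C p)) not_dvd_coCore).trans hK0.le)
    have hN₂ := core_ne_bot_of_coCore_eq_bot (CfsgLib.Coprime.isSolvable_of_le hCH hsol) hC hCco
    obtain ⟨M₂, K₂, hNK₂, hKH₂, hMH₂, hHK₂, -, hHM₂, hMi₂, hKi₂, hm₂⟩ :=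
      h.exists_witness (IH (Γ' := SectionGroup (core C p))) (core_le.trans hCH) hN₂
        (hHC.trans (normalizer_le_normalizer_core C p)) (hRC.trans (normalizer_le_normalizer_core C p))
    exact POne.of_pair (le_bot_iff.1 ((inf_le_inf_left V (core_le.trans inf_le_left)).trans hLV.le))
      hVK hNK₂ hHV (hHC.trans (normalizer_le_normalizer_core C p)) hKH hKH₂ hMH hHK hHK₂ hHM hHM₂
      hKi hKi₂ hMi hMi₂ hm hm₂
  have hcent : H ⊓ centralizer (V : Set Γ) ≤ V := by
    rintro g ⟨hg, hgc⟩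
    rw [← hsup] at hg
    obtain ⟨v, hv, l, hl, rfl⟩ := mem_sup_exists hLn hg
    have h1 : l ∈ L ⊓ centralizer (V : Set Γ) := mem_inf.2 ⟨hl, by
      have := mul_mem (inv_mem (hVab hv)) hgc
      rwa [inv_mul_cancel_left] at this⟩
    rw [hC, mem_bot] at h1
    simpa [h1] using hv
  have hcoreL : core L p = ⊥ := by
    have hXV : core L p ≤ normalizer (V : Set Γ) := core_le.trans hLn
    have h1 : V ⊔ core L p ≤ core H p := by
      refine le_core_of_normal (sup_le hVH (core_le.trans hLH)) ?_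
        (hVp.to_sup_of_normal_left' isPGroup_core hXV)
      conv_lhs => rw [← hsup]
      exact sup_le ((le_sup_left : V ≤ V ⊔ core L p).trans le_normalizer)
        (CfsgLib.Coprime.sup_le_normalizer hLn le_normalizer_core)
    exact le_bot_iff.1 ((le_inf ((le_sup_right.trans h1).trans
      ((le_inf core_le hcoreV).trans hcent)) core_le).trans hLV.le)
  have hcardH : Nat.card V * Nat.card L = Nat.card H := by rw [← hsup, card_sup_eq hLn hLV]
  by_cases hpL : p ∣ Nat.card L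
  swap
  · refine POne.of_core fun hd => hpL ?_
    refine hd.trans ((relIndex_dvd_of_le_left H hVc).trans ?_)
    rw [← mul_dvd_mul_iff_left (Nat.card_pos (α := V)).ne', CfsgLib.Coprime.card_mul_relIndex hVH,
      hcardH]
  exfalso
  refine h.false_of_complement (V := V) (L := L) (p := p) (fun r' x' H' R' => IH r' x' H' R')
    hVp hVe hV0 hVH hHV hRV hmin hcent hLH hRL hLV hsup hcoreL ⟨M ⊓ L, inf_le_right,
      CfsgLib.Coprime.inf_le_normalizer (hLH.trans hHM) le_normalizer, fun hd => hMi ?_,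
      fun m hm' => ?_⟩ hpL
  · rw [inf_relIndex_right] at hd
    refine hd.trans ?_
    haveI : (M.subgroupOf H).Normal := normal_subgroupOf_of_le_normalizer hHM
    rw [← relIndex_subgroupOf hLH]
    exact relIndex_dvd_index_of_normal _ _
  · obtain ⟨k, hk⟩ := hm m (mem_inf.1 hm').1
    refine ⟨k, le_coCore (inf_le_right : K ⊓ L ≤ L)
      (CfsgLib.Coprime.inf_le_normalizer (hLH.trans hHK) le_normalizer) (fun hd => ?_)
      (mem_inf.2 ⟨hk, pow_mem (mem_inf.1 hm').2 _⟩)⟩
    obtain ⟨g, hg⟩ := exists_prime_orderOf_dvd_card' p hd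
    have hg1 : (g : Γ) ^ p ^ 1 = 1 := by
      rw [pow_one, ← Subgroup.coe_pow, ← hg, pow_orderOf_eq_one, coe_one]
    have hgV : (g : Γ) ∈ V ⊓ L :=
      mem_inf.2 ⟨mem_of_pow hVK (hKH.trans hHV) hKi (mem_inf.1 g.2).1 hg1, (mem_inf.1 g.2).2⟩
    rw [hLV, mem_bot] at hgV
    rw [show g = 1 from Subtype.ext hgV, orderOf_one] at hg
    exact hp.out.one_lt.ne hg

/-- The `p`-length of `[H, R]` is at most one. -/
theorem pLengthLE_commutator {r : ℕ} {x : Γ} {H R : Subgroup Γ} (hr : r.Prime) (hx : x ∈ R)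
    (hord : orderOf x = r) (hn : R ≤ normalizer (H : Set Γ))
    (hcop : (Nat.card R).Coprime (Nat.card H)) (hsol : Group.IsSolvable H)
    (hH : Odd (Nat.card H)) (hR : Odd (Nat.card R))
    (hZ : IsZGroup ↥(H ⊓ centralizer ({x} : Set Γ))) : Cfsg.PLengthLE p 1 ↥⁅H, R⁆ := by
  have hle : ⁅H, R⁆ ≤ H := le_normalizer_iff_commutator_le_left.1 hn
  have h : ZHyp r x ⁅H, R⁆ R :=
    { rP := hr
      mem := hx
      ord := hord
      norm := by rw [commutator_comm]; exact Subgroup.normalizer_commutator_ge_left R H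
      cop := hcop.coprime_dvd_right (card_dvd_of_le hle)
      sol := CfsgLib.Coprime.isSolvable_of_le hle hsol
      oddH := hH.of_dvd_nat (card_dvd_of_le hle)
      oddR := hR
      zg := isZGroup_of_le (inf_le_inf_right _ hle) hZ
      eqH := CfsgLib.Coprime.commutator_commutator_eq hn hcop (Or.inr hsol) }
  exact (pOne_of_zhyp _ h le_rfl).pLengthLE

end CfsgLib.CFun.ZLen
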