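import Cfsg.Agent.Lib.CFun.FusionSection
import Cfsg.Agent.Lib.Qd.QdGroup
import Cfsg.Agent.Lib.Fusion.ThompsonComplement

/-!
# Normal `p`-complement criteria for iso-invariant functors
-/

set_option autoImplicit false
set_option linter.style.haveILetI false

open Subgroup
open scoped commutatorElement
open CfsgLib.Fusion (conjBy mem_conjBy conjBy_le_iff conjBy_eq_iff conjBy_normalizer card_conjBy
  exists_conj_fully_normalized lt_inf_normalizer hasNormalPComplement_of_injective
  hasNormalPComplement_of_surjective hasNormalPComplement_iff_coprime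
  hasNormalPComplement_iff_not_dvd mem_pResidual pResidual_normal hasNormalPComplement_of_le)

namespace CfsgLib.CFun

universe u

variable {p : ℕ} [Fact p.Prime] {W : ∀ (Q : Type u) [Group Q], Subgroup Q}

theorem hasNormalPComplement_conjBy {G : Type u} [Group G] [Finite G] (g : G) (N : Subgroup G)
    (h : Cfsg.HasNormalPComplement p (conjBy g N)) : Cfsg.HasNormalPComplement p N :=
  hasNormalPComplement_of_injective
    (((MulAut.conj g).toMonoidHom.comp N.subtype).codRestrict (conjBy g N) fun x =>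
      mem_map_of_mem _ x.2)
    (fun a b hab => Subtype.ext ((MulAut.conj g).injective (congrArg Subtype.val hab))) h

/-- The `p`-residual is mapped into the `p`-residual. -/
theorem map_pResidual_le {G G' : Type*} [Group G] [Group G'] (f : G →* G') :
    (Cfsg.pResidual p G).map f ≤ Cfsg.pResidual p G' := by
  rw [map_le_iff_le_comap]
  exact (Subgroup.closure_le _).2 fun x hx =>
    mem_pResidual (Nat.Coprime.coprime_dvd_left (orderOf_map_dvd f x) hx)

theorem map_pResidual_normal {G : Type u} [Group G] (D : Subgroup G) {H : Subgroup G}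
    (hH : H ≤ normalizer (D : Set G)) :
    H ≤ normalizer (((Cfsg.pResidual p D).map D.subtype : Subgroup G) : Set G) := by
  intro h hh
  have key : ∀ g ∈ normalizer (D : Set G), ∀ x ∈ (Cfsg.pResidual p D).map D.subtype,
      g * x * g⁻¹ ∈ (Cfsg.pResidual p D).map D.subtype := by
    rintro g hg _ ⟨d, hd, rfl⟩
    let e : D →* D :=
      { toFun := fun d => ⟨g * d * g⁻¹, (mem_normalizer_iff.1 hg _).1 d.2⟩
        map_one' := Subtype.ext (by simp)
        map_mul' := fun a b => Subtype.ext (by simp [mul_assoc]) }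
    exact ⟨e d, map_pResidual_le e (mem_map_of_mem e hd), rfl⟩
  refine mem_normalizer_iff.2 fun x => ⟨key h (hH hh) x, fun hx => ?_⟩
  simpa [mul_assoc] using key h⁻¹ (inv_mem (hH hh)) _ hx

/-- With trivial `O_p'`, a normal subgroup with a normal `p`-complement is a `p`-group. -/
theorem isPGroup_of_hasNormalPComplement {G : Type u} [Group G] [Finite G]
    (hO : Cfsg.pPrimeCore p G = ⊥) (D : Subgroup G) [D.Normal]
    (h : Cfsg.HasNormalPComplement p D) : IsPGroup p D := by
  have h1 : Cfsg.pResidual p D ≤ Cfsg.pPrimeCore p D := by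
    haveI := pResidual_normal (G := D) (p := p)
    exact CfsgLib.Coprime.le_pPrimeCore_of_not_dvd Fact.out (hasNormalPComplement_iff_not_dvd.1 h)
  have h2 := CfsgLib.Coprime.pPrimeCore_map_subtype_eq (p := p) Fact.out D
  rw [hO, bot_inf_eq, Subgroup.map_eq_bot_iff_of_injective _ D.subtype_injective] at h2
  exact (CfsgLib.Fusion.isPGroup_quotient_pResidual (p := p) (⊥ : Subgroup D)
    (h1.trans h2.le)).of_equiv QuotientGroup.quotientBot

theorem hasNormalPComplement_normalizer_image {G : Type u} [Group G] [Finite G] (K : Subgroup G)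
    [K.Normal] (hK : ¬ p ∣ Nat.card K) (hW : Cfsg.IsCharPFunctor.{u} p W) (S : Sylow p G)
    (hN : Cfsg.HasNormalPComplement p
      (normalizer ((Cfsg.inducedFunctor W (S : Subgroup G) : Subgroup G) : Set G))) :
    Cfsg.HasNormalPComplement p (normalizer ((Cfsg.inducedFunctor W
      ((S.mapSurjective (QuotientGroup.mk'_surjective K) : Sylow p (G ⧸ K)) : Subgroup (G ⧸ K)) :
        Subgroup (G ⧸ K)) : Set (G ⧸ K))) := by
  set π := QuotientGroup.mk' K
  have hinj : ∀ x ∈ (S : Subgroup G), π x = 1 → x = 1 := fun x hx h1 =>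
    CfsgLib.Fusion.eq_one_of_pGroup_of_coprime S.2 hx
      ((CfsgLib.Fusion.not_dvd_card_iff_forall_coprime_orderOf K).1 hK x
        ((QuotientGroup.eq_one_iff x).1 h1))
  let e : (S : Subgroup G) ≃* (S : Subgroup G).map π :=
    MulEquiv.ofBijective (π.subgroupMap (S : Subgroup G)) ⟨(injective_iff_map_eq_one _).2 fun x hx =>
      Subtype.ext (hinj x x.2 (congrArg Subtype.val hx)), π.subgroupMap_surjective _⟩
  have hWS : Cfsg.inducedFunctor W ((S : Subgroup G).map π) =
      (Cfsg.inducedFunctor W (S : Subgroup G)).map π := induced_of_equiv hW S.2 e π fun _ => rfl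
  show Cfsg.HasNormalPComplement p (normalizer ((Cfsg.inducedFunctor W ((S : Subgroup G).map π) :
    Subgroup (G ⧸ K)) : Set (G ⧸ K)))
  rw [hWS]
  exact hasNormalPComplement_of_le
    (CfsgLib.Fusion.normalizer_map_le K hK (S.2.to_le (induced_le W _)))
    (hasNormalPComplement_of_surjective _ (π.subgroupMap_surjective _) hN)

theorem hasNormalPComplement_of_quotient {G : Type u} [Group G] [Finite G] (K : Subgroup G)
    [K.Normal] (hK : ¬ p ∣ Nat.card K) (h : Cfsg.HasNormalPComplement p (G ⧸ K)) :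
    Cfsg.HasNormalPComplement p G := by
  refine hasNormalPComplement_iff_coprime.2 fun g hg => ?_
  set f := QuotientGroup.mk' K
  have h3 := hasNormalPComplement_iff_coprime.1 h _ (map_pResidual_le f (mem_map_of_mem f hg))
  have h4 : g ^ orderOf (f g) ∈ K := by
    rw [← QuotientGroup.eq_one_iff, ← QuotientGroup.mk'_apply, map_pow]
    exact pow_orderOf_eq_one _
  have h5 : (g ^ orderOf (f g)) ^ Nat.card K = 1 :=
    orderOf_dvd_iff_pow_eq_one.1 (Subgroup.orderOf_dvd_natCard _ h4)
  rw [← pow_mul] at h5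
  exact Nat.Coprime.coprime_dvd_left (orderOf_dvd_of_pow_eq_one h5)
    (Nat.Coprime.mul_left h3 (Nat.coprime_comm.2 ((Fact.out : p.Prime).coprime_iff_not_dvd.2 hK)))

/-- `Qd(p)` is not involved in a group with abelian Sylow `2`-subgroups. -/
theorem qdFree_of_two_abelian {G : Type u} [Group G] [Finite G] (hp : p ≠ 2)
    (hab : ∀ T : Subgroup G, IsPGroup 2 T → ∀ x ∈ T, ∀ y ∈ T, x * y = y * x) :
    ¬ Cfsg.Involves ↥(Cfsg.qd p) G := by
  rintro ⟨K, R, hR, ⟨e⟩⟩
  haveI := hR
  choose lin tr hlt using fun z : ↥(Cfsg.qd p) => (CfsgLib.Qd.mem_qd_iff _).1 z.2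
  have hlm : ∀ z w, lin (z * w) = lin z * lin w := fun z w =>
    (CfsgLib.Qd.affine_inj (by rw [← hlt, ← CfsgLib.Qd.affine_mul, ← hlt, ← hlt]; rfl)).1
  let l : ↥(Cfsg.qd p) →* Matrix.SpecialLinearGroup (Fin 2) (ZMod p) := MonoidHom.mk' lin hlm
  have hl : Function.Surjective l := fun A => by
    refine ⟨⟨CfsgLib.Qd.affine A 0, (CfsgLib.Qd.mem_qd_iff _).2 ⟨A, 0, rfl⟩⟩, ?_⟩
    exact ((CfsgLib.Qd.affine_inj (A := A)
      (hlt ⟨CfsgLib.Qd.affine A 0, (CfsgLib.Qd.mem_qd_iff _).2 ⟨A, 0, rfl⟩⟩)).1).symm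
  refine CfsgLib.Qd.not_comm_of_surjective hp
    ((l.comp e.toMonoidHom).comp (QuotientGroup.mk' (R.subgroupOf K)))
    ((hl.comp e.surjective).comp (QuotientGroup.mk'_surjective _)) fun T x hx y hy => ?_
  exact Subtype.ext (hab _ (T.2.map K.subtype) _ (mem_map_of_mem _ hx) _ (mem_map_of_mem _ hy))

/-- The reduction: a counterexample of least order is constrained, its Sylow subgroup is maximal
and its quotient by `O_p` has a normal `p`-complement. -/
theorem hasNormalPComplement_of_functor {G₀ : Type u} [Group G₀]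
    (hW : Cfsg.IsCharPFunctor.{u} p W)
    (hfinal : ∀ (X : Type u) [Group X] [Finite X] (S : Sylow p X), Cfsg.Involves X G₀ →
      centralizer ((Cfsg.pCore p X : Subgroup X) : Set X) ≤ Cfsg.pCore p X →
      (∀ hn : (Cfsg.pCore p X).Normal, haveI := hn; Cfsg.HasNormalPComplement p (X ⧸ Cfsg.pCore p X)) →
      IsCoatom (S : Subgroup X) → (p ≠ 2 → ¬ Cfsg.Involves ↥(Cfsg.qd p) X) →
      StrongAt W (S : Subgroup X)) (n : ℕ) :
    ∀ (G : Type u) [Group G] [Finite G], Nat.card G = n → Cfsg.Involves G G₀ → ∀ S : Sylow p G,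
      Cfsg.HasNormalPComplement p
        (normalizer ((Cfsg.inducedFunctor W (S : Subgroup G) : Subgroup G) : Set G)) →
      Cfsg.HasNormalPComplement p G := by
  induction n using Nat.strong_induction_on with
  | _ n ih =>
  intro G _ _ hn hG₀ S hS
  classical
  by_contra hG
  set S0 : Subgroup G := (S : Subgroup G) with hS0def
  haveI hnil : Group.IsNilpotent S0 := S.2.isNilpotent
  have hWc := isConjugacyFunctor_induced (G := G) hW
  have upSub : ∀ N : Subgroup G, Cfsg.Involves N G₀ := fun N => by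
    obtain ⟨A, B, hB, ⟨e⟩⟩ := hG₀
    haveI := hB
    exact CfsgLib.Fusion.involves_of_injective A.subtype A.subtype_injective
      (CfsgLib.Fusion.involves_of_surjective (QuotientGroup.mk' (B.subgroupOf A))
        (QuotientGroup.mk'_surjective _) (CfsgLib.Fusion.involves_of_injective
          (e.symm.toMonoidHom.comp N.subtype) (e.symm.injective.comp N.subtype_injective)
          (involves_self N)))
  have upQuo : ∀ (N : Subgroup G) [N.Normal], Cfsg.Involves (G ⧸ N) G₀ := fun N _ => by
    obtain ⟨A, B, hB, ⟨e⟩⟩ := hG₀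
    haveI := hB
    exact CfsgLib.Fusion.involves_of_injective A.subtype A.subtype_injective
      (CfsgLib.Fusion.involves_of_surjective (QuotientGroup.mk' (B.subgroupOf A))
        (QuotientGroup.mk'_surjective _) (CfsgLib.Fusion.involves_of_surjective
          ((QuotientGroup.mk' N).comp e.toMonoidHom)
          ((QuotientGroup.mk'_surjective N).comp e.surjective) (involves_self (G ⧸ N))))
  -- induction inside proper subgroups
  have key : ∀ N : Subgroup G, N ≠ ⊤ → ∀ T : Subgroup G, T ≤ N → IsPGroup p T →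
      ¬ p ∣ T.relIndex N →
      Cfsg.HasNormalPComplement p
        (normalizer ((Cfsg.inducedFunctor W T : Subgroup G) : Set G)) →
      Cfsg.HasNormalPComplement p N := by
    intro N hN T hTN hT hTi hTW
    have hlt : Nat.card N < n := hn ▸ lt_of_le_of_ne (Subgroup.card_le_card_group N)
      fun h => hN (Subgroup.eq_top_of_card_eq N h)
    let R : Sylow p N := (hT.of_equiv (Subgroup.subgroupOfEquivOfLe hTN).symm).toSylow hTi
    refine ih _ hlt N rfl (upSub N) R (CfsgLib.Fusion.hasNormalPComplement_of_map ?_ hTW)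
    refine (Subgroup.le_normalizer_map N.subtype).trans (le_of_eq ?_)
    have e : (R : Subgroup N).map N.subtype = T := map_subgroupOf_eq_of_le hTN
    rw [← induced_map hW R.2 N.subtype N.subtype_injective, e]
  have keyS : ∀ N : Subgroup G, N ≠ ⊤ → S0 ≤ N → Cfsg.HasNormalPComplement p N := fun N hN hSN =>
    key N hN S0 hSN S.2 (fun hd => S.not_dvd_index (hd.trans (relIndex_dvd_index_of_le hSN))) hS
  -- there is a nontrivial normal `p`-subgroup
  have hQne : Cfsg.pCore p G ≠ ⊥ := by
    intro hQ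
    let Bad := {H : Subgroup G // H ≤ S0 ∧ H ≠ ⊥ ∧
      ¬ Cfsg.HasNormalPComplement p (normalizer (H : Set G)) ∧
      ¬ p ∣ (S0 ⊓ normalizer (H : Set G)).relIndex (normalizer (H : Set G))}
    have mk : ∀ Q : Subgroup G, Q ≤ S0 → Q ≠ ⊥ →
        ¬ Cfsg.HasNormalPComplement p (normalizer (Q : Set G)) →
        ∃ H : Bad, Nat.card (S0 ⊓ normalizer (Q : Set G) : Subgroup G) ≤
          Nat.card (S0 ⊓ normalizer (H.1 : Set G) : Subgroup G) := by
      intro Q hQS hQb hbad
      obtain ⟨g, hg1, hg2, hg3⟩ := exists_conj_fully_normalized S hQS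
      refine ⟨⟨conjBy g Q, hg1, fun h => hQb
        ((Subgroup.map_eq_bot_iff_of_injective _ (MulAut.conj g).injective).1 h),
        fun h => hbad (hasNormalPComplement_conjBy g _ (by rw [conjBy_normalizer]; exact h)), hg3⟩, ?_⟩
      have := Subgroup.card_le_of_le hg2
      rwa [card_conjBy] at this
    haveI : Nonempty Bad := by
      by_contra hempty
      refine hG (CfsgLib.Fusion.hasNormalPComplement_of_locallyPNilpotentAction S
        (CfsgLib.Fusion.locallyPNilpotentAction_of_hasNormalPComplement _ (fun Q hQS hQb => ?_) S.2))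
      by_contra hbad
      exact hempty ⟨(mk Q hQS hQb hbad).choose⟩
    obtain ⟨⟨H, hHS, hHb, hHbad, hHi⟩, hmax⟩ := Finite.exists_max
      fun H : Bad => Nat.card (S0 ⊓ normalizer (H.1 : Set G) : Subgroup G)
    set T := S0 ⊓ normalizer (H : Set G) with hT
    have hTp : IsPGroup p T := S.2.to_le inf_le_left
    have hne : normalizer (H : Set G) ≠ ⊤ := by
      intro h
      haveI : H.Normal := Subgroup.normalizer_eq_top_iff.1 h
      exact hHb (le_bot_iff.1 ((CfsgLib.Coprime.le_pCore (S.2.to_le hHS)).trans hQ.le))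
    refine hHbad (key _ hne T inf_le_right hTp hHi ?_)
    by_cases hTS : T = S0
    · rw [hTS]; exact hS
    by_contra hbad
    have hTb : T ≠ ⊥ := ne_bot_of_le_ne_bot hHb (le_inf hHS le_normalizer)
    obtain ⟨H', hH'⟩ := mk _ ((induced_le W T).trans inf_le_left) (induced_ne_bot hW hTp hTb) hbad
    have h3 : Nat.card T < Nat.card
        (S0 ⊓ normalizer ((Cfsg.inducedFunctor W T : Subgroup G) : Set G) : Subgroup G) :=
      lt_of_lt_of_le (card_lt_card (lt_inf_normalizer (inf_le_left : T ≤ S0) hTS))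
        (Subgroup.card_le_of_le (inf_le_inf le_rfl (cfun_normalizer_le hWc hTp)))
    exact absurd (hH'.trans (hmax H')) (not_le.2 h3)
  haveI hQn := CfsgLib.Coprime.pCore_normal' (G := G) p
  -- no normal subgroup of order prime to `p`
  have hO : Cfsg.pPrimeCore p G = ⊥ := by
    by_contra hne
    haveI := CfsgLib.Coprime.pPrimeCore_characteristic (G := G) p
    set K := Cfsg.pPrimeCore p G
    have hK : ¬ p ∣ Nat.card K := CfsgLib.Coprime.pPrimeCore_not_dvd Fact.out
    have hlt : Nat.card (G ⧸ K) < n := by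
      rw [← hn, Subgroup.card_eq_card_quotient_mul_card_subgroup K]
      exact lt_mul_of_one_lt_right Nat.card_pos ((Subgroup.one_lt_card_iff_ne_bot K).2 hne)
    exact hG (hasNormalPComplement_of_quotient K hK (ih _ hlt (G ⧸ K) rfl (upQuo K) _
      (hasNormalPComplement_normalizer_image K hK hW S hS)))
  set Q := Cfsg.pCore p G with hQdef
  have hQp : IsPGroup p Q := CfsgLib.Coprime.pCore_isPGroup p
  have hQS : Q ≤ S0 := hQp.le_sylow_of_normal S
  set π := QuotientGroup.mk' Q
  have hπ := QuotientGroup.mk'_surjective Q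
  set Sb := S.mapSurjective hπ
  have hWne : normalizer ((Cfsg.inducedFunctor W S0 : Subgroup G) : Set G) ≠ ⊤ := fun h =>
    hG ((CfsgLib.Fusion.hasNormalPComplement_congr ((MulEquiv.subgroupCongr h).trans topEquiv)).1 hS)
  have hSne : S0 ≠ ⊤ := fun h => hG (CfsgLib.Fusion.hasNormalPComplement_of_isPGroup fun g => by
    obtain ⟨k, hk⟩ := S.2 ⟨g, show g ∈ S0 by rw [h]; exact mem_top g⟩
    exact ⟨k, congrArg Subtype.val hk⟩)
  have hSQ : S0 ≠ Q := by
    intro h
    refine hWne (top_le_iff.1 (le_trans ?_ (cfun_normalizer_le hWc S.2)))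
    show ⊤ ≤ normalizer (S0 : Set G)
    rw [h]
    exact (Subgroup.normalizer_eq_top Q).ge
  -- the quotient by `O_p`
  have hquot : Cfsg.HasNormalPComplement p (G ⧸ Q) := by
    have hlt : Nat.card (G ⧸ Q) < n := by
      rw [← hn, Subgroup.card_eq_card_quotient_mul_card_subgroup Q]
      exact lt_mul_of_one_lt_right Nat.card_pos ((Subgroup.one_lt_card_iff_ne_bot Q).2 hQne)
    refine ih _ hlt (G ⧸ Q) rfl (upQuo Q) Sb ?_
    set X := Cfsg.inducedFunctor W (Sb : Subgroup (G ⧸ Q))
    set H := (normalizer (X : Set (G ⧸ Q))).comap π with hH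
    have hSH : S0 ≤ H := by
      rw [hH, ← Subgroup.map_le_iff_le_comap]
      exact le_normalizer.trans (cfun_normalizer_le (isConjugacyFunctor_induced hW) Sb.2)
    have hmap : H.map π = normalizer (X : Set (G ⧸ Q)) :=
      Subgroup.map_comap_eq_self_of_surjective hπ _
    have hHne : H ≠ ⊤ := by
      intro h
      rw [h, Subgroup.map_top_of_surjective π hπ] at hmap
      haveI : X.Normal := Subgroup.normalizer_eq_top_iff.1 hmap.symm
      refine induced_ne_bot hW Sb.2 ?_ (le_bot_iff.1 ((CfsgLib.Coprime.le_pCore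
        (Sb.2.to_le (induced_le W _))).trans (CfsgLib.Coprime.pCore_quotient_eq_bot p).le))
      intro e
      change S0.map π = ⊥ at e
      rw [Subgroup.map_eq_bot_iff, QuotientGroup.ker_mk'] at e
      exact hSQ (le_antisymm e hQS)
    rw [← hmap]
    exact hasNormalPComplement_of_surjective _ (π.subgroupMap_surjective H) (keyS H hHne hSH)
  haveI hLn := pResidual_normal (G := G ⧸ Q) (p := p)
  set L := Cfsg.pResidual p (G ⧸ Q) with hLdef
  have hLp : ¬ p ∣ Nat.card L := hasNormalPComplement_iff_not_dvd.1 hquot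
  set K := L.comap π with hK
  haveI hKn : K.Normal := Subgroup.Normal.comap hLn π
  have hQK : Q ≤ K := fun q hq => by
    rw [hK, mem_comap, show π q = 1 from (QuotientGroup.eq_one_iff q).2 hq]; exact one_mem L
  have hSK : ∀ x ∈ S0, x ∈ K → x ∈ Q := fun x hx hxK => by
    rw [← QuotientGroup.eq_one_iff]
    exact CfsgLib.Fusion.eq_one_of_pGroup_of_coprime Sb.2 (mem_map_of_mem π hx)
      ((CfsgLib.Fusion.not_dvd_card_iff_forall_coprime_orderOf L).1 hLp _ hxK)
  -- constrained
  set C := centralizer (Q : Set G) with hC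
  have hCK : C ⊓ K ≤ Q := by
    have hOK : Cfsg.pPrimeCore p K = ⊥ := by
      have := CfsgLib.Coprime.pPrimeCore_map_subtype_eq (p := p) Fact.out K
      rwa [hO, bot_inf_eq, Subgroup.map_eq_bot_iff_of_injective _ K.subtype_injective] at this
    have hcoreK : (Cfsg.pCore p K).map K.subtype = Q := by
      rw [CfsgLib.Coprime.pCore_map_subtype_eq, inf_eq_left.2 hQK]
    obtain ⟨R⟩ := (inferInstance : Nonempty (Sylow p K))
    have hRQ : ((R : Subgroup K).map K.subtype) ≤ Q := by
      obtain ⟨P, hP⟩ := (R.2.map K.subtype).exists_le_sylow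
      obtain ⟨g, hg⟩ := MulAction.exists_smul_eq G P S
      have hgS : conjBy g (P : Subgroup G) = S0 := by rw [hS0def, ← hg]; rfl
      rintro _ ⟨x, hx, rfl⟩
      have h1 : g * (x : G) * g⁻¹ ∈ Q :=
        hSK _ (hgS ▸ CfsgLib.Fusion.conj_mem_conjBy (hP (mem_map_of_mem _ hx)))
          (hKn.conj_mem _ x.2 g)
      have := hQn.conj_mem' _ h1 g
      simpa [mul_assoc] using this
    have hle := centralizer_pCore_le_of_inf_le hOK R (inf_le_left.trans (by
      rw [← Subgroup.map_le_map_iff_of_injective K.subtype_injective, hcoreK]; exact hRQ))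
    intro x hx
    obtain ⟨hxC, hxK⟩ := mem_inf.1 hx
    have : (⟨x, hxK⟩ : K) ∈ Cfsg.pCore p K := hle (mem_centralizer_iff.2 fun q hq =>
      Subtype.ext (mem_centralizer_iff.1 hxC q (hcoreK.le (mem_map_of_mem K.subtype hq))))
    exact hcoreK.le (mem_map_of_mem K.subtype this)
  have hcon : C ≤ Q := by
    haveI : (C.map π).Normal := Subgroup.Normal.map inferInstance π hπ
    have hp' : IsPGroup p (C.map π) := by
      rintro ⟨y, hy⟩
      obtain ⟨k, hk⟩ := CfsgLib.Fusion.exists_pow_p_mem_pResidual (p := p) y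
      refine ⟨k, Subtype.ext ?_⟩
      show y ^ p ^ k = 1
      obtain ⟨c, hc, rfl⟩ := hy
      rw [← map_pow, QuotientGroup.mk'_apply, QuotientGroup.eq_one_iff]
      exact hCK (mem_inf.2 ⟨pow_mem hc _, by rw [hK, mem_comap, map_pow]; exact hk⟩)
    have := (CfsgLib.Coprime.le_pCore hp').trans (CfsgLib.Coprime.pCore_quotient_eq_bot p).le
    rwa [le_bot_iff, Subgroup.map_eq_bot_iff, QuotientGroup.ker_mk'] at this
  -- the Sylow subgroup is maximal
  have hcoatom : IsCoatom S0 := by
    refine ⟨hSne, fun H hSH => by_contra fun hH => ?_⟩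
    have hc := keyS H hH hSH.le
    haveI hMn' := pResidual_normal (G := H) (p := p)
    set M := (Cfsg.pResidual p H).map H.subtype with hM
    have hHM : H ≤ normalizer (M : Set G) := map_pResidual_normal H le_normalizer
    have hMp : ¬ p ∣ Nat.card M := by
      rw [hM, Subgroup.card_map_of_injective H.subtype_injective]
      exact hasNormalPComplement_iff_not_dvd.1 hc
    have hQM : Q ≤ normalizer (M : Set G) := (hQS.trans hSH.le).trans hHM
    have hMC : M ≤ C := by
      rw [← commutator_eq_bot_iff_le_centralizer]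
      refine le_bot_iff.1 fun x hx => ?_
      have h1 : x ∈ M := le_normalizer_iff_commutator_le_left.1 hQM hx
      have h2 : x ∈ Q := commutator_le_right M Q hx
      exact mem_bot.2 (CfsgLib.Fusion.eq_one_of_pGroup_of_coprime hQp h2
        ((CfsgLib.Fusion.not_dvd_card_iff_forall_coprime_orderOf M).1 hMp x h1))
    have hMbot : Cfsg.pResidual p H = ⊥ := by
      refine le_bot_iff.1 fun x hx => mem_bot.2 (Subtype.ext ?_)
      have hxM : (x : G) ∈ M := mem_map_of_mem _ hx
      exact CfsgLib.Fusion.eq_one_of_pGroup_of_coprime hQp (hcon (hMC hxM))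
        ((CfsgLib.Fusion.not_dvd_card_iff_forall_coprime_orderOf M).1 hMp _ hxM)
    have hHp : IsPGroup p H :=
      (CfsgLib.Fusion.isPGroup_quotient_pResidual (p := p) (⊥ : Subgroup H) hMbot.le).of_equiv
        QuotientGroup.quotientBot
    exact hSH.ne (S.is_maximal' hHp hSH.le).symm
  -- the complement modulo `O_p` is abelian
  have hinv : ∀ M : Subgroup (G ⧸ Q), M ≤ L → S0.map π ≤ normalizer (M : Set (G ⧸ Q)) →
      M = ⊥ ∨ M = L := by
    intro M hML hMS
    have hdisj : ∀ x ∈ L, x ∈ S0.map π → x = 1 := fun x hxL hxS =>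
      CfsgLib.Fusion.eq_one_of_pGroup_of_coprime Sb.2 hxS
        ((CfsgLib.Fusion.not_dvd_card_iff_forall_coprime_orderOf L).1 hLp x hxL)
    have hle : S0 ≤ (M ⊔ S0.map π).comap π := by
      rw [← Subgroup.map_le_iff_le_comap]; exact le_sup_right
    rcases eq_or_lt_of_le hle with h | h
    · left
      refine le_bot_iff.1 fun x hx => mem_bot.2 (hdisj x (hML hx) ?_)
      obtain ⟨y, rfl⟩ := hπ x
      refine mem_map_of_mem π ?_
      rw [h, mem_comap]
      exact mem_sup_left hx
    · right
      have htop : M ⊔ S0.map π = ⊤ := by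
        rw [← Subgroup.map_comap_eq_self_of_surjective hπ (M ⊔ S0.map π), hcoatom.2 _ h,
          Subgroup.map_top_of_surjective π hπ]
      refine le_antisymm hML fun x hx => ?_
      have : x ∈ ((M ⊔ S0.map π : Subgroup (G ⧸ Q)) : Set (G ⧸ Q)) := by rw [htop]; trivial
      rw [Subgroup.coe_mul_of_right_le_normalizer_left _ _ hMS] at this
      obtain ⟨m, hm, s, hs, rfl⟩ := Set.mem_mul.1 this
      have hs1 : s = 1 := hdisj s (by simpa using mul_mem (inv_mem (hML hm)) hx) hs
      rw [hs1, mul_one]; exact hm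
  have hLab : ∀ a ∈ L, ∀ b ∈ L, a * b = b * a := by
    rcases eq_or_ne L ⊥ with hLb | hLb
    · intro a ha b hb
      rw [hLb, mem_bot] at ha hb
      rw [ha, hb]
    obtain ⟨q, hq, hqd⟩ := Nat.exists_prime_and_dvd
      ((Subgroup.one_lt_card_iff_ne_bot L).2 hLb).ne'
    haveI := Fact.mk hq
    obtain ⟨P⟩ := (inferInstance : Nonempty (Sylow q L))
    set P1 := (P : Subgroup L).map L.subtype with hP1
    set N := normalizer (P1 : Set (G ⧸ Q)) with hNdef
    have hfr : N ⊔ L = ⊤ := Sylow.normalizer_sup_eq_top P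
    obtain ⟨T, -, hTN, hTp, hTi⟩ := CfsgLib.Fusion.exists_le_not_dvd_relIndex (p := p)
      (IsPGroup.of_bot (G := G ⧸ Q) (p := p)) (bot_le (a := N))
    have hNi : ¬ p ∣ N.index := by
      intro hd
      have h1 := CfsgLib.Fusion.card_sup_mul_card_inf N L
      rw [hfr, Nat.card_congr topEquiv.toEquiv, ← N.card_mul_index, mul_assoc] at h1
      exact hLp (hd.trans (Dvd.intro _ (Nat.eq_of_mul_eq_mul_left Nat.card_pos h1)))
    have hTtop : ¬ p ∣ T.relIndex ⊤ := by
      rw [← Subgroup.relIndex_mul_relIndex T N ⊤ hTN le_top, relIndex_top_right]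
      exact fun hd => ((Fact.out : p.Prime).dvd_mul.1 hd).elim hTi hNi
    obtain ⟨g, -, hg⟩ := CfsgLib.Fusion.exists_conj_le_of_not_dvd_relIndex hTp le_top hTtop
      Sb.2 le_top
    set P2 := conjBy g⁻¹ P1 with hP2
    have hP2L : P2 ≤ L := conjBy_le_iff.2 fun x hx => hLn.conj_mem x (map_subtype_le _ hx) _
    have hP2S : S0.map π ≤ normalizer (P2 : Set (G ⧸ Q)) := by
      rw [hP2, ← conjBy_normalizer]
      intro s hs
      rw [mem_conjBy, inv_inv]
      exact hTN (conjBy_le_iff.1 hg s hs)
    have hP2ne : P2 ≠ ⊥ := by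
      intro h
      have h' := (Subgroup.map_eq_bot_iff_of_injective _ (MulAut.conj g⁻¹).injective).1 h
      rw [hP1, Subgroup.map_eq_bot_iff_of_injective _ L.subtype_injective] at h'
      have := P.not_dvd_index
      rw [h', Subgroup.index_bot] at this
      exact this hqd
    have hP2eq := (hinv P2 hP2L hP2S).resolve_left hP2ne
    have hLq : IsPGroup q L := hP2eq ▸ (CfsgLib.Fusion.isPGroup_conjBy _ (P.2.map _))
    haveI := hLq.isNilpotent
    haveI : Nontrivial L := (Subgroup.nontrivial_iff_ne_bot L).2 hLb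
    have hlt : (commutator L).map L.subtype ≠ L := by
      intro h
      refine (Group.IsSolvable.commutator_lt_top_of_nontrivial L).ne ?_
      rw [← map_injective L.subtype_injective |>.eq_iff, h, ← MonoidHom.range_eq_map, range_subtype]
    have := (hinv _ (map_subtype_le _) (by
      haveI : ((commutator L).map L.subtype).Normal :=
        CfsgLib.Coprime.map_subtype_normal_of_characteristic L (commutator L)
      rw [Subgroup.normalizer_eq_top]; exact le_top)).resolve_right hlt
    rw [Subgroup.map_subtype_commutator, commutator_eq_bot_iff_le_centralizer] at this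
    exact fun a ha b hb => (mem_centralizer_iff.1 (this hb) a ha)
  have hfree : p ≠ 2 → ¬ Cfsg.Involves ↥(Cfsg.qd p) G := by
    intro hp
    refine qdFree_of_two_abelian hp fun T hT x hx y hy => ?_
    have hmem : ∀ z ∈ T, π z ∈ L := fun z hz => mem_pResidual (by
      obtain ⟨k, hk⟩ := hT ⟨z, hz⟩
      refine Nat.Coprime.coprime_dvd_left (orderOf_map_dvd π z) (Nat.Coprime.coprime_dvd_left
        (orderOf_dvd_of_pow_eq_one (congrArg Subtype.val hk)) ?_)
      exact Nat.Coprime.pow_left k ((Nat.coprime_primes Nat.prime_two Fact.out).2 hp.symm))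
    have h1 : ⁅x, y⁆ ∈ Q := by
      rw [← QuotientGroup.eq_one_iff, ← QuotientGroup.mk'_apply, map_commutatorElement,
        commutatorElement_eq_one_iff_mul_comm]
      exact hLab _ (hmem x hx) _ (hmem y hy)
    have h2 : ⁅x, y⁆ ∈ T := by
      rw [commutatorElement_def]
      exact mul_mem (mul_mem (mul_mem hx hy) (inv_mem hx)) (inv_mem hy)
    refine commutatorElement_eq_one_iff_mul_comm.1 ?_
    obtain ⟨k, hk⟩ := hT ⟨_, h2⟩
    obtain ⟨l, hl⟩ := hQp ⟨_, h1⟩
    exact orderOf_eq_one_iff.1 (Nat.eq_one_of_dvd_coprimes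
      (Nat.Coprime.pow k l ((Nat.coprime_primes Nat.prime_two Fact.out).2 hp.symm))
      (orderOf_dvd_of_pow_eq_one (congrArg Subtype.val hk))
      (orderOf_dvd_of_pow_eq_one (congrArg Subtype.val hl)))
  -- conclusion
  have hst := hfinal G S hG₀ hcon (fun _ => hquot) hcoatom hfree
  refine hG (CfsgLib.Fusion.hasNormalPComplement_of_noExtraFusion S ?_)
  rintro x hx y hy ⟨g, rfl⟩
  obtain ⟨z, hz, hze⟩ := hst {x} g (by rintro a rfl; exact hx) (by rintro a rfl; exact hy)
  have hzx := hze x rfl
  set N := normalizer ((Cfsg.inducedFunctor W S0 : Subgroup G) : Set G) with hN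
  have hSN : S0 ≤ N := le_normalizer.trans (cfun_normalizer_le hWc S.2)
  let R : Sylow p N := S.subtype hSN
  haveI := pResidual_normal (G := N) (p := p)
  have hz' : (⟨z, hz⟩ : N) ∈ Cfsg.pResidual p N ⊔ (R : Subgroup N) := by
    rw [CfsgLib.Fusion.pResidual_sup_sylow]; exact mem_top _
  rw [sup_comm] at hz'
  obtain ⟨v, hv, m, hm, hvm⟩ := Subgroup.mem_sup_of_normal_right.1 hz'
  refine ⟨v, hv, ?_⟩
  have hvm' : (v : G) * m = z := congrArg Subtype.val hvm
  have hmx : (m : G) * x * (m : G)⁻¹ ∈ S0 := by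
    have : (m : G) * x * (m : G)⁻¹ = (v : G)⁻¹ * (z * x * z⁻¹) * v := by
      rw [← hvm']; group
    rw [this, hzx]
    exact mul_mem (mul_mem (inv_mem (show (v : G) ∈ S0 from hv)) hy) hv
  have hone : (m : G) * x * (m : G)⁻¹ = x := by
    refine mul_inv_eq_one.1 (CfsgLib.Fusion.eq_one_of_pGroup_of_coprime S.2
      (mul_mem hmx (inv_mem hx)) ?_)
    have hc := hasNormalPComplement_iff_coprime.1 hS (m * ((⟨x, hSN hx⟩ : N) * m⁻¹ *
      (⟨x, hSN hx⟩ : N)⁻¹)) (mul_mem hm (Subgroup.Normal.conj_mem inferInstance _ (inv_mem hm) _))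
    rw [← Subgroup.orderOf_coe] at hc
    simpa [mul_assoc] using hc
  rw [← hzx, ← hvm']
  conv_lhs => rw [← hone]
  group

end CfsgLib.CFun
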