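import Cfsg.Agent.Lib.CFun.OddFpfCommutator

/-!
# An operator of prime order without fixed points on a `p`-group (BG 3.4)
-/

set_option autoImplicit false
set_option linter.style.haveILetI false
set_option linter.unusedSectionVars false

open Subgroup
open scoped commutatorElement
open CfsgLib.Coprime (conj_mem_of_le_normalizer)

namespace CfsgLib.CFun.FpfComm

universe u

variable {Γ : Type u} [Group Γ] [Finite Γ] {l r : ℕ} [hl : Fact l.Prime]

omit [Finite Γ] hl in
theorem frattini_map_eq {V : Subgroup Γ} (g : V ≃* V) :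
    (frattini V).map (g : V →* V) = frattini V :=
  Subgroup.characteristic_iff_map_eq.1 inferInstance g

/-- `[K, a]` centralizes every `p`-group on which `a` has no fixed points. -/
theorem commutator_le_centralizer {V K : Subgroup Γ} (hV : IsPGroup l V) (hr : r.Prime)
    (hrl : r ≠ l) {a : Γ} (har : a ^ r = 1) (haV : a ∈ normalizer (V : Set Γ))
    (haK : a ∈ normalizer (K : Set Γ)) (hKV : K ≤ normalizer (V : Set Γ))
    (hodd : Odd (Nat.card K)) (hrK : ¬ r ∣ Nat.card K) (hlK : ¬ l ∣ Nat.card K)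
    (hfix : ∀ v ∈ V, a * v = v * a → v = 1) :
    ⁅K, zpowers a⁆ ≤ centralizer (V : Set Γ) := by
  classical
  set N := normalizer (V : Set Γ) with hN
  haveI hFn : (frattini V).Normal := inferInstance
  let W : Type u := V ⧸ frattini V
  letI : CommGroup W :=
    { QuotientGroup.Quotient.group (frattini V) with
      mul_comm := fun s t => by
        obtain ⟨x, rfl⟩ := QuotientGroup.mk_surjective s
        obtain ⟨y, rfl⟩ := QuotientGroup.mk_surjective t
        refine (QuotientGroup.eq (s := frattini V)).2 ?_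
        rw [show (x * y)⁻¹ * (y * x) = ⁅y⁻¹, x⁻¹⁆ by group]
        exact CfsgLib.Coprime.commutator_le_frattini hV
          (commutator_mem_commutator (mem_top _) (mem_top _)) }
  haveI : Finite W := Quotient.finite _
  have hW : ∀ w : W, w ^ l = 1 := by
    intro w
    obtain ⟨x, rfl⟩ := QuotientGroup.mk_surjective w
    exact (QuotientGroup.eq_one_iff (x ^ l)).2 (CfsgLib.Coprime.pow_mem_frattini hV x)
  let c : N →* MulAut W :=
    MonoidHom.mk' (fun g => QuotientGroup.congr _ _ (normalizerMonoidHom V g) (frattini_map_eq _))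
      fun g h => MulEquiv.ext fun m => by
        obtain ⟨x, rfl⟩ := QuotientGroup.mk_surjective m
        show QuotientGroup.mk (normalizerMonoidHom V (g * h) x) =
          QuotientGroup.mk (normalizerMonoidHom V g (normalizerMonoidHom V h x))
        rw [map_mul]; rfl
  have hc : ∀ (g : N) (x : V),
      c g (QuotientGroup.mk x : W) = QuotientGroup.mk (normalizerMonoidHom V g x) := fun g x => rfl
  have hA : zpowers a ≤ N := zpowers_le.2 haV
  have hAF : zpowers a ≤ normalizer (((frattini V).map V.subtype : Subgroup Γ) : Set Γ) :=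
    hA.trans (PGroup.normalizer_le_normalizer_frattini V)
  set α : N := ⟨a, haV⟩
  -- no fixed point on the quotient
  have hfix' : ∀ w : W, c α w = w → w = 1 := by
    intro w hw
    obtain ⟨x, rfl⟩ := QuotientGroup.mk_surjective w
    rw [hc, QuotientGroup.eq] at hw
    set M := (frattini V).map V.subtype
    have hxM : (x : Γ) ∈ normalizer (M : Set Γ) :=
      PGroup.normalizer_le_normalizer_frattini V (le_normalizer x.2)
    have h1 : a * (x : Γ) * a⁻¹ * (x : Γ)⁻¹ ∈ M := by
      have e : (a * (x : Γ) * a⁻¹)⁻¹ * (x : Γ) ∈ M := ⟨_, hw, rfl⟩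
      have e2 := inv_mem ((mem_normalizer_iff.1 hxM _).1 e)
      rwa [show ((x : Γ) * ((a * (x : Γ) * a⁻¹)⁻¹ * (x : Γ)) * (x : Γ)⁻¹)⁻¹ =
        a * (x : Γ) * a⁻¹ * (x : Γ)⁻¹ by group] at e2
    have h2 : ∀ b ∈ zpowers a, b * (x : Γ) * b⁻¹ * (x : Γ)⁻¹ ∈ M := by
      let F : Subgroup Γ :=
        { carrier := {b | b ∈ normalizer (M : Set Γ) ∧ b * (x : Γ) * b⁻¹ * (x : Γ)⁻¹ ∈ M}
          one_mem' := ⟨one_mem _, by simp⟩
          mul_mem' := fun {b d} hb hd => ⟨mul_mem hb.1 hd.1, by
            rw [show b * d * (x : Γ) * (b * d)⁻¹ * (x : Γ)⁻¹ =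
              b * (d * (x : Γ) * d⁻¹ * (x : Γ)⁻¹) * b⁻¹ * (b * (x : Γ) * b⁻¹ * (x : Γ)⁻¹) by group]
            exact mul_mem ((mem_normalizer_iff.1 hb.1 _).1 hd.2) hb.2⟩
          inv_mem' := fun {b} hb => ⟨inv_mem hb.1, by
            rw [show b⁻¹ * (x : Γ) * b⁻¹⁻¹ * (x : Γ)⁻¹ =
              b⁻¹ * (b * (x : Γ) * b⁻¹ * (x : Γ)⁻¹)⁻¹ * b by group]
            exact (mem_normalizer_iff''.1 hb.1 _).1 (inv_mem hb.2)⟩ }
      exact fun b hb => ((zpowers_le (H := F)).2 ⟨hAF (mem_zpowers a), h1⟩ hb).2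
    obtain ⟨n, hn, hnC⟩ := CfsgLib.Coprime.exists_fixed_in_coset hAF (by
        obtain ⟨j, hj⟩ := IsPGroup.iff_card.1 (hV.to_le (map_subtype_le (frattini V)))
        rw [hj, Nat.card_zpowers]
        exact (((Nat.coprime_primes hr hl.out).2 hrl).pow_right j).coprime_dvd_left
          (orderOf_dvd_of_pow_eq_one har))
      (Or.inl (CfsgLib.Coprime.isSolvable_of_isMulCommutative inferInstance)) hxM h2
    have hxn : (x : Γ) * n = 1 := hfix _ (mul_mem x.2 (map_subtype_le _ hn))
      (mem_centralizer_iff.1 hnC a (mem_zpowers a))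
    obtain ⟨y, hy, rfl⟩ := hn
    have hxy : x * y = 1 := Subtype.ext hxn
    rw [QuotientGroup.eq_one_iff, eq_inv_of_mul_eq_one_left hxy]
    exact inv_mem hy
  have hKc := commute_group hW hr hrl (a := c α)
    (by rw [← map_pow, show α ^ r = 1 from Subtype.ext har, map_one]) hfix'
    (K := (K.subgroupOf N).map c) ?_ ?_ ?_ ?_
  · have hcle : ⁅K, zpowers a⁆ ≤ K := commutator_le.2 fun x hx b hb => by
      rw [commutatorElement_def, show x * b * x⁻¹ * b⁻¹ = x * (b * x⁻¹ * b⁻¹) by group]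
      exact mul_mem hx (conj_mem_of_le_normalizer (zpowers_le.2 haK) hb (inv_mem hx))
    refine CfsgLib.Coprime.le_centralizer_of_trivial_on_frattini_quotient (hcle.trans hKV) ?_ ?_
    · obtain ⟨j, hj⟩ := IsPGroup.iff_card.1 (hV.to_subgroup (frattini V))
      rw [hj]
      refine Nat.Coprime.pow_right j ?_
      exact ((hl.out.coprime_iff_not_dvd.2 hlK).coprime_dvd_right (card_dvd_of_le hcle)).symm
    · intro b hb v hv
      have hker : ⁅K, zpowers a⁆ ≤ c.ker.map N.subtype := by
        rw [commutator_le]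
        rintro x hx _ ⟨i, rfl⟩
        refine ⟨⁅(⟨x, hKV hx⟩ : N), α ^ i⁆, ?_, ?_⟩
        · rw [SetLike.mem_coe, MonoidHom.mem_ker, map_commutatorElement,
            commutatorElement_eq_one_iff_commute, map_zpow]
          exact (show Commute (c ⟨x, hKV hx⟩) (c α) from
            mem_centralizer_singleton_iff.1 (hKc ⟨⟨x, hKV hx⟩, hx, rfl⟩)).zpow_right i
        · rw [map_commutatorElement]; rfl
      obtain ⟨b', hb', rfl⟩ := hker hb
      have h1 : c b' (QuotientGroup.mk (⟨v, hv⟩ : V) : W) = QuotientGroup.mk (⟨v, hv⟩ : V) := by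
        rw [MonoidHom.mem_ker.1 hb']; rfl
      rw [hc, QuotientGroup.eq] at h1
      have hvM : v ∈ normalizer (((frattini V).map V.subtype : Subgroup Γ) : Set Γ) :=
        PGroup.normalizer_le_normalizer_frattini V (le_normalizer hv)
      have e : ((b' : Γ) * v * (b' : Γ)⁻¹)⁻¹ * v ∈ (frattini V).map V.subtype := ⟨_, h1, rfl⟩
      have e2 := inv_mem ((mem_normalizer_iff.1 hvM _).1 e)
      rwa [show (v * (((b' : Γ) * v * (b' : Γ)⁻¹)⁻¹ * v) * v⁻¹)⁻¹ =
        (b' : Γ) * v * (b' : Γ)⁻¹ * v⁻¹ by group] at e2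
  · exact hodd.of_dvd_nat ((card_map_dvd _ _).trans
      (Nat.card_congr (subgroupOfEquivOfLe hKV).toEquiv).dvd)
  · exact fun h => hrK (h.trans ((card_map_dvd _ _).trans
      (Nat.card_congr (subgroupOfEquivOfLe hKV).toEquiv).dvd))
  · exact fun h => hlK (h.trans ((card_map_dvd _ _).trans
      (Nat.card_congr (subgroupOfEquivOfLe hKV).toEquiv).dvd))
  · refine le_normalizer_map c ⟨α, ?_, rfl⟩
    exact mem_normalizer_iff.2 fun z => mem_normalizer_iff.1 haK (z : Γ)

end CfsgLib.CFun.FpfComm
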