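import Cfsg.Agent.Lib.CFun.OddLinearTwo
import Cfsg.Agent.Lib.PGroup.RankTwoOmega
import Cfsg.Agent.Lib.PGroup.SmallElementsIndex
import Cfsg.Agent.Lib.PGroup.OmegaOdd
import Cfsg.Agent.Lib.PGroup.FpfSections

/-!
# Odd groups acting on `p`-groups of rank two
-/

set_option autoImplicit false
set_option linter.style.haveILetI false
set_option linter.unusedSectionVars false

open Subgroup
open scoped commutatorElement
open CfsgLib.Coprime (conj_mem_of_le_normalizer)

namespace CfsgLib.CFun

universe u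

variable {G : Type u} [Group G] [Finite G] {p : ℕ} [hp : Fact p.Prime]

theorem smallExp_of_odd (hp2 : p ≠ 2) : CfsgLib.PGroup.smallExp p = p := by
  simp [CfsgLib.PGroup.smallExp, hp2]

/-- The `p'`-elements of the derived group of an odd solvable group acting on a `p`-group of rank at
most two act trivially. -/
theorem centralizes_rank_two (hp2 : p ≠ 2) {R A : Subgroup G} (hR : IsPGroup p R)
    (hr : Cfsg.PRankLE p 2 R) (hAR : A ≤ normalizer (R : Set G)) (hAs : Group.IsSolvable A)
    (hodd : Odd (Nat.card A)) {x : G} (hx : x ∈ ⁅A, A⁆) (hxp : (orderOf x).Coprime p) :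
    x ∈ centralizer (R : Set G) := by
  classical
  obtain ⟨C, ⟨hchar, hpow, hcc, hPC⟩, hcen⟩ := CfsgLib.CFun.exists_critical hR
  set D₀ := CfsgLib.PGroup.smallSubgroup C hpow hcc with hD₀
  have hmemD : ∀ {y : R}, y ∈ D₀ ↔ y ∈ C ∧ y ^ p = 1 := by
    intro y
    show y ∈ C ∧ y ^ CfsgLib.PGroup.smallExp p = 1 ↔ _
    rw [smallExp_of_odd hp2]
  haveI hDchar : D₀.Characteristic := by
    haveI := hchar
    refine characteristic_iff_map_le.2 fun e => ?_
    rintro _ ⟨y, hy, rfl⟩
    obtain ⟨hyC, hyp⟩ := hmemD.1 hy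
    exact hmemD.2 ⟨CfsgLib.CFun.mem_of_map_conj e hyC,
      show e y ^ p = 1 by rw [← map_pow, hyp, map_one]⟩
  set D := D₀.map R.subtype with hD
  have hDR : D ≤ R := map_subtype_le _
  have hAD : A ≤ normalizer (D : Set G) :=
    hAR.trans (CfsgLib.PGroup.normalizer_le_normalizer_map_char (hX := hDchar) R D₀)
  have hDe : ∀ y ∈ D, y ^ p = 1 := by
    rintro _ ⟨y, hy, rfl⟩
    rw [← map_pow, (hmemD.1 hy).2, map_one]
  have hDp : IsPGroup p D := hR.to_le hDR
  have hrkD : ∀ E : Subgroup D, Cfsg.IsElementaryAbelian p E → Nat.card E ≤ p ^ 2 := by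
    intro E hE
    set E' := (E.map D.subtype).subgroupOf R
    have hle : E.map D.subtype ≤ R := (map_subtype_le E).trans hDR
    have h1 := hr E' ⟨⟨fun a b => Subtype.ext (Subtype.ext ?_)⟩⟩ ?_
    · rwa [Nat.card_congr (subgroupOfEquivOfLe hle).toEquiv,
        card_map_of_injective D.subtype_injective] at h1
    · obtain ⟨a', ha', hae⟩ := a.2
      obtain ⟨b', hb', hbe⟩ := b.2
      show ((a : R) : G) * (b : R) = (b : R) * (a : R)
      have h2 : a' * b' = b' * a' :=
        congrArg Subtype.val (hE.1.is_comm.comm (⟨a', ha'⟩ : E) ⟨b', hb'⟩)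
      have h3 := congrArg D.subtype h2
      rw [map_mul, map_mul, hae, hbe] at h3
      exact h3
    · rintro a ⟨a', ha', hae⟩
      refine Subtype.ext ?_
      show (a : G) ^ p = 1
      have h3 := congrArg D.subtype (hE.2 a' ha')
      rw [map_pow, hae, map_one] at h3
      exact h3
  have hDcard : Nat.card D ≤ p ^ 3 :=
    CfsgLib.RankTwoOmega.card_le_of_exponent hDp hp2 (fun y => Subtype.ext (hDe y y.2)) hrkD
  set T := (commutator D).map D.subtype with hT
  have hTD : T ≤ D := map_subtype_le _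
  have hTeq : T = ⁅D, D⁆ := by
    rw [hT, _root_.commutator_def, Subgroup.map_commutator, ← MonoidHom.range_eq_map, D.range_subtype]
  have hAT : A ≤ normalizer (T : Set G) :=
    hAD.trans (CfsgLib.PGroup.normalizer_le_normalizer_map_char D (commutator D))
  set N := normalizer (T : Set G) with hN
  have hDN : D ≤ N := fun y hy => CfsgLib.PGroup.normalizer_le_normalizer_map_char D (commutator D)
    (le_normalizer hy)
  haveI : (T.subgroupOf N).Normal := Subgroup.normal_in_normalizer
  set π := QuotientGroup.mk' (T.subgroupOf N)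
  set V := (D.subgroupOf N).map π with hV
  have hVe : Cfsg.IsElementaryAbelian p V := by
    refine ⟨⟨⟨fun u v => Subtype.ext ?_⟩⟩, ?_⟩
    · obtain ⟨a, ha, hau⟩ := u.2
      obtain ⟨b, hb, hbv⟩ := v.2
      show (u : N ⧸ T.subgroupOf N) * v = v * u
      rw [← hau, ← hbv, ← commutatorElement_eq_one_iff_mul_comm, ← map_commutatorElement]
      refine (QuotientGroup.eq_one_iff _).2 ?_
      show ((⁅a, b⁆ : N) : G) ∈ T
      rw [hTeq]
      exact commutator_mem_commutator (show (a : G) ∈ D from ha) (show (b : G) ∈ D from hb)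
    · rintro _ ⟨a, ha, rfl⟩
      rw [← map_pow]
      refine (QuotientGroup.eq_one_iff _).2 ?_
      show ((a ^ p : N) : G) ∈ T
      rw [Subgroup.coe_pow, hDe (a : G) ha]
      exact one_mem _
  have hVc : Nat.card V ≤ p ^ 2 := by
    by_cases hTb : T = ⊥
    · refine (Nat.le_of_dvd Nat.card_pos (card_map_dvd (D.subgroupOf N) π)).trans ?_
      rw [Nat.card_congr (subgroupOfEquivOfLe hDN).toEquiv]
      have habel : IsMulCommutative D := ⟨⟨fun a b => Subtype.ext (by
        have h1 : ⁅(a : G), (b : G)⁆ ∈ T := hTeq ▸ commutator_mem_commutator a.2 b.2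
        rw [hTb, mem_bot, commutatorElement_eq_one_iff_mul_comm] at h1
        exact h1)⟩⟩
      haveI := habel
      have h2 := hrkD ⊤ ⟨⟨⟨fun a b => Subtype.ext (mul_comm' (a : D) b)⟩⟩,
        fun a _ => Subtype.ext (hDe a a.2)⟩
      rwa [card_top] at h2
    · have hTp : IsPGroup p T := hDp.to_le hTD
      have hTc : p ≤ Nat.card T := by
        obtain ⟨k, hk⟩ := IsPGroup.iff_card.1 hTp
        rcases k with _ | k
        · exact absurd (card_eq_one.1 (by rw [hk, pow_zero])) hTb
        · rw [hk, pow_succ]; exact Nat.le_mul_of_pos_left p (pow_pos hp.out.pos k)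
      have hmul : Nat.card V * Nat.card T ≤ Nat.card D := by
        have h1 := card_mul_index ((T.subgroupOf N).subgroupOf (D.subgroupOf N))
        have h2 : Nat.card V = ((T.subgroupOf N).subgroupOf (D.subgroupOf N)).index := by
          rw [hV, ← Subgroup.relIndex, ← relIndex_ker (f := π)]
          rw [QuotientGroup.ker_mk']
        have hTN : T.subgroupOf N ≤ D.subgroupOf N := comap_mono hTD
        rw [Nat.card_congr (subgroupOfEquivOfLe hTN).toEquiv,
          Nat.card_congr (subgroupOfEquivOfLe (hTD.trans hDN)).toEquiv,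
          Nat.card_congr (subgroupOfEquivOfLe hDN).toEquiv, ← h2] at h1
        rw [mul_comm]; exact h1.le
      have h3 : Nat.card V * p ≤ p ^ 2 * p :=
        (Nat.mul_le_mul_left _ hTc).trans (hmul.trans (hDcard.trans (le_of_eq (by ring))))
      exact Nat.le_of_mul_le_mul_right h3 hp.out.pos
  set A' := (A.subgroupOf N).map π with hA'
  have hA'V : A' ≤ normalizer (V : Set (N ⧸ T.subgroupOf N)) := by
    refine (map_mono ?_).trans (le_normalizer_map π)
    intro a ha
    rw [mem_normalizer_iff]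
    intro y
    exact mem_normalizer_iff.1 (hAD ha) (y : G)
  haveI := hAs
  haveI : Group.IsSolvable (A.subgroupOf N) :=
    Group.isSolvable_of_surjective (subgroupOfEquivOfLe hAT).symm.surjective
      (f := (subgroupOfEquivOfLe hAT).symm.toMonoidHom)
  have hA's : Group.IsSolvable A' :=
    Group.isSolvable_of_surjective (π.subgroupMap_surjective (A.subgroupOf N))
  have hA'odd : Odd (Nat.card A') := hodd.of_dvd_nat ((card_map_dvd _ π).trans
    (dvd_of_eq (Nat.card_congr (subgroupOfEquivOfLe hAT).toEquiv)))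
  have hxA : x ∈ A := (commutator_le.2 fun a ha b hb => by
    rw [commutatorElement_def]
    exact mul_mem (mul_mem (mul_mem ha hb) (inv_mem ha)) (inv_mem hb)) hx
  set x' : N := ⟨x, hAT hxA⟩ with hx'def
  have hx' : π x' ∈ ⁅A', A'⁆ := by
    rw [hA', ← Subgroup.map_commutator]
    refine mem_map_of_mem π ?_
    rw [← mem_map_iff_mem N.subtype_injective, Subgroup.map_commutator,
      map_subgroupOf_eq_of_le hAT]
    exact hx
  have hcent := centralizes_of_rank_two hp2 hVe hVc hA'V hA's hA'odd hx'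
    (Nat.Coprime.coprime_dvd_left ((orderOf_map_dvd π x').trans (by rw [hx'def, Subgroup.orderOf_mk])) hxp)
  -- `x` centralizes `D`, hence `C`, hence `R`
  have hxD : x ∈ centralizer (D : Set G) := by
    refine (CfsgLib.Coprime.le_centralizer_of_trivial_on_frattini_quotient
      (A := zpowers x) (K := D) (zpowers_le.2 (hAD hxA)) ?_ fun w hw v hv => ?_) (mem_zpowers x)
    · obtain ⟨k, hk⟩ := IsPGroup.iff_card.1 (hDp.to_subgroup (frattini D))
      rw [hk, Nat.card_zpowers]
      exact hxp.pow_right k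
    · obtain ⟨i, rfl⟩ := mem_zpowers_iff.1 hw
      have h1 : π (x' ^ i * ⟨v, hDN hv⟩ * (x' ^ i)⁻¹ * ⟨v, hDN hv⟩⁻¹) = 1 := by
        rw [map_mul, map_mul, map_mul, map_inv, map_inv, map_zpow,
          ← mem_centralizer_iff.1 (zpow_mem hcent i) (π ⟨v, hDN hv⟩) ⟨_, hv, rfl⟩,
          mul_inv_cancel_right, mul_inv_cancel]
      have h2 : ((x' ^ i * ⟨v, hDN hv⟩ * (x' ^ i)⁻¹ * ⟨v, hDN hv⟩⁻¹ : N) : G) ∈ T :=
        (QuotientGroup.eq_one_iff (N := T.subgroupOf N) _).1 h1
      rw [hT] at h2
      rw [_root_.commutator_def] at h2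
      exact map_mono (CfsgLib.Coprime.commutator_le_frattini hDp) h2
  have hxn : x ∈ normalizer (R : Set G) := hAR hxA
  set θ : MulAut R := Subgroup.normalizerMonoidHom R ⟨x, hxn⟩ with hθdef
  have hθ : ∀ y : R, ((θ y : R) : G) = x * y * x⁻¹ := fun y => rfl
  have hCn : x ∈ normalizer ((C.map R.subtype : Subgroup G) : Set G) :=
    CfsgLib.PGroup.normalizer_le_normalizer_map_char (hX := hchar) R C hxn
  have hxC : ∀ c ∈ C, θ c = c := by
    intro c hc
    refine Subtype.ext ?_
    rw [hθ]
    have h := CfsgLib.PGroup.commute_of_fix_omega_odd hp2 (hR.to_le (map_subtype_le C)) hCn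
      (fun hd => hp.out.coprime_iff_not_dvd.1 hxp.symm hd)
      (fun z hz hzp => by
        obtain ⟨z', hz', rfl⟩ := hz
        exact (mem_centralizer_iff.1 hxD _ ⟨z', hmemD.2 ⟨hz', Subtype.ext hzp⟩, rfl⟩).symm)
      (c : G) ⟨c, hc, rfl⟩
    rw [h.eq, mul_inv_cancel_right]
  have hθ1 : θ = 1 := CfsgLib.CFun.eq_one_of_fixes_critical hR (hPC.trans inf_le_left) hcen θ
    (Nat.Coprime.coprime_dvd_left ((orderOf_map_dvd _ _).trans (by rw [Subgroup.orderOf_mk])) hxp) hxC
  refine mem_centralizer_iff.2 fun y hy => ?_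
  have h := congrArg (fun σ : MulAut R => ((σ ⟨y, hy⟩ : R) : G)) hθ1
  simp only [hθ, MulAut.one_apply] at h
  exact (mul_inv_eq_iff_eq_mul.1 h).symm

/-- A subgroup whose nontrivial elements have order divisible by `p` only is a `p`-group. -/
theorem isPGroup_of_no_coprime {X : Subgroup G}
    (h : ∀ x ∈ X, (orderOf x).Coprime p → x = 1) : IsPGroup p X := by
  intro x
  obtain ⟨k, l, hl, hkl⟩ := Nat.exists_eq_pow_mul_and_not_dvd (orderOf_pos (x : G)).ne' p hp.out.ne_one
  refine ⟨k, Subtype.ext ?_⟩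
  rw [Subgroup.coe_pow]
  refine h _ (pow_mem x.2 _) ?_
  refine Nat.Coprime.coprime_dvd_left (orderOf_dvd_of_pow_eq_one (n := l) ?_)
    (hp.out.coprime_iff_not_dvd.2 hl).symm
  rw [← pow_mul, ← hkl, pow_orderOf_eq_one]

end CfsgLib.CFun
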