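import Cfsg.Agent.Lib.CFun.OddUniqueness
import Cfsg.Agent.Lib.CFun.OddRankTwo

/-!
# An elementary group of order `p³` acting coprimely
-/

set_option autoImplicit false
set_option linter.style.haveILetI false
set_option linter.unusedSectionVars false

open Subgroup
open scoped commutatorElement
open CfsgLib.Coprime (conj_mem_of_le_normalizer)

namespace CfsgLib.CFun

universe u

variable {G : Type u} [Group G] [Finite G] {p : ℕ} [hp : Fact p.Prime]

theorem orderOf_of_mem_elementary {E : Subgroup G} (hE : Cfsg.IsElementaryAbelian p E) {x : G}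
    (hx : x ∈ E) (hx1 : x ≠ 1) : orderOf x = p :=
  orderOf_eq_prime (hE.2 x hx) hx1

theorem card_zpowers_of_mem_elementary {E : Subgroup G} (hE : Cfsg.IsElementaryAbelian p E) {x : G}
    (hx : x ∈ E) (hx1 : x ≠ 1) : Nat.card (zpowers x) = p := by
  rw [Nat.card_zpowers, orderOf_of_mem_elementary hE hx hx1]

theorem sup_zpowers_card {E : Subgroup G} (hE : Cfsg.IsElementaryAbelian p E) {x y : G} (hx : x ∈ E)
    (hy : y ∈ E) (hx1 : x ≠ 1) (hyx : y ∉ zpowers x) :
    Cfsg.IsElementaryAbelian p (zpowers x ⊔ zpowers y) ∧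
      Nat.card ↥(zpowers x ⊔ zpowers y) = p ^ 2 := by
  have hy1 : y ≠ 1 := fun e => hyx (e ▸ one_mem _)
  have hle : zpowers x ⊔ zpowers y ≤ E := sup_le (zpowers_le.2 hx) (zpowers_le.2 hy)
  refine ⟨isElementaryAbelian_of_le hE hle, ?_⟩
  haveI := hE.1
  have hnorm : zpowers y ≤ normalizer (zpowers x : Set G) :=
    ((zpowers_le.2 hy).trans ((le_centralizer_of_comm hE.1).trans
      (centralizer_le (zpowers_le.2 hx)))).trans (CfsgLib.Coprime.centralizer_le_normalizer_self _)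
  have hinf : zpowers x ⊓ zpowers y = ⊥ := by
    by_contra hne
    have h1 : Nat.card ↥(zpowers x ⊓ zpowers y) = p := by
      have h2 := card_dvd_of_le (inf_le_right : zpowers x ⊓ zpowers y ≤ zpowers y)
      rw [card_zpowers_of_mem_elementary hE hy hy1] at h2
      rcases (Nat.dvd_prime hp.out).1 h2 with h | h
      · exact absurd (card_eq_one.1 h) hne
      · exact h
    have h2 : zpowers x ⊓ zpowers y = zpowers y :=
      eq_of_le_of_card_ge inf_le_right (by rw [h1, card_zpowers_of_mem_elementary hE hy hy1])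
    exact hyx ((h2.ge (mem_zpowers y)).1)
  have h3 := CfsgLib.EABasic.card_sup_mul_card_inf_of_le_normalizer (H := zpowers y) (N := zpowers x) hnorm
  rw [sup_comm, inf_comm, hinf, card_bot, mul_one, card_zpowers_of_mem_elementary hE hx hx1,
    card_zpowers_of_mem_elementary hE hy hy1] at h3
  rw [h3, sq]

variable {E : Subgroup G} (hE : Cfsg.IsElementaryAbelian p E) (hE3 : Nat.card E = p ^ 3)
include hE hE3

/-- A subgroup of order `p²` avoiding a given element. -/
theorem exists_avoiding {x : G} (hx : x ∈ E) (hx1 : x ≠ 1) :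
    ∃ H : Subgroup G, H ≤ E ∧ Cfsg.IsElementaryAbelian p H ∧ Nat.card H = p ^ 2 ∧ x ∉ H := by
  obtain ⟨y, hy, hyx⟩ := SetLike.exists_of_lt (lt_of_le_of_ne (zpowers_le.2 hx) fun e => by
    have h := card_zpowers_of_mem_elementary hE hx hx1
    rw [e, hE3] at h
    have := Nat.pow_lt_pow_right hp.out.one_lt (show 1 < 3 by norm_num)
    rw [pow_one] at this
    omega)
  obtain ⟨hK, hK2⟩ := sup_zpowers_card hE hx hy hx1 hyx
  obtain ⟨z, hz, hzK⟩ := SetLike.exists_of_lt (lt_of_le_of_ne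
    (sup_le (zpowers_le.2 hx) (zpowers_le.2 hy) : zpowers x ⊔ zpowers y ≤ E) fun e => by
    rw [e, hE3] at hK2
    have := Nat.pow_lt_pow_right hp.out.one_lt (show 2 < 3 by norm_num)
    omega)
  have hy1 : y ≠ 1 := fun e => hyx (e ▸ one_mem _)
  obtain ⟨hH, hH2⟩ := sup_zpowers_card hE hy hz hy1 fun h => hzK (mem_sup_right h)
  refine ⟨_, sup_le (zpowers_le.2 hy) (zpowers_le.2 hz), hH, hH2, fun hxH => ?_⟩
  -- both subgroups would coincide
  have hle : zpowers x ⊔ zpowers y ≤ zpowers y ⊔ zpowers z :=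
    sup_le (zpowers_le.2 hxH) le_sup_left
  exact hzK ((eq_of_le_of_card_ge hle (hH2.trans hK2.symm).le).ge (mem_sup_right (mem_zpowers z)))

theorem inf_ne_bot_of_two {H₁ H₂ : Subgroup G} (h1 : H₁ ≤ E) (h2 : H₂ ≤ E)
    (hc1 : p ^ 2 ≤ Nat.card H₁) (hc2 : p ^ 2 ≤ Nat.card H₂) :
    ∃ c ∈ H₁ ⊓ H₂, c ≠ 1 := by
  refine (bot_or_exists_ne_one (H₁ ⊓ H₂)).resolve_left fun h => ?_
  haveI := hE.1
  have hn : H₂ ≤ normalizer (H₁ : Set G) := (h2.trans ((le_centralizer_of_comm hE.1).trans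
    (centralizer_le h1))).trans (CfsgLib.Coprime.centralizer_le_normalizer_self _)
  have h4 := card_le_of_le (sup_le h1 h2 : H₁ ⊔ H₂ ≤ E)
  have h6 := CfsgLib.EABasic.card_sup_mul_card_inf_of_le_normalizer (H := H₂) (N := H₁) hn
  rw [sup_comm, inf_comm, h, card_bot, mul_one] at h6
  rw [h6, hE3] at h4
  have h5 : p ^ 4 ≤ p ^ 3 := by
    calc p ^ 4 = p ^ 2 * p ^ 2 := by rw [← pow_add]
      _ ≤ Nat.card H₂ * Nat.card H₁ := Nat.mul_le_mul hc2 hc1
      _ ≤ p ^ 3 := h4
  exact absurd h5 (not_le.2 (Nat.pow_lt_pow_right hp.out.one_lt (by norm_num)))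

variable {K : Subgroup G} (hEK : E ≤ normalizer (K : Set G)) (hK : ¬ p ∣ Nat.card K)
include hEK hK

theorem gen_le {H : Subgroup G} (hH : H ≤ E) (hHe : Cfsg.IsElementaryAbelian p H)
    (hH2 : p ^ 2 ≤ Nat.card H) {X W : Subgroup G} (hX : X ≤ K) (hHX : H ≤ normalizer (X : Set G))
    (h : ∀ a ∈ H, a ≠ 1 → X ⊓ centralizer ({a} : Set G) ≤ W) : X ≤ W := by
  haveI := hHe.1
  refine CfsgLib.Coprime.le_of_centralizers_le (not_isCyclic_of_elementary hHe hH2) hHX ?_ h
  obtain ⟨n, hn⟩ := IsPGroup.iff_card.1 (isPGroup_of_elementary hHe)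
  rw [hn]
  exact (hp.out.coprime_iff_not_dvd.2 fun hd => hK (hd.trans (card_dvd_of_le hX))).pow_left n

theorem le_normalizer_inf_centralizer {H : Subgroup G} (hH : H ≤ E) :
    E ≤ normalizer ((K ⊓ centralizer (H : Set G) : Subgroup G) : Set G) :=
  CfsgLib.Coprime.inf_le_normalizer hEK (((le_centralizer_of_comm hE.1).trans (centralizer_le hH)).trans
    ((CfsgLib.Coprime.centralizer_le_normalizer_self H).trans
      (CfsgLib.Coprime.normalizer_le_normalizer_centralizer H)))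

/-- Some subgroup of order `p²` fixes a point outside `W`. -/
theorem exists_line {W : Subgroup G} (hKW : ¬ K ≤ W) :
    ∃ H : Subgroup G, H ≤ E ∧ Cfsg.IsElementaryAbelian p H ∧ Nat.card H = p ^ 2 ∧
      ¬ K ⊓ centralizer (H : Set G) ≤ W := by
  have h32 : p ^ 2 ≤ Nat.card E := hE3 ▸ Nat.pow_le_pow_right hp.out.pos (by norm_num)
  by_contra hcon
  push Not at hcon
  refine hKW (gen_le hE hE3 hEK hK le_rfl hE h32 le_rfl hEK fun x hx hx1 => ?_)
  obtain ⟨H, hHE, hHe, hH2, hxH⟩ := exists_avoiding hE hE3 hx hx1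
  have hx' : zpowers x ≤ E := zpowers_le.2 hx
  have e : centralizer ({x} : Set G) = centralizer (zpowers x : Set G) :=
    (centralizer_closure {x}).symm.trans (by rw [zpowers_eq_closure])
  rw [e]
  refine gen_le hE hE3 hEK hK hHE hHe hH2.ge inf_le_left
    (hHE.trans (le_normalizer_inf_centralizer hE hE3 hEK hK hx')) fun y hy hy1 => ?_
  have hy1' : y ∉ zpowers x := fun h => by
    refine hxH ?_
    have h2 : zpowers y = zpowers x := eq_of_le_of_card_ge (zpowers_le.2 h)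
      (by rw [card_zpowers_of_mem_elementary hE (hHE hy) hy1, card_zpowers_of_mem_elementary hE hx hx1])
    exact zpowers_le.2 hy (h2.ge (mem_zpowers x))
  obtain ⟨hL, hL2⟩ := sup_zpowers_card hE hx (hHE hy) hx1 hy1'
  refine le_trans (le_inf (inf_le_left.trans inf_le_left) ?_)
    (hcon _ (sup_le hx' (zpowers_le.2 (hHE hy))) hL hL2)
  refine le_centralizer_iff.1 (sup_le ?_ ?_)
  · exact le_centralizer_iff.1 (inf_le_left.trans inf_le_right)
  · rw [zpowers_le]
    exact mem_centralizer_iff.2 fun u hu => (mem_centralizer_iff.1 hu.2 y rfl).symm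

/-- Some element fixes more than a subgroup of order at most `n`. -/
theorem exists_wide_fixed {n : ℕ} (hn : 1 ≤ n) (hKn : n < Nat.card K)
    (hsub : ∀ X : Subgroup G, X ≤ K → X ≠ ⊥ → n ≤ Nat.card X) :
    ∃ e ∈ E, e ≠ 1 ∧ n < Nat.card ↥(K ⊓ centralizer ({e} : Set G)) := by
  have hK1 : ¬ K ≤ ⊥ := fun h => by
    rw [le_bot_iff.1 h, card_bot] at hKn
    omega
  obtain ⟨H, hHE, hHe, hH2, hne⟩ := exists_line hE hE3 hEK hK hK1
  by_contra hcon
  push Not at hcon
  set K₁ := K ⊓ centralizer (H : Set G)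
  have hK₁n : n ≤ Nat.card K₁ := hsub _ inf_le_left fun h => hne h.le
  obtain ⟨a, haH, ha1⟩ := (bot_or_exists_ne_one H).resolve_left fun h => by
    rw [h, card_bot] at hH2
    exact absurd hH2.symm (ne_of_gt (Nat.one_lt_pow (by norm_num) hp.out.one_lt))
  have hle : ∀ {a : G}, a ∈ H → K₁ ≤ K ⊓ centralizer ({a} : Set G) := fun ha =>
    inf_le_inf_left _ (centralizer_le (by simpa using ha))
  have hKK₁ : K ≤ K₁ := gen_le hE hE3 hEK hK hHE hHe hH2.ge le_rfl (hHE.trans hEK) fun b hb hb1 =>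
    (eq_of_le_of_card_ge (hle hb) ((hcon b (hHE hb) hb1).trans hK₁n)).ge
  have h1 := hcon a (hHE haH) ha1
  have h2 : Nat.card K ≤ Nat.card ↥(K ⊓ centralizer ({a} : Set G)) :=
    card_le_of_le (hKK₁.trans (hle haH))
  omega

omit hE hE3 hEK hK in
/-- A small characteristic subgroup detecting coprime automorphisms of a group of rank two. -/
theorem exists_small_detector (hp2 : p ≠ 2) {R : Subgroup G} (hR : IsPGroup p R)
    (hr : Cfsg.PRankLE p 2 R) :
    ∃ D : Subgroup G, D ≤ R ∧ normalizer (R : Set G) ≤ normalizer (D : Set G) ∧ IsPGroup p D ∧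
      (∀ y ∈ D, y ^ p = 1) ∧ (∀ E : Subgroup D, Cfsg.IsElementaryAbelian p E → Nat.card E ≤ p ^ 2) ∧
      Nat.card D ≤ p ^ 3 ∧
      ∀ x ∈ normalizer (R : Set G), (orderOf x).Coprime p → x ∈ centralizer (D : Set G) →
        x ∈ centralizer (R : Set G) := by
  classical
  obtain ⟨C, ⟨hchar, hpow, hcc, hPC⟩, hcen⟩ := CfsgLib.CFun.exists_critical hR
  set D₀ := CfsgLib.PGroup.smallSubgroup C hpow hcc with hD₀
  have hmemD : ∀ {y : R}, y ∈ D₀ ↔ y ∈ C ∧ y ^ p = 1 := by
    intro y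
    show y ∈ C ∧ y ^ CfsgLib.PGroup.smallExp p = 1 ↔ _
    rw [smallExp_of_odd hp2]
  haveI hDchar : D₀.Characteristic := by
    haveI := hchar
    refine characteristic_iff_map_le.2 fun e => ?_
    rintro _ ⟨y, hy, rfl⟩
    obtain ⟨hyC, hyp⟩ := hmemD.1 hy
    exact hmemD.2 ⟨CfsgLib.CFun.mem_of_map_conj e hyC,
      show e y ^ p = 1 by rw [← map_pow, hyp, map_one]⟩
  set D := D₀.map R.subtype with hD
  have hDR : D ≤ R := map_subtype_le _
  have hRD : normalizer (R : Set G) ≤ normalizer (D : Set G) :=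
    CfsgLib.PGroup.normalizer_le_normalizer_map_char (hX := hDchar) R D₀
  have hDe : ∀ y ∈ D, y ^ p = 1 := by
    rintro _ ⟨y, hy, rfl⟩
    rw [← map_pow, (hmemD.1 hy).2, map_one]
  have hDp : IsPGroup p D := hR.to_le hDR
  have hrkD : ∀ E : Subgroup D, Cfsg.IsElementaryAbelian p E → Nat.card E ≤ p ^ 2 := by
    intro E hE
    set E' := (E.map D.subtype).subgroupOf R
    have hle : E.map D.subtype ≤ R := (map_subtype_le E).trans hDR
    have h1 := hr E' ⟨⟨fun a b => Subtype.ext (Subtype.ext ?_)⟩⟩ ?_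
    · rwa [Nat.card_congr (subgroupOfEquivOfLe hle).toEquiv,
        card_map_of_injective D.subtype_injective] at h1
    · obtain ⟨a', ha', hae⟩ := a.2
      obtain ⟨b', hb', hbe⟩ := b.2
      show ((a : R) : G) * (b : R) = (b : R) * (a : R)
      have h2 : a' * b' = b' * a' :=
        congrArg Subtype.val (hE.1.is_comm.comm (⟨a', ha'⟩ : E) ⟨b', hb'⟩)
      have h3 := congrArg D.subtype h2
      rw [map_mul, map_mul, hae, hbe] at h3
      exact h3
    · rintro a ⟨a', ha', hae⟩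
      refine Subtype.ext ?_
      show (a : G) ^ p = 1
      have h3 := congrArg D.subtype (hE.2 a' ha')
      rw [map_pow, hae, map_one] at h3
      exact h3
  have hDcard : Nat.card D ≤ p ^ 3 :=
    CfsgLib.RankTwoOmega.card_le_of_exponent hDp hp2 (fun y => Subtype.ext (hDe y y.2)) hrkD
  refine ⟨D, hDR, hRD, hDp, hDe, hrkD, hDcard, fun x hxn hxp hxD => ?_⟩
  set θ : MulAut R := Subgroup.normalizerMonoidHom R ⟨x, hxn⟩ with hθdef
  have hθ : ∀ y : R, ((θ y : R) : G) = x * y * x⁻¹ := fun y => rfl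
  have hCn : x ∈ normalizer ((C.map R.subtype : Subgroup G) : Set G) :=
    CfsgLib.PGroup.normalizer_le_normalizer_map_char (hX := hchar) R C hxn
  have hxC : ∀ c ∈ C, θ c = c := by
    intro c hc
    refine Subtype.ext ?_
    rw [hθ]
    have h := CfsgLib.PGroup.commute_of_fix_omega_odd hp2 (hR.to_le (map_subtype_le C)) hCn
      (fun hd => hp.out.coprime_iff_not_dvd.1 hxp.symm hd)
      (fun z hz hzp => by
        obtain ⟨z', hz', rfl⟩ := hz
        exact (mem_centralizer_iff.1 hxD _ ⟨z', hmemD.2 ⟨hz', Subtype.ext hzp⟩, rfl⟩).symm)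
      (c : G) ⟨c, hc, rfl⟩
    rw [h.eq, mul_inv_cancel_right]
  have hθ1 : θ = 1 := CfsgLib.CFun.eq_one_of_fixes_critical hR (hPC.trans inf_le_left) hcen θ
    (Nat.Coprime.coprime_dvd_left ((orderOf_map_dvd _ _).trans (by rw [Subgroup.orderOf_mk])) hxp) hxC
  refine mem_centralizer_iff.2 fun y hy => ?_
  have h := congrArg (fun σ : MulAut R => ((σ ⟨y, hy⟩ : R) : G)) hθ1
  simp only [hθ, MulAut.one_apply] at h
  exact (mul_inv_eq_iff_eq_mul.1 h).symm


omit hEK hK in
/-- An element of an elementary group of order `p³` centralizes a given `t`-group of rank two. -/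
theorem exists_fixing {t : ℕ} [Fact t.Prime] (ht : t ≠ p) (ht2 : t ≠ 2) {S : Subgroup G}
    (hS : IsPGroup t S) (hr : Cfsg.PRankLE t 2 S) (hES : E ≤ normalizer (S : Set G)) :
    ∃ c ∈ E, c ≠ 1 ∧ S ≤ centralizer ({c} : Set G) := by
  obtain ⟨D, hDS, hSD, hDp, hDe, hDr, hD3, hdet⟩ := exists_small_detector ht2 hS hr
  have hED : E ≤ normalizer (D : Set G) := hES.trans hSD
  have hDn : ¬ p ∣ Nat.card D := not_dvd_of_isPGroup ht hDp
  have htop : ∀ {c : G}, c ∈ E → c ≠ 1 → D ≤ centralizer ({c} : Set G) →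
      S ≤ centralizer ({c} : Set G) := fun {c} hc hc1 h s hs => by
    have h1 := hdet c (hES hc) (orderOf_of_mem_elementary hE hc hc1 ▸
      (Nat.coprime_primes hp.out Fact.out).2 ht.symm)
      (mem_centralizer_iff.2 fun y hy => (mem_centralizer_iff.1 (h hy) c rfl).symm)
    refine mem_centralizer_iff.2 ?_
    rintro _ rfl
    exact (mem_centralizer_iff.1 h1 s hs).symm
  have hH1 : ∀ {H : Subgroup G}, Nat.card H = p ^ 2 → ∃ c ∈ H, c ≠ 1 := fun {H} hH2 =>
    (bot_or_exists_ne_one H).resolve_left fun h => by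
      rw [h, card_bot] at hH2
      exact absurd hH2.symm (ne_of_gt (Nat.one_lt_pow (by norm_num) hp.out.one_lt))
  obtain ⟨c₀, hc₀, hc₀1⟩ := (bot_or_exists_ne_one E).resolve_left fun h => by
    rw [h, card_bot] at hE3
    exact absurd hE3.symm (ne_of_gt (Nat.one_lt_pow (by norm_num) hp.out.one_lt))
  by_cases hD1 : D = ⊥
  · exact ⟨c₀, hc₀, hc₀1, htop hc₀ hc₀1 (hD1 ▸ bot_le)⟩
  set Φ := (frattini D).map D.subtype with hΦ
  have hgen : ∀ {X : Subgroup G}, X ≤ D → D ≤ X ⊔ Φ → D ≤ X := fun {X} hX hle => by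
    have h1 : X.subgroupOf D ⊔ frattini D = ⊤ := map_injective D.subtype_injective (by
      rw [Subgroup.map_sup, map_subgroupOf_eq_of_le hX, ← MonoidHom.range_eq_map, D.range_subtype]
      exact le_antisymm (sup_le hX (map_subtype_le _)) hle)
    exact subgroupOf_eq_top.1 (frattini_nongenerating h1)
  have hΦn : ¬ D ≤ Φ := fun h => hD1 (le_bot_iff.1 (hgen bot_le (by rwa [bot_sup_eq])))
  obtain ⟨H₁, hH₁E, -, hH₁2, hne₁⟩ := exists_line hE hE3 hED hDn hΦn
  obtain ⟨c₁, hc₁H, hc₁1⟩ := hH1 hH₁2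
  set X₁ := D ⊓ centralizer (H₁ : Set G) with hX₁
  by_cases hW : D ≤ X₁ ⊔ Φ
  · exact ⟨c₁, hH₁E hc₁H, hc₁1, htop (hH₁E hc₁H) hc₁1 ((hgen inf_le_left hW).trans
      (inf_le_right.trans (centralizer_le (by simpa using hc₁H))))⟩
  obtain ⟨H₂, hH₂E, -, hH₂2, hne₂⟩ := exists_line hE hE3 hED hDn hW
  obtain ⟨c, hc, hc1⟩ := inf_ne_bot_of_two hE hE3 hH₁E hH₂E hH₁2.ge hH₂2.ge
  refine ⟨c, hH₁E hc.1, hc1, htop (hH₁E hc.1) hc1 ?_⟩
  set Y := (D ⊓ centralizer ({c} : Set G)) ⊔ Φ with hY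
  suffices hYD : D ≤ Y from (hgen inf_le_left hYD).trans inf_le_right
  have hΦD : Φ ≤ D := map_subtype_le _
  have hX1Y : X₁ ⊔ Φ ≤ Y :=
    sup_le_sup_right (inf_le_inf_left _ (centralizer_le (by simpa using hc.1))) _
  have hX2Y : D ⊓ centralizer (H₂ : Set G) ≤ Y :=
    le_sup_of_le_left (inf_le_inf_left _ (centralizer_le (by simpa using hc.2)))
  have hlt1 : Φ < X₁ ⊔ Φ := lt_of_le_not_ge le_sup_right fun h => hne₁ (le_sup_left.trans h)
  have hlt2 : X₁ ⊔ Φ < Y := lt_of_le_not_ge hX1Y fun h => hne₂ (hX2Y.trans h)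
  have hYle : Y ≤ D := sup_le inf_le_left hΦD
  have step : ∀ {A B : Subgroup G}, A < B → B ≤ D → t * Nat.card A ≤ Nat.card B := by
    intro A B hAB hBD
    obtain ⟨a, ha⟩ := IsPGroup.iff_card.1 (hDp.to_le (hAB.le.trans hBD))
    obtain ⟨b, hb⟩ := IsPGroup.iff_card.1 (hDp.to_le hBD)
    have h1 : Nat.card A < Nat.card B := Set.Finite.card_lt_card (Set.toFinite _) hAB
    rw [ha, hb] at h1 ⊢
    rw [← pow_succ']
    exact Nat.pow_le_pow_right (Fact.out : t.Prime).pos
      ((Nat.pow_lt_pow_iff_right (Fact.out : t.Prime).one_lt).1 h1)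
  have hYcard : t * (t * Nat.card Φ) ≤ Nat.card Y :=
    (Nat.mul_le_mul_left _ (step hlt1 (hX1Y.trans hYle))).trans (step hlt2 hYle)
  have hbig : Nat.card D ≤ t * (t * Nat.card Φ) := by
    by_cases hΦ1 : Φ = ⊥
    · have hc : IsMulCommutative D := ⟨⟨fun a b => by
        have h1 : ⁅a, b⁆ ∈ frattini D := CfsgLib.Coprime.commutator_le_frattini hDp
          (commutator_mem_commutator (mem_top a) (mem_top b))
        have h2 : ((⁅a, b⁆ : D) : G) ∈ Φ := ⟨_, h1, rfl⟩
        rw [hΦ1, mem_bot] at h2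
        exact commutatorElement_eq_one_iff_mul_comm.1 (Subtype.ext h2)⟩⟩
      haveI := hc
      have h3 := hDr ⊤ ⟨⟨⟨fun a b => Subtype.ext (mul_comm' (a : D) b)⟩⟩,
        fun a _ => Subtype.ext (hDe a a.2)⟩
      rw [card_top] at h3
      rw [hΦ1, card_bot, mul_one, ← sq]
      exact h3
    · have h4 : t ≤ Nat.card Φ := by
        obtain ⟨k, hk⟩ := IsPGroup.iff_card.1 (hDp.to_le hΦD)
        rcases k with _ | k
        · exact absurd (card_eq_one.1 (by rw [hk, pow_zero])) hΦ1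
        · rw [hk]; exact Nat.le_self_pow k.succ_ne_zero t
      calc Nat.card D ≤ t ^ 3 := hD3
        _ = t * (t * t) := by ring
        _ ≤ _ := Nat.mul_le_mul_left _ (Nat.mul_le_mul_left _ h4)
  exact (eq_of_le_of_card_ge hYle (hbig.trans hYcard)).ge

end CfsgLib.CFun
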