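import Cfsg.Agent.Lib.CFun.OddNarrow
import Cfsg.Agent.Lib.CFun.OddRankThreeAction
import Cfsg.Agent.Lib.PGroup.Basic

/-!
# Coprime operators on narrow groups of rank at least three
-/

set_option autoImplicit false
set_option linter.style.haveILetI false
set_option linter.unusedSectionVars false

open Subgroup
open scoped commutatorElement
open CfsgLib.Coprime (conj_mem_of_le_normalizer)

namespace CfsgLib.CFun.Narrow

universe u

variable {G : Type u} [Group G] [Finite G] {p : ℕ} [hp : Fact p.Prime]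

omit [Finite G] hp in
theorem le_normalizer_commutator {H X A : Subgroup G} (hH : A ≤ normalizer (H : Set G))
    (hX : A ≤ normalizer (X : Set G)) : A ≤ normalizer ((⁅H, X⁆ : Subgroup G) : Set G) := fun a ha => by
  rw [← CfsgLib.Coprime.conjBy_eq_self_iff, CfsgLib.Coprime.conjBy, map_commutator]
  exact congrArg₂ (fun S T : Subgroup G => ⁅S, T⁆) (CfsgLib.Coprime.conjBy_eq_self_iff.2 (hH ha))
    (CfsgLib.Coprime.conjBy_eq_self_iff.2 (hX ha))

/-- The operators which must centralize every factor of prime order. -/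
def Scalarless (p : ℕ) (A : Subgroup G) (x : G) : Prop :=
  x ∈ ⁅A, A⁆ ∨ ∃ a ∈ A, x = a ^ (p - 1)

omit [Finite G] hp in
theorem Scalarless.mem {A : Subgroup G} {x : G} (h : Scalarless p A x) : x ∈ A := by
  rcases h with h | ⟨a, ha, rfl⟩
  · exact commutator_le_self A h
  · exact pow_mem ha _

/-- Derived elements and `(p - 1)`-th powers centralize factors of order dividing `p`. -/
theorem scalarless_trivial {H K A : Subgroup G} (hKH : K ≤ H) (hHK : H ≤ normalizer (K : Set G))
    (hAH : A ≤ normalizer (H : Set G)) (hAK : A ≤ normalizer (K : Set G)) (hidx : K.relIndex H ∣ p)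
    {x : G} (hx : Scalarless p A x) {h : G} (hh : h ∈ H) : x * h * x⁻¹ * h⁻¹ ∈ K := by
  haveI : (K.subgroupOf H).Normal := (normal_subgroupOf_iff_le_normalizer hKH).2 hHK
  set N := K.subgroupOf H
  set Θ := (MetaAct.operHom hAH).range
  have hstab : ∀ θ ∈ Θ, N.map (θ : H ≃* H).toMonoidHom = N := by
    rintro _ ⟨a, rfl⟩
    refine eq_of_le_of_card_ge ?_ (card_map_of_injective (MulEquiv.injective _)).ge
    rintro _ ⟨y, hy, rfl⟩
    exact conj_mem_of_le_normalizer hAK a.2 hy
  set φ : A →* MulAut (↥H ⧸ N) :=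
    (MetaAct.quotHom Θ N hstab).comp (MetaAct.operHom hAH).rangeRestrict
  haveI : IsCyclic (↥H ⧸ N) := by
    rcases (Nat.dvd_prime hp.out).1 hidx with h1 | h1
    · haveI : Subsingleton (↥H ⧸ N) := (Finite.card_le_one_iff_subsingleton).1 (le_of_eq h1)
      exact isCyclic_of_subsingleton
    · exact isCyclic_of_prime_card (p := p) h1
  set e := IsCyclic.mulAutMulEquiv (↥H ⧸ N)
  have hcomm : ∀ a b : MulAut (↥H ⧸ N), a * b = b * a := fun a b =>
    e.injective (by rw [map_mul, map_mul, mul_comm])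
  have hker : ∀ y : A, Scalarless p A (y : G) → φ y = 1 := by
    intro y hy
    rcases hy with hy | ⟨a, ha, hya⟩
    · have h1 : y ∈ commutator A := by
        have h2 : (⁅A, A⁆ : Subgroup G) = (commutator A).map A.subtype := by
          rw [_root_.commutator_def, Subgroup.map_commutator, ← MonoidHom.range_eq_map,
            Subgroup.range_subtype]
        obtain ⟨z, hz, e'⟩ := h2.le hy
        rwa [show y = z from Subtype.ext e'.symm]
      have h3 : commutator A ≤ φ.ker := by
        rw [_root_.commutator_def, commutator_le]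
        intro u _ v _
        rw [MonoidHom.mem_ker, map_commutatorElement, commutatorElement_eq_one_iff_mul_comm]
        exact hcomm _ _
      exact MonoidHom.mem_ker.1 (h3 h1)
    · rw [show y = (⟨a, ha⟩ : A) ^ (p - 1) from Subtype.ext hya, map_pow]
      refine e.injective ?_
      rw [map_pow, map_one]
      rcases (Nat.dvd_prime hp.out).1 hidx with h1 | h1
      · haveI : Subsingleton (ZMod (Nat.card (↥H ⧸ N)))ˣ := by
          rw [show Nat.card (↥H ⧸ N) = 1 from h1]
          infer_instance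
        exact Subsingleton.elim _ _
      · have h4 : Nat.card (ZMod (Nat.card (↥H ⧸ N)))ˣ = p - 1 := by
          rw [show Nat.card (↥H ⧸ N) = p from h1, Nat.card_eq_fintype_card, ZMod.card_units]
        rw [← h4, pow_card_eq_one']
  have h1 := DFunLike.congr_fun (hker ⟨x, hx.mem⟩ hx) ((⟨h, hh⟩ : H) : ↥H ⧸ N)
  rw [MulAut.one_apply] at h1
  have h2 : ((⟨x * h * x⁻¹, conj_mem_of_le_normalizer hAH hx.mem hh⟩ : H) : ↥H ⧸ N) =
      ((⟨h, hh⟩ : H) : ↥H ⧸ N) := h1
  rw [eq_comm, QuotientGroup.eq] at h2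
  have h3 : h⁻¹ * (x * h * x⁻¹) ∈ K := h2
  have h4 := conj_mem_of_le_normalizer hHK hh h3
  rwa [show h * (h⁻¹ * (x * h * x⁻¹)) * h⁻¹ = x * h * x⁻¹ * h⁻¹ by group] at h4

/-- An exponent `p` characteristic subgroup detecting coprime operators. -/
theorem exists_exponent_detector (hp2 : p ≠ 2) {R : Subgroup G} (hR : IsPGroup p R) :
    ∃ D : Subgroup G, D ≤ R ∧ normalizer (R : Set G) ≤ normalizer (D : Set G) ∧
      (∀ y ∈ D, y ^ p = 1) ∧
      ∀ x ∈ normalizer (R : Set G), (orderOf x).Coprime p → x ∈ centralizer (D : Set G) →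
        x ∈ centralizer (R : Set G) := by
  classical
  obtain ⟨C, ⟨hchar, hpow, hcc, hPC⟩, hcen⟩ := CfsgLib.CFun.exists_critical hR
  set D₀ := CfsgLib.PGroup.smallSubgroup C hpow hcc with hD₀
  have hmemD : ∀ {y : R}, y ∈ D₀ ↔ y ∈ C ∧ y ^ p = 1 := by
    intro y
    show y ∈ C ∧ y ^ CfsgLib.PGroup.smallExp p = 1 ↔ _
    rw [smallExp_of_odd hp2]
  haveI hDchar : D₀.Characteristic := by
    haveI := hchar
    refine characteristic_iff_map_le.2 fun e => ?_
    rintro _ ⟨y, hy, rfl⟩
    obtain ⟨hyC, hyp⟩ := hmemD.1 hy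
    exact hmemD.2 ⟨CfsgLib.CFun.mem_of_map_conj e hyC,
      show e y ^ p = 1 by rw [← map_pow, hyp, map_one]⟩
  refine ⟨D₀.map R.subtype, map_subtype_le _,
    CfsgLib.PGroup.normalizer_le_normalizer_map_char (hX := hDchar) R D₀, ?_,
    fun x hxn hxp hxD => ?_⟩
  · rintro _ ⟨y, hy, rfl⟩
    rw [← map_pow, (hmemD.1 hy).2, map_one]
  set θ : MulAut R := Subgroup.normalizerMonoidHom R ⟨x, hxn⟩ with hθdef
  have hθ : ∀ y : R, ((θ y : R) : G) = x * y * x⁻¹ := fun y => rfl
  have hCn : x ∈ normalizer ((C.map R.subtype : Subgroup G) : Set G) :=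
    CfsgLib.PGroup.normalizer_le_normalizer_map_char (hX := hchar) R C hxn
  have hxC : ∀ c ∈ C, θ c = c := by
    intro c hc
    refine Subtype.ext ?_
    rw [hθ]
    have h := CfsgLib.PGroup.commute_of_fix_omega_odd hp2 (hR.to_le (map_subtype_le C)) hCn
      (fun hd => hp.out.coprime_iff_not_dvd.1 hxp.symm hd)
      (fun z hz hzp => by
        obtain ⟨z', hz', rfl⟩ := hz
        exact (mem_centralizer_iff.1 hxD _ ⟨z', hmemD.2 ⟨hz', Subtype.ext hzp⟩, rfl⟩).symm)
      (c : G) ⟨c, hc, rfl⟩
    rw [h.eq, mul_inv_cancel_right]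
  have hθ1 : θ = 1 := CfsgLib.CFun.eq_one_of_fixes_critical hR (hPC.trans inf_le_left) hcen θ
    (Nat.Coprime.coprime_dvd_left ((orderOf_map_dvd _ _).trans (by rw [Subgroup.orderOf_mk])) hxp) hxC
  refine mem_centralizer_iff.2 fun y hy => ?_
  have h := hθ ⟨y, hy⟩
  rw [hθ1, MulAut.one_apply] at h
  calc y * x = (x * y * x⁻¹) * x := by rw [← h]
    _ = x * y := by group

/-- The commutator with `R` of a nontrivial invariant subgroup of `R` is smaller. -/
theorem commutator_lt {R H : Subgroup G} (hR : IsPGroup p R) (hHR : H ≤ R)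
    (hRH : R ≤ normalizer (H : Set G)) (hH : H ≠ ⊥) : ⁅H, R⁆ < H := by
  refine lt_of_le_of_ne (le_normalizer_iff_commutator_le_left.1 hRH) fun h => hH ?_
  have hle : ∀ n, H ≤ R.lowerCentralSeries n := by
    intro n
    induction n with
    | zero => rw [Subgroup.lowerCentralSeries_zero]; exact hHR
    | succ n ih =>
      rw [Subgroup.lowerCentralSeries_succ, ← h]
      exact commutator_mono ih le_rfl
  obtain ⟨n, hn⟩ := (Subgroup.isNilpotent_iff_lowerCentralSeries R).1 hR.isNilpotent
  exact le_bot_iff.1 ((hle n).trans hn.le)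

/-- A scalarless coprime operator fixes a thin exponent-`p` section pointwise. -/
theorem fixes_thin {R A : Subgroup G} (hR : IsPGroup p R) (hA : A ≤ normalizer (R : Set G))
    {e : G} (heR : e ∈ R) {x : G} (hx : Scalarless p A x) (hxp : (orderOf x).Coprime p) :
    ∀ (n : ℕ) (H : Subgroup G), Nat.card H = n → H ≤ R → R ≤ normalizer (H : Set G) →
      A ≤ normalizer (H : Set G) → (Nat.card ↥(H ⊓ centralizer ({e} : Set G)) ≤ p) →
      ∀ h ∈ H, x * h * x⁻¹ = h := by
  intro n
  induction n using Nat.strongRecOn with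
  | ind n ih =>
  intro H hn hHR hRH hAH hthin h hh
  by_cases hH1 : H = ⊥
  · rw [hH1, mem_bot] at hh; rw [hh]; group
  set K := ⁅H, R⁆
  have hlt : K < H := commutator_lt hR hHR hRH hH1
  have hRK : R ≤ normalizer (K : Set G) := le_normalizer_commutator hRH le_normalizer
  have hAK : A ≤ normalizer (K : Set G) := le_normalizer_commutator hAH hA
  have hfix := ih _ (hn ▸ Set.Finite.card_lt_card (Set.toFinite _) hlt) K rfl (hlt.le.trans hHR) hRK hAK
    ((card_le_of_le (inf_le_inf_right _ hlt.le)).trans hthin)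
  -- the factor has order at most `p`
  have hcnt : Nat.card H ≤ Nat.card K * Nat.card ↥(H ⊓ centralizer ({e} : Set G)) := by
    set C := (centralizer ({e} : Set G)).subgroupOf H
    have hinj : Nat.card (↥H ⧸ C) ≤ Nat.card K := by
      refine Nat.card_le_card_of_injective
        (Quotient.lift (fun a : H => (⟨⁅(a : G), e⁆, commutator_mem_commutator a.2 heR⟩ : K)) ?_) ?_
      · intro a b hab
        have h0 : a⁻¹ * b ∈ C := QuotientGroup.leftRel_apply.1 hab
        have h1 : ((a : G)⁻¹ * b) * e = e * ((a : G)⁻¹ * b) :=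
          mem_centralizer_singleton_iff.1 h0
        refine Subtype.ext ?_
        show ⁅(a : G), e⁆ = ⁅(b : G), e⁆
        rw [commutatorElement_def, commutatorElement_def,
          show (b : G) * e * (b : G)⁻¹ = a * (((a : G)⁻¹ * b) * e * ((a : G)⁻¹ * b)⁻¹) * (a : G)⁻¹ by
            group, h1, mul_inv_cancel_right]
      · rintro ⟨a⟩ ⟨b⟩ hab
        refine Quotient.sound (QuotientGroup.leftRel_apply.2 ?_)
        show (a : G)⁻¹ * b ∈ centralizer ({e} : Set G)
        have h1 : (a : G) * e * (a : G)⁻¹ = b * e * (b : G)⁻¹ :=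
          mul_right_cancel (congrArg Subtype.val hab : ⁅(a : G), e⁆ = ⁅(b : G), e⁆)
        rw [mem_centralizer_singleton_iff]
        calc (a : G)⁻¹ * b * e = (a : G)⁻¹ * (b * e * (b : G)⁻¹) * b := by group
          _ = (a : G)⁻¹ * (a * e * (a : G)⁻¹) * b := by rw [h1]
          _ = e * ((a : G)⁻¹ * b) := by group
    have hC : Nat.card C = Nat.card ↥(H ⊓ centralizer ({e} : Set G)) := by
      rw [← (card_map_of_injective H.subtype_injective : Nat.card (C.map H.subtype) = Nat.card C),
        subgroupOf_map_subtype, inf_comm]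
    rw [← C.card_mul_index, index_eq_card, hC, mul_comm]
    exact Nat.mul_le_mul_right _ hinj
  have hidx : K.relIndex H ∣ p := by
    have hd : K.relIndex H ∣ Nat.card H := relIndex_dvd_card K H
    obtain ⟨k, hk⟩ := IsPGroup.iff_card.1 (hR.to_le hHR)
    obtain ⟨j, -, hj⟩ := (Nat.dvd_prime_pow hp.out).1 (hk ▸ hd)
    have h1 : Nat.card K * K.relIndex H = Nat.card H := by
      rw [← relIndex_bot_left, ← relIndex_bot_left]
      exact relIndex_mul_relIndex ⊥ K H bot_le hlt.le
    rw [← h1] at hcnt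
    have h2 := Nat.le_of_mul_le_mul_left (hcnt.trans (Nat.mul_le_mul_left _ hthin)) Nat.card_pos
    rw [hj] at h2 ⊢
    nth_rewrite 2 [← pow_one p] at h2
    nth_rewrite 2 [← pow_one p]
    exact pow_dvd_pow p ((Nat.pow_le_pow_iff_right hp.out.one_lt).1 h2)
  have hu := scalarless_trivial hlt.le (hHR.trans hRK) hAH hAK hidx hx hh
  have h1 := CfsgLib.Coprime.eq_one_of_conj_eq_mul (a := x) (x := h) (u := x * h * x⁻¹ * h⁻¹)
    (by group) (hfix _ hu) (by
      obtain ⟨k, hk⟩ := IsPGroup.iff_orderOf.1 hR ⟨_, hHR (hlt.le hu)⟩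
      rw [Subgroup.orderOf_mk] at hk
      exact hk ▸ hxp.pow_right k)
  exact mul_inv_eq_one.1 h1

/-- Scalarless coprime operators centralize a narrow group of rank at least three. -/
theorem scalarless_centralizes (hp2 : p ≠ 2) {R A : Subgroup G} (hR : IsPGroup p R)
    (hr : ¬ Cfsg.PRankLE p 2 R) (hn : Cfsg.IsNarrow p R) (hA : A ≤ normalizer (R : Set G))
    {x : G} (hx : Scalarless p A x) (hxp : (orderOf x).Coprime p) : x ∈ centralizer (R : Set G) := by
  obtain ⟨E, hE, hE2, hEmax⟩ := exists_maximal_of_isNarrow hp2 hR hr hn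
  obtain ⟨e, -, -, -, hthin⟩ := exists_thin hp2 hR hr hE hE2 hEmax
  obtain ⟨-, hZ, -, hidx, -⟩ := maximal_two hp2 hR hr hE hE2 hEmax
  set T₀ := centralizer (omegaSecond p R : Set R)
  have hTchar : T₀.Characteristic := centralizer_characteristic omegaSecond_characteristic
  set T := T₀.map R.subtype with hT
  have hTn : normalizer (R : Set G) ≤ normalizer (T : Set G) :=
    CfsgLib.PGroup.normalizer_le_normalizer_map_char (hX := hTchar) R T₀
  have hTR : T ≤ R := map_subtype_le _
  obtain ⟨D, hDR, hRD, hDe, hdet⟩ := exists_exponent_detector hp2 hR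
  refine hdet x (hA hx.mem) hxp (mem_centralizer_iff.2 fun d hd => ?_)
  set H := D ⊓ T
  have hRH : R ≤ normalizer (H : Set G) := CfsgLib.Coprime.inf_le_normalizer
    (le_normalizer.trans hRD) (le_normalizer.trans hTn)
  have hAH : A ≤ normalizer (H : Set G) :=
    CfsgLib.Coprime.inf_le_normalizer (hA.trans hRD) (hA.trans hTn)
  have hsmall : Nat.card ↥(H ⊓ centralizer ({(e : G)} : Set G)) ≤ p := by
    rw [← hZ, ← (card_map_of_injective R.subtype_injective :
      Nat.card ((omegaCenter p R).map R.subtype) = Nat.card (omegaCenter p R))]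
    refine card_le_of_le fun y hy => ?_
    obtain ⟨⟨hyD, y', hy', rfl⟩, hyC⟩ := hy
    exact ⟨y', hthin y' hy' (Subtype.ext (mem_centralizer_singleton_iff.1 hyC))
      (Subtype.ext (hDe _ hyD)), rfl⟩
  have hfix := fixes_thin hR hA e.2 hx hxp _ H rfl (inf_le_left.trans hDR) hRH hAH hsmall
  have hrel : H.relIndex D ∣ p := by
    rw [show H = D ⊓ T from rfl, inf_relIndex_left]
    haveI : T₀.Normal := normal_of_characteristic T₀ (h := hTchar)
    have h1 : T.relIndex D ∣ T.relIndex R := by
      haveI : (D.subgroupOf R).Normal := (normal_subgroupOf_iff_le_normalizer hDR).2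
        (le_normalizer.trans hRD)
      have h2 := CfsgLib.PGroup.relIndex_dvd_index_normal_right (T.subgroupOf R) (D.subgroupOf R)
      rwa [relIndex_subgroupOf hDR] at h2
    rwa [show T.relIndex R = T₀.index by
      rw [relIndex, hT, subgroupOf, comap_map_eq_self_of_injective R.subtype_injective], hidx] at h1
  have hu := scalarless_trivial (inf_le_left : H ≤ D) (hDR.trans hRH) (hA.trans hRD) hAH hrel hx hd
  have h1 := CfsgLib.Coprime.eq_one_of_conj_eq_mul (a := x) (x := d) (u := x * d * x⁻¹ * d⁻¹)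
    (by group) (hfix _ hu) (by
      obtain ⟨k, hk⟩ := IsPGroup.iff_orderOf.1 hR ⟨_, hDR hu.1⟩
      rw [Subgroup.orderOf_mk] at hk
      exact hk ▸ hxp.pow_right k)
  have h2 : x * d * x⁻¹ = d := mul_inv_eq_one.1 h1
  calc d * x = x * d * x⁻¹ * x := by rw [h2]
    _ = x * d := by group

end CfsgLib.CFun.Narrow
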