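import Cfsg.Agent.Lib.CFun.OddUniqueBase

/-!
# Uniqueness subgroups: centralizing, rank three, and large Fitting subgroups
-/

set_option autoImplicit false
set_option linter.style.haveILetI false
set_option linter.unusedSectionVars false

open Subgroup
open scoped commutatorElement
open CfsgLib.Coprime (conjBy conjBy_eq_self_iff mem_conjBy conj_mem_conjBy conj_mem_of_le_normalizer)

namespace CfsgLib.CFun

universe u

variable {G : Type u} [Group G] [Finite G] {p : ℕ} [hp : Fact p.Prime]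

/-- Elementary subgroups in a group of larger rank. -/
theorem exists_elementary_of_not_pRankLE {H : Subgroup G} {k : ℕ} (h : ¬ Cfsg.PRankLE p k H) :
    ∃ E : Subgroup G, E ≤ H ∧ Cfsg.IsElementaryAbelian p E ∧ Nat.card E = p ^ (k + 1) := by
  simp only [Cfsg.PRankLE, not_forall, not_le] at h
  obtain ⟨E, hEc, hEe, hEk⟩ := h
  have hEp : IsPGroup p E := fun a => ⟨1, Subtype.ext (by rw [pow_one]; exact hEe a a.2)⟩
  obtain ⟨n, hn⟩ := IsPGroup.iff_card.1 hEp
  have hkn : k + 1 ≤ n := by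
    rw [hn] at hEk
    exact (Nat.pow_lt_pow_iff_right hp.out.one_lt).1 hEk
  obtain ⟨F, hF⟩ := Sylow.exists_subgroup_card_pow_prime (G := E) p
    (n := k + 1) (hn ▸ pow_dvd_pow p hkn)
  haveI := hEc
  refine ⟨(F.map E.subtype).map H.subtype, map_subtype_le _, ⟨inferInstance, ?_⟩, ?_⟩
  · rintro _ ⟨x, ⟨y, -, rfl⟩, rfl⟩
    rw [← map_pow, show (E.subtype y) ^ p = 1 from hEe _ y.2, map_one]
  · rw [card_map_of_injective H.subtype_injective, card_map_of_injective E.subtype_injective, hF]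

theorem not_pRankLE_of_elementary {H E : Subgroup G} {k : ℕ} (hEH : E ≤ H)
    (hE : Cfsg.IsElementaryAbelian p E) (hk : p ^ k < Nat.card E) : ¬ Cfsg.PRankLE p k H := by
  intro h
  haveI := hE.1
  have h1 := h (E.subgroupOf H) ⟨⟨fun a b => Subtype.ext (Subtype.ext
    (show ((a : H) : G) * (b : H) = (b : H) * (a : H) from
      congrArg Subtype.val (hE.1.is_comm.comm (⟨_, a.2⟩ : E) ⟨_, b.2⟩)))⟩⟩
    (fun a ha => Subtype.ext (hE.2 a ha))
  rw [Nat.card_congr (subgroupOfEquivOfLe hEH).toEquiv] at h1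
  omega

theorem isPGroup_of_elementary {E : Subgroup G} (hE : Cfsg.IsElementaryAbelian p E) : IsPGroup p E :=
  fun a => ⟨1, Subtype.ext (by rw [pow_one]; exact hE.2 a a.2)⟩

theorem isElementaryAbelian_of_le {E F : Subgroup G} (hE : Cfsg.IsElementaryAbelian p E)
    (hFE : F ≤ E) : Cfsg.IsElementaryAbelian p F :=
  ⟨⟨⟨fun a b => Subtype.ext (show (a : G) * b = b * a from
      congrArg Subtype.val (hE.1.is_comm.comm (⟨a, hFE a.2⟩ : E) ⟨b, hFE b.2⟩))⟩⟩,
    fun a ha => hE.2 a (hFE ha)⟩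

theorem not_isCyclic_of_elementary {E : Subgroup G} (hE : Cfsg.IsElementaryAbelian p E)
    (h : p ^ 2 ≤ Nat.card E) : ¬ IsCyclic E := fun hc => by
  obtain ⟨g, hg⟩ := IsCyclic.exists_generator (α := E)
  have h1 : Nat.card E ∣ p := by
    rw [← orderOf_eq_card_of_forall_mem_zpowers hg]
    exact orderOf_dvd_of_pow_eq_one (Subtype.ext (hE.2 g g.2))
  have h2 := h.trans (Nat.le_of_dvd hp.out.pos h1)
  nlinarith [hp.out.two_le]

theorem le_centralizer_of_comm {E : Subgroup G} (hE : IsMulCommutative E) :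
    E ≤ centralizer (E : Set G) := fun x hx => mem_centralizer_iff.2 fun y hy =>
  congrArg Subtype.val (hE.is_comm.comm (⟨y, hy⟩ : E) ⟨x, hx⟩)

/-- An elementary subgroup of order `p²` in a noncyclic `p`-subgroup. -/
theorem exists_normal_elementary_two (hp2 : p ≠ 2) {P : Subgroup G} (hP : IsPGroup p P)
    (hnc : ¬ IsCyclic P) :
    ∃ E : Subgroup G, E ≤ P ∧ P ≤ normalizer (E : Set G) ∧ Cfsg.IsElementaryAbelian p E ∧
      Nat.card E = p ^ 2 := by
  obtain ⟨E, hEn, hEe, hE2⟩ := Cfsg.Agent.S0126.result hp2 hP hnc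
  haveI := hEn
  haveI := hEe.1
  refine ⟨E.map P.subtype, map_subtype_le E, fun x hx => le_normalizer_map P.subtype
    ⟨⟨x, hx⟩, (normalizer_eq_top E).symm ▸ mem_top _, rfl⟩, ⟨inferInstance, ?_⟩, ?_⟩
  · rintro _ ⟨a, ha, rfl⟩
    rw [← map_pow, hEe.2 a ha, map_one]
  · rw [card_map_of_injective P.subtype_injective, hE2]

/-- Centralizing a normalized elementary subgroup of order `p²` costs one factor `p`. -/
theorem card_le_mul_inf_centralizer {T E : Subgroup G} (hT : IsPGroup p T) (hTE : T ≤ normalizer (E : Set G))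
    (hE : Cfsg.IsElementaryAbelian p E) (hE2 : Nat.card E = p ^ 2) :
    Nat.card T ≤ p * Nat.card ↥(T ⊓ centralizer (E : Set G)) := by
  set R := E ⊔ T with hR
  have hRp : IsPGroup p R :=
    CfsgLib.Invol.isPGroup_sup (isPGroup_of_elementary hE) hT hTE
  haveI : (E.subgroupOf R).Normal := (normal_subgroupOf_iff_le_normalizer le_sup_left).2
    (sup_le le_normalizer hTE)
  have hc : IsMulCommutative (E.subgroupOf R) := ⟨⟨fun a b => Subtype.ext (Subtype.ext
    (show ((a : R) : G) * (b : R) = (b : R) * (a : R) from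
      congrArg Subtype.val (hE.1.is_comm.comm (⟨_, a.2⟩ : E) ⟨_, b.2⟩)))⟩⟩
  have hidx := CfsgLib.PGroup.index_centralizer_le_pow hRp 2 (E.subgroupOf R) hc
    ((Nat.card_congr (subgroupOfEquivOfLe le_sup_left).toEquiv).trans hE2)
  simp only [Nat.reduceSub, Nat.reduceMul, Nat.reduceDiv, pow_one] at hidx
  set C := centralizer (E.subgroupOf R : Set R) with hC
  haveI : C.Normal := Subgroup.normal_centralizer
  have h1 : C.relIndex (T.subgroupOf R) ≤ p :=
    (Nat.le_of_dvd (Nat.pos_of_ne_zero index_ne_zero_of_finite)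
      (Subgroup.relIndex_dvd_index_of_normal _ _)).trans hidx
  have h2 : C ⊓ T.subgroupOf R = (T ⊓ centralizer (E : Set G)).subgroupOf R := by
    ext x
    simp only [mem_inf, mem_subgroupOf, hC, mem_centralizer_iff]
    constructor
    · rintro ⟨hxC, hxT⟩
      exact ⟨hxT, fun e he => congrArg Subtype.val (hxC ⟨e, mem_sup_left he⟩ he)⟩
    · rintro ⟨hxT, hxC⟩
      exact ⟨fun e he => Subtype.ext (hxC e he), hxT⟩
  have h3 := Subgroup.card_mul_index ((C ⊓ T.subgroupOf R).subgroupOf (T.subgroupOf R))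
  rw [Nat.card_congr (subgroupOfEquivOfLe inf_le_right).toEquiv, ← Subgroup.relIndex,
    inf_relIndex_right, h2, Nat.card_congr (subgroupOfEquivOfLe (inf_le_left.trans le_sup_right)).toEquiv,
    Nat.card_congr (subgroupOfEquivOfLe (le_sup_right : T ≤ R)).toEquiv] at h3
  rw [← h3, mul_comm p]
  exact Nat.mul_le_mul_left _ h1

section Uniqueness

variable (hG : Cfsg.IsMinSimpleOddOrder G)
include hG

/-- Proper overgroups of a subgroup in a unique maximal subgroup lie in it. -/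
theorem le_of_unique {X Y M : Subgroup G} (hX : Cfsg.InUniqueMaximal X) (hM : IsCoatom M)
    (hXM : X ≤ M) (hXY : X ≤ Y) (hY : Y ≠ ⊤) : Y ≤ M := by
  obtain ⟨K, hK, hYK⟩ := (eq_top_or_exists_le_coatom Y).resolve_left hY
  exact hX.unique ⟨hK, hXY.trans hYK⟩ ⟨hM, hXM⟩ ▸ hYK

theorem inUniqueMaximal_mono {X Y : Subgroup G} (hX : Cfsg.InUniqueMaximal X) (hXY : X ≤ Y)
    (hY : Y ≠ ⊤) : Cfsg.InUniqueMaximal Y := by
  obtain ⟨M, hM, hYM⟩ := (eq_top_or_exists_le_coatom Y).resolve_left hY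
  exact ⟨M, ⟨hM, hYM⟩, fun K hK => hX.unique ⟨hK.1, hXY.trans hK.2⟩ ⟨hM, hXY.trans hYM⟩⟩

theorem ne_bot_of_unique {X : Subgroup G} (hX : Cfsg.InUniqueMaximal X) : X ≠ ⊥ := by
  rintro rfl
  obtain ⟨M, ⟨hM, -⟩, hu⟩ := hX
  refine hM.1 (eq_top_iff.2 fun g _ => ?_)
  have hg : zpowers g ≠ ⊤ := fun e => ms_isSolvable_top hG (by
    rw [← e]; exact CfsgLib.Coprime.isSolvable_of_isMulCommutative inferInstance)
  obtain ⟨K, hK, hgK⟩ := (eq_top_or_exists_le_coatom (zpowers g)).resolve_left hg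
  exact hu K ⟨hK, bot_le⟩ ▸ hgK (mem_zpowers g)

theorem ms_centralizer_singleton_ne_top {b : G} (hb : b ≠ 1) : centralizer ({b} : Set G) ≠ ⊤ := by
  intro h
  haveI := hG.2.1
  haveI : IsSimpleGroup G := hG.2.1
  have hbc : b ∈ center G := mem_center_iff.2 fun g =>
    (mem_centralizer_iff.1 (h.ge (mem_top g)) b rfl).symm
  rcases IsSimpleGroup.eq_bot_or_eq_top_of_normal (center G) inferInstance with h1 | h1
  · exact hb (mem_bot.1 (h1 ▸ hbc))
  · exact hG.2.2.1 ⟨⟨fun x y => mem_center_iff.1 (h1.ge (mem_top y)) x⟩⟩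

/-- A noncyclic elementary subgroup centralizing a uniqueness subgroup lies in its maximal
subgroup only. -/
theorem unique_of_centralizes_elementary {L B M : Subgroup G} (hL : Cfsg.InUniqueMaximal L)
    (hM : IsCoatom M) (hLM : L ≤ M) (hBL : B ≤ centralizer (L : Set G))
    (hBe : Cfsg.IsElementaryAbelian p B) (hBnc : ¬ IsCyclic B) :
    B ≤ M ∧ Cfsg.InUniqueMaximal B := by
  haveI := hBe.1
  have hLC : ∀ b ∈ B, L ≤ centralizer ({b} : Set G) := fun b hb =>
    (le_centralizer_iff.1 hBL).trans (centralizer_le (by simpa using hb))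
  have hcen : ∀ b ∈ B, b ≠ 1 → centralizer ({b} : Set G) ≤ M := fun b hb hb1 =>
    le_of_unique hG hL hM hLM (hLC b hb) (ms_centralizer_singleton_ne_top hG hb1)
  obtain ⟨b, hb, hb1⟩ := (bot_or_exists_ne_one B).resolve_left fun e => hBnc (isCyclic_of_ambient e)
  have hBM : B ≤ M := ((le_centralizer_of_comm hBe.1).trans
    (centralizer_le (by simpa using hb))).trans (hcen b hb hb1)
  exact ⟨hBM, inUniqueMaximal_of_inv hG hM hBM hBe hBnc fun Y hBY hY =>
    inv_le_of_centralizers hG hM hBe hBnc hcen hBY hY⟩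

/-- Uniqueness passes to centralizing subgroups of rank at least two. -/
theorem unique_of_centralizes {L K : Subgroup G} (hL : Cfsg.InUniqueMaximal L)
    (hK : K ≤ centralizer (L : Set G)) (hr : ¬ Cfsg.RankLE 1 K) : Cfsg.InUniqueMaximal K := by
  simp only [Cfsg.RankLE, not_forall] at hr
  obtain ⟨r, hr, hrk⟩ := hr
  haveI : Fact r.Prime := ⟨hr⟩
  obtain ⟨B, hBK, hBe, hB2⟩ := exists_elementary_of_not_pRankLE hrk
  obtain ⟨M, ⟨hM, hLM⟩, -⟩ := id hL
  obtain ⟨b, hb, hb1⟩ := (bot_or_exists_ne_one L).resolve_left (ne_bot_of_unique hG hL)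
  have hKt : K ≠ ⊤ := fun e => ms_centralizer_singleton_ne_top hG hb1
    (top_le_iff.1 ((e.symm ▸ hK).trans (centralizer_le (by simpa using hb))))
  exact inUniqueMaximal_mono hG (unique_of_centralizes_elementary hG hL hM hLM (hBK.trans hK) hBe
    (not_isCyclic_of_elementary hBe hB2.ge)).2 hBK hKt

omit hG in
theorem isPGroup_conjBy' {P : Subgroup G} (hP : IsPGroup p P) (g : G) : IsPGroup p (conjBy g P) :=
  hP.map _

theorem inUniqueMaximal_conjBy {X : Subgroup G} (hX : Cfsg.InUniqueMaximal X) (g : G) :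
    Cfsg.InUniqueMaximal (conjBy g X) := by
  set f := MulAut.conj g with hf
  have hco : ∀ K : Subgroup G, IsCoatom (K.map f.toMonoidHom) ↔ IsCoatom K := fun K =>
    OrderIso.isCoatom_iff (MulEquiv.mapSubgroup f) K
  obtain ⟨M, ⟨hM, hXM⟩, hu⟩ := hX
  refine ⟨M.map f.toMonoidHom, ⟨(hco M).2 hM, map_mono hXM⟩, fun K hK => ?_⟩
  have e : (K.map f.symm.toMonoidHom).map f.toMonoidHom = K := by
    rw [Subgroup.map_map]
    convert Subgroup.map_id K
    ext x
    simp
  rw [← e, hu (K.map f.symm.toMonoidHom) ⟨(hco _).1 (by rw [e]; exact hK.1), fun x hx =>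
    ⟨f x, hK.2 ⟨x, hx, rfl⟩, by simp⟩⟩]

/-- The rank-three criterion: an abelian uniqueness subgroup of rank three spreads to every
noncyclic `p`-subgroup with centralizer of rank three. -/
theorem unique_of_rank_three {A B : Subgroup G} (hAp : IsPGroup p A) (hAc : IsMulCommutative A)
    (hA3 : ¬ Cfsg.PRankLE p 2 A) (hAU : Cfsg.InUniqueMaximal A) (hBp : IsPGroup p B)
    (hBnc : ¬ IsCyclic B) (hB3 : ¬ Cfsg.PRankLE p 2 ↥(centralizer (B : Set G))) :
    Cfsg.InUniqueMaximal B := by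
  obtain ⟨E, hEA, hEe, hE3⟩ := exists_elementary_of_not_pRankLE hA3
  obtain ⟨MA, ⟨hMA, hAMA⟩, -⟩ := id hAU
  have hp2 : p ≠ 2 := ms_ne_two hG ((hE3 ▸ dvd_pow_self p (by norm_num)).trans
    (card_subgroup_dvd_card E))
  have hpp : p ^ 2 ≤ p ^ 3 := Nat.pow_le_pow_right hp.out.pos (by norm_num)
  have hEU := (unique_of_centralizes_elementary hG hAU hMA hAMA
    (hEA.trans (le_centralizer_of_comm hAc)) hEe (not_isCyclic_of_elementary hEe (hE3 ▸ hpp))).2
  obtain ⟨P, hAP⟩ := hAp.exists_le_sylow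
  have hPnc : ¬ IsCyclic (P : Subgroup G) := fun hc => by
    haveI := hc
    refine not_isCyclic_of_elementary hEe (hE3 ▸ hpp)
      (isCyclic_of_injective (Subgroup.inclusion (hEA.trans hAP)) (Subgroup.inclusion_injective _))
  obtain ⟨E₀, hE₀P, hPE₀, hE₀e, hE₀2⟩ := exists_normal_elementary_two hp2 P.2 hPnc
  -- spreading along commuting elementary subgroups
  have spread : ∀ {X : Subgroup G}, Cfsg.IsElementaryAbelian p X → Cfsg.InUniqueMaximal X →
      ∀ {Y : Subgroup G}, Cfsg.IsElementaryAbelian p Y → p ^ 2 ≤ Nat.card Y →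
        Y ≤ centralizer (X : Set G) → Cfsg.InUniqueMaximal Y := by
    intro X _ hX Y hYe hY2 hYX
    obtain ⟨M, ⟨hM, hXM⟩, -⟩ := id hX
    exact (unique_of_centralizes_elementary hG hX hM hXM hYX hYe
      (not_isCyclic_of_elementary hYe hY2)).2
  have hcut : ∀ {F E' : Subgroup G}, Cfsg.IsElementaryAbelian p F → Nat.card F = p ^ 3 →
      F ≤ normalizer (E' : Set G) → Cfsg.IsElementaryAbelian p E' → Nat.card E' = p ^ 2 →
      p ^ 2 ≤ Nat.card ↥(F ⊓ centralizer (E' : Set G)) := by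
    intro F E' hFe hF3 hn hE'e hE'2
    have := card_le_mul_inf_centralizer (isPGroup_of_elementary hFe) hn hE'e hE'2
    rw [hF3, pow_succ, mul_comm] at this
    exact Nat.le_of_mul_le_mul_left this hp.out.pos
  have hE₀U : Cfsg.InUniqueMaximal E₀ := by
    have hF₁ := hcut hEe hE3 ((hEA.trans hAP).trans hPE₀) hE₀e hE₀2
    exact spread (isElementaryAbelian_of_le hEe inf_le_left)
      (spread hEe hEU (isElementaryAbelian_of_le hEe inf_le_left) hF₁
        (inf_le_left.trans (le_centralizer_of_comm hEe.1))) hE₀e hE₀2.ge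
      (le_centralizer_iff.1 inf_le_right)
  obtain ⟨F, hFC, hFe, hF3⟩ := exists_elementary_of_not_pRankLE hB3
  have hFp := isPGroup_of_elementary hFe
  have hsup : IsPGroup p ↥(B ⊔ F) := CfsgLib.Invol.isPGroup_sup hBp hFp
    (hFC.trans (CfsgLib.Coprime.centralizer_le_normalizer_self B))
  obtain ⟨Q, hQ⟩ := hsup.exists_le_sylow
  obtain ⟨g, hg⟩ := MulAction.exists_smul_eq G P Q
  have hQeq : (Q : Subgroup G) = conjBy g (P : Subgroup G) := by
    rw [← hg]; rfl
  set E₁ := conjBy g E₀ with hE₁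
  have hE₁e : Cfsg.IsElementaryAbelian p E₁ := by
    refine ⟨?_, ?_⟩
    · haveI := hE₀e.1; exact inferInstanceAs (IsMulCommutative (E₀.map _))
    · rintro _ ⟨x, hx, rfl⟩
      rw [← map_pow, hE₀e.2 x hx, map_one]
  have hE₁2 : Nat.card E₁ = p ^ 2 := (CfsgLib.Coprime.card_conjBy g E₀).trans hE₀2
  have hQE₁ : (Q : Subgroup G) ≤ normalizer (E₁ : Set G) := by
    rw [hQeq]
    exact (map_mono hPE₀).trans (le_normalizer_map _)
  have hF₁ := hcut hFe hF3 ((le_sup_right.trans hQ).trans hQE₁) hE₁e hE₁2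
  have hFU : Cfsg.InUniqueMaximal F :=
    spread (isElementaryAbelian_of_le hFe inf_le_left)
      (spread hE₁e (inUniqueMaximal_conjBy hG hE₀U g) (isElementaryAbelian_of_le hFe inf_le_left) hF₁
        inf_le_right) hFe (hF3 ▸ hpp) (le_centralizer_iff.1
          (inf_le_left.trans (le_centralizer_of_comm hFe.1)))
  obtain ⟨B₀, hB₀B, -, hB₀e, hB₀2⟩ := exists_normal_elementary_two hp2 hBp hBnc
  refine inUniqueMaximal_mono hG (spread hFe hFU hB₀e hB₀2.ge (hB₀B.trans (le_centralizer_iff.1 hFC)))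
    hB₀B ?_
  exact ms_isPGroup_ne_top hG hBp

/-- A Fitting subgroup of rank three makes every abelian `p`-group of rank three a uniqueness
subgroup. -/
theorem unique_of_fitting_rank_three {M : Subgroup G} (hM : IsCoatom M)
    (hF : ¬ Cfsg.PRankLE p 2 ↥(Cfsg.fittingOf M)) {A : Subgroup G} (hAp : IsPGroup p A)
    (hAc : IsMulCommutative A) (hA3 : ¬ Cfsg.PRankLE p 2 A) : Cfsg.InUniqueMaximal A := by
  obtain ⟨E, hEF, hEe, hE3⟩ := exists_elementary_of_not_pRankLE hF
  have hpp : p ^ 2 ≤ p ^ 3 := Nat.pow_le_pow_right hp.out.pos (by norm_num)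
  have hpF : p ∣ Nat.card (Cfsg.fittingOf M) :=
    (hE3 ▸ dvd_pow_self p (by norm_num)).trans (card_dvd_of_le hEF)
  have hp2 : p ≠ 2 := ms_ne_two hG (hpF.trans (card_subgroup_dvd_card _))
  have key : ∃ A' : Subgroup G, IsPGroup p A' ∧ IsMulCommutative A' ∧ ¬ Cfsg.PRankLE p 2 A' ∧
      Cfsg.InUniqueMaximal A' := by
    by_cases hnp : IsPGroup p ↥(Cfsg.fittingOf M)
    · obtain ⟨P⟩ : Nonempty (Sylow p M) := inferInstance
      obtain ⟨hfull, hscn⟩ := unique_scn hG hM hnp hpF P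
      set T := (P : Subgroup M).map M.subtype
      let S : Sylow p G := ⟨T, P.2.map _, fun hU hle => hfull _ hU hle⟩
      have hcore : core M p ≤ T := map_mono (le_sup_left.trans
        (P.3 (haveI := CfsgLib.Coprime.pCore_normal' (G := M) p
          (CfsgLib.Coprime.pCore_isPGroup p).to_sup_of_normal_left P.2) le_sup_right).le)
      have hET : E ≤ (S : Subgroup G) :=
        (le_core_of_le_fittingOf hEF (isPGroup_of_elementary hEe)).trans hcore
      obtain ⟨A', hA', hA'3⟩ := exists_scn_three hG S hp2 (not_pRankLE_of_elementary hET hEe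
        (hE3 ▸ Nat.pow_lt_pow_right hp.out.one_lt (by norm_num)))
      refine ⟨A', S.2.to_le hA'.1, ⟨⟨fun a b => Subtype.ext ?_⟩⟩, hA'3,
        (hscn A' hA' hA'3).2⟩
      exact mem_centralizer_iff.1 (hA'.2.2.ge b.2).2 _ a.2
    · obtain ⟨A₀, hEA₀, hA₀⟩ := exists_maximal_ge_of_wellFoundedGT
        (fun W : Subgroup G => W ≤ Cfsg.fittingOf M ∧ Cfsg.IsElementaryAbelian p W) E ⟨hEF, hEe⟩
      obtain ⟨hA₀F, hA₀e⟩ := hA₀.prop
      have hA₀3 : p ^ 3 ≤ Nat.card A₀ := hE3 ▸ card_le_of_le hEA₀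
      have hU := unique_fitting_centralizer hG hM hA₀F hA₀e hA₀3 hnp
      obtain ⟨L, ⟨hL, hAL⟩, -⟩ := id hU
      refine ⟨A₀, isPGroup_of_elementary hA₀e, hA₀e.1,
        not_pRankLE_of_elementary le_rfl hA₀e (lt_of_lt_of_le
          (Nat.pow_lt_pow_right hp.out.one_lt (by norm_num)) hA₀3), ?_⟩
      exact (unique_of_centralizes_elementary hG hU hL hAL (le_centralizer_iff.1 inf_le_right) hA₀e
        (not_isCyclic_of_elementary hA₀e (hpp.trans hA₀3))).2
  obtain ⟨A', hA'p, hA'c, hA'3, hA'U⟩ := key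
  obtain ⟨E', hE'A, hE'e, hE'3⟩ := exists_elementary_of_not_pRankLE hA3
  refine unique_of_rank_three hG hA'p hA'c hA'3 hA'U hAp (fun hc => ?_)
    (not_pRankLE_of_elementary (hE'A.trans (le_centralizer_of_comm hAc)) hE'e
      (hE'3 ▸ Nat.pow_lt_pow_right hp.out.one_lt (by norm_num)))
  haveI := hc
  exact not_isCyclic_of_elementary hE'e (hE'3 ▸ hpp)
    (isCyclic_of_injective (Subgroup.inclusion hE'A) (Subgroup.inclusion_injective _))

end Uniqueness

end CfsgLib.CFun
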