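import Cfsg.Agent.Lib.CFun.OddCriteria
import Cfsg.Agent.Lib.Char.CNOdd
import Cfsg.Agent.Lib.Qd.Unstable
import Cfsg.Agent.Lib.Fusion.ZJElementary
import Cfsg.Agent.Lib.Fusion.ZJFamilies
import Cfsg.Agent.Lib.Fusion.Thompson
import Cfsg.Agent.Lib.Fusion.PrimeCoreQuotient
import Cfsg.Agent.Lib.Coprime.Core

/-!
# Stability in solvable groups of odd order
-/

set_option autoImplicit false
set_option linter.style.haveILetI false
set_option linter.unusedSectionVars false

open Subgroup
open scoped commutatorElement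
open CfsgLib.Coprime (conj_mem_of_le_normalizer)

namespace CfsgLib.CFun

universe u

variable {G : Type u} [Group G] [Finite G] {p : ℕ} [hp : Fact p.Prime]

theorem isPStableOn_of_odd (hp2 : p ≠ 2) (hodd : Odd (Nat.card G)) (V : Subgroup G) [V.Normal]
    (hV : IsPGroup p V) : Cfsg.IsPStableOn p V := by
  by_contra hcon
  exact CfsgLib.Char.qdFree_of_odd hp2 hodd (CfsgLib.Qd.sections_of_not_isPStableOn hp2 V hV hcon).1

/-- Quadratic elements lie in the `p`-core of the automizer. -/
theorem quadratic_le_pCore_of_odd (hp2 : p ≠ 2) (hodd : Odd (Nat.card G)) {P A : Subgroup G}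
    (hP : IsPGroup p P) (hAN : A ≤ normalizer (P : Set G)) (hquad : ⁅⁅P, A⁆, A⁆ = ⊥) :
    (A.subgroupOf (normalizer (P : Set G))).map
        (QuotientGroup.mk' ((centralizer (P : Set G)).subgroupOf (normalizer (P : Set G))))
      ≤ Cfsg.pCore p _ := by
  set N := normalizer (P : Set G) with hN
  set V := P.subgroupOf N
  haveI : V.Normal := Subgroup.normal_in_normalizer
  have hst := isPStableOn_of_odd hp2 (hodd.of_dvd_nat (card_subgroup_dvd_card N)) V
    (hP.of_equiv (subgroupOfEquivOfLe le_normalizer).symm)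
  have hC : centralizer (V : Set N) = (centralizer (P : Set G)).subgroupOf N := by
    ext x
    simp only [mem_subgroupOf, mem_centralizer_iff]
    exact ⟨fun h y hy => congrArg Subtype.val (h ⟨y, le_normalizer hy⟩ hy),
      fun h y hy => Subtype.ext (h y hy)⟩
  rintro _ ⟨a, ha, rfl⟩
  have hq : ⁅⁅V, zpowers a⁆, zpowers a⁆ = ⊥ := by
    refine (map_eq_bot_iff_of_injective _ N.subtype_injective).1 (le_bot_iff.1 ?_)
    rw [← hquad, Subgroup.map_commutator, Subgroup.map_commutator]
    have h1 : (zpowers a).map N.subtype ≤ A := by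
      rw [MonoidHom.map_zpowers]; exact zpowers_le.2 ha
    exact commutator_mono (commutator_mono (le_of_eq (map_subgroupOf_eq_of_le le_normalizer)) h1) h1
  have h := hst a hq
  have key : ∀ (D : Subgroup N) [D.Normal], D = centralizer (V : Set N) →
      (QuotientGroup.mk a : N ⧸ D) ∈ Cfsg.pCore p (N ⧸ D) := by
    rintro D _ rfl; exact h
  exact key _ hC.symm

variable [Group.IsSolvable G]

/-- Abelian normal subgroups of a Sylow subgroup lie in `O_{p',p}`. -/
theorem le_pPrimePCore_of_abelian (hodd : Odd (Nat.card G)) (S : Sylow p G) {A : Subgroup G}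
    (hA : A ≤ (S : Subgroup G)) (hAc : IsMulCommutative A)
    (hAn : (S : Subgroup G) ≤ normalizer (A : Set G)) : A ≤ Cfsg.pPrimePCore p G := by
  rcases eq_or_ne p 2 with rfl | hp2
  · have hG : ¬ 2 ∣ Nat.card G := fun h => Nat.not_even_iff_odd.2 hodd (even_iff_two_dvd.2 h)
    obtain ⟨k, hk⟩ := IsPGroup.iff_card.1 S.2
    rcases k with _ | k
    · rw [(card_eq_one.1 (by rw [hk, pow_zero]) : (S : Subgroup G) = ⊥)] at hA
      exact hA.trans bot_le
    · exact absurd ((dvd_pow_self 2 k.succ_ne_zero).trans (hk ▸ card_subgroup_dvd_card _)) hG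
  set O := Cfsg.pPrimeCore p G with hO
  haveI : O.Normal := Subgroup.sSup_normal _ fun _ h => h.1
  set π := QuotientGroup.mk' O with hπ
  have hπs := QuotientGroup.mk'_surjective O
  haveI := CfsgLib.Coprime.pCore_normal' (G := G ⧸ O) p
  set V := Cfsg.pCore p (G ⧸ O) with hV
  have hVp : IsPGroup p V := CfsgLib.Coprime.pCore_isPGroup p
  have hc : centralizer (V : Set (G ⧸ O)) ≤ V :=
    CfsgLib.Coprime.centralizer_pCore_le (CfsgLib.Coprime.pPrimeCore_quotient_eq_bot hp.out)
  have hst := isPStableOn_of_odd hp2 (hodd.of_dvd_nat (card_quotient_dvd_card O)) V hVp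
  set Sb := S.mapSurjective hπs
  have hSb : (Sb : Subgroup (G ⧸ O)) = (S : Subgroup G).map π := Sylow.coe_mapSurjective ..
  have hVS : V ≤ (S : Subgroup G).map π := hSb ▸ le_sup_left.trans
    (Sb.3 (hVp.to_sup_of_normal_left Sb.2) le_sup_right).le
  intro x hx
  show π x ∈ V
  have h1 : ⁅V, zpowers (π x)⁆ ≤ A.map π := by
    refine (commutator_mono hVS (zpowers_le.2 (mem_map_of_mem π hx))).trans ?_
    rw [← Subgroup.map_commutator]
    exact map_mono (le_normalizer_iff_commutator_le_right.1 hAn)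
  have h2 : ⁅⁅V, zpowers (π x)⁆, zpowers (π x)⁆ = ⊥ := by
    refine le_bot_iff.1 ((commutator_mono h1 (zpowers_le.2 (mem_map_of_mem π hx))).trans ?_)
    rw [← Subgroup.map_commutator, commutator_eq_bot_iff_le_centralizer.2
      (fun a ha => mem_centralizer_iff.2 fun b hb =>
        congrArg Subtype.val (hAc.is_comm.comm (⟨b, hb⟩ : A) ⟨a, ha⟩)), Subgroup.map_bot]
  set C := centralizer (V : Set (G ⧸ O))
  have hker : IsPGroup p (QuotientGroup.mk' C).ker := by
    rw [QuotientGroup.ker_mk']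
    exact hVp.to_le hc
  haveI := CfsgLib.Coprime.pCore_normal' (G := (G ⧸ O) ⧸ C) p
  have h4 : (Cfsg.pCore p ((G ⧸ O) ⧸ C)).comap (QuotientGroup.mk' C) ≤ V :=
    CfsgLib.Coprime.le_pCore (IsPGroup.comap_of_ker_isPGroup (CfsgLib.Coprime.pCore_isPGroup p)
      (QuotientGroup.mk' C) hker)
  exact h4 (hst (π x) h2)

theorem eq_one_of_mem_pPrimeCore {T : Subgroup G} (hT : IsPGroup p T) {x : G} (hx : x ∈ T)
    (h : x ∈ Cfsg.pPrimeCore p G) : x = 1 := by
  obtain ⟨k, hk⟩ := hT ⟨x, hx⟩
  exact orderOf_eq_one_iff.1 (Nat.eq_one_of_dvd_coprimes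
    ((hp.out.coprime_iff_not_dvd.2 (CfsgLib.Coprime.pPrimeCore_not_dvd hp.out)).pow_left k)
    (orderOf_dvd_of_pow_eq_one (congrArg Subtype.val hk)) (Subgroup.orderOf_dvd_natCard _ h))

/-- A normal subgroup modulo `O_{p'}` gives a factorization by its normalizer. -/
theorem sup_normalizer_of_map_normal {Z : Subgroup G} (hZ : IsPGroup p Z)
    (hn : (Z.map (QuotientGroup.mk' (Cfsg.pPrimeCore p G))).Normal) :
    (Cfsg.pPrimeCore p G ⊔ Z).Normal ∧
      Cfsg.pPrimeCore p G ⊔ normalizer (Z : Set G) = ⊤ := by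
  set K := Cfsg.pPrimeCore p G with hK
  set π := QuotientGroup.mk' K with hπ
  constructor
  · have := hn.comap π
    rwa [Subgroup.comap_map_eq, QuotientGroup.ker_mk', sup_comm] at this
  refine eq_top_iff.2 fun g _ => ?_
  obtain ⟨n, hn', hne⟩ := CfsgLib.Fusion.normalizer_map_le K
    (CfsgLib.Coprime.pPrimeCore_not_dvd hp.out) hZ
    (show π g ∈ normalizer (Z.map π : Set (G ⧸ K)) by rw [normalizer_eq_top]; exact mem_top _)
  have : g = g * n⁻¹ * n := by group
  rw [this]
  refine mul_mem_sup ?_ hn'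
  rw [← QuotientGroup.eq_one_iff]
  show π (g * n⁻¹) = 1
  rw [map_mul, map_inv, hne, mul_inv_cancel]

/-- The image of `X ⊓ C(X)` modulo the `p'`-core. -/
theorem map_inf_centralizer {X : Subgroup G} (hX : IsPGroup p X) :
    (X ⊓ centralizer (X : Set G)).map (QuotientGroup.mk' (Cfsg.pPrimeCore p G)) =
      X.map (QuotientGroup.mk' (Cfsg.pPrimeCore p G)) ⊓
        centralizer ((X.map (QuotientGroup.mk' (Cfsg.pPrimeCore p G)) : Subgroup _) : Set _) := by
  set π := QuotientGroup.mk' (Cfsg.pPrimeCore p G)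
  ext y
  constructor
  · rintro ⟨x, ⟨hxX, hxC⟩, rfl⟩
    refine ⟨mem_map_of_mem π hxX, mem_centralizer_iff.2 ?_⟩
    rintro _ ⟨z, hz, rfl⟩
    rw [← map_mul, mem_centralizer_iff.1 hxC z hz, map_mul]
  · rintro ⟨⟨x, hxX, rfl⟩, hxC⟩
    refine ⟨x, ⟨hxX, mem_centralizer_iff.2 fun z hz => ?_⟩, rfl⟩
    have h1 := mem_centralizer_iff.1 hxC (π z) (mem_map_of_mem π hz)
    rw [← map_mul, ← map_mul] at h1
    exact mul_inv_eq_one.1 (eq_one_of_mem_pPrimeCore hX
      (mul_mem (mul_mem hz hxX) (inv_mem (mul_mem hxX hz)))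
      ((QuotientGroup.eq_one_iff _).1 (show π (z * x * (x * z)⁻¹) = 1 by
        rw [map_mul, map_inv, h1, mul_inv_cancel])))

/-- `Z(J)` (abelian version) is normal modulo the `p'`-core. -/
theorem zjA_factor (hp2 : p ≠ 2) (hodd : Odd (Nat.card G)) (S : Sylow p G) :
    (Cfsg.pPrimeCore p G ⊔ Cfsg.centerThompsonAOf (S : Subgroup G)).Normal ∧
      Cfsg.pPrimeCore p G ⊔ normalizer (Cfsg.centerThompsonAOf (S : Subgroup G) : Set G) = ⊤ := by
  set K := Cfsg.pPrimeCore p G with hK
  set π := QuotientGroup.mk' K with hπ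
  have hπs := QuotientGroup.mk'_surjective K
  set Z := Cfsg.centerThompsonAOf (S : Subgroup G) with hZdef
  have hcl : centralizer (Cfsg.pCore p (G ⧸ K) : Set (G ⧸ K)) ≤ Cfsg.pCore p (G ⧸ K) :=
    CfsgLib.Coprime.centralizer_pCore_le (CfsgLib.Coprime.pPrimeCore_quotient_eq_bot hp.out)
  haveI hn := CfsgLib.Fusion.centerThompsonAOf_normal hp2 hcl
    (fun R _ hR => isPStableOn_of_odd hp2 (hodd.of_dvd_nat (card_quotient_dvd_card K)) R hR)
    (S.mapSurjective hπs) le_rfl fun Q hQ g hg y hy => hQ ((mem_normalizer_iff.1 hg y).1 hy.2)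
  have hinj : Function.Injective (π.comp (S : Subgroup G).subtype) :=
    (injective_iff_map_eq_one _).2 fun x hx => Subtype.ext (eq_one_of_mem_pPrimeCore S.2 x.2
      ((QuotientGroup.eq_one_iff _).1 hx))
  have hZm : Z.map π = Cfsg.centerThompsonAOf ((S.mapSurjective hπs : Sylow p (G ⧸ K)) :
      Subgroup (G ⧸ K)) := by
    have h2 := CfsgLib.Fusion.map_zjFun (π.comp (S : Subgroup G).subtype) hinj
    rw [← Subgroup.map_map, CfsgLib.Fusion.map_zjFun (S : Subgroup G).subtype
      (S : Subgroup G).subtype_injective, Subgroup.range_subtype, MonoidHom.range_comp,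
      Subgroup.range_subtype] at h2
    rw [Sylow.coe_mapSurjective]
    exact h2
  rw [← hZm] at hn
  exact sup_normalizer_of_map_normal (S.2.to_le (inf_le_left.trans (Subgroup.map_subtype_le _))) hn

/-- `Z(J)` (elementary version) is normal modulo the `p'`-core. -/
theorem zjE_factor (hp2 : p ≠ 2) (hodd : Odd (Nat.card G)) (S : Sylow p G) :
    (Cfsg.pPrimeCore p G ⊔ Cfsg.centerThompsonOf p (S : Subgroup G)).Normal := by
  set K := Cfsg.pPrimeCore p G with hK
  set π := QuotientGroup.mk' K with hπ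
  have hπs := QuotientGroup.mk'_surjective K
  have hcl : centralizer (Cfsg.pCore p (G ⧸ K) : Set (G ⧸ K)) ≤ Cfsg.pCore p (G ⧸ K) :=
    CfsgLib.Coprime.centralizer_pCore_le (CfsgLib.Coprime.pPrimeCore_quotient_eq_bot hp.out)
  haveI hn := CfsgLib.Fusion.centerThompsonOf_normal hp2 hcl
    (fun R _ hR => isPStableOn_of_odd hp2 (hodd.of_dvd_nat (card_quotient_dvd_card K)) R hR)
    (S.mapSurjective hπs)
  have hJ : Cfsg.thompsonSubgroupOf p (S : Subgroup G) ≤ (S : Subgroup G) :=
    CfsgLib.Fusion.thompsonSubgroupOf_le _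
  have hJm := CfsgLib.Fusion.map_thompsonSubgroupOf (p := p) π (P := (S : Subgroup G))
    fun x hx h => eq_one_of_mem_pPrimeCore S.2 hx ((QuotientGroup.eq_one_iff _).1 h)
  have hZm : (Cfsg.centerThompsonOf p (S : Subgroup G)).map π =
      Cfsg.centerThompsonOf p ((S.mapSurjective hπs : Sylow p (G ⧸ K)) : Subgroup (G ⧸ K)) := by
    rw [Cfsg.centerThompsonOf, map_inf_centralizer (S.2.to_le hJ), hJm, Sylow.coe_mapSurjective]
    rfl
  rw [← hZm] at hn
  exact (sup_normalizer_of_map_normal (S.2.to_le (inf_le_left.trans hJ)) hn).1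

omit [Group.IsSolvable G] in
/-- Subgroups of order prime to `p` invariant under a Sylow subgroup lie in the `p'`-core. -/
theorem le_pPrimeCore_of_sylow_invariant (hc : CfsgLib.Invol.PCons p G) (S : Sylow p G)
    {K : Subgroup G} (hK : (Nat.card K).Coprime p)
    (hSK : (S : Subgroup G) ≤ normalizer (K : Set G)) : K ≤ Cfsg.pPrimeCore p G := by
  set O := Cfsg.pPrimeCore p G with hO
  haveI : O.Normal := Subgroup.sSup_normal _ fun _ h => h.1
  set π := QuotientGroup.mk' O with hπ
  have hπs := QuotientGroup.mk'_surjective O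
  haveI := CfsgLib.Coprime.pCore_normal' (G := G ⧸ O) p
  set V := Cfsg.pCore p (G ⧸ O) with hV
  have hVp : IsPGroup p V := CfsgLib.Coprime.pCore_isPGroup p
  set Sb := S.mapSurjective hπs
  have hSb : (Sb : Subgroup (G ⧸ O)) = (S : Subgroup G).map π := Sylow.coe_mapSurjective ..
  have hVS : V ≤ (S : Subgroup G).map π := hSb ▸ le_sup_left.trans
    (Sb.3 (hVp.to_sup_of_normal_left Sb.2) le_sup_right).le
  have hKb : (Nat.card (K.map π)).Coprime p :=
    Nat.Coprime.coprime_dvd_left (card_map_dvd K π) hK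
  have hle : K.map π ≤ centralizer (V : Set (G ⧸ O)) := by
    refine commutator_eq_bot_iff_le_centralizer.1 (le_bot_iff.1 ?_)
    rw [← CfsgLib.Coprime.pPrime_inf_pGroup_eq_bot hKb hVp]
    refine le_inf ?_ (le_normalizer_iff_commutator_le_right.1 (by rw [normalizer_eq_top]; exact le_top))
    exact le_normalizer_iff_commutator_le_left.1
      (hVS.trans ((Subgroup.map_mono hSK).trans (le_normalizer_map π)))
  intro x hx
  refine (QuotientGroup.eq_one_iff x).1 (hc (π x) ?_ (hle (mem_map_of_mem π hx)))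
  exact Nat.Coprime.coprime_dvd_left
    (Subgroup.orderOf_dvd_natCard _ (mem_map_of_mem π hx)) hKb

end CfsgLib.CFun
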