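import Cfsg.Agent.Lib.CFun.MinFail

/-!
# Reduction of control of transfer to the sections of a group
-/

set_option autoImplicit false
set_option linter.style.haveILetI false

open Subgroup

namespace CfsgLib.CFun

universe u

/-- A group is a section of itself. -/
theorem involves_self (G : Type u) [Group G] : Cfsg.Involves G G := by
  refine ⟨⊤, ⊥, ?_, ⟨?_⟩⟩
  · rw [bot_subgroupOf]; infer_instance
  · exact (QuotientGroup.quotientMulEquivOfEq (bot_subgroupOf (⊤ : Subgroup G))).trans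
      (QuotientGroup.quotientBot.trans topEquiv)

variable {G : Type u} [Group G] [Finite G] {p : ℕ} [Fact p.Prime]
  {𝓦 : Set (∀ (Q : Type u) [Group Q], Subgroup Q)}

/-- A failure of control of transfer in a section gives a minimal one. -/
theorem exists_minFail_section (h𝓦 : ∀ W ∈ 𝓦, Cfsg.IsCharPFunctor.{u} p W) (hne : 𝓦.Nonempty)
    (K R : Subgroup G) [hR : (R.subgroupOf K).Normal]
    (h : ¬ Ctrl p 𝓦 (K ⧸ R.subgroupOf K)) :
    ∃ (K' R' : Subgroup G) (_ : (R'.subgroupOf K').Normal),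
      MinFail (G := K' ⧸ R'.subgroupOf K') p 𝓦 := by
  classical
  have hex : ∃ n, ∃ (K' R' : Subgroup G) (_ : (R'.subgroupOf K').Normal),
      Nat.card (K' ⧸ R'.subgroupOf K') = n ∧ ¬ Ctrl p 𝓦 (K' ⧸ R'.subgroupOf K') :=
    ⟨_, K, R, hR, rfl, h⟩
  obtain ⟨K', R', hR', hn, hfail⟩ := Nat.find_spec hex
  haveI := hR'
  set X := K' ⧸ R'.subgroupOf K' with hX
  have small : ∀ (Y : Type u) [Group Y] [Finite Y], Cfsg.Involves Y X →
      Nat.card Y < Nat.card X → Ctrl p 𝓦 Y := by
    intro Y _ _ hY hcard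
    have hYG : Cfsg.Involves Y G := CfsgLib.Fusion.involves_of_injective K'.subtype K'.subtype_injective
      (CfsgLib.Fusion.involves_of_surjective (QuotientGroup.mk' (R'.subgroupOf K'))
        (QuotientGroup.mk'_surjective _) hY)
    obtain ⟨A, B, hB, ⟨e⟩⟩ := hYG
    haveI := hB
    refine ctrl_congr h𝓦 e (not_not.1 fun hA => Nat.find_min hex (m := Nat.card Y) (hn ▸ hcard)
      ⟨A, B, hB, Nat.card_congr e.toEquiv, hA⟩)
  refine ⟨K', R', hR', h𝓦, hne, fun H hH => famControl_of_ctrl h𝓦 H ?_, ?_, hfail⟩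
  · refine small H (CfsgLib.Fusion.involves_of_injective H.subtype H.subtype_injective
      (involves_self H)) ?_
    have := card_lt_card (lt_top_iff_ne_top.2 hH)
    rwa [Nat.card_congr (topEquiv (G := X)).toEquiv] at this
  · intro N hNn hN
    refine small (X ⧸ N) (CfsgLib.Fusion.involves_of_surjective (QuotientGroup.mk' N)
      (QuotientGroup.mk'_surjective N) (involves_self _)) ?_
    have h1 : 1 < Nat.card N := (Subgroup.one_lt_card_iff_ne_bot N).2 hN
    rw [Subgroup.card_eq_card_quotient_mul_card_subgroup N]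
    exact lt_mul_of_one_lt_right Nat.card_pos h1

theorem exists_minFail (h𝓦 : ∀ W ∈ 𝓦, Cfsg.IsCharPFunctor.{u} p W) (hne : 𝓦.Nonempty)
    (h : ¬ Ctrl p 𝓦 G) :
    ∃ (K' R' : Subgroup G) (_ : (R'.subgroupOf K').Normal),
      MinFail (G := K' ⧸ R'.subgroupOf K') p 𝓦 := by
  haveI : ((⊥ : Subgroup G).subgroupOf ⊤).Normal := by rw [bot_subgroupOf]; infer_instance
  refine exists_minFail_section h𝓦 hne ⊤ ⊥ fun hc => h (ctrl_congr h𝓦 ?_ hc)
  exact (QuotientGroup.quotientMulEquivOfEq (bot_subgroupOf (⊤ : Subgroup G))).trans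
    (QuotientGroup.quotientBot.trans topEquiv)

theorem controlsTransferIn_iff_ctrl {W : ∀ (Q : Type u) [Group Q], Subgroup Q} :
    Cfsg.ControlsTransferIn p (Cfsg.inducedFunctor (G := G) W) ⊤ ↔ Ctrl p {W} G := by
  rw [controlsTransferIn_iff_family, Ctrl, indFam, Set.image_singleton]

theorem MinFail.famSup_le_M {G : Type u} [Group G] [Finite G] (h : MinFail (G := G) p 𝓦)
    (S : Sylow p G) : Cfsg.pCore p G ⊓ ⁅normalizer (((famSup (indFam G 𝓦) (S : Subgroup G) ⊤ ⊓
      Cfsg.pCore p G : Subgroup G)) : Set G), normalizer (((famSup (indFam G 𝓦) (S : Subgroup G) ⊤ ⊓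
      Cfsg.pCore p G : Subgroup G)) : Set G)⁆ ≤ famSup (indFam G 𝓦) (S : Subgroup G) ⊤ :=
  (inf_le_inf (h.pCore_le_sylow S) le_rfl).trans
    (h.inf_commutator_le S (h.le_M S le_rfl (h.sylow_ne_top S)) (h.M_ne_top S))

end CfsgLib.CFun
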