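import Mathlib

/-!
# The field part of Appendix C of Bender–Glauberman

For a finite field `F` with `p ^ q` elements let `n = (p ^ q - 1) / (p - 1)` and let `E` be the set
of `a` with `a ^ n = 1` and `(2 - a) ^ n = 1`.  If `E` is closed under inversion and is not just
`{1}` then `p ≤ q`; and for odd primes `p`, `q` the set `E` is never just `{1}`.
-/

set_option autoImplicit false

namespace Cfsg.Agent.Lib.CFun.AppendixC

open Finset

/-- The index of the multiplicative group of the prime field. -/
def normExp (p q : ℕ) : ℕ := (p ^ q - 1) / (p - 1)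

theorem normExp_eq_sum {p q : ℕ} (hp : 2 ≤ p) : normExp p q = ∑ i ∈ range q, p ^ i :=
  (Nat.geomSum_eq hp q).symm

theorem normExp_mul {p : ℕ} (q : ℕ) : normExp p q * (p - 1) = p ^ q - 1 :=
  Nat.div_mul_cancel (by simpa using Nat.sub_dvd_pow_sub_pow p 1 q)

theorem pow_pred_le_normExp {p q : ℕ} (hp : 2 ≤ p) (hq : q ≠ 0) : p ^ (q - 1) ≤ normExp p q := by
  rw [normExp_eq_sum hp]
  exact single_le_sum (f := fun i => p ^ i) (fun i _ => Nat.zero_le _)
    (mem_range.2 (by omega))

theorem pow_pred_lt_normExp_add_one {p q : ℕ} (hp : 2 ≤ p) (hq : q ≠ 0) :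
    p ^ (q - 1) < normExp p q + 1 :=
  Nat.lt_succ_of_le (pow_pred_le_normExp hp hq)

theorem normExp_pos {p q : ℕ} (hp : 2 ≤ p) (hq : q ≠ 0) : 0 < normExp p q :=
  lt_of_lt_of_le (pow_pos (by omega) _) (pow_pred_le_normExp hp hq)

section Field

variable {F : Type*} [Field F] [Fintype F] {p q : ℕ} [Fact p.Prime]

theorem charP_field (hF : Fintype.card F = p ^ q) : CharP F p :=
  charP_of_card_eq_prime_pow hF

/-- If the norm-one pair set contains an element other than `1` and is closed under inversion
then `p ≤ q`. -/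
theorem le_of_inverse_closed (hF : Fintype.card F = p ^ q) (hq : q ≠ 0)
    (hinv : ∀ a : F, a ^ normExp p q = 1 → (2 - a) ^ normExp p q = 1 →
      (2 - a⁻¹) ^ normExp p q = 1)
    {a : F} (h1 : a ^ normExp p q = 1) (h2 : (2 - a) ^ normExp p q = 1) (ha : a ≠ 1) :
    p ≤ q := by
  haveI := charP_field hF
  have hp := (Fact.out : p.Prime).two_le
  set n := normExp p q with hn
  have hn0 : n ≠ 0 := (normExp_pos hp hq).ne'
  set b : F := (a - 1)⁻¹ with hb
  have step : ∀ k : ℕ, ∃ c : F, c ^ n = 1 ∧ (2 - c) ^ n = 1 ∧ c ≠ 1 ∧ (c - 1)⁻¹ = b - k := by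
    intro k
    induction k with
    | zero => exact ⟨a, h1, h2, ha, by simp [hb]⟩
    | succ k ih =>
      obtain ⟨c, hc1, hc2, hc3, hc4⟩ := ih
      have hd : (2 - c) ≠ 0 := fun h => by simp [h, zero_pow hn0] at hc2
      have hcs : c - 1 ≠ 0 := sub_ne_zero.2 hc3
      have hsub : (2 - c)⁻¹ - 1 = (c - 1) * (2 - c)⁻¹ := by field_simp; ring
      refine ⟨(2 - c)⁻¹, by rw [inv_pow, hc2, inv_one], hinv (2 - c) hc2 (by rw [sub_sub_cancel, hc1]),
        sub_ne_zero.1 (by rw [hsub]; exact mul_ne_zero hcs (inv_ne_zero hd)), ?_⟩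
      rw [hsub, mul_inv, inv_inv, Nat.cast_succ, ← sub_sub, ← hc4]
      field_simp
      ring
  have hconst : ∀ k : ℕ, (b - k) ^ n = b ^ n := by
    intro k
    induction k with
    | zero => simp
    | succ k ih =>
      obtain ⟨c, hc1, hc2, hc3, hc4⟩ := step (k + 1)
      have hcs : c - 1 ≠ 0 := sub_ne_zero.2 hc3
      have hmul : c * (b - (k + 1 : ℕ)) = b - k := by
        rw [← hc4]
        have : b - k = (c - 1)⁻¹ + 1 := by rw [hc4]; push_cast; ring
        rw [this]
        field_simp
        ring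
      rw [← ih, ← hmul, mul_pow, hc1, one_mul]
  set G : Polynomial F := ∏ i ∈ range q, (Polynomial.X - Polynomial.C (b ^ p ^ i)) with hG
  set c : F := (-1) ^ n * b ^ n with hc
  have hdeg : G.natDegree = q := by
    rw [hG, Polynomial.natDegree_prod_of_monic _ _ fun i _ => Polynomial.monic_X_sub_C _]
    simp only [Polynomial.natDegree_X_sub_C, sum_const, card_range, smul_eq_mul, mul_one]
  have heval : ∀ k : ℕ, (G - Polynomial.C c).eval (k : F) = 0 := by
    intro k
    have hk : ∀ i : ℕ, (k : F) ^ p ^ i = (k : F) := fun i => by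
      rw [← iterateFrobenius_def, map_natCast]
    have hev : G.eval (k : F) = ((k : F) - b) ^ n := by
      rw [hG, Polynomial.eval_prod, hn, normExp_eq_sum hp, ← prod_pow_eq_pow_sum]
      refine prod_congr rfl fun i _ => ?_
      rw [sub_pow_char_pow, hk i]
      simp
    rw [Polynomial.eval_sub, hev, Polynomial.eval_C, hc, ← hconst k, ← mul_pow]
    simp
  by_contra hlt
  have hz : G - Polynomial.C c = 0 := by
    refine Polynomial.eq_zero_of_natDegree_lt_card_of_eval_eq_zero _
      (f := fun k : Fin p => ((k : ℕ) : F))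
      (fun i j hij => Fin.ext (CharP.natCast_injOn_Iio F p i.2 j.2 hij))
      (fun k => heval k) ?_
    rw [Polynomial.natDegree_sub_C, hdeg, Fintype.card_fin]
    omega
  have := congrArg Polynomial.natDegree hz
  rw [Polynomial.natDegree_sub_C, hdeg, Polynomial.natDegree_zero] at this
  exact hq this

/-- The `n`-th power of any element lies in the prime field. -/
theorem pow_normExp_pow_pred (hF : Fintype.card F = p ^ q) {z : F} (hz : z ≠ 0) :
    (z ^ normExp p q) ^ (p - 1) = 1 := by
  rw [← pow_mul, normExp_mul, ← hF]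
  exact FiniteField.pow_card_sub_one_eq_one z hz

open scoped Classical in
/-- There are at most `n` elements with `n`-th power one. -/
theorem card_filter_pow_eq_one_le {n : ℕ} (hn : 0 < n) :
    (univ.filter fun x : F => x ^ n = 1).card ≤ n := by
  refine le_trans ?_ (Polynomial.card_nthRoots n (1 : F))
  refine le_trans (card_le_card (t := (Polynomial.nthRoots n (1 : F)).toFinset) ?_)
    (Multiset.toFinset_card_le _)
  intro x hx
  rw [mem_filter] at hx
  simpa [Polynomial.mem_nthRoots hn] using hx.2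

open scoped Classical in
/-- There are at least `n` elements with `n`-th power one. -/
theorem le_card_filter_pow_eq_one (hF : Fintype.card F = p ^ q) :
    normExp p q ≤ (univ.filter fun x : F => x ^ normExp p q = 1).card := by
  have hp := (Fact.out : p.Prime).two_le
  set U := univ.filter fun x : F => x ^ normExp p q = 1 with hU
  have h1 : (univ.erase (0 : F)).card ≤ (p - 1) * U.card := by
    refine card_le_mul_card_image_of_maps_to (f := fun z : F => z ^ (p - 1)) ?_ _ ?_
    · intro z hz
      rw [hU, mem_filter]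
      refine ⟨mem_univ _, ?_⟩
      rw [← pow_mul, mul_comm, pow_mul]
      exact pow_normExp_pow_pred hF (ne_of_mem_erase hz)
    · intro b hb
      refine le_trans ?_ (Polynomial.card_nthRoots (p - 1) b)
      refine le_trans (card_le_card (t := (Polynomial.nthRoots (p - 1) b).toFinset) ?_)
        (Multiset.toFinset_card_le _)
      intro z hz
      rw [mem_filter] at hz
      simpa [Polynomial.mem_nthRoots (show 0 < p - 1 by omega)] using hz.2
  rw [card_erase_of_mem (mem_univ _), card_univ, hF, ← normExp_mul (p := p), mul_comm (p - 1)] at h1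
  exact Nat.le_of_mul_le_mul_right h1 (by omega)

/-- A cubic over the prime field without roots and with constant term `-1`, value `1` at `2`. -/
theorem exists_cubic_no_root (hp : p ≠ 2) :
    ∃ s : ZMod p, ∀ x : ZMod p, x ^ 3 + s * x ^ 2 + (-2 * s - 3) * x - 1 ≠ 0 := by
  classical
  by_contra! h
  choose r hr using h
  have h0 : ∀ s, r s ≠ 0 := fun s hs => by simpa [hs] using hr s
  have h2 : ∀ s, r s ≠ 2 := fun s hs => by
    have := hr s
    rw [hs] at this
    exact one_ne_zero (α := ZMod p) (by linear_combination this)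
  have hinj : Function.Injective r := by
    intro s s' hss
    have h1 := hr s
    have h1' := hr s'
    rw [← hss] at h1'
    have : (s - s') * (r s * (r s - 2)) = 0 := by linear_combination h1 - h1'
    rcases mul_eq_zero.1 this with h | h
    · exact sub_eq_zero.1 h
    · rcases mul_eq_zero.1 h with h | h
      · exact absurd h (h0 s)
      · exact absurd (sub_eq_zero.1 h) (h2 s)
  obtain ⟨s, hs⟩ := (Finite.injective_iff_surjective.1 hinj) 0
  exact h0 s hs

theorem exists_pair_cubic (hF : Fintype.card F = p ^ 3) (hp : p ≠ 2) :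
    ∃ a : F, a ^ normExp p 3 = 1 ∧ (2 - a) ^ normExp p 3 = 1 ∧ a ≠ 1 := by
  haveI := charP_field hF
  have hp2 := (Fact.out : p.Prime).two_le
  obtain ⟨s, hs⟩ := exists_cubic_no_root hp
  let g : Polynomial (ZMod p) := Polynomial.X ^ 3 + Polynomial.C s * Polynomial.X ^ 2
    + Polynomial.C (-2 * s - 3) * Polynomial.X - 1
  have hdeg : g.natDegree = 3 := by simp only [g]; compute_degree!
  have hmon : g.Monic := by simp only [g]; monicity!
  have hirr : Irreducible g := by
    rw [hmon.irreducible_iff_roots_eq_zero_of_degree_le_three (by omega) (by omega)]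
    refine Multiset.eq_zero_of_forall_notMem fun x hx => hs x ?_
    simpa [g] using (Polynomial.mem_roots'.1 hx).2
  haveI := Fact.mk hirr
  let pb := AdjoinRoot.powerBasis hmon.ne_zero
  haveI : Module.Finite (ZMod p) (AdjoinRoot g) := pb.finite
  haveI : Finite (AdjoinRoot g) := Module.finite_of_finite (ZMod p)
  letI := Fintype.ofFinite (AdjoinRoot g)
  have hcard : Fintype.card (AdjoinRoot g) = Fintype.card F := by
    rw [hF, Module.card_eq_pow_finrank (K := ZMod p), ZMod.card, pb.finrank]
    simp [pb, hdeg]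
  let e := FiniteField.ringEquivOfCardEq hcard
  let φ : ZMod p →+* F := ZMod.castHom dvd_rfl F
  set a : F := e (AdjoinRoot.root g) with ha
  have hroot : a ^ 3 + φ s * a ^ 2 + φ (-2 * s - 3) * a - 1 = 0 := by
    have hcomp : (e.toRingHom.comp (AdjoinRoot.of g)) = φ := Subsingleton.elim _ _
    have h := congrArg e (AdjoinRoot.eval₂_root g)
    simp only [g, Polynomial.eval₂_add, Polynomial.eval₂_sub, Polynomial.eval₂_mul,
      Polynomial.eval₂_C, Polynomial.eval₂_X, Polynomial.eval₂_one, Polynomial.eval₂_pow,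
      map_add, map_sub, map_mul, map_pow, map_one, map_zero] at h
    rw [← hcomp]
    simpa [ha] using h
  have hfix : ∀ x : ZMod p, φ x ^ p = φ x := fun x => by rw [← map_pow, ZMod.pow_card]
  have hfrobG : ∀ S T x : F, S ^ p = S → T ^ p = T → x ^ 3 + S * x ^ 2 + T * x - 1 = 0 →
      (x ^ p) ^ 3 + S * (x ^ p) ^ 2 + T * x ^ p - 1 = 0 := by
    intro S T x hS hT hx
    have h := congrArg (frobenius F p) hx
    simp only [map_add, map_sub, map_mul, map_pow, map_one, map_zero] at h
    simpa only [frobenius_def, hS, hT] using h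
  have hfrob := fun x => hfrobG (φ s) (φ (-2 * s - 3)) x (hfix _) (hfix _)
  set r1 := a ^ p with hr1
  set r2 := r1 ^ p with hr2
  have hroot1 := hfrob a hroot
  have hroot2 := hfrob r1 hroot1
  have hr3 : r2 ^ p = a := by
    rw [hr2, hr1, ← pow_mul, ← pow_mul, show p * (p * p) = p ^ 3 by ring, ← hF, FiniteField.pow_card]
  have hnot : ∀ x : ZMod p, φ x ≠ a := by
    intro x hx
    apply hs x
    apply φ.injective
    rw [map_zero, ← hroot, ← hx]
    simp only [map_add, map_sub, map_mul, map_pow, map_one]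
  have hmove : r1 ≠ a := by
    intro h
    have hmem : a ∈ Set.range φ := by
      classical
      have hsub : (univ.image φ : Finset F) ⊆ univ.filter fun x => x ^ p = x := by
        intro x hx
        obtain ⟨y, -, rfl⟩ := mem_image.1 hx
        simp [hfix]
      have hle : (univ.filter fun x : F => x ^ p = x).card ≤ p := by
        have hne : (Polynomial.X ^ p - Polynomial.X : Polynomial F) ≠ 0 :=
          FiniteField.X_pow_card_sub_X_ne_zero F (by omega)
        refine le_trans (card_le_card
          (t := (Polynomial.X ^ p - Polynomial.X : Polynomial F).roots.toFinset) ?_) ?_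
        · intro x hx
          rw [mem_filter] at hx
          simp [hne, hx.2]
        · refine le_trans (Multiset.toFinset_card_le _) (le_trans (Polynomial.card_roots' _) ?_)
          rw [FiniteField.X_pow_card_sub_X_natDegree_eq F (by omega)]
      have heq := eq_of_subset_of_card_le hsub
        (hle.trans_eq (by rw [card_image_of_injective _ φ.injective, card_univ, ZMod.card]))
      have hma : a ∈ univ.filter (fun x : F => x ^ p = x) := by simpa using h
      rw [← heq] at hma
      obtain ⟨y, -, hy⟩ := mem_image.1 hma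
      exact ⟨y, hy⟩
    obtain ⟨y, hy⟩ := hmem
    exact hnot y hy
  have hinj : Function.Injective (fun x : F => x ^ p) := frobenius_inj F p
  have h12 : r2 ≠ r1 := fun h => hmove (hinj h)
  have h02 : r2 ≠ a := fun h => hmove <| by
    calc r1 = a ^ p := rfl
      _ = r2 ^ p := by rw [h]
      _ = a := hr3
  set S : F := φ s
  set T : F := φ (-2 * s - 3) with hT
  have e1 : a ^ 2 + a * r1 + r1 ^ 2 + S * (a + r1) + T = 0 :=
    mul_left_cancel₀ (sub_ne_zero.2 hmove) (by linear_combination hroot1 - hroot)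
  have e2 : a ^ 2 + a * r2 + r2 ^ 2 + S * (a + r2) + T = 0 :=
    mul_left_cancel₀ (sub_ne_zero.2 h02) (by linear_combination hroot2 - hroot)
  have hv1 : a + r1 + r2 + S = 0 :=
    mul_left_cancel₀ (sub_ne_zero.2 h12) (by linear_combination e2 - e1)
  have hv3 : a * r1 * r2 = 1 := by
    linear_combination hroot - a * e1 + (a * r1) * hv1
  have hsum : normExp p 3 = 1 + p + p * p := by
    rw [normExp_eq_sum hp2]
    simp [sum_range_succ]
    ring
  refine ⟨a, ?_, ?_, ?_⟩
  · rw [hsum, pow_add, pow_add, pow_mul, pow_one]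
    exact hv3
  · have hp2' : (2 : F) ^ p = 2 := by
      rw [show (2 : F) = φ 2 from (map_ofNat φ 2).symm]
      exact hfix 2
    have h1 : (2 - a) ^ p = 2 - r1 := by rw [sub_pow_char, hp2']
    have h2 : (2 - r1) ^ p = 2 - r2 := by rw [sub_pow_char, hp2']
    rw [hsum, pow_add, pow_add, pow_mul, pow_one, h1, h2]
    have hTs : T = -2 * S - 3 := by rw [hT]; simp [S, map_ofNat]
    linear_combination -2 * e1 + (-4 + 2 * a + 2 * r1) * hv1 - hv3 + 2 * hTs
  · intro h
    exact hnot 1 (by rw [map_one, h])

open scoped Classical ComplexConjugate in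
/-- The character-sum estimate: `n² ≤ Q (R + √Q)`. -/
theorem sq_card_le (hF : Fintype.card F = p ^ q) (hp : p ≠ 2) :
    let U := univ.filter fun x : F => x ^ normExp p q = 1
    (U.card : ℝ) ^ 2 ≤ (Fintype.card F : ℝ) *
      (((U.filter fun u => 2 - u ∈ U).card : ℝ) + Real.sqrt (Fintype.card F)) := by
  intro U
  haveI := charP_field hF
  obtain ⟨ψ, hψ⟩ := AddChar.exists_apply_ne_zero.2 (one_ne_zero (α := F))
  have hprim : ψ.IsPrimitive := AddChar.IsPrimitive.of_ne_one fun h => hψ (by simp [h])
  set n := normExp p q with hn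
  set Q : ℝ := (Fintype.card F : ℝ) with hQ
  set R := (U.filter fun u => 2 - u ∈ U).card with hR
  set m := U.card with hm
  let S : F → ℂ := fun t => ∑ u ∈ U, ψ (t * u)
  have hmemU : ∀ x : F, x ∈ U ↔ x ^ n = 1 := fun x => by simp [U, hn]
  have horth : ∀ x : F, ∑ t : F, ψ (t * x) = if x = 0 then (Fintype.card F : ℂ) else 0 :=
    fun x => by rw [AddChar.sum_mulShift x hprim]; split <;> simp
  have hconj : ∀ t, S (-t) = conj (S t) := fun t => by
    simp only [S, map_sum, neg_mul, AddChar.map_neg_eq_conj]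
  have hn0 : n ≠ 0 := by
    have hq : q ≠ 0 := fun h => by
      have := Fintype.one_lt_card (α := F)
      simp [h, hF] at this
    exact (normExp_pos (Fact.out : p.Prime).two_le hq).ne'
  have hUne : ∀ w ∈ U, w ≠ 0 := fun w hw h => by simp [hmemU, h, zero_pow hn0] at hw
  have hshift : ∀ t, ∀ w ∈ U, S (t * w) = S t := by
    intro t w hw
    refine sum_bij' (fun u _ => w * u) (fun u _ => w⁻¹ * u) ?_ ?_ ?_ ?_ ?_
    · intro u hu
      rw [hmemU] at hu hw ⊢
      rw [mul_pow, hu, hw, one_mul]
    · intro u hu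
      rw [hmemU] at hu hw ⊢
      rw [mul_pow, inv_pow, hu, hw, inv_one, one_mul]
    · intro u _; simp [hUne w hw]
    · intro u _; simp [hUne w hw]
    · intro u _; rw [mul_assoc]
  have hsq : ∑ t : F, Complex.normSq (S t) = Q * m := by
    have h : ∑ t : F, (Complex.normSq (S t) : ℂ) = ((Q * m : ℝ) : ℂ) := by
      calc ∑ t : F, (Complex.normSq (S t) : ℂ)
          = ∑ t : F, ∑ u ∈ U, ∑ v ∈ U, ψ (t * (u - v)) := by
            refine sum_congr rfl fun t _ => ?_
            rw [← Complex.mul_conj, ← hconj, sum_mul_sum]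
            refine sum_congr rfl fun u _ => sum_congr rfl fun v _ => ?_
            rw [← AddChar.map_add_eq_mul]
            congr 1
            ring
        _ = ∑ u ∈ U, ∑ v ∈ U, ∑ t : F, ψ (t * (u - v)) := by
            rw [sum_comm]
            exact sum_congr rfl fun u _ => sum_comm
        _ = _ := by
            simp only [horth, sub_eq_zero, sum_ite_eq, sum_ite_mem, inter_self, sum_const]
            simp [Q, m, mul_comm]
    exact_mod_cast h
  have hbound : ∀ t : F, t ≠ 0 → ‖S t‖ ≤ Real.sqrt Q := by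
    intro t ht
    rcases (Nat.eq_zero_or_pos m) with hm0 | hm0
    · have : U = ∅ := card_eq_zero.1 hm0
      simp [S, this]
    apply Real.le_sqrt_of_sq_le
    rw [← Complex.normSq_eq_norm_sq]
    have h : (m : ℝ) * Complex.normSq (S t) ≤ Q * m := by
      rw [← hsq]
      calc (m : ℝ) * Complex.normSq (S t) = ∑ x ∈ U.image (fun w => t * w), Complex.normSq (S x) := by
            rw [sum_image fun a _ b _ h => mul_left_cancel₀ ht h,
              sum_congr rfl fun w hw => by rw [hshift t w hw]]
            simp [m]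
        _ ≤ _ := sum_le_univ_sum_of_nonneg fun x => Complex.normSq_nonneg _
    nlinarith [show (0 : ℝ) < m by exact_mod_cast hm0]
  have hcount : ∑ w ∈ U, (U.filter fun u => 2 * w - u ∈ U).card = m * R := by
    rw [sum_congr rfl fun w hw => ?_, sum_const, smul_eq_mul]
    refine card_bij' (fun u _ => w⁻¹ * u) (fun u _ => w * u) ?_ ?_ ?_ ?_
    · intro u hu
      simp only [mem_filter, hmemU] at hu hw ⊢
      have h2 : 2 - w⁻¹ * u = w⁻¹ * (2 * w - u) := by
        field_simp [hUne w (by simpa [hmemU] using hw)]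
      rw [h2, mul_pow, mul_pow, inv_pow, hw, hu.1, hu.2]
      simp
    · intro u hu
      simp only [mem_filter, hmemU] at hu hw ⊢
      rw [show 2 * w - w * u = w * (2 - u) by ring, mul_pow, mul_pow, hw, hu.1, hu.2]
      simp
    · intro u _; simp [hUne w hw]
    · intro u _; simp [hUne w hw]
  have htriple : ∑ t : F, S t * S t * S (-2 * t) = ((Q * (m * R) : ℝ) : ℂ) := by
    calc ∑ t : F, S t * S t * S (-2 * t)
        = ∑ t : F, ∑ w ∈ U, ∑ u ∈ U, ∑ v ∈ U, ψ (t * (v - (2 * w - u))) := by
          refine sum_congr rfl fun t _ => ?_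
          simp only [S, sum_mul, mul_sum]
          refine sum_congr rfl fun w _ => sum_congr rfl fun u _ => sum_congr rfl fun v _ => ?_
          rw [← AddChar.map_add_eq_mul, ← AddChar.map_add_eq_mul]
          congr 1
          ring
      _ = ∑ w ∈ U, ∑ u ∈ U, ∑ v ∈ U, ∑ t : F, ψ (t * (v - (2 * w - u))) := by
          rw [sum_comm]
          refine sum_congr rfl fun w _ => ?_
          rw [sum_comm]
          exact sum_congr rfl fun u _ => sum_comm
      _ = _ := by
          simp only [horth, sub_eq_zero, sum_ite_eq']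
          rw [← sum_congr rfl fun w _ => sum_filter _ _]
          simp only [sum_const, nsmul_eq_mul, ← sum_mul, ← Nat.cast_sum, hcount]
          push_cast [Q]
          ring
  have h2F : (2 : F) ≠ 0 := by
    intro h
    have hdvd : p ∣ 2 := (CharP.cast_eq_zero_iff F p 2).1 (by exact_mod_cast h)
    exact hp ((Nat.prime_dvd_prime_iff_eq (Fact.out : p.Prime) Nat.prime_two).1 hdvd)
  have h0 : S 0 = (m : ℂ) := by simp [S, m]
  have hsplit : (m : ℂ) ^ 3 = ((Q * (m * R) : ℝ) : ℂ) -
      ∑ t ∈ univ.erase (0 : F), S t * S t * S (-2 * t) := by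
    rw [← htriple, ← add_sum_erase _ _ (mem_univ (0 : F)), mul_zero, h0]
    ring
  have herr : ‖∑ t ∈ univ.erase (0 : F), S t * S t * S (-2 * t)‖ ≤ Real.sqrt Q * (Q * m) := by
    rw [← hsq, mul_sum]
    refine le_trans (norm_sum_le _ _) (le_trans (sum_le_sum fun t ht => ?_)
      (sum_le_univ_sum_of_nonneg (s := univ.erase (0 : F)) fun t =>
        mul_nonneg (Real.sqrt_nonneg _) (Complex.normSq_nonneg _)))
    rw [norm_mul, norm_mul, Complex.normSq_eq_norm_sq, mul_comm (Real.sqrt Q), sq]
    gcongr
    exact hbound _ (mul_ne_zero (neg_ne_zero.2 h2F) (ne_of_mem_erase ht))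
  have hmain : (m : ℝ) ^ 3 ≤ Q * (m * R) + Real.sqrt Q * (Q * m) := by
    have := congrArg norm hsplit
    rw [norm_pow, Complex.norm_natCast] at this
    rw [this]
    refine (norm_sub_le _ _).trans (add_le_add (le_of_eq ?_) herr)
    rw [Complex.norm_real, Real.norm_of_nonneg]
    positivity
  have hm1 : (0 : ℝ) < m := by
    have : (1 : F) ∈ U := by simp [hmemU]
    exact_mod_cast card_pos.2 ⟨1, this⟩
  refine le_of_mul_le_mul_left ?_ hm1
  nlinarith

/-- For odd primes `p`, `q` there is an element other than `1` in the norm-one pair set. -/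
theorem exists_pair (hF : Fintype.card F = p ^ q) (hp : p ≠ 2) (hq : q.Prime) (hq2 : q ≠ 2) :
    ∃ a : F, a ^ normExp p q = 1 ∧ (2 - a) ^ normExp p q = 1 ∧ a ≠ 1 := by
  classical
  by_cases hq3 : q = 3
  · subst hq3
    exact exists_pair_cubic hF hp
  have hq5 : 5 ≤ q := by
    have := hq.two_le
    by_contra h
    have : q = 4 := by omega
    exact absurd (this ▸ hq) (by norm_num)
  have hp3 : 3 ≤ p := by
    have := (Fact.out : p.Prime).two_le
    omega
  by_contra! hcon
  have hmain := sq_card_le hF hp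
  simp only at hmain
  set U := univ.filter fun x : F => x ^ normExp p q = 1 with hU
  have hR : (U.filter fun u => 2 - u ∈ U).card ≤ 1 := by
    rw [card_le_one]
    intro a ha b hb
    simp only [hU, mem_filter, mem_univ, true_and] at ha hb
    rw [hcon a ha.1 ha.2, hcon b hb.1 hb.2]
  have hm : (p ^ (q - 1) : ℕ) ≤ U.card :=
    (pow_pred_le_normExp (by omega) hq.ne_zero).trans (le_card_filter_pow_eq_one hF)
  obtain ⟨k, rfl⟩ : ∃ k, q = k + 5 := ⟨q - 5, by omega⟩
  rw [hF] at hmain
  set x : ℝ := (p : ℝ) ^ (k + 1) with hx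
  have hx3 : (3 : ℝ) ≤ x := by
    calc (3 : ℝ) ≤ p := by exact_mod_cast hp3
      _ ≤ x := le_self_pow₀ (by exact_mod_cast (show 1 ≤ p by omega)) (by omega)
  have hp1 : (3 : ℝ) ≤ p := by exact_mod_cast hp3
  have hQ : ((p ^ (k + 5) : ℕ) : ℝ) = (p : ℝ) ^ 4 * x := by push_cast [hx]; ring
  have hm' : (p : ℝ) ^ 3 * x ≤ (U.card : ℝ) := by
    refine le_trans (le_of_eq ?_) (Nat.cast_le.2 hm)
    rw [show k + 5 - 1 = k + 4 by omega]
    push_cast [hx]
    ring
  rw [hQ] at hmain
  set Q : ℝ := (p : ℝ) ^ 4 * x with hQdef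
  have hQpos : 0 < Q := by positivity
  have hsqr : Real.sqrt Q * Real.sqrt Q = Q := Real.mul_self_sqrt hQpos.le
  have hR' : ((U.filter fun u => 2 - u ∈ U).card : ℝ) ≤ 1 := by exact_mod_cast hR
  have h1 : ((p : ℝ) ^ 3 * x) ^ 2 ≤ Q * (1 + Real.sqrt Q) := by
    refine le_trans (pow_le_pow_left₀ (by positivity) hm' 2) (hmain.trans ?_)
    exact mul_le_mul_of_nonneg_left (by linarith) hQpos.le
  have h2 : (p : ℝ) ^ 2 * x - 1 ≤ Real.sqrt Q := by
    have : Q * ((p : ℝ) ^ 2 * x) ≤ Q * (1 + Real.sqrt Q) := by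
      refine le_trans (le_of_eq ?_) h1
      rw [hQdef]; ring
    linarith [le_of_mul_le_mul_left this hQpos]
  have hnn : 0 ≤ (p : ℝ) ^ 2 * x - 1 := by nlinarith
  have h3 := mul_self_le_mul_self hnn h2
  rw [hsqr, hQdef] at h3
  have h9 : (9 : ℝ) ≤ (p : ℝ) ^ 2 := by nlinarith
  nlinarith [mul_le_mul_of_nonneg_left hx3 (show (0 : ℝ) ≤ (p : ℝ) ^ 4 * x by positivity),
    mul_le_mul_of_nonneg_left h9 (show (0 : ℝ) ≤ (p : ℝ) ^ 2 * x by positivity)]

end Field

end Cfsg.Agent.Lib.CFun.AppendixC
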