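import Cfsg.Agent.Lib.CFun.AppendixCField

/-!
# The configuration of Appendix C of Bender–Glauberman: first properties

The group `H = P U` meets each conjugate by a nontrivial power of `t = y s y⁻¹` only in `U`,
double cosets `H t^b H` are distinct, and the conjugates of `y` under `⟨s⟩` form a Sidon set.
-/

set_option autoImplicit false

namespace Cfsg.Agent.Lib.CFun.AppendixC

/-- The configuration, in the case `q < p` that is to be excluded. -/
structure Config (G F : Type*) [Group G] [Field F] [Fintype F] (p q : ℕ) where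
  P : Subgroup G
  U : Subgroup G
  Q : Subgroup G
  f : G → F
  ψ : G → F
  y : G
  coprime : Nat.Coprime (normExp p q) (p - 1)
  card_field : Fintype.card F = p ^ q
  bijOn : Set.BijOn f (P : Set G) Set.univ
  f_mul : ∀ x ∈ P, ∀ z ∈ P, f (x * z) = f x + f z
  U_le : U ≤ Subgroup.normalizer (P : Set G)
  psi_spec : ∀ u ∈ U, ψ u ≠ 0 ∧ ∀ x ∈ P, f (u * x * u⁻¹) = ψ u * f x
  psi_mul : ∀ u ∈ U, ∀ v ∈ U, ψ (u * v) = ψ u * ψ v
  psi_inj : Set.InjOn ψ (U : Set G)
  card_U : Nat.card U * (p - 1) = p ^ q - 1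
  Q_comm : IsMulCommutative Q
  Q_coprime : (Nat.card Q).Coprime p
  Q_norm : ∀ x ∈ P, f x ^ p = f x → x ∈ Subgroup.normalizer (Q : Set G)
  y_mem : y ∈ Q
  U_norm : ∀ x ∈ P, f x ^ p = f x → y * x * y⁻¹ ∈ Subgroup.normalizer (U : Set G)
  q_prime : q.Prime
  q_lt : q < p

variable {G F : Type*} [Group G] [Field F] [Fintype F] {p q : ℕ} [Fact p.Prime] [CharP F p]
  (C : Config G F p q)

namespace Config

/-! ### The group `P` -/

theorem f_injOn {x z : G} (hx : x ∈ C.P) (hz : z ∈ C.P) (h : C.f x = C.f z) : x = z :=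
  C.bijOn.injOn hx hz h

theorem f_one : C.f 1 = 0 := by
  have := C.f_mul 1 C.P.one_mem 1 C.P.one_mem
  rw [mul_one] at this
  simpa using this

theorem f_inv {x : G} (hx : x ∈ C.P) : C.f x⁻¹ = -C.f x := by
  have := C.f_mul x hx x⁻¹ (C.P.inv_mem hx)
  rw [mul_inv_cancel, C.f_one] at this
  exact eq_neg_of_add_eq_zero_right this.symm

theorem P_comm {x z : G} (hx : x ∈ C.P) (hz : z ∈ C.P) : x * z = z * x :=
  C.f_injOn (C.P.mul_mem hx hz) (C.P.mul_mem hz hx)
    (by rw [C.f_mul x hx z hz, C.f_mul z hz x hx, add_comm])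

theorem eq_one_of_f {x : G} (hx : x ∈ C.P) (h : C.f x = 0) : x = 1 :=
  C.f_injOn hx C.P.one_mem (h.trans C.f_one.symm)

theorem conj_mem_P {u z : G} (hu : u ∈ C.U) (hz : z ∈ C.P) : u * z * u⁻¹ ∈ C.P :=
  (Subgroup.mem_normalizer_iff.1 (C.U_le hu) z).1 hz

theorem f_conj {u z : G} (hu : u ∈ C.U) (hz : z ∈ C.P) :
    C.f (u * z * u⁻¹) = C.ψ u * C.f z :=
  (C.psi_spec u hu).2 z hz

theorem card_P : Nat.card C.P = p ^ q := by
  rw [← C.card_field, ← Nat.card_eq_fintype_card]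
  exact (Nat.card_congr (C.bijOn.equiv C.f)).trans (Nat.card_univ)

omit [Group G] [Field F] [Fintype F] [CharP F p] in
theorem two_le : 2 ≤ p := (Fact.out : p.Prime).two_le

theorem injective_psi : Function.Injective fun u : C.U => C.ψ (u : G) :=
  fun u v h => Subtype.ext (C.psi_inj u.2 v.2 h)

include C in
theorem three_le : 3 ≤ p := by
  have h1 := C.q_lt
  have h2 := C.q_prime.two_le
  omega

theorem card_U_eq : Nat.card C.U = normExp p q := by
  have := two_le (p := p)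
  exact Nat.eq_of_mul_eq_mul_right (by omega) (C.card_U.trans (normExp_mul q).symm)

include C in
theorem normExp_pos' : 0 < normExp p q := normExp_pos (two_le (p := p)) C.q_prime.ne_zero

/-! ### The group `U` -/

theorem psi_one : C.ψ 1 = 1 := by
  have h := C.psi_mul 1 C.U.one_mem 1 C.U.one_mem
  rw [mul_one] at h
  exact (mul_eq_left₀ (C.psi_spec 1 C.U.one_mem).1).1 h.symm

theorem psi_inv {u : G} (hu : u ∈ C.U) : C.ψ u⁻¹ = (C.ψ u)⁻¹ := by
  have h := C.psi_mul u hu u⁻¹ (C.U.inv_mem hu)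
  rw [mul_inv_cancel, C.psi_one] at h
  exact (inv_eq_of_mul_eq_one_right h.symm).symm

theorem psi_pow {u : G} (hu : u ∈ C.U) (k : ℕ) : C.ψ (u ^ k) = C.ψ u ^ k := by
  induction k with
  | zero => simp [C.psi_one]
  | succ k ih => rw [pow_succ, C.psi_mul _ (C.U.pow_mem hu k) u hu, ih, pow_succ]

theorem U_comm {u v : G} (hu : u ∈ C.U) (hv : v ∈ C.U) : u * v = v * u :=
  C.psi_inj (C.U.mul_mem hu hv) (C.U.mul_mem hv hu)
    (by rw [C.psi_mul u hu v hv, C.psi_mul v hv u hu, mul_comm])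

theorem psi_pow_normExp [Finite G] {u : G} (hu : u ∈ C.U) : C.ψ u ^ normExp p q = 1 := by
  have h : u ^ normExp p q = 1 := by
    rw [← C.card_U_eq]
    exact congrArg Subtype.val (pow_card_eq_one' (x := (⟨u, hu⟩ : C.U)))
  rw [← C.psi_pow hu, h, C.psi_one]

open scoped Classical in
theorem exists_psi [Finite G] {a : F} (ha : a ^ normExp p q = 1) : ∃ u ∈ C.U, C.ψ u = a := by
  haveI : Fintype C.U := Fintype.ofFinite _
  have hsub : (Finset.univ.image fun u : C.U => C.ψ u) ⊆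
      Finset.univ.filter fun x : F => x ^ normExp p q = 1 := by
    intro x hx
    obtain ⟨u, -, rfl⟩ := Finset.mem_image.1 hx
    simp [C.psi_pow_normExp u.2]
  have heq := Finset.eq_of_subset_of_card_le hsub <| by
    rw [Finset.card_image_of_injective _ C.injective_psi, Finset.card_univ, ← Nat.card_eq_fintype_card, C.card_U_eq]
    exact card_filter_pow_eq_one_le C.normExp_pos'
  have : a ∈ Finset.univ.filter fun x : F => x ^ normExp p q = 1 := by simp [ha]
  rw [← heq] at this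
  obtain ⟨u, -, hu⟩ := Finset.mem_image.1 this
  exact ⟨u, u.2, hu⟩

theorem exists_U_ne_one [Finite G] : ∃ u ∈ C.U, u ≠ 1 := by
  by_contra! h
  have h1 : Nat.card C.U = 1 := Subgroup.card_eq_one.2 ((Subgroup.eq_bot_iff_forall _).2 h)
  have h2 := pow_pred_le_normExp (two_le (p := p)) C.q_prime.ne_zero
  rw [← C.card_U_eq, h1] at h2
  have h3 : 1 < p ^ (q - 1) :=
    Nat.one_lt_pow (by have := C.q_prime.two_le; omega) (two_le (p := p))
  omega

theorem P_inf_U {u : G} (hu : u ∈ C.U) (huP : u ∈ C.P) : u = 1 := by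
  by_contra hne
  have h := C.f_conj hu huP
  rw [mul_inv_cancel_right] at h
  have hf : C.f u ≠ 0 := fun hf => hne (C.eq_one_of_f huP hf)
  exact hne (C.psi_inj hu C.U.one_mem (by rw [C.psi_one]; exact (mul_eq_right₀ hf).1 h.symm))

/-- An element of `P` normalising `U` is trivial. -/
theorem eq_one_of_normalizes [Finite G] {z : G} (hz : z ∈ C.P)
    (h : ∀ u ∈ C.U, z * u * z⁻¹ ∈ C.U) : z = 1 := by
  obtain ⟨u, hu, hu1⟩ := C.exists_U_ne_one
  have h1 : z * u * z⁻¹ * u⁻¹ ∈ C.U := C.U.mul_mem (h u hu) (C.U.inv_mem hu)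
  have h2 : z * u * z⁻¹ * u⁻¹ ∈ C.P := by
    have := C.P.mul_mem hz (C.conj_mem_P hu (C.P.inv_mem hz))
    simpa only [mul_assoc] using this
  have h3 := C.P_inf_U h1 h2
  rw [mul_assoc z u, mul_assoc, mul_eq_one_iff_eq_inv'] at h3
  have h4 := congrArg C.f h3
  rw [C.f_conj hu (C.P.inv_mem hz), C.f_inv hz] at h4
  by_contra hne
  have hf : C.f z ≠ 0 := fun hf => hne (C.eq_one_of_f hz hf)
  exact hu1 (C.psi_inj hu C.U.one_mem
    (by rw [C.psi_one]; exact (mul_eq_right₀ (neg_ne_zero.2 hf)).1 h4))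

/-! ### The elements `s^a`, `t^a`, `x_a` -/

/-- The element of `P` with coordinate `a`. -/
noncomputable def pre (w : F) : G := Function.invFunOn C.f (C.P : Set G) w

theorem pre_mem (w : F) : C.pre w ∈ C.P :=
  Function.invFunOn_mem (C.bijOn.surjOn (Set.mem_univ w))

theorem f_pre (w : F) : C.f (C.pre w) = w :=
  Function.invFunOn_eq (C.bijOn.surjOn (Set.mem_univ w))

theorem pre_f {z : G} (hz : z ∈ C.P) : C.pre (C.f z) = z :=
  C.f_injOn (C.pre_mem _) hz (C.f_pre _)

/-- The inclusion of the prime field. -/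
def ι (_C : Config G F p q) : ZMod p →+* F := ZMod.castHom dvd_rfl F

/-- The powers of `s`, indexed by the prime field. -/
noncomputable def sp (a : ZMod p) : G := C.pre (C.ι a)

/-- The powers of `t = y s y⁻¹`. -/
noncomputable def tp (a : ZMod p) : G := C.y * C.sp a * C.y⁻¹

/-- The conjugates of `y` under the powers of `s`. -/
noncomputable def xx (a : ZMod p) : G := C.sp a * C.y * (C.sp a)⁻¹

/-- The action of the powers of `t` on `U`. -/
noncomputable def sig (a : ZMod p) (u : G) : G := C.tp a * u * C.tp (-a)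

theorem sp_mem (a : ZMod p) : C.sp a ∈ C.P := C.pre_mem _

theorem f_sp (a : ZMod p) : C.f (C.sp a) = C.ι a := C.f_pre _

theorem ι_pow (a : ZMod p) : C.ι a ^ p = C.ι a := by rw [← map_pow, ZMod.pow_card]

theorem sp_add (a b : ZMod p) : C.sp (a + b) = C.sp a * C.sp b :=
  C.f_injOn (C.sp_mem _) (C.P.mul_mem (C.sp_mem a) (C.sp_mem b))
    (by rw [C.f_mul _ (C.sp_mem a) _ (C.sp_mem b), C.f_sp, C.f_sp, C.f_sp, map_add])

theorem sp_zero : C.sp 0 = 1 := C.eq_one_of_f (C.sp_mem 0) (by rw [C.f_sp, map_zero])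

theorem sp_neg (a : ZMod p) : C.sp (-a) = (C.sp a)⁻¹ :=
  eq_inv_of_mul_eq_one_left (by rw [← C.sp_add, neg_add_cancel, C.sp_zero])

theorem sp_mul_cast (a : ZMod p) (k : ℕ) : C.sp ((k : ZMod p) * a) = C.sp a ^ k := by
  induction k with
  | zero => simp [C.sp_zero]
  | succ k ih => rw [Nat.cast_succ, add_mul, one_mul, C.sp_add, ih, pow_succ]

theorem sp_eq_one {a : ZMod p} (h : C.sp a = 1) : a = 0 := by
  apply C.ι.injective
  rw [← C.f_sp, h, C.f_one, map_zero]

theorem sp_norm_Q (a : ZMod p) {z : G} (hz : z ∈ C.Q) : C.sp a * z * (C.sp a)⁻¹ ∈ C.Q :=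
  (Subgroup.mem_normalizer_iff.1
    (C.Q_norm _ (C.sp_mem a) (by rw [C.f_sp, C.ι_pow])) z).1 hz

theorem tp_add (a b : ZMod p) : C.tp (a + b) = C.tp a * C.tp b := by
  simp only [tp, C.sp_add]; group

theorem tp_zero : C.tp 0 = 1 := by simp [tp, C.sp_zero]

theorem tp_neg (a : ZMod p) : C.tp (-a) = (C.tp a)⁻¹ :=
  eq_inv_of_mul_eq_one_left (by rw [← C.tp_add, neg_add_cancel, C.tp_zero])

theorem tp_eq_one {a : ZMod p} (h : C.tp a = 1) : a = 0 :=
  C.sp_eq_one (by simpa [tp] using h)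

theorem xx_mem (a : ZMod p) : C.xx a ∈ C.Q := C.sp_norm_Q a C.y_mem

theorem xx_zero : C.xx 0 = C.y := by simp [xx, C.sp_zero]

theorem xx_shift (a b : ZMod p) : C.sp b * C.xx a * (C.sp b)⁻¹ = C.xx (b + a) := by
  simp only [xx, C.sp_add]; group

theorem Q_comm' {a b : G} (ha : a ∈ C.Q) (hb : b ∈ C.Q) : a * b = b * a :=
  congrArg Subtype.val (C.Q_comm.is_comm.comm ⟨a, ha⟩ ⟨b, hb⟩)

theorem tp_eq (a : ZMod p) : C.tp a = C.xx 0 * (C.xx a)⁻¹ * C.sp a := by
  simp only [tp, xx, C.sp_zero]; group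

theorem sig_mem (a : ZMod p) {u : G} (hu : u ∈ C.U) : C.sig a u ∈ C.U := by
  have h := (Subgroup.mem_normalizer_iff.1
    (C.U_norm _ (C.sp_mem a) (by rw [C.f_sp, C.ι_pow])) u).1 hu
  rw [sig, C.tp_neg]
  exact h

theorem sig_zero (u : G) : C.sig 0 u = u := by simp [sig, C.tp_zero]

theorem sig_sig (a b : ZMod p) (u : G) : C.sig a (C.sig b u) = C.sig (a + b) u := by
  simp only [sig, neg_add_rev, C.tp_add]; group

theorem sig_mul (a : ZMod p) (u v : G) : C.sig a (u * v) = C.sig a u * C.sig a v := by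
  simp only [sig, C.tp_neg]; group

theorem sig_inv (a : ZMod p) (u : G) : C.sig a u⁻¹ = (C.sig a u)⁻¹ := by
  simp only [sig, C.tp_neg]; group

theorem sig_pow (a : ZMod p) (u : G) (k : ℕ) : C.sig a (u ^ k) = C.sig a u ^ k := by
  rw [sig, sig, C.tp_neg, conj_pow]

theorem tp_mul (a : ZMod p) (u : G) : C.tp a * u = C.sig a u * C.tp a := by
  simp only [sig, C.tp_neg]; group

theorem mul_tp (a : ZMod p) (u : G) : u * C.tp a = C.tp a * C.sig (-a) u := by
  simp only [sig, C.tp_neg, neg_neg]; group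

theorem tp_ne_sp [Finite G] : C.tp 1 ≠ C.sp 1 := by
  intro h
  refine one_ne_zero (α := ZMod p) (C.sp_eq_one (C.eq_one_of_normalizes (C.sp_mem 1) ?_))
  intro u hu
  have := C.sig_mem 1 hu
  rwa [sig, C.tp_neg, h] at this

theorem xx_injective [Finite G] {a b : ZMod p} (h : C.xx a = C.xx b) : a = b := by
  by_contra hne
  have hd : Commute (C.sp (-b + a)) C.y := by
    have h0 : C.xx (-b + a) = C.xx 0 := by
      rw [← C.xx_shift a, h, C.xx_shift b, neg_add_cancel]
    rw [C.xx_zero] at h0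
    exact mul_inv_eq_iff_eq_mul.1 h0
  have hd0 : -b + a ≠ 0 := fun h0 => hne (by linear_combination h0)
  have h1 : Commute (C.sp 1) C.y := by
    have h2 := hd.pow_left ((-b + a)⁻¹ : ZMod p).val
    rwa [← C.sp_mul_cast, ZMod.natCast_rightInverse, inv_mul_cancel₀ hd0] at h2
  apply C.tp_ne_sp
  rw [tp, ← h1.eq, mul_inv_cancel_right]

/-! ### The group `H = P U` -/

/-- The group `P U`. -/
def H : Subgroup G where
  carrier := {g | ∃ z ∈ C.P, ∃ u ∈ C.U, g = z * u}
  mul_mem' := by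
    rintro a b ⟨z, hz, u, hu, rfl⟩ ⟨z', hz', u', hu', rfl⟩
    exact ⟨z * (u * z' * u⁻¹), C.P.mul_mem hz (C.conj_mem_P hu hz'), u * u',
      C.U.mul_mem hu hu', by group⟩
  one_mem' := ⟨1, C.P.one_mem, 1, C.U.one_mem, by group⟩
  inv_mem' := by
    rintro a ⟨z, hz, u, hu, rfl⟩
    refine ⟨u⁻¹ * z⁻¹ * u, ?_, u⁻¹, C.U.inv_mem hu, by group⟩
    simpa using C.conj_mem_P (C.U.inv_mem hu) (C.P.inv_mem hz)

theorem P_le_H {z : G} (hz : z ∈ C.P) : z ∈ C.H := ⟨z, hz, 1, C.U.one_mem, by group⟩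

theorem U_le_H {u : G} (hu : u ∈ C.U) : u ∈ C.H := ⟨1, C.P.one_mem, u, hu, by group⟩

theorem left_eq {z u z' u' : G} (hz : z ∈ C.P) (hu : u ∈ C.U) (hz' : z' ∈ C.P) (hu' : u' ∈ C.U)
    (h : (z' * u')⁻¹ * (z * u) ∈ C.U) : z = z' := by
  have h1 : z'⁻¹ * z ∈ C.U := by
    have := C.U.mul_mem (C.U.mul_mem hu' h) (C.U.inv_mem hu)
    simpa [mul_assoc] using this
  exact (inv_mul_eq_one.1 (C.P_inf_U h1 (C.P.mul_mem (C.P.inv_mem hz') hz))).symm

/-- An element of `H` of order dividing `p` lies in `P`. -/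
theorem mem_P_of_pow [Finite G] {g : G} (hg : g ∈ C.H) (hgp : g ^ p = 1) : g ∈ C.P := by
  obtain ⟨z, hz, u, hu, rfl⟩ := hg
  have key : ∀ k : ℕ, ∃ z' ∈ C.P, (z * u) ^ k = z' * u ^ k := by
    intro k
    induction k with
    | zero => exact ⟨1, C.P.one_mem, by simp⟩
    | succ k ih =>
      obtain ⟨z', hz', h'⟩ := ih
      refine ⟨z' * (u ^ k * z * (u ^ k)⁻¹),
        C.P.mul_mem hz' (C.conj_mem_P (C.U.pow_mem hu k) hz), ?_⟩
      rw [pow_succ, h', pow_succ]
      group
  obtain ⟨z', hz', h'⟩ := key p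
  rw [hgp] at h'
  have hup : u ^ p = 1 := C.P_inf_U (C.U.pow_mem hu p)
    (by rw [show u ^ p = z'⁻¹ by rw [eq_comm, ← mul_eq_one_iff_inv_eq]; exact h'.symm]
        exact C.P.inv_mem hz')
  have hun : u ^ normExp p q = 1 := by
    rw [← C.card_U_eq]
    exact congrArg Subtype.val (pow_card_eq_one' (x := (⟨u, hu⟩ : C.U)))
  have hcop : Nat.Coprime p (normExp p q) := by
    rw [(Fact.out : p.Prime).coprime_iff_not_dvd]
    intro hdvd
    have h1 : p ∣ p ^ q - 1 := by
      rw [← normExp_mul]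
      exact hdvd.mul_right _
    have h2 : p ∣ p ^ q := dvd_pow_self p C.q_prime.ne_zero
    have h3 := Nat.dvd_sub h2 h1
    rw [Nat.sub_sub_self (Nat.one_le_pow _ _ (Fact.out : p.Prime).pos)] at h3
    exact (Fact.out : p.Prime).not_dvd_one h3
  have hu1 : u = 1 := by
    have := Nat.dvd_gcd (orderOf_dvd_of_pow_eq_one hup) (orderOf_dvd_of_pow_eq_one hun)
    rw [hcop, Nat.dvd_one, orderOf_eq_one_iff] at this
    exact this
  rw [hu1, mul_one]
  exact hz

theorem eq_top_of_lt_card {A : Type*} [Group A] [Finite A] (hA : Nat.card A = p ^ q)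
    (S : Subgroup A) (h : p ^ (q - 1) < Nat.card S) : S = ⊤ := by
  apply Subgroup.eq_top_of_card_eq
  obtain ⟨k, hk, hk'⟩ :=
    (Nat.dvd_prime_pow (Fact.out : p.Prime)).1 (hA ▸ Subgroup.card_subgroup_dvd_card S)
  rw [hk', Nat.pow_lt_pow_iff_right (Fact.out : p.Prime).one_lt] at h
  rw [hA, hk', show k = q by omega]

/-- An additive subgroup of `F` containing `ψ U` is everything. -/
theorem addSubgroup_eq_top [Finite G] (S : AddSubgroup F) (h : ∀ u ∈ C.U, C.ψ u ∈ S) : S = ⊤ := by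
  classical
  have hcard : p ^ (q - 1) < Nat.card S := by
    haveI : Fintype C.U := Fintype.ofFinite _
    let T : Finset F := insert 0 (Finset.univ.image fun u : C.U => C.ψ u)
    have hT : ∀ x ∈ T, x ∈ S := by
      intro x hx
      rcases Finset.mem_insert.1 hx with rfl | hx
      · exact S.zero_mem
      · obtain ⟨u, -, rfl⟩ := Finset.mem_image.1 hx
        exact h u u.2
    have hTc : T.card = normExp p q + 1 := by
      rw [Finset.card_insert_of_notMem, Finset.card_image_of_injective _ C.injective_psi,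
        Finset.card_univ,
        ← Nat.card_eq_fintype_card, C.card_U_eq]
      intro h0
      obtain ⟨u, -, hu⟩ := Finset.mem_image.1 h0
      exact (C.psi_spec u u.2).1 hu
    refine lt_of_lt_of_le (pow_pred_lt_normExp_add_one (two_le (p := p)) C.q_prime.ne_zero) ?_
    rw [← hTc, ← Nat.card_eq_finsetCard]
    exact Nat.card_le_card_of_injective (fun x : T => (⟨x, hT x x.2⟩ : S))
      fun x z hxz => Subtype.ext (congrArg Subtype.val hxz :)
  have hc : Nat.card (Multiplicative F) = p ^ q := by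
    rw [← C.card_field, ← Nat.card_eq_fintype_card]
    exact Nat.card_congr Multiplicative.toAdd
  have := eq_top_of_lt_card (p := p) (q := q) hc (AddSubgroup.toSubgroup S) hcard
  exact AddSubgroup.toSubgroup.injective (this.trans (OrderIso.map_top _).symm)

/-- `t` does not normalise `P`. -/
theorem not_normalize_P [Finite G] : ¬ ∀ z ∈ C.P, C.tp 1 * z * C.tp (-1) ∈ C.P := by
  intro hN
  let g : F → F := fun w => C.f (C.tp 1 * C.pre w * C.tp (-1))
  have hgadd : ∀ w w', g (w + w') = g w + g w' := fun w w' => by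
    have hp : C.pre (w + w') = C.pre w * C.pre w' :=
      C.f_injOn (C.pre_mem _) (C.P.mul_mem (C.pre_mem _) (C.pre_mem _))
        (by rw [C.f_mul _ (C.pre_mem _) _ (C.pre_mem _), C.f_pre, C.f_pre, C.f_pre])
    simp only [g, hp]
    rw [← C.f_mul _ (hN _ (C.pre_mem w)) _ (hN _ (C.pre_mem w'))]
    congr 1
    rw [C.tp_neg]; group
  have hgmul : ∀ u ∈ C.U, ∀ w, g (C.ψ u * w) = C.ψ (C.sig 1 u) * g w := fun u hu w => by
    have hp : C.pre (C.ψ u * w) = u * C.pre w * u⁻¹ :=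
      C.f_injOn (C.pre_mem _) (C.conj_mem_P hu (C.pre_mem _))
        (by rw [C.f_conj hu (C.pre_mem _), C.f_pre, C.f_pre])
    simp only [g, hp]
    rw [← C.f_conj (C.sig_mem 1 hu) (hN _ (C.pre_mem w))]
    congr 1
    simp only [sig, C.tp_neg]; group
  have hginj : ∀ w, g w = 0 → w = 0 := fun w hw => by
    have h1 := C.eq_one_of_f (hN _ (C.pre_mem w)) hw
    rw [C.tp_neg, conj_eq_one_iff] at h1
    rw [← C.f_pre w, h1, C.f_one]
  have hg1 : g 1 ≠ 0 := fun h => one_ne_zero (hginj 1 h)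
  let τ : F → F := fun w => g w / g 1
  have hτadd : ∀ w w', τ (w + w') = τ w + τ w' := fun w w' => by simp [τ, hgadd, add_div]
  let τa : F →+ F := AddMonoidHom.mk' τ hτadd
  have hτU : ∀ u ∈ C.U, τ (C.ψ u) = C.ψ (C.sig 1 u) := fun u hu => by
    simp only [τ]
    rw [← mul_one (C.ψ u), hgmul u hu, mul_div_cancel_right₀ _ hg1]
  have hτmul : ∀ a b, τ (a * b) = τ a * τ b := by
    let S : AddSubgroup F :=
      { carrier := {a | ∀ b, τ (a * b) = τ a * τ b}
        zero_mem' := fun b => by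
          have h0 : τ 0 = 0 := τa.map_zero
          simp [h0]
        add_mem' := fun {a a'} ha ha' b => by rw [add_mul, hτadd, hτadd, ha b, ha' b, add_mul]
        neg_mem' := fun {a} ha b => by
          have h0 : ∀ x, τ (-x) = -τ x := τa.map_neg
          rw [neg_mul, h0, h0, ha b, neg_mul] }
    have hS := C.addSubgroup_eq_top S fun u hu b => by
      rw [hτU u hu]
      simp only [τ, hgmul u hu]
      ring
    intro a b
    exact (show a ∈ S by rw [hS]; trivial) b
  have hτ1 : τ 1 = 1 := div_self hg1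
  letI : Algebra (ZMod p) F := ZMod.algebra F p
  let τr : F →+* F :=
    { toFun := τ, map_one' := hτ1, map_mul' := hτmul, map_zero' := τa.map_zero,
      map_add' := hτadd }
  let τe : F →ₐ[ZMod p] F :=
    { τr with
      commutes' := fun r => RingHom.congr_fun
        (Subsingleton.elim (τr.comp (algebraMap (ZMod p) F)) (algebraMap (ZMod p) F)) r }
  have hbij : Function.Bijective τe := Finite.injective_iff_bijective.1 τr.injective
  obtain ⟨i, hi⟩ := (FiniteField.bijective_frobeniusAlgEquivOfAlgebraic_pow (ZMod p) F).2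
    (AlgEquiv.ofBijective τe hbij)
  have hpow : ∀ w, τ w = w ^ p ^ (i : ℕ) := fun w => by
    have := congrArg (fun e : F ≃ₐ[ZMod p] F => e w) hi
    simp only [AlgEquiv.coe_pow, FiniteField.coe_frobeniusAlgEquivOfAlgebraic, pow_iterate,
      ZMod.card] at this
    exact this.symm
  have hq : ∀ w, Function.IsPeriodicPt τ q w := fun w => by
    show τ^[q] w = w
    rw [show τ = fun x => x ^ p ^ (i : ℕ) from funext hpow, pow_iterate]
    show w ^ (p ^ (i : ℕ)) ^ q = w
    rw [← pow_mul, mul_comm, pow_mul, ← C.card_field]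
    exact FiniteField.pow_card_pow _ w
  have hiter : ∀ (m : ℕ), ∀ u ∈ C.U, τ^[m] (C.ψ u) = C.ψ (C.sig m u) := by
    intro m
    induction m with
    | zero => intro u _; simp [C.sig_zero]
    | succ m ih =>
      intro u hu
      rw [Function.iterate_succ', Function.comp_apply, ih u hu, hτU _ (C.sig_mem _ hu),
        C.sig_sig, Nat.cast_succ, add_comm]
  have hp : ∀ w, Function.IsPeriodicPt τ p w := by
    let S : AddSubgroup F :=
      { carrier := {a | τ^[p] a = a}
        zero_mem' := iterate_map_zero τa p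
        add_mem' := fun {a a'} ha ha' => by
          show τ^[p] (a + a') = a + a'
          have h := iterate_map_add τa p a a'
          exact h.trans (congrArg₂ (· + ·) ha ha')
        neg_mem' := fun {a} ha => by
          show τ^[p] (-a) = -a
          exact (iterate_map_neg τa p a).trans (congrArg Neg.neg ha) }
    have hS := C.addSubgroup_eq_top S fun u hu => by
      show τ^[p] (C.ψ u) = C.ψ u
      rw [hiter p u hu, ZMod.natCast_self, C.sig_zero]
    intro w
    exact show w ∈ S by rw [hS]; trivial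
  have hlin : ∀ w, g w = g 1 * w := fun w => by
    have h := (hp w).gcd (hq w)
    have hcop : Nat.gcd p q = 1 :=
      (Nat.coprime_primes (Fact.out : p.Prime) C.q_prime).2 C.q_lt.ne'
    rw [hcop] at h
    have h' : τ w = w := h
    simp only [τ, div_eq_iff hg1] at h'
    rw [h', mul_comm]
  have hm : ∀ m : ℕ, C.tp m * C.pre 1 * C.tp (-m) = C.pre (g 1 ^ m) := by
    intro m
    induction m with
    | zero => simp [C.tp_zero]
    | succ m ih =>
      refine C.f_injOn ?_ (C.pre_mem _) ?_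
      all_goals
        rw [Nat.cast_succ, add_comm (m : ZMod p) 1, C.tp_add, neg_add_rev, C.tp_add,
          show ∀ a b c d e : G, a * b * c * (d * e) = a * (b * c * d) * e from
            fun a b c d e => by group, ih]
      · exact hN _ (C.pre_mem _)
      · exact (hlin _).trans (by rw [C.f_pre, pow_succ'])
  have hg11 : g 1 = 1 := by
    have h := congrArg C.f (hm p)
    rw [ZMod.natCast_self, neg_zero, C.tp_zero, one_mul, mul_one, C.f_pre, C.f_pre] at h
    exact frobenius_inj F p (by rw [frobenius_def, ← h, map_one])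
  have hcomm : Commute (C.tp 1) (C.sp 1) := by
    have h : C.tp 1 * C.pre 1 * C.tp (-1) = C.pre 1 := by
      have := hm 1
      rwa [Nat.cast_one, pow_one, hg11] at this
    have hs : C.sp 1 = C.pre 1 := by rw [sp, map_one]
    rw [C.tp_neg, mul_inv_eq_iff_eq_mul, ← hs] at h
    exact h
  apply C.tp_ne_sp
  have hQm : C.tp 1 * (C.sp 1)⁻¹ ∈ C.Q := by
    rw [C.tp_eq, mul_inv_cancel_right]
    exact C.Q.mul_mem (C.xx_mem _) (C.Q.inv_mem (C.xx_mem _))
  have hpm : (C.tp 1 * (C.sp 1)⁻¹) ^ p = 1 := by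
    have hsp : C.sp 1 ^ p = 1 := by
      rw [← C.sp_mul_cast, ZMod.natCast_self, zero_mul, C.sp_zero]
    rw [(hcomm.inv_right).mul_pow, inv_pow, hsp, inv_one, mul_one, tp, conj_pow, hsp]
    group
  have hcard : orderOf (C.tp 1 * (C.sp 1)⁻¹) ∣ Nat.card C.Q := Subgroup.orderOf_dvd_natCard _ hQm
  have := Nat.dvd_gcd hcard (orderOf_dvd_of_pow_eq_one hpm)
  rw [C.Q_coprime, Nat.dvd_one, orderOf_eq_one_iff, mul_inv_eq_one] at this
  exact this

/-- Step 3: `H` and its conjugate by a nontrivial power of `t` meet in `U`. -/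
theorem mem_U_of_conj [Finite G] {j : ZMod p} (hj : j ≠ 0) {g : G} (hg : g ∈ C.H)
    (hg' : C.tp (-j) * g * C.tp j ∈ C.H) : g ∈ C.U := by
  obtain ⟨z, hz, u, hu, rfl⟩ := hg
  have hzK : C.tp (-j) * z * C.tp j ∈ C.H := by
    have h1 := C.H.mul_mem hg' (C.U_le_H (C.sig_mem (-j) (C.U.inv_mem hu)))
    have h2 : C.tp (-j) * (z * u) * C.tp j * C.sig (-j) u⁻¹ = C.tp (-j) * z * C.tp j := by
      simp only [sig, neg_neg, C.tp_neg]; group
    rwa [h2] at h1
  by_cases hz1 : z = 1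
  · rw [hz1, one_mul]; exact hu
  exfalso
  let W : AddSubgroup F :=
    { carrier := {w | C.tp (-j) * C.pre w * C.tp j ∈ C.H}
      zero_mem' := by
        show C.tp (-j) * C.pre 0 * C.tp j ∈ C.H
        rw [show C.pre 0 = 1 from C.eq_one_of_f (C.pre_mem _) (C.f_pre _), mul_one,
          ← C.tp_add, neg_add_cancel, C.tp_zero]
        exact C.H.one_mem
      add_mem' := fun {a b} ha hb => by
        show C.tp (-j) * C.pre (a + b) * C.tp j ∈ C.H
        rw [C.f_injOn (C.pre_mem _) (C.P.mul_mem (C.pre_mem a) (C.pre_mem b))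
          (by rw [C.f_mul _ (C.pre_mem _) _ (C.pre_mem _), C.f_pre, C.f_pre, C.f_pre])]
        have := C.H.mul_mem ha hb
        simp only [C.tp_neg] at this ⊢
        simpa [mul_assoc] using this
      neg_mem' := fun {a} ha => by
        show C.tp (-j) * C.pre (-a) * C.tp j ∈ C.H
        rw [C.f_injOn (C.pre_mem _) (C.P.inv_mem (C.pre_mem a))
          (by rw [C.f_inv (C.pre_mem _), C.f_pre, C.f_pre])]
        have := C.H.inv_mem ha
        simp only [C.tp_neg] at this ⊢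
        simpa [mul_assoc] using this }
  have hfz : C.f z ≠ 0 := fun h => hz1 (C.eq_one_of_f hz h)
  have hWU : ∀ v ∈ C.U, C.ψ v * C.f z ∈ W := by
    intro v hv
    show C.tp (-j) * C.pre _ * C.tp j ∈ C.H
    rw [← C.f_conj hv hz, C.pre_f (C.conj_mem_P hv hz)]
    have h1 := C.H.mul_mem (C.H.mul_mem (C.U_le_H (C.sig_mem (-j) hv)) hzK)
      (C.U_le_H (C.sig_mem (-j) (C.U.inv_mem hv)))
    have h2 : C.tp (-j) * (v * z * v⁻¹) * C.tp j
        = C.sig (-j) v * (C.tp (-j) * z * C.tp j) * C.sig (-j) v⁻¹ := by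
      simp only [sig, neg_neg, C.tp_neg]; group
    rw [h2]; exact h1
  have hWtop : ∀ w, w ∈ W := by
    have h := C.addSubgroup_eq_top (W.comap (AddMonoidHom.mulRight (C.f z))) hWU
    intro w
    have hw : w / C.f z ∈ W.comap (AddMonoidHom.mulRight (C.f z)) := by rw [h]; trivial
    simpa [hfz] using hw
  have hPP : ∀ x ∈ C.P, C.tp (-j) * x * C.tp j ∈ C.P := by
    intro x hx
    have hxW : C.tp (-j) * C.pre (C.f x) * C.tp j ∈ C.H := hWtop (C.f x)
    rw [C.pre_f hx] at hxW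
    refine C.mem_P_of_pow hxW ?_
    have hxp : x ^ p = 1 := by
      have : ∀ k : ℕ, C.f (x ^ k) = k * C.f x := by
        intro k
        induction k with
        | zero => simp [C.f_one]
        | succ k ih =>
          rw [pow_succ, C.f_mul _ (C.P.pow_mem hx k) x hx, ih]
          push_cast
          ring
      refine C.eq_one_of_f (C.P.pow_mem hx p) ?_
      rw [this p, CharP.cast_eq_zero, zero_mul]
    rw [C.tp_neg, show (C.tp j)⁻¹ * x * C.tp j = (C.tp j)⁻¹ * x * ((C.tp j)⁻¹)⁻¹ by rw [inv_inv],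
      conj_pow, hxp]
    group
  have hmult : ∀ m : ℕ, ∀ x ∈ C.P,
      C.tp (-((m : ZMod p) * j)) * x * C.tp ((m : ZMod p) * j) ∈ C.P := by
    intro m
    induction m with
    | zero => intro x hx; simpa [C.tp_zero] using hx
    | succ m ih =>
      intro x hx
      have h := hPP _ (ih x hx)
      have h2 : ((m + 1 : ℕ) : ZMod p) * j = m * j + j := by push_cast; ring
      rw [h2, neg_add_rev, C.tp_add, C.tp_add]
      simpa [mul_assoc] using h
  apply C.not_normalize_P
  intro x hx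
  have h := hmult ((-1) / j : ZMod p).val x hx
  rwa [ZMod.natCast_rightInverse, div_mul_cancel₀ _ hj, neg_neg] at h

/-- Step 4: distinct nontrivial powers of `t` lie in distinct double cosets of `H`. -/
theorem doubleCoset [Finite G] {a b : ZMod p} (ha : a ≠ 0) (hb : b ≠ 0) {h h' : G}
    (hh : h ∈ C.H) (hh' : h' ∈ C.H) (e : C.tp a = h * C.tp b * h') : h ∈ C.U ∧ a = b := by
  obtain ⟨z, hz, v, hv, rfl⟩ := hh
  have hconj : ∀ u ∈ C.U, (z * v)⁻¹ * u * (z * v) ∈ C.U := by
    intro u hu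
    refine C.mem_U_of_conj hb
      (C.H.mul_mem (C.H.mul_mem (C.H.inv_mem ⟨z, hz, v, hv, rfl⟩) (C.U_le_H hu))
        ⟨z, hz, v, hv, rfl⟩) ?_
    have h1 := C.H.mul_mem (C.H.mul_mem hh' (C.U_le_H (C.sig_mem (-a) hu))) (C.H.inv_mem hh')
    have h2 : C.tp (-b) * ((z * v)⁻¹ * u * (z * v)) * C.tp b
        = h' * C.sig (-a) u * h'⁻¹ := by
      have e' : h' = C.tp (-b) * (z * v)⁻¹ * C.tp a := by
        rw [e, C.tp_neg]; group
      rw [e']
      simp only [sig, neg_neg, C.tp_neg]; group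
    rw [h2]; exact h1
  have hz1 : z = 1 := by
    refine inv_eq_one.1 (C.eq_one_of_normalizes (C.P.inv_mem hz) fun u hu => ?_)
    have := C.U.mul_mem (C.U.mul_mem hv (hconj u hu)) (C.U.inv_mem hv)
    simpa [mul_assoc] using this
  rw [hz1, one_mul] at e ⊢
  refine ⟨hv, ?_⟩
  by_contra hne
  have e1 : C.tp (-b + a) = C.sig (-b) v * h' := by
    rw [C.tp_add, e]
    simp only [sig, neg_neg, C.tp_neg]; group
  have hH : C.tp (-b + a) ∈ C.H := e1 ▸ C.H.mul_mem (C.U_le_H (C.sig_mem _ hv)) hh'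
  have hp : C.tp (-b + a) ^ p = 1 := by
    rw [tp, conj_pow, ← C.sp_mul_cast, ZMod.natCast_self, zero_mul, C.sp_zero]
    group
  have h1 := C.eq_one_of_normalizes (C.mem_P_of_pow hH hp) fun u hu => by
    have := C.sig_mem (-b + a) hu
    rwa [sig, C.tp_neg] at this
  exact hne (by linear_combination C.tp_eq_one h1)

/-- Uniqueness of the `P`-coordinate of a factorisation through `t^b`. -/
theorem coord_unique [Finite G] {b : ZMod p} (hb : b ≠ 0) {z₁ u₁ z₂ u₂ k₁ k₂ : G}
    (hz₁ : z₁ ∈ C.P) (hu₁ : u₁ ∈ C.U) (hz₂ : z₂ ∈ C.P) (hu₂ : u₂ ∈ C.U) (hk₁ : k₁ ∈ C.H)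
    (hk₂ : k₂ ∈ C.H) (e : z₁ * u₁ * C.tp b * k₁ = z₂ * u₂ * C.tp b * k₂) : z₁ = z₂ := by
  refine C.left_eq hz₁ hu₁ hz₂ hu₂ (C.doubleCoset hb hb (h' := k₁ * k₂⁻¹)
    (C.H.mul_mem (C.H.inv_mem ⟨z₂, hz₂, u₂, hu₂, rfl⟩) ⟨z₁, hz₁, u₁, hu₁, rfl⟩)
    (C.H.mul_mem hk₁ (C.H.inv_mem hk₂)) ?_).1
  calc C.tp b = (z₂ * u₂)⁻¹ * (z₂ * u₂ * C.tp b * k₂) * k₂⁻¹ := by group
    _ = _ := by rw [← e]; group

/-- Step 5: `U` and `Q` meet trivially. -/
theorem U_inf_Q [Finite G] {u : G} (hu : u ∈ C.U) (huQ : u ∈ C.Q) : u = 1 := by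
  by_contra hne
  have hw := C.sp_norm_Q 1 huQ
  have hwH : C.sp 1 * u * (C.sp 1)⁻¹ ∈ C.H :=
    C.H.mul_mem (C.H.mul_mem (C.P_le_H (C.sp_mem 1)) (C.U_le_H hu))
      (C.H.inv_mem (C.P_le_H (C.sp_mem 1)))
  obtain ⟨z, hz, v, hv, e⟩ := hwH
  have hc : z * v * u = u * (z * v) := e ▸ C.Q_comm' hw huQ
  have hc2 : u * z * u⁻¹ = z := by
    rw [← mul_assoc u, mul_assoc z v u, C.U_comm hv hu, ← mul_assoc] at hc
    rw [mul_inv_eq_iff_eq_mul]
    exact (mul_right_cancel hc).symm
  have hz1 : z = 1 := by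
    have h4 := congrArg C.f hc2
    rw [C.f_conj hu hz] at h4
    by_contra hz1
    exact hne (C.psi_inj hu C.U.one_mem (by
      rw [C.psi_one]; exact (mul_eq_right₀ fun h => hz1 (C.eq_one_of_f hz h)).1 h4))
  rw [hz1, one_mul] at e
  have h1 : C.sp 1 * u * (C.sp 1)⁻¹ * u⁻¹ ∈ C.U := C.U.mul_mem (e ▸ hv) (C.U.inv_mem hu)
  have h2 : C.sp 1 * u * (C.sp 1)⁻¹ * u⁻¹ ∈ C.P := by
    have := C.P.mul_mem (C.sp_mem 1) (C.conj_mem_P hu (C.P.inv_mem (C.sp_mem 1)))
    simpa only [mul_assoc] using this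
  have h3 := C.P_inf_U h1 h2
  rw [mul_inv_eq_one, mul_inv_eq_iff_eq_mul] at h3
  have hc3 : u * C.sp 1 * u⁻¹ = C.sp 1 := by rw [← h3, mul_inv_cancel_right]
  have h4 := congrArg C.f hc3
  rw [C.f_conj hu (C.sp_mem 1), C.f_sp, map_one, mul_one] at h4
  exact hne (C.psi_inj hu C.U.one_mem (by rw [h4, C.psi_one]))

/-- Step 6: the conjugates of `y` form a Sidon set. -/
theorem sidon [Finite G] {a b c d : ZMod p} (h : C.xx a * (C.xx b)⁻¹ = C.xx c * (C.xx d)⁻¹)
    (hab : a ≠ b) : a = c ∧ b = d := by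
  have key : ∀ a b, C.xx a * (C.xx b)⁻¹ = C.sp a * C.tp (b - a) * C.sp (-b) := by
    intro a b
    rw [C.tp_eq, show C.xx a = C.sp a * C.xx 0 * (C.sp a)⁻¹ by
      rw [C.xx_shift, add_zero],
      show C.xx b = C.sp a * C.xx (b - a) * (C.sp a)⁻¹ by
      rw [C.xx_shift]; ring_nf, mul_assoc (C.sp a) _ (C.sp (-b)),
      mul_assoc _ (C.sp (b - a)) (C.sp (-b)), ← C.sp_add, show b - a + -b = -a by ring, C.sp_neg]
    group
  have hdc : d - c ≠ 0 := fun h0 => hab (C.xx_injective (mul_inv_eq_one.1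
    (by rw [h, sub_eq_zero.1 h0, mul_inv_cancel])))
  rw [key, key] at h
  have e : C.tp (b - a) = (C.sp (-a) * C.sp c) * C.tp (d - c) * (C.sp (-d) * C.sp b) := by
    calc C.tp (b - a) = C.sp (-a) * (C.sp a * C.tp (b - a) * C.sp (-b)) * C.sp b := by
          simp only [C.sp_neg]; group
      _ = _ := by rw [h]; simp only [mul_assoc]
  obtain ⟨h1, h2⟩ := C.doubleCoset (sub_ne_zero.2 (Ne.symm hab)) hdc
    (C.P_le_H (C.P.mul_mem (C.sp_mem _) (C.sp_mem _)))
    (C.P_le_H (C.P.mul_mem (C.sp_mem _) (C.sp_mem _))) e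
  rw [← C.sp_add] at h1
  have h3 := C.sp_eq_one (C.P_inf_U h1 (C.sp_mem _))
  exact ⟨by linear_combination -h3, by linear_combination h2 - h3⟩

end Config

end Cfsg.Agent.Lib.CFun.AppendixC
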