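import Cfsg.Agent.Lib.CFun.AppendixCGroup

/-!
# The configuration of Appendix C of Bender–Glauberman: the contradiction

From the identity `t^a s^J t^c = s^{-c} t^{-J} s^{-a}` for `a + J + c = 0`, the uniqueness of
double coset factorisations and the Sidon property, the set `E` is closed under inversion.
-/

set_option autoImplicit false

open scoped IsMulCommutative

namespace Cfsg.Agent.Lib.CFun.AppendixC

variable {G F : Type*} [Group G] [Field F] [Fintype F] {p q : ℕ} [Fact p.Prime] [CharP F p]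
  (C : Config G F p q)

namespace Config

theorem sp_merge (a b : ZMod p) (z : G) : C.sp a * (C.sp b * z) = C.sp (a + b) * z := by
  rw [C.sp_add, mul_assoc]

/-- Step 1: the hexagon identity. -/
theorem hexagon {a J c : ZMod p} (h : a + J + c = 0) :
    C.tp a * C.sp J * C.tp c = C.sp (-c) * C.tp (-J) * C.sp (-a) := by
  obtain rfl : c = -(a + J) := by linear_combination h
  have hL : C.tp a * C.sp J * C.tp (-(a + J)) =
      C.xx 0 * (C.xx a)⁻¹ * (C.xx (a + J) * (C.xx 0)⁻¹) := by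
    simp only [tp, xx, C.sp_zero, one_mul, mul_inv_rev, inv_one, mul_one, ← C.sp_neg, neg_neg,
      mul_assoc, sp_merge, ← C.sp_add]
    rw [show -a + (a + J) = J by ring]
  have hR : C.sp (- -(a + J)) * C.tp (-J) * C.sp (-a) = C.xx (a + J) * (C.xx a)⁻¹ := by
    simp only [tp, xx, mul_inv_rev, ← C.sp_neg, neg_neg, mul_assoc, sp_merge]
    rw [show -(a + J) + a = -J by ring]
  rw [hL, hR, C.Q_comm' (C.Q.mul_mem (C.xx_mem 0) (C.Q.inv_mem (C.xx_mem a)))
    (C.Q.mul_mem (C.xx_mem (a + J)) (C.Q.inv_mem (C.xx_mem 0)))]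
  group

/-- The `P`-coordinate of `a₁ s^b a₂ s^c`. -/
theorem exists_coord {a₁ a₂ : G} (h₁ : a₁ ∈ C.U) (h₂ : a₂ ∈ C.U) (b c : ZMod p) :
    ∃ z ∈ C.P, a₁ * C.sp b * a₂ * C.sp c = z * (a₁ * a₂) ∧
      C.f z = C.ψ a₁ * (C.ι b + C.ψ a₂ * C.ι c) := by
  refine ⟨a₁ * (C.sp b * (a₂ * C.sp c * a₂⁻¹)) * a₁⁻¹,
    C.conj_mem_P h₁ (C.P.mul_mem (C.sp_mem b) (C.conj_mem_P h₂ (C.sp_mem c))), by group, ?_⟩
  rw [C.f_conj h₁ (C.P.mul_mem (C.sp_mem b) (C.conj_mem_P h₂ (C.sp_mem c))),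
    C.f_mul _ (C.sp_mem b) _ (C.conj_mem_P h₂ (C.sp_mem c)), C.f_conj h₂ (C.sp_mem c),
    C.f_sp, C.f_sp]

/-- The factorisation of `t^i s^r t^k` through `t^{-j}`. -/
theorem key_factor {l r : ZMod p} {u v A B : G} (hu : u ∈ C.U) (hv : v ∈ C.U) (hA : A ∈ C.U)
    (huv : C.ψ u + C.ψ v = 2)
    (hr : C.ι (3 * l) + C.ψ (C.sig (-l) v) * C.ι (-(2 * l)) = C.ψ A * C.ι r)
    (hB : A * B = C.sig (-l) v) :
    C.tp (-(2 * l)) * C.sp r * C.tp l =
      (C.sig (-(2 * l)) A)⁻¹ * C.sp l * C.sig (-(3 * l)) u * C.sp (-(2 * l)) * C.tp (-l) *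
        (C.sp (3 * l) * C.sig (-(2 * l)) (u⁻¹ * v) * C.sp (-l) * (C.sig (-l) B)⁻¹) := by
  have hj : C.sp l = u⁻¹ * C.sp (2 * l) * v * C.sp (-l) * (u⁻¹ * v)⁻¹ := by
    obtain ⟨z, hz, e, fz⟩ := C.exists_coord (C.U.inv_mem hu) hv (2 * l) (-l)
    rw [e, mul_inv_cancel_right]
    refine C.f_injOn (C.sp_mem l) hz ?_
    rw [C.f_sp, fz, C.psi_inv hu, map_neg, map_mul, map_ofNat]
    have hu0 := (C.psi_spec u hu).1
    field_simp
    linear_combination C.ι l * huv
  have hM : C.sp (3 * l) * C.sig (-l) v * C.sp (-(2 * l)) = A * C.sp r * B := by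
    obtain ⟨z, hz, e, fz⟩ := C.exists_coord C.U.one_mem (C.sig_mem (-l) hv) (3 * l) (-(2 * l))
    rw [one_mul, one_mul] at e
    rw [C.psi_one, one_mul, hr] at fz
    rw [e, ← hB, ← mul_assoc]
    congr 1
    rw [← mul_inv_eq_iff_eq_mul.1 (C.f_injOn (C.conj_mem_P hA (C.sp_mem r)) hz
      (by rw [C.f_conj hA (C.sp_mem r), fz, C.f_sp]))]
  have e0 := C.hexagon (a := -(3 * l)) (J := l) (c := 2 * l) (by ring)
  have e1 := C.hexagon (a := -(3 * l)) (J := 2 * l) (c := l) (by ring)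
  have e2 := C.hexagon (a := -l) (J := -l) (c := 2 * l) (by ring)
  rw [neg_neg] at e0 e1
  rw [neg_neg] at e2
  have hmid : C.tp (-(3 * l)) * C.sp (2 * l) * v * C.sp (-l) * C.tp (2 * l) =
      C.sp (-l) * C.sig (-(2 * l)) A * (C.tp (-(2 * l)) * C.sp r * C.tp l) *
        C.sig (-l) B * C.sp l := by
    calc C.tp (-(3 * l)) * C.sp (2 * l) * v * C.sp (-l) * C.tp (2 * l)
        = (C.tp (-(3 * l)) * C.sp (2 * l) * C.tp l) * C.sig (-l) v *
            (C.tp (-l) * C.sp (-l) * C.tp (2 * l)) := by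
          simp only [sig, C.tp_neg, inv_inv]; group
      _ = C.sp (-l) * (C.tp (-(2 * l)) * (C.sp (3 * l) * C.sig (-l) v * C.sp (-(2 * l))) *
            C.tp l) * C.sp l := by rw [e1, e2]; group
      _ = _ := by
          rw [hM]
          simp only [sig, C.tp_neg, inv_inv]; group
  have hall : C.sp (-(2 * l)) * C.tp (-l) * C.sp (3 * l) =
      (C.sig (-(3 * l)) u)⁻¹ * (C.sp (-l) * C.sig (-(2 * l)) A *
        (C.tp (-(2 * l)) * C.sp r * C.tp l) * C.sig (-l) B * C.sp l) *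
        (C.sig (-(2 * l)) (u⁻¹ * v))⁻¹ := by
    rw [← hmid, ← e0, hj]
    simp only [sig, C.tp_neg, inv_inv]; group
  calc C.tp (-(2 * l)) * C.sp r * C.tp l
      = (C.sp (-l) * C.sig (-(2 * l)) A)⁻¹ * C.sig (-(3 * l)) u *
          ((C.sig (-(3 * l)) u)⁻¹ * (C.sp (-l) * C.sig (-(2 * l)) A *
            (C.tp (-(2 * l)) * C.sp r * C.tp l) * C.sig (-l) B * C.sp l) *
            (C.sig (-(2 * l)) (u⁻¹ * v))⁻¹) * C.sig (-(2 * l)) (u⁻¹ * v) *
          (C.sig (-l) B * C.sp l)⁻¹ := by group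
    _ = _ := by
        rw [← hall]
        simp only [C.sp_neg, mul_inv_rev, inv_inv]; group

theorem exists_ι_of_pow {x : F} (hx : x ^ p = x) : ∃ a : ZMod p, C.ι a = x := by
  classical
  have hsub : (Finset.univ.image C.ι : Finset F) ⊆ Finset.univ.filter fun x => x ^ p = x := by
    intro x hx
    obtain ⟨y, -, rfl⟩ := Finset.mem_image.1 hx
    simp [C.ι_pow]
  have hle : (Finset.univ.filter fun x : F => x ^ p = x).card ≤ p := by
    have hp1 := (Fact.out : p.Prime).one_lt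
    have hne : (Polynomial.X ^ p - Polynomial.X : Polynomial F) ≠ 0 :=
      FiniteField.X_pow_card_sub_X_ne_zero F hp1
    refine le_trans (Finset.card_le_card
      (t := (Polynomial.X ^ p - Polynomial.X : Polynomial F).roots.toFinset) ?_) ?_
    · intro y hy
      rw [Finset.mem_filter] at hy
      simp [hne, hy.2]
    · refine le_trans (Multiset.toFinset_card_le _) (le_trans (Polynomial.card_roots' _) ?_)
      rw [FiniteField.X_pow_card_sub_X_natDegree_eq F hp1]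
  have heq := Finset.eq_of_subset_of_card_le hsub (hle.trans_eq (by
    rw [Finset.card_image_of_injective _ C.ι.injective, Finset.card_univ, ZMod.card]))
  have hmem : x ∈ Finset.univ.filter (fun x : F => x ^ p = x) := by simpa using hx
  rw [← heq] at hmem
  obtain ⟨y, -, hy⟩ := Finset.mem_image.1 hmem
  exact ⟨y, hy⟩

theorem natCast_normExp (hq : q ≠ 0) : ((normExp p q : ℕ) : ZMod p) = 1 := by
  obtain ⟨k, rfl⟩ : ∃ k, q = k + 1 := ⟨q - 1, by omega⟩
  rw [normExp_eq_sum (Fact.out : p.Prime).two_le, Finset.sum_range_succ']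
  simp

/-- Every nonzero field element is a product of a scalar and an element of `ψ U`. -/
theorem decomp [Finite G] {z : F} (hz : z ≠ 0) :
    ∃ r : ZMod p, r ≠ 0 ∧ ∃ A ∈ C.U, z = C.ψ A * C.ι r := by
  have h1 := pow_normExp_pow_pred (p := p) C.card_field hz
  have hp := (Fact.out : p.Prime).two_le
  obtain ⟨c, hc⟩ := C.exists_ι_of_pow (x := z ^ normExp p q) (by
    calc (z ^ normExp p q) ^ p = (z ^ normExp p q) ^ (p - 1) * z ^ normExp p q := by
          rw [← pow_succ, Nat.sub_add_cancel (by omega)]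
      _ = _ := by rw [h1, one_mul])
  have hc0 : c ≠ 0 := fun h => pow_ne_zero _ hz (by rw [← hc, h, map_zero])
  have hcard : (Nat.card (ZMod p)ˣ).Coprime (normExp p q) := by
    rw [Nat.card_eq_fintype_card, ZMod.card_units]
    exact C.coprime.symm
  obtain ⟨r, hr⟩ := (powCoprime hcard).surjective (Units.mk0 c hc0)
  have hr' : (r : ZMod p) ^ normExp p q = c := by
    have := congrArg Units.val hr
    simpa [powCoprime] using this
  have hι : C.ι (r : ZMod p) ≠ 0 := (map_ne_zero C.ι).2 r.ne_zero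
  obtain ⟨A, hA, hψ⟩ := C.exists_psi (a := z / C.ι r) (by
    rw [div_pow, ← map_pow, hr', hc, div_self (pow_ne_zero _ hz)])
  exact ⟨r, r.ne_zero, A, hA, by rw [hψ, div_mul_cancel₀ _ hι]⟩

theorem omega_identity (a b l r : ZMod p) :
    C.sp (-a) * (C.tp (-(2 * l)) * C.sp r * C.tp l) * C.sp (-b) * C.tp l =
      C.xx (-a) * (C.xx (-(2 * l) - a))⁻¹ * C.xx (r - a - 2 * l) * (C.xx (r - a - l))⁻¹ *
        C.xx (r - a - b - l) * (C.xx (r - a - b))⁻¹ * C.sp (r - a - b) := by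
  simp only [tp, xx, mul_inv_rev, inv_inv, ← C.sp_neg, neg_neg, mul_assoc, sp_merge, ← C.sp_add]
  ring_nf
  simp [C.sp_zero]

theorem eq_one_of_Q [Finite G] {g : G} (hg : g ∈ C.Q) (hgp : g ^ p = 1) : g = 1 := by
  have := Nat.dvd_gcd (Subgroup.orderOf_dvd_natCard _ hg) (orderOf_dvd_of_pow_eq_one hgp)
  rwa [C.Q_coprime, Nat.dvd_one, orderOf_eq_one_iff] at this

/-- The relation forced by uniqueness of double coset factorisations. -/
theorem relation [Finite G] {a b l r : ZMod p}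
    (hU : C.sp (-a) * (C.tp (-(2 * l)) * C.sp r * C.tp l) * C.sp (-b) * C.tp l ∈ C.U) :
    r = a + b ∧ C.xx (-a) * (C.xx (-(2 * l) - a))⁻¹ * C.xx (b - 2 * l) * (C.xx (b - l))⁻¹ *
        C.xx (-l) * (C.xx 0)⁻¹ = 1 := by
  rw [C.omega_identity] at hU
  set π := C.xx (-a) * (C.xx (-(2 * l) - a))⁻¹ * C.xx (r - a - 2 * l) * (C.xx (r - a - l))⁻¹ *
    C.xx (r - a - b - l) * (C.xx (r - a - b))⁻¹ with hπdef
  set E := r - a - b with hE
  have hπ : π ∈ C.Q := by
    refine C.Q.mul_mem (C.Q.mul_mem (C.Q.mul_mem (C.Q.mul_mem (C.Q.mul_mem ?_ ?_) ?_) ?_) ?_) ?_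
    all_goals first | exact C.xx_mem _ | exact C.Q.inv_mem (C.xx_mem _)
  have key : ∀ k : ℕ, ∃ w ∈ C.Q, (π * C.sp E) ^ k = w * C.sp ((k : ZMod p) * E) := by
    intro k
    induction k with
    | zero => exact ⟨1, C.Q.one_mem, by simp [C.sp_zero]⟩
    | succ k ih =>
      obtain ⟨w, hw, e⟩ := ih
      refine ⟨w * (C.sp ((k : ZMod p) * E) * π * (C.sp ((k : ZMod p) * E))⁻¹),
        C.Q.mul_mem hw (C.sp_norm_Q _ hπ), ?_⟩
      rw [pow_succ, e, Nat.cast_succ, add_mul, one_mul, C.sp_add]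
      group
  have hE0 : E = 0 := by
    obtain ⟨w, hw, e⟩ := key (normExp p q)
    have hpow : (π * C.sp E) ^ normExp p q = 1 := by
      rw [← C.card_U_eq]
      exact congrArg Subtype.val (pow_card_eq_one' (x := (⟨_, hU⟩ : C.U)))
    rw [hpow, natCast_normExp C.q_prime.ne_zero, one_mul] at e
    have hQE : C.sp E ∈ C.Q := by
      rw [show C.sp E = w⁻¹ from eq_inv_of_mul_eq_one_right e.symm]
      exact C.Q.inv_mem hw
    exact C.sp_eq_one (C.eq_one_of_Q hQE (by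
      rw [← C.sp_mul_cast, ZMod.natCast_self, zero_mul, C.sp_zero]))
  have hr : r = a + b := by linear_combination hE0
  refine ⟨hr, ?_⟩
  rw [hE0, C.sp_zero, mul_one] at hU
  have h := C.U_inf_Q hU hπ
  rw [hπdef, hE0, show r - a - 2 * l = b - 2 * l by rw [hr]; ring,
    show r - a - l = b - l by rw [hr]; ring, zero_sub] at h
  exact h

/-- The relation, with the Sidon property, pins down `a`. -/
theorem solve_relation [Finite G] {a b l r : ZMod p} (hl : l ≠ 0) (hr0 : r ≠ 0) (hr : r = a + b)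
    (hrel : C.xx (-a) * (C.xx (-(2 * l) - a))⁻¹ * C.xx (b - 2 * l) * (C.xx (b - l))⁻¹ *
        C.xx (-l) * (C.xx 0)⁻¹ = 1) : a = -l := by
  haveI := C.Q_comm
  let X : ZMod p → C.Q := fun m => ⟨C.xx m, C.xx_mem m⟩
  let Φ : ZMod p → C.Q := fun m =>
    X (-a - 2 * l + m) * X (-a - l + m) * (X (b - 2 * l + m))⁻¹ * (X (-l + m))⁻¹
  have hstep : ∀ m, Φ (l + m) = Φ m := by
    intro m
    have h : C.sp m * (C.xx (-a) * (C.xx (-(2 * l) - a))⁻¹ * C.xx (b - 2 * l) *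
        (C.xx (b - l))⁻¹ * C.xx (-l) * (C.xx 0)⁻¹) * (C.sp m)⁻¹ = 1 := by
      rw [hrel]; group
    simp only [← conj_mul, ← conj_inv, C.xx_shift, add_zero] at h
    have h' : X (m + -a) * (X (m + (-(2 * l) - a)))⁻¹ * X (m + (b - 2 * l)) *
        (X (m + (b - l)))⁻¹ * X (m + -l) * (X m)⁻¹ = 1 := Subtype.ext (by simpa [X] using h)
    rw [← mul_inv_eq_one, ← h']
    simp only [Φ]
    rw [show -a - 2 * l + (l + m) = -a - l + m by ring,
      show -a - l + (l + m) = m + -a by ring, show b - 2 * l + (l + m) = m + (b - l) by ring,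
      show -l + (l + m) = m by ring, show m + (-(2 * l) - a) = -a - 2 * l + m by ring,
      show m + (b - 2 * l) = b - 2 * l + m by ring, show m + -l = -l + m by ring]
    simp only [mul_inv_rev, inv_inv, mul_comm, mul_left_comm, mul_assoc,
      mul_inv_cancel_left]
  have hconst : ∀ m, Φ m = Φ 0 := by
    have hk : ∀ k : ℕ, Φ ((k : ZMod p) * l) = Φ 0 := by
      intro k
      induction k with
      | zero => simp
      | succ k ih =>
        rw [← ih, Nat.cast_succ, add_mul, one_mul, add_comm]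
        exact hstep _
    intro m
    have := hk (m / l).val
    rwa [ZMod.natCast_rightInverse, div_mul_cancel₀ _ hl] at this
  have hprod : ∏ m, Φ m = 1 := by
    have hc : ∀ c, ∏ m, X (c + m) = ∏ m, X m := fun c =>
      Fintype.prod_equiv (Equiv.addLeft c) _ _ fun m => rfl
    simp only [Φ, Finset.prod_mul_distrib, Finset.prod_inv_distrib, hc]
    simp
  have hΦ : Φ (2 * l) = 1 := by
    rw [hconst]
    apply Subtype.ext
    refine C.eq_one_of_Q (Φ 0).2 ?_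
    rw [Finset.prod_congr rfl fun m _ => hconst m, Finset.prod_const, Finset.card_univ,
      ZMod.card] at hprod
    exact (congrArg Subtype.val hprod :)
  simp only [Φ] at hΦ
  rw [show -a - 2 * l + 2 * l = -a by ring, show -a - l + 2 * l = l - a by ring,
    show b - 2 * l + 2 * l = b by ring, show -l + 2 * l = l by ring, mul_inv_eq_one,
    mul_inv_eq_iff_eq_mul] at hΦ
  have h' : X b * (X (-a))⁻¹ = X (l - a) * (X l)⁻¹ := by
    rw [mul_inv_eq_iff_eq_mul, mul_assoc, mul_comm (X l)⁻¹, ← mul_assoc, eq_mul_inv_iff_mul_eq,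
      mul_comm (X (l - a)), hΦ, mul_comm]
  have h'' := congrArg Subtype.val h'
  simp only [X, Subgroup.coe_mul, Subgroup.coe_inv] at h''
  have hne : b ≠ -a := fun h => hr0 (by rw [hr, h, add_neg_cancel])
  obtain ⟨-, h2⟩ := C.sidon h'' hne
  linear_combination -h2

/-- Membership in the pair set, seen in `U`. -/
def InE (u : G) : Prop := u ∈ C.U ∧ ∃ v ∈ C.U, C.ψ u + C.ψ v = 2

theorem two_three (hq2 : q ≠ 2) (C : Config G F p q) :
    (2 : ZMod p) ≠ 0 ∧ (3 : ZMod p) ≠ 0 := by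
  have h1 := C.q_lt
  have h2 := C.q_prime.two_le
  constructor
  · intro h
    have hdvd : p ∣ 2 := (ZMod.natCast_eq_zero_iff 2 p).1 h
    exact absurd (Nat.le_of_dvd (by norm_num) hdvd) (by omega)
  · intro h
    have hdvd : p ∣ 3 := (ZMod.natCast_eq_zero_iff 3 p).1 h
    exact absurd (Nat.le_of_dvd (by norm_num) hdvd) (by omega)

/-- Step 7. -/
theorem key [Finite G] {u : G} (hE : C.InE u) {l : ZMod p} (hl : l ≠ 0) :
    C.InE (C.sig (-(3 * l)) u)⁻¹ := by
  obtain ⟨hu, v, hv, huv⟩ := hE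
  have hw := C.sig_mem (-l) hv
  have hne : C.ι (3 * l) + C.ψ (C.sig (-l) v) * C.ι (-(2 * l)) ≠ 0 := by
    intro h
    have h3 : (3 : F) = 2 * C.ψ (C.sig (-l) v) := by
      refine mul_left_cancel₀ ((map_ne_zero C.ι).2 hl) ?_
      simp only [map_neg, map_mul, map_ofNat] at h
      linear_combination h
    have h32 : (3 : F) ≠ 2 := fun h => one_ne_zero (α := F) (by linear_combination h)
    have hfix : (3 : F) ^ p = 3 ∧ (2 : F) ^ p = 2 := by
      constructor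
      · have := C.ι_pow 3; rwa [map_ofNat] at this
      · have := C.ι_pow 2; rwa [map_ofNat] at this
    have h2F : (2 : F) ≠ 0 := fun h0 => h32 (by rw [h3, h0, zero_mul])
    set x := C.ψ (C.sig (-l) v) with hx
    have hxp : x ^ p = x := by
      refine mul_left_cancel₀ h2F ?_
      rw [← h3]
      conv_lhs => rw [← hfix.2, ← mul_pow, ← h3, hfix.1]
    have hxp1 : x ^ (p - 1) = 1 := by
      refine mul_right_cancel₀ (C.psi_spec _ hw).1 ?_
      rw [one_mul, ← pow_succ, Nat.sub_add_cancel (Fact.out : p.Prime).one_le]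
      exact hxp
    have := pow_gcd_eq_one.2 ⟨C.psi_pow_normExp hw, hxp1⟩
    rw [C.coprime, pow_one] at this
    exact h32 (by rw [h3, show x = 1 from this, mul_one])
  obtain ⟨r, hr0, A, hA, hr⟩ := C.decomp hne
  set B := A⁻¹ * C.sig (-l) v with hBdef
  have hB : A * B = C.sig (-l) v := by rw [hBdef, mul_inv_cancel_left]
  have hBm : B ∈ C.U := C.U.mul_mem (C.U.inv_mem hA) hw
  have e1 := C.key_factor hu hv hA huv hr hB
  have huvp : C.ψ (u ^ p) + C.ψ (v ^ p) = 2 := by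
    rw [C.psi_pow hu, C.psi_pow hv, ← add_pow_char, huv]
    have := C.ι_pow 2
    rwa [map_ofNat] at this
  have hrp : C.ι (3 * l) + C.ψ (C.sig (-l) (v ^ p)) * C.ι (-(2 * l)) = C.ψ (A ^ p) * C.ι r := by
    have := congrArg (· ^ p) hr
    simp only [add_pow_char, mul_pow, C.ι_pow] at this
    rwa [← C.psi_pow hw, ← C.sig_pow, ← C.psi_pow hA] at this
  have hBp : A ^ p * B ^ p = C.sig (-l) (v ^ p) := by
    rw [C.sig_pow, ← hB, Commute.mul_pow (C.U_comm hA hBm)]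
  have e2 := C.key_factor (C.U.pow_mem hu p) (C.U.pow_mem hv p) (C.U.pow_mem hA p) huvp hrp hBp
  -- the left coordinates
  set X := C.sig (-(3 * l)) u with hX
  set Y := C.sig (-(2 * l)) A with hY
  set W := C.sig (-(2 * l)) (u⁻¹ * v) with hW
  set Z := C.sig (-l) B with hZ
  have hXm : X ∈ C.U := C.sig_mem _ hu
  have hYm : Y ∈ C.U := C.sig_mem _ hA
  have hWm : W ∈ C.U := C.sig_mem _ (C.U.mul_mem (C.U.inv_mem hu) hv)
  have hZm : Z ∈ C.U := C.sig_mem _ hBm
  have hWp : C.sig (-(2 * l)) ((u ^ p)⁻¹ * v ^ p) = W ^ p := by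
    rw [hW, ← C.sig_pow, Commute.mul_pow (C.U_comm (C.U.inv_mem hu) hv), inv_pow]
  rw [hWp, C.sig_pow, C.sig_pow, C.sig_pow] at e2
  rw [← hX, ← hY, ← hZ] at e2
  obtain ⟨z₁, hz₁, ez₁, fz₁⟩ := C.exists_coord (C.U.inv_mem hYm) hXm l (-(2 * l))
  obtain ⟨z₂, hz₂, ez₂, fz₂⟩ :=
    C.exists_coord (C.U.inv_mem (C.U.pow_mem hYm p)) (C.U.pow_mem hXm p) l (-(2 * l))
  obtain ⟨z₃, hz₃, ez₃, fz₃⟩ := C.exists_coord hZm (C.U.inv_mem hWm) l (-(3 * l))
  obtain ⟨z₄, hz₄, ez₄, fz₄⟩ :=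
    C.exists_coord (C.U.pow_mem hZm p) (C.U.inv_mem (C.U.pow_mem hWm p)) l (-(3 * l))
  rw [ez₁] at e1
  rw [ez₂] at e2
  have hr1 : C.sp (3 * l) * W * C.sp (-l) * Z⁻¹ = (z₃ * (Z * W⁻¹))⁻¹ := by
    rw [← ez₃]; simp only [C.sp_neg, mul_inv_rev, inv_inv]; group
  have hr2 : C.sp (3 * l) * W ^ p * C.sp (-l) * (Z ^ p)⁻¹
      = (z₄ * (Z ^ p * (W ^ p)⁻¹))⁻¹ := by
    rw [← ez₄]; simp only [C.sp_neg, mul_inv_rev, inv_inv]; group
  rw [hr1] at e1
  rw [hr2] at e2
  have m1 := C.U.mul_mem (C.U.inv_mem hYm) hXm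
  have m2 := C.U.mul_mem (C.U.inv_mem (C.U.pow_mem hYm p)) (C.U.pow_mem hXm p)
  have m3 := C.U.mul_mem hZm (C.U.inv_mem hWm)
  have m4 := C.U.mul_mem (C.U.pow_mem hZm p) (C.U.inv_mem (C.U.pow_mem hWm p))
  have h12 : z₁ = z₂ := C.coord_unique (neg_ne_zero.2 hl) hz₁ m1 hz₂ m2
    (C.H.inv_mem ⟨z₃, hz₃, _, m3, rfl⟩) (C.H.inv_mem ⟨z₄, hz₄, _, m4, rfl⟩) (e1.symm.trans e2)
  have h34 : z₃ = z₄ := by
    refine C.coord_unique hl hz₃ m3 hz₄ m4 (C.H.inv_mem ⟨z₁, hz₁, _, m1, rfl⟩)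
      (C.H.inv_mem ⟨z₂, hz₂, _, m2, rfl⟩) ?_
    have h := congrArg (·⁻¹) (e1.symm.trans e2)
    simpa [C.tp_neg, mul_assoc] using h
  have hfix1 : C.f z₁ ^ p = C.f z₁ := by
    conv_rhs => rw [h12, fz₂, C.psi_inv (C.U.pow_mem hYm p), C.psi_pow hYm, C.psi_pow hXm]
    rw [fz₁, C.psi_inv hYm]
    simp only [mul_pow, add_pow_char, C.ι_pow, inv_pow]
  have hfix3 : C.f z₃ ^ p = C.f z₃ := by
    conv_rhs => rw [h34, fz₄, C.psi_inv (C.U.pow_mem hWm p), C.psi_pow hWm, C.psi_pow hZm]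
    rw [fz₃, C.psi_inv hWm]
    simp only [mul_pow, add_pow_char, C.ι_pow, inv_pow]
  obtain ⟨a, ha⟩ := C.exists_ι_of_pow hfix1
  obtain ⟨b, hb⟩ := C.exists_ι_of_pow hfix3
  have hza : z₁ = C.sp a := C.f_injOn hz₁ (C.sp_mem a) (by rw [C.f_sp, ha])
  have hzb : z₃ = C.sp b := C.f_injOn hz₃ (C.sp_mem b) (by rw [C.f_sp, hb])
  rw [hza, hzb] at e1
  have hΩ : C.sp (-a) * (C.tp (-(2 * l)) * C.sp r * C.tp l) * C.sp (- -b) * C.tp l ∈ C.U := by
    rw [e1, neg_neg]
    have h := C.U.mul_mem m1 (C.sig_mem (-l) (C.U.inv_mem m3))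
    have h' : C.sp (-a) * (C.sp a * (Y⁻¹ * X) * C.tp (-l) * (C.sp b * (Z * W⁻¹))⁻¹) * C.sp b *
        C.tp l = Y⁻¹ * X * C.sig (-l) (Z * W⁻¹)⁻¹ := by
      simp only [sig, neg_neg, C.sp_neg]; group
    rw [h']; exact h
  obtain ⟨hrab, hrel⟩ := C.relation hΩ
  have haa : a = -l := C.solve_relation hl hr0 hrab hrel
  -- conclude
  refine ⟨C.U.inv_mem hXm, Y * X⁻¹, C.U.mul_mem hYm (C.U.inv_mem hXm), ?_⟩
  have hX0 := (C.psi_spec X hXm).1
  have hY0 := (C.psi_spec Y hYm).1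
  have hfin : 2 * C.ψ X - 1 = C.ψ Y := by
    have h := fz₁
    rw [← ha, haa, C.psi_inv hYm, map_neg, map_neg, map_mul, map_ofNat] at h
    refine mul_left_cancel₀ ((map_ne_zero C.ι).2 hl) ?_
    field_simp at h
    linear_combination h
  rw [C.psi_mul Y hYm _ (C.U.inv_mem hXm), C.psi_inv hXm, ← hfin]
  field_simp
  ring

/-- The pair set is closed under inversion. -/
theorem inE_inv [Finite G] (hq2 : q ≠ 2) {u : G} (hE : C.InE u) : C.InE u⁻¹ := by
  obtain ⟨h2, h3⟩ := C.two_three hq2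
  have step : ∀ (m : ZMod p), m ≠ 0 → ∀ w, C.InE w → C.InE (C.sig m w)⁻¹ := by
    intro m hm w hw
    have := C.key hw (l := -m / 3) (div_ne_zero (neg_ne_zero.2 hm) h3)
    rwa [mul_div_cancel₀ _ h3, neg_neg] at this
  have e1 := step 1 one_ne_zero _ (step 1 one_ne_zero _ hE)
  rw [C.sig_inv, inv_inv, C.sig_sig] at e1
  have e2 := step (-2) (neg_ne_zero.2 h2) _ e1
  rwa [C.sig_sig, show (-2 : ZMod p) + (1 + 1) = 0 by ring, C.sig_zero] at e2

/-- The configuration does not exist. -/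
theorem false_of_config [Finite G] (C : Config G F p q) : False := by
  have hq2 : q ≠ 2 := by
    intro hq
    have h := C.coprime
    have h3 := C.three_le
    have hpodd : ¬ (2 : ℕ) ∣ p := fun hd => by
      have := (Nat.prime_dvd_prime_iff_eq Nat.prime_two (Fact.out : p.Prime)).1 hd
      omega
    have hn : normExp p q = 1 + p := by
      rw [normExp_eq_sum (Fact.out : p.Prime).two_le, hq]
      simp [Finset.sum_range_succ]
    rw [hn] at h
    have hd : 2 ∣ Nat.gcd (1 + p) (p - 1) := Nat.dvd_gcd (by omega) (by omega)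
    rw [h] at hd
    omega
  have hp2 : p ≠ 2 := by have := C.three_le; omega
  obtain ⟨a, ha1, ha2, hane⟩ := exists_pair C.card_field hp2 C.q_prime hq2
  refine absurd C.q_lt (not_lt.2 (le_of_inverse_closed C.card_field C.q_prime.ne_zero ?_
    ha1 ha2 hane))
  intro b hb1 hb2
  obtain ⟨u, hu, hψu⟩ := C.exists_psi hb1
  obtain ⟨v, hv, hψv⟩ := C.exists_psi hb2
  obtain ⟨hu', v', hv', h'⟩ := C.inE_inv hq2 ⟨hu, v, hv, by rw [hψu, hψv]; ring⟩
  rw [C.psi_inv hu, hψu] at h'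
  rw [show 2 - b⁻¹ = C.ψ v' by linear_combination -h']
  exact C.psi_pow_normExp hv'

end Config

end Cfsg.Agent.Lib.CFun.AppendixC
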