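import Cfsg.Agent.Lib.CFun.IndexP
import Cfsg.Agent.Lib.Fusion.Residual
import Cfsg.Agent.Lib.Fusion.Transfer

/-!
# Normalizers of self-centralizing subgroups of a Sylow subgroup with a `p`-group automizer
-/

set_option autoImplicit false
set_option linter.style.haveILetI false

open Subgroup

namespace CfsgLib.CFun

universe u

theorem hasNormalPComplement_normalizer_of_automizer {G : Type u} [Group G] [Finite G] {p : ℕ}
    [Fact p.Prime] (S : Sylow p G) (T : Subgroup G)
    (hTn : (S : Subgroup G) ≤ normalizer (T : Set G))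
    (hC : (S : Subgroup G) ⊓ centralizer (T : Set G) ≤ T)
    (hN : ∀ g ∈ normalizer (T : Set G), (orderOf g).Coprime p → g ∈ centralizer (T : Set G)) :
    Cfsg.HasNormalPComplement p (normalizer (T : Set G)) := by
  set H := normalizer (T : Set G)
  set C := (centralizer (T : Set G)).subgroupOf H
  haveI : C.Normal := inferInstance
  let P : Sylow p H := S.subtype hTn
  set R := (P : Subgroup H) ⊓ C with hR
  have hRi : ¬ p ∣ R.relIndex C := CfsgLib.Fusion.not_dvd_relIndex_inf_of_normal P C
  have hRp : IsPGroup p R := P.2.to_le inf_le_left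
  let Q : Sylow p C := (hRp.of_equiv (Subgroup.subgroupOfEquivOfLe inf_le_right).symm).toSylow hRi
  have hmapQ : (Q : Subgroup C).map C.subtype = R := map_subgroupOf_eq_of_le inf_le_right
  have hcomp : Cfsg.HasNormalPComplement p C := by
    refine CfsgLib.Fusion.hasNormalPComplement_of_normalizer_le_centralizer Q fun c _ => ?_
    refine mem_centralizer_iff.2 fun r hr => Subtype.ext (Subtype.ext ?_)
    obtain ⟨hrP, hrC⟩ := mem_inf.1 (hmapQ.le (mem_map_of_mem _ hr))
    have hrT : ((r : H) : G) ∈ T := hC (mem_inf.2 ⟨hrP, hrC⟩)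
    exact mem_centralizer_iff.1 (show ((c : H) : G) ∈ centralizer (T : Set G) from c.2) _ hrT
  haveI := CfsgLib.Fusion.pResidual_normal (G := C) (p := p)
  set M := (Cfsg.pResidual p C).map C.subtype with hM
  have hMp : ¬ p ∣ Nat.card M := by
    rw [hM, Subgroup.card_map_of_injective C.subtype_injective]
    exact CfsgLib.Fusion.hasNormalPComplement_iff_not_dvd.1 hcomp
  haveI hMn : M.Normal := by
    haveI : (Cfsg.pResidual p C).Characteristic := by
      refine characteristic_iff_map_le.2 fun e => ?_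
      rw [map_le_iff_le_comap]
      exact (closure_le _).2 fun x hx => CfsgLib.Fusion.mem_pResidual
        (Nat.Coprime.coprime_dvd_left (orderOf_map_dvd e.toMonoidHom x) hx)
    exact ConjAct.normal_of_characteristic_of_normal
  have hpow : ∀ x : H, ∃ k : ℕ, x ^ p ^ k ∈ M := by
    intro x
    obtain ⟨a, b, hab, -, -, ⟨k, hk⟩, hb⟩ := exists_parts (p := p) x
    have hbC : b ∈ C := hN b b.2 (by rwa [Subgroup.orderOf_coe])
    have hxC : x ^ p ^ k ∈ C := by
      rw [← QuotientGroup.eq_one_iff, hab, QuotientGroup.mk_pow, QuotientGroup.mk_mul,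
        (QuotientGroup.eq_one_iff b).2 hbC, mul_one, ← QuotientGroup.mk_pow, hk]
      rfl
    obtain ⟨l, hl⟩ := CfsgLib.Fusion.exists_pow_p_mem_pResidual (p := p) (⟨_, hxC⟩ : C)
    exact ⟨k + l, ⟨_, hl, by simp [pow_add, pow_mul]⟩⟩
  refine CfsgLib.Fusion.hasNormalPComplement_iff_not_dvd.2 fun hd => hMp
    (hd.trans (Subgroup.card_dvd_of_le (CfsgLib.Fusion.pResidual_le_of_isPGroup_quotient M ?_)))
  intro y
  obtain ⟨x, rfl⟩ := QuotientGroup.mk'_surjective M y
  obtain ⟨k, hk⟩ := hpow x
  exact ⟨k, by rw [← map_pow, QuotientGroup.mk'_apply, QuotientGroup.eq_one_iff]; exact hk⟩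

end CfsgLib.CFun
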