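import Cfsg.Agent.Lib.CFun.OddFitting
import Cfsg.Agent.Lib.PGroup.FpfDerived

/-!
# Invariant subgroups of solvable groups under a large subgroup of the Fitting subgroup
-/

set_option autoImplicit false
set_option linter.style.haveILetI false
set_option linter.unusedSectionVars false

open Subgroup
open scoped commutatorElement
open CfsgLib.Coprime (conj_mem_of_le_normalizer IsPiNum)

namespace CfsgLib.CFun.BenderInvariant

universe u

variable {G : Type u} [Group G] [Finite G]

theorem le_of_pgroups {M K : Subgroup G}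
    (h : ∀ t : ℕ, t.Prime → ∀ P : Subgroup G, P ≤ M → IsPGroup t P → P ≤ K) : M ≤ K := by
  have h1 : Nat.card M ∣ Nat.card (M ⊓ K : Subgroup G) := by
    rw [Nat.dvd_iff_prime_pow_dvd_dvd]
    intro t k ht hd
    haveI : Fact t.Prime := ⟨ht⟩
    obtain ⟨P, hP⟩ := Sylow.exists_subgroup_card_pow_prime t hd
    have hc : Nat.card (P.map M.subtype) = t ^ k := by
      rw [card_map_of_injective M.subtype_injective, hP]
    rw [← hc]
    exact card_dvd_of_le
      (le_inf (map_subtype_le _) (h t ht _ (map_subtype_le _) (IsPGroup.of_card hc)))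
  exact inf_eq_left.1 (eq_of_le_of_card_ge inf_le_left (Nat.le_of_dvd Nat.card_pos h1))

theorem le_core_of_normalized {X H : Subgroup G} {s : ℕ} (hX : X ≤ H)
    (hn : H ≤ normalizer (X : Set G)) (hXs : IsPGroup s X) : X ≤ core H s := by
  haveI : (X.subgroupOf H).Normal := normal_subgroupOf_of_le_normalizer hn
  exact fun x hx => ⟨⟨x, hX hx⟩, CfsgLib.Coprime.le_pCore (N := X.subgroupOf H)
    (hXs.comap_subtype) hx, rfl⟩

theorem core_le_core_of_normalized {X H : Subgroup G} {s : ℕ} [Fact s.Prime] (hX : X ≤ H)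
    (hn : H ≤ normalizer (X : Set G)) : core X s ≤ core H s := by
  haveI := CfsgLib.Coprime.pCore_characteristic (G := X) s
  exact le_core_of_normalized (core_le.trans hX)
    (hn.trans (CfsgLib.PGroup.le_normalizer_map_char (Cfsg.pCore s X))) isPGroup_core

theorem le_piCoreOf {π : Set ℕ} {K R : Subgroup G} (hKR : K ≤ R)
    (hn : R ≤ normalizer (K : Set G)) (hπ : IsPiNum π (Nat.card K)) :
    K ≤ Cfsg.piCoreOf π R := by
  haveI : (K.subgroupOf R).Normal := normal_subgroupOf_of_le_normalizer hn
  intro x hx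
  exact ⟨⟨x, hKR hx⟩, CfsgLib.Coprime.le_piCore (hN := inferInstance)
    (by rwa [Nat.card_congr (subgroupOfEquivOfLe hKR).toEquiv]) hx, rfl⟩

/-- The hypotheses: `H` controls the centralisers of the centres of its cores, `M` is a
self-centralising subgroup of the Fitting subgroup, and `R` is solvable and invariant. -/
structure Data (H M R : Subgroup G) : Prop where
  two : 2 ≤ (Nat.card (Cfsg.fittingOf H)).primeFactors.card
  cent : ∀ r ∈ (Nat.card (Cfsg.fittingOf H)).primeFactors, centralizer (zCore H r : Set G) ≤ H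
  le : M ≤ Cfsg.fittingOf H
  self : Cfsg.fittingOf H ⊓ centralizer (M : Set G) ≤ M
  solv : Group.IsSolvable R
  invM : M ≤ normalizer (R : Set G)
  invX : H ⊓ centralizer (Cfsg.fittingOf H : Set G) ≤ normalizer (R : Set G)

variable {H M R : Subgroup G} (d : Data H M R)
include d

local notation "nF" => Nat.card (Cfsg.fittingOf H)

theorem Data.zCore_le {s : ℕ} [Fact s.Prime] : zCore H s ≤ M :=
  (le_inf (zCore_le_center.trans inf_le_left)
    (zCore_le_center.trans (inf_le_right.trans (centralizer_le d.le)))).trans d.self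

theorem Data.coprime {X Y : Subgroup G} (hX : X ≤ M)
    (hY : IsPiNum (Cfsg.primesNotDvd nF) (Nat.card Y)) : (Nat.card X).Coprime (Nat.card Y) :=
  Nat.coprime_of_dvd fun k hk hkX hkY => (hY k hk hkY).2
    (hkX.trans (card_dvd_of_le (hX.trans d.le)))

theorem Data.solvable {Y : Subgroup G} (hY : Y ≤ R) : Group.IsSolvable Y :=
  haveI := d.solv
  Group.isSolvable_of_isSolvable_injective (inclusion_injective hY)

theorem Data.core_inf_centralizer_le {r : ℕ} [Fact r.Prime] :
    core H r ⊓ centralizer ((M ⊓ core H r : Subgroup G) : Set G) ≤ M := by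
  refine fun x hx => d.self ⟨core_le_fittingOf hx.1, ?_⟩
  have h1 : M ≤ centralizer ({x} : Set G) := by
    refine le_of_pgroups fun t ht P hP hPt => fun y hy => ?_
    haveI : Fact t.Prime := ⟨ht⟩
    have hyc : y ∈ core H t := le_core_of_le_fittingOf (hP.trans d.le) hPt hy
    refine mem_centralizer_singleton_iff.2 ?_
    rcases eq_or_ne t r with rfl | hne
    · exact mem_centralizer_iff.1 hx.2 y ⟨hP hy, hyc⟩
    · exact mem_centralizer_iff.1 ((le_centralizer_of_inf_eq_bot (core_le.trans le_normalizer_core)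
        (core_le.trans le_normalizer_core) (inf_eq_bot_of_isPGroup isPGroup_core
          (not_dvd_of_isPGroup hne isPGroup_core))) hx.1) y hyc
  exact mem_centralizer_iff.2 fun m hm => mem_centralizer_singleton_iff.1 (h1 hm)

/-- No nontrivial `π'`-element of `R` centralises `M`. -/
theorem Data.eq_one {y : G} (hyR : y ∈ R) (hyM : y ∈ centralizer (M : Set G))
    (hy : IsPiNum (Cfsg.primesNotDvd nF) (Nat.card (zpowers y))) : y = 1 := by
  have hyH : y ∈ H := by
    obtain ⟨r, hr⟩ := Finset.card_pos.1 (lt_of_lt_of_le Nat.two_pos d.two)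
    haveI : Fact r.Prime := ⟨Nat.prime_of_mem_primeFactors hr⟩
    exact d.cent r hr (centralizer_le d.zCore_le hyM)
  have hyF : y ∈ centralizer (Cfsg.fittingOf H : Set G) := by
    refine zpowers_le.1 (le_centralizer_iff.1 (fittingOf_le_of_cores fun t ht => ?_))
    haveI : Fact t.Prime := ⟨ht⟩
    by_cases htF : t ∣ nF
    · refine le_centralizer_iff.1 (CfsgLib.Coprime.pq_lemma (P := M ⊓ core H t) (U := core H t)
        (isPGroup_core.to_le inf_le_right) ?_ isPGroup_core ?_
        (inf_le_right.trans (core_le.trans le_normalizer_core))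
        ((zpowers_le.2 hyH).trans le_normalizer_core) ?_)
      · exact ((Nat.Prime.coprime_iff_not_dvd ht).2 fun hd => (hy t ht hd).2 htF).symm
      · exact le_centralizer_iff.1 ((zpowers_le.2 hyM).trans (centralizer_le inf_le_left))
      · exact d.core_inf_centralizer_le.trans (le_centralizer_iff.1 (zpowers_le.2 hyM))
    · rw [show core H t = ⊥ from by_contra fun hb => htF (dvd_of_core_ne_bot hb)]
      exact bot_le
  set X := H ⊓ centralizer (Cfsg.fittingOf H : Set G) with hX
  set T := R ⊓ X with hT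
  have hXn : H ≤ normalizer (X : Set G) := CfsgLib.Coprime.inf_le_normalizer le_normalizer
    (le_normalizer_fittingOf.trans (CfsgLib.Coprime.normalizer_le_normalizer_centralizer _))
  have hTn : X ≤ normalizer (T : Set G) :=
    CfsgLib.Coprime.inf_le_normalizer d.invX le_normalizer
  have hTF : Cfsg.fittingOf T ≤ Cfsg.fittingOf H := fittingOf_le_of_cores fun t ht => by
    haveI : Fact t.Prime := ⟨ht⟩
    exact ((core_le_core_of_normalized inf_le_right hTn).trans
      (core_le_core_of_normalized inf_le_left hXn)).trans core_le_fittingOf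
  haveI : Group.IsSolvable T := d.solvable inf_le_left
  have hTF' : T ≤ Cfsg.fittingOf H :=
    ((le_inf le_rfl (inf_le_right.trans (inf_le_right.trans (centralizer_le hTF)))).trans
      centralizer_fittingOf_le).trans hTF
  have hdvd := card_dvd_of_le (zpowers_le.2 (hTF' ⟨hyR, hyH, hyF⟩))
  rw [← zpowers_eq_bot, eq_bot_iff_card]
  by_contra hne
  obtain ⟨t, ht, htd⟩ := Nat.exists_prime_and_dvd hne
  exact (hy t ht htd).2 (htd.trans hdvd)

theorem Data.inf_centralizer_eq_bot {Y : Subgroup G} (hYR : Y ≤ R)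
    (hMY : M ≤ normalizer (Y : Set G)) (hY : IsPiNum (Cfsg.primesNotDvd nF) (Nat.card Y))
    {r : ℕ} (hr : r ∈ (nF).primeFactors) :
    Y ⊓ centralizer ((M ⊓ core H r : Subgroup G) : Set G) = ⊥ := by
  haveI : Fact r.Prime := ⟨Nat.prime_of_mem_primeFactors hr⟩
  rw [eq_bot_iff]
  intro x hx
  have hxH : x ∈ H :=
    d.cent r hr (centralizer_le (le_inf d.zCore_le CfsgLib.CFun.zCore_le) hx.2)
  have hbot : Cfsg.fittingOf H ⊓ Y = ⊥ := by
    rw [eq_bot_iff_card]
    by_contra hne
    obtain ⟨t, ht, htd⟩ := Nat.exists_prime_and_dvd hne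
    exact (hY t ht (htd.trans (card_dvd_of_le inf_le_right))).2
      (htd.trans (card_dvd_of_le inf_le_left))
  refine mem_bot.2 (d.eq_one (hYR hx.1) (mem_centralizer_iff.2 fun m hm => ?_)
    (hY.of_dvd (card_dvd_of_le (zpowers_le.2 hx.1))))
  have h1 : x * m * x⁻¹ * m⁻¹ ∈ Cfsg.fittingOf H ⊓ Y := by
    refine ⟨mul_mem (conj_mem_of_le_normalizer le_normalizer_fittingOf hxH (d.le hm))
      ((Cfsg.fittingOf H).inv_mem (d.le hm)), ?_⟩
    have := mul_mem hx.1 (conj_mem_of_le_normalizer hMY hm (Y.inv_mem hx.1))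
    simpa [mul_assoc] using this
  rw [hbot, mem_bot, mul_inv_eq_one, mul_inv_eq_iff_eq_mul] at h1
  exact h1.symm

theorem Data.le_normalizer_piCoreOf {π : Set ℕ} :
    M ≤ normalizer (Cfsg.piCoreOf π R : Set G) :=
  d.invM.trans (le_normalizer_piCoreOf_of_le R)

/-- An invariant `π'`-subgroup of `R` lies in `O_{π'}(R)`. -/
theorem Data.le_piCore {Y : Subgroup G} (hYR : Y ≤ R) (hMY : M ≤ normalizer (Y : Set G))
    (hY : IsPiNum (Cfsg.primesNotDvd nF) (Nat.card Y)) :
    Y ≤ Cfsg.piCoreOf (Cfsg.primesNotDvd nF) R := by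
  set O := Cfsg.piCoreOf (Cfsg.primesNotDvd nF) R with hO
  set L := R ⊔ M with hL
  have hRL : R ≤ L := le_sup_left
  have hML : M ≤ L := le_sup_right
  have hOR : O ≤ R := piCoreOf_le R
  have hLR : L ≤ normalizer (R : Set G) := sup_le le_normalizer d.invM
  have hLO : L ≤ normalizer (O : Set G) := hLR.trans (le_normalizer_piCoreOf_of_le R)
  haveI : (O.subgroupOf L).Normal := normal_subgroupOf_of_le_normalizer hLO
  haveI : (R.subgroupOf L).Normal := normal_subgroupOf_of_le_normalizer hLR
  set f := QuotientGroup.mk' (O.subgroupOf L) with hf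
  set Rb := (R.subgroupOf L).map f with hRb
  set Yb := (Y.subgroupOf L).map f with hYb
  have hfs : Function.Surjective f := QuotientGroup.mk'_surjective _
  haveI : Rb.Normal := Normal.map inferInstance f hfs
  haveI : Group.IsSolvable (R.subgroupOf L) :=
    haveI := d.solv
    Group.isSolvable_of_isSolvable_injective
      (f := (subgroupOfEquivOfLe hRL).toMonoidHom) (subgroupOfEquivOfLe hRL).injective
  haveI : Group.IsSolvable Rb :=
    Group.isSolvable_of_surjective (MonoidHom.subgroupMap_surjective f (R.subgroupOf L))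
  have hYRb : Yb ≤ Rb := map_mono (comap_mono hYR)
  have hcoreN : ∀ p : ℕ, (⊤ : Subgroup (L ⧸ O.subgroupOf L)) ≤ normalizer (core Rb p : Set _) := by
    intro p
    haveI := CfsgLib.Coprime.pCore_characteristic (G := Rb) p
    refine le_trans (le_of_eq ?_) (CfsgLib.PGroup.le_normalizer_map_char (Cfsg.pCore p Rb))
    exact (normalizer_eq_top Rb).symm
  have hbot : ∀ p : ℕ, p.Prime → ¬ p ∣ nF → core Rb p = ⊥ := by
    intro p hp hpn
    haveI : Fact p.Prime := ⟨hp⟩
    haveI : (core Rb p).Normal := normalizer_eq_top_iff.1 (top_le_iff.1 (hcoreN p))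
    set K := ((core Rb p).comap f).map L.subtype with hK
    have hKR : K ≤ R := by
      rintro _ ⟨x, hx, rfl⟩
      obtain ⟨r', hr', e⟩ := core_le (H := Rb) (mem_comap.1 hx)
      have ho := QuotientGroup.eq.1 e
      rw [mem_subgroupOf, coe_mul, coe_inv] at ho
      have := mul_mem (mem_subgroupOf.1 hr') (hOR ho)
      simpa [mul_assoc] using this
    have hKO : K ≤ O := by
      haveI : ((core Rb p).comap f).Normal := Normal.comap inferInstance f
      refine le_piCoreOf hKR (hRL.trans fun x hx => le_normalizer_map L.subtype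
        ⟨⟨x, hx⟩, (normalizer_eq_top ((core Rb p).comap f)).symm ▸ mem_top _, rfl⟩) ?_
      have hle : O.subgroupOf L ≤ (core Rb p).comap f := fun x hx => by
        rw [mem_comap, show f x = 1 from (QuotientGroup.eq_one_iff x).2 hx]
        exact one_mem _
      rw [hK, card_map_of_injective L.subtype_injective,
        CfsgLib.Coprime.card_eq_card_mul_card_map_mk' _ hle,
        map_comap_eq_self_of_surjective hfs, Nat.card_congr (subgroupOfEquivOfLe (hOR.trans hRL)).toEquiv]
      refine IsPiNum.mul (isPiNum_piCoreOf R) fun t ht htd => ⟨ht, ?_⟩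
      obtain ⟨k, hk⟩ := IsPGroup.iff_card.1 (isPGroup_core (H := Rb) (s := p))
      rw [hk] at htd
      rwa [(Nat.prime_dvd_prime_iff_eq ht hp).1 (ht.dvd_of_dvd_pow htd)]
    rw [eq_bot_iff]
    intro z hz
    obtain ⟨x, rfl⟩ := hfs z
    exact mem_bot.2 ((QuotientGroup.eq_one_iff x).2
      (mem_subgroupOf.2 (hKO ⟨x, mem_comap.2 hz, rfl⟩)))
  have hcent : ∀ p : ℕ, p ∈ (nF).primeFactors → Yb ≤ centralizer (core Rb p : Set _) := by
    intro p hp
    haveI : Fact p.Prime := ⟨Nat.prime_of_mem_primeFactors hp⟩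
    obtain ⟨r, hr, hrp⟩ := Finset.exists_mem_ne (lt_of_lt_of_le Nat.one_lt_two d.two) p
    haveI : Fact r.Prime := ⟨Nat.prime_of_mem_primeFactors hr⟩
    set Mp := M ⊓ core H p with hMp
    set Mr := M ⊓ core H r with hMr
    have hMpL : Mp ≤ L := inf_le_left.trans hML
    have hMrL : Mr ≤ L := inf_le_left.trans hML
    have hMrc : Mp ≤ centralizer (Mr : Set G) :=
      (inf_le_right.trans ((le_centralizer_of_inf_eq_bot (core_le.trans le_normalizer_core)
        (core_le.trans le_normalizer_core) (inf_eq_bot_of_isPGroup isPGroup_core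
          (not_dvd_of_isPGroup hrp isPGroup_core))))).trans (centralizer_le inf_le_right)
    have hQ : (Mr.subgroupOf L).map f ≤ centralizer (core Rb p : Set _) := by
      refine CfsgLib.Coprime.pq_lemma (P := (Mp.subgroupOf L).map f)
        (((isPGroup_core (H := H) (s := p)).to_le inf_le_right).comap_subtype.map f) ?_
        isPGroup_core ?_ (le_top.trans (hcoreN p)) (le_top.trans (hcoreN p)) ?_
      · refine ((Nat.Prime.coprime_iff_not_dvd Fact.out).2 ?_).symm
        exact not_dvd_of_isPGroup hrp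
          (((isPGroup_core (H := H) (s := r)).to_le inf_le_right).comap_subtype.map f)
      · rintro _ ⟨a, ha, rfl⟩
        refine mem_centralizer_iff.2 ?_
        rintro _ ⟨b, hb, rfl⟩
        rw [← map_mul, ← map_mul]
        exact congrArg f (Subtype.ext (mem_centralizer_iff.1 (hMrc ha) b hb))
      · rintro z ⟨hzP, hzM⟩
        obtain ⟨k, hkR, rfl⟩ := core_le (H := Rb) hzP
        obtain ⟨n, hn, hkn⟩ := CfsgLib.Coprime.exists_fixed_in_coset (A := Mp) (N := O)
          (inf_le_left.trans d.le_normalizer_piCoreOf)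
          (d.coprime inf_le_left (isPiNum_piCoreOf R))
          (Or.inr (d.solvable hOR)) (k := (k : G)) (hLO k.2) fun a ha => by
            have e : f (⟨a, hMpL ha⟩ * k * ⟨a, hMpL ha⟩⁻¹ * k⁻¹) = 1 := by
              have h1 := mem_centralizer_iff.1 hzM (f ⟨a, hMpL ha⟩) ⟨_, ha, rfl⟩
              rw [map_mul, map_mul, map_mul, h1, map_inv, map_inv, mul_inv_cancel_right,
                mul_inv_cancel]
            exact mem_subgroupOf.1 ((QuotientGroup.eq_one_iff _).1 e)
        have hkH : (k : G) * n ∈ H := d.cent p hp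
          (centralizer_le (le_inf d.zCore_le CfsgLib.CFun.zCore_le) hkn)
        refine mem_centralizer_iff.2 ?_
        rintro _ ⟨m, hm, rfl⟩
        set x : L := k * ⟨n, hRL (hOR hn)⟩ with hx
        have hfx : f x = f k := by
          rw [hx, map_mul, show f ⟨n, hRL (hOR hn)⟩ = 1 from
            (QuotientGroup.eq_one_iff _).2 (mem_subgroupOf.2 hn), mul_one]
        have hc : f (x * m * x⁻¹ * m⁻¹) ∈ core Rb p ⊓ ((core H r).subgroupOf L).map f := by
          refine ⟨?_, ⟨_, mem_subgroupOf.2 (mul_mem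
            (conj_mem_of_le_normalizer le_normalizer_core hkH hm.2) (inv_mem hm.2)), rfl⟩⟩
          have h1 := mul_mem hzP (conj_mem_of_le_normalizer (hcoreN p) (mem_top (f m))
            (inv_mem hzP))
          simpa [hfx, mul_assoc] using h1
        have hb0 : core Rb p ⊓ ((core H r).subgroupOf L).map f = ⊥ :=
          inf_eq_bot_of_isPGroup isPGroup_core
            (not_dvd_of_isPGroup hrp ((isPGroup_core (H := H) (s := r)).comap_subtype.map f))
        rw [hb0, mem_bot, map_mul, map_mul, map_mul, map_inv,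
          map_inv, mul_inv_eq_one, mul_inv_eq_iff_eq_mul, hfx] at hc
        exact hc.symm
    have heq : ⁅Y, Mr⁆ = Y := by
      have h := CfsgLib.Coprime.commutator_sup_centralizer (A := Mr) (K := Y)
        (inf_le_left.trans hMY) (d.coprime inf_le_left hY) (Or.inr (d.solvable hYR))
      rwa [d.inf_centralizer_eq_bot hYR hMY hY hr, sup_bot_eq] at h
    rintro _ ⟨y, hy, rfl⟩
    have key : ⁅Y, Mr⁆ ≤ ((centralizer (core Rb p : Set _)).comap f).map L.subtype := by
      refine commutator_le.2 fun a ha b hb => ⟨⁅(⟨a, hRL (hYR ha)⟩ : L), ⟨b, hMrL hb⟩⁆, ?_, rfl⟩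
      refine mem_comap.2 ?_
      rw [commutatorElement_def, map_mul, map_mul, map_mul, map_inv, map_inv]
      exact mul_mem (conj_mem_of_le_normalizer
        ((hcoreN p).trans (CfsgLib.Coprime.normalizer_le_normalizer_centralizer _)) (mem_top _)
        (hQ ⟨_, hb, rfl⟩)) (inv_mem (hQ ⟨_, hb, rfl⟩))
    obtain ⟨y', hy', e⟩ := key (heq.symm ▸ hy : (y : G) ∈ ⁅Y, Mr⁆)
    rw [Subtype.ext e] at hy'
    exact hy'
  have hYF : Yb ≤ Cfsg.fittingOf Rb := by
    refine le_trans (le_inf hYRb (le_centralizer_iff.1 (fittingOf_le_of_cores fun p hp => ?_)))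
      centralizer_fittingOf_le
    by_cases hpn : p ∣ nF
    · exact le_centralizer_iff.1 (hcent p (Nat.mem_primeFactors.2 ⟨hp, hpn, Nat.card_pos.ne'⟩))
    · rw [hbot p hp hpn]
      exact bot_le
  have hYbot : Yb = ⊥ := by
    rw [eq_bot_iff_card]
    by_contra hne
    obtain ⟨t, ht, htd⟩ := Nat.exists_prime_and_dvd hne
    haveI : Fact t.Prime := ⟨ht⟩
    refine core_ne_bot_of_dvd (htd.trans (card_dvd_of_le hYF))
      (hbot t ht (hY t ht (htd.trans ?_)).2)
    refine (Subgroup.card_map_dvd _ f).trans (dvd_of_eq ?_)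
    exact Nat.card_congr (subgroupOfEquivOfLe (hYR.trans hRL)).toEquiv
  intro y hy
  have h1 : f ⟨y, hRL (hYR hy)⟩ ∈ Yb := ⟨_, hy, rfl⟩
  rw [hYbot, mem_bot] at h1
  exact mem_subgroupOf.1 ((QuotientGroup.eq_one_iff _).1 h1)

end CfsgLib.CFun.BenderInvariant
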