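import Cfsg.Agent.Lib.CFun.ThompsonWeak
import Cfsg.Agent.Lib.Coprime.Solvable

/-!
# The centre of a Sylow subgroup splits over the weakly closed elements
-/

set_option autoImplicit false
set_option linter.style.haveILetI false

open Subgroup
open Cfsg (thompsonSubgroupAOf)

namespace CfsgLib.CFun

universe u

variable {G : Type u} [Group G] [Finite G] {p : ℕ} [Fact p.Prime]

/-- The trace from the fixed points of a subgroup of index prime to `p` splits. -/
theorem exists_complement_fix {A M S : Subgroup G} (hSM : S ≤ M)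
    (hMA : M ≤ normalizer (A : Set G)) (hAc : ∀ a ∈ A, ∀ b ∈ A, Commute a b)
    (hAp : IsPGroup p A) (hi : ¬ p ∣ S.relIndex M) :
    ∃ K : Subgroup G, K ≤ A ⊓ centralizer (S : Set G) ∧ (A ⊓ centralizer (M : Set G)) ⊓ K = ⊥ ∧
      (A ⊓ centralizer (M : Set G)) ⊔ K = A ⊓ centralizer (S : Set G) := by
  classical
  letI : CommGroup A := { mul_comm := fun a b => Subtype.ext (hAc _ a.2 _ b.2) }
  haveI : Fintype (↥M ⧸ S.subgroupOf M) := Fintype.ofFinite _
  let cj : M → A →* A := fun m =>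
    { toFun := fun a => ⟨(m : G) * a * (m : G)⁻¹, (mem_normalizer_iff.1 (hMA m.2) _).1 a.2⟩
      map_one' := Subtype.ext (by simp)
      map_mul' := fun a b => Subtype.ext (by
        show (m : G) * ((a : G) * b) * (m : G)⁻¹ = _ * _
        group) }
  set Z : Subgroup A := (centralizer (S : Set G)).subgroupOf A with hZ
  let T : Z →* A := ∏ q : ↥M ⧸ S.subgroupOf M, (cj q.out).comp Z.subtype
  have hT : ∀ z : Z, T z = ∏ q : ↥M ⧸ S.subgroupOf M, cj q.out (z : A) := fun z => by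
    simp [T, MonoidHom.finsetProd_apply]
  -- values are fixed by `M`
  have hTM : ∀ (m : M) (z : Z), cj m (T z) = T z := by
    intro m z
    rw [hT, map_prod]
    refine Fintype.prod_equiv (MulAction.toPerm m) _ _ fun q => Subtype.ext ?_
    induction q using QuotientGroup.induction_on with
    | _ t =>
      show (m : G) * ((Quotient.out (t : ↥M ⧸ S.subgroupOf M) : M) * (z : A) *
        ((Quotient.out (t : ↥M ⧸ S.subgroupOf M) : M) : G)⁻¹) * (m : G)⁻¹ =
        ((Quotient.out ((m * t : M) : ↥M ⧸ S.subgroupOf M) : M) : G) * (z : A) *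
          ((Quotient.out ((m * t : M) : ↥M ⧸ S.subgroupOf M) : M) : G)⁻¹
      obtain ⟨s, hs⟩ := QuotientGroup.mk_out_eq_mul (S.subgroupOf M) t
      obtain ⟨s', hs'⟩ := QuotientGroup.mk_out_eq_mul (S.subgroupOf M) (m * t)
      have key : ∀ u : S.subgroupOf M, ((u : M) : G) * (z : A) * ((u : M) : G)⁻¹ = (z : A) :=
        fun u => mul_inv_eq_iff_eq_mul.2 (mem_centralizer_iff.1 z.2 _ u.2)
      rw [hs, hs']
      simp only [Subgroup.coe_mul]
      calc (m : G) * ((t : G) * ((s : M) : G) * ((z : A) : G) * ((t : G) * ((s : M) : G))⁻¹) *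
            (m : G)⁻¹
          = (m : G) * (t : G) * (((s : M) : G) * ((z : A) : G) * ((s : M) : G)⁻¹) *
              ((t : G)⁻¹ * (m : G)⁻¹) := by group
        _ = (m : G) * (t : G) * (((s' : M) : G) * ((z : A) : G) * ((s' : M) : G)⁻¹) *
              ((t : G)⁻¹ * (m : G)⁻¹) := by rw [key s, key s']
        _ = _ := by group
  set W : Subgroup A := (centralizer (M : Set G)).subgroupOf A with hW
  have hTW : ∀ z, T z ∈ W := by
    intro z
    refine mem_centralizer_iff.2 fun m hm => ?_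
    exact mul_inv_eq_iff_eq_mul.1 (congrArg Subtype.val (hTM ⟨m, hm⟩ z))
  have hWZ : W ≤ Z := fun w hw => centralizer_le hSM hw
  set n := Nat.card (↥M ⧸ S.subgroupOf M) with hn
  have hpow : ∀ (w : A) (hw : w ∈ W), T ⟨w, hWZ hw⟩ = w ^ n := by
    intro w hw
    rw [hT, Finset.prod_congr rfl (g := fun _ => w) (fun q _ => Subtype.ext ?_), Finset.prod_const,
      Finset.card_univ, ← Nat.card_eq_fintype_card]
    show ((q.out : M) : G) * w * ((q.out : M) : G)⁻¹ = w
    exact mul_inv_eq_iff_eq_mul.2 (mem_centralizer_iff.1 hw _ q.out.2)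
  have hcop : (Nat.card A).Coprime n := by
    obtain ⟨k, hk⟩ := hAp.exists_card_eq
    rw [hk]
    exact ((Fact.out : p.Prime).coprime_iff_not_dvd.2 hi).pow_left k
  let e := powCoprime hcop
  have he : ∀ a : A, e a = a ^ n := fun a => rfl
  refine ⟨(T.ker.map Z.subtype).map A.subtype, ?_, ?_, ?_⟩
  · rintro _ ⟨_, ⟨z, -, rfl⟩, rfl⟩
    exact ⟨(z : A).2, z.2⟩
  · rw [eq_bot_iff]
    rintro _ ⟨⟨-, hc⟩, _, ⟨z, hz, rfl⟩, rfl⟩
    have hzW : (z : A) ∈ W := hc
    have h1 := hpow z hzW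
    rw [show (⟨(z : A), hWZ hzW⟩ : Z) = z from rfl, MonoidHom.mem_ker.1 hz] at h1
    have : (z : A) = 1 := e.injective (by rw [he, he, one_pow, ← h1])
    show ((z : A) : G) ∈ (⊥ : Subgroup G)
    rw [this]
    exact one_mem _
  · refine le_antisymm (sup_le (inf_le_inf le_rfl (centralizer_le hSM)) ?_) ?_
    · rintro _ ⟨_, ⟨z, -, rfl⟩, rfl⟩
      exact ⟨(z : A).2, z.2⟩
    rintro a ⟨haA, haS⟩
    set z : Z := ⟨⟨a, haA⟩, haS⟩ with hz
    obtain ⟨w, hw⟩ := e.surjective (T z)
    rw [he] at hw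
    have hwW : w ∈ W := by
      refine mem_centralizer_iff.2 fun m hm => ?_
      have h2 : cj ⟨m, hm⟩ w = w := e.injective (by rw [he, he, ← map_pow, hw, hTM])
      exact mul_inv_eq_iff_eq_mul.1 (congrArg Subtype.val h2)
    have hk : (⟨w, hWZ hwW⟩ : Z)⁻¹ * z ∈ T.ker := by
      rw [MonoidHom.mem_ker, map_mul, map_inv, hpow w hwW, hw, inv_mul_cancel]
    have := mul_mem (mem_sup_left (show (w : G) ∈ A ⊓ centralizer (M : Set G) from ⟨w.2, hwW⟩))
      (mem_sup_right (S := A ⊓ centralizer (M : Set G))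
        (mem_map_of_mem A.subtype (mem_map_of_mem Z.subtype hk)))
    simpa [hz] using this

/-- The centre of a Sylow subgroup splits over the elements isolated in it. -/
theorem center_splits_over_isolated (S : Sylow p G) (h : p ≠ 2 ∨ Group.IsSolvable G) :
    ∃ W K : Subgroup G, (∀ x : G, x ∈ W ↔ (x ∈ (S : Subgroup G) ∧
        ∀ g : G, g * x * g⁻¹ ∈ (S : Subgroup G) → g * x * g⁻¹ = x)) ∧
      K ≤ cen (S : Subgroup G) ∧ W ⊓ K = ⊥ ∧ W ⊔ K = cen (S : Subgroup G) := by
  have hiso : ∀ {x : G}, x ∈ (S : Subgroup G) →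
      (∀ g : G, g * x * g⁻¹ ∈ (S : Subgroup G) → g * x * g⁻¹ = x) → x ∈ cen (S : Subgroup G) :=
    fun {x} hx hi => mem_inf.2 ⟨hx, mem_centralizer_iff.2 fun s hs =>
      mul_inv_eq_iff_eq_mul.1 (hi s (mul_mem (mul_mem hs hx) (inv_mem hs)))⟩
  suffices main : ∃ M A : Subgroup G, (S : Subgroup G) ≤ M ∧ M ≤ normalizer (A : Set G) ∧
      (∀ a ∈ A, ∀ b ∈ A, Commute a b) ∧ A ≤ (S : Subgroup G) ∧ cen (S : Subgroup G) ≤ A ∧
      ∀ x ∈ A, x ∈ centralizer (M : Set G) →
        ∀ g : G, g * x * g⁻¹ ∈ (S : Subgroup G) → g * x * g⁻¹ = x by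
    obtain ⟨M, A, hSM, hMA, hAc, hAS, hZA, hback⟩ := main
    have hAeq : A ⊓ centralizer ((S : Subgroup G) : Set G) = cen (S : Subgroup G) :=
      le_antisymm (inf_le_inf hAS le_rfl) (le_inf hZA inf_le_right)
    obtain ⟨K, hK, hbot, hsup⟩ := exists_complement_fix hSM hMA hAc (S.2.to_le hAS) fun hd =>
      S.not_dvd_index (hd.trans (relIndex_dvd_index_of_le hSM))
    rw [hAeq] at hK hsup
    refine ⟨A ⊓ centralizer (M : Set G), K, fun x => ⟨fun hx => ⟨hAS hx.1, hback x hx.1 hx.2⟩, fun hx => ⟨hZA (hiso hx.1 hx.2),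
      mem_centralizer_iff.2 fun m hm => mul_inv_eq_iff_eq_mul.1 (hx.2 m (hAS
        ((mem_normalizer_iff.1 (hMA hm) _).1 (hZA (hiso hx.1 hx.2)))))⟩⟩, hK, hbot, hsup⟩
  by_cases hp : p = 2
  swap
  · set J := thompsonSubgroupAOf (S : Subgroup G) with hJ
    have hJS : J ≤ (S : Subgroup G) := CfsgLib.Fusion.thompsonSubgroupAOf_le _
    refine ⟨normalizer (J : Set G), cen J,
      le_normalizer.trans (CfsgLib.Fusion.normalizer_le_normalizer_thompsonA _),
      CfsgLib.Fusion.normalizer_le_normalizer_centerOf' J, fun a ha b hb => ?_,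
      inf_le_left.trans hJS, fun z hz => mem_inf.2 ⟨CfsgLib.Fusion.center_le_thompsonA _ hz,
        centralizer_le hJS hz.2⟩, fun x hx hxM g hg => ?_⟩
    · exact commute_of_mem_cen ha hb.1
    · exact thompsonA_weaklyClosed S (hJS hx.1) (fun n hn => mem_centralizer_iff.1 hxM n hn)
        (Or.inl hp) hg
  subst hp
  haveI hsol : Group.IsSolvable G := h.resolve_left (fun h' => h' rfl)
  set O := Cfsg.pPrimeCore 2 G with hO
  haveI hOn : O.Normal := by
    haveI := CfsgLib.Coprime.pPrimeCore_characteristic (G := G) 2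
    infer_instance
  set π := QuotientGroup.mk' O with hπ
  have hπs : Function.Surjective π := QuotientGroup.mk'_surjective O
  set Q := Cfsg.pCore 2 (G ⧸ O) with hQ
  haveI hQn : Q.Normal := CfsgLib.Coprime.pCore_normal' 2
  set R := (S : Subgroup G) ⊓ Q.comap π with hR
  have hinj : ∀ y ∈ (S : Subgroup G), π y = 1 → y = 1 := by
    intro y hy hy1
    have hyO : y ∈ O := (QuotientGroup.eq_one_iff y).1 hy1
    obtain ⟨k, hk⟩ := S.2 ⟨y, hy⟩
    refine orderOf_eq_one_iff.1 (Nat.dvd_one.1 ?_)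
    have h1 : orderOf y ∣ 2 ^ k := orderOf_dvd_of_pow_eq_one (congrArg Subtype.val hk)
    have h2 : orderOf y ∣ Nat.card O := Subgroup.orderOf_dvd_natCard O hyO
    have h3 := Nat.dvd_gcd h1 h2
    rwa [((CfsgLib.Coprime.pPrimeCore_coprime Nat.prime_two).symm.pow_left k).gcd_eq_one] at h3
  have hZR : cen (S : Subgroup G) ≤ R := by
    intro z hz
    refine mem_inf.2 ⟨hz.1, CfsgLib.Coprime.centralizer_pCore_le
      (CfsgLib.Coprime.pPrimeCore_quotient_eq_bot Nat.prime_two) ?_⟩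
    refine mem_centralizer_iff.2 fun q hq => ?_
    have hqS : q ∈ ((S.mapSurjective hπs : Sylow 2 (G ⧸ O)) : Subgroup (G ⧸ O)) :=
      (CfsgLib.Coprime.pCore_isPGroup (G := G ⧸ O) 2).le_sylow_of_normal _ hq
    rw [Sylow.coe_mapSurjective] at hqS
    obtain ⟨s, hs, rfl⟩ := hqS
    rw [← map_mul, ← map_mul, mem_centralizer_iff.1 hz.2 s hs]
  refine ⟨normalizer (R : Set G), cen R, le_normalizer_inf le_normalizer (fun s _ => ?_),
    CfsgLib.Fusion.normalizer_le_normalizer_centerOf' R, fun a ha b hb => ?_,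
    inf_le_left.trans inf_le_left, fun z hz => mem_inf.2 ⟨hZR hz, centralizer_le inf_le_left hz.2⟩,
    fun x hx hxM g hg => ?_⟩
  · rw [Subgroup.normalizer_eq_top]; exact mem_top _
  · exact commute_of_mem_cen ha hb.1
  -- `G = N(R) O`
  have hRp : IsPGroup 2 R := S.2.to_le inf_le_left
  let PR : Sylow 2 (Q.comap π) :=
    (hRp.of_equiv (Subgroup.subgroupOfEquivOfLe inf_le_right).symm).toSylow
      (CfsgLib.Fusion.not_dvd_relIndex_inf_of_normal S (Q.comap π))
  have hfr : normalizer (R : Set G) ⊔ Q.comap π = ⊤ := by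
    have := Sylow.normalizer_sup_eq_top PR
    rwa [show (PR : Subgroup (Q.comap π)).map (Q.comap π).subtype = R from
      map_subgroupOf_eq_of_le inf_le_right] at this
  have hQR : Q ≤ R.map π := by
    intro q hq
    have hqS : q ∈ ((S.mapSurjective hπs : Sylow 2 (G ⧸ O)) : Subgroup (G ⧸ O)) :=
      (CfsgLib.Coprime.pCore_isPGroup (G := G ⧸ O) 2).le_sylow_of_normal _ hq
    rw [Sylow.coe_mapSurjective] at hqS
    obtain ⟨s, hs, rfl⟩ := hqS
    exact ⟨s, ⟨hs, hq⟩, rfl⟩
  have hgen : (normalizer (R : Set G)).map π = ⊤ := by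
    have := congrArg (Subgroup.map π) hfr
    rw [Subgroup.map_sup, Subgroup.map_comap_eq_self_of_surjective hπs,
      Subgroup.map_top_of_surjective π hπs] at this
    rwa [sup_eq_left.2 (hQR.trans (map_mono le_normalizer))] at this
  have hcomm : π (g * x * g⁻¹) = π x := by
    obtain ⟨n, hn, he⟩ := hgen.ge (mem_top (π g))
    rw [map_mul, map_mul, map_inv, ← he, ← map_mul, ← map_inv, ← map_mul,
      mem_centralizer_iff.1 hxM n hn, mul_inv_cancel_right]
  refine mul_inv_eq_one.1 (hinj _ (mul_mem hg (inv_mem (hx.1.1))) ?_)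
  rw [map_mul, map_inv, hcomm, mul_inv_cancel]

end CfsgLib.CFun
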