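import Cfsg.Prelude.Def_Transfer
import Mathlib.GroupTheory.Transfer
import Mathlib.GroupTheory.Sylow
import Mathlib.LinearAlgebra.Matrix.GeneralLinearGroup.Defs
import Mathlib.LinearAlgebra.Dimension.Finrank
import Mathlib.LinearAlgebra.FiniteDimensional.Basic
import Cfsg.Agent.Lib.Coprime.Solvable

/-!
# Sylow 2-subgroups inside `GL₃` of odd characteristic and the transfer of a scalar involution
-/

set_option autoImplicit false
set_option linter.style.haveILetI false
set_option linter.unusedSectionVars false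

open Subgroup MulAction

namespace CfsgLib.CentralTransferThree

variable {G : Type*} [Group G] [Finite G]

/-- The transfer of a central involution of a Sylow 2-subgroup with rigid normalizer orbit. -/
theorem transfer_ne_one (P : Sylow 2 G) {A : Type*} [CommGroup A]
    (φ : (P : Subgroup G) →* A) {t : G} (ht : t ^ 2 = 1) {c : A} (hc1 : c ≠ 1)
    (htP : t ∈ centralizer ((P : Subgroup G) : Set G))
    (hval : ∀ a : A, a ^ 2 = 1 → a = 1 ∨ a = c)
    (hN : ∀ g ∈ normalizer ((P : Subgroup G) : Set G), ∃ h : g⁻¹ * t * g ∈ (P : Subgroup G),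
      φ ⟨_, h⟩ = c) :
    MonoidHom.transfer φ t ≠ 1 := by
  classical
  haveI : Fact (Nat.Prime 2) := ⟨Nat.prime_two⟩
  letI : Fintype (Quotient (orbitRel (zpowers t) (G ⧸ (P : Subgroup G)))) := Fintype.ofFinite _
  have hfix : ∀ (q : G ⧸ (P : Subgroup G)), t • q = q ↔ q.out⁻¹ * t * q.out ∈ (P : Subgroup G) := fun q => by
    conv_lhs => rw [← q.out_eq']
    rw [MulAction.Quotient.smul_mk, eq_comm, QuotientGroup.eq, smul_eq_mul, ← mul_assoc]
  let S := {q : G ⧸ (P : Subgroup G) // ∃ h : q.out⁻¹ * t * q.out ∈ (P : Subgroup G), φ ⟨_, h⟩ = c}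
  have hcount : MonoidHom.transfer φ t = c ^ Nat.card S := by
    have hfactor : ∀ (q : Quotient (orbitRel (zpowers t) (G ⧸ (P : Subgroup G))))
        (h : q.out.out⁻¹ * t ^ Function.minimalPeriod (t • ·) q.out * q.out.out ∈ (P : Subgroup G)),
        φ ⟨_, h⟩ = if (∃ h : q.out.out⁻¹ * t * q.out.out ∈ (P : Subgroup G), φ ⟨_, h⟩ = c) then c else 1 := by
      intro q h
      have hper : Function.minimalPeriod (t • ·) q.out ∣ 2 := by
        refine Function.IsPeriodicPt.minimalPeriod_dvd ?_
        show (t • ·)^[2] q.out = q.out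
        rw [smul_iterate]
        show t ^ 2 • q.out = _
        rw [ht, one_smul]
      rcases (Nat.dvd_prime Nat.prime_two).1 hper with h1 | h2
      · have h' : q.out.out⁻¹ * t * q.out.out ∈ (P : Subgroup G) := by rw [h1, pow_one] at h; exact h
        have he' : φ ⟨_, h⟩ = φ ⟨_, h'⟩ := congrArg φ (Subtype.ext (by simp only [h1, pow_one]))
        rw [he']
        split_ifs with hc
        · exact hc.2
        · refine (hval _ ?_).resolve_right fun hh => hc ⟨h', hh⟩
          rw [← map_pow]
          refine (congrArg φ (Subtype.ext ?_)).trans (map_one φ)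
          show (q.out.out⁻¹ * t * q.out.out) ^ 2 = 1
          calc (q.out.out⁻¹ * t * q.out.out) ^ 2 = q.out.out⁻¹ * (t ^ 2) * q.out.out := by
                rw [pow_two, pow_two]; group
            _ = 1 := by rw [ht]; group
      · rw [if_neg]
        · have h' : (⟨_, h⟩ : (P : Subgroup G)) = 1 := Subtype.ext (by
            show q.out.out⁻¹ * t ^ Function.minimalPeriod (t • ·) q.out * q.out.out = 1
            simp only [h2, ht, mul_one, inv_mul_cancel])
          rw [h', map_one]
        · rintro ⟨h', -⟩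
          have h1 : Function.minimalPeriod (t • ·) q.out = 1 :=
            Function.minimalPeriod_eq_one_iff_isFixedPt.2 ((hfix _).2 h')
          omega
    rw [MonoidHom.transfer_eq_prod_quotient_orbitRel_zpowers_quot φ t,
      Finset.prod_congr rfl (fun q _ => hfactor q _), Finset.prod_ite, Finset.prod_const_one,
      mul_one, Finset.prod_const, ← Fintype.card_subtype, ← Nat.card_eq_fintype_card]
    congr 1
    have hrep : ∀ a : G ⧸ (P : Subgroup G), t • a = a →
        (Quotient.mk'' a : Quotient (orbitRel (zpowers t) (G ⧸ (P : Subgroup G)))).out = a := by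
      intro a ha
      obtain ⟨g, hg⟩ := (Quotient.mk_out (s := orbitRel (zpowers t) (G ⧸ (P : Subgroup G))) a :
        orbitRel (zpowers t) (G ⧸ (P : Subgroup G)) _ a)
      obtain ⟨i, hi⟩ := Subgroup.mem_zpowers_iff.1 g.2
      refine hg.symm.trans ?_
      show (g : G) • a = a
      rw [← hi]
      exact (zpow_mem (show t ∈ stabilizer G a from ha) i :)
    refine Nat.card_congr
      { toFun := fun q => ⟨q.1.out, q.2⟩
        invFun := fun a => ⟨Quotient.mk'' a.1, ?_⟩
        left_inv := fun q => Subtype.ext (Quotient.out_eq' q.1)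
        right_inv := fun a => Subtype.ext (hrep a.1 ((hfix _).2 a.2.1)) }
    rw [hrep a.1 ((hfix _).2 a.2.1)]
    exact a.2
  -- changing representatives
  have hrepr : ∀ (g : G) (x : (P : Subgroup G)) (h : g⁻¹ * t * g ∈ (P : Subgroup G)),
      ∃ h' : (g * x)⁻¹ * t * (g * x) ∈ (P : Subgroup G), φ ⟨_, h'⟩ = φ ⟨_, h⟩ := by
    intro g x h
    have e : (g * x)⁻¹ * t * (g * x) = (x : G)⁻¹ * (g⁻¹ * t * g) * x := by group
    have h' : (g * x)⁻¹ * t * (g * x) ∈ (P : Subgroup G) := e ▸ mul_mem (mul_mem ((P : Subgroup G).inv_mem x.2) h) x.2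
    refine ⟨h', ?_⟩
    rw [show (⟨_, h'⟩ : (P : Subgroup G)) = x⁻¹ * ⟨_, h⟩ * x from Subtype.ext e, map_mul, map_mul, map_inv,
      mul_comm, mul_inv_cancel_left]
  have hmemS : ∀ {q : G ⧸ (P : Subgroup G)} (g : G), (g : G ⧸ (P : Subgroup G)) = q →
      ((∃ h : q.out⁻¹ * t * q.out ∈ (P : Subgroup G), φ ⟨_, h⟩ = c) ↔ ∃ h : g⁻¹ * t * g ∈ (P : Subgroup G), φ ⟨_, h⟩ = c) := by
    intro q g hg
    have hx : q.out⁻¹ * g ∈ (P : Subgroup G) := QuotientGroup.eq.1 (q.out_eq'.trans hg.symm)
    constructor
    · rintro ⟨h, hh⟩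
      obtain ⟨h', e⟩ := hrepr q.out ⟨_, hx⟩ h
      simp only [mul_inv_cancel_left] at h' e
      exact ⟨h', e.trans hh⟩
    · rintro ⟨h, hh⟩
      have hx' : g⁻¹ * q.out ∈ (P : Subgroup G) := QuotientGroup.eq.1 (hg.trans q.out_eq'.symm)
      obtain ⟨h', e⟩ := hrepr g ⟨_, hx'⟩ h
      simp only [mul_inv_cancel_left] at h' e
      exact ⟨h', e.trans hh⟩
  letI : MulAction (P : Subgroup G) S :=
    { smul := fun x q => ⟨(x : G) • q.1, by
        have hq : (((x : G) * q.1.out : G) : G ⧸ (P : Subgroup G)) = (x : G) • q.1 := by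
          conv_rhs => rw [← q.1.out_eq']
          rfl
        rw [hmemS _ hq]
        have e : ((x : G) * q.1.out)⁻¹ * t * ((x : G) * q.1.out) = q.1.out⁻¹ * t * q.1.out := by
          have hxt : (x : G) * t = t * x := mem_centralizer_iff.1 htP _ x.2
          calc ((x : G) * q.1.out)⁻¹ * t * ((x : G) * q.1.out)
              = q.1.out⁻¹ * ((x : G)⁻¹ * (t * x)) * q.1.out := by group
            _ = _ := by rw [← hxt]; group
        obtain ⟨h, hh⟩ := q.2
        refine ⟨e ▸ h, ?_⟩
        exact (congrArg φ (Subtype.ext e)).trans hh⟩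
      one_smul := fun q => Subtype.ext (one_smul G q.1)
      mul_smul := fun x y q => Subtype.ext (mul_smul (x : G) y q.1) }
  have hfixed : Nat.card (fixedPoints (P : Subgroup G) S) = (P : Subgroup G).relIndex (normalizer ((P : Subgroup G) : Set G)) := by
    have hmem : ∀ g : G, g ∈ normalizer ((P : Subgroup G) : Set G) ↔ ∀ x : (P : Subgroup G), (x : G) • (g : G ⧸ (P : Subgroup G)) = g := by
      intro g
      constructor
      · intro hg x
        rw [MulAction.Quotient.smul_mk, QuotientGroup.eq, smul_eq_mul,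
          show ((x : G) * g)⁻¹ * g = (g⁻¹ * (x : G) * g)⁻¹ by group, inv_mem_iff]
        exact (Subgroup.mem_normalizer_iff'.1 hg _).2 (by
          rw [mul_inv_cancel_left]
          exact x.2)
      · intro h
        have hle : (P : Subgroup G) ≤ (P : Subgroup G).map (MulAut.conj g).toMonoidHom := by
          intro x hx
          have h1 := h ⟨x, hx⟩
          rw [MulAction.Quotient.smul_mk, QuotientGroup.eq, smul_eq_mul] at h1
          have h2 := (P : Subgroup G).inv_mem h1
          rw [show ((x * g)⁻¹ * g)⁻¹ = g⁻¹ * x * g by group] at h2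
          exact ⟨_, h2, by simp [mul_assoc]⟩
        have := eq_of_le_of_card_ge hle
          (by rw [Subgroup.card_map_of_injective (MulAut.conj g).injective])
        exact CfsgLib.Coprime.conjBy_eq_self_iff.1 this.symm
    have hN' : ∀ g ∈ normalizer ((P : Subgroup G) : Set G),
        ∃ h : (g : G ⧸ (P : Subgroup G)).out⁻¹ * t * (g : G ⧸ (P : Subgroup G)).out ∈ (P : Subgroup G), φ ⟨_, h⟩ = c :=
      fun g hg => (hmemS g rfl).2 (hN g hg)
    refine (Nat.card_congr (Equiv.ofBijective
      (fun q : ↥(normalizer ((P : Subgroup G) : Set G)) ⧸ (P : Subgroup G).subgroupOf (normalizer ((P : Subgroup G) : Set G)) =>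
        (⟨⟨(q.out : G), hN' _ q.out.2⟩, fun x =>
          Subtype.ext ((hmem _).1 q.out.2 x)⟩ : fixedPoints (P : Subgroup G) S)) ⟨?_, ?_⟩)).symm
    · intro a b hab
      have h := congrArg (fun z : fixedPoints (P : Subgroup G) S => ((z : S) : G ⧸ (P : Subgroup G))) hab
      rw [← QuotientGroup.out_eq' a, ← QuotientGroup.out_eq' b]
      exact QuotientGroup.eq.2 (mem_subgroupOf.2 (QuotientGroup.eq.1 h))
    · rintro ⟨⟨q, hq⟩, hfx⟩
      have hn : q.out ∈ normalizer ((P : Subgroup G) : Set G) := (hmem _).2 fun x => by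
        have hqq : ((q.out : G) : G ⧸ (P : Subgroup G)) = q := q.out_eq'
        rw [hqq]; exact congrArg Subtype.val (hfx x)
      refine ⟨((⟨q.out, hn⟩ : normalizer ((P : Subgroup G) : Set G)) :
        ↥(normalizer ((P : Subgroup G) : Set G)) ⧸ (P : Subgroup G).subgroupOf (normalizer ((P : Subgroup G) : Set G))),
        Subtype.ext (Subtype.ext ?_)⟩
      refine Eq.trans (QuotientGroup.eq.2 ?_) q.out_eq'
      have h := QuotientGroup.eq.1 (QuotientGroup.out_eq'
        (((⟨q.out, hn⟩ : normalizer ((P : Subgroup G) : Set G)) :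
          ↥(normalizer ((P : Subgroup G) : Set G)) ⧸ (P : Subgroup G).subgroupOf (normalizer ((P : Subgroup G) : Set G)))))
      exact h
  have hmod := P.2.card_modEq_card_fixedPoints S
  have hodd : ¬ 2 ∣ Nat.card S := by
    rw [Nat.dvd_iff_mod_eq_zero]
    unfold Nat.ModEq at hmod
    rw [hmod, ← Nat.dvd_iff_mod_eq_zero, hfixed]
    exact fun h => P.not_dvd_index (h.trans (relIndex_dvd_index_of_le le_normalizer))
  intro h1
  rw [hcount] at h1
  have hc2 : c ^ 2 = 1 := by
    obtain ⟨h, hh⟩ := hN 1 (one_mem _)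
    rw [← hh, ← map_pow]
    refine (congrArg φ (Subtype.ext ?_)).trans (map_one φ)
    simp [ht]
  refine hc1 ?_
  have := pow_gcd_eq_one.2 ⟨hc2, h1⟩
  rwa [Nat.prime_two.coprime_iff_not_dvd.2 hodd, pow_one] at this

section GLThree

variable {F : Type*} [Field F] {V : Type*} [AddCommGroup V] [Module F V]

/-- Simultaneous eigenvectors of commuting involutions span. -/
theorem span_eigen (h2 : (2 : F) ≠ 0) : ∀ l : List (Module.End F V),
    (∀ e ∈ l, e * e = 1) → (∀ e ∈ l, ∀ f ∈ l, e * f = f * e) →
    Submodule.span F {v : V | ∀ e ∈ l, e v = v ∨ e v = -v} = ⊤ := by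
  intro l
  induction l with
  | nil => intros; rw [eq_top_iff]; exact fun v _ => Submodule.subset_span (fun e he => by simp at he)
  | cons f l ih =>
    intro hsq hc
    rw [eq_top_iff, ← ih (fun e he => hsq e (List.mem_cons_of_mem f he))
      (fun e he g hg => hc e (List.mem_cons_of_mem f he) g (List.mem_cons_of_mem f hg)),
      Submodule.span_le]
    intro v hv
    have hff : f (f v) = v := by
      have := congrArg (fun g : Module.End F V => g v) (hsq f List.mem_cons_self)
      simpa using this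
    have hmem : ∀ s : F, s = 1 ∨ s = -1 →
        v + s • f v ∈ Submodule.span F {v : V | ∀ e ∈ f :: l, e v = v ∨ e v = -v} := by
      intro s hs
      refine Submodule.subset_span fun e he => ?_
      rcases List.mem_cons.1 he with rfl | hel
      · rcases hs with rfl | rfl
        · left; rw [one_smul, map_add, hff, add_comm]
        · right; rw [neg_one_smul, map_add, map_neg, hff]; abel
      · have hcom : e (f v) = f (e v) := by
          have := congrArg (fun g : Module.End F V => g v)
            (hc e (List.mem_cons_of_mem f hel) f List.mem_cons_self)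
          simpa using this
        rcases hv e hel with h | h
        · left; rw [map_add, map_smul, hcom, h]
        · right; rw [map_add, map_smul, hcom, h, map_neg, smul_neg, neg_add]
    have : v = (2 : F)⁻¹ • ((v + (1 : F) • f v) + (v + (-1 : F) • f v)) := by
      rw [one_smul, neg_one_smul, show v + f v + (v + -f v) = (2 : F) • v by rw [two_smul]; abel,
        inv_smul_smul₀ h2]
    rw [this]
    exact Submodule.smul_mem _ _ (add_mem (hmem 1 (Or.inl rfl)) (hmem (-1) (Or.inr rfl)))

/-- Commuting involutions have a common eigenbasis. -/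
theorem exists_eigenbasis (h2 : (2 : F) ≠ 0) [FiniteDimensional F V] {n : ℕ}
    (hn : Module.finrank F V = n) (l : List (Module.End F V)) (hsq : ∀ e ∈ l, e * e = 1)
    (hc : ∀ e ∈ l, ∀ f ∈ l, e * f = f * e) :
    ∃ b : Module.Basis (Fin n) F V, ∀ e ∈ l, ∀ i, e (b i) = b i ∨ e (b i) = -(b i) := by
  obtain ⟨s, hs, hsp, hli⟩ :=
    exists_linearIndependent F {v : V | ∀ e ∈ l, e v = v ∨ e v = -v}
  rw [span_eigen h2 l hsq hc] at hsp
  let b := Module.Basis.mk hli (by rw [Subtype.range_coe, hsp])
  haveI : Fintype s := FiniteDimensional.fintypeBasisIndex b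
  have hcard : Fintype.card s = n := by rw [← hn, Module.finrank_eq_card_basis b]
  refine ⟨b.reindex (Fintype.equivFinOfCardEq hcard), fun e he i => ?_⟩
  rw [Module.Basis.reindex_apply, Module.Basis.mk_apply]
  exact hs (Subtype.mem _) e he

end GLThree

theorem two_mul_card_le {H K : Subgroup G} (h : H < K) : 2 * Nat.card H ≤ Nat.card K := by
  have h1 : Nat.card H * H.relIndex K = Nat.card K := by
    rw [Subgroup.relIndex, ← Nat.card_congr (subgroupOfEquivOfLe h.le).toEquiv, card_mul_index]
  have h2 : H.relIndex K ≠ 1 := fun e => h.not_ge (relIndex_eq_one.1 e)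
  have h3 : (H.subgroupOf K).index ≠ 0 := Subgroup.index_ne_zero_of_finite
  change H.relIndex K ≠ 0 at h3
  rw [← h1, mul_comm]
  exact Nat.mul_le_mul_left _ (by omega)

/-- Without subgroups of index two, a Sylow 2-subgroup of `GL₃` of odd characteristic that
contains an elementary group of order eight is abelian. -/
theorem sylow_isMulCommutative (hG : ∀ H : Subgroup G, H.index ≠ 2) (X : Sylow 2 G)
    {F : Type*} [Field F] (h2 : (2 : F) ≠ 0)
    (f : ↥(X : Subgroup G) →* GL (Fin 3) F) (hf : Function.Injective f)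
    (E : Subgroup ↥(X : Subgroup G)) (hsq : ∀ e ∈ E, e ^ 2 = 1) (hE8 : Nat.card E = 8) :
    IsMulCommutative (X : Subgroup G) := by
  classical
  haveI : Fact (Nat.Prime 2) := ⟨Nat.prime_two⟩
  set ρ : ↥(X : Subgroup G) → Module.End F (Fin 3 → F) :=
    fun x => Matrix.toLinAlgEquiv' (f x : Matrix (Fin 3) (Fin 3) F) with hρ
  have hρmul : ∀ x y, ρ (x * y) = ρ x * ρ y := fun x y => by simp [hρ]
  have hρ1 : ρ 1 = 1 := by simp [hρ]
  have hρinj : Function.Injective ρ := fun x y h =>
    hf (Units.ext (Matrix.toLinAlgEquiv'.injective h))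
  have hEc : ∀ a ∈ E, ∀ b ∈ E, a * b = b * a := fun a ha b hb => by
    have hi : ∀ w ∈ E, w⁻¹ = w := fun w hw =>
      inv_eq_of_mul_eq_one_right (by rw [← pow_two]; exact hsq w hw)
    calc a * b = (a * b)⁻¹ := (hi _ (mul_mem ha hb)).symm
      _ = b * a := by rw [mul_inv_rev, hi a ha, hi b hb]
  letI : Fintype E := Fintype.ofFinite _
  obtain ⟨b, hb⟩ := exists_eigenbasis h2 (V := Fin 3 → F) (n := 3) (by simp)
    ((Finset.univ : Finset E).toList.map fun e : E => ρ (e : ↥(X : Subgroup G))) (by
      intro e he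
      simp only [List.mem_map, Finset.mem_toList, Finset.mem_univ, true_and] at he
      obtain ⟨x, rfl⟩ := he
      rw [← hρmul, ← pow_two, hsq _ x.2, hρ1]) (by
      intro e he g hg
      simp only [List.mem_map, Finset.mem_toList, Finset.mem_univ, true_and] at he hg
      obtain ⟨x, rfl⟩ := he
      obtain ⟨y, rfl⟩ := hg
      rw [← hρmul, ← hρmul, hEc _ x.2 _ y.2])
  have hbE : ∀ e : E, ∀ i, ρ e (b i) = b i ∨ ρ e (b i) = -(b i) := fun e i =>
    hb _ (List.mem_map.2 ⟨e, Finset.mem_toList.2 (Finset.mem_univ e), rfl⟩) i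
  let σ : E → (Fin 3 → Bool) := fun e i => decide (ρ e (b i) = b i)
  have hσ : ∀ (e : E) i, ρ e (b i) = if σ e i then b i else -(b i) := by
    intro e i
    by_cases h : ρ e (b i) = b i
    · simp [σ, h]
    · simp [σ, h, (hbE e i).resolve_left h]
  have hσinj : Function.Injective σ := fun e e' h => Subtype.ext (hρinj (b.ext fun i => by
    rw [hσ, hσ, h]))
  have hσsurj : Function.Surjective σ :=
    ((Nat.bijective_iff_injective_and_card σ).2 ⟨hσinj, by rw [hE8]; simp⟩).2
  -- elements centralising `E` are diagonal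
  have hdiag : ∀ a : ↥(X : Subgroup G), (∀ e ∈ E, e * a = a * e) →
      ∀ i, ∃ c : F, ρ a (b i) = c • b i := by
    intro a ha i
    obtain ⟨e, he⟩ := hσsurj (fun j => !decide (j = i))
    have hcoord : ∀ j, j ≠ i → b.repr (ρ a (b i)) j = 0 := by
      intro j hj
      have h1 : ρ e (ρ a (b i)) = -(ρ a (b i)) := by
        have h := congrArg (fun g : Module.End F (Fin 3 → F) => g (b i))
          (show ρ e * ρ a = ρ a * ρ e by rw [← hρmul, ← hρmul, ha _ e.2])
        simp only [Module.End.mul_apply, hσ, he, decide_true, Bool.not_true] at h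
        simpa using h
      have h2' : (b.coord j).comp (ρ e) = b.coord j := b.ext fun k => by
        rw [LinearMap.comp_apply, hσ, he]
        by_cases hk : k = i
        · subst hk
          simp [Module.Basis.coord_apply, hj, Finsupp.single_apply, Ne.symm hj]
        · simp [hk]
      have h3 := congrArg (fun g : (Fin 3 → F) →ₗ[F] F => g (ρ a (b i))) h2'
      simp only [LinearMap.comp_apply, h1, map_neg, Module.Basis.coord_apply] at h3
      have h4 : (2 : F) * b.repr (ρ a (b i)) j = 0 := by
        rw [two_mul]; linear_combination -h3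
      exact (mul_eq_zero.1 h4).resolve_left h2
    refine ⟨b.repr (ρ a (b i)) i, b.repr.injective (Finsupp.ext fun j => ?_)⟩
    rw [map_smul, Module.Basis.repr_self, Finsupp.smul_apply, Finsupp.single_apply]
    by_cases hj : i = j
    · subst hj; simp
    · rw [if_neg hj, smul_zero, hcoord j (Ne.symm hj)]
  have hCab : ∀ a a' : ↥(X : Subgroup G), (∀ e ∈ E, e * a = a * e) →
      (∀ e ∈ E, e * a' = a' * e) → a * a' = a' * a := by
    intro a a' ha ha'
    refine hρinj (b.ext fun i => ?_)
    obtain ⟨c, hc⟩ := hdiag a ha i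
    obtain ⟨c', hc'⟩ := hdiag a' ha' i
    rw [hρmul, hρmul, Module.End.mul_apply, Module.End.mul_apply, hc', map_smul, hc, map_smul,
      hc', smul_smul, smul_smul, mul_comm]
  by_contra hnab
  -- the scalar involution
  obtain ⟨⟨t, htE⟩, hte⟩ := hσsurj (fun _ => false)
  have htρ : ρ t = -1 := b.ext fun i => by
    rw [hσ ⟨t, htE⟩, hte]; simp
  have htc : ∀ x, x * t = t * x := fun x => hρinj (by
    rw [hρmul, hρmul, htρ]
    refine LinearMap.ext fun v => ?_
    show ρ x (-v) = -(ρ x v)
    rw [map_neg])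
  set ψ : ↥(X : Subgroup G) →* Fˣ := Matrix.GeneralLinearGroup.det.comp f with hψ
  have htψ : ψ t = -1 := Units.ext (by
    have h : (f t : Matrix (Fin 3) (Fin 3) F) = -1 := Matrix.toLinAlgEquiv'.injective (by
      rw [map_neg, map_one]; exact htρ)
    show ((f t : Matrix (Fin 3) (Fin 3) F)).det = ((-1 : Fˣ) : F)
    rw [h, Matrix.det_neg, Matrix.det_one]
    norm_num)
  have hne : (-1 : Fˣ) ≠ 1 := fun h => h2 (by
    have := congrArg (fun u : Fˣ => (u : F)) h
    simp only [Units.val_neg, Units.val_one] at this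
    linear_combination -this)
  -- central involutions lie in `E`
  have hcenE : ∀ y ∈ center ↥(X : Subgroup G), y ^ 2 = 1 → y ∈ E := by
    intro y hy hy2
    have hyE : ∀ e ∈ E, e * y = y * e := fun e _ => mem_center_iff.1 hy e
    have hsign : ∀ i, ρ y (b i) = b i ∨ ρ y (b i) = -(b i) := by
      intro i
      obtain ⟨c, hc⟩ := hdiag y hyE i
      have h : ρ y (ρ y (b i)) = b i := by
        rw [← Module.End.mul_apply, ← hρmul, ← pow_two, hy2, hρ1]; rfl
      rw [hc, map_smul, hc, smul_smul] at h
      have hc2 : c * c = 1 := by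
        have := congrArg (fun v => b.repr v i) h
        simpa using this
      rcases mul_self_eq_one_iff.1 hc2 with rfl | rfl
      · left; rw [hc, one_smul]
      · right; rw [hc, neg_one_smul]
    obtain ⟨e, he⟩ := hσsurj (fun i => decide (ρ y (b i) = b i))
    have : y = e := hρinj (b.ext fun i => by
      rw [hσ, he]
      rcases hsign i with h | h
      · simp [h]
      · by_cases h' : ρ y (b i) = b i
        · simp [h']
        · simp [h', h])
    exact this ▸ e.2
  haveI : Group.IsNilpotent ↥(X : Subgroup G) := X.2.isNilpotent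
  obtain ⟨w, hwc, hwD, hw2, hw1⟩ : ∃ w, w ∈ center ↥(X : Subgroup G) ∧
      w ∈ commutator ↥(X : Subgroup G) ∧ w ^ 2 = 1 ∧ w ≠ 1 := by
    have hD : commutator ↥(X : Subgroup G) ≠ ⊥ := fun h => hnab (isMulCommutative_iff.2 fun a c =>
      commutatorElement_eq_one_iff_mul_comm.1 (mem_bot.1 (h ▸
        commutator_mem_commutator (mem_top a) (mem_top c))))
    have h := CfsgLib.Coprime.nilpotent_inf_center_ne_bot _ hD
    obtain ⟨k, hk0, hk⟩ : ∃ k, k ≠ 0 ∧
        Nat.card ↥(commutator ↥(X : Subgroup G) ⊓ center ↥(X : Subgroup G)) = 2 ^ k := by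
      obtain ⟨k, hk⟩ := IsPGroup.iff_card.1 (X.2.to_subgroup
        (commutator ↥(X : Subgroup G) ⊓ center ↥(X : Subgroup G)))
      refine ⟨k, fun h0 => h ?_, hk⟩
      rw [h0, pow_zero, card_eq_one] at hk
      exact hk
    obtain ⟨x, hx⟩ := exists_prime_orderOf_dvd_card' 2 (hk ▸ dvd_pow_self 2 hk0)
    refine ⟨x, x.2.2, x.2.1, ?_, fun h' => ?_⟩
    · have := pow_orderOf_eq_one x
      rw [hx] at this
      exact congrArg Subtype.val this
    · rw [show x = 1 from Subtype.ext h', orderOf_one] at hx
      omega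
  have hwψ : ψ w = 1 := by
    have : commutator ↥(X : Subgroup G) ≤ ψ.ker := Abelianization.commutator_subset_ker ψ
    exact this hwD
  have huniq : ∀ y ∈ center ↥(X : Subgroup G), y ^ 2 = 1 → y ≠ 1 → ψ y = 1 → y = w := by
    intro y hy hy2 hy1 hyψ
    by_contra hyw
    have hlt1 : zpowers w < E ⊓ center ↥(X : Subgroup G) ⊓ ψ.ker := by
      refine lt_of_le_of_ne (zpowers_le.2 ⟨⟨hcenE w hwc hw2, hwc⟩, hwψ⟩) fun h => ?_
      have hmem : y ∈ zpowers w := h ▸ ⟨⟨hcenE y hy hy2, hy⟩, hyψ⟩
      obtain ⟨i, hi⟩ := mem_zpowers_iff.1 hmem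
      rw [← Int.emod_add_mul_ediv i 2, zpow_add, zpow_mul,
        show w ^ (2 : ℤ) = 1 from (zpow_natCast w 2).trans hw2, one_zpow, mul_one] at hi
      rcases Int.emod_two_eq_zero_or_one i with h' | h' <;> rw [h'] at hi
      · exact hy1 (by rw [← hi, zpow_zero])
      · exact hyw (by rw [← hi, zpow_one])
    have hlt2 : E ⊓ center ↥(X : Subgroup G) ⊓ ψ.ker < E ⊓ center ↥(X : Subgroup G) :=
      lt_of_le_of_ne inf_le_left fun h => hne (by
        have : t ∈ E ⊓ center ↥(X : Subgroup G) ⊓ ψ.ker := by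
          rw [h]; exact ⟨htE, mem_center_iff.2 htc⟩
        rw [← htψ]; exact this.2)
    have h8 : 8 ≤ Nat.card ↥(E ⊓ center ↥(X : Subgroup G)) := by
      have h1 := two_mul_card_le hlt1
      have h2' := two_mul_card_le hlt2
      rw [Nat.card_zpowers, orderOf_eq_prime hw2 hw1] at h1
      omega
    have hEZ : E ≤ center ↥(X : Subgroup G) := by
      have := eq_of_le_of_card_ge (inf_le_left : E ⊓ center ↥(X : Subgroup G) ≤ E) (hE8 ▸ h8)
      exact this ▸ inf_le_right
    exact hnab (isMulCommutative_iff.2 fun a a' => hCab a a'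
      (fun e he => (mem_center_iff.1 (hEZ he) a).symm)
      (fun e he => (mem_center_iff.1 (hEZ he) a').symm))
  have ht2 : t ^ 2 = 1 := hsq t htE
  have htC : (t : G) ∈ centralizer (((X : Subgroup G)) : Set G) :=
    mem_centralizer_iff.2 fun x hx => congrArg Subtype.val (htc ⟨x, hx⟩)
  have hval : ∀ a : Fˣ, a ^ 2 = 1 → a = 1 ∨ a = -1 := fun a ha => by
    have h : (a : F) * a = 1 := by rw [← pow_two, ← Units.val_pow_eq_pow_val, ha, Units.val_one]
    rcases mul_self_eq_one_iff.1 h with h | h
    · exact Or.inl (Units.ext h)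
    · exact Or.inr (Units.ext (by simpa using h))
  have hV : MonoidHom.transfer ψ (t : G) ≠ 1 := by
    refine transfer_ne_one X ψ (congrArg Subtype.val ht2) hne htC hval fun g hg => ?_
    have hy : g⁻¹ * (t : G) * g ∈ (X : Subgroup G) :=
      (Subgroup.mem_normalizer_iff.1 hg _).2 (by
        rw [show g * (g⁻¹ * (t : G) * g) * g⁻¹ = t by group]; exact t.2)
    set y : ↥(X : Subgroup G) := ⟨_, hy⟩ with hydef
    refine ⟨hy, ?_⟩
    have hy2 : y ^ 2 = 1 := Subtype.ext (by
      show (g⁻¹ * (t : G) * g) ^ 2 = 1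
      calc (g⁻¹ * (t : G) * g) ^ 2 = g⁻¹ * ((t : G) * t) * g := by rw [pow_two]; group
        _ = 1 := by rw [← pow_two, show (t : G) ^ 2 = 1 from congrArg Subtype.val ht2]; group)
    refine (hval _ (by rw [← map_pow, hy2, map_one])).resolve_left fun hψy => ?_
    have hg' : ∀ x ∈ (X : Subgroup G), g * x * g⁻¹ ∈ (X : Subgroup G) := fun x hx =>
      (Subgroup.mem_normalizer_iff.1 hg x).1 hx
    have hyc : y ∈ center ↥(X : Subgroup G) := mem_center_iff.2 fun x => Subtype.ext (by
      show (x : G) * (g⁻¹ * t * g) = g⁻¹ * t * g * x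
      have h := congrArg Subtype.val (htc ⟨g * x * g⁻¹, hg' x x.2⟩)
      calc (x : G) * (g⁻¹ * t * g) = g⁻¹ * ((g * x * g⁻¹) * t) * g := by group
        _ = g⁻¹ * t * g * x := by rw [show g * (x : G) * g⁻¹ * t = t * (g * x * g⁻¹) from h]; group)
    have hy1 : y ≠ 1 := fun h => by
      have h' : g⁻¹ * (t : G) * g = 1 := congrArg Subtype.val h
      have ht1 : (t : G) = 1 := by
        rw [show (t : G) = g * (g⁻¹ * t * g) * g⁻¹ by group, h']; group
      rw [show t = 1 from Subtype.ext ht1, map_one] at htψ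
      exact hne htψ.symm
    have hyD : y ∈ commutator ↥(X : Subgroup G) := huniq y hyc hy2 hy1 hψy ▸ hwD
    -- conjugation by `g` carries it back to `t`
    let α : ↥(X : Subgroup G) →* ↥(X : Subgroup G) :=
      { toFun := fun x => ⟨g * x * g⁻¹, hg' x x.2⟩
        map_one' := Subtype.ext (by simp)
        map_mul' := fun x x' => Subtype.ext (by
          show g * ((x : G) * x') * g⁻¹ = g * x * g⁻¹ * (g * x' * g⁻¹)
          group) }
    have hle : (commutator ↥(X : Subgroup G)).map α ≤ commutator ↥(X : Subgroup G) := by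
      rw [_root_.commutator_def, Subgroup.map_commutator]
      exact commutator_mono le_top le_top
    have htD : t ∈ commutator ↥(X : Subgroup G) := by
      have h := hle ⟨y, hyD, rfl⟩
      rwa [show α y = t from Subtype.ext (show g * (g⁻¹ * (t : G) * g) * g⁻¹ = t by group)] at h
    have : ψ t = 1 := Abelianization.commutator_subset_ker ψ htD
    exact hne (htψ.symm.trans this)
  -- a subgroup of index two
  set V := MonoidHom.transfer ψ with hVdef
  have hVt : V (t : G) = -1 := by
    refine (hval _ ?_).resolve_left hV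
    rw [← map_pow, show (t : G) ^ 2 = 1 from congrArg Subtype.val ht2, map_one]
  let sq : V.range →* V.range := powMonoidHom 2
  have hker : Nat.card sq.ker = 2 := by
    rw [Nat.card_eq_two_iff]
    have hm : ⟨-1, ⟨t, hVt⟩⟩ ∈ sq.ker := Subtype.ext (by simp [sq])
    refine ⟨1, ⟨_, hm⟩, fun h => hne ?_, ?_⟩
    · exact (congrArg (fun z : sq.ker => ((z : V.range) : Fˣ)) h).symm
    · refine Set.eq_univ_of_forall fun a => ?_
      have ha : ((a : V.range) : Fˣ) ^ 2 = 1 := congrArg Subtype.val a.2
      rcases hval _ ha with h | h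
      · exact Or.inl (Subtype.ext (Subtype.ext h))
      · exact Or.inr (Subtype.ext (Subtype.ext h))
  haveI : Finite V.range := Finite.of_surjective _ V.rangeRestrict_surjective
  refine hG (sq.range.comap V.rangeRestrict) ?_
  rw [index_comap_of_surjective _ V.rangeRestrict_surjective]
  have h1 := sq.range.card_mul_index
  have h2' := sq.ker.card_mul_index
  rw [Subgroup.index_ker, hker] at h2'
  have hpos : 0 < Nat.card sq.range := Nat.card_pos
  exact Nat.eq_of_mul_eq_mul_left hpos (by rw [h1, mul_comm, h2'])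

end CfsgLib.CentralTransferThree
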