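import Cfsg.Agent.Lib.Fusion.System.Group
import Cfsg.Agent.Lib.Fusion.System.Centric
import Cfsg.Agent.Lib.Coprime.Core
import Cfsg.Agent.Lib.Fusion.ThompsonComplement
import Cfsg.Prelude.Def_TwoFusion
import Mathlib.GroupTheory.Transfer

/-!
# Centric subgroups in the fusion system of a group
-/

set_option autoImplicit false
set_option linter.style.haveILetI false

open Subgroup

namespace CfsgLib.CFun

open Cfsg (groupFusionSystem)
open CfsgLib.Fusion (conjBy conj_mem_conjBy conjBy_le_iff IsMap isMap_group_iff)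

universe u

variable {G : Type u} [Group G] [Finite G] {p : ℕ} [Fact p.Prime]

/-- For a centric `Q` every `p`-subgroup of `C(Q)` lies in `Q`. -/
theorem le_of_isCentric_group (P : Sylow p G) {Q : Subgroup G}
    (hc : (groupFusionSystem (P : Subgroup G)).IsCentric Q) {R : Subgroup G} (hR : IsPGroup p R)
    (hRC : R ≤ centralizer (Q : Set G)) : R ≤ Q := by
  have hRQ : R ≤ normalizer (Q : Set G) := fun r hr =>
    CfsgLib.Fusion.conjBy_eq_iff.1 (CfsgLib.Fusion.conjBy_eq_of_le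
      (conjBy_le_iff.2 fun q hq => by
        rw [← mem_centralizer_iff.1 (hRC hr) q hq, mul_inv_cancel_right]; exact hq))
  have hp' : IsPGroup p (R ⊔ Q : Subgroup G) :=
    hR.to_sup_of_normal_right' (P.2.to_le hc.1) hRQ
  obtain ⟨S, hS⟩ := hp'.exists_le_sylow
  obtain ⟨g, hg⟩ := MulAction.exists_smul_eq G S P
  have hgP : ∀ x ∈ (R ⊔ Q : Subgroup G), g * x * g⁻¹ ∈ (P : Subgroup G) := fun x hx => by
    rw [← hg]
    exact ⟨x, hS hx, rfl⟩
  have hconj : (groupFusionSystem (P : Subgroup G)).IsConj Q (conjBy g Q) := by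
    have hf : IsMap (groupFusionSystem (P : Subgroup G)) Q (fun x => g * x * g⁻¹) :=
      isMap_group_iff.2 ⟨hc.1, g, fun x hx => ⟨hgP x (mem_sup_right hx), rfl⟩⟩
    refine CfsgLib.Fusion.isConj_iff.2 ⟨_, hf, ?_⟩
    ext y
    rw [hf.mem_img]
    exact ⟨fun ⟨x, hx, e⟩ => ⟨x, hx, e⟩, fun ⟨x, hx, e⟩ => ⟨x, hx, e⟩⟩
  intro r hr
  have h1 : g * r * g⁻¹ ∈ Cfsg.FusionSystem.centralizerIn (P : Subgroup G) (conjBy g Q) := by
    refine ⟨hgP r (mem_sup_left hr), mem_centralizer_iff.2 ?_⟩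
    rintro _ ⟨q, hq, rfl⟩
    show g * q * g⁻¹ * (g * r * g⁻¹) = g * r * g⁻¹ * (g * q * g⁻¹)
    rw [show g * q * g⁻¹ * (g * r * g⁻¹) = g * (q * r) * g⁻¹ by group,
      mem_centralizer_iff.1 (hRC hr) q hq]
    group
  obtain ⟨x, hx, e⟩ := hc.2 _ hconj h1
  have e' : g * x * g⁻¹ = g * r * g⁻¹ := e
  rwa [← mul_left_cancel (mul_right_cancel e')]

/-- `C(Q) = Z(Q) × O_{p'}(C(Q))` for a centric `Q`. -/
theorem centralizer_eq_of_isCentric (P : Sylow p G) {Q : Subgroup G}
    (hc : (groupFusionSystem (P : Subgroup G)).IsCentric Q) :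
    Cfsg.IsInternalDirectProduct (Q ⊓ centralizer (Q : Set G))
      ((Cfsg.pPrimeCore p ↥(centralizer (Q : Set G))).map (centralizer (Q : Set G)).subtype)
      (centralizer (Q : Set G)) := by
  set C := centralizer (Q : Set G) with hC
  set D := Cfsg.pPrimeCore p ↥C with hD
  refine ⟨inf_le_right, map_subtype_le _, fun a ha b hb => ?_, ?_, ?_⟩
  · obtain ⟨y, -, rfl⟩ := hb
    exact mem_centralizer_iff.1 y.2 a (mem_inf.1 ha).1
  · rw [eq_bot_iff]
    rintro x ⟨hx, y, hy, rfl⟩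
    exact mem_bot.2 (CfsgLib.Fusion.eq_one_of_pGroup_of_coprime (P.2.to_le hc.1) (mem_inf.1 hx).1
      (by
        exact (CfsgLib.Fusion.not_dvd_card_iff_forall_coprime_orderOf
          ((Cfsg.pPrimeCore p ↥C).map C.subtype)).1 (by
            rw [← Nat.card_congr (D.equivMapOfInjective C.subtype C.subtype_injective).toEquiv]
            exact CfsgLib.Coprime.pPrimeCore_not_dvd Fact.out) (y : G) ⟨y, hy, rfl⟩))
  refine le_antisymm (sup_le inf_le_right (map_subtype_le _)) ?_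
  obtain ⟨R⟩ := (inferInstance : Nonempty (Sylow p C))
  have hRQ : (R : Subgroup C).map C.subtype ≤ Q :=
    le_of_isCentric_group P hc (R.2.map _) (map_subtype_le _)
  have hcen : normalizer ((R : Subgroup C) : Set C) ≤ centralizer ((R : Subgroup C) : Set C) :=
    fun x _ => mem_centralizer_iff.2 fun r hr =>
      Subtype.ext (mem_centralizer_iff.1 x.2 r (hRQ ⟨r, hr, rfl⟩))
  have hcompl := MonoidHom.ker_transferSylow_isComplement' R hcen
  have hker : (MonoidHom.transferSylow R hcen).ker ≤ D :=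
    CfsgLib.Coprime.le_pPrimeCore (((Fact.out : p.Prime).coprime_iff_not_dvd.2
      (MonoidHom.not_dvd_card_ker_transferSylow R hcen)).symm)
  intro x hx
  have hx' : (⟨x, hx⟩ : C) ∈ (R : Subgroup C) ⊔ D := by
    have := hcompl.sup_eq_top
    exact (sup_le (hker.trans le_sup_right) le_sup_left : _ ≤ (R : Subgroup C) ⊔ D)
      (this.symm ▸ mem_top _)
  have hx'' := mem_map_of_mem C.subtype hx'
  rw [Subgroup.map_sup] at hx''
  exact sup_le_sup (le_inf hRQ (map_subtype_le _)) le_rfl hx''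

/-- The converse: `C(Q) = Z(Q) × O_{p'}(C(Q))` makes `Q` centric. -/
theorem isCentric_of_centralizer_eq (P : Sylow p G) {Q : Subgroup G} (hQ : Q ≤ (P : Subgroup G))
    (h : Cfsg.IsInternalDirectProduct (Q ⊓ centralizer (Q : Set G))
      ((Cfsg.pPrimeCore p ↥(centralizer (Q : Set G))).map (centralizer (Q : Set G)).subtype)
      (centralizer (Q : Set G))) :
    (groupFusionSystem (P : Subgroup G)).IsCentric Q := by
  obtain ⟨-, -, hcomm, -, hsup⟩ := h
  set C := centralizer (Q : Set G) with hC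
  set D := (Cfsg.pPrimeCore p ↥C).map C.subtype with hD
  refine ⟨hQ, fun T hT y hy => ?_⟩
  obtain ⟨f, hf, rfl⟩ := CfsgLib.Fusion.isConj_iff.1 hT
  obtain ⟨-, g, hg⟩ := isMap_group_iff.1 hf
  obtain ⟨hyP, hyC⟩ := hy
  have hy' : g⁻¹ * y * g ∈ C := mem_centralizer_iff.2 fun q hq => by
    have h1 := mem_centralizer_iff.1 hyC (f q) (hf.mem_img.2 ⟨q, hq, rfl⟩)
    rw [(hg q hq).2] at h1
    calc q * (g⁻¹ * y * g) = g⁻¹ * (g * q * g⁻¹ * y) * g := by group
      _ = g⁻¹ * y * g * q := by rw [h1]; group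
  have hDn : C ≤ normalizer (D : Set G) := by
    haveI := CfsgLib.Coprime.pPrimeCore_characteristic (G := C) p
    intro c hc
    exact le_normalizer_map C.subtype
      ⟨⟨c, hc⟩, (normalizer_eq_top (Cfsg.pPrimeCore p ↥C)).symm ▸ mem_top _, rfl⟩
  rw [← hsup] at hy'
  obtain ⟨z, hz, d, hd, e⟩ : ∃ z ∈ Q ⊓ C, ∃ d ∈ D, z * d = g⁻¹ * y * g := by
    have hle : (Q ⊓ C : Subgroup G) ≤ normalizer (D : Set G) := inf_le_right.trans hDn
    rw [← SetLike.mem_coe, coe_mul_of_left_le_normalizer_right _ _ hle] at hy'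
    exact hy'
  obtain ⟨k, hk⟩ := P.2 ⟨y, hyP⟩
  obtain ⟨k', hk'⟩ := (P.2.to_le hQ) ⟨z, (mem_inf.1 hz).1⟩
  have hzd : Commute z d := hcomm z hz d hd
  have h1 : d ^ p ^ (k + k') = 1 := by
    have h2 : (z * d) ^ p ^ (k + k') = 1 := by
      have hy1 : y ^ p ^ k = 1 := congrArg Subtype.val hk
      rw [e, show g⁻¹ * y * g = g⁻¹ * y * (g⁻¹)⁻¹ by rw [inv_inv], conj_pow, pow_add, pow_mul, hy1,
        one_pow, mul_one, mul_inv_cancel]
    rw [hzd.mul_pow, add_comm k k', pow_add, pow_mul z,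
      show z ^ p ^ k' = 1 from congrArg Subtype.val hk', one_pow, one_mul] at h2
    rwa [add_comm k k', pow_add]
  have hd1 : d = 1 := by
    obtain ⟨w, hw, rfl⟩ := hd
    have hco := (CfsgLib.Fusion.not_dvd_card_iff_forall_coprime_orderOf (Cfsg.pPrimeCore p ↥C)).1
      (CfsgLib.Coprime.pPrimeCore_not_dvd Fact.out) w hw
    have hw1 : w ^ p ^ (k + k') = 1 := C.subtype_injective (by rw [map_pow, map_one]; exact h1)
    rw [orderOf_eq_one_iff.1 (Nat.eq_one_of_dvd_coprimes (hco.pow_right (k + k')) dvd_rfl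
      (orderOf_dvd_of_pow_eq_one hw1)), map_one]
  rw [hd1, mul_one] at e
  refine hf.mem_img.2 ⟨z, (mem_inf.1 hz).1, ?_⟩
  rw [(hg z (mem_inf.1 hz).1).2, e]
  group

end CfsgLib.CFun
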