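import Cfsg.Agent.Lib.CFun.LocalGlobal

/-!
# Conjugation families
-/

set_option autoImplicit false

open Subgroup
open CfsgLib.Fusion (conjBy mem_conjBy conj_mem_conjBy conjBy_le_iff conjBy_eq_iff conjBy_conjBy
  conjBy_mono conjBy_normalizer card_conjBy isPGroup_conjBy exists_conj_le_of_not_dvd_relIndex)

namespace CfsgLib.CFun

variable {G : Type*} [Group G]

/-- The conjugation `a ↦ g⁻¹ a g` on `A` is performed inside normalizers of members of `𝓕`. -/
inductive Factors (𝓕 : Set (Subgroup G)) : Set G → G → Prop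
  | nil (A : Set G) : Factors 𝓕 A 1
  | cons (A : Set G) (T : Subgroup G) (x g : G) : T ∈ 𝓕 → x ∈ normalizer (T : Set G) →
      A ⊆ T → Factors 𝓕 ((fun a => x⁻¹ * a * x) '' A) g → Factors 𝓕 A (x * g)

variable {𝓕 : Set (Subgroup G)}

theorem Factors.mono {A B : Set G} {g : G} (h : Factors 𝓕 A g) (hBA : B ⊆ A) :
    Factors 𝓕 B g := by
  induction h generalizing B with
  | nil A => exact .nil B
  | cons A T x g hT hx hA _ ih =>
    exact .cons B T x g hT hx (hBA.trans hA) (ih (Set.image_mono hBA))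

theorem Factors.single {A : Set G} {T : Subgroup G} {x : G} (hT : T ∈ 𝓕)
    (hx : x ∈ normalizer (T : Set G)) (hA : A ⊆ T) : Factors 𝓕 A x := by
  simpa using Factors.cons A T x 1 hT hx hA (.nil _)

theorem Factors.trans {A : Set G} {g h : G} (hg : Factors 𝓕 A g)
    (hh : Factors 𝓕 ((fun a => g⁻¹ * a * g) '' A) h) : Factors 𝓕 A (g * h) := by
  induction hg with
  | nil A => simpa using hh
  | cons A T x g hT hx hA _ ih =>
    rw [mul_assoc]
    refine .cons A T x _ hT hx hA (ih ?_)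
    rw [Set.image_image]
    simpa [mul_assoc] using hh

theorem Factors.to_fin {A : Set G} {g : G} (h : Factors 𝓕 A g) :
    ∃ (n : ℕ) (T : Fin n → Subgroup G) (x : Fin n → G), (List.ofFn x).prod = g ∧
      (∀ i, T i ∈ 𝓕) ∧ (∀ i, x i ∈ normalizer ((T i : Subgroup G) : Set G)) ∧
      ∀ i : Fin n, (fun a => (((List.ofFn x).take i.val).prod)⁻¹ * a *
        ((List.ofFn x).take i.val).prod) '' A ⊆ T i := by
  induction h with
  | nil A => exact ⟨0, Fin.elim0, Fin.elim0, by simp, fun i => i.elim0, fun i => i.elim0,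
      fun i => i.elim0⟩
  | cons A T x g hT hx hA _ ih =>
    obtain ⟨n, Ts, xs, hp, hT', hx', hs⟩ := ih
    refine ⟨n + 1, Fin.cons T Ts, Fin.cons x xs, by simp [List.ofFn_succ, hp],
      Fin.cases hT hT', Fin.cases hx hx', ?_⟩
    intro i
    induction i using Fin.cases with
    | zero => simpa using hA
    | succ j =>
      have := hs j
      rw [Set.image_image] at this
      simpa [List.ofFn_succ, mul_assoc] using this

theorem isConjugationFamily_of_factors {S : Subgroup G} (h1 : ∀ T ∈ 𝓕, T ≤ S)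
    (h2 : ∀ (A : Set G) (g : G), A.Nonempty → A ⊆ S → (fun a => g⁻¹ * a * g) '' A ⊆ S →
      Factors 𝓕 A g) : Cfsg.IsConjugationFamily 𝓕 S := by
  refine ⟨h1, fun A g hne hA hgA => ?_⟩
  obtain ⟨n, T, x, hp, hT, hx, hs⟩ := (h2 A g hne hA hgA).to_fin
  exact ⟨n, T, x, hp, hT, hx, fun h => by simpa using hs ⟨0, h⟩, fun i h => hs ⟨i.val + 1, h⟩⟩

theorem image_conj (g : G) (R : Subgroup G) :
    (fun a => g⁻¹ * a * g) '' (R : Set G) = (conjBy g⁻¹ R : Subgroup G) := by
  ext y
  simp only [Set.mem_image, SetLike.mem_coe, mem_conjBy, inv_inv]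
  exact ⟨by rintro ⟨a, ha, rfl⟩; simpa [mul_assoc] using ha,
    fun hy => ⟨g * y * g⁻¹, hy, by group⟩⟩

variable [Finite G] {p : ℕ} [Fact p.Prime]

/-- The criterion: every subgroup of `S` has a fully normalized conjugate in the family. -/
theorem factors_of_criterion (S : Sylow p G) (h𝓕 : ∀ U ∈ 𝓕, U ≤ (S : Subgroup G))
    (h : ∀ T : Subgroup G, T ≤ (S : Subgroup G) → ∃ U ∈ 𝓕, (∃ g : G, conjBy g T = U) ∧
      ¬ p ∣ ((S : Subgroup G) ⊓ normalizer (U : Set G)).relIndex (normalizer (U : Set G)))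
    (n : ℕ) : ∀ R : Subgroup G, R ≤ (S : Subgroup G) →
      Nat.card (S : Subgroup G) - Nat.card R = n →
      ∀ g : G, conjBy g⁻¹ R ≤ (S : Subgroup G) → Factors 𝓕 (R : Set G) g := by
  induction n using Nat.strong_induction_on with
  | _ n ih =>
  intro R hR hn g hg
  obtain ⟨U, hU, ⟨k, hk⟩, hfull⟩ := h R hR
  rcases eq_or_ne R (S : Subgroup G) with hRS | hRS
  · subst hRS
    have hUS : U = (S : Subgroup G) :=
      Subgroup.eq_of_le_of_card_ge (h𝓕 U hU) (by rw [← hk, card_conjBy])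
    have hgS : conjBy g⁻¹ (S : Subgroup G) = S := CfsgLib.Fusion.conjBy_eq_of_le hg
    refine .single hU ?_ (hUS ▸ le_rfl)
    rw [hUS]
    simpa using inv_mem (conjBy_eq_iff.1 hgS)
  -- an element taking the normalizer in `S` of a conjugate into that of `U`
  have key : ∀ (R' : Subgroup G) (l : G), conjBy l R' = U → R' ≤ (S : Subgroup G) →
      ∃ m : G, conjBy m R' = U ∧
        conjBy m ((S : Subgroup G) ⊓ normalizer (R' : Set G)) ≤
          (S : Subgroup G) ⊓ normalizer (U : Set G) := by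
    intro R' l hl _
    obtain ⟨c, hc, hle⟩ := exists_conj_le_of_not_dvd_relIndex
      (S.2.to_le (inf_le_left : (S : Subgroup G) ⊓ normalizer (U : Set G) ≤ S)) inf_le_right hfull
      (isPGroup_conjBy l (S.2.to_le (inf_le_left : (S : Subgroup G) ⊓ normalizer (R' : Set G) ≤ S)))
      (by rw [← hl, ← conjBy_normalizer]; exact conjBy_mono inf_le_right)
    rw [conjBy_conjBy] at hle
    exact ⟨c * l, by rw [← conjBy_conjBy, hl, conjBy_eq_iff.2 hc], hle⟩
  set R' := conjBy g⁻¹ R with hR'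
  obtain ⟨m, hm, hmle⟩ := key R k hk hR
  obtain ⟨m', hm', hm'le⟩ := key R' (k * g)
    (by rw [hR', conjBy_conjBy, mul_inv_cancel_right, hk]) hg
  have hR'ne : R' ≠ (S : Subgroup G) := fun e => hRS (Subgroup.eq_of_le_of_card_ge hR
    (by rw [← e, hR', card_conjBy]))
  set N := (S : Subgroup G) ⊓ normalizer (R : Set G)
  set N' := (S : Subgroup G) ⊓ normalizer (R' : Set G)
  have hN : Nat.card R < Nat.card N := card_lt_card (lt_inf_normalizer_sylow S hR hRS)
  have hN' : Nat.card R' < Nat.card N' := card_lt_card (lt_inf_normalizer_sylow S hg hR'ne)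
  have hc : Nat.card R' = Nat.card R := card_conjBy _ R
  have hNS : Nat.card N ≤ Nat.card (S : Subgroup G) := Subgroup.card_le_of_le inf_le_left
  have hN'S : Nat.card N' ≤ Nat.card (S : Subgroup G) := Subgroup.card_le_of_le inf_le_left
  have f1 : Factors 𝓕 (R : Set G) m⁻¹ :=
    (ih _ (by omega) N inf_le_left rfl m⁻¹ (by rw [inv_inv]; exact hmle.trans inf_le_left)).mono
      fun x hx => ⟨hR hx, le_normalizer hx⟩
  have hN'c : Nat.card (conjBy m' N') = Nat.card N' := card_conjBy _ _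
  have f3 : Factors 𝓕 (U : Set G) m' :=
    (ih (Nat.card (S : Subgroup G) - Nat.card (conjBy m' N')) (by omega) (conjBy m' N')
      (hm'le.trans inf_le_left) rfl m' (by
        rw [CfsgLib.Fusion.conjBy_inv_conjBy]; exact inf_le_left)).mono (by
        rw [← hm']
        exact conjBy_mono (le_inf hg le_normalizer))
  have hmid : m * g * m'⁻¹ ∈ normalizer (U : Set G) := by
    refine conjBy_eq_iff.1 ?_
    rw [← conjBy_conjBy, ← conjBy_conjBy]
    have h1 : conjBy m'⁻¹ U = R' := by rw [← hm', CfsgLib.Fusion.conjBy_inv_conjBy]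
    rw [h1, hR', conjBy_conjBy g g⁻¹, mul_inv_cancel, CfsgLib.Fusion.conjBy_one, hm]
  have h0 : (fun a => m⁻¹⁻¹ * a * m⁻¹) '' (R : Set G) = (U : Set G) := by
    rw [image_conj, inv_inv, hm]
  have h2 : (fun a => (m * g * m'⁻¹)⁻¹ * a * (m * g * m'⁻¹)) '' (U : Set G) = (U : Set G) := by
    rw [image_conj, conjBy_eq_iff.2 (inv_mem hmid)]
  have := f1.trans (h := m * g * m'⁻¹ * m') (by
    rw [h0]
    exact (Factors.single hU hmid le_rfl).trans (by rw [h2]; exact f3))
  simpa [mul_assoc] using this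

theorem isConjugationFamily_of_criterion (S : Sylow p G) (h𝓕 : ∀ U ∈ 𝓕, U ≤ (S : Subgroup G))
    (h : ∀ T : Subgroup G, T ≤ (S : Subgroup G) → ∃ U ∈ 𝓕, (∃ g : G, conjBy g T = U) ∧
      ¬ p ∣ ((S : Subgroup G) ⊓ normalizer (U : Set G)).relIndex (normalizer (U : Set G))) :
    Cfsg.IsConjugationFamily 𝓕 (S : Subgroup G) := by
  refine isConjugationFamily_of_factors h𝓕 fun A g _ hA hgA => ?_
  refine (factors_of_criterion S h𝓕 h _ (Subgroup.closure A) ((closure_le _).2 hA) rfl g ?_).mono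
    subset_closure
  show (Subgroup.closure A).map _ ≤ _
  rw [MonoidHom.map_closure, closure_le]
  rintro _ ⟨a, ha, rfl⟩
  simpa using hgA ⟨a, ha, rfl⟩

/-- The members containing a normal `p`-subgroup still form a conjugation family. -/
theorem isConjugationFamily_ge (S : Sylow p G) (Q : Subgroup G) [hQn : Q.Normal]
    (hQ : IsPGroup p Q) (h : Cfsg.IsConjugationFamily 𝓕 (S : Subgroup G)) :
    Cfsg.IsConjugationFamily {T : Subgroup G | T ∈ 𝓕 ∧ Q ≤ T} (S : Subgroup G) := by
  refine ⟨fun T hT => h.1 T hT.1, fun A g hne hA hgA => ?_⟩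
  have hQS := hQ.le_sylow_of_normal S
  obtain ⟨n, T, x, hp, hT, hx, h0, hs⟩ := h.2 (A ∪ (Q : Set G)) g (hne.mono Set.subset_union_left)
    (Set.union_subset hA hQS) (by
      rintro _ ⟨a, ha | ha, rfl⟩
      · exact hgA ⟨a, ha, rfl⟩
      · exact hQS (hQn.conj_mem' a ha g))
  have hQT : ∀ i, Q ≤ T i := by
    rintro ⟨i, hi⟩
    cases i with
    | zero => exact fun q hq => h0 hi (Or.inr hq)
    | succ i =>
      intro q hq
      set c := ((List.ofFn x).take (i + 1)).prod
      exact hs ⟨i, Nat.lt_of_succ_lt hi⟩ hi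
        ⟨c * q * c⁻¹, Or.inr (hQn.conj_mem q hq c), by
          show c⁻¹ * (c * q * c⁻¹) * c = q
          group⟩
  exact ⟨n, T, x, hp, fun i => ⟨hT i, hQT i⟩, hx, fun hn a ha => h0 hn (Or.inl ha),
    fun i hi => (Set.image_mono Set.subset_union_left).trans (hs i hi)⟩

end CfsgLib.CFun
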