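import Cfsg.Agent.Lib.Coprime.Action
import Mathlib.GroupTheory.Nilpotent
import Mathlib.GroupTheory.Sylow

/-!
# Propagating local conjugation to the whole group

A relation `D X a` between sets `X` and elements `a` (meant: "conjugation of `X` by `a` is generated by
allowed steps") closed under restriction, composition and inversion, containing the steps in a set `S`
and the elements centralizing `X`, holds for all conjugations inside a Sylow subgroup `P` as soon as it
holds for the normalizers of the tame subgroups `H ≥ Z(P)`, where the normalizers of `W (N_P(H))` may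
already be assumed.
-/

set_option autoImplicit false
set_option linter.unusedSectionVars false

open Subgroup
open CfsgLib.Coprime (conjBy)

namespace CfsgLib.CFun.ConjPair

universe u

variable {G : Type u} [Group G] [Finite G] {p : ℕ} [hp : Fact p.Prime]

/-- The image of `X` under `x ↦ a⁻¹ x a`. -/
def img (a : G) (X : Set G) : Set G := (fun x => a⁻¹ * x * a) '' X

/-- The subgroup `a⁻¹ A a`. -/
def cj (a : G) (A : Subgroup G) : Subgroup G := A.map (MulAut.conj a⁻¹).toMonoidHom

theorem mem_cj {a x : G} {A : Subgroup G} : x ∈ cj a A ↔ a * x * a⁻¹ ∈ A := by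
  constructor
  · rintro ⟨y, hy, rfl⟩
    show a * (a⁻¹ * y * a⁻¹⁻¹) * a⁻¹ ∈ A
    rwa [show a * (a⁻¹ * y * a⁻¹⁻¹) * a⁻¹ = y by group]
  · intro h
    exact ⟨a * x * a⁻¹, h, show a⁻¹ * (a * x * a⁻¹) * a⁻¹⁻¹ = x by group⟩

theorem conj_mem_cj {a y : G} {A : Subgroup G} (hy : y ∈ A) : a⁻¹ * y * a ∈ cj a A := by
  rw [mem_cj, show a * (a⁻¹ * y * a) * a⁻¹ = y by group]
  exact hy

theorem cj_mono (a : G) {A B : Subgroup G} (h : A ≤ B) : cj a A ≤ cj a B := map_mono h

theorem cj_le_iff {a : G} {A B : Subgroup G} : cj a A ≤ B ↔ ∀ x ∈ A, a⁻¹ * x * a ∈ B := by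
  constructor
  · exact fun h x hx => h (conj_mem_cj hx)
  · intro h x hx
    have := h _ (mem_cj.1 hx)
    rwa [show a⁻¹ * (a * x * a⁻¹) * a = x by group] at this

theorem cj_one (A : Subgroup G) : cj 1 A = A := by
  ext x; simp [mem_cj]

theorem cj_cj (a b : G) (A : Subgroup G) : cj b (cj a A) = cj (a * b) A := by
  ext x
  rw [mem_cj, mem_cj, mem_cj, show a * (b * x * b⁻¹) * a⁻¹ = a * b * x * (a * b)⁻¹ by group]

theorem img_coe (a : G) (A : Subgroup G) : img a (A : Set G) = (cj a A : Set G) := by
  ext x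
  constructor
  · rintro ⟨y, hy, rfl⟩; exact conj_mem_cj hy
  · intro hx
    exact ⟨a * x * a⁻¹, mem_cj.1 hx, show a⁻¹ * (a * x * a⁻¹) * a = x by group⟩

theorem card_cj (a : G) (A : Subgroup G) : Nat.card (cj a A) = Nat.card A :=
  card_map_of_injective (MulAut.conj a⁻¹).injective

theorem img_img (a b : G) (X : Set G) : img b (img a X) = img (a * b) X := by
  simp only [img, Set.image_image]
  exact Set.image_congr' fun x => by group

theorem img_subset {a : G} {X : Set G} {B : Subgroup G} :
    img a X ⊆ (B : Set G) ↔ ∀ x ∈ X, a⁻¹ * x * a ∈ B := Set.image_subset_iff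

theorem mem_normalizer_cj {a n : G} {A : Subgroup G} :
    n ∈ normalizer (cj a A : Set G) ↔ a * n * a⁻¹ ∈ normalizer (A : Set G) := by
  simp only [mem_normalizer_iff, mem_cj]
  constructor
  · intro h z
    have := h (a⁻¹ * z * a)
    simp only [mul_assoc, mul_inv_cancel_left, mul_inv_rev, inv_inv, mul_inv_cancel,
      mul_one] at this ⊢
    exact this
  · intro h z
    have := h (a * z * a⁻¹)
    simp only [mul_assoc, inv_mul_cancel_left, mul_inv_rev, inv_inv, mul_inv_cancel,
      mul_one] at this ⊢
    exact this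

theorem normalizer_cj (a : G) (A : Subgroup G) :
    normalizer (cj a A : Set G) = cj a (normalizer (A : Set G)) := by
  ext n; rw [mem_normalizer_cj, mem_cj]

theorem cj_eq_self {n : G} {A : Subgroup G} (h : n ∈ normalizer (A : Set G)) : cj n A = A := by
  ext x; rw [mem_cj]; exact ((mem_normalizer_iff.1 h) x).symm

/-- A `p`-subgroup lies in one of index prime to `p`. -/
theorem exists_sylow_over {L T₀ : Subgroup G} (hle : T₀ ≤ L) (hT : IsPGroup p T₀) :
    ∃ T : Subgroup G, T₀ ≤ T ∧ T ≤ L ∧ IsPGroup p T ∧ ¬ p ∣ T.relIndex L := by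
  obtain ⟨Q, hQ⟩ := (hT.of_equiv (subgroupOfEquivOfLe hle).symm).exists_le_sylow
  refine ⟨(Q : Subgroup L).map L.subtype, fun x hx => ?_, map_subtype_le _, Q.2.map _, ?_⟩
  · exact ⟨⟨x, hle hx⟩, hQ (mem_subgroupOf.2 hx), rfl⟩
  · rw [relIndex, subgroupOf, comap_map_eq_self_of_injective L.subtype_injective]
    exact Q.not_dvd_index

theorem eq_of_not_dvd {L T T' : Subgroup G} (hTT' : T ≤ T') (hT'L : T' ≤ L)
    (hT' : IsPGroup p T') (h : ¬ p ∣ T.relIndex L) : T' = T := by
  obtain ⟨j, hj⟩ := IsPGroup.iff_card.1 hT'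
  have h1 : T.relIndex T' ∣ Nat.card T' := by
    rw [relIndex]; exact index_dvd_card _
  rw [hj] at h1
  obtain ⟨i, -, hi⟩ := (Nat.dvd_prime_pow hp.out).1 h1
  have h2 : T.relIndex T' ∣ T.relIndex L := Dvd.intro _ (relIndex_mul_relIndex _ _ _ hTT' hT'L)
  have hi0 : i = 0 := by
    by_contra hne
    exact h (((dvd_pow_self p hne).trans hi.symm.dvd).trans h2)
  rw [hi0, pow_zero, relIndex_eq_one] at hi
  exact le_antisymm hi hTT'

/-- A `p`-subgroup of `L` is `L`-conjugate into one of index prime to `p`. -/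
theorem exists_conj_into {L T R : Subgroup G} (hTL : T ≤ L) (hT : IsPGroup p T)
    (hidx : ¬ p ∣ T.relIndex L) (hRL : R ≤ L) (hR : IsPGroup p R) :
    ∃ m ∈ L, cj m R ≤ T := by
  set S : Sylow p L := (hT.of_equiv (subgroupOfEquivOfLe hTL).symm).toSylow hidx with hS
  obtain ⟨Q, hQ⟩ := (hR.of_equiv (subgroupOfEquivOfLe hRL).symm).exists_le_sylow
  obtain ⟨c, hc⟩ := MulAction.exists_smul_eq L Q S
  refine ⟨(c : G)⁻¹, inv_mem c.2, cj_le_iff.2 fun x hx => ?_⟩
  have h1 : MulAut.conj c ⟨x, hRL hx⟩ ∈ (S : Subgroup L) := by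
    rw [← hc]
    exact smul_mem_pointwise_smul (⟨x, hRL hx⟩ : L) (MulAut.conj c) _ (hQ (mem_subgroupOf.2 hx))
  rw [inv_inv]
  exact h1

/-- The intersection with a normal subgroup keeps the index prime to `p`. -/
theorem inf_normal_not_dvd {L C T : Subgroup G} (hCL : C ≤ L) (hLC : L ≤ normalizer (C : Set G))
    (hTL : T ≤ L) (hT : IsPGroup p T) (hidx : ¬ p ∣ T.relIndex L) :
    ¬ p ∣ (T ⊓ C).relIndex C := by
  obtain ⟨T', h1, hT'C, hT', hidx'⟩ := exists_sylow_over (inf_le_right (a := T) (b := C))
    (hT.to_le inf_le_left)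
  obtain ⟨m, hm, hmT⟩ := exists_conj_into hTL hT hidx (hT'C.trans hCL) hT'
  have h2 : cj m T' ≤ T ⊓ C := le_inf hmT ((cj_mono m hT'C).trans (cj_eq_self (hLC hm)).le)
  rw [eq_of_le_of_card_ge h1 ((card_cj m T').symm.le.trans (card_le_of_le h2))]
  exact hidx'

variable (P : Sylow p G)

/-- `N_P(A)` is a Sylow subgroup of `N(A)`. -/
def Tame (A : Subgroup G) : Prop :=
  ¬ p ∣ ((P : Subgroup G) ⊓ normalizer (A : Set G)).relIndex (normalizer (A : Set G))

theorem exists_into (T : Subgroup G) (hT : IsPGroup p T) : ∃ h : G, cj h T ≤ (P : Subgroup G) := by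
  obtain ⟨m, -, hm⟩ := exists_conj_into (L := ⊤) (T := (P : Subgroup G)) le_top P.2
    (by rw [relIndex_top_right]; exact P.not_dvd_index) le_top hT
  exact ⟨m, hm⟩

theorem tame_move {A T : Subgroup G} {h : G} (hTN : T ≤ normalizer (A : Set G))
    (hidx : ¬ p ∣ T.relIndex (normalizer (A : Set G))) (hh : cj h T ≤ (P : Subgroup G)) :
    (P : Subgroup G) ⊓ normalizer (cj h A : Set G) = cj h T ∧ Tame P (cj h A) := by
  have h1 : cj h T ≤ normalizer (cj h A : Set G) :=
    (cj_mono h hTN).trans (normalizer_cj h A).ge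
  have h2 : ¬ p ∣ (cj h T).relIndex (normalizer (cj h A : Set G)) := by
    rwa [normalizer_cj, cj, cj, relIndex_map_map_of_injective _ _ (MulAut.conj h⁻¹).injective]
  have he := eq_of_not_dvd (le_inf hh h1) inf_le_right (P.2.to_le inf_le_left) h2
  exact ⟨he, by rwa [Tame, he]⟩

theorem tame_extend {A : Subgroup G} {h : G} (hA : Tame P A)
    (hh : cj h ((P : Subgroup G) ⊓ normalizer (A : Set G)) ≤ (P : Subgroup G)) :
    (P : Subgroup G) ⊓ normalizer (cj h A : Set G) =
      cj h ((P : Subgroup G) ⊓ normalizer (A : Set G)) :=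
  (tame_move P inf_le_right hA hh).1

theorem exists_tame_move {A : Subgroup G} :
    ∃ h : G, cj h ((P : Subgroup G) ⊓ normalizer (A : Set G)) ≤ (P : Subgroup G) ∧
      Tame P (cj h A) := by
  obtain ⟨T, hT₀, hTN, hT, hidx⟩ := exists_sylow_over
    (inf_le_right (a := (P : Subgroup G)) (b := normalizer (A : Set G))) (P.2.to_le inf_le_left)
  obtain ⟨h, hh⟩ := exists_into P T hT
  exact ⟨h, (cj_mono h hT₀).trans hh, (tame_move P hTN hidx hh).2⟩

theorem lt_normalizer_inf {A : Subgroup G} (hA : A ≤ (P : Subgroup G))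
    (hne : A ≠ (P : Subgroup G)) : A < (P : Subgroup G) ⊓ normalizer (A : Set G) := by
  refine lt_of_le_of_ne (le_inf hA le_normalizer) fun e => ?_
  haveI : Group.IsNilpotent (P : Subgroup G) := P.2.isNilpotent
  have hlt : A.subgroupOf (P : Subgroup G) < ⊤ := lt_top_iff_ne_top.2 fun h =>
    hne (le_antisymm hA (subgroupOf_eq_top.1 h))
  obtain ⟨x, hx, hxn⟩ := SetLike.exists_of_lt
    (Group.normalizerCondition_of_isNilpotent _ hlt)
  refine hxn (mem_subgroupOf.2 ?_)
  rw [e]
  refine mem_inf.2 ⟨x.2, mem_normalizer_iff.2 fun z => ?_⟩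
  constructor
  · intro hz
    exact (mem_normalizer_iff.1 hx ⟨z, hA hz⟩).1 hz
  · intro hz
    have hzP : z ∈ (P : Subgroup G) := by
      have h' := mul_mem (mul_mem (inv_mem x.2) (hA hz)) x.2
      simpa [mul_assoc] using h'
    exact (mem_normalizer_iff.1 hx ⟨z, hzP⟩).2 hz

/-- `Z(P)`. -/
def ctr : Subgroup G := (P : Subgroup G) ⊓ centralizer ((P : Subgroup G) : Set G)

theorem ctr_le_centralizer {A : Subgroup G} (hA : A ≤ (P : Subgroup G)) :
    ctr P ≤ (P : Subgroup G) ⊓ centralizer (A : Set G) :=
  le_inf inf_le_left (inf_le_right.trans (centralizer_le hA))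

theorem ctr_le_normalizer {A : Subgroup G} (hA : A ≤ (P : Subgroup G)) :
    ctr P ≤ (P : Subgroup G) ⊓ normalizer (A : Set G) :=
  (ctr_le_centralizer P hA).trans
    (inf_le_inf_left _ (CfsgLib.Coprime.centralizer_le_normalizer_self A))

/-- Every move of `N_P(H)` into `P` keeps `Z(P)` inside `H`. -/
def Good (H : Subgroup G) : Prop :=
  ∀ h : G, cj h ((P : Subgroup G) ⊓ normalizer (H : Set G)) ≤ (P : Subgroup G) → ctr P ≤ cj h H

theorem Good.move {H : Subgroup G} (hH : Good P H) {h : G}
    (hh : cj h ((P : Subgroup G) ⊓ normalizer (H : Set G)) ≤ (P : Subgroup G)) :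
    Good P (cj h H) := by
  intro h' hh'
  rw [cj_cj]
  refine hH _ ?_
  rw [← cj_cj]
  refine le_trans (cj_mono h' (le_inf hh ?_)) hh'
  exact (cj_mono h inf_le_right).trans (normalizer_cj h H).ge

variable (W : Subgroup G → Subgroup G)

/-- The closure properties of the relation. -/
structure Rel (S : Set G) (D : Set G → G → Prop) : Prop where
  mono : ∀ {X Y : Set G} {a : G}, Y ⊆ X → D X a → D Y a
  cent : ∀ {X : Set G} {a : G}, a ∈ centralizer X → D X a
  base : ∀ {X : Set G} {a : G}, X ⊆ ((P : Subgroup G) : Set G) →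
    img a X ⊆ ((P : Subgroup G) : Set G) → a ∈ S → D X a
  comp : ∀ {X : Set G} {a b : G}, D X a → D (img a X) b → D X (a * b)
  inv : ∀ {X : Set G} {a : G}, X ⊆ ((P : Subgroup G) : Set G) →
    img a X ⊆ ((P : Subgroup G) : Set G) → D X a → D (img a X) a⁻¹

/-- The properties of `W`. -/
structure WProp (S : Set G) : Prop where
  le : ∀ R : Subgroup G, IsPGroup p R → W R ≤ R
  center_le : ∀ R : Subgroup G, IsPGroup p R → R ⊓ centralizer (R : Set G) ≤ W R
  equiv : ∀ (R : Subgroup G), IsPGroup p R → ∀ g : G, W (cj g R) = cj g (W R)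
  top : (normalizer (W (P : Subgroup G) : Set G) : Set G) ⊆ S

theorem WProp.le_normalizer {S : Set G} (w : WProp P W S) {R : Subgroup G} (hR : IsPGroup p R) :
    normalizer (R : Set G) ≤ normalizer (W R : Set G) := by
  intro g hg
  have he : cj g (W R) = W R := by rw [← w.equiv R hR g, cj_eq_self hg]
  refine mem_normalizer_iff.2 fun z => ?_
  rw [← mem_cj, he]

/-- A move of `U` into tame position which carries the local fusion. -/
def MoveData (D : Set G → G → Prop) (U : Subgroup G) : Prop :=
  ∃ h : G, D (((P : Subgroup G) ⊓ normalizer (U : Set G) : Subgroup G) : Set G) h ∧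
    cj h ((P : Subgroup G) ⊓ normalizer (U : Set G)) ≤ (P : Subgroup G) ∧ Tame P (cj h U) ∧
    ∀ n ∈ normalizer (cj h U : Set G), ∀ X : Set G,
      X ⊆ (((P : Subgroup G) ⊓ normalizer (cj h U : Set G) : Subgroup G) : Set G) →
      img n X ⊆ ((P : Subgroup G) : Set G) → D X n

variable {P} {W} {S : Set G} {D : Set G → G → Prop}

theorem MoveData.fusion (r : Rel P S D) {U : Subgroup G} (m : MoveData P D U) {n : G}
    (hn : n ∈ normalizer (U : Set G)) {X : Set G}
    (hX : X ⊆ (((P : Subgroup G) ⊓ normalizer (U : Set G) : Subgroup G) : Set G))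
    (hXn : img n X ⊆ ((P : Subgroup G) : Set G)) : D X n := by
  obtain ⟨h, hD, hh, -, hloc⟩ := m
  have hY : img n X ⊆ (((P : Subgroup G) ⊓ normalizer (U : Set G) : Subgroup G) : Set G) := by
    rintro _ ⟨x, hx, rfl⟩
    exact mem_inf.2 ⟨hXn ⟨x, hx, rfl⟩, mul_mem (mul_mem (inv_mem hn) (mem_inf.1 (hX hx)).2) hn⟩
  have hsub : ∀ {Y : Set G}, Y ⊆ (((P : Subgroup G) ⊓ normalizer (U : Set G) : Subgroup G) : Set G) →
      img h Y ⊆ (((P : Subgroup G) ⊓ normalizer (cj h U : Set G) : Subgroup G) : Set G) := by
    intro Y hY'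
    rintro _ ⟨y, hy, rfl⟩
    refine mem_inf.2 ⟨hh (conj_mem_cj (hY' hy)), ?_⟩
    rw [normalizer_cj]
    exact conj_mem_cj (mem_inf.1 (hY' hy)).2
  have hn1 : h⁻¹ * n * h ∈ normalizer (cj h U : Set G) := by
    rw [normalizer_cj]; exact conj_mem_cj hn
  have himg : img (h⁻¹ * n * h) (img h X) = img h (img n X) := by
    rw [img_img, img_img]; congr 1; group
  have h1 : D (img h X) (h⁻¹ * n * h) := hloc _ hn1 _ (hsub hX)
    (himg ▸ (hsub hY).trans fun z hz => (mem_inf.1 hz).1)
  have h2 : D (img (h⁻¹ * n * h) (img h X)) h⁻¹ := himg ▸ r.inv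
    (hY.trans fun z hz => (mem_inf.1 hz).1) ((hsub hY).trans fun z hz => (mem_inf.1 hz).1)
    (r.mono hY hD)
  have h3 := r.comp (r.mono hX hD) (r.comp h1 h2)
  rwa [show h * (h⁻¹ * n * h * h⁻¹) = n by group] at h3

/-- The local hypothesis. -/
def Local (P : Sylow p G) (W : Subgroup G → Subgroup G) (D : Set G → G → Prop) : Prop :=
  ∀ H : Subgroup G, H ≤ (P : Subgroup G) → ctr P ≤ H → Tame P H →
    MoveData P D (W ((P : Subgroup G) ⊓ normalizer (H : Set G))) →
    ∀ n ∈ normalizer (H : Set G), ∀ X : Set G,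
      X ⊆ (((P : Subgroup G) ⊓ normalizer (H : Set G) : Subgroup G) : Set G) →
      img n X ⊆ ((P : Subgroup G) : Set G) → D X n

/-- **Local to global.** -/
theorem global (r : Rel P S D) (w : WProp P W S) (hl : Local P W D) :
    ∀ (A : Subgroup G), A ≤ (P : Subgroup G) → ∀ g : G, cj g A ≤ (P : Subgroup G) →
      D (A : Set G) g := by
  have key : ∀ j k : ℕ, Nat.card (P : Subgroup G) < k + j →
      (∀ H : Subgroup G, H ≤ (P : Subgroup G) → Good P H →
        k ≤ Nat.card ↥((P : Subgroup G) ⊓ normalizer (H : Set G)) →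
        ∀ n ∈ normalizer (H : Set G), ∀ X : Set G,
          X ⊆ (((P : Subgroup G) ⊓ normalizer (H : Set G) : Subgroup G) : Set G) →
          img n X ⊆ ((P : Subgroup G) : Set G) → D X n) ∧
      ∀ A : Subgroup G, A ≤ (P : Subgroup G) → k ≤ Nat.card A → ∀ g : G,
        cj g A ≤ (P : Subgroup G) → D (A : Set G) g := by
    intro j
    induction j with
    | zero =>
      intro k hk
      exact ⟨fun H _ _ h => absurd (h.trans (card_le_of_le inf_le_left)) (by omega),
        fun A hA h => absurd (h.trans (card_le_of_le hA)) (by omega)⟩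
    | succ j ih =>
      intro k hk
      obtain ⟨ihA, ihB⟩ := ih (k + 1) (by omega)
      have hB : ∀ A : Subgroup G, A ≤ (P : Subgroup G) → k ≤ Nat.card A → ∀ g : G,
          cj g A ≤ (P : Subgroup G) → D (A : Set G) g := by
        intro A hA hk' g hg
        by_cases hAP : A = (P : Subgroup G)
        · have hgN : g ∈ normalizer ((P : Subgroup G) : Set G) := by
            have he : cj g A = (P : Subgroup G) := eq_of_le_of_card_ge hg
              (le_of_eq (by rw [card_cj, hAP]))
            refine mem_normalizer_iff.2 fun z => ?_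
            rw [← mem_cj, ← hAP, he, hAP]
          exact r.base (fun z hz => hA hz) (img_subset.2 fun x hx => hg (conj_mem_cj hx))
            (w.top (w.le_normalizer P W P.2 hgN))
        obtain ⟨h, hh, ht⟩ := exists_tame_move P (A := A)
        have hlt := lt_normalizer_inf P hA hAP
        have hcard : k + 1 ≤ Nat.card ↥((P : Subgroup G) ⊓ normalizer (A : Set G)) := by
          refine Nat.succ_le_of_lt (lt_of_le_of_lt hk' ?_)
          refine lt_of_le_of_ne (card_le_of_le hlt.le) fun e => hlt.ne ?_
          exact eq_of_le_of_card_ge hlt.le e.ge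
        have hA1 : cj h A ≤ (P : Subgroup G) := (cj_mono h (le_inf hA le_normalizer)).trans hh
        have hD1 : D (A : Set G) h :=
          r.mono (le_inf hA le_normalizer) (ihB _ inf_le_left hcard h hh)
        set A1 := cj h A with hA1def
        set A2 := cj g A with hA2def
        have hn : cj (g⁻¹ * h) A2 = A1 := by
          rw [hA1def, hA2def, cj_cj]; congr 1; group
        have hA2P : A2 ≠ (P : Subgroup G) := fun e => hAP (eq_of_le_of_card_ge hA
          (le_of_eq (by rw [← e, hA2def, card_cj])))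
        have hlt2 := lt_normalizer_inf P hg hA2P
        have hcard2 : k + 1 ≤ Nat.card ↥((P : Subgroup G) ⊓ normalizer (A2 : Set G)) := by
          refine Nat.succ_le_of_lt (lt_of_le_of_lt (by rw [hA2def, card_cj]; exact hk')
            (lt_of_le_of_ne (card_le_of_le hlt2.le) fun e => hlt2.ne ?_))
          exact eq_of_le_of_card_ge hlt2.le e.ge
        obtain ⟨v, hv, hvT⟩ := exists_conj_into (T := (P : Subgroup G) ⊓ normalizer (A1 : Set G))
          inf_le_right (P.2.to_le inf_le_left) ht
          (R := cj (g⁻¹ * h) ((P : Subgroup G) ⊓ normalizer (A2 : Set G)))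
          ((cj_mono _ inf_le_right).trans (by rw [← normalizer_cj, hn]))
          ((P.2.to_le inf_le_left).map _)
        rw [cj_cj] at hvT
        have hD2 : D (A2 : Set G) (g⁻¹ * h * v) :=
          r.mono (le_inf hg le_normalizer) (ihB _ inf_le_left hcard2 _ (hvT.trans inf_le_left))
        have hA2img : img (g⁻¹ * h * v) (A2 : Set G) = (A1 : Set G) := by
          rw [img_coe, ← cj_cj, hn, cj_eq_self hv]
        have hD2' : D (A1 : Set G) (g⁻¹ * h * v)⁻¹ := hA2img ▸ r.inv (fun z hz => hg hz)
          (hA2img ▸ fun z hz => hA1 hz) hD2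
        have hDv : D (A1 : Set G) v := by
          set T1 := (P : Subgroup G) ⊓ normalizer (A1 : Set G)
          set C := centralizer (A1 : Set G)
          set P1 := (P : Subgroup G) ⊓ C with hP1
          have hCN : C ≤ normalizer (A1 : Set G) :=
            CfsgLib.Coprime.centralizer_le_normalizer_self A1
          have hNC : normalizer (A1 : Set G) ≤ normalizer (C : Set G) :=
            CfsgLib.Coprime.normalizer_le_normalizer_centralizer A1
          have hP1' : T1 ⊓ C = P1 := by
            rw [hP1, inf_assoc, inf_eq_right.2 hCN]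
          have hidx : ¬ p ∣ P1.relIndex C := hP1' ▸
            inf_normal_not_dvd hCN hNC inf_le_right (P.2.to_le inf_le_left) ht
          obtain ⟨c, hc, hcP⟩ := exists_conj_into (T := P1) inf_le_right
            (P.2.to_le inf_le_left) hidx (R := cj v P1)
            ((cj_mono v inf_le_right).trans (cj_eq_self (hNC hv)).le)
            ((P.2.to_le inf_le_left).map _)
          rw [cj_cj] at hcP
          have he : cj (v * c) P1 = P1 := eq_of_le_of_card_ge hcP (card_cj _ _).ge
          have hmP1 : v * c ∈ normalizer (P1 : Set G) := by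
            refine mem_normalizer_iff.2 fun z => ?_
            rw [← mem_cj, he]
          have hmA1 : v * c ∈ normalizer (A1 : Set G) := mul_mem hv (hCN hc)
          set H := A1 ⊔ P1
          have hHP : H ≤ (P : Subgroup G) := sup_le hA1 inf_le_left
          have hnH : ∀ u : G, u ∈ normalizer (A1 : Set G) → u ∈ normalizer (P1 : Set G) →
              u ∈ normalizer (H : Set G) := by
            intro u h1 h2
            have he : cj u H = H := by
              show (A1 ⊔ P1).map _ = A1 ⊔ P1
              rw [Subgroup.map_sup]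
              exact congrArg₂ (· ⊔ ·) (cj_eq_self h1) (cj_eq_self h2)
            refine mem_normalizer_iff.2 fun z => ?_
            rw [← mem_cj, he]
          have hT1H : T1 ≤ (P : Subgroup G) ⊓ normalizer (H : Set G) := by
            refine le_inf inf_le_left fun u hu => hnH u (mem_inf.1 hu).2 ?_
            have h1 := inf_le_inf (le_normalizer (H := (P : Subgroup G))) hNC hu
            refine mem_normalizer_iff.2 fun z => ?_
            have a := mem_normalizer_iff.1 (mem_inf.1 h1).1 z
            have b := mem_normalizer_iff.1 (mem_inf.1 h1).2 z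
            simp only [hP1, mem_inf, ← a, ← b]
          have hgood : Good P H := by
            intro h' hh'
            have hT1' : cj h' T1 ≤ (P : Subgroup G) := (cj_mono h' hT1H).trans hh'
            have hext := tame_extend P ht hT1'
            have hA1' : cj h' A1 ≤ (P : Subgroup G) :=
              (cj_mono h' (le_inf hA1 le_normalizer)).trans hT1'
            intro z hz
            obtain ⟨hzP, hzC⟩ := mem_inf.1 (ctr_le_centralizer P hA1' hz)
            have hzN : z ∈ cj h' T1 := hext ▸ mem_inf.2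
              ⟨hzP, CfsgLib.Coprime.centralizer_le_normalizer_self _ hzC⟩
            refine mem_cj.2 (mem_sup_right (mem_inf.2 ⟨(mem_inf.1 (mem_cj.1 hzN)).1,
              mem_centralizer_iff.2 fun a ha => ?_⟩))
            have hc' := mem_centralizer_iff.1 hzC _ (conj_mem_cj (a := h') ha)
            calc a * (h' * z * h'⁻¹) = h' * (h'⁻¹ * a * h' * z) * h'⁻¹ := by group
              _ = h' * (z * (h'⁻¹ * a * h')) * h'⁻¹ := by rw [hc']
              _ = h' * z * h'⁻¹ * a := by group
          have hcardH : k + 1 ≤ Nat.card ↥((P : Subgroup G) ⊓ normalizer (H : Set G)) := by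
            refine le_trans ?_ (card_le_of_le hT1H)
            refine le_trans hcard (le_trans (card_cj h _).ge (card_le_of_le (le_inf hh ?_)))
            exact (cj_mono h inf_le_right).trans (normalizer_cj h A).ge
          have himg : img (v * c) (A1 : Set G) = (A1 : Set G) := by
            rw [img_coe, cj_eq_self hmA1]
          have hm : D (A1 : Set G) (v * c) := ihA H hHP hgood hcardH _ (hnH _ hmA1 hmP1) _
            (fun z hz => hT1H (mem_inf.2 ⟨hA1 hz, le_normalizer hz⟩))
            (himg.le.trans fun z hz => hA1 hz)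
          have h3 := r.comp hm (himg.symm ▸ r.cent (inv_mem hc) : D (img (v * c) (A1 : Set G)) c⁻¹)
          rwa [mul_inv_cancel_right] at h3
        have h4 : D (img v (A1 : Set G)) (g⁻¹ * h * v)⁻¹ := by
          rw [img_coe, cj_eq_self hv]; exact hD2'
        have h5 := r.comp hD1 ((img_coe h A).symm ▸ r.comp hDv h4 :
          D (img h (A : Set G)) (v * (g⁻¹ * h * v)⁻¹))
        rwa [show h * (v * (g⁻¹ * h * v)⁻¹) = g by group] at h5
      refine ⟨fun H hH hgood hkH n hn X hX hXn => ?_, hB⟩
      obtain ⟨h, hh, ht⟩ := exists_tame_move P (A := H)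
      have hD := hB _ inf_le_left hkH h hh
      have hH1 : cj h H ≤ (P : Subgroup G) := (cj_mono h (le_inf hH le_normalizer)).trans hh
      have hZ1 : ctr P ≤ cj h H := hgood h hh
      set R := (P : Subgroup G) ⊓ normalizer (cj h H : Set G) with hR
      have hRp : IsPGroup p R := P.2.to_le inf_le_left
      set U := W R with hUdef
      have hUP : U ≤ (P : Subgroup G) := (w.le R hRp).trans inf_le_left
      have hRU : R ≤ (P : Subgroup G) ⊓ normalizer (U : Set G) :=
        le_inf inf_le_left (le_normalizer.trans (w.le_normalizer P W hRp))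
      have hRk : k ≤ Nat.card R := by
        refine le_trans hkH (le_trans (card_cj h _).ge (card_le_of_le (le_inf hh ?_)))
        exact (cj_mono h inf_le_right).trans (normalizer_cj h H).ge
      have hmd : MoveData P D U := by
        by_cases hRP : R = (P : Subgroup G)
        · refine ⟨1, r.cent (one_mem _), by rw [cj_one]; exact inf_le_left, ?_,
            fun n hn X hX hXn => r.base (fun z hz => (mem_inf.1 (hX hz)).1) hXn ?_⟩
          · rw [cj_one, Tame, inf_eq_left.2 (hRP ▸ hRU.trans inf_le_right)]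
            exact fun hd => P.not_dvd_index
              (hd.trans (Dvd.intro _ (relIndex_mul_index (hRP ▸ hRU.trans inf_le_right))))
          · rw [cj_one, hUdef, hRP] at hn
            exact w.top hn
        have hgU : Good P U := by
          intro h' hh'
          have hR' : cj h' R ≤ (P : Subgroup G) := (cj_mono h' hRU).trans hh'
          have hext := tame_extend P ht hR'
          have hH1' : cj h' (cj h H) ≤ (P : Subgroup G) :=
            (cj_mono h' (le_inf hH1 le_normalizer)).trans hR'
          rw [hUdef, ← w.equiv R hRp h']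
          refine le_trans (le_inf (hext ▸ ctr_le_normalizer P hH1') ?_)
            (w.center_le _ (hRp.map _))
          exact inf_le_right.trans (centralizer_le hR')
        have hcardU : k + 1 ≤ Nat.card ↥((P : Subgroup G) ⊓ normalizer (U : Set G)) := by
          refine le_trans ?_ (card_le_of_le (le_inf (inf_le_left :
            (P : Subgroup G) ⊓ normalizer (R : Set G) ≤ _)
            (inf_le_right.trans (w.le_normalizer P W hRp))))
          have hlt := lt_normalizer_inf P (inf_le_left : R ≤ (P : Subgroup G)) hRP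
          refine Nat.succ_le_of_lt (lt_of_le_of_lt hRk ?_)
          refine lt_of_le_of_ne (card_le_of_le hlt.le) fun e => hlt.ne ?_
          exact eq_of_le_of_card_ge hlt.le e.ge
        obtain ⟨h', hh', ht'⟩ := exists_tame_move P (A := U)
        refine ⟨h', ihB _ inf_le_left hcardU h' hh', hh', ht', fun n hn X hX hXn => ?_⟩
        refine ihA _ ((cj_mono h' (le_inf hUP le_normalizer)).trans hh') (hgU.move P hh') ?_
          n hn X hX hXn
        refine le_trans hcardU (le_trans (card_cj h' _).ge (card_le_of_le (le_inf hh' ?_)))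
        exact (cj_mono h' inf_le_right).trans (normalizer_cj h' U).ge
      have hloc := hl _ hH1 hZ1 ht hmd
      exact MoveData.fusion r ⟨h, hD, hh, ht, hloc⟩ hn hX hXn
  exact fun A hA g hg => (key (Nat.card (P : Subgroup G) + 1) 0 (by omega)).2 A hA
    (Nat.zero_le _) g hg

end CfsgLib.CFun.ConjPair
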