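import Cfsg.Agent.Lib.CFun.ConjRelEngine
import Cfsg.Agent.Lib.Fusion.Transfer
import Cfsg.Agent.Lib.PGroup.CommutatorContainment
import Cfsg.Prelude.Def_ConjugacyFunctors

/-!
# Pairs of conjugacy functors `(W, V)` with `Z ≤ W`, `V ≤ Z`: fusion and transfer
-/

set_option autoImplicit false
set_option linter.unusedSectionVars false

open Subgroup
open scoped commutatorElement

namespace CfsgLib.CFun.ConjPair

universe u

variable {G : Type u} [Group G] [Finite G] {p : ℕ} [hp : Fact p.Prime]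

/-- The hypotheses on the pair. -/
structure Pair (p : ℕ) (W V : Subgroup G → Subgroup G) : Prop where
  hW : Cfsg.IsConjugacyFunctor p W
  hV : Cfsg.IsConjugacyFunctor p V
  center_le : ∀ H : Subgroup G, IsPGroup p H → H ⊓ centralizer (H : Set G) ≤ W H
  le_center : ∀ H : Subgroup G, IsPGroup p H → V H ≤ H ⊓ centralizer (H : Set G)
  mono : ∀ H K : Subgroup G, IsPGroup p H → IsPGroup p K → H ≠ ⊥ → K ≠ ⊥ →
    H ⊓ centralizer (H : Set G) ≤ K ⊓ centralizer (K : Set G) → V H ≤ V K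

variable {W V : Subgroup G → Subgroup G} {P : Sylow p G}

/-- The steps. -/
def steps (W V : Subgroup G → Subgroup G) (P : Sylow p G) : Set G :=
  {a | a ∈ normalizer (W (P : Subgroup G) : Set G) ∨ a ∈ centralizer (V (P : Subgroup G) : Set G)}

theorem Pair.wprop (h : Pair p W V) : WProp P W (steps W V P) where
  le R hR := (h.hW R hR).1
  center_le := h.center_le
  equiv R hR g := (h.hW R hR).2.2 g⁻¹
  top _ ha := Or.inl ha

theorem inv_steps {a : G} (ha : a ∈ steps W V P) : a⁻¹ ∈ steps W V P :=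
  ha.imp (fun h => inv_mem h) fun h => inv_mem h

theorem Pair.le_normalizer_top (h : Pair p W V) :
    (P : Subgroup G) ≤ normalizer (W (P : Subgroup G) : Set G) :=
  Subgroup.le_normalizer.trans (h.wprop.le_normalizer P W P.2)

theorem Pair.le_centralizer_top (h : Pair p W V) :
    (P : Subgroup G) ≤ centralizer (V (P : Subgroup G) : Set G) :=
  le_centralizer_iff.1 ((h.le_center _ P.2).trans inf_le_right)

variable (hdiv : p ∣ Nat.card G)
include hdiv

theorem sylow_ne_bot : (P : Subgroup G) ≠ ⊥ := fun e => P.not_dvd_index (by rw [e, index_bot]; exact hdiv)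

theorem ctr_ne_bot : ctr P ≠ ⊥ := by
  haveI : Nontrivial (P : Subgroup G) := (nontrivial_iff_ne_bot _).2 (sylow_ne_bot hdiv)
  haveI := P.2.center_nontrivial
  obtain ⟨z, hz⟩ := exists_ne (1 : center (P : Subgroup G))
  intro e
  refine hz (Subtype.ext (Subtype.ext (mem_bot.1 (e.le ?_))))
  exact mem_inf.2 ⟨(z : (P : Subgroup G)).2, mem_centralizer_iff.2 fun y hy =>
    congrArg Subtype.val (mem_center_iff.1 z.2 ⟨y, hy⟩)⟩

/-- `C(V R) ≤ C(V P)` for `Z(P) ≤ R ≤ P` with `Z(P) ≤ Z(R)`. -/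
theorem Pair.centralizer_le_top (h : Pair p W V) {R : Subgroup G} (hRP : R ≤ (P : Subgroup G))
    (hZR : ctr P ≤ R) : centralizer (V R : Set G) ≤ centralizer (V (P : Subgroup G) : Set G) := by
  refine centralizer_le (h.mono _ _ P.2 (P.2.to_le hRP) (sylow_ne_bot hdiv)
    (fun e => ctr_ne_bot (P := P) hdiv (le_bot_iff.1 (e ▸ hZR))) ?_)
  exact le_inf hZR (inf_le_right.trans (centralizer_le hRP))

omit hdiv in
/-- The local Sylow subgroup, moved to `N_P(H)`. -/
theorem exists_transport {H Q : Subgroup G} (ht : Tame P H) (hQN : Q ≤ normalizer (H : Set G))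
    (hQ : IsPGroup p Q) (hidx : ¬ p ∣ Q.relIndex (normalizer (H : Set G))) :
    ∃ m ∈ normalizer (H : Set G), cj m Q = (P : Subgroup G) ⊓ normalizer (H : Set G) := by
  obtain ⟨m, hm, hmQ⟩ := exists_conj_into inf_le_right (P.2.to_le inf_le_left) ht hQN hQ
  refine ⟨m, hm, (eq_of_not_dvd hmQ inf_le_right (P.2.to_le inf_le_left) ?_).symm⟩
  rwa [← cj_eq_self (Subgroup.le_normalizer hm : m ∈ normalizer (normalizer (H : Set G) : Set G)),
    cj, cj, relIndex_map_map_of_injective _ _ (MulAut.conj m⁻¹).injective]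

omit hdiv in
theorem le_normalizer_inner (h : Pair p W V) (H : Subgroup G) :
    (P : Subgroup G) ⊓ normalizer (H : Set G) ≤ (P : Subgroup G) ⊓
      normalizer (W ((P : Subgroup G) ⊓ normalizer (H : Set G)) : Set G) :=
  le_inf inf_le_left
    (Subgroup.le_normalizer.trans (h.wprop.le_normalizer P W (P.2.to_le inf_le_left)))

/-! ### Fusion -/

omit hdiv in
/-- Conjugations generated by steps. -/
inductive Dec (W V : Subgroup G → Subgroup G) (P : Sylow p G) : Set G → G → Prop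
  | cent {X : Set G} {a : G} : a ∈ centralizer X → Dec W V P X a
  | step {X : Set G} {a : G} : a ∈ steps W V P → img a X ⊆ ((P : Subgroup G) : Set G) → Dec W V P X a
  | comp {X : Set G} {a b : G} : Dec W V P X a → Dec W V P (img a X) b → Dec W V P X (a * b)

omit hdiv in
theorem img_of_centralizes {X : Set G} {a : G} (ha : a ∈ centralizer X) : img a X = X := by
  refine Eq.trans (Set.image_congr fun x hx => ?_) (Set.image_id' X)
  rw [mul_assoc, mem_centralizer_iff.1 ha x hx, inv_mul_cancel_left]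

omit hdiv in
theorem Dec.mapsTo {X : Set G} {a : G} (d : Dec W V P X a)
    (hX : X ⊆ ((P : Subgroup G) : Set G)) : img a X ⊆ ((P : Subgroup G) : Set G) := by
  induction d with
  | cent ha => rwa [img_of_centralizes ha]
  | step _ h => exact h
  | comp _ _ ih1 ih2 => rw [← img_img]; exact ih2 (ih1 hX)

omit hdiv in
theorem Dec.mono' {X : Set G} {a : G} (d : Dec W V P X a) :
    ∀ {Y : Set G}, Y ⊆ X → Dec W V P Y a := by
  induction d with
  | cent ha => exact fun hY => .cent (centralizer_le hY ha)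
  | step hs h => exact fun hY => .step hs ((Set.image_mono hY).trans h)
  | comp _ _ ih1 ih2 => exact fun hY => .comp (ih1 hY) (ih2 (Set.image_mono hY))

omit hdiv in
theorem Dec.inv' {X : Set G} {a : G} (d : Dec W V P X a) :
    X ⊆ ((P : Subgroup G) : Set G) → Dec W V P (img a X) a⁻¹ := by
  induction d with
  | cent ha => exact fun _ => .cent (by rw [img_of_centralizes ha]; exact inv_mem ha)
  | @step Y b hs h =>
    intro hY
    refine .step (inv_steps hs) ?_
    rw [img_img, mul_inv_cancel, img_of_centralizes (one_mem _)]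
    exact hY
  | @comp Y b c d1 d2 ih1 ih2 =>
    intro hY
    rw [mul_inv_rev, ← img_img]
    refine .comp (ih2 (d1.mapsTo hY)) ?_
    rw [img_img, img_img, show b * (c * c⁻¹) = b by group]
    exact ih1 hY

omit hdiv in
theorem Dec.exists_list {X : Set G} {a : G} (d : Dec W V P X a) :
    X ⊆ ((P : Subgroup G) : Set G) → ∃ c ∈ centralizer X, ∃ L : List G,
      (∀ x ∈ L, x ∈ steps W V P) ∧ a = c * L.prod ∧
      ∀ k, img (L.take k).prod X ⊆ ((P : Subgroup G) : Set G) := by
  induction d with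
  | @cent Y b ha =>
    intro hY
    refine ⟨b, ha, [], by simp, by simp, fun k => ?_⟩
    simp [img_of_centralizes (one_mem (centralizer Y))]; exact hY
  | @step Y b hs h =>
    intro hY
    refine ⟨1, one_mem _, [b], by simpa using hs, by simp, fun k => ?_⟩
    cases k with
    | zero =>
      simp [img_of_centralizes (one_mem (centralizer Y))]
      exact hY
    | succ k => simpa using h
  | @comp Y b₁ b₂ d1 d2 ih1 ih2 =>
    intro hY
    obtain ⟨c1, hc1, L1, hL1, e1, hp1⟩ := ih1 hY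
    obtain ⟨c2, hc2, L2, hL2, e2, hp2⟩ := ih2 (d1.mapsTo hY)
    have himg : img b₁ Y = img L1.prod Y := by rw [e1, ← img_img, img_of_centralizes hc1]
    rw [himg] at hc2 hp2
    refine ⟨c1 * (L1.prod * c2 * L1.prod⁻¹), mul_mem hc1 (mem_centralizer_iff.2 fun y hy => ?_),
      L1 ++ L2, fun x hx => (List.mem_append.1 hx).elim (hL1 x) (hL2 x), ?_, fun k => ?_⟩
    · have h := mem_centralizer_iff.1 hc2 _ ⟨y, hy, rfl⟩
      calc y * (L1.prod * c2 * L1.prod⁻¹) = L1.prod * ((L1.prod⁻¹ * y * L1.prod) * c2) * L1.prod⁻¹ := by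
            group
        _ = L1.prod * (c2 * (L1.prod⁻¹ * y * L1.prod)) * L1.prod⁻¹ := by rw [h]
        _ = L1.prod * c2 * L1.prod⁻¹ * y := by group
    · rw [List.prod_append, e1, e2]; group
    · rcases Nat.le_total k L1.length with hk | hk
      · rw [List.take_append_of_le_length hk]; exact hp1 k
      · rw [List.take_append, List.take_of_length_le hk, List.prod_append, ← img_img]
        exact hp2 _

theorem Pair.fusion (h : Pair p W V)
    (hloc : ∀ H : Subgroup G, ctr P ≤ H → H ≤ (P : Subgroup G) → ∃ Q : Subgroup G,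
      Q ≤ normalizer (H : Set G) ∧ IsPGroup p Q ∧ ¬ p ∣ Q.relIndex (normalizer (H : Set G)) ∧
      ∀ (X : Set G) (a : G), X ⊆ Q → a ∈ normalizer (H : Set G) → img a X ⊆ Q →
        ∃ c ∈ normalizer (H : Set G) ⊓ centralizer X, ∃ (n : ℕ) (b : Fin n → G),
          (∀ i, b i ∈ normalizer (H : Set G) ⊓ normalizer (W Q : Set G) ∨
            b i ∈ normalizer (H : Set G) ⊓ centralizer (V Q : Set G)) ∧
          a = c * (List.ofFn b).prod ∧
          ∀ k : ℕ, k ≤ n → img ((List.ofFn b).take k).prod (img c X) ⊆ Q)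
    {X : Set G} {a : G} (hX : X ⊆ ((P : Subgroup G) : Set G))
    (ha : img a X ⊆ ((P : Subgroup G) : Set G)) :
    ∃ c ∈ centralizer X, ∃ (n : ℕ) (b : Fin n → G), (∀ i, b i ∈ steps W V P) ∧
      a = c * (List.ofFn b).prod ∧
      ∀ k : ℕ, k ≤ n → img ((List.ofFn b).take k).prod (img c X) ⊆ ((P : Subgroup G) : Set G) := by
  have hrel : Rel P (steps W V P) (Dec W V P) :=
    ⟨fun hY d => d.mono' hY, .cent, fun _ h2 h3 => .step h3 h2, .comp, fun hY _ d => d.inv' hY⟩
  have hl : Local P W (Dec W V P) := by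
    intro H hHP hZH ht hm n hn Y hY hYn
    obtain ⟨Q, hQN, hQ, hidx, hQf⟩ := hloc H hZH hHP
    obtain ⟨m, hm', hR⟩ := exists_transport ht hQN hQ hidx
    set R := (P : Subgroup G) ⊓ normalizer (H : Set G) with hRdef
    have hWR : W R = cj m (W Q) := hR ▸ (h.hW Q hQ).2.2 m⁻¹
    have hVR : V R = cj m (V Q) := hR ▸ (h.hV Q hQ).2.2 m⁻¹
    have hQR : ∀ {z : G}, z ∈ R → m * z * m⁻¹ ∈ Q := fun hz => mem_cj.1 (hR.symm ▸ hz)
    have hY' : img m⁻¹ Y ⊆ (Q : Set G) := img_subset.2 fun z hz => by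
      rw [inv_inv]; exact hQR (hY hz)
    have hn' : img (m * n * m⁻¹) (img m⁻¹ Y) ⊆ (Q : Set G) := by
      rw [img_img, show m⁻¹ * (m * n * m⁻¹) = n * m⁻¹ by group, ← img_img]
      refine img_subset.2 ?_
      rintro _ ⟨z, hz, rfl⟩
      rw [inv_inv]
      exact hQR (mem_inf.2 ⟨hYn ⟨z, hz, rfl⟩,
        mul_mem (mul_mem (inv_mem hn) (mem_inf.1 (hY hz)).2) hn⟩)
    obtain ⟨c, hc, l, b, hb, he, hpre⟩ :=
      hQf _ _ hY' (mul_mem (mul_mem hm' hn) (inv_mem hm')) hn'
    have hcY : m⁻¹ * c * m ∈ centralizer Y := mem_centralizer_iff.2 fun y hy => by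
      have h1 := mem_centralizer_iff.1 (mem_inf.1 hc).2 _ ⟨y, hy, rfl⟩
      calc y * (m⁻¹ * c * m) = m⁻¹ * ((m⁻¹⁻¹ * y * m⁻¹) * c) * m := by group
        _ = m⁻¹ * (c * (m⁻¹⁻¹ * y * m⁻¹)) * m := by rw [h1]
        _ = m⁻¹ * c * m * y := by group
    rw [img_of_centralizes (mem_inf.1 hc).2] at hpre
    have key : ∀ k, k ≤ l → Dec W V P Y (m⁻¹ * ((List.ofFn b).take k).prod * m) ∧
        img (m⁻¹ * ((List.ofFn b).take k).prod * m) Y ⊆ (R : Set G) := by
      intro k
      induction k with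
      | zero =>
        intro _
        rw [List.take_zero, List.prod_nil, mul_one, inv_mul_cancel]
        exact ⟨.cent (one_mem _), by rw [img_of_centralizes (one_mem _)]; exact hY⟩
      | succ k ih =>
        intro hk
        obtain ⟨hd, hsub⟩ := ih (by omega)
        have hkl : k < (List.ofFn b).length := by rw [List.length_ofFn]; omega
        have heq : m⁻¹ * ((List.ofFn b).take (k + 1)).prod * m =
            (m⁻¹ * ((List.ofFn b).take k).prod * m) * (m⁻¹ * b ⟨k, by omega⟩ * m) := by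
          rw [List.prod_take_succ _ _ hkl, List.getElem_ofFn]; group
        have hnext : img (m⁻¹ * ((List.ofFn b).take (k + 1)).prod * m) Y ⊆ (R : Set G) := by
          refine img_subset.2 fun y hy => ?_
          rw [← hR, mem_cj]
          have h1 := hpre (k + 1) hk ⟨_, ⟨y, hy, rfl⟩, rfl⟩
          simpa [mul_assoc] using h1
        refine ⟨?_, hnext⟩
        have hnextP : img (m⁻¹ * b ⟨k, by omega⟩ * m) (img (m⁻¹ * ((List.ofFn b).take k).prod * m) Y)
            ⊆ ((P : Subgroup G) : Set G) := by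
          rw [img_img, ← heq]
          exact hnext.trans fun z hz => (mem_inf.1 hz).1
        rw [heq]
        refine hd.comp ?_
        rcases hb ⟨k, by omega⟩ with hbk | hbk
        · refine MoveData.fusion hrel hm ?_ (hsub.trans (le_normalizer_inner h H)) hnextP
          rw [hWR, normalizer_cj]
          exact conj_mem_cj (mem_inf.1 hbk).2
        · refine .step (Or.inr (h.centralizer_le_top hdiv inf_le_left
            (ctr_le_normalizer P hHP) ?_)) hnextP
          rw [hVR]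
          refine mem_centralizer_iff.2 fun z hz => ?_
          have h1 := mem_centralizer_iff.1 (mem_inf.1 hbk).2 _ (mem_cj.1 hz)
          calc z * (m⁻¹ * b ⟨k, _⟩ * m) = m⁻¹ * ((m * z * m⁻¹) * b ⟨k, _⟩) * m := by group
            _ = m⁻¹ * (b ⟨k, _⟩ * (m * z * m⁻¹)) * m := by rw [h1]
            _ = m⁻¹ * b ⟨k, _⟩ * m * z := by group
    have hlast := key l le_rfl
    rw [List.take_of_length_le (by simp)] at hlast
    have hn_eq : n = (m⁻¹ * c * m) * (m⁻¹ * (List.ofFn b).prod * m) := by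
      rw [show (m⁻¹ * c * m) * (m⁻¹ * (List.ofFn b).prod * m) = m⁻¹ * (c * (List.ofFn b).prod) * m
        by group, ← he]
      group
    rw [hn_eq]
    exact .comp (.cent hcY) (by rw [img_of_centralizes hcY]; exact hlast.1)
  have hA : cj a (closure X) ≤ (P : Subgroup G) := by
    rw [cj, MonoidHom.map_closure, closure_le]
    rintro _ ⟨x, hx, rfl⟩
    show a⁻¹ * x * a⁻¹⁻¹ ∈ (P : Subgroup G)
    rw [inv_inv]
    exact ha ⟨x, hx, rfl⟩
  obtain ⟨c, hc, L, hL, he, hpre⟩ :=
    ((global hrel h.wprop hl (closure X) ((closure_le _).2 hX) a hA).mono' subset_closure).exists_list hX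
  refine ⟨c, hc, L.length, L.get, fun i => hL _ (List.get_mem L i), ?_, fun k _ => ?_⟩
  · rwa [List.ofFn_get]
  · rw [List.ofFn_get, img_of_centralizes hc]
    exact hpre k

/-! ### Transfer -/

/-- The subgroup the two local derived groups generate in `P`. -/
def focus (W V : Subgroup G → Subgroup G) (P : Sylow p G) : Subgroup G :=
  ((P : Subgroup G) ⊓ ⁅normalizer (W (P : Subgroup G) : Set G),
      normalizer (W (P : Subgroup G) : Set G)⁆) ⊔
    ((P : Subgroup G) ⊓ ⁅centralizer (V (P : Subgroup G) : Set G),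
      centralizer (V (P : Subgroup G) : Set G)⁆)

/-- Conjugation by `a` moves elements inside `P` by elements of `focus`. -/
def Shift (W V : Subgroup G → Subgroup G) (P : Sylow p G) (X : Set G) (a : G) : Prop :=
  ∀ x ∈ X, x ∈ (P : Subgroup G) →
    a⁻¹ * x * a ∈ (P : Subgroup G) ∧ x⁻¹ * (a⁻¹ * x * a) ∈ focus W V P

omit hdiv in
theorem Pair.shift_rel (h : Pair p W V) : Rel P (steps W V P) (Shift W V P) where
  mono hYX d x hx := d x (hYX hx)
  cent := fun {X a} ha x hx hxP => by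
    have he : a⁻¹ * x * a = x := by
      rw [mul_assoc, mem_centralizer_iff.1 ha x hx, inv_mul_cancel_left]
    rw [he, inv_mul_cancel]
    exact ⟨hxP, one_mem _⟩
  base := fun {X a} _ ha hs x hx hxP => by
    have hy : a⁻¹ * x * a ∈ (P : Subgroup G) := ha ⟨x, hx, rfl⟩
    refine ⟨hy, ?_⟩
    have e : x⁻¹ * (a⁻¹ * x * a) = ⁅x⁻¹, a⁻¹⁆ := by rw [commutatorElement_def]; group
    rcases hs with hs | hs
    · exact mem_sup_left (mem_inf.2 ⟨mul_mem (inv_mem hxP) hy, e ▸
        commutator_mem_commutator (inv_mem (h.le_normalizer_top hxP)) (inv_mem hs)⟩)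
    · exact mem_sup_right (mem_inf.2 ⟨mul_mem (inv_mem hxP) hy, e ▸
        commutator_mem_commutator (inv_mem (h.le_centralizer_top hxP)) (inv_mem hs)⟩)
  comp := fun {X a b} d1 d2 x hx hxP => by
    obtain ⟨h1, h1'⟩ := d1 x hx hxP
    obtain ⟨h2, h2'⟩ := d2 _ ⟨x, hx, rfl⟩ h1
    rw [show (a * b)⁻¹ * x * (a * b) = b⁻¹ * (a⁻¹ * x * a) * b by group]
    refine ⟨h2, ?_⟩
    have := mul_mem h1' h2'
    rwa [show x⁻¹ * (a⁻¹ * x * a) * ((a⁻¹ * x * a)⁻¹ * (b⁻¹ * (a⁻¹ * x * a) * b)) =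
      x⁻¹ * (b⁻¹ * (a⁻¹ * x * a) * b) by group] at this
  inv := fun {X a} hXP _ d y hy hyP => by
    obtain ⟨x, hx, rfl⟩ := hy
    obtain ⟨-, h1⟩ := d x hx (hXP hx)
    show a⁻¹⁻¹ * (a⁻¹ * x * a) * a⁻¹ ∈ _ ∧ _
    rw [show a⁻¹⁻¹ * (a⁻¹ * x * a) * a⁻¹ = x by group]
    refine ⟨hXP hx, ?_⟩
    have := inv_mem h1
    rwa [mul_inv_rev, inv_inv] at this

omit hdiv in
/-- The focal subgroup argument: `S ∩ L'` is reached by shifts. -/
theorem inf_derived_le {L S F : Subgroup G} (hS : IsPGroup p S) (hSL : S ≤ L)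
    (hidx : ¬ p ∣ S.relIndex L)
    (h : ∀ n ∈ L, ∀ x ∈ S, n⁻¹ * x * n ∈ S → x⁻¹ * (n⁻¹ * x * n) ∈ F) :
    S ⊓ ⁅L, L⁆ ≤ F := by
  set T : Sylow p L := (hS.of_equiv (subgroupOfEquivOfLe hSL).symm).toSylow hidx
  intro z hz
  obtain ⟨hzS, hzL⟩ := mem_inf.1 hz
  have hz' : (⟨z, hSL hzS⟩ : L) ∈ commutator L ⊓ (T : Subgroup L) := by
    refine mem_inf.2 ⟨?_, hzS⟩
    rw [← map_subtype_commutator] at hzL
    obtain ⟨w, hw, hwz⟩ := hzL
    rwa [show (⟨z, hSL hzS⟩ : L) = w from Subtype.ext hwz.symm]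
  rw [CfsgLib.Fusion.commutator_inf_eq_focal (CfsgLib.Fusion.coprime_card_focalQuotient T),
    focalSubgroup_def] at hz'
  have hle : closure {g : L | g ∈ (T : Subgroup L) ∧ ∃ x ∈ (T : Subgroup L), ∃ u : L, g = ⁅x, u⁆} ≤
      F.subgroupOf L := by
    rw [closure_le]
    rintro _ ⟨hg, x, hx, u, rfl⟩
    show (((⁅x, u⁆ : L)) : G) ∈ F
    have hxS : (x : G) ∈ S := hx
    have hgS : (x : G) * u * (x : G)⁻¹ * (u : G)⁻¹ ∈ S := hg
    have h1 : (u : G)⁻¹⁻¹ * (x : G)⁻¹ * (u : G)⁻¹ ∈ S := by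
      have := mul_mem (inv_mem hxS) hgS
      rwa [show (x : G)⁻¹ * ((x : G) * u * (x : G)⁻¹ * (u : G)⁻¹) =
        (u : G)⁻¹⁻¹ * (x : G)⁻¹ * (u : G)⁻¹ by group] at this
    have h2 := h _ (inv_mem u.2) _ (inv_mem hxS) h1
    rwa [show (x : G)⁻¹⁻¹ * ((u : G)⁻¹⁻¹ * (x : G)⁻¹ * (u : G)⁻¹) =
      (((⁅x, u⁆ : L)) : G) by simp [commutatorElement_def, mul_assoc]] at h2
  exact hle hz'

theorem Pair.transfer (h : Pair p W V)
    (hloc : ∀ H : Subgroup G, ctr P ≤ H → H ≤ (P : Subgroup G) → ∃ Q : Subgroup G,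
      Q ≤ normalizer (H : Set G) ∧ IsPGroup p Q ∧ ¬ p ∣ Q.relIndex (normalizer (H : Set G)) ∧
      ∀ x : G, x ∈ Q ⊓ ⁅normalizer (H : Set G), normalizer (H : Set G)⁆ →
        ∃ a ∈ Q ⊓ ⁅normalizer (H : Set G) ⊓ normalizer (W Q : Set G),
            normalizer (H : Set G) ⊓ normalizer (W Q : Set G)⁆,
          ∃ b ∈ Q ⊓ ⁅normalizer (H : Set G) ⊓ centralizer (V Q : Set G),
            normalizer (H : Set G) ⊓ centralizer (V Q : Set G)⁆, x = a * b) :
    (P : Subgroup G) ⊓ commutator G ≤ focus W V P := by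
  have hrel := h.shift_rel (P := P)
  have hl : Local P W (Shift W V P) := by
    intro H hHP hZH ht hm n hn Y hY hYn y hy hyP
    have hy' : n⁻¹ * y * n ∈ (P : Subgroup G) := hYn ⟨y, hy, rfl⟩
    refine ⟨hy', ?_⟩
    obtain ⟨Q, hQN, hQ, hidx, hQf⟩ := hloc H hZH hHP
    obtain ⟨m, hm', hR⟩ := exists_transport ht hQN hQ hidx
    set R := (P : Subgroup G) ⊓ normalizer (H : Set G) with hRdef
    have hWR : W R = cj m (W Q) := hR ▸ (h.hW Q hQ).2.2 m⁻¹
    have hVR : V R = cj m (V Q) := hR ▸ (h.hV Q hQ).2.2 m⁻¹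
    set z := y⁻¹ * (n⁻¹ * y * n) with hz
    have hzR : z ∈ R := mem_inf.2 ⟨mul_mem (inv_mem hyP) hy', mul_mem (inv_mem (mem_inf.1 (hY hy)).2)
      (mul_mem (mul_mem (inv_mem hn) (mem_inf.1 (hY hy)).2) hn)⟩
    have hzN : z ∈ ⁅normalizer (H : Set G), normalizer (H : Set G)⁆ := by
      rw [show z = ⁅y⁻¹, n⁻¹⁆ by rw [hz, commutatorElement_def]; group]
      exact commutator_mem_commutator (inv_mem (mem_inf.1 (hY hy)).2) (inv_mem hn)
    have hmz : m * z * m⁻¹ ∈ Q ⊓ ⁅normalizer (H : Set G), normalizer (H : Set G)⁆ := by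
      refine mem_inf.2 ⟨mem_cj.1 (hR.symm ▸ hzR), ?_⟩
      exact (mem_normalizer_iff.1 (CfsgLib.CommContain.le_normalizer_commutator Subgroup.le_normalizer Subgroup.le_normalizer hm') z).1 hzN
    obtain ⟨a, ha, b, hb, hab⟩ := hQf _ hmz
    have hzab : z = (m⁻¹ * a * m) * (m⁻¹ * b * m) := by
      rw [show (m⁻¹ * a * m) * (m⁻¹ * b * m) = m⁻¹ * (a * b) * m by group, ← hab]; group
    rw [hzab]
    refine mul_mem ?_ ?_
    · obtain ⟨g, hg, hgP, hgt, hgf⟩ := hm
      set U := W R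
      have ha1 : m⁻¹ * a * m ∈ R := hR ▸ conj_mem_cj (mem_inf.1 ha).1
      have ha2 : m⁻¹ * a * m ∈ ⁅normalizer (U : Set G), normalizer (U : Set G)⁆ := by
        have h1 := mem_map_of_mem (MulAut.conj m⁻¹).toMonoidHom
          (commutator_mono inf_le_right inf_le_right (mem_inf.1 ha).2)
        rw [map_commutator] at h1
        rw [show U = cj m (W Q) from hWR, normalizer_cj]
        simpa [cj] using h1
      have haT : m⁻¹ * a * m ∈ (P : Subgroup G) ⊓ normalizer (U : Set G) :=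
        le_normalizer_inner h H ha1
      obtain ⟨h2, h3⟩ := hg _ haT (mem_inf.1 haT).1
      have h4 : g⁻¹ * (m⁻¹ * a * m) * g ∈ focus W V P := by
        refine inf_derived_le (L := normalizer (cj g U : Set G))
          (P.2.to_le inf_le_left) inf_le_right hgt ?_ (mem_inf.2 ⟨?_, ?_⟩)
        · intro u hu x hx hxu
          exact (hgf u hu {x} (Set.singleton_subset_iff.2 hx)
            (img_subset.2 (by rintro _ rfl; exact (mem_inf.1 hxu).1)) x rfl
            (mem_inf.1 hx).1).2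
        · exact mem_inf.2 ⟨h2, by rw [normalizer_cj]; exact conj_mem_cj (mem_inf.1 haT).2⟩
        · rw [normalizer_cj, cj, ← map_commutator]
          exact conj_mem_cj ha2
      have h5 := mul_mem h4 (inv_mem h3)
      rwa [mul_inv_rev, inv_inv, mul_inv_cancel_left] at h5
    · refine mem_sup_right (mem_inf.2 ⟨(mem_inf.1 (show _ ∈ R from hR ▸ conj_mem_cj (mem_inf.1 hb).1)).1, ?_⟩)
      have hle : centralizer (V R : Set G) ≤ centralizer (V (P : Subgroup G) : Set G) :=
        h.centralizer_le_top hdiv inf_le_left (ctr_le_normalizer P hHP)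
      refine commutator_mono hle hle ?_
      have h1 := mem_map_of_mem (MulAut.conj m⁻¹).toMonoidHom
        (commutator_mono inf_le_right inf_le_right (mem_inf.1 hb).2)
      rw [map_commutator] at h1
      have hsub : (centralizer (V Q : Set G)).map (MulAut.conj m⁻¹).toMonoidHom ≤
          centralizer (V R : Set G) := by
        rintro _ ⟨c, hc, rfl⟩
        rw [hVR]
        refine mem_centralizer_iff.2 fun w hw => ?_
        have h2 := mem_centralizer_iff.1 hc _ (mem_cj.1 hw)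
        show w * (m⁻¹ * c * m⁻¹⁻¹) = m⁻¹ * c * m⁻¹⁻¹ * w
        calc w * (m⁻¹ * c * m⁻¹⁻¹) = m⁻¹ * ((m * w * m⁻¹) * c) * m := by group
          _ = m⁻¹ * (c * (m * w * m⁻¹)) * m := by rw [h2]
          _ = m⁻¹ * c * m⁻¹⁻¹ * w := by group
      simpa using commutator_mono hsub hsub h1
  have hPtop : ¬ p ∣ (P : Subgroup G).relIndex ⊤ := by rw [relIndex_top_right]; exact P.not_dvd_index
  refine (inf_derived_le (F := focus W V P) P.2 le_top hPtop fun n _ x hx hxn => ?_)
  have hle : cj n (zpowers x) ≤ (P : Subgroup G) := by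
    rw [cj, MonoidHom.map_zpowers, zpowers_le]
    show n⁻¹ * x * n⁻¹⁻¹ ∈ _
    rwa [inv_inv]
  exact (global hrel h.wprop hl (zpowers x) (zpowers_le.2 hx) n hle x (mem_zpowers x) hx).2

omit hdiv in
/-- `focus` is the product of its two parts. -/
theorem Pair.mem_focus (h : Pair p W V) {x : G} (hx : x ∈ focus W V P) :
    ∃ a ∈ (P : Subgroup G) ⊓ ⁅normalizer (W (P : Subgroup G) : Set G),
        normalizer (W (P : Subgroup G) : Set G)⁆,
      ∃ b ∈ (P : Subgroup G) ⊓ ⁅centralizer (V (P : Subgroup G) : Set G),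
        centralizer (V (P : Subgroup G) : Set G)⁆, a * b = x := by
  refine CfsgLib.Coprime.mem_sup_exists (inf_le_left.trans ?_) hx
  refine le_trans (le_inf Subgroup.le_normalizer
    (h.le_normalizer_top.trans
      (CfsgLib.CommContain.le_normalizer_commutator Subgroup.le_normalizer Subgroup.le_normalizer))) ?_
  intro g hg
  refine mem_normalizer_iff.2 fun z => ?_
  simp only [mem_inf]
  rw [(mem_normalizer_iff.1 (mem_inf.1 hg).1 z), (mem_normalizer_iff.1 (mem_inf.1 hg).2 z)]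

end CfsgLib.CFun.ConjPair
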