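import Cfsg.Prelude.Def_Transfer
import Mathlib.GroupTheory.Perm.Cycle.Type
import Mathlib.GroupTheory.SpecificGroups.Dihedral
import Mathlib.GroupTheory.Sylow
import Cfsg.Agent.Lib.Coprime.Core

/-!
# A transfer theorem for a dihedral complement
-/

set_option autoImplicit false
set_option linter.style.haveILetI false
set_option linter.unusedSectionVars false

open Subgroup

namespace CfsgLib.DihedralTransfer

universe u

variable {G : Type u} [Group G] [Finite G]

/-- An odd permutation from a cyclic fixed point free action. -/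
theorem sign_eq_neg_one {α : Type*} [Fintype α] [DecidableEq α] (σ : Equiv.Perm α) {k q : ℕ}
    (hσ : σ ^ 2 ^ (k + 1) = 1) (hfree : ∀ a, (σ ^ 2 ^ k) a ≠ a)
    (hcard : Fintype.card α = 2 ^ (k + 1) * q) (hq : Odd q) : Equiv.Perm.sign σ = -1 := by
  have hall : ∀ n ∈ σ.cycleType, n = 2 ^ (k + 1) := by
    intro n hn
    obtain ⟨c, τ, hστ, hd, hc, hsupp⟩ := Equiv.Perm.mem_cycleType_iff.1 hn
    have hdvd : n ∣ 2 ^ (k + 1) :=
      (Equiv.Perm.dvd_of_mem_cycleType hn).trans (orderOf_dvd_of_pow_eq_one hσ)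
    obtain ⟨j, hj, rfl⟩ := (Nat.dvd_prime_pow Nat.prime_two).1 hdvd
    rcases Nat.lt_or_ge j (k + 1) with hlt | hge
    · exfalso
      obtain ⟨a, ha⟩ := hc.nonempty_support
      have hτ : τ a = a := Equiv.Perm.notMem_support.1
        (Finset.disjoint_left.1 hd.disjoint_support ha)
      refine hfree a ?_
      have hck : c ^ 2 ^ k = 1 := orderOf_dvd_iff_pow_eq_one.1 (by
        rw [hc.orderOf, hsupp]; exact pow_dvd_pow 2 (Nat.lt_succ_iff.1 hlt))
      rw [hστ, hd.commute.mul_pow, hck, one_mul]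
      exact Equiv.Perm.pow_apply_eq_self_of_apply_eq_self hτ _
    · rw [show j = k + 1 by omega]
  have hsupp : σ.support = Finset.univ := Finset.eq_univ_iff_forall.2 fun a =>
    Equiv.Perm.mem_support.2 fun h => hfree a (Equiv.Perm.pow_apply_eq_self_of_apply_eq_self h _)
  have hsum : σ.cycleType.sum = 2 ^ (k + 1) * q := by
    rw [Equiv.Perm.sum_cycleType, hsupp, Finset.card_univ, hcard]
  have hct : σ.cycleType.card = q := by
    have h := hsum
    rw [Multiset.eq_replicate_card.2 hall, Multiset.sum_replicate, smul_eq_mul, mul_comm] at h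
    exact Nat.eq_of_mul_eq_mul_left (by positivity) h
  rw [Equiv.Perm.sign_of_cycleType, hsum, hct]
  refine Odd.neg_one_pow (Even.add_odd ?_ hq)
  exact (Nat.even_pow.2 ⟨even_two, Nat.succ_ne_zero k⟩).mul_right q

/-- The sign of the action on the cosets. -/
theorem exists_sign_hom (T : Subgroup G) {k q : ℕ} (hidx : T.index = 2 ^ (k + 1) * q)
    (hq : Odd q) :
    ∃ χ : G →* ℤˣ, (∀ g : G, Odd (orderOf g) → χ g = 1) ∧
      ∀ c : G, c ^ 2 ^ (k + 1) = 1 → (∀ g : G, g * c ^ 2 ^ k * g⁻¹ ∉ T) → χ c = -1 := by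
  classical
  haveI : Fintype (G ⧸ T) := Fintype.ofFinite _
  set χ : G →* ℤˣ := Equiv.Perm.sign.comp (MulAction.toPermHom G (G ⧸ T)) with hχ
  refine ⟨χ, fun g hg => ?_, fun c hc hfree => ?_⟩
  · have h := Int.units_eq_one_or (χ g)
    rcases h with h | h
    · exact h
    have hd : orderOf (χ g) ∣ orderOf g := orderOf_map_dvd χ g
    haveI : Fact (Nat.Prime 2) := ⟨Nat.prime_two⟩
    rw [h, orderOf_eq_prime (show (-1 : ℤˣ) ^ 2 = 1 by decide) (by decide)] at hd
    exact absurd hd hg.not_two_dvd_nat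
  · refine sign_eq_neg_one (k := k) (q := q) _ (by rw [← map_pow, hc, map_one]) (fun a => ?_)
      (by rw [← Nat.card_eq_fintype_card]; exact hidx) hq
    induction a using QuotientGroup.induction_on with
    | _ g =>
      rw [← map_pow]
      intro h
      have h' : ((c ^ 2 ^ k * g : G) : G ⧸ T) = g := h
      rw [QuotientGroup.eq, mul_inv_rev] at h'
      refine hfree g⁻¹ ?_
      have := T.inv_mem h'
      simpa [mul_assoc] using this

/-- Splitting off a cyclic complement. -/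
theorem exists_small : ∀ (k : ℕ) (N T : Subgroup G) (c : G) (q : ℕ), T ≤ N → c ∈ N →
    (∀ g : G, Odd (orderOf g) → g ∈ N) → c ^ 2 ^ k = 1 →
    Nat.card N = Nat.card T * (2 ^ k * q) → Odd q →
    (∀ j, j < k → ∀ g : G, g * c ^ 2 ^ j * g⁻¹ ∉ T) →
    T ≤ Subgroup.closure {g : G | Odd (orderOf g)} →
    ∃ M : Subgroup G, (∀ g : G, Odd (orderOf g) → g ∈ M) ∧
      Nat.card M = Nat.card T * q := by
  intro k
  induction k with
  | zero =>
    intro N T c q _ _ hodd _ hcard _ _ _
    exact ⟨N, hodd, by rw [hcard, pow_zero, one_mul]⟩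
  | succ k ih =>
    intro N T c q hTN hcN hodd hck hcard hq hfree hT0
    have hidx : (T.subgroupOf N).index = 2 ^ (k + 1) * q := by
      have h := (T.subgroupOf N).card_mul_index
      rw [Nat.card_congr (subgroupOfEquivOfLe hTN).toEquiv, hcard] at h
      exact Nat.eq_of_mul_eq_mul_left Nat.card_pos h
    obtain ⟨χ, hχodd, hχc⟩ := exists_sign_hom (T.subgroupOf N) hidx hq
    have hc1 : χ ⟨c, hcN⟩ = -1 := hχc _ (Subtype.ext hck) fun g hg =>
      hfree k (Nat.lt_succ_self k) g (by simpa [mem_subgroupOf] using hg)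
    set M := χ.ker.map N.subtype with hM
    have hMN : M ≤ N := map_subtype_le _
    have hMcard : 2 * Nat.card M = Nat.card N := by
      rw [hM, card_subtype, ← χ.ker.card_mul_index, Subgroup.index_ker, mul_comm 2]
      congr 1
      rw [show χ.range = ⊤ from ?_, card_top, show Nat.card ℤˣ = 2 by simp]
      refine eq_top_iff.2 fun u _ => ?_
      rcases Int.units_eq_one_or u with rfl | rfl
      · exact one_mem _
      · exact ⟨_, hc1⟩
    have hModd : ∀ g : G, Odd (orderOf g) → g ∈ M := fun g hg =>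
      ⟨⟨g, hodd g hg⟩, hχodd _ (by rwa [Subgroup.orderOf_mk]), rfl⟩
    have hTM' : T ≤ M := hT0.trans ((closure_le _).2 fun g hg => hModd g hg)
    have hMc : c ^ 2 ∈ M := ⟨⟨c, hcN⟩ ^ 2, by
      show χ (⟨c, hcN⟩ ^ 2) = 1
      rw [map_pow, hc1]; rfl, rfl⟩
    refine ih M T (c ^ 2) q hTM' hMc hModd (by rw [← pow_mul, ← pow_succ']; exact hck)
      (mul_left_cancel₀ two_ne_zero (by rw [hMcard, hcard, pow_succ']; ring)) hq
      (fun j hj g => by rw [← pow_mul, ← pow_succ']; exact hfree (j + 1) (by omega) g) hT0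

theorem mem_of_dihedral {D : Subgroup G} (hD2 : IsPGroup 2 D) {n : ℕ} (hn : 2 ≤ n)
    (e : ↥D ≃* DihedralGroup n) {C : Subgroup G} (hCD : C ≤ D) (hC : IsCyclic ↥C)
    (hCi : C.relIndex D = 2) {x : G} (hx : x ∈ D) (hxC : x ∉ C) : x ^ 2 = 1 ∧ x ≠ 1 := by
  refine ⟨?_, fun h => hxC (h ▸ one_mem C)⟩
  by_contra hx2
  obtain ⟨c, hc⟩ := hC.exists_generator
  have hxr : ∀ y : ↥D, y ^ 2 ≠ 1 → ∃ i, e y = DihedralGroup.r i := by
    intro y hy
    cases h : e y with
    | r i => exact ⟨i, rfl⟩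
    | sr i =>
      refine absurd (e.injective ?_) hy
      rw [map_pow, h, map_one, pow_two, DihedralGroup.sr_mul_sr, sub_self, DihedralGroup.one_def]
  haveI : NeZero n := ⟨by omega⟩
  haveI hDn : Finite D := inferInstance
  have hcard : Nat.card D = 2 * n := by
    rw [Nat.card_congr e.toEquiv, DihedralGroup.nat_card]
  have hCcard : Nat.card C = n := by
    have h : Nat.card C * C.relIndex D = Nat.card D := by
      rw [Subgroup.relIndex, ← Nat.card_congr (subgroupOfEquivOfLe hCD).toEquiv, card_mul_index]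
    rw [hCi, hcard, mul_comm 2] at h
    exact Nat.eq_of_mul_eq_mul_right two_pos h
  have hord : orderOf c = n := by
    rw [← Nat.card_zpowers, show zpowers c = ⊤ from eq_top_iff.2 fun y _ => hc y, card_top, hCcard]
  obtain ⟨i, hi⟩ := hxr ⟨x, hx⟩ (fun h => hx2 (congrArg Subtype.val h))
  have hx' : (⟨x, hx⟩ : D) ^ n = 1 := e.injective (by
    rw [map_pow, hi, map_one, DihedralGroup.r_pow, DihedralGroup.one_def]
    congr 1
    simp)
  by_cases hn2 : n = 2
  · subst hn2
    exact hx2 (congrArg Subtype.val hx')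
  -- the rotations are the only cyclic subgroup of index two
  obtain ⟨j, hj⟩ := hxr ⟨c, hCD c.2⟩ (fun h => by
    have h' : c ^ 2 = 1 := Subtype.ext (congrArg (fun z : D => (z : G)) h)
    have := Nat.le_of_dvd two_pos (orderOf_dvd_of_pow_eq_one h')
    omega)
  have hjord : orderOf (DihedralGroup.r j) = n := by
    rw [← hj, MulEquiv.orderOf_eq, Subgroup.orderOf_mk, Subgroup.orderOf_coe, hord]
  rw [DihedralGroup.orderOf_r] at hjord
  have hg1 : Nat.gcd n j.val = 1 := by
    have h1 := Nat.div_mul_cancel (Nat.gcd_dvd_left n j.val)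
    rw [hjord] at h1
    exact Nat.eq_of_mul_eq_mul_left (by omega) (h1.trans (mul_one n).symm)
  have hco : Nat.Coprime j.val n := by rw [Nat.Coprime, Nat.gcd_comm]; exact hg1
  refine hxC ?_
  have hmem : (⟨x, hx⟩ : D) = ⟨c, hCD c.2⟩ ^ (i * (ZMod.unitOfCoprime j.val hco)⁻¹.val).val := by
    refine e.injective ?_
    rw [map_pow, hi, hj, DihedralGroup.r_pow]
    congr 1
    rw [ZMod.natCast_zmod_val]
    have hu : ((ZMod.unitOfCoprime j.val hco : (ZMod n)ˣ) : ZMod n) = j := by
      rw [ZMod.coe_unitOfCoprime, ZMod.natCast_zmod_val]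
    calc i = i * (((ZMod.unitOfCoprime j.val hco)⁻¹ * ZMod.unitOfCoprime j.val hco : (ZMod n)ˣ) :
          ZMod n) := by rw [inv_mul_cancel, Units.val_one, mul_one]
      _ = _ := by rw [Units.val_mul, hu]; ring
  have := congrArg (fun z : D => (z : G)) hmem
  simp only [coe_pow] at this
  rw [this]
  exact pow_mem c.2 _

theorem exists_normal_complement (L T S D C : Subgroup G) (hL : Cfsg.pResidual 2 ↥L = ⊤)
    (hTL : T ≤ L) (hT2 : IsPGroup 2 T) (hTsyl : ¬ 2 ∣ T.relIndex L)
    (hS2 : IsPGroup 2 S) (hSsyl : ¬ 2 ∣ S.index) (hTS : T ≤ S)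
    (hDS : D ≤ S) (hDih : ∃ n : ℕ, 2 ≤ n ∧ Nonempty (↥D ≃* DihedralGroup n)) (hDT : D ⊓ T = ⊥)
    (hTD : T ⊔ D = S) (hTDc : Nat.card T * Nat.card D = Nat.card S)
    (hCD : C ≤ D) (hC : IsCyclic ↥C) (hCi : C.relIndex D = 2)
    (h1 : ∀ x ∈ D, x ∉ C → orderOf x = 2 → ∀ g : G, g * x * g⁻¹ ∈ T ⊔ C → False)
    (h2 : ∀ c ∈ C, orderOf c = 2 → ∀ g : G, g * c * g⁻¹ ∈ T → False) :
    ∃ K : Subgroup G, K.Normal ∧ K ⊔ D = ⊤ ∧
      ∀ T' : Subgroup G, T' ≤ L → IsPGroup 2 T' → ¬ 2 ∣ T'.relIndex L →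
        T' ≤ K ∧ ¬ 2 ∣ T'.relIndex K := by
  haveI : Fact (Nat.Prime 2) := ⟨Nat.prime_two⟩
  obtain ⟨n, hn, ⟨e⟩⟩ := hDih
  set K := Subgroup.closure {g : G | Odd (orderOf g)} with hKdef
  haveI hKn : K.Normal := by
    refine ⟨fun a ha g => ?_⟩
    have hle : K ≤ K.comap (MulAut.conj g).toMonoidHom := by
      refine (closure_le _).2 fun x hx => subset_closure ?_
      show Odd (orderOf ((MulAut.conj g) x))
      rw [MulEquiv.orderOf_eq]; exact hx
    exact hle ha
  have hLK : L ≤ K := by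
    intro l hl
    have h : (⟨l, hl⟩ : L) ∈ Cfsg.pResidual 2 ↥L := hL ▸ mem_top _
    have hle : Cfsg.pResidual 2 ↥L ≤ K.comap L.subtype := (closure_le _).2 fun x hx =>
      subset_closure (show Odd (orderOf (x : G)) by
        rw [Subgroup.orderOf_coe]; exact Nat.coprime_two_right.1 hx)
    exact hle h
  have hTK : T ≤ K := hTL.trans hLK
  have hD2 : IsPGroup 2 D := hS2.to_le hDS
  have hinv : ∀ x ∈ D, x ∉ C → x ^ 2 = 1 ∧ x ≠ 1 := fun x hx hxC =>
    mem_of_dihedral hD2 hn e hCD hC hCi hx hxC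
  obtain ⟨x, hxD, hxC⟩ : ∃ x ∈ D, x ∉ C := by
    by_contra hno
    push_neg at hno
    rw [relIndex_eq_one.2 hno] at hCi
    omega
  have hx2 := hinv x hxD hxC
  -- `|S| = |T ⊔ C| * 2`
  have hcardC : Nat.card C * 2 = Nat.card D := by
    rw [← hCi, Subgroup.relIndex, ← Nat.card_congr (subgroupOfEquivOfLe hCD).toEquiv, card_mul_index]
  have hTC : Nat.card ↥(T ⊔ C) = Nat.card T * Nat.card C := by
    have hlt : T ⊔ C < S := lt_of_le_of_ne (sup_le hTS (hCD.trans hDS)) fun h =>
      h1 x hxD hxC (orderOf_eq_prime hx2.1 hx2.2) 1 (by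
        rw [one_mul, inv_one, mul_one, h]; exact hDS hxD)
    have hge : Nat.card T * Nat.card C ≤ Nat.card ↥(T ⊔ C) := by
      have hinj : Function.Injective (fun q : T × C =>
          (⟨(q.1 : G) * q.2, mul_mem (mem_sup_left q.1.2) (mem_sup_right q.2.2)⟩ : ↥(T ⊔ C))) := by
        rintro ⟨⟨a, ha⟩, ⟨b, hb⟩⟩ ⟨⟨a', ha'⟩, ⟨b', hb'⟩⟩ h
        have h' : a * b = a' * b' := congrArg Subtype.val h
        have hm : b * b'⁻¹ ∈ D ⊓ T := by
          refine ⟨hCD (mul_mem hb (C.inv_mem hb')), ?_⟩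
          rw [show b * b'⁻¹ = a⁻¹ * a' by
            rw [show b = a⁻¹ * (a' * b') by rw [← h']; group]; group]
          exact mul_mem (T.inv_mem ha) ha'
        rw [hDT, mem_bot, mul_inv_eq_one] at hm
        subst hm
        obtain rfl : a = a' := mul_right_cancel h'
        rfl
      rw [← Nat.card_prod]
      exact Nat.card_le_card_of_injective _ hinj
    have hle2 : 2 * Nat.card ↥(T ⊔ C) ≤ Nat.card S := by
      have h : Nat.card ↥(T ⊔ C) * (T ⊔ C).relIndex S = Nat.card S := by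
        rw [Subgroup.relIndex, ← Nat.card_congr (subgroupOfEquivOfLe hlt.le).toEquiv, card_mul_index]
      have hr1 : (T ⊔ C).relIndex S ≠ 1 := fun e => hlt.not_ge (relIndex_eq_one.1 e)
      have hr0 : (T ⊔ C).relIndex S ≠ 0 := fun e => by
        rw [e, mul_zero] at h; exact Nat.card_pos.ne h
      rw [← h, mul_comm 2]
      exact Nat.mul_le_mul_left _ (by omega)
    refine le_antisymm ?_ hge
    rw [← hTDc, ← hcardC] at hle2
    nlinarith
  obtain ⟨m, hm⟩ : ∃ m, Nat.card C = 2 ^ m := IsPGroup.iff_card.1 (hD2.to_le hCD)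
  have hSc : Nat.card S * S.index = Nat.card G := S.card_mul_index
  have hodd : Odd S.index := Nat.odd_iff.2 (by omega)
  -- first split off the reflection
  have hidx : (T ⊔ C).index = 2 ^ (0 + 1) * S.index := by
    have h := (T ⊔ C).card_mul_index
    rw [← hSc, ← hTDc, ← hcardC, hTC] at h
    refine Nat.eq_of_mul_eq_mul_left (Nat.card_pos (α := ↥(T ⊔ C))) ?_
    rw [hTC, h]; ring
  obtain ⟨χ, hχodd, hχc⟩ := exists_sign_hom (T ⊔ C) hidx hodd
  have hχD : ∀ y ∈ D, y ∉ C → χ y = -1 := fun y hy hyC => by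
    obtain ⟨hy2, hy1⟩ := hinv y hy hyC
    refine hχc y (by rw [zero_add, pow_one]; exact hy2) fun g hg => ?_
    rw [pow_zero, pow_one] at hg
    exact h1 y hy hyC (orderOf_eq_prime hy2 hy1) g hg
  have hχC : ∀ c ∈ C, χ c = 1 := fun c hc => by
    have hxc : x * c ∉ C := fun h => hxC (by
      have := C.mul_mem h (C.inv_mem hc)
      rwa [mul_inv_cancel_right] at this)
    have h := hχD (x * c) (mul_mem hxD (hCD hc)) hxc
    rw [map_mul, hχD x hxD hxC] at h
    simpa using h
  have hKker : K ≤ χ.ker := (closure_le _).2 fun g hg => hχodd g hg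
  have hN : Nat.card χ.ker = Nat.card T * (2 ^ m * S.index) := by
    have h := χ.ker.card_mul_index
    rw [Subgroup.index_ker, show χ.range = ⊤ from eq_top_iff.2 fun u _ => by
      rcases Int.units_eq_one_or u with rfl | rfl
      · exact one_mem _
      · exact ⟨x, hχD x hxD hxC⟩, card_top, show Nat.card ℤˣ = 2 by simp,
      ← hSc, ← hTDc, ← hcardC, hm] at h
    refine Nat.eq_of_mul_eq_mul_right two_pos ?_
    rw [h]; ring
  obtain ⟨⟨c, hcC⟩, hcgen⟩ := hC.exists_generator
  have hcord : orderOf c = 2 ^ m := by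
    rw [← Subgroup.orderOf_mk c hcC, ← Nat.card_zpowers,
      show zpowers (⟨c, hcC⟩ : C) = ⊤ from eq_top_iff.2 fun y _ => hcgen y, card_top, hm]
  obtain ⟨M, hModd, hMcard⟩ := exists_small m χ.ker T c S.index (hTK.trans hKker) (hχC c hcC)
    (fun g hg => hχodd g hg) (by rw [← hcord, pow_orderOf_eq_one]) hN hodd
    (fun j hj g hg => by
      -- the involution of `⟨c ^ 2 ^ j⟩`
      set y := c ^ 2 ^ (m - 1) with hy
      refine h2 y (pow_mem hcC _) ?_ g ?_
      · refine orderOf_eq_prime (by rw [hy, ← pow_mul, ← pow_succ, Nat.sub_add_cancel (by omega),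
          ← hcord, pow_orderOf_eq_one]) fun h => ?_
        have := Nat.le_of_dvd (by positivity) (hcord ▸ orderOf_dvd_of_pow_eq_one h)
        have := Nat.pow_lt_pow_right (one_lt_two) (show m - 1 < m by omega)
        omega
      · rw [hy, show (2 : ℕ) ^ (m - 1) = 2 ^ j * 2 ^ (m - 1 - j) by rw [← pow_add]; congr 1; omega,
          pow_mul, ← conj_pow]
        exact pow_mem hg _) hTK
  have hKM : K ≤ M := (closure_le _).2 fun g hg => hModd g hg
  refine ⟨K, hKn, ?_, fun T' hT'L hT'2 hT'syl => ⟨hT'L.trans hLK, ?_⟩⟩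
  · -- the quotient by `K` is a two-group, covered by `S = T ⊔ D`
    have hq : IsPGroup 2 (G ⧸ K) := by
      intro z
      induction z using QuotientGroup.induction_on with
      | _ g =>
        obtain ⟨a, b, hb, hab⟩ :=
          Nat.exists_eq_pow_mul_and_not_dvd (orderOf_pos g).ne' 2 (by norm_num)
        refine ⟨a, (QuotientGroup.eq_one_iff _).2 (subset_closure ?_)⟩
        show Odd (orderOf (g ^ 2 ^ a))
        rw [orderOf_pow' _ (by positivity), hab, Nat.gcd_eq_right (dvd_mul_right _ _),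
          Nat.mul_div_cancel_left _ (by positivity)]
        exact Nat.odd_iff.2 (by omega)
    have htop : K ⊔ S = ⊤ := by
      have h1' : (K ⊔ S).index ∣ S.index := index_dvd_of_le le_sup_right
      have h2' : (K ⊔ S).index ∣ Nat.card (G ⧸ K) :=
        (index_dvd_of_le le_sup_left).trans (dvd_of_eq rfl)
      obtain ⟨a, ha⟩ := IsPGroup.iff_card.1 hq
      rw [← index_eq_one]
      exact Nat.eq_one_of_dvd_coprimes ((Nat.prime_two.coprime_iff_not_dvd.2 hSsyl).pow_left a)
        (ha ▸ h2') h1'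
    refine eq_top_iff.2 (htop ▸ sup_le le_sup_left ?_)
    rw [← hTD]
    exact sup_le (hTK.trans le_sup_left) le_sup_right
  · -- two-parts
    intro hdvd
    have h3 : Nat.card T' * T'.relIndex L = Nat.card L := by
      rw [Subgroup.relIndex, ← Nat.card_congr (subgroupOfEquivOfLe hT'L).toEquiv, card_mul_index]
    have h4 : Nat.card T * T.relIndex L = Nat.card L := by
      rw [Subgroup.relIndex, ← Nat.card_congr (subgroupOfEquivOfLe hTL).toEquiv, card_mul_index]
    have hcardT : Nat.card T' = Nat.card T := by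
      obtain ⟨a, ha⟩ := IsPGroup.iff_card.1 hT'2
      obtain ⟨b, hb⟩ := IsPGroup.iff_card.1 hT2
      refine Nat.dvd_antisymm ?_ ?_
      · refine Nat.Coprime.dvd_of_dvd_mul_right ?_ (h4 ▸ h3 ▸ dvd_mul_right _ _)
        rw [ha]; exact (Nat.prime_two.coprime_iff_not_dvd.2 hTsyl).pow_left a
      · refine Nat.Coprime.dvd_of_dvd_mul_right ?_ (h3 ▸ h4 ▸ dvd_mul_right _ _)
        rw [hb]; exact (Nat.prime_two.coprime_iff_not_dvd.2 hT'syl).pow_left b
    have h5 : Nat.card T' * T'.relIndex K = Nat.card K := by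
      rw [Subgroup.relIndex, ← Nat.card_congr (subgroupOfEquivOfLe (hT'L.trans hLK)).toEquiv,
        card_mul_index]
    have h6 : T'.relIndex K ∣ S.index := by
      have := card_dvd_of_le hKM
      rw [← h5, hMcard, hcardT] at this
      exact (Nat.mul_dvd_mul_iff_left Nat.card_pos).1 this
    exact hSsyl (hdvd.trans h6)

end CfsgLib.DihedralTransfer
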