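import Cfsg.Agent.Lib.Coprime.Action
import Cfsg.Agent.Lib.PGroup.RepWeights

/-!
# Weights moved by an operator of prime order with at most one line of fixed vectors
-/

set_option autoImplicit false
set_option linter.style.haveILetI false
set_option linter.unusedSectionVars false

open Subgroup
open CfsgLib.PGroup (IsEigen ImgComm twist twist_apply twist_twist twist_congr twist_one twist_injective
  twist_of_commute eigProj eigProj_self eigProj_ne eq_zero_of_forall_eigen finite_hom_units)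

namespace CfsgLib.CFun.OpW

universe u v w

variable {H : Type u} [Group H] {k : Type v} [Field k] {W : Type w} [AddCommGroup W] [Module k W]
  (ρ : H →* Module.End k W)

/-- The fixed vectors of `a` form at most a line. -/
def OneFixed (a : H) : Prop :=
  ∀ v w : W, ρ a v = v → ρ a w = w → v ≠ 0 → ∃ c : k, w = c • v

/-- The orbit sum of a vector. -/
def orbSum (a : H) (r : ℕ) (x : W) : W := ∑ i ∈ Finset.range r, ρ (a ^ i) x

theorem rep_orbSum {a : H} {r : ℕ} (har : a ^ r = 1) (x : W) :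
    ρ a (orbSum ρ a r x) = orbSum ρ a r x := by
  have e1 : ρ a (orbSum ρ a r x) = ∑ i ∈ Finset.range r, ρ (a ^ (i + 1)) x := by
    rw [orbSum, map_sum]
    exact Finset.sum_congr rfl fun i _ => by rw [← PGroup.rep_mul_apply, pow_succ']
  have e2 := Finset.sum_range_succ' (fun i => ρ (a ^ i) x) r
  rw [Finset.sum_range_succ, har, pow_zero, ← e1, add_left_inj] at e2
  exact e2.symm

variable {Y : Subgroup H}

/-- Twisting by a nontrivial power of `a` moves a weight that `a` moves. -/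
theorem twist_pow_ne {a : H} {r : ℕ} (hr : r.Prime) (har : a ^ r = 1)
    (hpowY : ∀ i : ℕ, a ^ i ∈ normalizer (Y : Set H)) {ha : a ∈ normalizer (Y : Set H)}
    {χ : Y →* kˣ} (hmv : twist Y ha χ ≠ χ) {i : ℕ} (hi : i < r)
    (h : twist Y (hpowY i) χ = χ) : i = 0 := by
  by_contra hi0
  have hmul : ∀ j : ℕ, twist Y (hpowY (i * j)) χ = χ := by
    intro j
    induction j with
    | zero => exact twist_of_commute _ (fun z => by rw [Nat.mul_zero, pow_zero]; exact Commute.one_left _) χ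
    | succ j ih =>
      rw [twist_congr (show a ^ (i * (j + 1)) = a ^ (i * j) * a ^ i by rw [← pow_add, Nat.mul_succ]) _
        (mul_mem (hpowY (i * j)) (hpowY i)), ← twist_twist (hpowY (i * j)) (hpowY i), h, ih]
  obtain ⟨j, hj⟩ := Nat.exists_mul_mod_eq_one_of_coprime
    ((Nat.coprime_of_lt_prime hi0 hi hr).symm) hr.one_lt
  refine hmv ((twist_congr ?_ ha (hpowY (i * j)) χ).trans (hmul j))
  conv_rhs => rw [← Nat.mod_add_div (i * j) r, hj.2, pow_add, pow_one, pow_mul, har, one_pow, mul_one]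

variable [Fintype Y]

theorem eigProj_orbSum_self {a : H} {r : ℕ} (hr : r.Prime) (har : a ^ r = 1)
    (hpowY : ∀ i : ℕ, a ^ i ∈ normalizer (Y : Set H)) {ha : a ∈ normalizer (Y : Set H)}
    {χ : Y →* kˣ} {x : W} (hx : IsEigen ρ Y χ x) (hmv : twist Y ha χ ≠ χ) :
    eigProj ρ χ (orbSum ρ a r x) = (Fintype.card Y : k) • x := by
  rw [orbSum, map_sum, Finset.sum_eq_single 0]
  · rw [pow_zero, map_one, Module.End.one_apply, eigProj_self ρ hx]
  · intro i hi hi0
    exact eigProj_ne ρ (hx.map ρ (hpowY i))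
      fun h => hi0 (twist_pow_ne hr har hpowY hmv (Finset.mem_range.1 hi) h.symm)
  · intro h
    exact absurd (Finset.mem_range.2 hr.pos) h

variable {a : H} {r : ℕ}

theorem orbSum_ne_zero (hYk : (Fintype.card Y : k) ≠ 0) (hr : r.Prime) (har : a ^ r = 1)
    (hpowY : ∀ i : ℕ, a ^ i ∈ normalizer (Y : Set H)) {ha : a ∈ normalizer (Y : Set H)}
    {χ : Y →* kˣ} {x : W} (hx : IsEigen ρ Y χ x) (hx0 : x ≠ 0) (hmv : twist Y ha χ ≠ χ) :
    orbSum ρ a r x ≠ 0 := fun h => by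
  have := eigProj_orbSum_self ρ hr har hpowY hx hmv
  rw [h, map_zero] at this
  exact hx0 ((smul_eq_zero.1 this.symm).resolve_left hYk)

/-- Any two moved weights lie in one orbit. -/
theorem moved_orbit (h1 : OneFixed ρ a) (hYk : (Fintype.card Y : k) ≠ 0) (hr : r.Prime)
    (har : a ^ r = 1) (hpowY : ∀ i : ℕ, a ^ i ∈ normalizer (Y : Set H))
    {ha : a ∈ normalizer (Y : Set H)} {χ ψ : Y →* kˣ} {x y : W} (hx : IsEigen ρ Y χ x)
    (hx0 : x ≠ 0) (hy : IsEigen ρ Y ψ y) (hy0 : y ≠ 0) (hχ : twist Y ha χ ≠ χ)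
    (hψ : twist Y ha ψ ≠ ψ) : ∃ i, i < r ∧ twist Y (hpowY i) χ = ψ := by
  by_contra hno
  push Not at hno
  obtain ⟨c, hc⟩ := h1 _ _ (rep_orbSum ρ har x) (rep_orbSum ρ har y)
    (orbSum_ne_zero ρ hYk hr har hpowY hx hx0 hχ)
  have e := congrArg (eigProj ρ ψ) hc
  rw [eigProj_orbSum_self ρ hr har hpowY hy hψ, map_smul, orbSum, map_sum,
    Finset.sum_eq_zero (fun i hi => eigProj_ne ρ (hx.map ρ (hpowY i))
      fun h => hno i (Finset.mem_range.1 hi) h.symm), smul_zero] at e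
  exact hy0 ((smul_eq_zero.1 e).resolve_left hYk)

/-- A moved weight space is a line. -/
theorem moved_line (h1 : OneFixed ρ a) (hYk : (Fintype.card Y : k) ≠ 0) (hr : r.Prime)
    (har : a ^ r = 1) (hpowY : ∀ i : ℕ, a ^ i ∈ normalizer (Y : Set H))
    {ha : a ∈ normalizer (Y : Set H)} {χ : Y →* kˣ} {x y : W} (hx : IsEigen ρ Y χ x)
    (hx0 : x ≠ 0) (hy : IsEigen ρ Y χ y) (hχ : twist Y ha χ ≠ χ) : ∃ c : k, y = c • x := by
  obtain ⟨c, hc⟩ := h1 _ _ (rep_orbSum ρ har x) (rep_orbSum ρ har y)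
    (orbSum_ne_zero ρ hYk hr har hpowY hx hx0 hχ)
  refine ⟨c, ?_⟩
  have e := congrArg (eigProj ρ χ) hc
  rw [eigProj_orbSum_self ρ hr har hpowY hy hχ, map_smul, eigProj_orbSum_self ρ hr har hpowY hx hχ,
    smul_comm] at e
  exact smul_right_injective W hYk e

/-- The weights occurring. -/
def Occurs (Y : Subgroup H) (χ : Y →* kˣ) : Prop := ∃ x : W, x ≠ 0 ∧ IsEigen ρ Y χ x

theorem occurs_twist {χ : Y →* kˣ} (h : Occurs ρ Y χ) {g : H} (hg : g ∈ normalizer (Y : Set H)) :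
    Occurs ρ Y (twist Y hg χ) := by
  obtain ⟨x, hx0, hx⟩ := h
  exact ⟨ρ g x, fun e => hx0 (PGroup.rep_injective ρ g (e.trans (map_zero _).symm)), hx.map ρ hg⟩

theorem mem_normalizer_inf_stab {N : Type*} [Group N] {X : Type*} [MulAction N X] {S : Subgroup N}
    {α : N} {μ : X} (hS : α ∈ normalizer (S : Set N)) (hμ : α • μ = μ) :
    α ∈ normalizer ((S ⊓ MulAction.stabilizer N μ : Subgroup N) : Set N) := by
  refine mem_normalizer_iff.2 fun t => and_congr (mem_normalizer_iff.1 hS t) ?_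
  show t • μ = μ ↔ (α * t * α⁻¹) • μ = μ
  rw [mul_smul, mul_smul, inv_smul_eq_iff.2 hμ.symm, smul_eq_iff_eq_inv_smul α,
    inv_smul_eq_iff.2 hμ.symm]

/-- An odd `p`-group normalized by `a` fixes every moved weight. -/
theorem twist_eq_of_moved [Finite H] (h1 : OneFixed ρ a) (hYk : (Fintype.card Y : k) ≠ 0)
    (hr : r.Prime) (har : a ^ r = 1) (hr2 : r ≠ 2) {S : Subgroup H} {p : ℕ} [hp : Fact p.Prime]
    (hS : IsPGroup p S) (hp2 : p ≠ 2) (hpr : p ≠ r) (hSY : S ≤ normalizer (Y : Set H))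
    (haS : a ∈ normalizer (S : Set H)) {ha : a ∈ normalizer (Y : Set H)} {χ : Y →* kˣ}
    (hoc : Occurs ρ Y χ) (hmv : twist Y ha χ ≠ χ) {g : H} (hg : g ∈ S) :
    twist Y (hSY hg) χ = χ := by
  classical
  haveI : Fact r.Prime := ⟨hr⟩
  have ha1 : a ≠ 1 := fun e => hmv ((twist_congr e ha (one_mem _) χ).trans (twist_one _ χ))
  have hao : orderOf a = r := orderOf_eq_prime har ha1
  have hpowY : ∀ i : ℕ, a ^ i ∈ normalizer (Y : Set H) := fun i => pow_mem ha i
  set N := normalizer (Y : Set H) with hN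
  letI act : MulAction N (Y →* kˣ) :=
    { smul := fun n μ => twist Y n.2 μ
      one_smul := fun μ => twist_one (one_mem _) μ
      mul_smul := fun m n μ => (twist_twist m.2 n.2 μ).symm }
  have hsmul : ∀ (n : N) (μ : Y →* kˣ), n • μ = twist Y n.2 μ := fun _ _ => rfl
  set S' := S.subgroupOf N with hS'
  set α : N := ⟨a, ha⟩ with hα
  have hαr : α ^ r = 1 := Subtype.ext har
  have hαS : α ∈ normalizer (S' : Set N) := mem_normalizer_iff.2 fun s => mem_normalizer_iff.1 haS (s : H)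
  set Ω := MulAction.orbit S' χ with hΩ
  have hfin : Finite Ω := Finite.of_surjective
    (fun s : S' => (⟨s • χ, MulAction.mem_orbit χ s⟩ : Ω)) fun ⟨_, s, e⟩ => ⟨s, Subtype.ext e⟩
  have hΩcard : ∃ n, Nat.card Ω = p ^ n := by
    haveI : IsPGroup p S' := hS.comap_subtype
    exact (this).card_orbit χ
  obtain ⟨n, hn⟩ := hΩcard
  have hmem : ∀ (s : N), s ∈ S' → s • χ ∈ Ω := fun s hs => ⟨⟨s, hs⟩, rfl⟩
  have hocc : ∀ μ ∈ Ω, Occurs ρ Y μ := by
    rintro _ ⟨s, rfl⟩
    exact occurs_twist ρ hoc (s : N).2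
  obtain ⟨x, hx0, hx⟩ := hoc
  -- the moved weights in the orbit
  have hmovedpow : ∀ μ ∈ Ω, α • μ ≠ μ → ∃ i : Fin r, α ^ (i : ℕ) • χ = μ := by
    intro μ hμ hne
    obtain ⟨y, hy0, hy⟩ := hocc μ hμ
    obtain ⟨i, hi, e⟩ := moved_orbit ρ h1 hYk hr har hpowY hx hx0 hy hy0 hmv hne
    refine ⟨⟨i, hi⟩, ?_⟩
    rw [← e, hsmul]
  have hinj : Function.Injective fun i : Fin r => α ^ (i : ℕ) • χ := by
    have key : ∀ i j : Fin r, (i : ℕ) ≤ j → α ^ (i : ℕ) • χ = α ^ (j : ℕ) • χ → i = j := by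
      intro i j hle hij
      refine Fin.ext ?_
      rw [← Nat.add_sub_cancel' hle, pow_add, mul_smul] at hij
      have e : α ^ ((j : ℕ) - i) • χ = χ := (MulAction.injective (α ^ (i : ℕ)) hij).symm
      have h0 := twist_pow_ne hr har hpowY hmv (show (j : ℕ) - i < r by omega)
        ((twist_congr (by simp [hα]) _ _ χ).trans e)
      omega
    intro i j hij
    rcases le_total (i : ℕ) j with hle | hle
    · exact key i j hle hij
    · exact (key j i hle hij.symm).symm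
  rw [← hsmul ⟨g, hSY hg⟩]
  by_contra hgne
  have hone : 1 < Nat.card Ω := Finite.one_lt_card_iff_nontrivial.2 ⟨⟨χ, MulAction.mem_orbit_self χ⟩,
    ⟨_, hmem ⟨g, hSY hg⟩ hg⟩, fun e => hgne (congrArg Subtype.val e).symm⟩
  have hΩα : ∀ μ ∈ Ω, α • χ ∈ Ω → α • μ ∈ Ω := by
    rintro _ ⟨s, rfl⟩ h
    obtain ⟨t, ht⟩ := h
    refine ⟨⟨α * s * α⁻¹, (mem_normalizer_iff.1 hαS _).1 s.2⟩ * t, ?_⟩
    show (α * (s : N) * α⁻¹ * (t : N)) • χ = α • ((s : N) • χ)
    rw [mul_smul, show (t : N) • χ = α • χ from ht, ← mul_smul, ← mul_smul]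
    congr 1
    group
  by_cases hst : α • χ ∈ Ω
  · have hpowΩ : ∀ i : ℕ, α ^ i • χ ∈ Ω := by
      intro i
      induction i with
      | zero => rw [pow_zero, one_smul]; exact MulAction.mem_orbit_self χ
      | succ i ih => rw [pow_succ', mul_smul]; exact hΩα _ ih hst
    -- moved and fixed weights
    set Mv := {μ : Ω | α • (μ : Y →* kˣ) ≠ μ} with hMv
    have hMvc : Nat.card Mv = r := by
      refine (Nat.card_congr (Equiv.ofBijective (fun i : Fin r => (⟨⟨_, hpowΩ i⟩, ?_⟩ : Mv))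
        ⟨fun i j e => hinj (congrArg (fun z : Mv => ((z : Ω) : Y →* kˣ)) e), ?_⟩)).symm.trans (Nat.card_fin r)
      · show α • (α ^ (i : ℕ) • χ) ≠ α ^ (i : ℕ) • χ
        rw [← mul_smul, ← pow_succ', pow_succ, mul_smul]
        exact fun e => hmv (MulAction.injective (α ^ (i : ℕ)) e)
      · rintro ⟨⟨μ, hμ⟩, hne⟩
        obtain ⟨i, e⟩ := hmovedpow μ hμ hne
        exact ⟨i, Subtype.ext (Subtype.ext e)⟩
    have hsum : Nat.card Mv + Nat.card (Mvᶜ : Set Ω) = Nat.card Ω := by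
      rw [Nat.card_coe_set_eq, Nat.card_coe_set_eq, Set.ncard_add_ncard_compl]
    rcases isEmpty_or_nonempty (Mvᶜ : Set Ω) with hemp | ⟨⟨μ₀, hμ₀⟩⟩
    · rw [hMvc, Nat.card_of_isEmpty, add_zero, hn] at hsum
      rcases n with _ | n
      · exact hr.one_lt.ne (by rw [hsum, pow_zero])
      · exact hpr ((Nat.prime_dvd_prime_iff_eq hp.out hr).1 (hsum ▸ dvd_pow_self p n.succ_ne_zero))
    -- the fixed weights form an orbit of the centralizer
    set C := S' ⊓ centralizer (zpowers α : Set N) with hC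
    have hμ₀α : α • (μ₀ : Y →* kˣ) = μ₀ := by simpa [hMv] using hμ₀
    have hfix : ∀ μ ∈ Ω, α • μ = μ → μ ∈ MulAction.orbit C (μ₀ : Y →* kˣ) := by
      intro μ hμ hμα
      obtain ⟨s, hs⟩ : μ ∈ MulAction.orbit S' (μ₀ : Y →* kˣ) := by
        rw [MulAction.orbit_eq_iff.2 μ₀.2]; exact hμ
      set T := S' ⊓ MulAction.stabilizer N (μ₀ : Y →* kˣ) with hT
      have hαT : zpowers α ≤ normalizer (T : Set N) := zpowers_le.2 (mem_normalizer_inf_stab hαS hμ₀α)
      have hTp : IsPGroup p T := (hS.comap_subtype).to_le inf_le_left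
      have hcop : (Nat.card T).Coprime (Nat.card (zpowers α)) := by
        obtain ⟨j, hj⟩ := IsPGroup.iff_card.1 hTp
        rw [hj, Nat.card_zpowers, orderOf_eq_prime hαr (fun e => ha1 (congrArg Subtype.val e))]
        exact Nat.Coprime.pow_left j ((Nat.coprime_primes hp.out hr).2 hpr)
      set k₀ : N := (s : N) with hk₀
      have hB : CfsgLib.Coprime.conjBy k₀⁻¹ (zpowers α) ≤ zpowers α ⊔ T := by
        rw [CfsgLib.Coprime.conjBy, MonoidHom.map_zpowers, zpowers_le]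
        show k₀⁻¹ * α * k₀⁻¹⁻¹ ∈ _
        have h1 : k₀⁻¹ * α * k₀⁻¹⁻¹ * α⁻¹ ∈ T := by
          refine mem_inf.2 ⟨?_, ?_⟩
          · rw [show k₀⁻¹ * α * k₀⁻¹⁻¹ * α⁻¹ = k₀⁻¹ * (α * k₀ * α⁻¹) by group]
            exact mul_mem (inv_mem (show k₀ ∈ S' from s.2)) ((mem_normalizer_iff.1 hαS _).1 s.2)
          · show (k₀⁻¹ * α * k₀⁻¹⁻¹ * α⁻¹) • (μ₀ : Y →* kˣ) = μ₀
            rw [mul_smul, inv_smul_eq_iff.2 hμ₀α.symm, inv_inv, mul_smul, mul_smul,
              show k₀ • (μ₀ : Y →* kˣ) = μ from hs, hμα, ← show k₀ • (μ₀ : Y →* kˣ) = μ from hs,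
              inv_smul_smul]
        have := mul_mem (mem_sup_right h1) (mem_sup_left (mem_zpowers α) : α ∈ zpowers α ⊔ T)
        rwa [inv_mul_cancel_right] at this
      obtain ⟨m, hm, hme⟩ := CfsgLib.Coprime.sz_conj_in hαT hcop hB (CfsgLib.Coprime.card_conjBy _ _)
        (Or.inl (CfsgLib.Coprime.isSolvable_of_isMulCommutative inferInstance))
      rw [CfsgLib.Coprime.conjBy_conjBy, CfsgLib.Coprime.conjBy_eq_self_iff] at hme
      have hc : k₀ * m⁻¹ ∈ S' := mul_mem (show k₀ ∈ S' from s.2) (inv_mem (mem_inf.1 hm).1)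
      have hcn : k₀ * m⁻¹ ∈ normalizer (zpowers α : Set N) := by
        rw [show k₀ * m⁻¹ = (m * k₀⁻¹)⁻¹ by group]; exact inv_mem hme
      refine ⟨⟨k₀ * m⁻¹, hc, CfsgLib.Coprime.mem_centralizer_of_mem_normalizer
        (zpowers_le.2 hαS) ?_ hc hcn⟩, ?_⟩
      · obtain ⟨j, hj⟩ := IsPGroup.iff_card.1 (hS.comap_subtype : IsPGroup p S')
        rw [show Nat.card S' = p ^ j from hj, Nat.card_zpowers,
          orderOf_eq_prime hαr (fun e => ha1 (congrArg Subtype.val e))]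
        exact Nat.Coprime.pow_right j ((Nat.coprime_primes hr hp.out).2 hpr.symm)
      · show (k₀ * m⁻¹) • (μ₀ : Y →* kˣ) = μ
        rw [mul_smul, inv_smul_eq_iff.2 (show m • (μ₀ : Y →* kˣ) = μ₀ from hm.2).symm]
        exact hs
    have hFcard : Nat.card (Mvᶜ : Set Ω) = Nat.card (MulAction.orbit C (μ₀ : Y →* kˣ)) := by
      refine Nat.card_congr (Equiv.ofBijective
        (fun z => ⟨((z : Ω) : Y →* kˣ), hfix _ (z : Ω).2 (not_not.1 z.2)⟩)
        ⟨fun z z' e => Subtype.ext (Subtype.ext (congrArg (fun q : MulAction.orbit C (μ₀ : Y →* kˣ) => (q : Y →* kˣ)) e)), ?_⟩)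
      rintro ⟨_, c, rfl⟩
      have hcΩ : (c : N) • (μ₀ : Y →* kˣ) ∈ Ω := by
        exact (MulAction.orbit_eq_iff.2 μ₀.2).le ⟨⟨c, c.2.1⟩, rfl⟩
      refine ⟨⟨⟨_, hcΩ⟩, ?_⟩, rfl⟩
      have hcomm : α * (c : N) = (c : N) * α := mem_centralizer_iff.1 c.2.2 α (mem_zpowers α)
      simp only [hMv, Set.mem_compl_iff, Set.mem_setOf_eq, not_not]
      rw [← mul_smul, hcomm, mul_smul, hμ₀α]
    haveI : Finite (MulAction.orbit C (μ₀ : Y →* kˣ)) := Finite.of_surjective
      (fun c : C => (⟨c • (μ₀ : Y →* kˣ), MulAction.mem_orbit _ c⟩ : MulAction.orbit C (μ₀ : Y →* kˣ)))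
      fun ⟨_, c, e⟩ => ⟨c, Subtype.ext e⟩
    obtain ⟨j, hj⟩ := ((hS.comap_subtype : IsPGroup p S').to_le
      (inf_le_left : C ≤ S')).card_orbit (μ₀ : Y →* kˣ)
    rw [hMvc, hFcard, hj, hn] at hsum
    have h1 : Odd r := hr.odd_of_ne_two hr2
    have h2 : ∀ i, Odd (p ^ i) := fun i => (hp.out.odd_of_ne_two hp2).pow
    exact Nat.not_even_iff_odd.2 (h2 n) (hsum ▸ h1.add_odd (h2 j))
  · -- the translates of the orbit are disjoint
    have hall : ∀ μ ∈ Ω, α • μ ≠ μ := by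
      rintro _ ⟨s, rfl⟩ e
      refine hst ?_
      have e' : α • ((s : N) • χ) = (s : N) • χ := e
      refine ⟨⟨α * (s : N)⁻¹ * α⁻¹, (mem_normalizer_iff.1 hαS _).1 (inv_mem s.2)⟩ * s, ?_⟩
      show (α * (s : N)⁻¹ * α⁻¹ * (s : N)) • χ = α • χ
      rw [mul_smul, ← e', ← mul_smul, ← mul_smul]
      congr 1
      group
    haveI : Finite (Fin r) := inferInstance
    choose f hf using fun μ : Ω => hmovedpow μ μ.2 (hall μ μ.2)
    have hlt : r * Nat.card Ω ≤ r := by
      have hj : Function.Injective fun z : Fin r × Ω => ((z.1 : ℕ) + f z.2) % r := by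
        rintro ⟨i, μ⟩ ⟨j, ν⟩ e
        have hmod : ∀ i : ℕ, α ^ (i % r) = α ^ i := fun i => by
          conv_rhs => rw [← Nat.mod_add_div i r, pow_add, pow_mul, hαr, one_pow, mul_one]
        have e2 : α ^ (i : ℕ) • (μ : Y →* kˣ) = α ^ (j : ℕ) • (ν : Y →* kˣ) := by
          rw [← hf μ, ← hf ν, ← mul_smul, ← mul_smul, ← pow_add, ← pow_add, ← hmod, ← hmod ((j : ℕ) + _)]
          exact congrArg (fun m => α ^ m • χ) e
        have key : ∀ (d : ℕ), d < r → ∀ μ ν : Ω, α ^ d • (μ : Y →* kˣ) = ν → d = 0 := by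
          intro d hd μ ν e
          by_contra hd0
          obtain ⟨m, hm⟩ := Nat.exists_mul_mod_eq_one_of_coprime
            ((Nat.coprime_of_lt_prime hd0 hd hr).symm) hr.one_lt
          have hstep : ∀ l : ℕ, ∀ τ ∈ Ω, α ^ (d * l) • τ ∈ Ω := by
            intro l
            induction l with
            | zero => intro τ hτ; rwa [Nat.mul_zero, pow_zero, one_smul]
            | succ l ih =>
              intro τ hτ
              rw [Nat.mul_succ, pow_add, mul_smul]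
              refine ih _ ?_
              obtain ⟨s, hs⟩ : τ ∈ MulAction.orbit S' (μ : Y →* kˣ) := by
                rw [MulAction.orbit_eq_iff.2 μ.2]; exact hτ
              rw [show Ω = MulAction.orbit S' (ν : Y →* kˣ) from (MulAction.orbit_eq_iff.2 ν.2).symm]
              refine ⟨⟨α ^ d * s * (α ^ d)⁻¹, (mem_normalizer_iff.1 (pow_mem hαS d) _).1 s.2⟩, ?_⟩
              show (α ^ d * (s : N) * (α ^ d)⁻¹) • (ν : Y →* kˣ) = α ^ d • τ
              rw [← e, ← mul_smul, inv_mul_cancel_right, mul_smul]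
              exact congrArg _ hs
          refine hst ?_
          have := hstep m χ (MulAction.mem_orbit_self χ)
          rwa [← hmod, hm.2, pow_one] at this
        rcases le_total (i : ℕ) j with hle | hle
        · have h0 := key ((j : ℕ) - i) (by omega) ν μ (by
            refine MulAction.injective (α ^ (i : ℕ)) ?_
            show α ^ (i : ℕ) • α ^ ((j : ℕ) - i) • (ν : Y →* kˣ) = α ^ (i : ℕ) • (μ : Y →* kˣ)
            rw [← mul_smul, ← pow_add, Nat.add_sub_cancel' hle, e2])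
          obtain rfl : i = j := Fin.ext (by omega)
          exact Prod.ext rfl (Subtype.ext (MulAction.injective _ e2))
        · have h0 := key ((i : ℕ) - j) (by omega) μ ν (by
            refine MulAction.injective (α ^ (j : ℕ)) ?_
            show α ^ (j : ℕ) • α ^ ((i : ℕ) - j) • (μ : Y →* kˣ) = α ^ (j : ℕ) • (ν : Y →* kˣ)
            rw [← mul_smul, ← pow_add, Nat.add_sub_cancel' hle, e2])
          obtain rfl : i = j := Fin.ext (by omega)
          exact Prod.ext rfl (Subtype.ext (MulAction.injective _ e2))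
      have := Nat.card_le_card_of_injective
        (fun z : Fin r × Ω => (⟨((z.1 : ℕ) + f z.2) % r, Nat.mod_lt _ hr.pos⟩ : Fin r))
        fun z z' e => hj (congrArg Fin.val e)
      rwa [Nat.card_prod, Nat.card_fin] at this
    have : r * 2 ≤ r * Nat.card Ω := Nat.mul_le_mul_left r hone
    have := hr.pos
    omega

variable [IsAlgClosed k] [FiniteDimensional k W]

/-- The commutators of `a` with `Y` are centralized by odd `p`-groups normalized by `a`. -/
theorem rep_commutator_fixed [Finite H] (h1 : OneFixed ρ a) (hY : ImgComm ρ Y)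
    (hYk : (Fintype.card Y : k) ≠ 0) (hr : r.Prime) (har : a ^ r = 1) (hr2 : r ≠ 2)
    {S : Subgroup H} {p : ℕ} [hp : Fact p.Prime] (hS : IsPGroup p S) (hp2 : p ≠ 2) (hpr : p ≠ r)
    (hSY : S ≤ normalizer (Y : Set H)) (haS : a ∈ normalizer (S : Set H))
    (ha : a ∈ normalizer (Y : Set H)) {g : H} (hg : g ∈ S) {y : H} (hy : y ∈ Y) :
    ρ (g * (a * y * a⁻¹ * y⁻¹) * g⁻¹) = ρ (a * y * a⁻¹ * y⁻¹) := by
  set z := a * y * a⁻¹ * y⁻¹ with hz
  have hzY : z ∈ Y := mul_mem ((mem_normalizer_iff.1 ha y).1 hy) (inv_mem hy)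
  have hgz : g * z * g⁻¹ ∈ Y := (mem_normalizer_iff.1 (hSY hg) z).1 hzY
  refine sub_eq_zero.1 (eq_zero_of_forall_eigen ρ hY hYk _ ?_ ?_)
  · intro t ht w
    rw [LinearMap.sub_apply, LinearMap.sub_apply, map_sub, ← PGroup.rep_mul_apply,
      ← PGroup.rep_mul_apply, ← PGroup.rep_mul_apply, ← PGroup.rep_mul_apply, hY t ht _ hgz,
      hY t ht _ hzY]
  · intro χ x hx
    by_cases hx0 : x = 0
    · rw [hx0, map_zero]
    have hval : ∀ μ : Y →* kˣ, twist Y ha μ = μ → μ ⟨z, hzY⟩ = 1 := by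
      intro μ hμ
      have e := DFunLike.congr_fun hμ (⟨a * y * a⁻¹, (mem_normalizer_iff.1 ha y).1 hy⟩ : Y)
      rw [twist_apply] at e
      rw [show (⟨z, hzY⟩ : Y) = ⟨a * y * a⁻¹, (mem_normalizer_iff.1 ha y).1 hy⟩ * ⟨y, hy⟩⁻¹ from rfl,
        map_mul, map_inv, ← e, show (⟨a⁻¹ * (a * y * a⁻¹) * a, _⟩ : Y) = ⟨y, hy⟩ from
          Subtype.ext (by group), mul_inv_cancel]
    set ν := twist Y (inv_mem (hSY hg)) χ with hν
    have hνz : ν ⟨z, hzY⟩ = χ ⟨g * z * g⁻¹, hgz⟩ := by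
      rw [hν, twist_apply]
      exact congrArg χ (Subtype.ext (by simp))
    rw [LinearMap.sub_apply, show ρ z x = _ from hx ⟨z, hzY⟩,
      show ρ (g * z * g⁻¹) x = _ from hx ⟨_, hgz⟩, ← hνz]
    have hoc : Occurs ρ Y χ := ⟨x, hx0, hx⟩
    by_cases hmv : twist Y ha χ = χ
    · by_cases hmv' : twist Y ha ν = ν
      · rw [hval χ hmv, hval ν hmv', sub_self]
      · exfalso
        have e := twist_eq_of_moved ρ h1 hYk hr har hr2 hS hp2 hpr hSY haS
          (occurs_twist ρ hoc _) hmv' hg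
        have e2 : twist Y (hSY hg) ν = χ := by
          rw [hν, twist_twist, twist_congr (mul_inv_cancel g) _ (one_mem _), twist_one]
        have e3 : ν = χ := e.symm.trans e2
        exact hmv' (e3 ▸ hmv)
    · rw [hν, twist_eq_of_moved ρ h1 hYk hr har hr2 hS hp2 hpr hSY haS hoc hmv (inv_mem hg), sub_self]

end CfsgLib.CFun.OpW
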