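import Mathlib.Algebra.CharP.Lemmas
import Mathlib.Algebra.CharP.Algebra
import Cfsg.Agent.Lib.PGroup.HallHighman
import Cfsg.Agent.Lib.CFun.OddOperatorWeights

/-!
# An operator with one line of fixed vectors on a group of class two
-/

set_option autoImplicit false
set_option linter.style.haveILetI false
set_option linter.unusedSectionVars false

open Module
open CfsgLib.PGroup (ScalarQuot scalarSub scalarSub_normal Irred ClassTwo Nondeg schur rep_indep
  rep_ne_zero smul_rep_inj exists_intertwiner finrank_commute_le card_scalarQuot exists_irred_sub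
  restrictRep restrictRep_smul_one restrictRep_apply scalarSub_restrictRep powRep IsEigen ImgComm
  eigProj isEigen_eigProj eigProj_self eigProj_ne eigProj_comm sum_eigProj finite_hom_units)

namespace CfsgLib.CFun.OpW

universe u v w

/-- The counting. -/
theorem mult_le_two {ι : Type*} [Fintype ι] (m : ι → ℕ) {r : ℕ} (hr : 3 ≤ r)
    (hι : Fintype.card ι ≤ r) (i₀ : ι) (h0 : m i₀ ≤ 1)
    (h : r * ∑ i, m i * m i + 1 ≤ (∑ i, m i) * (∑ i, m i) + r) (j : ι) : m j ≤ 2 := by
  classical
  by_contra hj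
  push Not at hj
  have hne : i₀ ≠ j := fun e => by subst e; omega
  set O := (Finset.univ.erase i₀).erase j with hO
  have hj' : j ∈ Finset.univ.erase i₀ := Finset.mem_erase.2 ⟨hne.symm, Finset.mem_univ _⟩
  have e1 : ∀ f : ι → ℕ, ∑ i, f i = f i₀ + (f j + ∑ i ∈ O, f i) := fun f => by
    rw [← Finset.add_sum_erase _ _ (Finset.mem_univ i₀), ← Finset.add_sum_erase _ _ hj']
  rw [e1, e1 m] at h
  have hcs : (∑ i ∈ O, m i) ^ 2 ≤ O.card * ∑ i ∈ O, m i ^ 2 := sq_sum_le_card_mul_sum_sq
  have hOc : O.card + 2 ≤ r := by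
    have h2 : 2 ≤ Fintype.card ι := Fintype.one_lt_card_iff.2 ⟨i₀, j, hne⟩
    rw [hO, Finset.card_erase_of_mem hj', Finset.card_erase_of_mem (Finset.mem_univ _), Finset.card_univ]
    omega
  obtain ⟨R, rfl⟩ : ∃ R, r = R + 2 := ⟨r - 2, by omega⟩
  set T := ∑ i ∈ O, m i
  set Q := ∑ i ∈ O, m i * m i with hQ
  have hQ' : T ^ 2 ≤ R * Q := by
    refine hcs.trans (Nat.mul_le_mul (by omega) (le_of_eq ?_))
    exact Finset.sum_congr rfl fun i _ => sq (m i)
  set a := (m i₀ : ℤ) with ha
  set b := (m j : ℤ) with hb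
  have h' : ((R : ℤ) + 2) * (a * a + (b * b + Q)) + 1 ≤ (a + (b + T)) * (a + (b + T)) + (R + 2) := by
    rw [ha, hb]; exact_mod_cast h
  have hQ'' : (T : ℤ) ^ 2 ≤ R * Q := by exact_mod_cast hQ'
  have h1 : (1 : ℤ) ≤ R := by omega
  have hd : (2 : ℤ) ≤ b - a := by rw [ha, hb]; omega
  have h2 : (4 : ℤ) ≤ (b - a) ^ 2 := by nlinarith
  have key : ((R : ℤ) + 2) * R * (b - a) ^ 2 ≤ 2 * R * (R + 1) := by
    nlinarith [mul_le_mul_of_nonneg_left h' (show (0 : ℤ) ≤ 2 * R by omega),
      mul_le_mul_of_nonneg_left hQ'' (show (0 : ℤ) ≤ 2 * ((R : ℤ) + 2) by omega),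
      sq_nonneg (2 * (T : ℤ) - R * (a + b))]
  nlinarith [mul_le_mul_of_nonneg_left h2 (show (0 : ℤ) ≤ ((R : ℤ) + 2) * R by positivity)]

variable {E : Type u} [Group E] [Finite E] {k : Type v} [Field k] [IsAlgClosed k] {W : Type w}
  [AddCommGroup W] [Module k W] [FiniteDimensional k W]

/-- The eigenspace decomposition of an operator of prime order. -/
theorem exists_decomp {r : ℕ} (hr : r.Prime) (hrk : (r : k) ≠ 0) (b : Module.End k W)
    (hbr : b ^ r = 1) :
    ∃ (ι : Type v) (_ : Fintype ι) (i₀ : ι) (P : ι → Module.End k W),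
      Fintype.card ι ≤ r ∧ (∀ x ∈ LinearMap.range (P i₀), b x = x) ∧
      (∀ w, ∑ i, P i w = (r : k) • w) ∧
      (∀ D : Module.End k W, D * b = b * D → ∀ i w, D (P i w) = P i (D w)) ∧
      finrank k W = ∑ i, finrank k (LinearMap.range (P i)) ∧
      ∑ i, finrank k (LinearMap.range (P i)) * finrank k (LinearMap.range (P i)) ≤
        finrank k (LinearMap.ker (LinearMap.mulLeft k b - LinearMap.mulRight k b)) := by
  classical
  haveI : Fact (1 < r) := ⟨hr.one_lt⟩
  haveI : NeZero r := ⟨hr.ne_zero⟩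
  let τ := powRep b hbr
  let Y : Subgroup (Multiplicative (ZMod r)) := ⊤
  haveI := Fintype.ofFinite Y
  haveI := finite_hom_units (k := k) (Y := Y)
  haveI := Fintype.ofFinite (Y →* kˣ)
  have hY : ImgComm τ Y := fun y _ z _ => by rw [mul_comm]
  have hcard : Fintype.card Y = r := by
    rw [← Nat.card_eq_fintype_card, Subgroup.card_top]; simp
  have hk : (Fintype.card Y : k) ≠ 0 := by rwa [hcard]
  let g : Y := ⟨Multiplicative.ofAdd 1, Subgroup.mem_top _⟩
  have hτg : τ (g : Multiplicative (ZMod r)) = b := by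
    show b ^ (Multiplicative.toAdd (Multiplicative.ofAdd (1 : ZMod r))).val = b
    rw [toAdd_ofAdd, ZMod.val_one, pow_one]
  have hgpow : ∀ y : Y, y = g ^ (Multiplicative.toAdd (y : Multiplicative (ZMod r))).val := by
    intro y
    refine Subtype.ext (Multiplicative.toAdd.injective ?_)
    simp [g, ZMod.natCast_rightInverse _]
  have hDP : ∀ D : Module.End k W, D * b = b * D → ∀ (χ : Y →* kˣ) (w : W), D (eigProj τ χ w) = eigProj τ χ (D w) := by
    intro D hD χ w
    refine eigProj_comm τ χ D (fun y _ v => ?_) w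
    show (D * b ^ (Multiplicative.toAdd y).val) v = (b ^ (Multiplicative.toAdd y).val * D) v
    rw [(Commute.pow_right hD _).eq]
  let Eχ : (Y →* kˣ) → Submodule k W := fun χ => LinearMap.range (eigProj τ χ)
  have hEχ : ∀ χ, ∀ x ∈ Eχ χ, IsEigen τ Y χ x := by
    rintro χ _ ⟨x, rfl⟩
    exact isEigen_eigProj τ χ x
  have hEg : ∀ χ, ∀ x ∈ Eχ χ, b x = (χ g : k) • x := fun χ x hx => by
    rw [← hτg]; exact hEχ χ x hx g
  let π : ∀ χ, W →ₗ[k] Eχ χ := fun χ => ((r : k)⁻¹) • (eigProj τ χ).rangeRestrict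
  have hπ : ∀ χ w, ((π χ w : Eχ χ) : W) = (r : k)⁻¹ • eigProj τ χ w := fun χ w => rfl
  have hsum' : ∀ w, ∑ χ, eigProj τ χ w = (r : k) • w := fun w => by
    rw [sum_eigProj τ hY hk, hcard]
  have hsum : ∀ w, ∑ χ, ((π χ w : Eχ χ) : W) = w := fun w => by
    simp only [hπ, ← Finset.smul_sum, hsum', inv_smul_smul₀ hrk]
  have hπι : ∀ χ ψ, ∀ x ∈ Eχ ψ, ((π χ x : Eχ χ) : W) = if χ = ψ then x else 0 := by
    intro χ ψ x hx
    rw [hπ]
    split
    · next h => rw [h, eigProj_self τ (hEχ ψ x hx), hcard, inv_smul_smul₀ hrk]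
    · next h => rw [eigProj_ne τ (hEχ ψ x hx) h, smul_zero]
  have hπ' : ∀ (X : ∀ χ, Eχ χ) χ, π χ (∑ ψ, ((X ψ : Eχ ψ) : W)) = X χ := by
    intro X χ
    refine Subtype.ext ?_
    rw [map_sum, AddSubmonoidClass.coe_finsetSum, Finset.sum_eq_single χ (fun ψ _ h => by
        rw [hπι χ ψ _ (X ψ).2, if_neg h.symm]) (fun h => absurd (Finset.mem_univ χ) h),
      hπι χ χ _ (X χ).2, if_pos rfl]
  let e : W ≃ₗ[k] ∀ χ, Eχ χ :=
    { LinearMap.pi π with
      invFun := fun X => ∑ χ, ((X χ : Eχ χ) : W)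
      left_inv := hsum
      right_inv := fun X => funext (hπ' X) }
  let Φ : (∀ χ, Module.End k (Eχ χ)) →ₗ[k] Module.End k W :=
    { toFun := fun X => ∑ χ, (Eχ χ).subtype.comp ((X χ).comp (π χ))
      map_add' := fun X X' => by
        simp [LinearMap.add_comp, LinearMap.comp_add, Finset.sum_add_distrib]
      map_smul' := fun c X => by
        simp [LinearMap.smul_comp, LinearMap.comp_smul, Finset.smul_sum] }
  have hΦ : ∀ X w, Φ X w = ∑ χ, ((X χ (π χ w) : Eχ χ) : W) := fun X w => by
    simp [Φ, LinearMap.sum_apply]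
  have hΦi : Function.Injective Φ := by
    intro X X' h
    funext χ
    refine LinearMap.ext fun x => ?_
    have h1 : ∀ Z : ∀ χ, Module.End k (Eχ χ), π χ (Φ Z (x : W)) = Z χ x := by
      intro Z
      rw [hΦ, hπ' (fun ψ => Z ψ (π ψ (x : W))) χ]
      congr 1
      exact Subtype.ext (by rw [hπι χ χ _ x.2, if_pos rfl])
    rw [← h1 X, ← h1 X', h]
  have hΦr : LinearMap.range Φ ≤ LinearMap.ker (LinearMap.mulLeft k b - LinearMap.mulRight k b) := by
    rintro _ ⟨X, rfl⟩
    simp only [LinearMap.mem_ker, LinearMap.sub_apply, LinearMap.mulLeft_apply,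
      LinearMap.mulRight_apply, sub_eq_zero]
    refine LinearMap.ext fun w => ?_
    rw [Module.End.mul_apply, Module.End.mul_apply, hΦ, hΦ, map_sum]
    refine Finset.sum_congr rfl fun χ _ => ?_
    rw [hEg χ _ (X χ (π χ w)).2]
    have e1 : π χ (b w) = (χ g : k) • π χ w := by
      refine Subtype.ext ?_
      rw [Submodule.coe_smul, hπ, hπ, smul_comm, ← hEg χ _ ⟨w, rfl⟩, hDP b rfl]
    rw [e1, map_smul, Submodule.coe_smul]
  have hΩ : Fintype.card (Y →* kˣ) ≤ r := by
    have hinj : Function.Injective fun χ : Y →* kˣ =>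
        (⟨χ g, by
          rw [mem_rootsOfUnity, ← map_pow,
            show g ^ r = 1 by have h0 := pow_card_eq_one (x := g); rwa [hcard] at h0, map_one]⟩ : rootsOfUnity r k) := by
      intro χ ψ h
      have h' : χ g = ψ g := congrArg Subtype.val h
      refine MonoidHom.ext fun y => ?_
      rw [hgpow y, map_pow, map_pow, h']
    rw [← Nat.card_eq_fintype_card]
    exact (Nat.card_le_card_of_injective _ hinj).trans (card_rootsOfUnity k r)
  refine ⟨Y →* kˣ, inferInstance, 1, fun χ => eigProj τ χ, hΩ, fun x hx => ?_, hsum', hDP, ?_, ?_⟩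
  · rw [hEg 1 x hx, MonoidHom.one_apply, Units.val_one, one_smul]
  · rw [e.finrank_eq, Module.finrank_pi_fintype]
  · refine le_trans (le_of_eq ?_) (Submodule.finrank_mono hΦr)
    rw [LinearMap.finrank_range_of_inj hΦi, Module.finrank_pi_fintype]
    exact Finset.sum_congr rfl fun χ _ => (Module.finrank_linearMap k k _ _).symm

variable {ρ : E →* Module.End k W}

/-- The third difference along conjugation by `1 + N`, `N ^ 2 = 0`. -/
theorem third_difference (N X : Module.End k W) (hN : N * N = 0)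
    (f : Module.End k W → Module.End k W) (hf : ∀ A, f A = (1 + N) * A * (1 - N)) :
    f (f (f X)) - (3 : k) • f (f X) + (3 : k) • f X - X = 0 := by
  let D : Module.End k W →ₗ[k] Module.End k W :=
    LinearMap.mulLeft k N - LinearMap.mulRight k N - (LinearMap.mulLeft k N).comp (LinearMap.mulRight k N)
  have hD : ∀ A, D A = N * A - A * N - N * (A * N) := fun A => by simp [D]
  have hfD : ∀ A, f A = A + D A := fun A => by rw [hf, hD]; noncomm_ring
  have hNN : ∀ A, N * (N * A) = 0 := fun A => by rw [← mul_assoc, hN, zero_mul]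
  have hD0 : ∀ A, D (N * (A * N)) = 0 := fun A => by
    rw [hD]; simp only [mul_assoc, hNN, hN, mul_zero, sub_zero]
  have h2 : ∀ A, D (D A) = -((2 : k) • (N * (A * N))) := fun A => by
    rw [hD (D A), hD A]
    simp only [mul_sub, sub_mul, mul_assoc, hNN, hN, mul_zero, sub_zero, zero_sub]
    rw [two_smul]; abel
  have h3 : D (D (D X)) = 0 := by rw [h2 X, map_neg, map_smul, hD0, smul_zero, neg_zero]
  simp only [hfD, map_add, h3]
  module

/-- Two commuting fixed-point-free operators, the first with at most a line of fixed vectors,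
cannot act on a group of class two in characteristic `p > 3`. -/
theorem extraspecial_irred_false [Nontrivial W] (hirr : Irred ρ) (hE : ClassTwo ρ)
    (hm : (Nat.card (ScalarQuot ρ) : k) ≠ 0) {r : ℕ} (hr : r.Prime) (hr2 : r ≠ 2)
    (hrk : (r : k) ≠ 0) {p : ℕ} [hp : Fact p.Prime] [CharP k p] (hp3 : 3 < p) (σ τ : E ≃* E)
    (hσr : ∀ x, σ^[r] x = x) (hτp : ∀ x, τ^[p] x = x) (hcomm : ∀ x, σ (τ x) = τ (σ x))
    (hσs : ∀ x ∈ scalarSub ρ, σ x = x) (hτs : ∀ x ∈ scalarSub ρ, τ x = x)
    (hσf : ∀ x, x⁻¹ * σ x ∈ scalarSub ρ → x ∈ scalarSub ρ)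
    (hτf : ∀ x, x⁻¹ * τ x ∈ scalarSub ρ → x ∈ scalarSub ρ) (hne : scalarSub ρ ≠ ⊤)
    (B : Module.End k W) (hB : ∀ x, B * ρ x = ρ (σ x) * B) (hBr : B ^ r = 1)
    (hone : finrank k (LinearMap.ker (B - 1)) ≤ 1) : False := by
  classical
  have hσc : ∀ x (c : k), ρ x = c • 1 → ρ (σ x) = c • 1 := fun x c h => by rw [hσs x ⟨c, h⟩, h]
  have hτc : ∀ x (c : k), ρ x = c • 1 → ρ (τ x) = c • 1 := fun x c h => by rw [hτs x ⟨c, h⟩, h]
  -- multiplicities
  obtain ⟨ι, _, i₀, P, hι, hfix, hsum, hcommP, hdim, hsq⟩ := exists_decomp hr hrk B hBr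
  have hle2 : ∀ i, finrank k (LinearMap.range (P i)) ≤ 2 := by
    refine mult_le_two _ (by have := hr.two_le; omega) hι i₀ ?_ ?_
    · refine (Submodule.finrank_mono fun x hx => ?_).trans hone
      rw [LinearMap.mem_ker, LinearMap.sub_apply, Module.End.one_apply, hfix x hx, sub_self]
    · have h1 := finrank_commute_le ρ hirr hE hm hr hrk σ hσr hσc B hB hBr hσf hne
      rw [card_scalarQuot ρ hirr hE hm, hdim] at h1
      exact (Nat.add_le_add_right (Nat.mul_le_mul_left r hsq) 1).trans h1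
  -- the second operator
  obtain ⟨b, hb⟩ := exists_intertwiner ρ hirr hE hm τ hτc
  set b' : Module.End k W := b.toLinearMap with hb'
  have hb'' : ∀ x, b' * ρ x = ρ (τ x) * b' := fun x => LinearMap.ext fun w => hb x w
  have hbinv : ∀ x, (b.symm : Module.End k W) * ρ (τ x) = ρ x * (b.symm : Module.End k W) := by
    intro x
    refine LinearMap.ext fun w => b.injective ?_
    show b (b.symm (ρ (τ x) w)) = b (ρ x (b.symm w))
    rw [hb, LinearEquiv.apply_symm_apply, LinearEquiv.apply_symm_apply]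
  have hbb : b' * (b.symm : Module.End k W) = 1 := LinearMap.ext fun w => b.apply_symm_apply w
  set B' : Module.End k W := B ^ (r - 1) with hB'
  have hBB' : B * B' = 1 := by rw [hB', ← pow_succ', Nat.sub_add_cancel hr.one_le, hBr]
  have hB'B : B' * B = 1 := by rw [hB', ← pow_succ, Nat.sub_add_cancel hr.one_le, hBr]
  have hB'ρ : ∀ x, B' * ρ (σ x) = ρ x * B' := fun x => by
    calc B' * ρ (σ x) = B' * (ρ (σ x) * B) * B' := by rw [mul_assoc, mul_assoc, hBB', mul_one]
      _ = B' * (B * ρ x) * B' := by rw [hB]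
      _ = ρ x * B' := by rw [← mul_assoc B', hB'B, one_mul]
  obtain ⟨c, hc⟩ : ∃ c : k, B * b' = c • (b' * B) := by
    obtain ⟨c, hc⟩ := schur ρ hirr (B' * ((b.symm : Module.End k W) * (B * b'))) fun x => by
      calc B' * ((b.symm : Module.End k W) * (B * b')) * ρ x
          = B' * ((b.symm : Module.End k W) * (B * (b' * ρ x))) := by simp only [mul_assoc]
        _ = B' * ((b.symm : Module.End k W) * (B * ρ (τ x) * b')) := by rw [hb'', mul_assoc]
        _ = B' * ((b.symm : Module.End k W) * ρ (τ (σ x)) * (B * b')) := by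
            rw [hB, hcomm]; simp only [mul_assoc]
        _ = B' * ρ (σ x) * ((b.symm : Module.End k W) * (B * b')) := by
            rw [hbinv]; simp only [mul_assoc]
        _ = ρ x * (B' * ((b.symm : Module.End k W) * (B * b'))) := by rw [hB'ρ, mul_assoc]
    refine ⟨c, ?_⟩
    calc B * b' = b' * (B * (B' * ((b.symm : Module.End k W) * (B * b')))) := by
          rw [← mul_assoc B B', hBB', one_mul, ← mul_assoc b', hbb, one_mul]
      _ = c • (b' * B) := by rw [hc, mul_smul_comm, mul_one, mul_smul_comm]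
  have hpow : ∀ n : ℕ, B * b' ^ n = c ^ n • (b' ^ n * B) := by
    intro n
    induction n with
    | zero => simp
    | succ n ih =>
      calc B * b' ^ (n + 1) = (B * b' ^ n) * b' := by rw [pow_succ, mul_assoc]
        _ = c ^ n • (b' ^ n * (B * b')) := by rw [ih, smul_mul_assoc, mul_assoc]
        _ = c ^ (n + 1) • (b' ^ (n + 1) * B) := by
            rw [hc, mul_smul_comm, smul_smul, ← pow_succ, ← mul_assoc, ← pow_succ]
  obtain ⟨d, hd⟩ := schur ρ hirr (b' ^ p) fun x => by
    have : ∀ (n : ℕ) (y : E), b' ^ n * ρ y = ρ (τ^[n] y) * b' ^ n := by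
      intro n
      induction n with
      | zero => intro y; simp
      | succ n ih =>
        intro y
        rw [pow_succ, mul_assoc, hb'', ← mul_assoc, ih, mul_assoc, ← pow_succ, ← Function.iterate_succ_apply]
    rw [this, hτp]
  have hbinj : Function.Injective b' := b.injective
  have hd0 : d ≠ 0 := by
    intro h
    rw [h, zero_smul] at hd
    obtain ⟨w, hw⟩ := exists_ne (0 : W)
    have hi : ∀ n : ℕ, Function.Injective (b' ^ n : Module.End k W) := by
      intro n
      induction n with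
      | zero => exact fun x y h => h
      | succ n ih => rw [pow_succ, Module.End.mul_eq_comp, LinearMap.coe_comp]; exact ih.comp hbinj
    exact hw (hi p (by rw [hd]; rfl))
  have hBne : B ≠ 0 := fun h => by
    rw [h, zero_pow hr.ne_zero] at hBr
    exact one_ne_zero hBr.symm
  have hc1 : c = 1 := by
    have h1 := hpow p
    rw [hd, mul_smul_comm, mul_one, smul_mul_assoc, one_mul, smul_smul] at h1
    have h2 : c ^ p = 1 := by
      have := smul_left_injective k hBne h1
      exact (mul_eq_right₀ hd0).1 this.symm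
    have h3 : (c - 1) ^ p = 0 := by rw [sub_pow_char, h2, one_pow, sub_self]
    exact sub_eq_zero.1 (eq_zero_of_pow_eq_zero h3)
  rw [hc1, one_smul] at hc
  obtain ⟨e, he⟩ := IsAlgClosed.exists_pow_nat_eq d hp.out.pos
  have he0 : e ≠ 0 := fun h => hd0 (by rw [← he, h, zero_pow hp.out.ne_zero])
  set T : Module.End k W := e⁻¹ • b' with hT
  set N : Module.End k W := T - 1 with hN
  haveI : CharP (Module.End k W) p :=
    charP_of_injective_algebraMap (algebraMap k (Module.End k W)).injective p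
  haveI : ExpChar (Module.End k W) p := ExpChar.prime hp.out
  have hNp : N ^ p = 0 := by
    rw [hN, sub_pow_expChar_of_commute (p := p) (Commute.one_right _), hT, smul_pow, hd, one_pow,
      smul_smul, inv_pow, he, inv_mul_cancel₀ hd0, one_smul, sub_self]
  have hNB : N * B = B * N := by
    rw [hN, hT, sub_mul, mul_sub, one_mul, mul_one, smul_mul_assoc, mul_smul_comm, hc]
  have hN2 : N * N = 0 := by
    refine LinearMap.ext fun w => ?_
    have hres : ∀ i, ∀ v ∈ LinearMap.range (P i), N v ∈ LinearMap.range (P i) := by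
      rintro i _ ⟨v, rfl⟩
      exact ⟨N v, (hcommP N hNB i v).symm⟩
    have h1 : ∀ i, ∀ v ∈ LinearMap.range (P i), N (N v) = 0 := by
      intro i v hv
      set f : Module.End k (LinearMap.range (P i)) := N.restrict (hres i)
      have hfp : ∀ (n : ℕ) (z : LinearMap.range (P i)), (((f ^ n) z : LinearMap.range (P i)) : W) =
          (N ^ n) (z : W) := by
        intro n
        induction n with
        | zero => intro z; rfl
        | succ n ih => intro z; rw [pow_succ', pow_succ', Module.End.mul_apply, Module.End.mul_apply, ← ih z]; rfl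
      have hk := Module.End.ker_pow_eq_ker_pow_finrank_of_le (f := f) (m := 2) (hle2 i)
      have hk' := Module.End.ker_pow_eq_ker_pow_finrank_of_le (f := f) (m := p)
        ((hle2 i).trans (by omega))
      have hmem : (⟨v, hv⟩ : LinearMap.range (P i)) ∈ LinearMap.ker (f ^ 2) := by
        rw [hk, ← hk', LinearMap.mem_ker]
        refine Subtype.ext ?_
        rw [hfp, hNp]
        rfl
      have h2 := congrArg Subtype.val (LinearMap.mem_ker.1 hmem)
      rw [hfp, pow_two] at h2
      exact h2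
    have h2 : (r : k) • N (N w) = 0 := by
      rw [← map_smul, ← map_smul, ← hsum w, map_sum, map_sum]
      exact Finset.sum_eq_zero fun i _ => h1 i _ ⟨w, rfl⟩
    rw [LinearMap.zero_apply, Module.End.mul_apply]
    exact (smul_eq_zero.1 h2).resolve_left hrk
  let f : Module.End k W → Module.End k W := fun A => (1 + N) * A * (1 - N)
  have hTN : (1 : Module.End k W) + N = T := by rw [hN]; abel
  have hTinv : T * (1 - N) = 1 := by
    rw [← hTN, add_mul, one_mul, mul_sub, mul_one, hN2, sub_zero, sub_add_cancel]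
  have hfρ : ∀ x, f (ρ x) = ρ (τ x) := fun x => by
    show (1 + N) * ρ x * (1 - N) = ρ (τ x)
    rw [hTN, show T * ρ x = ρ (τ x) * T by rw [hT, smul_mul_assoc, mul_smul_comm, hb''], mul_assoc,
      hTinv, mul_one]
  -- four cosets in one orbit
  haveI := scalarSub_normal ρ
  haveI := Fintype.ofFinite (ScalarQuot ρ)
  obtain ⟨x, -, hx⟩ := SetLike.exists_of_lt (lt_top_iff_ne_top.2 hne)
  have hfree : ∀ n : ℕ, 0 < n → n < p → x⁻¹ * τ^[n] x ∉ scalarSub ρ := by
    intro n hn0 hnp hmem
    obtain ⟨m, hm⟩ := Nat.exists_mul_mod_eq_one_of_coprime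
      ((Nat.coprime_of_lt_prime (by omega) hnp hp.out).symm) hp.out.one_lt
    have hiter : ∀ (n : ℕ) (z : E), τ^[n] z = (τ ^ n : MulAut E) z := by
      intro n
      induction n with
      | zero => intro z; rfl
      | succ n ih => intro z; rw [Function.iterate_succ_apply', ih, pow_succ']; rfl
    have hmul : ∀ l : ℕ, x⁻¹ * τ^[n * l] x ∈ scalarSub ρ := by
      intro l
      induction l with
      | zero => simp
      | succ l ih =>
        have h1 : τ^[n] (x⁻¹ * τ^[n * l] x) = x⁻¹ * τ^[n * l] x := by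
          have : ∀ j : ℕ, ∀ z ∈ scalarSub ρ, τ^[j] z = z := fun j z hz =>
            Function.iterate_fixed (hτs z hz) j
          exact this n _ ih
        rw [hiter n, map_mul, map_inv, ← hiter, ← hiter, ← Function.iterate_add_apply] at h1
        rw [Nat.mul_succ, add_comm,
          show x⁻¹ * τ^[n + n * l] x = (x⁻¹ * τ^[n] x) * ((τ^[n] x)⁻¹ * τ^[n + n * l] x) by group, h1]
        exact mul_mem hmem ih
    refine hx (hτf x ?_)
    have h2 := hmul m
    have hperiod : ∀ l : ℕ, τ^[p * l] x = x := by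
      intro l
      induction l with
      | zero => rfl
      | succ l ih => rw [Nat.mul_succ, Function.iterate_add_apply, hτp, ih]
    rwa [← Nat.mod_add_div (n * m) p, Function.iterate_add_apply, hperiod, hm.2,
      Function.iterate_one] at h2
  let cls : Fin 4 → ScalarQuot ρ := fun i => QuotientGroup.mk (τ^[(i : ℕ)] x)
  have hτiter_inv : ∀ (n : ℕ) (y z : E), τ^[n] (y⁻¹ * z) = (τ^[n] y)⁻¹ * τ^[n] z := by
    intro n
    induction n with
    | zero => intro y z; rfl
    | succ n ih =>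
      intro y z
      rw [Function.iterate_succ_apply, map_mul, map_inv, ih, ← Function.iterate_succ_apply,
        ← Function.iterate_succ_apply]
  have hcls : Function.Injective cls := by
    have key : ∀ i j : Fin 4, (i : ℕ) < j → cls i ≠ cls j := by
      intro i j hij he
      rw [QuotientGroup.eq] at he
      have h4 := j.2
      refine hfree ((j : ℕ) - i) (by omega) (by omega) ?_
      have e1 : τ^[(i : ℕ)] (x⁻¹ * τ^[(j : ℕ) - i] x) = (τ^[(i : ℕ)] x)⁻¹ * τ^[(j : ℕ)] x := by
        rw [hτiter_inv, ← Function.iterate_add_apply, Nat.add_sub_cancel' hij.le]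
      -- a scalar element is fixed, so it is the preimage
      have e2 : τ^[(i : ℕ)] ((τ^[(i : ℕ)] x)⁻¹ * τ^[(j : ℕ)] x) = (τ^[(i : ℕ)] x)⁻¹ * τ^[(j : ℕ)] x :=
        Function.iterate_fixed (hτs _ he) _
      rw [← (τ.injective.iterate (i : ℕ)) (e1.trans e2.symm)] at he
      exact he
    intro i j he
    rcases lt_trichotomy (i : ℕ) j with h | h | h
    · exact absurd he (key i j h)
    · exact Fin.ext h
    · exact absurd he.symm (key j i h)
  choose d' hd' hout using fun i : Fin 4 => PGroup.out_mk_eq ρ (τ^[(i : ℕ)] x)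
  choose s hs using hd'
  have hs0 : ∀ i, s i ≠ 0 := fun i h => rep_ne_zero ρ (d' i) (by rw [hs i, h, zero_smul])
  have hρi : ∀ i : Fin 4, ρ (τ^[(i : ℕ)] x) = (s i)⁻¹ • ρ (cls i).out := fun i => by
    rw [hout i, map_mul, hs i, mul_smul_comm, mul_one, inv_smul_smul₀ (hs0 i)]
  have h3 := third_difference N (ρ x) hN2 f fun A => rfl
  rw [hfρ, hfρ, hfρ] at h3
  have hz : ∀ (i : Fin 4), ρ (τ^[(i : ℕ)] x) = (s i)⁻¹ • ρ (cls i).out := hρi
  rw [show ρ (τ (τ (τ x))) = _ from hz 3, show ρ (τ (τ x)) = _ from hz 2, show ρ (τ x) = _ from hz 1,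
    show ρ x = _ from hz 0] at h3
  let w : Fin 4 → k := ![-1, 3, -3, 1]
  let a : ScalarQuot ρ → k := fun j => ∑ i : Fin 4, if cls i = j then w i * (s i)⁻¹ else 0
  have hm' : (Fintype.card (ScalarQuot ρ) : k) ≠ 0 := by rwa [← Nat.card_eq_fintype_card]
  have ha : ∑ j, a j • ρ j.out = 0 := by
    simp only [a, Finset.sum_smul, ite_smul, zero_smul]
    rw [Finset.sum_comm]
    simp only [Finset.sum_ite_eq, Finset.mem_univ, if_true, Fin.sum_univ_four]
    rw [← h3]
    simp [w, smul_smul]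
    abel
  have h0 := rep_indep ρ hirr hE hm' (fun j => j.out)
    (fun i j h => by simpa using h) a ha (cls 0)
  simp only [a, hcls.eq_iff, Finset.sum_ite_eq', Finset.mem_univ, if_true] at h0
  simp [w, hs0] at h0

/-- Version for an operator on the whole module. -/
theorem extraspecial_false [Nontrivial W] (hE : ClassTwo ρ) (hnd : Nondeg ρ)
    (hm : (Nat.card (ScalarQuot ρ) : k) ≠ 0) {r : ℕ} (hr : r.Prime) (hr2 : r ≠ 2)
    (hrk : (r : k) ≠ 0) {p : ℕ} [hp : Fact p.Prime] [CharP k p] (hp3 : 3 < p) (σ τ : E ≃* E)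
    (hσr : ∀ x, σ^[r] x = x) (hτp : ∀ x, τ^[p] x = x) (hcomm : ∀ x, σ (τ x) = τ (σ x))
    (hσs : ∀ x ∈ scalarSub ρ, σ x = x) (hτs : ∀ x ∈ scalarSub ρ, τ x = x)
    (hσf : ∀ x, x⁻¹ * σ x ∈ scalarSub ρ → x ∈ scalarSub ρ)
    (hτf : ∀ x, x⁻¹ * τ x ∈ scalarSub ρ → x ∈ scalarSub ρ) (hne : scalarSub ρ ≠ ⊤)
    (u : Module.End k W) (hu : ∀ x, u * ρ x = ρ (σ x) * u) (hur : u ^ r = 1)
    (hone : ∀ v w : W, u v = v → u w = w → v ≠ 0 → ∃ c : k, w = c • v) : False := by
  classical
  obtain ⟨U, hU0, hUinv, hUmin⟩ := exists_irred_sub ρ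
  haveI : Nontrivial U := Submodule.nontrivial_iff_ne_bot.2 hU0
  set ρU := restrictRep ρ U hUinv with hρU
  have hsub : scalarSub ρU = scalarSub ρ := scalarSub_restrictRep ρ hE hnd hUinv hU0
  have hirr : Irred ρU := by
    intro V hV
    rcases hUmin (V.map U.subtype) (Submodule.map_subtype_le _ _) (fun x w hw => by
      obtain ⟨v, hv, rfl⟩ := Submodule.mem_map.1 hw
      exact Submodule.mem_map.2 ⟨ρU x v, hV x v hv, rfl⟩) with h | h
    · left
      rwa [← Submodule.map_bot U.subtype,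
        (Submodule.map_injective_of_injective U.subtype_injective).eq_iff] at h
    · right
      rw [← Submodule.map_injective_of_injective U.subtype_injective |>.eq_iff, h,
        Submodule.map_subtype_top]
  have hEU : ClassTwo ρU := fun x y => hsub.symm ▸ hE x y
  have hσU : ∀ x (c : k), ρU x = c • 1 → ρU (σ x) = c • 1 := fun x c hc => by
    rw [hσs x (hsub ▸ ⟨c, hc⟩), hc]
  have hmU : (Nat.card (ScalarQuot ρU) : k) ≠ 0 := by
    unfold ScalarQuot at hm ⊢
    rw [hsub]; exact hm
  obtain ⟨b, hb⟩ := exists_intertwiner ρU hirr hEU hmU σ hσU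
  let Hm : Submodule k (U →ₗ[k] W) :=
    { carrier := {h | ∀ x v, h (ρU x v) = ρ x (h v)}
      add_mem' := fun {h h'} hh hh' x v => by
        rw [LinearMap.add_apply, LinearMap.add_apply, hh, hh', map_add]
      zero_mem' := fun x v => by simp
      smul_mem' := fun c h hh x v => by
        rw [LinearMap.smul_apply, LinearMap.smul_apply, hh, map_smul] }
  let L₀ : (U →ₗ[k] W) →ₗ[k] (U →ₗ[k] W) :=
    { toFun := fun h => u.comp (h.comp b.symm.toLinearMap)
      map_add' := fun h h' => by simp [LinearMap.add_comp, LinearMap.comp_add]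
      map_smul' := fun c h => by simp [LinearMap.smul_comp, LinearMap.comp_smul] }
  have hL : ∀ h ∈ Hm, L₀ h ∈ Hm := by
    intro h hh x v
    show u (h (b.symm (ρU x v))) = ρ x (u (h (b.symm v)))
    have e : b.symm (ρU x v) = ρU (σ.symm x) (b.symm v) := by
      apply b.injective
      rw [LinearEquiv.apply_symm_apply, hb, MulEquiv.apply_symm_apply, LinearEquiv.apply_symm_apply]
    rw [e, hh]
    have := LinearMap.congr_fun (hu (σ.symm x)) (h (b.symm v))
    simpa using this
  haveI : Nontrivial Hm := Submodule.nontrivial_iff_ne_bot.2 fun h => hU0 (by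
    have : U.subtype ∈ Hm := fun x v => rfl
    rw [h, Submodule.mem_bot] at this
    rw [← Submodule.range_subtype U, this, LinearMap.range_zero])
  obtain ⟨ζ, hζ⟩ := Module.End.exists_eigenvalue (L₀.restrict hL : Module.End k Hm)
  obtain ⟨h, hh⟩ := hζ.exists_hasEigenvector
  have hhe : ∀ v, u ((h : U →ₗ[k] W) (b.symm v)) = ζ • (h : U →ₗ[k] W) v := fun v =>
    LinearMap.congr_fun (congrArg Subtype.val (Module.End.mem_eigenspace_iff.1 hh.1)) v
  have hinj : Function.Injective (h : U →ₗ[k] W) := by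
    rw [← LinearMap.ker_eq_bot]
    refine (hirr _ fun x v hv => ?_).resolve_right fun e =>
      hh.2 (Subtype.ext (LinearMap.ker_eq_top.1 e))
    rw [LinearMap.mem_ker] at hv ⊢
    rw [h.2 x v, hv, map_zero]
  let B : Module.End k U := ζ • b.toLinearMap
  have hB : ∀ v, (h : U →ₗ[k] W) (B v) = u ((h : U →ₗ[k] W) v) := fun v => by
    have := hhe (b v)
    rw [LinearEquiv.symm_apply_apply] at this
    rw [this, ← map_smul]
    rfl
  have hBn : ∀ (n : ℕ) v, (h : U →ₗ[k] W) ((B ^ n) v) = (u ^ n) ((h : U →ₗ[k] W) v) := by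
    intro n
    induction n with
    | zero => intro v; rfl
    | succ n ih => intro v; rw [pow_succ', Module.End.mul_apply, hB, ih, pow_succ', Module.End.mul_apply]
  have hBr : B ^ r = 1 := LinearMap.ext fun v => hinj (by rw [hBn, hur]; rfl)
  have hBσ : ∀ x, B * ρU x = ρU (σ x) * B := fun x => LinearMap.ext fun v => by
    show ζ • b (ρU x v) = ρU (σ x) (ζ • b v)
    rw [map_smul, hb]
  refine extraspecial_irred_false hirr hEU hmU hr hr2 hrk hp3 σ τ hσr hτp hcomm
    (fun x hx => hσs x (hsub ▸ hx)) (fun x hx => hτs x (hsub ▸ hx))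
    (fun x hx => hsub.symm ▸ hσf x (hsub ▸ hx)) (fun x hx => hsub.symm ▸ hτf x (hsub ▸ hx))
    (hsub.symm ▸ hne) B hBσ hBr ?_
  have hfixU : ∀ v : U, v ∈ LinearMap.ker (B - 1) → u ((h : U →ₗ[k] W) v) = (h : U →ₗ[k] W) v :=
    fun v hv => by
      rw [LinearMap.mem_ker, LinearMap.sub_apply, Module.End.one_apply, sub_eq_zero] at hv
      rw [← hB, hv]
  by_cases h0 : LinearMap.ker (B - 1) = ⊥
  · rw [h0, finrank_bot]; exact Nat.zero_le 1
  obtain ⟨v₀, hv₀, hv₀0⟩ := Submodule.exists_mem_ne_zero_of_ne_bot h0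
  refine finrank_le_one ⟨v₀, hv₀⟩ fun w => ?_
  obtain ⟨c, hc⟩ := hone _ _ (hfixU v₀ hv₀) (hfixU w w.2)
    (fun e => hv₀0 (hinj (e.trans (map_zero _).symm)))
  exact ⟨c, Subtype.ext (hinj (by rw [hc, ← map_smul]; rfl))⟩

end CfsgLib.CFun.OpW
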