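import Cfsg.Agent.Lib.PGroup.HallHighmanFrob
import Cfsg.Agent.Lib.PGroup.PqCore
import Cfsg.Agent.Lib.Coprime.PGroupFrattini
import Cfsg.Agent.Lib.CFun.OddOperatorExtraspecial

/-!
# No operator of prime order in the minimal configuration of `p`-length two
-/

set_option autoImplicit false
set_option linter.style.haveILetI false
set_option linter.unusedSectionVars false

open Subgroup
open scoped commutatorElement
open CfsgLib.Coprime (conjBy conj_mem_of_le_normalizer)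
open CfsgLib.PGroup (dRep dRep_apply IsEigen ImgComm eigProj isEigen_eigProj eq_zero_of_forall_eigen
  finite_hom_units scalarSub ScalarQuot ClassTwo Nondeg hh_classTwo exists_eigen subRep subRep_apply)

namespace CfsgLib.CFun.ZLen

universe u v

section Dual

variable {N : Type u} [Group N] {V : Type u} [CommGroup V] [Finite V] {l : ℕ} [Fact l.Prime]
  {k : Type v} [Field k] [Algebra (ZMod l) k] {c : N →* MulAut V}

/-- The contragredient representation detects the action. -/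
theorem eq_of_dRep_eq (hV : ∀ v : V, v ^ l = 1) {m n : N} (h : dRep k c m = dRep k c n) (v : V) :
    c m⁻¹ v = c n⁻¹ v := by
  by_contra hne
  obtain ⟨f, hf⟩ := CfsgLib.PGroup.exists_addHom_ne_zero hV k
    (show c m⁻¹ v * (c n⁻¹ v)⁻¹ ≠ 1 from fun e => hne (mul_inv_eq_one.1 e))
  refine hf ?_
  rw [ofMul_mul, map_add, ofMul_inv, map_neg, ← dRep_apply, ← dRep_apply, h, add_neg_cancel]

variable {r : ℕ} {a : N}

/-- A fixed function takes the value of the averaged vector. -/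
theorem dRep_fixed_avg (har : a ^ r = 1) {f : Additive V →+ k} (hf : dRep k c a f = f) (v : V) :
    f (Additive.ofMul (∏ i ∈ Finset.range r, c (a ^ i) v)) = r • f (Additive.ofMul v) ∧
      c a (∏ i ∈ Finset.range r, c (a ^ i) v) = ∏ i ∈ Finset.range r, c (a ^ i) v := by
  have h1 : ∀ i : ℕ, f (Additive.ofMul (c (a ^ i) v)) = f (Additive.ofMul v) := by
    intro i
    induction i with
    | zero => rw [pow_zero, map_one]; rfl
    | succ i ih =>
      rw [← ih]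
      conv_lhs => rw [← hf, dRep_apply]
      rw [pow_succ', map_mul, MulAut.mul_apply, map_inv, MulAut.inv_apply_self]
  refine ⟨?_, ?_⟩
  · rw [ofMul_prod, map_sum, Finset.sum_congr rfl fun i _ => h1 i, Finset.sum_const, Finset.card_range]
  · have e2 := Finset.prod_range_succ' (fun i => c (a ^ i) v) r
    rw [Finset.prod_range_succ, har, pow_zero, mul_left_inj] at e2
    rw [map_prod]
    conv_rhs => rw [e2]
    exact Finset.prod_congr rfl fun i _ => by rw [← MulAut.mul_apply, ← map_mul, ← pow_succ']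

theorem eq_zero_of_fixed (hr : (r : k) ≠ 0) (har : a ^ r = 1)
    (hno : ∀ v : V, c a v = v → v = 1) {f : Additive V →+ k} (hf : dRep k c a f = f) : f = 0 := by
  refine AddMonoidHom.ext fun v => ?_
  obtain ⟨h1, h2⟩ := dRep_fixed_avg har hf v.toMul
  rw [hno _ h2, ofMul_one, map_zero, nsmul_eq_mul] at h1
  exact (mul_eq_zero.1 h1.symm).resolve_left hr

theorem oneFixed_dRep (hr : (r : k) ≠ 0) (har : a ^ r = 1) (v₀ : V)
    (hfix : ∀ v : V, c a v = v → ∃ j : ℕ, v = v₀ ^ j) : OpW.OneFixed (dRep k c) a := by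
  intro f f' hf hf' hne
  have hdet : ∀ g : Additive V →+ k, dRep k c a g = g → g (Additive.ofMul v₀) = 0 → g = 0 := by
    intro g hg hg0
    refine AddMonoidHom.ext fun v => ?_
    obtain ⟨h1, h2⟩ := dRep_fixed_avg har hg v.toMul
    obtain ⟨j, hj⟩ := hfix _ h2
    rw [hj, ofMul_pow, map_nsmul, hg0, smul_zero, nsmul_eq_mul] at h1
    exact (mul_eq_zero.1 h1.symm).resolve_left hr
  have h0 : f (Additive.ofMul v₀) ≠ 0 := fun e => hne (hdet f hf e)
  refine ⟨f' (Additive.ofMul v₀) / f (Additive.ofMul v₀), sub_eq_zero.1 (hdet _ ?_ ?_)⟩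
  · rw [map_sub, map_smul, hf, hf']
  · simp [h0]

/-- A common scalar comes from the prime field. -/
theorem scalar_mem_primeField (hV : ∀ v : V, v ^ l = 1) [Nontrivial V] {n : N} {s : k}
    (h : ∀ f : Additive V →+ k, dRep k c n f = s • f) : ∃ t : ZMod l, s = algebraMap (ZMod l) k t := by
  obtain ⟨v, hv⟩ := exists_ne (1 : V)
  haveI hM : Module (ZMod l) (Additive V) := AddCommGroup.zmodModule fun x : Additive V => by
    show Additive.ofMul (x.toMul ^ l) = 0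
    rw [hV]; rfl
  obtain ⟨g, hg⟩ := Module.Projective.exists_dual_ne_zero (ZMod l)
    (show Additive.ofMul v ≠ 0 from fun e => hv (by simpa using e))
  have h1 := DFunLike.congr_fun (h ((algebraMap (ZMod l) k).toAddMonoidHom.comp g.toAddMonoidHom))
    (Additive.ofMul v)
  refine ⟨g (Additive.ofMul (c n⁻¹ v)) / g (Additive.ofMul v), ?_⟩
  have hne : algebraMap (ZMod l) k (g (Additive.ofMul v)) ≠ 0 :=
    fun e => hg ((algebraMap (ZMod l) k).injective (e.trans (map_zero _).symm))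
  rw [map_div₀, eq_div_iff hne]
  exact h1.symm

end Dual

variable {Γ : Type u} [Group Γ] [Finite Γ]

/-- The elements of `Q` centralized by `T` modulo the central subgroup `Z`. -/
def fixedMod (Q Z T : Subgroup Γ) (hQ : T ≤ normalizer (Q : Set Γ))
    (hZ : ∀ z ∈ Z, ∀ y ∈ Q, z * y = y * z) : Subgroup Γ where
  carrier := {y | y ∈ Q ∧ ∀ t ∈ T, t * y * t⁻¹ * y⁻¹ ∈ Z}
  one_mem' := ⟨one_mem Q, fun t _ => by simp [one_mem]⟩
  mul_mem' := fun {y y'} ⟨hy, hy'⟩ ⟨hz, hz'⟩ => ⟨mul_mem hy hz, fun t ht => by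
    have e : t * (y * y') * t⁻¹ * (y * y')⁻¹ =
        (t * y * t⁻¹ * y⁻¹) * (y * (t * y' * t⁻¹ * y'⁻¹) * y⁻¹) := by group
    rw [e, ← hZ _ (hz' t ht) y hy, mul_inv_cancel_right]
    exact mul_mem (hy' t ht) (hz' t ht)⟩
  inv_mem' := fun {y} ⟨hy, hy'⟩ => ⟨inv_mem hy, fun t ht => by
    have e : t * y⁻¹ * t⁻¹ * y⁻¹⁻¹ = y⁻¹ * (t * y * t⁻¹ * y⁻¹)⁻¹ * y := by group
    rw [e, ← hZ _ (inv_mem (hy' t ht)) y⁻¹ (inv_mem hy), inv_mul_cancel_right]
    exact inv_mem (hy' t ht)⟩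

theorem le_normalizer_fixedMod {Q Z T : Subgroup Γ} (hQ : T ≤ normalizer (Q : Set Γ))
    (hZ : ∀ z ∈ Z, ∀ y ∈ Q, z * y = y * z) {S : Subgroup Γ} (hSQ : S ≤ normalizer (Q : Set Γ))
    (hSZ : S ≤ normalizer (Z : Set Γ)) (hST : S ≤ normalizer (T : Set Γ)) :
    S ≤ normalizer (fixedMod Q Z T hQ hZ : Set Γ) := by
  have key : ∀ s ∈ S, ∀ y ∈ fixedMod Q Z T hQ hZ, s * y * s⁻¹ ∈ fixedMod Q Z T hQ hZ := by
    rintro s hs y ⟨hy, hy'⟩
    refine ⟨conj_mem_of_le_normalizer hSQ hs hy, fun t ht => ?_⟩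
    have e : t * (s * y * s⁻¹) * t⁻¹ * (s * y * s⁻¹)⁻¹ =
        s * ((s⁻¹ * t * s⁻¹⁻¹) * y * (s⁻¹ * t * s⁻¹⁻¹)⁻¹ * y⁻¹) * s⁻¹ := by group
    rw [e]
    exact conj_mem_of_le_normalizer hSZ hs
      (hy' _ (conj_mem_of_le_normalizer hST (inv_mem hs) ht))
  intro s hs
  refine mem_normalizer_iff.2 fun y => ⟨key s hs y, fun h => ?_⟩
  have := key s⁻¹ (inv_mem hs) _ h
  simpa [mul_assoc] using this

/-- The minimal configuration. -/
structure Config (r p q : ℕ) (a : Γ) (V Q P R : Subgroup Γ) : Prop where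
  rP : r.Prime
  pP : p.Prime
  qP : q.Prime
  r_ne_two : r ≠ 2
  p_ne_two : p ≠ 2
  q_ne_two : q ≠ 2
  r_ne_p : r ≠ p
  r_ne_q : r ≠ q
  q_ne_p : q ≠ p
  ord : a ^ r = 1
  mem : a ∈ R
  comm : IsMulCommutative V
  expV : ∀ v ∈ V, v ^ p = 1
  V_ne : V ≠ ⊥
  pQ : IsPGroup q Q
  pP' : IsPGroup p P
  P_ne : P ≠ ⊥
  PQ : P ≤ normalizer (Q : Set Γ)
  RQ : R ≤ normalizer (Q : Set Γ)
  RP : R ≤ normalizer (P : Set Γ)
  QV : Q ≤ normalizer (V : Set Γ)
  PV : P ≤ normalizer (V : Set Γ)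
  RV : R ≤ normalizer (V : Set Γ)
  irred : ∀ W : Subgroup Γ, W ≤ V → Q ≤ normalizer (W : Set Γ) → P ≤ normalizer (W : Set Γ) →
    R ≤ normalizer (W : Set Γ) → W = ⊥ ∨ W = V
  faithV : ∀ y ∈ Q, y ∈ centralizer (V : Set Γ) → y = 1
  faithQ : ∀ g ∈ P, g ∈ centralizer (Q : Set Γ) → g = 1
  red : ∀ Y : Subgroup Γ, Y ≤ Q → P ≤ normalizer (Y : Set Γ) → R ≤ normalizer (Y : Set Γ) →
    Y ≠ Q → P ≤ centralizer (Y : Set Γ)
  QP : ⁅Q, P⁆ = Q
  PR : P ≤ ⁅P, R⁆
  derP : ∀ x ∈ P, ∀ y ∈ P, ⁅x, y⁆ ∈ centralizer ((P : Set Γ) ∪ {a})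
  fixV : IsCyclic ↥(V ⊓ centralizer ({a} : Set Γ))
  fixQ : IsCyclic ↥(Q ⊓ centralizer ({a} : Set Γ))
  fixP : IsCyclic ↥(P ⊓ centralizer ({a} : Set Γ))

variable {r p q : ℕ} {a : Γ} {V Q P R : Subgroup Γ}

/-- The Frattini subgroup in the ambient group. -/
def phi (Q : Subgroup Γ) : Subgroup Γ := (frattini Q).map Q.subtype

theorem phi_le (Q : Subgroup Γ) : phi Q ≤ Q := map_subtype_le _

theorem normalizer_le_normalizer_phi (Q : Subgroup Γ) :
    normalizer (Q : Set Γ) ≤ normalizer (phi Q : Set Γ) := by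
  have key : ∀ g ∈ normalizer (Q : Set Γ), ∀ x ∈ phi Q, g * x * g⁻¹ ∈ phi Q := by
    rintro g hg _ ⟨y, hy, rfl⟩
    refine ⟨normalizerMonoidHom Q ⟨g, hg⟩ y, ?_, rfl⟩
    exact characteristic_iff_le_comap.1 inferInstance (normalizerMonoidHom Q ⟨g, hg⟩) hy
  refine fun g hg => mem_normalizer_iff.2 fun x => ⟨key g hg x, fun h => ?_⟩
  have := key g⁻¹ (inv_mem hg) _ h
  simpa [mul_assoc] using this

namespace Config

variable (h : Config r p q a V Q P R)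
include h

theorem aQ : a ∈ normalizer (Q : Set Γ) := h.RQ h.mem
theorem aP : a ∈ normalizer (P : Set Γ) := h.RP h.mem
theorem aV : a ∈ normalizer (V : Set Γ) := h.RV h.mem

theorem cop_pQ : (Nat.card P).Coprime (Nat.card Q) := by
  obtain ⟨i, hi⟩ := (haveI : Fact p.Prime := ⟨h.pP⟩; IsPGroup.iff_card.1 h.pP')
  obtain ⟨j, hj⟩ := (haveI : Fact q.Prime := ⟨h.qP⟩; IsPGroup.iff_card.1 h.pQ)
  rw [hi, hj]
  exact (((Nat.coprime_primes h.pP h.qP).2 h.q_ne_p.symm).pow_left i).pow_right j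

theorem card_zpowers_a : Nat.card (zpowers a) ∣ r := by
  rw [Nat.card_zpowers]; exact orderOf_dvd_of_pow_eq_one h.ord

theorem cop_aQ {Y : Subgroup Γ} (hY : Y ≤ Q) :
    (Nat.card (zpowers a)).Coprime (Nat.card Y) := by
  obtain ⟨j, hj⟩ := (haveI : Fact q.Prime := ⟨h.qP⟩; IsPGroup.iff_card.1 (h.pQ.to_le hY))
  rw [hj]
  exact (((Nat.coprime_primes h.rP h.qP).2 h.r_ne_q).coprime_dvd_left h.card_zpowers_a).pow_right j

theorem not_a_centralizes_Q : a ∉ centralizer (Q : Set Γ) := by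
  intro ha
  have hle : Q ≤ centralizer ({a} : Set Γ) := fun y hy =>
    mem_centralizer_singleton_iff.2 (mem_centralizer_iff.1 ha y hy)
  haveI := h.fixQ
  haveI : IsCyclic Q := isCyclic_of_injective (inclusion (le_inf le_rfl hle)) (inclusion_injective _)
  have hcomm : ∀ s t : normalizer (Q : Set Γ), ∀ y ∈ Q,
      (s : Γ) * ((t : Γ) * y * (t : Γ)⁻¹) * (s : Γ)⁻¹ = t * ((s : Γ) * y * (s : Γ)⁻¹) * (t : Γ)⁻¹ := by
    intro s t y hy
    obtain ⟨i, hi⟩ := MonoidHom.map_cyclic (normalizerMonoidHom Q s).toMonoidHom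
    obtain ⟨j, hj⟩ := MonoidHom.map_cyclic (normalizerMonoidHom Q t).toMonoidHom
    have e1 : ∀ z : Q, normalizerMonoidHom Q s z = z ^ i := hi
    have e2 : ∀ z : Q, normalizerMonoidHom Q t z = z ^ j := hj
    have e : normalizerMonoidHom Q s (normalizerMonoidHom Q t ⟨y, hy⟩) =
        normalizerMonoidHom Q t (normalizerMonoidHom Q s ⟨y, hy⟩) := by
      rw [e2, map_zpow, e1, e2, ← zpow_mul]
    exact congrArg Subtype.val e
  refine h.P_ne ((Subgroup.eq_bot_iff_forall _).2 fun g hg => h.faithQ g hg ?_)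
  refine (show ⁅P, R⁆ ≤ centralizer (Q : Set Γ) from ?_) (h.PR hg)
  rw [commutator_le]
  intro g hg t ht
  refine mem_centralizer_iff.2 fun y hy => ?_
  have e := hcomm ⟨g⁻¹, h.PQ (inv_mem hg)⟩ ⟨t⁻¹, h.RQ (inv_mem ht)⟩ y hy
  simp only [inv_inv] at e
  rw [commutatorElement_def]
  symm
  calc g * t * g⁻¹ * t⁻¹ * y = g * t * (g⁻¹ * (t⁻¹ * y * t) * g) * (g⁻¹ * t⁻¹) := by group
    _ = g * t * (t⁻¹ * (g⁻¹ * y * g) * t) * (g⁻¹ * t⁻¹) := by rw [e]
    _ = y * (g * t * g⁻¹ * t⁻¹) := by group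

theorem phi_lt : phi Q ≠ Q := by
  intro e
  refine h.P_ne ((Subgroup.eq_bot_iff_forall _).2 fun g hg => h.faithQ g hg ?_)
  have hQ : frattini Q = ⊤ := map_injective Q.subtype_injective (by
    show phi Q = _
    rw [e, ← MonoidHom.range_eq_map, Q.range_subtype])
  refine mem_centralizer_iff.2 fun y hy => ?_
  have hbot : (⊥ : Subgroup Q) = ⊤ := frattini_nongenerating (by rw [bot_sup_eq, hQ])
  have := mem_bot.1 (hbot.symm ▸ mem_top (⟨y, hy⟩ : Q) : (⟨y, hy⟩ : Q) ∈ (⊥ : Subgroup Q))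
  rw [show y = 1 from congrArg Subtype.val this, one_mul, mul_one]

theorem P_phi : P ≤ centralizer (phi Q : Set Γ) :=
  h.red _ (phi_le Q) (h.PQ.trans (normalizer_le_normalizer_phi Q))
    (h.RQ.trans (normalizer_le_normalizer_phi Q)) h.phi_lt

theorem comm_mem_phi {x y : Γ} (hx : x ∈ Q) (hy : y ∈ Q) : ⁅x, y⁆ ∈ phi Q :=
  ⟨⁅(⟨x, hx⟩ : Q), ⟨y, hy⟩⁆, haveI : Fact q.Prime := ⟨h.qP⟩
    CfsgLib.Coprime.commutator_le_frattini h.pQ (commutator_mem_commutator (mem_top _) (mem_top _)), rfl⟩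

/-- The Frattini subgroup is central. -/
theorem phi_central {z y : Γ} (hz : z ∈ phi Q) (hy : y ∈ Q) : z * y = y * z := by
  have h1 : ⁅⁅phi Q, Q⁆, P⁆ = ⊥ := by
    rw [commutator_eq_bot_iff_le_centralizer]
    refine le_trans ?_ (le_centralizer_iff.1 h.P_phi)
    rw [commutator_le]
    exact fun x hx y hy => h.comm_mem_phi (phi_le Q hx) hy
  have h2 : ⁅⁅P, phi Q⁆, Q⁆ = ⊥ := by
    rw [show ⁅P, phi Q⁆ = ⊥ from commutator_eq_bot_iff_le_centralizer.2 h.P_phi, commutator_bot_left]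
  have h3 : ⁅⁅Q, P⁆, phi Q⁆ = ⊥ :=
    commutator_commutator_eq_bot_of_rotate h2 h1
  rw [h.QP, commutator_eq_bot_iff_le_centralizer] at h3
  exact mem_centralizer_iff.1 (h3 hy) z hz

/-- An element of `Q` centralized by `P` modulo the Frattini subgroup lies in it. -/
theorem fixedMod_le_phi {y : Γ} (hy : y ∈ Q) (hfix : ∀ t ∈ P, t * y * t⁻¹ * y⁻¹ ∈ phi Q) :
    y ∈ phi Q := by
  classical
  haveI : Fact q.Prime := ⟨h.qP⟩
  haveI : Fintype P := Fintype.ofFinite P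
  letI : CommGroup (Q ⧸ frattini Q) :=
    { QuotientGroup.Quotient.group (frattini Q) with
      mul_comm := fun u v => by
        obtain ⟨u, rfl⟩ := QuotientGroup.mk_surjective u
        obtain ⟨v, rfl⟩ := QuotientGroup.mk_surjective v
        refine (QuotientGroup.eq (s := frattini Q)).2 ?_
        rw [show (u * v)⁻¹ * (v * u) = ⁅v⁻¹, u⁻¹⁆ by rw [commutatorElement_def]; group]
        exact CfsgLib.Coprime.commutator_le_frattini h.pQ (commutator_mem_commutator (mem_top _) (mem_top _)) }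
  let π : Q →* Q ⧸ frattini Q := QuotientGroup.mk' _
  let cj : P → Q →* Q := fun t => (normalizerMonoidHom Q ⟨t, h.PQ t.2⟩).toMonoidHom
  let ν : Q →* Q ⧸ frattini Q := ∏ t : P, π.comp (cj t)
  have hν : ∀ x, ν x = ∏ t : P, π (cj t x) := fun x => by simp [ν, MonoidHom.finset_prod_apply]
  have hνinv : ∀ (s : P) x, ν (cj s x) = ν x := by
    intro s x
    rw [hν, hν]
    refine Fintype.prod_equiv (Equiv.mulRight s) _ _ fun t => congrArg π (Subtype.ext ?_)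
    show (t : Γ) * ((s : Γ) * x * (s : Γ)⁻¹) * (t : Γ)⁻¹ = ((t : Γ) * s) * x * ((t : Γ) * s)⁻¹
    group
  have hker : ⁅Q, P⁆ ≤ ν.ker.map Q.subtype := by
    rw [commutator_le]
    intro x hx s hs
    have hmem : ⁅x, s⁆ ∈ Q := by
      rw [commutatorElement_def, show x * s * x⁻¹ * s⁻¹ = x * (s * x⁻¹ * s⁻¹) by group]
      exact mul_mem hx (conj_mem_of_le_normalizer h.PQ hs (inv_mem hx))
    refine ⟨⟨_, hmem⟩, ?_, rfl⟩
    rw [SetLike.mem_coe, MonoidHom.mem_ker, show (⟨⁅x, s⁆, hmem⟩ : Q) = ⟨x, hx⟩ * cj ⟨s, hs⟩ ⟨x⁻¹, inv_mem hx⟩ from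
      Subtype.ext (show x * s * x⁻¹ * s⁻¹ = x * (s * x⁻¹ * s⁻¹) by group), map_mul, hνinv,
      ← map_mul, show (⟨x, hx⟩ : Q) * ⟨x⁻¹, inv_mem hx⟩ = 1 from Subtype.ext (mul_inv_cancel x), map_one]
  rw [h.QP] at hker
  obtain ⟨y', hy', e⟩ := hker hy
  obtain rfl : y' = ⟨y, hy⟩ := Subtype.ext e
  have h1 : ν ⟨y, hy⟩ = π ⟨y, hy⟩ ^ Fintype.card P := by
    rw [hν, Finset.prod_congr rfl (g := fun _ => π ⟨y, hy⟩), Finset.prod_const, Finset.card_univ]
    intro t _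
    obtain ⟨z, hz, ez⟩ := hfix t t.2
    refine ((QuotientGroup.eq (s := frattini Q)).2 ?_).symm
    have : (⟨y, hy⟩ : Q)⁻¹ * cj t ⟨y, hy⟩ = (⟨y, hy⟩ : Q)⁻¹ * z * ⟨y, hy⟩ := by
      refine Subtype.ext ?_
      show y⁻¹ * ((t : Γ) * y * (t : Γ)⁻¹) = y⁻¹ * (z : Γ) * y
      rw [show ((z : Q) : Γ) = (t : Γ) * y * (t : Γ)⁻¹ * y⁻¹ from ez]
      group
    rw [this]
    simpa using (inferInstance : (frattini Q).Normal).conj_mem z hz (⟨y, hy⟩ : Q)⁻¹
  rw [SetLike.mem_coe, MonoidHom.mem_ker] at hy'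
  rw [hy'] at h1
  refine ⟨⟨y, hy⟩, (QuotientGroup.eq_one_iff _).1 ?_, rfl⟩
  show π ⟨y, hy⟩ = 1
  refine orderOf_eq_one_iff.1 (Nat.eq_one_of_dvd_coprimes h.cop_pQ ?_ ?_)
  · rw [Nat.card_eq_fintype_card]; exact orderOf_dvd_of_pow_eq_one h1.symm
  · exact (_root_.orderOf_dvd_natCard _).trans (card_quotient_dvd_card _)

/-- The operator acts fixed-point-freely below, if the derived group is nontrivial. -/
theorem fixed_le_phi (hder : ∃ x ∈ Q, ∃ y ∈ Q, ⁅x, y⁆ ≠ 1)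
    (haΦ : ∀ z ∈ phi Q, a * z = z * a) {y : Γ} (hy : y ∈ Q)
    (hfix : a * y * a⁻¹ * y⁻¹ ∈ phi Q) : y ∈ phi Q := by
  have haN : zpowers a ≤ normalizer (phi Q : Set Γ) :=
    zpowers_le.2 (normalizer_le_normalizer_phi Q h.aQ)
  have hfix' : ∀ b ∈ zpowers a, b * y * b⁻¹ * y⁻¹ ∈ phi Q := by
    intro b hb
    obtain ⟨n, rfl⟩ := (Submonoid.mem_powers_iff _ _).1
      ((isOfFinOrder_of_finite a).mem_powers_iff_mem_zpowers.2 hb)
    clear hb
    induction n with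
    | zero => simp [one_mem]
    | succ n ih =>
      rw [show a ^ (n + 1) * y * (a ^ (n + 1))⁻¹ * y⁻¹ =
        a ^ n * (a * y * a⁻¹ * y⁻¹) * (a ^ n)⁻¹ * (a ^ n * y * (a ^ n)⁻¹ * y⁻¹) by rw [pow_succ]; group]
      exact mul_mem (conj_mem_of_le_normalizer haN (pow_mem (mem_zpowers a) n) hfix) ih
  obtain ⟨n, hn, hyn⟩ := CfsgLib.Coprime.exists_fixed_in_coset haN (h.cop_aQ (phi_le Q))
    (Or.inl (CfsgLib.Coprime.isSolvable_of_isMulCommutative inferInstance))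
    (normalizer_le_normalizer_phi Q (le_normalizer hy)) hfix'
  suffices hw : y * n ∈ phi Q by simpa using mul_mem hw (inv_mem hn)
  set w := y * n with hw
  have hwQ : w ∈ Q := mul_mem hy (phi_le Q hn)
  have hwa : a * w = w * a := mem_centralizer_iff.1 hyn a (mem_zpowers a)
  -- it is central in `Q`
  have hQa : Q ≤ normalizer (Q : Set Γ) := le_normalizer
  have hwc : ∀ t ∈ Q, w * t = t * w := by
    have hAQ : zpowers a ≤ normalizer (Q : Set Γ) := zpowers_le.2 h.aQ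
    have hsup := CfsgLib.Coprime.commutator_sup_centralizer hAQ (h.cop_aQ le_rfl)
      (Or.inl (CfsgLib.Coprime.isSolvable_of_isMulCommutative inferInstance))
    suffices hle : Q ≤ centralizer ({w} : Set Γ) by
      intro t ht; exact (mem_centralizer_singleton_iff.1 (hle ht)).symm
    rw [← hsup, sup_le_iff]
    refine ⟨?_, fun t ht => mem_centralizer_singleton_iff.2 ?_⟩
    · rw [commutator_le]
      intro t ht b hb
      refine mem_centralizer_singleton_iff.2 ?_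
      have htb : b * t⁻¹ * b⁻¹ ∈ Q := conj_mem_of_le_normalizer hAQ hb (inv_mem ht)
      have hwb : b * w = w * b := mem_centralizer_iff.1 hyn b hb
      obtain ⟨z, hzdef⟩ : ∃ z, z = ⁅w, t⁻¹⁆ := ⟨_, rfl⟩
      have hzΦ : z ∈ phi Q := hzdef ▸ h.comm_mem_phi hwQ (inv_mem ht)
      have hzb : b * z = z * b := by
        have h2 : a ∈ centralizer ({z} : Set Γ) := mem_centralizer_singleton_iff.2 (haΦ z hzΦ)
        exact mem_centralizer_singleton_iff.1 (zpowers_le.2 h2 hb)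
      have e0 : w * t⁻¹ = z * (t⁻¹ * w) := by rw [hzdef, commutatorElement_def]; group
      have h3 : w * (b * t⁻¹ * b⁻¹) = z * ((b * t⁻¹ * b⁻¹) * w) := by
        calc w * (b * t⁻¹ * b⁻¹) = b * (w * t⁻¹) * b⁻¹ := by
              rw [← mul_assoc, ← mul_assoc, ← hwb]; group
          _ = b * z * (t⁻¹ * (w * b⁻¹)) := by rw [e0]; group
          _ = z * ((b * t⁻¹ * b⁻¹) * w) := by
              rw [hzb, (Commute.inv_right (show Commute w b from hwb.symm)).eq]; group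
      have h4 : w * t = z⁻¹ * (t * w) := by
        have hzt : z * t = t * z := h.phi_central hzΦ ht
        calc w * t = t * (t⁻¹ * w) * t := by group
          _ = t * (z⁻¹ * (w * t⁻¹)) * t := by rw [e0, inv_mul_cancel_left]
          _ = z⁻¹ * (t * w) := by
            rw [← mul_assoc t, ← (Commute.inv_left (show Commute z t from hzt)).eq]; group
      rw [commutatorElement_def]
      calc t * b * t⁻¹ * b⁻¹ * w = t * ((b * t⁻¹ * b⁻¹) * w) := by group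
        _ = t * (z⁻¹ * (w * (b * t⁻¹ * b⁻¹))) := by rw [h3, inv_mul_cancel_left]
        _ = z⁻¹ * (t * w) * (b * t⁻¹ * b⁻¹) := by
          rw [← mul_assoc t, ← (Commute.inv_left (show Commute z t from h.phi_central hzΦ ht)).eq]; group
        _ = w * (t * b * t⁻¹ * b⁻¹) := by rw [← h4]; group
    · haveI := h.fixQ
      have hmem : ∀ {u}, u ∈ Q → a * u = u * a → u ∈ Q ⊓ centralizer ({a} : Set Γ) := fun hu e =>
        mem_inf.2 ⟨hu, mem_centralizer_singleton_iff.2 e.symm⟩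
      exact congrArg Subtype.val ((IsCyclic.commGroup (α := ↥(Q ⊓ centralizer ({a} : Set Γ)))).mul_comm
        ⟨t, hmem ht.1 (mem_centralizer_iff.1 ht.2 a (mem_zpowers a))⟩ ⟨w, hmem hwQ hwa⟩)
  -- the centre lies in the Frattini subgroup
  set Z := Q ⊓ centralizer (Q : Set Γ) with hZdef
  have hwZ : w ∈ Z := mem_inf.2 ⟨hwQ, mem_centralizer_iff.2 fun t ht => (hwc t ht).symm⟩
  have hNZ : normalizer (Q : Set Γ) ≤ normalizer (Z : Set Γ) :=
    CfsgLib.Coprime.inf_le_normalizer le_rfl (CfsgLib.Coprime.normalizer_le_normalizer_centralizer Q)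
  have hZP : P ≤ centralizer (Z : Set Γ) := by
    refine h.red Z inf_le_left (h.PQ.trans hNZ) (h.RQ.trans hNZ) fun e => ?_
    obtain ⟨x, hx, y, hy, hne⟩ := hder
    refine hne (commutatorElement_eq_one_iff_mul_comm.2 ?_)
    exact (mem_centralizer_iff.1 (e.ge hx).2 y hy).symm
  refine h.fixedMod_le_phi hwQ fun t ht => ?_
  rw [show t * w = w * t from (mem_centralizer_iff.1 (hZP ht) w hwZ).symm, mul_inv_cancel_right,
    mul_inv_cancel]
  exact one_mem _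

/-- Elements fixed modulo the Frattini subgroup by a generator are fixed by the powers. -/
theorem fix_zpowers {y : Γ} {b : Γ} (hbQ : b ∈ normalizer (Q : Set Γ))
    (hfix : b * y * b⁻¹ * y⁻¹ ∈ phi Q) {b' : Γ} (hb' : b' ∈ zpowers b) :
    b' * y * b'⁻¹ * y⁻¹ ∈ phi Q := by
  have hbN : zpowers b ≤ normalizer (phi Q : Set Γ) :=
    zpowers_le.2 (normalizer_le_normalizer_phi Q hbQ)
  obtain ⟨n, rfl⟩ := (Submonoid.mem_powers_iff _ _).1
    ((isOfFinOrder_of_finite b).mem_powers_iff_mem_zpowers.2 hb')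
  clear hb'
  induction n with
  | zero => simp [one_mem]
  | succ n ih =>
    rw [show b ^ (n + 1) * y * (b ^ (n + 1))⁻¹ * y⁻¹ =
      b ^ n * (b * y * b⁻¹ * y⁻¹) * (b ^ n)⁻¹ * (b ^ n * y * (b ^ n)⁻¹ * y⁻¹) by rw [pow_succ]; group]
    exact mul_mem (conj_mem_of_le_normalizer hbN (pow_mem (mem_zpowers b) n) hfix) ih

/-- The case of an abelian group. -/
theorem derived_ne_bot : ∃ x ∈ Q, ∃ y ∈ Q, ⁅x, y⁆ ≠ 1 := by
  classical
  by_contra hc
  push Not at hc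
  haveI : Fact p.Prime := ⟨h.pP⟩
  haveI : Fact q.Prime := ⟨h.qP⟩
  letI : CommGroup V := { (inferInstance : Group V) with mul_comm := fun u v => h.comm.is_comm.comm u v }
  let N := normalizer (V : Set Γ)
  let c : N →* MulAut V := normalizerMonoidHom V
  let k := AlgebraicClosure (ZMod p)
  haveI : CharP k p := charP_of_injective_algebraMap (algebraMap (ZMod p) k).injective p
  have hcast : ∀ {l : ℕ}, l.Prime → l ≠ p → (l : k) ≠ 0 := fun {l} hl hne e =>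
    hne ((Nat.prime_dvd_prime_iff_eq h.pP hl).1 ((CharP.cast_eq_zero_iff k p l).1 e)).symm
  have hV : ∀ v : V, v ^ p = 1 := fun v => Subtype.ext (h.expV v v.2)
  obtain ⟨hfd, -⟩ := CfsgLib.PGroup.finrank_addHom (V := V) hV k
  let ρ := dRep k c
  set Y := Q.subgroupOf N with hY
  haveI : Fintype Y := Fintype.ofFinite Y
  have hYc : ImgComm ρ Y := fun y hy z hz => congrArg ρ
    (Subtype.ext (commutatorElement_eq_one_iff_mul_comm.1 (hc y hy z hz)))
  have hYk : (Fintype.card Y : k) ≠ 0 := by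
    obtain ⟨j, hj⟩ := IsPGroup.iff_card.1 h.pQ
    rw [← Nat.card_eq_fintype_card, Nat.card_congr (subgroupOfEquivOfLe h.QV).toEquiv, hj, Nat.cast_pow]
    exact pow_ne_zero _ (hcast h.qP h.q_ne_p)
  obtain ⟨v₀, hv₀⟩ := h.fixV.exists_generator
  let α : N := ⟨a, h.aV⟩
  have h1 : OpW.OneFixed ρ α := by
    refine oneFixed_dRep (hcast h.rP h.r_ne_p) (Subtype.ext h.ord) ⟨v₀, (mem_inf.1 v₀.2).1⟩ fun v hv => ?_
    have hva : (v : Γ) ∈ V ⊓ centralizer ({a} : Set Γ) := by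
      refine mem_inf.2 ⟨v.2, mem_centralizer_singleton_iff.2 ?_⟩
      have e : a * (v : Γ) * a⁻¹ = v := congrArg Subtype.val hv
      exact (mul_inv_eq_iff_eq_mul.1 e).symm
    obtain ⟨j, hj⟩ := (Submonoid.mem_powers_iff _ _).1
      ((isOfFinOrder_of_finite v₀).mem_powers_iff_mem_zpowers.2 (hv₀ ⟨_, hva⟩))
    exact ⟨j, Subtype.ext (congrArg (fun z : ↥(V ⊓ centralizer ({a} : Set Γ)) => (z : Γ)) hj).symm⟩
  have hfaith : ∀ y z : N, (y : Γ) ∈ Q → (z : Γ) ∈ Q → ρ y = ρ z → y = z := by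
    intro y z hy hz e
    refine Subtype.ext ?_
    have h2 : (y : Γ) * (z : Γ)⁻¹ = 1 := h.faithV _ (mul_mem hy (inv_mem hz))
      (mem_centralizer_iff.2 fun v hv => ?_)
    · exact mul_inv_eq_one.1 h2
    have h3 := congrArg (fun w : V => (w : Γ))
      (eq_of_dRep_eq hV e ((c y) ⟨v, hv⟩))
    simp only [map_inv, MulAut.inv_apply_self] at h3
    have h4 : v = (z : Γ)⁻¹ * ((y : Γ) * v * (y : Γ)⁻¹) * ((z : Γ)⁻¹)⁻¹ := by
      rw [← map_inv] at h3; exact h3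
    calc v * ((y : Γ) * (z : Γ)⁻¹) = (z : Γ)⁻¹ * ((y : Γ) * v * (y : Γ)⁻¹) * (z : Γ) * (y * (z : Γ)⁻¹) := by
          conv_lhs => rw [h4, inv_inv]
      _ = (z : Γ)⁻¹ * (y : Γ) * v := by
          have hyz : (z : Γ) * y = y * z := commutatorElement_eq_one_iff_mul_comm.1 (hc _ hz _ hy)
          rw [show (y : Γ) * (z : Γ)⁻¹ = (z : Γ)⁻¹ * y from
            ((Commute.inv_right (show Commute (y : Γ) z from hyz.symm)).eq)]
          group
      _ = (y : Γ) * (z : Γ)⁻¹ * v := by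
          rw [(Commute.inv_right (show Commute (y : Γ) z from
            (commutatorElement_eq_one_iff_mul_comm.1 (hc _ hy _ hz)))).eq]
  have hkey : ∀ g ∈ P, ∀ y ∈ Q, g * (a * y * a⁻¹ * y⁻¹) * g⁻¹ = a * y * a⁻¹ * y⁻¹ := by
    intro g hg y hy
    haveI : IsPGroup p (P.subgroupOf N) := h.pP'.comap_subtype
    have e := OpW.rep_commutator_fixed ρ h1 hYc hYk h.rP (Subtype.ext h.ord) h.r_ne_two
      (S := P.subgroupOf N) this h.p_ne_two h.r_ne_p.symm
      (fun s hs => mem_normalizer_iff.2 fun z => mem_normalizer_iff.1 (h.PQ hs) (z : Γ))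
      (mem_normalizer_iff.2 fun z => mem_normalizer_iff.1 h.aP (z : Γ))
      (mem_normalizer_iff.2 fun z => mem_normalizer_iff.1 h.aQ (z : Γ))
      (g := ⟨g, h.PV hg⟩) hg (y := ⟨y, h.QV hy⟩) hy
    have hz : a * y * a⁻¹ * y⁻¹ ∈ Q := mul_mem ((mem_normalizer_iff.1 h.aQ y).1 hy) (inv_mem hy)
    exact congrArg Subtype.val (hfaith _ _ (conj_mem_of_le_normalizer h.PQ hg hz) hz e)
  refine h.not_a_centralizes_Q ?_
  refine (CfsgLib.Coprime.le_centralizer_of_trivial_on_frattini_quotient (zpowers_le.2 h.aQ)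
    (by
      rw [← card_map_of_injective Q.subtype_injective]
      exact h.cop_aQ (phi_le Q)) fun b hb y hy => ?_) (mem_zpowers a)
  refine h.fix_zpowers h.aQ ?_ hb
  have hz : a * y * a⁻¹ * y⁻¹ ∈ Q := mul_mem ((mem_normalizer_iff.1 h.aQ y).1 hy) (inv_mem hy)
  refine h.fixedMod_le_phi hz fun t ht => ?_
  rw [hkey t ht y hy, mul_inv_cancel]
  exact one_mem _

/-- An operator without fixed points on `Q / Φ(Q)` centralizes `P`. -/
theorem centralizes_P (hfix : ∀ y ∈ Q, a * y * a⁻¹ * y⁻¹ ∈ phi Q → y ∈ phi Q) {g : Γ} (hg : g ∈ P) :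
    a * g = g * a := by
  classical
  haveI : Fact p.Prime := ⟨h.pP⟩
  haveI : Fact q.Prime := ⟨h.qP⟩
  letI : CommGroup (Q ⧸ frattini Q) :=
    { QuotientGroup.Quotient.group (frattini Q) with
      mul_comm := fun u v => by
        obtain ⟨u, rfl⟩ := QuotientGroup.mk_surjective u
        obtain ⟨v, rfl⟩ := QuotientGroup.mk_surjective v
        refine (QuotientGroup.eq (s := frattini Q)).2 ?_
        rw [show (u * v)⁻¹ * (v * u) = ⁅v⁻¹, u⁻¹⁆ by rw [commutatorElement_def]; group]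
        exact CfsgLib.Coprime.commutator_le_frattini h.pQ (commutator_mem_commutator (mem_top _) (mem_top _)) }
  haveI : Finite (Q ⧸ frattini Q) := Quotient.finite _
  let N := normalizer (Q : Set Γ)
  have hchar : ∀ e : MulAut Q, (frattini Q).map (e : Q →* Q) = frattini Q := fun e =>
    characteristic_iff_map_eq.1 inferInstance e
  let c : N →* MulAut (Q ⧸ frattini Q) :=
    MonoidHom.mk' (fun n => QuotientGroup.congr _ _ (normalizerMonoidHom Q n) (hchar _)) fun m n =>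
      MulEquiv.ext fun u => by
        obtain ⟨x, rfl⟩ := QuotientGroup.mk_surjective u
        show QuotientGroup.mk (normalizerMonoidHom Q (m * n) x) =
          QuotientGroup.mk (normalizerMonoidHom Q m (normalizerMonoidHom Q n x))
        rw [map_mul, MulAut.mul_apply]
  have hc : ∀ (n : N) (x : Q), c n (QuotientGroup.mk x) = QuotientGroup.mk (normalizerMonoidHom Q n x) :=
    fun n x => rfl
  let k := AlgebraicClosure (ZMod q)
  haveI : CharP k q := charP_of_injective_algebraMap (algebraMap (ZMod q) k).injective q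
  have hcast : ∀ {l : ℕ}, l.Prime → l ≠ q → (l : k) ≠ 0 := fun {l} hl hne e =>
    hne ((Nat.prime_dvd_prime_iff_eq h.qP hl).1 ((CharP.cast_eq_zero_iff k q l).1 e)).symm
  have hU : ∀ u : Q ⧸ frattini Q, u ^ q = 1 := fun u => by
    obtain ⟨x, rfl⟩ := QuotientGroup.mk_surjective u
    exact (QuotientGroup.eq_one_iff (x ^ q)).2 (CfsgLib.Coprime.pow_mem_frattini h.pQ x)
  obtain ⟨hfd, -⟩ := CfsgLib.PGroup.finrank_addHom (V := Q ⧸ frattini Q) hU k
  let ρ := dRep k c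
  let α : N := ⟨a, h.aQ⟩
  have hαr : α ^ r = 1 := Subtype.ext h.ord
  have hmemphi : ∀ x : Q, x ∈ frattini Q ↔ (x : Γ) ∈ phi Q := fun x =>
    ⟨fun hx => ⟨x, hx, rfl⟩, fun ⟨z, hz, e⟩ => Subtype.ext e ▸ hz⟩
  have hno : ∀ u : Q ⧸ frattini Q, c α u = u → u = 1 := by
    intro u hu
    obtain ⟨x, rfl⟩ := QuotientGroup.mk_surjective u
    rw [hc] at hu
    refine (QuotientGroup.eq_one_iff x).2 ((hmemphi x).2 (hfix x x.2 ?_))
    have h1 := (hmemphi _).1 (QuotientGroup.eq.1 hu.symm)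
    rw [Subgroup.coe_mul, Subgroup.coe_inv] at h1
    have h2 : (x : Γ)⁻¹ * (a * (x : Γ) * a⁻¹) ∈ phi Q := h1
    rw [show a * (x : Γ) * a⁻¹ * (x : Γ)⁻¹ = (x : Γ) * ((x : Γ)⁻¹ * (a * (x : Γ) * a⁻¹)) * (x : Γ)⁻¹ by
      group]
    exact conj_mem_of_le_normalizer (le_normalizer.trans (normalizer_le_normalizer_phi Q)) x.2 h2
  set P₁ := P.subgroupOf N with hP₁
  have hP₁p : IsPGroup p P₁ := h.pP'.comap_subtype
  set D : Subgroup N := P₁ ⊓ centralizer ((P₁ : Set N) ∪ {α}) with hD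
  haveI : Fintype D := Fintype.ofFinite D
  have hYc : ImgComm ρ D := fun y hy z hz => congrArg ρ
    ((mem_centralizer_iff.1 hz.2 y (Or.inl hy.1)))
  have hYk : (Fintype.card D : k) ≠ 0 := by
    obtain ⟨j, hj⟩ := IsPGroup.iff_card.1 (hP₁p.to_le (inf_le_left : D ≤ P₁))
    rw [← Nat.card_eq_fintype_card, hj, Nat.cast_pow]
    exact pow_ne_zero _ (hcast h.pP h.q_ne_p.symm)
  set S : Subgroup N := centralizer (D : Set N)
  have hP₁S : P₁ ≤ S := fun x hx => mem_centralizer_iff.2 fun z hz =>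
    (mem_centralizer_iff.1 (mem_inf.1 hz).2 x (Or.inl hx)).symm
  have hαS : α ∈ S := mem_centralizer_iff.2 fun z hz =>
    (mem_centralizer_iff.1 (mem_inf.1 hz).2 α (Or.inr rfl)).symm
  set g' : N := ⟨g, h.PQ hg⟩
  have hgP : g' ∈ P₁ := hg
  have hag : α * g' * α⁻¹ ∈ P₁ := (mem_normalizer_iff.1 h.aP g).1 hg
  have hρ : ρ (α * g' * α⁻¹) = ρ g' := by
    refine sub_eq_zero.1 (eq_zero_of_forall_eigen ρ hYc hYk _ ?_ ?_)
    · intro t ht w
      rw [LinearMap.sub_apply, LinearMap.sub_apply, map_sub, ← PGroup.rep_mul_apply,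
        ← PGroup.rep_mul_apply, ← PGroup.rep_mul_apply, ← PGroup.rep_mul_apply,
        mem_centralizer_iff.1 (hP₁S hag) t ht, mem_centralizer_iff.1 (hP₁S hgP) t ht]
    · intro χ w hw
      let U : Submodule k (Additive (Q ⧸ frattini Q) →+ k) :=
        { carrier := {v | IsEigen ρ D χ v}
          add_mem' := fun {u v} hu hv z => by rw [map_add, hu z, hv z, smul_add]
          zero_mem' := fun z => by rw [map_zero, smul_zero]
          smul_mem' := fun s v hv z => by rw [map_smul, hv z, smul_comm] }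
      have hUS : ∀ s ∈ S, ∀ v ∈ U, ρ s v ∈ U := fun s hs v hv z => by
        rw [← PGroup.rep_mul_apply, mem_centralizer_iff.1 hs z z.2, PGroup.rep_mul_apply, hv z, map_smul]
      let ρ' := subRep ρ U S hUS
      have hcl : ∀ x ∈ P₁.subgroupOf S, ∀ y ∈ P₁.subgroupOf S, ∃ s : k, ρ' (x * y * x⁻¹ * y⁻¹) = s • 1 := by
        intro x hx y hy
        have hmem : (x : N) * y * (x : N)⁻¹ * (y : N)⁻¹ ∈ D := by
          refine mem_inf.2 ⟨mul_mem (mul_mem (mul_mem hx hy) (inv_mem hx)) (inv_mem hy), ?_⟩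
          refine mem_centralizer_iff.2 fun z hz => Subtype.ext ?_
          refine mem_centralizer_iff.1 (h.derP _ hx _ hy) z ?_
          rcases hz with hz | hz
          · exact Or.inl hz
          · exact Or.inr (congrArg Subtype.val hz)
        refine ⟨χ ⟨_, hmem⟩, LinearMap.ext fun v => Subtype.ext ?_⟩
        rw [subRep_apply]
        exact v.2 ⟨_, hmem⟩
      have hv0 : ∀ v : U, ρ' ⟨α, hαS⟩ v = v → v = 0 := by
        intro v hv
        refine Subtype.ext ?_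
        rw [ZeroMemClass.coe_zero]
        refine eq_zero_of_fixed (hcast h.rP h.r_ne_q) hαr hno ?_
        exact congrArg Subtype.val hv
      rcases hh_classTwo (k := k) (W := U) (H := S) ρ' (P₁.subgroupOf S) h.pP hP₁p.comap_subtype (hcast h.pP h.q_ne_p.symm) h.rP
          (hcast h.rP h.r_ne_q) h.r_ne_p.symm ⟨α, hαS⟩ (Subtype.ext hαr)
          (mem_normalizer_iff.2 fun z => mem_normalizer_iff.1 h.aP ((z : N) : Γ)) hcl hv0 with h1 | ⟨n, h2, -⟩
      · rw [LinearMap.sub_apply, sub_eq_zero]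
        exact congrArg Subtype.val (LinearMap.congr_fun (h1 ⟨g', hP₁S hgP⟩ hgP) ⟨w, hw⟩)
      · exact absurd h2 h.p_ne_two
  -- so the commutator is trivial on the quotient
  set t := g⁻¹ * (a * g * a⁻¹) with ht
  have htP : t ∈ P := mul_mem (inv_mem hg) ((mem_normalizer_iff.1 h.aP g).1 hg)
  suffices ht1 : t = 1 by
    rw [ht, inv_mul_eq_one] at ht1
    exact (mul_inv_eq_iff_eq_mul.1 ht1.symm)
  refine h.faithQ t htP (CfsgLib.Coprime.le_centralizer_of_trivial_on_frattini_quotient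
    (zpowers_le.2 (h.PQ htP)) ?_ (fun b hb y hy => h.fix_zpowers (h.PQ htP) ?_ hb) (mem_zpowers t))
  · exact (h.cop_pQ.coprime_dvd_left (card_dvd_of_le (zpowers_le.2 htP))).coprime_dvd_right
      (card_subgroup_dvd_card _)
  have hN : Q ⊔ P ≤ normalizer (phi Q : Set Γ) :=
    (sup_le le_normalizer h.PQ).trans (normalizer_le_normalizer_phi Q)
  have h5 : ∀ z ∈ Q, (g * z * g⁻¹)⁻¹ * ((a * g * a⁻¹) * z * (a * g * a⁻¹)⁻¹) ∈ phi Q := by
    intro z hz
    have hz' : a⁻¹ * z * a ∈ Q := (mem_normalizer_iff''.1 h.aQ z).1 hz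
    have h1 := eq_of_dRep_eq hU hρ (c g' (QuotientGroup.mk ⟨z, hz⟩))
    rw [map_inv, map_inv, MulAut.inv_apply_self] at h1
    have h2 := congrArg (c (α * g' * α⁻¹)) h1
    rw [MulAut.apply_inv_self, hc, hc] at h2
    have h3 := (hmemphi _).1 (QuotientGroup.eq.1 h2)
    rw [Subgroup.coe_mul, Subgroup.coe_inv] at h3
    exact h3
  have h6 := conj_mem_of_le_normalizer hN (inv_mem (mem_sup_right hg : g ∈ Q ⊔ P))
    (inv_mem (h5 y hy))
  have h7 : y⁻¹ * (t * y * t⁻¹) ∈ phi Q := by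
    have e : y⁻¹ * (t * y * t⁻¹) = (g⁻¹ * ((g * y * g⁻¹)⁻¹ *
        ((a * g * a⁻¹) * y * (a * g * a⁻¹)⁻¹))⁻¹ * g⁻¹⁻¹)⁻¹ := by rw [ht]; group
    rw [e]
    exact inv_mem h6
  rw [show t * y * t⁻¹ * y⁻¹ = y * (y⁻¹ * (t * y * t⁻¹)) * y⁻¹ by group]
  exact conj_mem_of_le_normalizer hN (mem_sup_left hy) h7

/-- Central elements lie in the Frattini subgroup. -/
theorem central_le_phi {x₁ y₁ x : Γ} (hx₁ : x₁ ∈ Q) (hy₁ : y₁ ∈ Q) (hne₁ : ⁅x₁, y₁⁆ ≠ 1) (hx : x ∈ Q)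
    (hc : ∀ y ∈ Q, y * x = x * y) : x ∈ phi Q := by
  have hZ : x ∈ Q ⊓ centralizer (Q : Set Γ) := mem_inf.2 ⟨hx, mem_centralizer_iff.2 hc⟩
  have hNZ : normalizer (Q : Set Γ) ≤ normalizer ((Q ⊓ centralizer (Q : Set Γ) : Subgroup Γ) : Set Γ) :=
    CfsgLib.Coprime.inf_le_normalizer le_rfl (CfsgLib.Coprime.normalizer_le_normalizer_centralizer Q)
  have hPZ := h.red _ inf_le_left (h.PQ.trans hNZ) (h.RQ.trans hNZ) fun e => hne₁
    (commutatorElement_eq_one_iff_mul_comm.2 (mem_centralizer_iff.1 (e.ge hx₁).2 y₁ hy₁).symm)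
  exact h.fixedMod_le_phi hx fun t ht => by
    rw [show t * x = x * t from (mem_centralizer_iff.1 (hPZ ht) x hZ).symm,
      mul_inv_cancel_right, mul_inv_cancel]
    exact one_mem _

/-- The last step: the Frattini subgroup acts by scalars. -/
theorem false_of_scalar [hpf : Fact p.Prime] [CharP (AlgebraicClosure (ZMod p)) p]
    {x₁ y₁ : Γ} (hx₁ : x₁ ∈ Q) (hy₁ : y₁ ∈ Q) (hne₁ : ⁅x₁, y₁⁆ ≠ 1)
    (haΦ : ∀ z ∈ phi Q, a * z = z * a) (hfix : ∀ y ∈ Q, a * y * a⁻¹ * y⁻¹ ∈ phi Q → y ∈ phi Q)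
    {g : Γ} (hgP : g ∈ P) (hgp : g ^ p = 1) (hgfix : ∀ y ∈ Q, g * y * g⁻¹ * y⁻¹ ∈ phi Q → y ∈ phi Q)
    (hag : a * g = g * a) (hgΦ : ∀ z ∈ phi Q, g * z = z * g)
    {V' : Type u} [CommGroup V'] [Finite V'] [Nontrivial V'] {c : normalizer (V : Set Γ) →* MulAut V'}
    (hfd : FiniteDimensional (AlgebraicClosure (ZMod p)) (Additive V' →+ AlgebraicClosure (ZMod p)))
    (hfaith : ∀ y z : normalizer (V : Set Γ), (y : Γ) ∈ Q → (z : Γ) ∈ Q →
      dRep (AlgebraicClosure (ZMod p)) c y = dRep (AlgebraicClosure (ZMod p)) c z → y = z)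
    (h1 : OpW.OneFixed (dRep (AlgebraicClosure (ZMod p)) c) (⟨a, h.aV⟩ : normalizer (V : Set Γ)))
    (hpowQ : ∀ {Z : Subgroup Γ}, Z ≤ Q → ((Nat.card Z : ℕ) : AlgebraicClosure (ZMod p)) ≠ 0)
    (hp3 : 3 < p)
    (hscal : ∀ y, ∀ hy : y ∈ phi Q, ∃ s : AlgebraicClosure (ZMod p), ∀ w : Additive V' →+ AlgebraicClosure (ZMod p),
      dRep (AlgebraicClosure (ZMod p)) c (⟨y, (phi_le Q).trans h.QV hy⟩ : normalizer (V : Set Γ)) w = s • w) :
    False := by
  classical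
  haveI : Fact q.Prime := ⟨h.qP⟩
  haveI : Nontrivial (Additive V' →+ AlgebraicClosure (ZMod p)) := by
    by_contra hn
    rw [not_nontrivial_iff_subsingleton] at hn
    refine hne₁ ?_
    have hz : ⁅x₁, y₁⁆ ∈ Q := phi_le Q (h.comm_mem_phi hx₁ hy₁)
    exact congrArg Subtype.val (hfaith ⟨⁅x₁, y₁⁆, h.QV hz⟩ 1 hz (one_mem Q) (LinearMap.ext fun w =>
      Subsingleton.elim _ _))
  let N := normalizer (V : Set Γ)
  let k := AlgebraicClosure (ZMod p)
  let ρ := dRep k c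
  have hcast : ∀ {l : ℕ}, l.Prime → l ≠ p → (l : k) ≠ 0 := fun {l} hl hne e =>
    hne ((Nat.prime_dvd_prime_iff_eq h.pP hl).1 ((CharP.cast_eq_zero_iff k p l).1 e)).symm
  let α : N := ⟨a, h.aV⟩
  have hαr : α ^ r = 1 := Subtype.ext h.ord
  have hall : ∀ x : Q, (x : Γ) ∈ phi Q → ∃ s : k, ∀ w, ρ ⟨(x : Γ), h.QV x.2⟩ w = s • w := fun x hx =>
    hscal x hx
  -- the representation of `Q`
  let ρQ : Q →* Module.End k (Additive V' →+ k) := ρ.comp (inclusion h.QV)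
  have hρQ : ∀ y : Q, ρQ y = ρ ⟨(y : Γ), h.QV y.2⟩ := fun _ => rfl
  have hfaithQ : ∀ x y : Q, ρQ x = ρQ y → x = y := fun x y e =>
    Subtype.ext (congrArg (fun n : N => (n : Γ)) (hfaith _ _ x.2 y.2 e))
  have hsc : ∀ x : Q, x ∈ scalarSub ρQ ↔ (x : Γ) ∈ phi Q := by
    intro x
    constructor
    · rintro ⟨s, hs⟩
      exact h.central_le_phi hx₁ hy₁ hne₁ x.2 fun y hy =>
        congrArg Subtype.val (hfaithQ (⟨y, hy⟩ * x) (x * ⟨y, hy⟩) (by
          rw [map_mul, map_mul, hs, mul_smul_comm, smul_mul_assoc, one_mul, mul_one]))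
    · intro hx
      obtain ⟨s, hs⟩ := hall x hx
      exact ⟨s, LinearMap.ext fun w => hs w⟩
  have hE : ClassTwo ρQ := fun x y => (hsc _).2 (h.comm_mem_phi x.2 y.2)
  have hnd : Nondeg ρQ := fun x hx => (hsc x).2 (h.central_le_phi hx₁ hy₁ hne₁ x.2 fun y hy =>
    congrArg Subtype.val (hfaithQ (⟨y, hy⟩ * x) (x * ⟨y, hy⟩) (hx ⟨y, hy⟩).symm))
  have hm : (Nat.card (ScalarQuot ρQ) : k) ≠ 0 := by
    obtain ⟨j, hj⟩ := IsPGroup.iff_card.1 h.pQ
    obtain ⟨i, -, hi⟩ := (Nat.dvd_prime_pow h.qP).1 (hj ▸ (scalarSub ρQ).card_quotient_dvd_card)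
    rw [show Nat.card (ScalarQuot ρQ) = q ^ i from hi, Nat.cast_pow]
    exact pow_ne_zero _ (hcast h.qP h.q_ne_p)
  let σ : Q ≃* Q := normalizerMonoidHom Q ⟨a, h.aQ⟩
  let τ : Q ≃* Q := normalizerMonoidHom Q ⟨g, h.PQ hgP⟩
  have hiter : ∀ (n : normalizer (Q : Set Γ)) (i : ℕ) (x : Q),
      (normalizerMonoidHom Q n)^[i] x = normalizerMonoidHom Q (n ^ i) x := by
    intro n i x
    induction i with
    | zero => rw [pow_zero, map_one]; rfl
    | succ i ih => rw [Function.iterate_succ_apply', ih, pow_succ', map_mul, MulAut.mul_apply]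
  have hσr : ∀ x, σ^[r] x = x := fun x => by
    rw [hiter, show (⟨a, h.aQ⟩ : normalizer (Q : Set Γ)) ^ r = 1 from Subtype.ext h.ord, map_one]; rfl
  have hτp : ∀ x, τ^[p] x = x := fun x => by
    rw [hiter, show (⟨g, h.PQ hgP⟩ : normalizer (Q : Set Γ)) ^ p = 1 from Subtype.ext hgp, map_one]; rfl
  have hστ : ∀ x, σ (τ x) = τ (σ x) := fun x => Subtype.ext (by
    show a * (g * (x : Γ) * g⁻¹) * a⁻¹ = g * (a * (x : Γ) * a⁻¹) * g⁻¹
    rw [show a * (g * (x : Γ) * g⁻¹) * a⁻¹ = (a * g) * x * (a * g)⁻¹ by group, hag]; group)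
  refine OpW.extraspecial_false hE hnd hm h.rP h.r_ne_two (hcast h.rP h.r_ne_p) hp3 σ τ hσr hτp hστ
    (fun x hx => Subtype.ext (mul_inv_eq_iff_eq_mul.2 (haΦ _ ((hsc x).1 hx))))
    (fun x hx => Subtype.ext (mul_inv_eq_iff_eq_mul.2 (hgΦ _ ((hsc x).1 hx)))) ?_ ?_ ?_
    (ρ α) ?_ ?_ h1
  · intro x hx
    refine (hsc x).2 (hfix x x.2 ?_)
    have h2 : (x : Γ)⁻¹ * (a * (x : Γ) * a⁻¹) ∈ phi Q := (hsc _).1 hx
    rw [show a * (x : Γ) * a⁻¹ * (x : Γ)⁻¹ = (x : Γ) * ((x : Γ)⁻¹ * (a * (x : Γ) * a⁻¹)) * (x : Γ)⁻¹ by group,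
      ← h.phi_central h2 x.2, mul_inv_cancel_right]
    exact h2
  · intro x hx
    refine (hsc x).2 (hgfix x x.2 ?_)
    have h2 : (x : Γ)⁻¹ * (g * (x : Γ) * g⁻¹) ∈ phi Q := (hsc _).1 hx
    rw [show g * (x : Γ) * g⁻¹ * (x : Γ)⁻¹ = (x : Γ) * ((x : Γ)⁻¹ * (g * (x : Γ) * g⁻¹)) * (x : Γ)⁻¹ by group,
      ← h.phi_central h2 x.2, mul_inv_cancel_right]
    exact h2
  · intro e
    refine h.phi_lt (le_antisymm (phi_le Q) fun x hx => (hsc ⟨x, hx⟩).1 ?_)
    rw [e]; exact mem_top _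
  · intro x
    show ρ α * ρ (inclusion h.QV x) = ρ (inclusion h.QV (σ x)) * ρ α
    rw [← map_mul, ← map_mul]
    exact congrArg ρ (Subtype.ext (show a * (x : Γ) = a * (x : Γ) * a⁻¹ * a by group))
  · rw [← map_pow, hαr, map_one]


/-- The configuration does not exist. -/
theorem false : False := by
  classical
  obtain ⟨x₁, hx₁, y₁, hy₁, hne₁⟩ := h.derived_ne_bot
  haveI : Fact p.Prime := ⟨h.pP⟩
  haveI : Fact q.Prime := ⟨h.qP⟩
  letI : CommGroup V := { (inferInstance : Group V) with mul_comm := fun u v => h.comm.is_comm.comm u v }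
  let N := normalizer (V : Set Γ)
  let c : N →* MulAut V := normalizerMonoidHom V
  have hc : ∀ (n : N) (v : V), ((c n v : V) : Γ) = (n : Γ) * v * (n : Γ)⁻¹ := fun _ _ => rfl
  let k := AlgebraicClosure (ZMod p)
  haveI : CharP k p := charP_of_injective_algebraMap (algebraMap (ZMod p) k).injective p
  have hcast : ∀ {l : ℕ}, l.Prime → l ≠ p → (l : k) ≠ 0 := fun {l} hl hne e =>
    hne ((Nat.prime_dvd_prime_iff_eq h.pP hl).1 ((CharP.cast_eq_zero_iff k p l).1 e)).symm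
  have hV : ∀ v : V, v ^ p = 1 := fun v => Subtype.ext (h.expV v v.2)
  haveI : Nontrivial V := V.nontrivial_iff_ne_bot.2 h.V_ne
  obtain ⟨hfd, -⟩ := CfsgLib.PGroup.finrank_addHom (V := V) hV k
  let ρ := dRep k c
  have hfaith : ∀ y z : N, (y : Γ) ∈ Q → (z : Γ) ∈ Q → ρ y = ρ z → y = z := by
    intro y z hy hz e
    refine Subtype.ext (inv_inj.1 (mul_inv_eq_one.1 (h.faithV ((y : Γ)⁻¹ * ((z : Γ)⁻¹)⁻¹)
      (mul_mem (inv_mem hy) (inv_mem (inv_mem hz))) (mem_centralizer_iff.2 fun v hv => ?_))))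
    have h3 := congrArg (fun w : V => (w : Γ)) (eq_of_dRep_eq hV e (c z ⟨v, hv⟩))
    simp only [hc] at h3
    have h4 : (y : Γ)⁻¹ * ((z : Γ) * v * (z : Γ)⁻¹) * ((y : Γ)⁻¹)⁻¹ = v := by
      rw [show ((y⁻¹ : N) : Γ) = (y : Γ)⁻¹ from rfl, show ((z⁻¹ : N) : Γ) = (z : Γ)⁻¹ from rfl] at h3
      rw [h3]; group
    conv_lhs => rw [← h4]
    group
  -- the fixed line
  obtain ⟨v₀, hv₀⟩ := h.fixV.exists_generator
  let α : N := ⟨a, h.aV⟩
  have hαr : α ^ r = 1 := Subtype.ext h.ord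
  have h1 : OpW.OneFixed ρ α := by
    refine oneFixed_dRep (hcast h.rP h.r_ne_p) hαr ⟨v₀, (mem_inf.1 v₀.2).1⟩ fun v hv => ?_
    have hva : (v : Γ) ∈ V ⊓ centralizer ({a} : Set Γ) := by
      refine mem_inf.2 ⟨v.2, mem_centralizer_singleton_iff.2 ?_⟩
      have e : a * (v : Γ) * a⁻¹ = v := congrArg Subtype.val hv
      exact (mul_inv_eq_iff_eq_mul.1 e).symm
    obtain ⟨j, hj⟩ := (Submonoid.mem_powers_iff _ _).1
      ((isOfFinOrder_of_finite v₀).mem_powers_iff_mem_zpowers.2 (hv₀ ⟨_, hva⟩))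
    exact ⟨j, Subtype.ext (congrArg (fun z : ↥(V ⊓ centralizer ({a} : Set Γ)) => (z : Γ)) hj).symm⟩
  set Y := (phi Q).subgroupOf N with hY
  have hPhiN : phi Q ≤ N := (phi_le Q).trans h.QV
  haveI : Fintype Y := Fintype.ofFinite Y
  have hYc : ImgComm ρ Y := fun y hy z hz => congrArg ρ
    (Subtype.ext (h.phi_central hy (phi_le Q hz)))
  have hpowQ : ∀ {Z : Subgroup Γ}, Z ≤ Q → ((Nat.card Z : ℕ) : k) ≠ 0 := fun {Z} hZ => by
    obtain ⟨j, hj⟩ := IsPGroup.iff_card.1 (h.pQ.to_le hZ)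
    rw [hj, Nat.cast_pow]
    exact pow_ne_zero _ (hcast h.qP h.q_ne_p)
  have hYk : (Fintype.card Y : k) ≠ 0 := by
    rw [← Nat.card_eq_fintype_card, Nat.card_congr (subgroupOfEquivOfLe hPhiN).toEquiv]
    exact hpowQ (phi_le Q)
  have haY : α ∈ normalizer (Y : Set N) :=
    mem_normalizer_iff.2 fun z => mem_normalizer_iff.1 (normalizer_le_normalizer_phi Q h.aQ) (z : Γ)
  -- commutators have no fixed function
  have hnoQ : ∀ f : Additive V →+ k, (∀ y ∈ Q, ∀ z ∈ Q, ∀ hm : ⁅y, z⁆ ∈ N, ρ ⟨⁅y, z⁆, hm⟩ f = f) →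
      f = 0 := by
    intro f hf
    set W := ⁅V, ⁅Q, Q⁆⁆ with hW
    have hQQ : ⁅Q, Q⁆ ≤ Q := by
      rw [commutator_le]
      exact fun y hy z hz => mul_mem (mul_mem (mul_mem hy hz) (inv_mem hy)) (inv_mem hz)
    let F : Subgroup Γ :=
      { carrier := {v | ∃ hv : v ∈ V, f (Additive.ofMul (⟨v, hv⟩ : V)) = 0}
        one_mem' := ⟨one_mem V, by
          rw [show (⟨1, one_mem V⟩ : V) = 1 from rfl, ofMul_one, map_zero]⟩
        mul_mem' := fun {v w} ⟨hv, hv'⟩ ⟨hw, hw'⟩ => ⟨mul_mem hv hw, by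
          rw [show (⟨v * w, mul_mem hv hw⟩ : V) = ⟨v, hv⟩ * ⟨w, hw⟩ from rfl, ofMul_mul, map_add, hv',
            hw', add_zero]⟩
        inv_mem' := fun {v} ⟨hv, hv'⟩ => ⟨inv_mem hv, by
          rw [show (⟨v⁻¹, inv_mem hv⟩ : V) = ⟨v, hv⟩⁻¹ from rfl, ofMul_inv, map_neg, hv', neg_zero]⟩ }
    -- the stabilizer of `f`
    let Sf : Subgroup Γ :=
      { carrier := {n | ∃ hn : n ∈ N, ρ ⟨n, hn⟩ f = f}
        one_mem' := ⟨one_mem N, by rw [show (⟨1, one_mem N⟩ : N) = 1 from rfl, map_one]; rfl⟩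
        mul_mem' := fun {m n} ⟨hm, hm'⟩ ⟨hn, hn'⟩ => ⟨mul_mem hm hn, by
          rw [show (⟨m * n, mul_mem hm hn⟩ : N) = ⟨m, hm⟩ * ⟨n, hn⟩ from rfl, PGroup.rep_mul_apply, hn', hm']⟩
        inv_mem' := fun {n} ⟨hn, hn'⟩ => ⟨inv_mem hn, by
          conv_lhs => rw [← hn']
          rw [show (⟨n⁻¹, inv_mem hn⟩ : N) = ⟨n, hn⟩⁻¹ from rfl, PGroup.rep_inv_apply]⟩ }
    have hSf : ⁅Q, Q⁆ ≤ Sf := by
      rw [commutator_le]
      exact fun y hy z hz => ⟨h.QV (hQQ (commutator_mem_commutator hy hz)), hf y hy z hz _⟩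
    have hWF : W ≤ F := by
      rw [hW, commutator_le]
      intro v hv n hn
      obtain ⟨hn', hfix⟩ := inv_mem (hSf hn)
      have hnv : n * v⁻¹ * n⁻¹ ∈ V := conj_mem_of_le_normalizer h.QV (hQQ hn) (inv_mem hv)
      refine ⟨by rw [commutatorElement_def, show v * n * v⁻¹ * n⁻¹ = v * (n * v⁻¹ * n⁻¹) by group]
                 exact mul_mem hv hnv, ?_⟩
      rw [show (⟨⁅v, n⁆, _⟩ : V) = ⟨v, hv⟩ * (c ⟨n⁻¹, hn'⟩⁻¹ ⟨v, hv⟩)⁻¹ from Subtype.ext
        (show v * n * v⁻¹ * n⁻¹ = v * (n⁻¹⁻¹ * v * n⁻¹⁻¹⁻¹)⁻¹ by group),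
        ofMul_mul, map_add, ofMul_inv, map_neg, ← dRep_apply (k := k), hfix, add_neg_cancel]
    have hWV : W ≤ V := by
      intro w hw; exact (hWF hw).1
    have hN : ∀ {S : Subgroup Γ}, S ≤ normalizer (Q : Set Γ) → S ≤ N → S ≤ normalizer (W : Set Γ) :=
      fun {S} hSQ hSV => PGroup.le_normalizer_commutator hSV (PGroup.le_normalizer_commutator hSQ hSQ)
    rcases h.irred W hWV (hN le_normalizer h.QV) (hN h.PQ h.PV) (hN h.RQ h.RV) with e | e
    · exfalso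
      rw [hW, commutator_eq_bot_iff_le_centralizer] at e
      exact hne₁ (h.faithV _ (hQQ (commutator_mem_commutator hx₁ hy₁))
        (le_centralizer_iff.1 e (commutator_mem_commutator hx₁ hy₁)))
    · exact AddMonoidHom.ext fun v => (hWF (e.ge v.toMul.2)).2
  -- weight spaces are invariant
  have hYQ : ∀ {χ : Y →* kˣ} {w : Additive V →+ k}, IsEigen ρ Y χ w → ∀ n : N, (n : Γ) ∈ Q →
      IsEigen ρ Y χ (ρ n w) := by
    intro χ w hw n hn z
    rw [← PGroup.rep_mul_apply, show (z : N) * n = n * z from Subtype.ext (h.phi_central z.2 hn),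
      PGroup.rep_mul_apply, hw z, map_smul]
  -- the operator centralizes the Frattini subgroup
  have haΦ : ∀ z ∈ phi Q, a * z = z * a := by
    intro z hz
    have hz' : a * z * a⁻¹ ∈ phi Q := (mem_normalizer_iff.1 (normalizer_le_normalizer_phi Q h.aQ) z).1 hz
    suffices e : ρ ⟨a * z * a⁻¹, hPhiN hz'⟩ = ρ ⟨z, hPhiN hz⟩ from
      mul_inv_eq_iff_eq_mul.1 (congrArg Subtype.val (hfaith _ _ (phi_le Q hz') (phi_le Q hz) e))
    refine sub_eq_zero.1 (eq_zero_of_forall_eigen ρ hYc hYk _ ?_ ?_)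
    · intro t ht w
      rw [LinearMap.sub_apply, LinearMap.sub_apply, map_sub, ← PGroup.rep_mul_apply,
        ← PGroup.rep_mul_apply, ← PGroup.rep_mul_apply, ← PGroup.rep_mul_apply,
        hYc t ht ⟨a * z * a⁻¹, hPhiN hz'⟩ hz', hYc t ht ⟨z, hPhiN hz⟩ hz]
    · intro χ w hw
      by_cases hw0 : w = 0
      · rw [hw0, map_zero]
      rw [LinearMap.sub_apply, show ρ ⟨z, hPhiN hz⟩ w = _ from hw ⟨_, hz⟩,
        show ρ ⟨a * z * a⁻¹, hPhiN hz'⟩ w = _ from hw ⟨_, hz'⟩]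
      by_cases hmv : PGroup.twist Y haY χ = χ
      · have e := DFunLike.congr_fun hmv (⟨⟨a * z * a⁻¹, hPhiN hz'⟩, hz'⟩ : Y)
        rw [PGroup.twist_apply] at e
        rw [← e, sub_eq_zero]
        congr 3
        exact Subtype.ext (Subtype.ext (show a⁻¹ * (a * z * a⁻¹) * a = z by group))
      · exfalso
        have hline : ∀ n : N, (n : Γ) ∈ Q → ∃ s : k, ρ n w = s • w := fun n hn =>
          OpW.moved_line ρ h1 hYk h.rP hαr (fun i => pow_mem haY i) hw hw0 (hYQ hw n hn) hmv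
        refine hw0 (hnoQ w fun y hy t ht hm => ?_)
        obtain ⟨s, hs⟩ := hline ⟨y, h.QV hy⟩ hy
        obtain ⟨s', hs'⟩ := hline ⟨t, h.QV ht⟩ ht
        have hcomm2 : ρ (⟨y, h.QV hy⟩ * ⟨t, h.QV ht⟩) w = ρ (⟨t, h.QV ht⟩ * ⟨y, h.QV hy⟩) w := by
          rw [PGroup.rep_mul_apply, PGroup.rep_mul_apply, hs, hs', map_smul, map_smul, hs, hs',
            smul_smul, smul_smul, mul_comm]
        have e := congrArg (ρ (⟨t, h.QV ht⟩ * ⟨y, h.QV hy⟩ : N)⁻¹) hcomm2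
        rw [PGroup.rep_inv_apply, ← PGroup.rep_mul_apply] at e
        have e2 : (⟨⁅y, t⁆, hm⟩ : N) = (⟨y, h.QV hy⟩ * ⟨t, h.QV ht⟩) *
            (⟨t, h.QV ht⟩ * ⟨y, h.QV hy⟩)⁻¹ := by
          refine Subtype.ext ?_
          show ⁅y, t⁆ = y * t * (t * y)⁻¹
          rw [commutatorElement_def]; group
        rw [e2, PGroup.rep_mul_apply]
        conv_rhs => rw [← PGroup.rep_apply_inv ρ (⟨t, h.QV ht⟩ * ⟨y, h.QV hy⟩ : N) w]
        have key : ∀ m : Additive V →+ k, (∃ u : k, m = u • w) →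
            ρ (⟨y, h.QV hy⟩ * ⟨t, h.QV ht⟩) m = ρ (⟨t, h.QV ht⟩ * ⟨y, h.QV hy⟩) m := by
          rintro m ⟨u, rfl⟩
          rw [map_smul, map_smul, hcomm2]
        refine key _ (OpW.moved_line ρ h1 hYk h.rP hαr (fun i => pow_mem haY i) hw hw0
          (hYQ hw _ (inv_mem (mul_mem ht hy))) hmv)
  have hfix : ∀ y ∈ Q, a * y * a⁻¹ * y⁻¹ ∈ phi Q → y ∈ phi Q := fun y hy =>
    h.fixed_le_phi ⟨x₁, hx₁, y₁, hy₁, hne₁⟩ haΦ hy
  have hPa : P ≤ P ⊓ centralizer ({a} : Set Γ) := fun g hg =>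
    mem_inf.2 ⟨hg, mem_centralizer_singleton_iff.2 (h.centralizes_P hfix hg).symm⟩
  -- an element of order `p` in `P`
  haveI := h.fixP
  haveI : IsCyclic P := isCyclic_of_injective (inclusion hPa) (inclusion_injective _)
  have hpP : p ∣ Nat.card P := by
    obtain ⟨i, hi⟩ := IsPGroup.iff_card.1 h.pP'
    rcases i with _ | i
    · exact absurd (card_eq_one.1 (by rw [hi, pow_zero])) h.P_ne
    · exact hi ▸ dvd_pow_self p i.succ_ne_zero
  obtain ⟨g₀, hg₀⟩ := exists_prime_orderOf_dvd_card' p hpP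
  set g : Γ := (g₀ : Γ) with hgdef
  have hgP : g ∈ P := g₀.2
  have hgo : orderOf g = p := by rw [hgdef, Subgroup.orderOf_coe, hg₀]
  have hgp : g ^ p = 1 := by rw [← hgo]; exact pow_orderOf_eq_one g
  have hgN : ∀ S : Subgroup Γ, S ≤ normalizer (P : Set Γ) → S ≤ normalizer (zpowers g : Set Γ) := by
    intro S hS s hs
    obtain ⟨i, hi⟩ := MonoidHom.map_cyclic (normalizerMonoidHom P ⟨s, hS hs⟩).toMonoidHom
    rw [← CfsgLib.Coprime.conjBy_eq_self_iff]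
    refine eq_of_le_of_card_ge ?_ (CfsgLib.Coprime.card_conjBy s _).ge
    rw [CfsgLib.Coprime.conjBy, MonoidHom.map_zpowers, zpowers_le]
    exact ⟨i, (congrArg Subtype.val (hi g₀)).symm⟩
  have hgQ : zpowers g ≤ normalizer (Q : Set Γ) := zpowers_le.2 (h.PQ hgP)
  have hgfix : ∀ y ∈ Q, g * y * g⁻¹ * y⁻¹ ∈ phi Q → y ∈ phi Q := by
    intro y hy hyg
    set T := fixedMod Q (phi Q) (zpowers g) hgQ (fun _ hz _ hy => h.phi_central hz hy)
    have hT : ∀ S : Subgroup Γ, S ≤ normalizer (P : Set Γ) → S ≤ normalizer (Q : Set Γ) →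
        S ≤ normalizer (T : Set Γ) := fun S hSP hSQ => le_normalizer_fixedMod hgQ _ hSQ
      (hSQ.trans (normalizer_le_normalizer_phi Q)) (hgN S hSP)
    have hyT : y ∈ T := ⟨hy, fun t ht => h.fix_zpowers (h.PQ hgP) hyg ht⟩
    have hTQ : T ≤ Q := fun _ h => h.1
    by_cases hTe : T = Q
    · exfalso
      have h1 : g = 1 := h.faithQ g hgP (CfsgLib.Coprime.le_centralizer_of_trivial_on_frattini_quotient
        hgQ ((h.cop_pQ.coprime_dvd_left (card_dvd_of_le (zpowers_le.2 hgP))).coprime_dvd_right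
          (card_subgroup_dvd_card _)) (fun b hb z hz => (hTe.ge hz).2 b hb) (mem_zpowers g))
      rw [h1, orderOf_one] at hgo
      exact h.pP.one_lt.ne hgo
    · have hPT := h.red T hTQ (hT P le_normalizer h.PQ) (hT R h.RP h.RQ) hTe
      refine h.fixedMod_le_phi hy fun t ht => ?_
      rw [show t * y = y * t from (mem_centralizer_iff.1 (hPT ht) y hyT).symm, mul_inv_cancel_right,
        mul_inv_cancel]
      exact one_mem _
  have hag : a * g = g * a := h.centralizes_P hfix hgP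
  have hgΦ : ∀ z ∈ phi Q, g * z = z * g := fun z hz =>
    (mem_centralizer_iff.1 (h.P_phi hgP) z hz).symm
  -- every weight space contains a fixed vector
  have hαQ : ∀ y : Γ, y ∈ Q → ∃ t ∈ Q, (a * t * a⁻¹ * t⁻¹)⁻¹ * y ∈ phi Q := by
    haveI hΦn : (frattini Q).Normal := inferInstance
    let d : Q ⧸ frattini Q → Q ⧸ frattini Q := fun u =>
      QuotientGroup.mk (⟨a * u.out * a⁻¹ * (u.out : Γ)⁻¹,
        mul_mem ((mem_normalizer_iff.1 h.aQ _).1 u.out.2) (inv_mem u.out.2)⟩ : Q)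
    haveI : Finite (Q ⧸ frattini Q) := Quotient.finite _
    have hinj : Function.Injective d := by
      intro u v e
      have e1 := QuotientGroup.eq.1 e
      rw [← QuotientGroup.out_eq' u, ← QuotientGroup.out_eq' v, QuotientGroup.eq]
      have e2 : ((a * u.out * a⁻¹ * (u.out : Γ)⁻¹)⁻¹ * (a * v.out * a⁻¹ * (v.out : Γ)⁻¹)) ∈ phi Q :=
        ⟨_, e1, rfl⟩
      set u' : Γ := ((u.out : Q) : Γ)
      set v' : Γ := ((v.out : Q) : Γ)
      have hu' : u' ∈ Q := u.out.2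
      have hv' : v' ∈ Q := v.out.2
      have h2 : a * (u'⁻¹ * v') * a⁻¹ * (u'⁻¹ * v')⁻¹ ∈ phi Q := by
        have e3 : a * (u'⁻¹ * v') * a⁻¹ * (u'⁻¹ * v')⁻¹ =
            u'⁻¹ * ((a * u' * a⁻¹ * u'⁻¹)⁻¹ * (a * v' * a⁻¹ * v'⁻¹)) * u' := by group
        rw [e3, ← h.phi_central e2 (inv_mem hu'), inv_mul_cancel_right]
        exact e2
      obtain ⟨z, hz, ez⟩ := hfix _ (mul_mem (inv_mem hu') hv') h2
      rwa [show (u.out : Q)⁻¹ * v.out = z from Subtype.ext ez.symm]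
    intro y hy
    obtain ⟨u, hu⟩ := (Finite.injective_iff_surjective.1 hinj) (QuotientGroup.mk ⟨y, hy⟩)
    exact ⟨u.out, u.out.2, ⟨_, QuotientGroup.eq.1 hu, rfl⟩⟩
  set S : Subgroup N := centralizer (Y : Set N)
  have hQS : Q.subgroupOf N ≤ S := fun x hx => mem_centralizer_iff.2 fun z hz =>
    Subtype.ext (h.phi_central hz hx)
  have hαS : α ∈ S := mem_centralizer_iff.2 fun z hz => Subtype.ext (haΦ _ hz).symm
  have hexfix : ∀ χ : Y →* kˣ, (∃ w, w ≠ 0 ∧ IsEigen ρ Y χ w) →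
      ∃ w, w ≠ 0 ∧ IsEigen ρ Y χ w ∧ ρ α w = w := by
    rintro χ ⟨w, hw0, hw⟩
    by_contra hno
    push Not at hno
    let U : Submodule k (Additive V →+ k) :=
      { carrier := {v | IsEigen ρ Y χ v}
        add_mem' := fun {u v} hu hv z => by rw [map_add, hu z, hv z, smul_add]
        zero_mem' := fun z => by rw [map_zero, smul_zero]
        smul_mem' := fun s v hv z => by rw [map_smul, hv z, smul_comm] }
    have hUS : ∀ s ∈ S, ∀ v ∈ U, ρ s v ∈ U := fun s hs v hv z => by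
      rw [← PGroup.rep_mul_apply, mem_centralizer_iff.1 hs z z.2, PGroup.rep_mul_apply, hv z, map_smul]
    let ρ' := subRep ρ U S hUS
    set Q₁ := (Q.subgroupOf N).subgroupOf S
    have hcl : ∀ x ∈ Q₁, ∀ y ∈ Q₁, ∃ s : k, ρ' (x * y * x⁻¹ * y⁻¹) = s • 1 := by
      intro x hx y hy
      have hmem : (x : N) * y * (x : N)⁻¹ * (y : N)⁻¹ ∈ Y := h.comm_mem_phi hx hy
      refine ⟨χ ⟨_, hmem⟩, LinearMap.ext fun v => Subtype.ext ?_⟩
      rw [subRep_apply]
      exact v.2 ⟨_, hmem⟩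
    have hv0 : ∀ v : U, ρ' ⟨α, hαS⟩ v = v → v = 0 := by
      intro v hv
      refine Subtype.ext ?_
      rw [ZeroMemClass.coe_zero]
      by_contra hne
      exact hno v hne v.2 (congrArg Subtype.val hv)
    rcases hh_classTwo (k := k) (W := U) (H := S) ρ' Q₁ h.qP h.pQ.comap_subtype.comap_subtype
        (hcast h.qP h.q_ne_p) h.rP (hcast h.rP h.r_ne_p) h.r_ne_q.symm ⟨α, hαS⟩ (Subtype.ext hαr)
        (mem_normalizer_iff.2 fun z => mem_normalizer_iff.1 h.aQ ((z : N) : Γ)) hcl hv0 with hh | ⟨n, h2, -⟩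
    swap
    · exact absurd h2 h.q_ne_two
    have hscal : ∀ n : N, (n : Γ) ∈ Q → ∀ v : Additive V →+ k, IsEigen ρ Y χ v →
        ∃ s : k, ∀ v : Additive V →+ k, IsEigen ρ Y χ v → ρ n v = s • v := by
      intro n hn _ _
      obtain ⟨t, ht, htz⟩ := hαQ n hn
      set tN : N := ⟨t, h.QV ht⟩
      set zN : N := ⟨(a * t * a⁻¹ * t⁻¹)⁻¹ * (n : Γ), hPhiN htz⟩
      refine ⟨χ ⟨zN, htz⟩, fun v hv => ?_⟩
      have en : n = α * tN * α⁻¹ * (tN⁻¹ * zN) := Subtype.ext (show (n : Γ) =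
        a * t * a⁻¹ * (t⁻¹ * ((a * t * a⁻¹ * t⁻¹)⁻¹ * (n : Γ))) by group)
      have hu : IsEigen ρ Y χ (ρ (tN⁻¹ * zN) v) := hYQ hv _ (mul_mem (inv_mem ht) (phi_le Q htz))
      have e : ρ (α * tN * α⁻¹) (ρ (tN⁻¹ * zN) v) = ρ tN (ρ (tN⁻¹ * zN) v) :=
        congrArg Subtype.val (LinearMap.congr_fun (hh ⟨tN, hQS ht⟩ ht) ⟨_, hu⟩)
      rw [en, PGroup.rep_mul_apply, e, ← PGroup.rep_mul_apply, mul_inv_cancel_left]
      exact hv ⟨zN, htz⟩
    refine hw0 (hnoQ w fun y hy t ht hm => ?_)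
    obtain ⟨s, hs⟩ := hscal ⟨y, h.QV hy⟩ hy w hw
    obtain ⟨s', hs'⟩ := hscal ⟨t, h.QV ht⟩ ht w hw
    have e2 : (⟨⁅y, t⁆, hm⟩ : N) = ⟨y, h.QV hy⟩ * ⟨t, h.QV ht⟩ * (⟨y, h.QV hy⟩ : N)⁻¹ *
        (⟨t, h.QV ht⟩ : N)⁻¹ := Subtype.ext (commutatorElement_def y t)
    have hw1 := hYQ hw (⟨t, h.QV ht⟩ : N)⁻¹ (inv_mem ht)
    have hw2 := hYQ hw1 (⟨y, h.QV hy⟩ : N)⁻¹ (inv_mem hy)
    rw [e2, PGroup.rep_mul_apply, PGroup.rep_mul_apply, PGroup.rep_mul_apply, hs' _ hw2, map_smul,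
      PGroup.rep_apply_inv, ← hs' _ hw1, PGroup.rep_apply_inv]
  -- so there is a single weight
  obtain ⟨f₁, hf₁⟩ : ∃ f : Additive V →+ k, f ≠ 0 := by
    obtain ⟨v, hv⟩ := exists_ne (1 : V)
    obtain ⟨f, hf⟩ := CfsgLib.PGroup.exists_addHom_ne_zero hV k hv
    exact ⟨f, fun e => hf (by rw [e]; rfl)⟩
  obtain ⟨χ, w₀, -, hw₀0, hw₀⟩ := exists_eigen ρ hYc (U := (⊤ : Submodule k (Additive V →+ k)))
    (fun _ _ _ _ => Submodule.mem_top) (fun e => hf₁ (by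
      have : f₁ ∈ (⊤ : Submodule k (Additive V →+ k)) := Submodule.mem_top
      rw [e, Submodule.mem_bot] at this
      exact this))
  obtain ⟨f₀, hf₀0, hf₀, hf₀a⟩ := hexfix χ ⟨w₀, hw₀0, hw₀⟩
  have hall : ∀ (z : Y) (w : Additive V →+ k), ρ (z : N) w = (χ z : k) • w := by
    intro z w
    have hD : ρ (z : N) - (χ z : k) • (1 : Module.End k (Additive V →+ k)) = 0 := by
      refine eq_zero_of_forall_eigen ρ hYc hYk _ (fun t ht v => ?_) fun ψ v hv => ?_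
      · simp only [LinearMap.sub_apply, LinearMap.smul_apply, Module.End.one_apply, map_sub, map_smul]
        rw [← PGroup.rep_mul_apply, ← PGroup.rep_mul_apply, hYc t ht z z.2]
      · by_cases hv0 : v = 0
        · rw [hv0, map_zero]
        obtain ⟨f', hf'0, hf', hf'a⟩ := hexfix ψ ⟨v, hv0, hv⟩
        obtain ⟨s, hs⟩ := h1 f₀ f' hf₀a hf'a hf₀0
        have hψ : ψ = χ := PGroup.IsEigen.unique ρ hf' (fun t => by
          rw [hs, map_smul, hf₀ t, smul_comm]) hf'0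
        simp [hv z, hψ]
    simpa [sub_eq_zero] using LinearMap.congr_fun hD w
  -- `3 < p`
  have hp3 : 3 < p := by
    set z : Γ := ⁅x₁, y₁⁆ with hzdef
    have hzΦ : z ∈ phi Q := h.comm_mem_phi hx₁ hy₁
    set zY : Y := ⟨⟨z, hPhiN hzΦ⟩, hzΦ⟩
    obtain ⟨t, ht⟩ := scalar_mem_primeField (k := k) hV (c := c) (n := (zY : N)) (hall zY)
    have hs1 : (χ zY : k) ≠ 1 := fun e => hne₁ (congrArg Subtype.val (hfaith (zY : N) 1 (phi_le Q hzΦ)
      (one_mem Q) (LinearMap.ext fun w => by rw [hall zY w, e, one_smul, map_one]; rfl)))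
    have ht0 : t ≠ 0 := fun e => (χ zY).ne_zero (by rw [ht, e, map_zero])
    have h2 : t ^ (p - 1) = 1 := ZMod.pow_card_sub_one_eq_one ht0
    have h3 : (χ zY : k) ^ (p - 1) = 1 := by rw [ht, ← map_pow, h2, map_one]
    obtain ⟨i, hi⟩ := h.pQ ⟨z, phi_le Q hzΦ⟩
    have h4 : (χ zY : k) ^ (q ^ i) = 1 := by
      rw [← Units.val_pow_eq_pow_val, ← map_pow, show zY ^ (q ^ i) = 1 from
        Subtype.ext (Subtype.ext (congrArg Subtype.val hi :)), map_one, Units.val_one]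
    have hord : q ∣ p - 1 := by
      by_contra hnd
      refine hs1 (orderOf_eq_one_iff.1 (Nat.eq_one_of_dvd_coprimes
        ((h.qP.coprime_iff_not_dvd.2 hnd).pow_left i) (orderOf_dvd_of_pow_eq_one h4)
        (orderOf_dvd_of_pow_eq_one h3)))
    have h5 := Nat.le_of_dvd (by have := h.pP.two_le; omega) hord
    have h6 := h.qP.two_le
    have h7 := h.q_ne_two
    omega
  exact h.false_of_scalar hx₁ hy₁ hne₁ haΦ hfix hgP hgp hgfix hag hgΦ hfd hfaith h1 hpowQ hp3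
    (fun y hy => ⟨_, hall ⟨⟨y, hPhiN hy⟩, hy⟩⟩)

end Config

end CfsgLib.CFun.ZLen
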