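import Cfsg.Agent.Lib.CFun.PNilpotent
import Cfsg.Agent.Lib.CFun.OddZgroupCore
import Cfsg.Agent.Lib.PGroup.PqWeights
import Cfsg.Agent.Lib.Coprime.PGroupFrattini
import Cfsg.Prelude.Def_LocalEven

/-!
# No Engel action on a chief factor when a Sylow subgroup is maximal

In a finite group whose quotient by `O_p` has a normal `p`-complement and whose Sylow `p`-subgroup
is maximal, an element of the Sylow subgroup outside `O_p` is not Engel of class less than `p` on
a chief factor inside `O_p` which it does not centralize.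
-/

set_option autoImplicit false
set_option linter.style.haveILetI false
set_option linter.unusedSectionVars false

open Subgroup
open scoped commutatorElement
open CfsgLib.PGroup (dRep dRep_apply IsEigen ImgComm eq_zero_of_forall_eigen eigProj eigProj_ne
  eigProj_self twist twist_apply)

namespace CfsgLib.CFun.Engel

universe u

variable {p : ℕ} [hp : Fact p.Prime]

/-- On an irreducible `p`-module a normal `p`-group of operators is trivial. -/
theorem le_ker_of_isPGroup_map {X : Type u} [Group X] {W : Type u} [CommGroup W] [Finite W]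
    [Nontrivial W] (hW : IsPGroup p W) (c : X →* MulAut W)
    (hirr : ∀ U : Subgroup W, (∀ x : X, ∀ w ∈ U, c x w ∈ U) → U = ⊥ ∨ U = ⊤)
    (N : Subgroup X) [N.Normal] (hN : IsPGroup p (N.map c)) : N ≤ c.ker := by
  haveI : Finite (MulAut W) := Finite.of_injective (fun e : MulAut W => (e : W → W))
    fun a b h => MulEquiv.ext fun w => congrFun h w
  let U : Subgroup W :=
    { carrier := {w | ∀ n ∈ N, c n w = w}
      one_mem' := fun n _ => map_one _
      mul_mem' := fun {a b} ha hb n hn => by rw [map_mul, ha n hn, hb n hn]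
      inv_mem' := fun {a} ha n hn => by rw [map_inv, ha n hn] }
  obtain ⟨n0, hn0⟩ := IsPGroup.iff_card.1 hW
  have hd : p ∣ Nat.card W := by
    rw [hn0]
    refine dvd_pow_self p fun h0 => ?_
    rw [h0, pow_zero] at hn0
    exact (Finite.one_lt_card (α := W)).ne' hn0
  obtain ⟨b, hb, hne⟩ := hN.exists_fixed_point_of_prime_dvd_card_of_fixed_point W hd (a := (1 : W))
    (fun g => map_one (g : MulAut W))
  have hbU : b ∈ U := fun n hn => hb ⟨c n, mem_map_of_mem c hn⟩
  have hUt : U = ⊤ := by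
    refine (hirr U fun x w hw n hn => ?_).resolve_left fun e => hne ?_
    · have h1 := hw (x⁻¹ * n * x) (by simpa using (inferInstance : N.Normal).conj_mem n hn x⁻¹)
      rw [map_mul, map_mul, MulAut.mul_apply, MulAut.mul_apply] at h1
      have h2 := congrArg (c x) h1
      rwa [← MulAut.mul_apply, ← map_mul, mul_inv_cancel, map_one, MulAut.one_apply] at h2
    · rw [e, mem_bot] at hbU
      exact hbU.symm
  intro n hn
  refine MonoidHom.mem_ker.2 (MulEquiv.ext fun w => ?_)
  exact (show w ∈ U by rw [hUt]; exact mem_top w) n hn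

/-- A `p`-element moving an abelian `p'`-group of operators is not Engel of class below `p`. -/
theorem false_of_engel_abelian {W : Type u} [CommGroup W] [Finite W] (hWp : ∀ w : W, w ^ p = 1)
    {Y : Subgroup (MulAut W)} (hYc : ∀ a ∈ Y, ∀ b ∈ Y, a * b = b * a) (hYp : ¬ p ∣ Nat.card Y)
    {g : MulAut W} (hg : g ∈ normalizer (Y : Set (MulAut W))) {j : ℕ} (hgp : g ^ p ^ j = 1)
    {y₀ : MulAut W} (hy₀ : y₀ ∈ Y) (hne : g * y₀ * g⁻¹ ≠ y₀)
    (hengel : ∀ w : W, (fun v : W => v * (g⁻¹ v)⁻¹)^[p - 1] w = 1) : False := by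
  classical
  haveI : Finite (MulAut W) := Finite.of_injective (fun e : MulAut W => (e : W → W))
    fun a b h => MulEquiv.ext fun w => congrFun h w
  let k := AlgebraicClosure (ZMod p)
  haveI : CharP k p := charP_of_injective_algebraMap (algebraMap (ZMod p) k).injective p
  obtain ⟨hfd, -⟩ := CfsgLib.PGroup.finrank_addHom (V := W) hWp k
  set ρ := dRep k (MonoidHom.id (MulAut W)) with hρ
  haveI := Fintype.ofFinite Y
  have hYi : ImgComm ρ Y := fun a ha b hb => congrArg ρ (hYc a ha b hb)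
  have hYk : (Fintype.card Y : k) ≠ 0 := by
    rw [← Nat.card_eq_fintype_card]
    exact fun h => hYp ((CharP.cast_eq_zero_iff k p _).1 h)
  have hgy : g * y₀ * g⁻¹ ∈ Y := (mem_normalizer_iff.1 hg y₀).1 hy₀
  obtain ⟨χ, f, hf, hTf⟩ : ∃ (χ : Y →* kˣ) (f : Additive W →+ k), IsEigen ρ Y χ f ∧
      (ρ (g * y₀ * g⁻¹) - ρ y₀) f ≠ 0 := by
    by_contra hcon
    push Not at hcon
    refine hne ?_
    have e : ρ (g * y₀ * g⁻¹) = ρ y₀ := by
      refine sub_eq_zero.1 (eq_zero_of_forall_eigen ρ hYi hYk _ (fun y hy w => ?_) hcon)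
      rw [LinearMap.sub_apply, LinearMap.sub_apply, map_sub, ← PGroup.rep_mul_apply,
        ← PGroup.rep_mul_apply, ← PGroup.rep_mul_apply, ← PGroup.rep_mul_apply,
        hYc y hy _ hgy, hYc y hy _ hy₀]
    have e' : (g * y₀ * g⁻¹)⁻¹ = y₀⁻¹ :=
      MulEquiv.ext fun v => CfsgLib.CFun.ZLen.eq_of_dRep_eq hWp e v
    exact inv_inj.1 e'
  have hχ : χ ⟨_, hgy⟩ ≠ χ ⟨_, hy₀⟩ := fun e => hTf (by
    rw [LinearMap.sub_apply, show ρ (g * y₀ * g⁻¹) f = _ from hf ⟨_, hgy⟩,
      show ρ y₀ f = _ from hf ⟨_, hy₀⟩, e, sub_self])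
  have hf0 : f ≠ 0 := by rintro rfl; exact hTf (map_zero _)
  -- the stabilizer of the character
  let Stab : Subgroup (MulAut W) :=
    { carrier := {h | h ∈ normalizer (Y : Set (MulAut W)) ∧
        ∀ y (hy : y ∈ Y) (hy' : h * y * h⁻¹ ∈ Y), χ ⟨h * y * h⁻¹, hy'⟩ = χ ⟨y, hy⟩}
      one_mem' := ⟨one_mem _, fun y hy hy' => congrArg χ (Subtype.ext (by simp))⟩
      mul_mem' := fun {a b} ha hb => ⟨mul_mem ha.1 hb.1, fun y hy hy' => by
        have hby : b * y * b⁻¹ ∈ Y := (mem_normalizer_iff.1 hb.1 y).1 hy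
        rw [← hb.2 y hy hby, ← ha.2 _ hby ((mem_normalizer_iff.1 ha.1 _).1 hby)]
        exact congrArg χ (Subtype.ext (by simp [mul_assoc]))⟩
      inv_mem' := fun {a} ha => ⟨inv_mem ha.1, fun y hy hy' => by
        rw [← ha.2 _ hy' ((mem_normalizer_iff.1 ha.1 _).1 hy')]
        exact congrArg χ (Subtype.ext (by simp [mul_assoc]))⟩ }
  have hgS : g ∉ Stab := fun h => hχ (h.2 y₀ hy₀ hgy)
  have hgj : ∀ d : ℕ, 0 < d → d < p → g ^ d ∉ Stab := by
    intro d hd0 hdp hmem
    refine hgS ?_
    have hcop : Nat.Coprime d (p ^ j) := Nat.Coprime.pow_right j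
      (Nat.coprime_comm.1 (hp.out.coprime_iff_not_dvd.2 fun h => by
        have := Nat.le_of_dvd hd0 h; omega))
    have hcop' : Nat.Coprime d (orderOf g) :=
      hcop.coprime_dvd_right (orderOf_dvd_of_pow_eq_one hgp)
    have hz : g ∈ zpowers (g ^ d) := by
      obtain ⟨m, hm⟩ := exists_pow_eq_self_of_coprime hcop'
      exact ⟨(m : ℤ), show (g ^ d) ^ (m : ℤ) = g by rw [zpow_natCast, hm]⟩
    exact zpowers_le.2 hmem hz
  set w : ℕ → (Additive W →+ k) := fun i => ρ (g ^ i) f with hw
  have hwe : ∀ i, IsEigen ρ Y (twist Y (pow_mem hg i) χ) (w i) := fun i => hf.map ρ (pow_mem hg i)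
  have htw : ∀ i, 0 < i → i < p → twist Y (pow_mem hg i) χ ≠ χ := by
    intro i hi0 hip e
    refine hgj i hi0 hip ⟨pow_mem hg i, fun y hy hy' => ?_⟩
    have h := DFunLike.congr_fun e ⟨_, hy'⟩
    rw [twist_apply] at h
    rw [← h]
    exact congrArg χ (Subtype.ext (by simp [mul_assoc]))
  -- the dual Engel relation
  set T : Module.End k (Additive W →+ k) := 1 - ρ g with hT
  have hiter : ∀ (i : ℕ) (φ : Additive W →+ k) (v : W),
      (T ^ i) φ (Additive.ofMul v) = φ (Additive.ofMul ((fun v : W => v * (g⁻¹ v)⁻¹)^[i] v)) := by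
    intro i
    induction i with
    | zero => intro φ v; simp
    | succ i ih =>
      intro φ v
      rw [pow_succ, Module.End.mul_apply, ih, Function.iterate_succ', Function.comp_apply]
      rw [hT, LinearMap.sub_apply, AddMonoidHom.sub_apply, Module.End.one_apply, hρ, dRep_apply,
        ← map_sub]
      refine congrArg φ ?_
      rw [ofMul_mul, ofMul_inv, ← sub_eq_add_neg]
      rfl
  have hzero : (T ^ (p - 1)) f = 0 := by
    refine AddMonoidHom.ext fun v => ?_
    rw [show v = Additive.ofMul v.toMul from rfl, hiter, hengel, ofMul_one, map_zero,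
      AddMonoidHom.zero_apply]
  have hgeom : T ^ (p - 1) = ∑ i ∈ Finset.range p, (ρ g) ^ i := by
    have key : ((1 : Polynomial k) - Polynomial.X) ^ (p - 1) =
        ∑ i ∈ Finset.range p, Polynomial.X ^ i := by
      have h1 : ((1 : Polynomial k) - Polynomial.X) ≠ 0 := by
        intro h
        have := congrArg (Polynomial.eval 0) h
        simp at this
      refine mul_left_cancel₀ h1 ?_
      rw [← pow_succ', Nat.sub_add_cancel hp.out.one_le, mul_neg_geom_sum, sub_pow_char, one_pow]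
    have := congrArg (Polynomial.aeval (ρ g)) key
    simpa [map_sum] using this
  have hsum : ∑ i ∈ Finset.range p, w i = 0 := by
    rw [← hzero, hgeom, LinearMap.sum_apply]
    exact Finset.sum_congr rfl fun i _ => by rw [hw, ← map_pow]
  have hproj := congrArg (eigProj ρ χ) hsum
  rw [map_sum, map_zero, Finset.sum_eq_single 0 (fun i hi hi0 => ?_) (fun h => absurd
    (Finset.mem_range.2 hp.out.pos) h)] at hproj
  · have h0 : w 0 = f := by rw [hw]; simp
    rw [h0, eigProj_self ρ hf] at hproj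
    exact hf0 ((smul_eq_zero.1 hproj).resolve_left hYk)
  · exact eigProj_ne ρ (hwe i) (fun e => htw i (Nat.pos_of_ne_zero hi0) (Finset.mem_range.1 hi) e.symm)

/-- No Engel element on a chief factor. -/
theorem false_of_engel_chief {X : Type u} [Group X] [Finite X] (S : Sylow p X)
    (hmax : IsCoatom (S : Subgroup X))
    (hquot : ∀ hn : (Cfsg.pCore p X).Normal, haveI := hn;
      Cfsg.HasNormalPComplement p (X ⧸ Cfsg.pCore p X))
    {g : X} (hgS : g ∈ (S : Subgroup X)) {U V : Subgroup X} (hch : Cfsg.IsChiefFactor U V)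
    (hU : U ≤ Cfsg.pCore p X) (hE : Cfsg.iterCommutator U (zpowers g) (p - 1) ≤ V)
    (hne : ¬ ⁅U, zpowers g⁆ ≤ V) : False := by
  classical
  obtain ⟨hVU, hUn, hVn, hchief⟩ := hch
  haveI := hUn
  haveI := hVn
  haveI hQn := CfsgLib.Coprime.pCore_normal' (G := X) p
  set Q := Cfsg.pCore p X with hQdef
  have hQp : IsPGroup p Q := CfsgLib.Coprime.pCore_isPGroup p
  have hUp : IsPGroup p U := hQp.to_le hU
  -- the factor is elementary abelian
  have hΦ : (frattini U).map U.subtype ≤ V := by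
    haveI : ((frattini U).map U.subtype).Normal :=
      CfsgLib.Coprime.map_subtype_normal_of_characteristic U (frattini U)
    rcases hchief ((frattini U).map U.subtype ⊔ V) inferInstance le_sup_right
      (sup_le (map_subtype_le _) hVU.le) with h | h
    · exact le_sup_left.trans h.le
    · exfalso
      have h2 : V.subgroupOf U ⊔ frattini U = ⊤ := by
        apply Subgroup.map_injective U.subtype_injective
        rw [Subgroup.map_sup, ← MonoidHom.range_eq_map, range_subtype, subgroupOf,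
          Subgroup.map_comap_eq, range_subtype, inf_eq_right.2 hVU.le, sup_comm, h]
      have h3 := frattini_nongenerating h2
      rw [subgroupOf_eq_top] at h3
      exact hVU.not_ge h3
  set V₀ := V.subgroupOf U with hV₀
  haveI : V₀.Normal := inferInstance
  letI : CommGroup (U ⧸ V₀) := { (inferInstance : Group (U ⧸ V₀)) with
    mul_comm := fun u v => by
      obtain ⟨a, rfl⟩ := QuotientGroup.mk_surjective u
      obtain ⟨b, rfl⟩ := QuotientGroup.mk_surjective v
      rw [← QuotientGroup.mk_mul, ← QuotientGroup.mk_mul, QuotientGroup.eq]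
      have h1 := CfsgLib.Coprime.commutator_le_frattini hUp
        (commutator_mem_commutator (mem_top (b⁻¹)) (mem_top (a⁻¹)))
      rw [commutatorElement_def, inv_inv, inv_inv] at h1
      refine hΦ ⟨_, h1, ?_⟩
      simp [mul_assoc] }
  have hWp : ∀ v : U ⧸ V₀, v ^ p = 1 := fun v => by
    obtain ⟨a, rfl⟩ := QuotientGroup.mk_surjective v
    rw [← QuotientGroup.mk_pow, QuotientGroup.eq_one_iff]
    exact hΦ ⟨_, CfsgLib.Coprime.pow_mem_frattini hUp a, rfl⟩
  haveI : Nontrivial (U ⧸ V₀) := QuotientGroup.nontrivial_iff.2 (fun e => hVU.not_ge (by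
    rwa [hV₀, subgroupOf_eq_top] at e))
  have hinv : ∀ x : X, V₀.map (MulAut.conjNormal x : MulAut U).toMonoidHom = V₀ := by
    intro x
    ext y
    constructor
    · rintro ⟨z, hz, rfl⟩
      exact hVn.conj_mem _ hz x
    · intro hy
      refine ⟨(MulAut.conjNormal x⁻¹ : MulAut U) y, ?_, ?_⟩
      · exact hVn.conj_mem _ hy x⁻¹
      · exact Subtype.ext (by simp [mul_assoc])
  let c : X →* MulAut (U ⧸ V₀) :=
    { toFun := fun x => QuotientGroup.congr V₀ V₀ (MulAut.conjNormal x) (hinv x)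
      map_one' := MulEquiv.ext fun v => by
        induction v using QuotientGroup.induction_on with
        | _ a => exact congrArg QuotientGroup.mk (Subtype.ext (by simp))
      map_mul' := fun x y => MulEquiv.ext fun v => by
        induction v using QuotientGroup.induction_on with
        | _ a => exact congrArg QuotientGroup.mk (Subtype.ext (by simp [mul_assoc])) }
  have hc : ∀ (x : X) (a : U),
      c x (a : U ⧸ V₀) = (((MulAut.conjNormal x : MulAut U) a : U) : U ⧸ V₀) := fun _ _ => rfl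
  have hirr : ∀ W : Subgroup (U ⧸ V₀), (∀ x : X, ∀ w ∈ W, c x w ∈ W) → W = ⊥ ∨ W = ⊤ := by
    intro W hW
    set M := (W.comap (QuotientGroup.mk' V₀)).map U.subtype with hM
    haveI : M.Normal := ⟨by
      rintro _ ⟨a, ha, rfl⟩ x
      exact ⟨(MulAut.conjNormal x : MulAut U) a, hW x _ ha, by simp⟩⟩
    rcases hchief M inferInstance (fun v hv => ⟨⟨v, hVU.le hv⟩, by
        show ((⟨v, hVU.le hv⟩ : U) : U ⧸ V₀) ∈ W
        rw [(QuotientGroup.eq_one_iff _).2 (show (⟨v, hVU.le hv⟩ : U) ∈ V₀ from hv)]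
        exact one_mem W, rfl⟩) (map_subtype_le _) with h | h
    · left
      refine eq_bot_iff.2 fun w hw => ?_
      obtain ⟨a, rfl⟩ := QuotientGroup.mk_surjective w
      rw [mem_bot, QuotientGroup.eq_one_iff]
      show (a : X) ∈ V
      rw [← h]
      exact ⟨a, hw, rfl⟩
    · right
      refine eq_top_iff.2 fun w _ => ?_
      obtain ⟨a, rfl⟩ := QuotientGroup.mk_surjective w
      have : (a : X) ∈ M := by rw [h]; exact a.2
      obtain ⟨b, hb, e⟩ := this
      rw [← Subtype.ext (show (b : X) = a from e)]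
      exact hb
  have hWG : IsPGroup p (U ⧸ V₀) := fun v => ⟨1, by rw [pow_one]; exact hWp v⟩
  haveI : Finite (MulAut (U ⧸ V₀)) := Finite.of_injective (fun e : MulAut (U ⧸ V₀) => (e : _ → _))
    fun a b h => MulEquiv.ext fun w => congrFun h w
  have hQk : Q ≤ c.ker := le_ker_of_isPGroup_map hWG c hirr Q (hQp.map c)
  -- the image of the residual
  haveI hMn := CfsgLib.Fusion.pResidual_normal (G := X) (p := p)
  set M := Cfsg.pResidual p X with hMdef
  set Y := M.map c with hY
  have hYp : ¬ p ∣ Nat.card Y := by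
    rw [CfsgLib.Fusion.not_dvd_card_iff_forall_coprime_orderOf]
    rintro _ ⟨m, hm, rfl⟩
    have h1 := CfsgLib.Fusion.hasNormalPComplement_iff_coprime.1 (hquot hQn) _
      (map_pResidual_le (QuotientGroup.mk' Q) (mem_map_of_mem _ hm))
    refine Nat.Coprime.coprime_dvd_left (orderOf_dvd_of_pow_eq_one ?_) h1
    rw [← map_pow]
    refine hQk ((QuotientGroup.eq_one_iff _).1 ?_)
    rw [← QuotientGroup.mk'_apply, map_pow]
    exact pow_orderOf_eq_one _
  set P := (S : Subgroup X).map c with hP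
  have hPp : IsPGroup p P := S.2.map c
  have hPY : P ≤ normalizer (Y : Set (MulAut (U ⧸ V₀))) := by
    rintro _ ⟨s, -, rfl⟩
    exact Subgroup.le_normalizer_map c ⟨s, by rw [Subgroup.normalizer_eq_top]; exact mem_top s, rfl⟩
  have hmin : ∀ Y₁ : Subgroup (MulAut (U ⧸ V₀)), Y₁ ≤ Y →
      P ≤ normalizer (Y₁ : Set (MulAut (U ⧸ V₀))) → Y₁ = ⊥ ∨ Y₁ = Y := by
    intro Y₁ hY₁ hn
    have hle : (S : Subgroup X) ≤ (Y₁ ⊔ P).comap c := by
      rw [← Subgroup.map_le_iff_le_comap]; exact le_sup_right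
    have htriv : ∀ y ∈ Y, y ∈ P → y = 1 := fun y hy hyP =>
      CfsgLib.Fusion.eq_one_of_pGroup_of_coprime hPp hyP
        ((CfsgLib.Fusion.not_dvd_card_iff_forall_coprime_orderOf Y).1 hYp y hy)
    rcases eq_or_lt_of_le hle with h | h
    · left
      refine eq_bot_iff.2 fun y hy => mem_bot.2 (htriv y (hY₁ hy) ?_)
      obtain ⟨m, -, rfl⟩ := hY₁ hy
      refine mem_map_of_mem c ?_
      rw [h, mem_comap]
      exact mem_sup_left hy
    · right
      have htop := hmax.2 _ h
      refine le_antisymm hY₁ fun y hy => ?_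
      obtain ⟨m, -, rfl⟩ := hy.out
      have hy' : c m ∈ ((Y₁ ⊔ P : Subgroup (MulAut (U ⧸ V₀))) : Set (MulAut (U ⧸ V₀))) :=
        show m ∈ (Y₁ ⊔ P).comap c by rw [htop]; exact mem_top m
      rw [Subgroup.coe_mul_of_right_le_normalizer_left _ _ hn] at hy'
      obtain ⟨a, ha, b, hb, e⟩ := Set.mem_mul.1 hy'
      have hb1 : b = 1 := htriv b (by
        rw [show b = a⁻¹ * c m by rw [← e, inv_mul_cancel_left]]
        exact mul_mem (inv_mem (hY₁ ha)) hy) hb
      rw [← e, hb1, mul_one]; exact ha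
  have hYc : ∀ a ∈ Y, ∀ b ∈ Y, a * b = b * a := by
    rcases eq_or_ne Y ⊥ with hb | hb
    · intro a ha b hb'
      rw [hb, mem_bot] at ha hb'
      rw [ha, hb']
    obtain ⟨q, hq, hqd⟩ := Nat.exists_prime_and_dvd ((Subgroup.one_lt_card_iff_ne_bot Y).2 hb).ne'
    haveI := Fact.mk hq
    have hcop : (Nat.card P).Coprime (Nat.card Y) := by
      obtain ⟨i, hi⟩ := IsPGroup.iff_card.1 hPp
      rw [hi]
      exact (hp.out.coprime_iff_not_dvd.2 hYp).pow_left i
    haveI := hPp.isNilpotent
    obtain ⟨R, hR, hRP⟩ := CfsgLib.Coprime.exists_invariant_sylow hPY hcop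
      (Or.inl inferInstance) q
    have hRne : R ≠ ⊥ := by
      intro e
      have h1 := hR.2
      rw [e, Subgroup.card_bot] at h1
      have hpos := hq.factorization_pos_of_dvd Nat.card_pos.ne' hqd
      exact (Nat.one_lt_pow hpos.ne' hq.one_lt).ne h1
    have hRY : R = Y := (hmin R hR.1 hRP).resolve_left hRne
    have hYq : IsPGroup q Y := hRY ▸ IsPGroup.of_card hR.2
    haveI := hYq.isNilpotent
    haveI : Nontrivial Y := (Subgroup.nontrivial_iff_ne_bot Y).2 hb
    have hlt : (commutator Y).map Y.subtype ≠ Y := by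
      intro h
      refine (Group.IsSolvable.commutator_lt_top_of_nontrivial Y).ne ?_
      rw [← Subgroup.map_injective Y.subtype_injective |>.eq_iff, h, ← MonoidHom.range_eq_map,
        range_subtype]
    have := (hmin _ (map_subtype_le _) (by
      rw [Subgroup.map_subtype_commutator]
      intro z hz
      refine mem_normalizer_fintype ?_
      intro w hw
      have hzY := hPY hz
      have e : (⁅Y, Y⁆).map (MulAut.conj z).toMonoidHom = ⁅Y, Y⁆ := by
        rw [Subgroup.map_commutator, show Y.map (MulAut.conj z).toMonoidHom = Y from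
          CfsgLib.Fusion.conjBy_eq_iff.2 hzY]
      exact e.le (mem_map_of_mem _ hw))).resolve_right hlt
    rw [Subgroup.map_subtype_commutator, commutator_eq_bot_iff_le_centralizer] at this
    exact fun a ha b hb => (mem_centralizer_iff.1 (this hb) a ha)
  have hcg : c g ≠ 1 := by
    intro h
    refine hne (commutator_le.2 fun u hu s hs => ?_)
    obtain ⟨i, rfl⟩ := mem_zpowers_iff.1 hs
    have h1 : c (g ^ i) ((⟨u, hu⟩ : U) : U ⧸ V₀) = ((⟨u, hu⟩ : U) : U ⧸ V₀) := by
      rw [map_zpow, h, one_zpow]; rfl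
    rw [hc, eq_comm, QuotientGroup.eq] at h1
    have h2 := inv_mem (hVn.conj_mem _ h1 u)
    show ⁅u, g ^ i⁆ ∈ V
    rw [commutatorElement_def]
    simpa [mul_assoc, -map_zpow] using h2
  obtain ⟨y₀, hy₀, hy₀g⟩ : ∃ y₀ ∈ Y, c g * y₀ * (c g)⁻¹ ≠ y₀ := by
    by_contra hcon
    push Not at hcon
    set C := (centralizer (Y : Set (MulAut (U ⧸ V₀)))).comap c with hC
    haveI hCn : C.Normal := ⟨fun x hx z => mem_centralizer_iff.2 fun y hy => by
      obtain ⟨m, hm, rfl⟩ := hy.out
      have h1 := mem_centralizer_iff.1 hx _ (mem_map_of_mem c (hMn.conj_mem' m hm z))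
      rw [← map_mul, ← map_mul]
      rw [← map_mul, ← map_mul] at h1
      have h2 := congrArg (fun a => c z * a * (c z)⁻¹) h1
      simp only [← map_inv, ← map_mul] at h2
      simpa [mul_assoc] using h2⟩
    set D := C ⊓ (S : Subgroup X) with hD
    set D₁ := (D.map c).comap c with hD₁
    have hstable : ∀ x : X, ∀ d ∈ D, c x * c d * (c x)⁻¹ ∈ D.map c := by
      have htop : (S : Subgroup X) ⊔ M = ⊤ := by
        rw [sup_comm]; exact CfsgLib.Fusion.pResidual_sup_sylow S
      intro x
      have hx : x ∈ ((S : Subgroup X) ⊔ M) := by rw [htop]; exact mem_top x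
      obtain ⟨s, hs, m, hm, rfl⟩ := Subgroup.mem_sup_of_normal_right.1 hx
      intro d hd
      have hdm : c m * c d * (c m)⁻¹ = c d := by
        rw [mem_centralizer_iff.1 hd.1 _ (mem_map_of_mem c hm), mul_inv_cancel_right]
      rw [map_mul, mul_inv_rev, show c s * c m * c d * ((c m)⁻¹ * (c s)⁻¹) =
        c s * (c m * c d * (c m)⁻¹) * (c s)⁻¹ by group, hdm, ← map_mul, ← map_inv, ← map_mul]
      exact mem_map_of_mem c (Subgroup.mem_inf.2 ⟨hCn.conj_mem d hd.1 s,
        (S : Subgroup X).mul_mem ((S : Subgroup X).mul_mem hs hd.2) ((S : Subgroup X).inv_mem hs)⟩)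
    haveI : D₁.Normal := ⟨fun x hx z => by
      obtain ⟨d, hd, e⟩ := (mem_comap.1 hx).out
      rw [hD₁, mem_comap, map_mul, map_mul, map_inv, ← e]
      exact hstable z d hd⟩
    have hD₁p : IsPGroup p (D₁.map c) :=
      ((S.2.to_le (inf_le_right : D ≤ _)).map c).to_le (map_comap_le _ _)
    refine hcg (MonoidHom.mem_ker.1 (le_ker_of_isPGroup_map hWG c hirr D₁ hD₁p ?_))
    refine mem_map_of_mem c ⟨mem_centralizer_iff.2 fun y hy => ?_, hgS⟩
    exact (mul_inv_eq_iff_eq_mul.1 (hcon y hy)).symm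
  obtain ⟨j, hj⟩ := S.2 ⟨g, hgS⟩
  refine false_of_engel_abelian hWp hYc hYp (hPY (mem_map_of_mem c hgS)) (j := j)
    (by rw [← map_pow, show g ^ p ^ j = 1 from congrArg Subtype.val hj, map_one]) hy₀ hy₀g ?_
  intro v
  obtain ⟨a, rfl⟩ := QuotientGroup.mk_surjective v
  have key : ∀ i : ℕ, ∃ b : U, (b : X) ∈ Cfsg.iterCommutator U (zpowers g) i ∧
      (fun v : U ⧸ V₀ => v * ((c g)⁻¹ v)⁻¹)^[i] (a : U ⧸ V₀) = (b : U ⧸ V₀) := by
    intro i
    induction i with
    | zero => exact ⟨a, a.2, rfl⟩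
    | succ i ih =>
      obtain ⟨b, hb, e⟩ := ih
      refine ⟨b * ((MulAut.conjNormal g⁻¹ : MulAut U) b)⁻¹, ?_, ?_⟩
      · have := commutator_mem_commutator hb (inv_mem (mem_zpowers g))
        rw [commutatorElement_def] at this
        show _ ∈ ⁅Cfsg.iterCommutator U (zpowers g) i, zpowers g⁆
        simpa [mul_assoc] using this
      · rw [Function.iterate_succ', Function.comp_apply, e]
        show (b : U ⧸ V₀) * ((c g)⁻¹ (b : U ⧸ V₀))⁻¹ = _
        rw [← map_inv c g, hc, ← QuotientGroup.mk_inv, ← QuotientGroup.mk_mul]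
  obtain ⟨b, hb, e⟩ := key (p - 1)
  rw [e, QuotientGroup.eq_one_iff]
  exact hE hb

end CfsgLib.CFun.Engel
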