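import Mathlib.GroupTheory.Commutator.Basic
import Mathlib.GroupTheory.PGroup
import Mathlib.GroupTheory.Subgroup.Centralizer
import Mathlib.GroupTheory.Nilpotent
import Mathlib.GroupTheory.Sylow

/-!
# Commutator tools for conjugacy functors
-/

set_option autoImplicit false

open Subgroup
open scoped commutatorElement

namespace CfsgLib.CFun

variable {G : Type*} [Group G]

theorem commutator_zpowers_le {U H : Subgroup G} {g : G} (hg : g ∈ H) :
    ⁅U, zpowers g⁆ ≤ ⁅U, H⁆ := commutator_mono le_rfl (zpowers_le.2 hg)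

/-- Central elements of `B`. -/
abbrev cen (B : Subgroup G) : Subgroup G := B ⊓ centralizer (B : Set G)

theorem cen_commutator_eq_bot (B : Subgroup G) : ⁅cen B, B⁆ = ⊥ :=
  commutator_eq_bot_iff_le_centralizer.2 inf_le_right

theorem commute_of_mem_cen {B : Subgroup G} {z x : G} (hz : z ∈ cen B) (hx : x ∈ B) :
    Commute z x := (mem_centralizer_iff.1 hz.2 x hx).symm

theorem commutator_le_cen_of_classTwo {B : Subgroup G} (h : ⁅B, B⁆ ≤ centralizer (B : Set G)) :
    ⁅B, B⁆ ≤ cen B := le_inf (commutator_le_self B) h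

/-- `H` normalizes `⁅A, B⁆` when it normalizes `A` and `B`. -/
theorem le_normalizer_commutator {A B H : Subgroup G} (hA : H ≤ normalizer (A : Set G))
    (hB : H ≤ normalizer (B : Set G)) : H ≤ normalizer ((⁅A, B⁆ : Subgroup G) : Set G) := by
  intro h hh
  rw [mem_normalizer_iff_map_conj_eq, map_commutator, mem_normalizer_iff_map_conj_eq.1 (hA hh),
    mem_normalizer_iff_map_conj_eq.1 (hB hh)]

theorem le_normalizer_centralizer {A H : Subgroup G} (hA : H ≤ normalizer (A : Set G)) :
    H ≤ normalizer ((centralizer (A : Set G) : Subgroup G) : Set G) := by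
  intro h hh
  refine mem_normalizer_iff.2 fun n => ?_
  simp only [mem_centralizer_iff, SetLike.mem_coe]
  have hn := mem_normalizer_iff.1 (hA hh)
  constructor
  · intro hc a ha
    have ha' : h⁻¹ * a * h ∈ A := (hn _).2 (by simpa [mul_assoc] using ha)
    have := congrArg (fun y => h * y * h⁻¹) (hc _ ha')
    simpa [mul_assoc] using this
  · intro hc a ha
    have := congrArg (fun y => h⁻¹ * y * h) (hc _ ((hn a).1 ha))
    simpa [mul_assoc] using this

theorem le_normalizer_cen {B H : Subgroup G} (hB : H ≤ normalizer (B : Set G)) :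
    H ≤ normalizer ((cen B : Subgroup G) : Set G) := by
  intro h hh
  refine mem_normalizer_iff.2 fun n => ?_
  simp only [mem_inf]
  exact and_congr (mem_normalizer_iff.1 (hB hh) n)
    (mem_normalizer_iff.1 (le_normalizer_centralizer hB hh) n)

/-- A commutator with a join of subgroups of an abelian group normalized by `B`. -/
theorem commutator_sup_le {H K B : Subgroup G} (hB1 : B ≤ normalizer (H : Set G))
    (hB2 : B ≤ normalizer (K : Set G)) (hc : ∀ h ∈ H, ∀ k ∈ K, Commute h k) :
    ⁅H ⊔ K, B⁆ ≤ ⁅H, B⁆ ⊔ ⁅K, B⁆ := by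
  have hHK : H ≤ normalizer (K : Set G) := fun h hh => mem_normalizer_iff.2 fun n => by
    constructor
    · intro hn
      rwa [(hc h hh n hn).eq, mul_inv_cancel_right]
    · intro hn
      have e := hc h hh _ hn
      have : n = h⁻¹ * (h * n * h⁻¹) * h := by group
      rw [this, mul_assoc, ← e.eq, inv_mul_cancel_left]
      exact hn
  rw [commutator_le]
  intro x hx b hb
  rw [← SetLike.mem_coe, coe_mul_of_left_le_normalizer_right H K hHK, Set.mem_mul] at hx
  obtain ⟨h, hh, k, hk, rfl⟩ := hx
  have hkb : ⁅k, b⁆ ∈ K := by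
    rw [commutatorElement_def, mul_assoc k b, mul_assoc k]
    exact mul_mem hk ((mem_normalizer_iff.1 (hB2 hb) _).1 (inv_mem hk))
  have e : ⁅h * k, b⁆ = h * ⁅k, b⁆ * h⁻¹ * ⁅h, b⁆ := by
    simp only [commutatorElement_def]; group
  rw [e, (hc h hh _ hkb).eq, mul_inv_cancel_right]
  exact mul_mem (mem_sup_right (commutator_mem_commutator hk hb))
    (mem_sup_left (commutator_mem_commutator hh hb))

/-- In a finite `p`-group, a subgroup normalized by `H` that properly contains a subgroup
normalized by `H` has an element outside the smaller one, fixed by `H` modulo it. -/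
theorem exists_commutator_le [Finite G] {p : ℕ} [Fact p.Prime] (hG : IsPGroup p G)
    {A C H : Subgroup G} (hA : H ≤ normalizer (A : Set G)) (hC : H ≤ normalizer (C : Set G))
    (hCA : C ≤ normalizer (A : Set G)) (hne : ¬ C ≤ A) :
    ∃ x ∈ C, x ∉ A ∧ ⁅zpowers x, H⁆ ≤ A ∧ ∀ h ∈ H, ⁅x, h⁆ ∈ A ⊓ C := by
  haveI := hG.isNilpotent
  set K := H ⊔ C with hK
  haveI : Group.IsNilpotent K := inferInstance
  -- the lower central series of the action
  obtain ⟨n, hn⟩ : ∃ n, Subgroup.lowerCentralSeries (⊤ : Subgroup G) n = ⊥ :=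
    Subgroup.nilpotent_iff_lowerCentralSeries.1 inferInstance
  let c : ℕ → Subgroup G := fun i => Nat.rec C (fun _ X => ⁅X, H⁆) i
  have hc : ∀ i, c i ≤ Subgroup.lowerCentralSeries (⊤ : Subgroup G) i := by
    intro i
    induction i with
    | zero => exact le_top
    | succ i ih => exact commutator_mono ih le_top
  have hcC : ∀ i, c i ≤ C := by
    intro i
    induction i with
    | zero => exact le_rfl
    | succ i ih => exact (commutator_mono ih le_rfl).trans (le_normalizer_iff_commutator_le_left.1 hC)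
  have hex : ∃ i, c i ≤ A := ⟨n, (hc n).trans (hn.le.trans bot_le)⟩
  have hex0 : ∃ i, ¬ c i ≤ A ∧ c (i + 1) ≤ A := by
    by_contra hno
    push Not at hno
    obtain ⟨j, hj⟩ := hex
    exact (Nat.rec (motive := fun i => ¬ c i ≤ A) hne (fun i ih => hno i ih) j) hj
  obtain ⟨i, hi0, hi1⟩ := hex0
  obtain ⟨x, hxc, hxA⟩ := SetLike.not_le_iff_exists.1 hi0
  have hspec : ⁅c i, H⁆ ≤ A := hi1
  exact ⟨x, hcC i hxc, hxA, (commutator_mono (zpowers_le.2 hxc) le_rfl).trans hspec,
    fun h hh => mem_inf.2 ⟨hspec (commutator_mem_commutator hxc hh),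
      (le_normalizer_iff_commutator_le_left.1 hC) (commutator_mem_commutator (hcC i hxc) hh)⟩⟩

end CfsgLib.CFun
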