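import Cfsg.Agent.Lib.CFun.FusionSection

/-!
# Control of strong fusion by a family of functors, from the constrained sections
-/

set_option autoImplicit false
set_option linter.style.haveILetI false

open Subgroup
open CfsgLib.Fusion (conjBy mem_conjBy conj_mem_conjBy conjBy_le_iff conjBy_eq_iff conjBy_conjBy
  conjBy_mono)

namespace CfsgLib.CFun

universe u

variable {p : ℕ} {𝓦 : Set (∀ (Q : Type u) [Group Q], Subgroup Q)}

/-- Conjugation inside `S` is realised by chains through the normalizers of the values at `S`. -/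
def StrongAtF {G : Type u} [Group G] (𝓦 : Set (∀ (Q : Type u) [Group Q], Subgroup Q))
    (S : Subgroup G) : Prop :=
  ∀ (A : Set G) (g : G), (∀ a ∈ A, a ∈ S) → (∀ a ∈ A, g * a * g⁻¹ ∈ S) →
    Reach (indFam G 𝓦) ⊤ S A g

/-- The family controls strong fusion in the whole group. -/
abbrev FamCtrl (p : ℕ) (𝓦 : Set (∀ (Q : Type u) [Group Q], Subgroup Q)) (G : Type u) [Group G] :
    Prop :=
  Cfsg.FamilyControlsStrongFusionIn p (indFam G 𝓦) ⊤

section general

variable {G : Type u} [Group G] {F : Set (Subgroup G → Subgroup G)} {H H' T : Subgroup G}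
  {A : Set G}

theorem chain_mono_group {c : G} (h : Chain F H T A c) (hle : H ≤ H') : Chain F H' T A c := by
  induction h with
  | one h => exact .one h
  | step c W w _ hW hw hm ih =>
    exact .step c W w ih hW (mem_inf.2 ⟨hle (mem_inf.1 hw).1, (mem_inf.1 hw).2⟩) hm

theorem reach_mono_group {g : G} (h : Reach F H T A g) (hle : H ≤ H') : Reach F H' T A g := by
  obtain ⟨c, hc, he⟩ := h
  exact ⟨c, chain_mono_group hc hle, he⟩

theorem reach_step {W : Subgroup G → Subgroup G} (hW : W ∈ F) {w : G}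
    (hw : w ∈ H ⊓ normalizer ((W T : Subgroup G) : Set G)) (hA : ∀ a ∈ A, a ∈ T)
    (hwA : ∀ a ∈ A, w * a * w⁻¹ ∈ T) : Reach F H T A w :=
  ⟨w * 1, .step 1 W w (.one hA) hW hw (fun a ha => by rw [mul_one]; exact hwA a ha),
    fun _ _ => by rw [mul_one]⟩

theorem reach_congr {g g' : G} (h : Reach F H T A g) (he : ∀ a ∈ A, g * a * g⁻¹ = g' * a * g'⁻¹) :
    Reach F H T A g' := by
  obtain ⟨c, hc, hce⟩ := h
  exact ⟨c, hc, fun a ha => (hce a ha).trans (he a ha)⟩

theorem reach_one (hA : ∀ a ∈ A, a ∈ T) : Reach F H T A (1 : G) :=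
  ⟨1, .one hA, fun _ _ => rfl⟩

end general

variable [Fact p.Prime]

theorem famCtrl_of_strongAtF {G : Type u} [Group G] [Finite G] (S : Sylow p G)
    (h : StrongAtF 𝓦 (S : Subgroup G)) : FamCtrl p 𝓦 G := by
  refine ⟨S, le_top, S.2, sylow_not_dvd_relIndex_top S, fun A g _ hA hgA => ?_⟩
  obtain ⟨c, hc, hce⟩ := h A g hA fun a ha => hgA ⟨a, ha, rfl⟩
  obtain ⟨n, f, f0, fs, fm, fl⟩ := hc.to_fin
  exact ⟨n, f, f0, fs, fm, fun a ha => fl ▸ hce a ha⟩

theorem strongAtF_of_famCtrl {G : Type u} [Group G] [Finite G]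
    (h𝓦 : ∀ W ∈ 𝓦, Cfsg.IsCharPFunctor.{u} p W) (h : FamCtrl p 𝓦 G) (S : Sylow p G) :
    StrongAtF 𝓦 (S : Subgroup G) := fun _ g hA hgA =>
  reach_of_control (indFam_isConjugacyFunctor h𝓦) h le_top S.2 (sylow_not_dvd_relIndex_top S)
    (mem_top g) hA hgA

theorem famIn_map {G G' : Type u} [Group G] [Group G'] [Finite G]
    (h𝓦 : ∀ W ∈ 𝓦, Cfsg.IsCharPFunctor.{u} p W) (f : G →* G') (hf : Function.Injective f)
    {H : Subgroup G} (h : Cfsg.FamilyControlsStrongFusionIn p (indFam G 𝓦) H) :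
    Cfsg.FamilyControlsStrongFusionIn p (indFam G' 𝓦) (H.map f) := by
  obtain ⟨T, hTH, hT, hTi, hc⟩ := h
  refine ⟨T.map f, map_mono hTH, hT.map f, ?_, ?_⟩
  · rwa [Subgroup.relIndex_map_map_of_injective _ _ hf]
  · intro A h' hh hA hhA
    obtain ⟨h, hh', rfl⟩ := hh
    obtain ⟨n, c, c0, cs, cm, ce⟩ := hc (f ⁻¹' A) h hh'
      (fun a ha => (mem_map_iff_mem hf).1 (hA ha)) (by
        rintro _ ⟨a, ha, rfl⟩
        exact (mem_map_iff_mem hf).1 (by simpa using hhA ⟨f a, ha, rfl⟩))
    refine ⟨n, fun i => f (c i), by simp [c0], fun i => ?_, fun i => ?_, ?_⟩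
    · obtain ⟨_, ⟨W, hW, rfl⟩, hw⟩ := cs i
      refine ⟨_, ⟨W, hW, rfl⟩, ?_⟩
      show _ ∈ H.map f ⊓ normalizer ((Cfsg.inducedFunctor W (T.map f) : Subgroup G') : Set G')
      rw [induced_map (h𝓦 W hW) hT f hf, ← map_inf_normalizer f hf, ← map_inv, ← map_mul]
      exact mem_map_of_mem f hw
    · rintro _ ⟨a', ha', rfl⟩
      obtain ⟨a, -, rfl⟩ := hA ha'
      refine ⟨c i * a * (c i)⁻¹, cm i ⟨a, ha', rfl⟩, ?_⟩
      simp
    · intro a' ha'
      obtain ⟨a, -, rfl⟩ := hA ha'
      simpa using congrArg f (ce a ha')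

theorem famCtrl_congr {G G' : Type u} [Group G] [Group G'] [Finite G]
    (h𝓦 : ∀ W ∈ 𝓦, Cfsg.IsCharPFunctor.{u} p W) (e : G ≃* G') (h : FamCtrl p 𝓦 G) :
    FamCtrl p 𝓦 G' := by
  have := famIn_map h𝓦 e.toMonoidHom e.injective h
  rwa [Subgroup.map_top_of_surjective _ e.surjective] at this

theorem famIn_of_subgroup {G : Type u} [Group G] [Finite G]
    (h𝓦 : ∀ W ∈ 𝓦, Cfsg.IsCharPFunctor.{u} p W) (H : Subgroup G) (h : FamCtrl p 𝓦 H) :
    Cfsg.FamilyControlsStrongFusionIn p (indFam G 𝓦) H := by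
  have := famIn_map h𝓦 H.subtype H.subtype_injective h
  rwa [← MonoidHom.range_eq_map, Subgroup.range_subtype] at this

variable {G : Type u} [Group G] [Finite G]

/-- A normal `p'`-subgroup may be factored out. -/
theorem strongAtF_of_quotient_pPrime (h𝓦 : ∀ W ∈ 𝓦, Cfsg.IsCharPFunctor.{u} p W) (N : Subgroup G)
    [N.Normal] (hN : ¬ p ∣ Nat.card N) (h : FamCtrl p 𝓦 (G ⧸ N)) (S : Sylow p G) :
    StrongAtF 𝓦 (S : Subgroup G) := by
  intro A g hA hgA
  set π := QuotientGroup.mk' N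
  have hπ := QuotientGroup.mk'_surjective N
  set S0 : Subgroup G := (S : Subgroup G) with hS0
  have hinj : ∀ x ∈ S0, π x = 1 → x = 1 := fun x hx h1 =>
    CfsgLib.Fusion.eq_one_of_pGroup_of_coprime S.2 hx
      ((CfsgLib.Fusion.not_dvd_card_iff_forall_coprime_orderOf N).1 hN x
        ((QuotientGroup.eq_one_iff x).1 h1))
  let e : S0 ≃* S0.map π :=
    MulEquiv.ofBijective (π.subgroupMap S0) ⟨(injective_iff_map_eq_one _).2 fun x hx =>
      Subtype.ext (hinj x x.2 (congrArg Subtype.val hx)), π.subgroupMap_surjective _⟩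
  -- lifting one step
  have lift : ∀ W ∈ 𝓦, ∀ (B : Set G), (∀ b ∈ B, b ∈ S0) → ∀ y ∈ normalizer
      ((Cfsg.inducedFunctor W (S0.map π) : Subgroup (G ⧸ N)) : Set (G ⧸ N)),
      (∀ b ∈ B, y * π b * y⁻¹ ∈ S0.map π) →
      ∃ x ∈ normalizer ((Cfsg.inducedFunctor W S0 : Subgroup G) : Set G),
        ∀ b ∈ B, x * b * x⁻¹ ∈ S0 ∧ π (x * b * x⁻¹) = y * π b * y⁻¹ := by
    intro W hW B hB y hy hyB
    rw [induced_of_equiv (h𝓦 W hW) S.2 e π fun _ => rfl] at hy
    set X := Cfsg.inducedFunctor W S0 with hX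
    obtain ⟨n, hn, rfl⟩ := CfsgLib.Fusion.normalizer_map_le (p := p) N hN
      (S.2.to_le (induced_le W _)) hy
    have hSX : S0 ≤ normalizer (X : Set G) :=
      le_normalizer.trans (cfun_normalizer_le (isConjugacyFunctor_induced (h𝓦 W hW)) S.2)
    set M := (S0.map π).comap π ⊓ normalizer (X : Set G) with hM
    have hSM : S0 ≤ M := le_inf (le_comap_map _ _) hSX
    have hP : Subgroup.closure B ≤ S0 := (closure_le _).2 hB
    have hR : conjBy n (Subgroup.closure B) ≤ M := by
      show (Subgroup.closure B).map (MulAut.conj n).toMonoidHom ≤ M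
      rw [MonoidHom.map_closure, closure_le]
      rintro _ ⟨a, ha, rfl⟩
      refine mem_inf.2 ⟨?_, mul_mem (mul_mem hn (hSX (hB a ha))) (inv_mem hn)⟩
      rw [mem_comap]
      show π (n * a * n⁻¹) ∈ S0.map π
      rw [map_mul, map_mul, map_inv]
      exact hyB a ha
    obtain ⟨l, hl, hle⟩ := CfsgLib.Fusion.exists_conj_le_of_not_dvd_relIndex S.2 hSM
      (fun hd => S.not_dvd_index (hd.trans (relIndex_dvd_index_of_le hSM)))
      (CfsgLib.Fusion.isPGroup_conjBy n (S.2.to_le hP)) hR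
    rw [CfsgLib.Fusion.conjBy_conjBy] at hle
    obtain ⟨⟨s, hs, hsl⟩, hlX⟩ := hl
    refine ⟨s⁻¹ * l * n, mul_mem (mul_mem (inv_mem (hSX hs)) hlX) hn, fun a ha => ⟨?_, ?_⟩⟩
    · have := conjBy_le_iff.1 hle a (subset_closure ha)
      convert mul_mem (mul_mem (inv_mem hs) this) hs using 1
      group
    · simp only [map_mul, map_inv, hsl, inv_mul_cancel, one_mul, π]
  obtain ⟨c, hc, hce⟩ := strongAtF_of_famCtrl h𝓦 h (S.mapSurjective hπ) (π '' A) (π g)
    (by rintro _ ⟨a, ha, rfl⟩; exact mem_map_of_mem π (hA a ha))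
    (by
      rintro _ ⟨a, ha, rfl⟩
      rw [← map_inv, ← map_mul, ← map_mul]
      exact mem_map_of_mem π (hgA a ha))
  suffices key : ∃ d, Chain (indFam G 𝓦) ⊤ S0 A d ∧ ∀ a ∈ A,
      π (d * a * d⁻¹) = c * π a * c⁻¹ by
    obtain ⟨d, hd, hde⟩ := key
    refine ⟨d, hd, fun a ha => ?_⟩
    refine mul_inv_eq_one.1 (hinj _ (mul_mem (hd.mem a ha) (inv_mem (hgA a ha))) ?_)
    rw [map_mul, map_inv, mul_inv_eq_one, hde a ha, hce (π a) ⟨a, ha, rfl⟩, map_mul, map_mul,
      map_inv]
  clear hce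
  induction hc with
  | one _ => exact ⟨1, .one hA, fun a _ => by simp⟩
  | step c W' w hc hW' hw hm ih =>
    obtain ⟨W, hW, rfl⟩ := hW'
    obtain ⟨d, hd, hde⟩ := ih
    obtain ⟨x, hx, hxe⟩ := lift W hW ((fun a => d * a * d⁻¹) '' A)
      (by rintro _ ⟨a, ha, rfl⟩; exact hd.mem a ha) w (mem_inf.1 hw).2 (by
        rintro _ ⟨a, ha, rfl⟩
        rw [hde a ha]
        have hm' : w * c * π a * (w * c)⁻¹ ∈ S0.map π := hm (π a) ⟨a, ha, rfl⟩
        convert hm' using 1
        group)
    refine ⟨x * d, .step d _ x hd ⟨W, hW, rfl⟩ (mem_inf.2 ⟨mem_top x, hx⟩) fun a ha => ?_,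
      fun a ha => ?_⟩
    · convert (hxe _ ⟨a, ha, rfl⟩).1 using 1
      group
    · rw [show x * d * a * (x * d)⁻¹ = x * (d * a * d⁻¹) * x⁻¹ by group,
        (hxe _ ⟨a, ha, rfl⟩).2, hde a ha]
      group

/-- The inductive step: proper subgroups and proper quotients controlled. -/
theorem strongAtF_of_minimal (h𝓦 : ∀ W ∈ 𝓦, Cfsg.IsCharPFunctor.{u} p W)
    (hsub : ∀ H : Subgroup G, H ≠ ⊤ → FamCtrl p 𝓦 H)
    (hquo : ∀ (N : Subgroup G) [N.Normal], N ≠ ⊥ → FamCtrl p 𝓦 (G ⧸ N))
    (hloc : centralizer ((Cfsg.pCore p G : Subgroup G) : Set G) ≤ Cfsg.pCore p G → FamCtrl p 𝓦 G)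
    (S : Sylow p G) : StrongAtF 𝓦 (S : Subgroup G) := by
  classical
  by_cases hO : Cfsg.pPrimeCore p G ≠ ⊥
  · haveI := CfsgLib.Coprime.pPrimeCore_characteristic (G := G) p
    exact strongAtF_of_quotient_pPrime h𝓦 _ (CfsgLib.Coprime.pPrimeCore_not_dvd Fact.out)
      (hquo _ hO) S
  push Not at hO
  have hWc := indFam_isConjugacyFunctor (G := G) h𝓦
  haveI hQn := CfsgLib.Coprime.pCore_normal' (G := G) p
  set Q := Cfsg.pCore p G with hQdef
  have hQp : IsPGroup p Q := CfsgLib.Coprime.pCore_isPGroup p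
  set S0 : Subgroup G := (S : Subgroup G) with hS0
  have hQS : Q ≤ S0 := hQp.le_sylow_of_normal S
  have useSub : ∀ H : Subgroup G, S0 ≤ H → H ≠ ⊤ → ∀ (A : Set G) (h : G), h ∈ H →
      (∀ a ∈ A, a ∈ S0) → (∀ a ∈ A, h * a * h⁻¹ ∈ S0) → Reach (indFam G 𝓦) ⊤ S0 A h :=
    fun H hSH hH A h hh hA hhA => reach_mono_group (reach_of_control hWc
      (famIn_of_subgroup h𝓦 H (hsub H hH)) hSH S.2
      (fun hd => S.not_dvd_index (hd.trans (relIndex_dvd_index_of_le hSH))) hh hA hhA) le_top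
  by_cases hQb : Q = ⊥
  · refine strongAtF_of_famCtrl h𝓦 ?_ S
    refine fusion_local_to_global S hWc (localData_full S) fun T hTS hT _ => ?_
    refine famIn_of_subgroup h𝓦 _ (hsub _ fun h => hT ?_)
    haveI : T.Normal := Subgroup.normalizer_eq_top_iff.1 h
    exact le_bot_iff.1 ((CfsgLib.Coprime.le_pCore (S.2.to_le hTS)).trans hQb.le)
  set C := centralizer (Q : Set G) with hC
  haveI hCn : C.Normal := inferInstance
  set R := S0 ⊓ C with hR
  have hRp : IsPGroup p R := S.2.to_le inf_le_left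
  by_cases hNR : normalizer (R : Set G) = ⊤
  · haveI : R.Normal := Subgroup.normalizer_eq_top_iff.1 hNR
    exact strongAtF_of_famCtrl h𝓦
      (hloc (centralizer_pCore_le_of_inf_le hO S (CfsgLib.Coprime.le_pCore hRp))) S
  have hfr : normalizer (R : Set G) ⊔ C = ⊤ := by
    have hRi : ¬ p ∣ R.relIndex C := CfsgLib.Fusion.not_dvd_relIndex_inf_of_normal S C
    let P : Sylow p C := (hRp.of_equiv (Subgroup.subgroupOfEquivOfLe inf_le_right).symm).toSylow hRi
    have hmapP : (P : Subgroup C).map C.subtype = R := map_subgroupOf_eq_of_le inf_le_right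
    rw [← hmapP]; exact Sylow.normalizer_sup_eq_top P
  have hSN : S0 ≤ normalizer (R : Set G) :=
    le_normalizer_inf le_normalizer (le_top.trans (Subgroup.normalizer_eq_top C).ge)
  have hSQ : S0 ≠ Q := by
    intro e
    apply hNR
    haveI : R.Normal := by
      rw [hR, e]
      exact Subgroup.normal_inf_normal Q C
    exact Subgroup.normalizer_eq_top R
  have hStop : S0 ≠ ⊤ := fun e => hSQ (le_antisymm
    (CfsgLib.Coprime.le_pCore (N := S0) (hN := by rw [e]; infer_instance) S.2) hQS)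
  intro A₀ g hA₀ hgA₀
  -- enlarge the set by `O_p`
  set P := Subgroup.closure A₀ ⊔ Q with hPdef
  have hPS : P ≤ S0 := sup_le ((closure_le _).2 hA₀) hQS
  have hgP : conjBy g P ≤ S0 := by
    show P.map (MulAut.conj g).toMonoidHom ≤ S0
    rw [Subgroup.map_sup, MonoidHom.map_closure]
    refine sup_le ((closure_le _).2 ?_) ?_
    · rintro _ ⟨a, ha, rfl⟩; exact hgA₀ a ha
    · rintro _ ⟨q, hq, rfl⟩; exact hQS (hQn.conj_mem q hq g)
  suffices key : ∀ (P : Subgroup G) (g : G), Q ≤ P → P ≤ S0 → conjBy g P ≤ S0 →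
      Reach (indFam G 𝓦) ⊤ S0 (P : Set G) g by
    exact (key P g le_sup_right hPS hgP).mono fun a ha => mem_sup_left (subset_closure ha)
  clear! A₀ g
  have himg : ∀ (k : G) (K : Subgroup G),
      (fun a => k * a * k⁻¹) '' (K : Set G) = (conjBy k K : Subgroup G) := by
    intro k K
    ext y
    exact ⟨by rintro ⟨a, ha, rfl⟩; exact conj_mem_conjBy ha,
      fun hy => ⟨k⁻¹ * y * k, mem_conjBy.1 hy, by group⟩⟩
  by_cases hCS : C ⊔ S0 = ⊤
  · -- `G = C S`: work modulo `Q`
    set π := QuotientGroup.mk' Q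
    have hπ := QuotientGroup.mk'_surjective Q
    set Sb := S.mapSurjective hπ
    have hSbp : IsPGroup p (S0.map π) := S.2.map π
    have hSbne : S0.map π ≠ ⊥ := by
      intro e'
      rw [Subgroup.map_eq_bot_iff, QuotientGroup.ker_mk'] at e'
      exact hSQ (le_antisymm e' hQS)
    -- lifting one step
    have lift : ∀ W ∈ 𝓦, ∀ (B : Set G), (∀ b ∈ B, b ∈ S0) → ∀ w : G, π w ∈ normalizer
        ((Cfsg.inducedFunctor W (S0.map π) : Subgroup (G ⧸ Q)) : Set (G ⧸ Q)) →
        (∀ b ∈ B, π (w * b * w⁻¹) ∈ S0.map π) →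
        Reach (indFam G 𝓦) ⊤ S0 B w ∧ ∀ b ∈ B, w * b * w⁻¹ ∈ S0 := by
      intro W hW B hB w hw hwB
      set H := (normalizer ((Cfsg.inducedFunctor W (S0.map π) : Subgroup (G ⧸ Q)) :
        Set (G ⧸ Q))).comap π with hH
      have hSH : S0 ≤ H := by
        rw [hH, ← Subgroup.map_le_iff_le_comap]
        exact le_normalizer.trans
          (cfun_normalizer_le (isConjugacyFunctor_induced (h𝓦 W hW)) hSbp)
      have hHne : H ≠ ⊤ := by
        intro e
        have e2 : normalizer ((Cfsg.inducedFunctor W (S0.map π) : Subgroup (G ⧸ Q)) :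
            Set (G ⧸ Q)) = ⊤ := by
          rw [← Subgroup.map_comap_eq_self_of_surjective hπ (normalizer _),
            ← Subgroup.map_top_of_surjective π hπ, ← hH, e]
        haveI : (Cfsg.inducedFunctor W (S0.map π)).Normal := Subgroup.normalizer_eq_top_iff.1 e2
        exact induced_ne_bot (h𝓦 W hW) hSbp hSbne (le_bot_iff.1 ((CfsgLib.Coprime.le_pCore
          (hSbp.to_le (induced_le W _))).trans (CfsgLib.Coprime.pCore_quotient_eq_bot p).le))
      have hback : ∀ b ∈ B, w * b * w⁻¹ ∈ S0 := fun b hb => by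
        have h1 : w * b * w⁻¹ ∈ (S0.map π).comap π := hwB b hb
        rwa [Subgroup.comap_map_eq, QuotientGroup.ker_mk', sup_eq_left.2 hQS] at h1
      exact ⟨useSub H hSH hHne B w hw hB hback, hback⟩
    -- from a fully normalised subgroup
    have full : ∀ (P : Subgroup G) (g : G), Q ≤ P → P ≤ S0 → conjBy g P ≤ S0 →
        ¬ p ∣ (S0 ⊓ normalizer (P : Set G)).relIndex (normalizer (P : Set G)) →
        Reach (indFam G 𝓦) ⊤ S0 (P : Set G) g := by
      intro P g hQP hPS hgP hfull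
      obtain ⟨y, hy, hye⟩ := strongAtF_of_famCtrl h𝓦 (hquo Q hQb) Sb (π '' P) (π g)
        (by rintro _ ⟨a, ha, rfl⟩; exact mem_map_of_mem π (hPS ha))
        (by
          rintro _ ⟨a, ha, rfl⟩
          rw [← map_inv, ← map_mul, ← map_mul]
          exact mem_map_of_mem π (conjBy_le_iff.1 hgP a ha))
      obtain ⟨h, hreach, hhy⟩ : ∃ h, Reach (indFam G 𝓦) ⊤ S0 (P : Set G) h ∧
          π h = y ∧ ∀ a ∈ P, h * a * h⁻¹ ∈ S0 := by
        clear hye
        induction hy with
        | one _ => exact ⟨1, reach_one fun a ha => hPS ha, map_one π,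
            fun a ha => by simpa using hPS ha⟩
        | step c W' w hc hW' hw hm ih =>
          obtain ⟨W, hW, rfl⟩ := hW'
          obtain ⟨d, hd, hdc, hdm⟩ := ih
          obtain ⟨w₀, rfl⟩ := hπ w
          obtain ⟨r, hr⟩ := lift W hW ((fun a => d * a * d⁻¹) '' P)
            (by rintro _ ⟨a, ha, rfl⟩; exact hdm a ha) w₀ (mem_inf.1 hw).2 (by
              rintro _ ⟨a, ha, rfl⟩
              simp only [map_mul, map_inv, hdc]
              have hm' : π w₀ * c * π a * (π w₀ * c)⁻¹ ∈ S0.map π := hm (π a) ⟨a, ha, rfl⟩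
              convert hm' using 1
              group)
          refine ⟨w₀ * d, hd.trans r, by rw [map_mul, hdc], fun a ha => ?_⟩
          convert hr _ ⟨a, ha, rfl⟩ using 1
          group
      obtain ⟨hhy, hhm⟩ := hhy
      subst hhy
      set d := h⁻¹ * g with hd
      have hdP : ∀ a ∈ P, d * a * d⁻¹ * a⁻¹ ∈ Q := by
        intro a ha
        rw [← QuotientGroup.eq_one_iff, ← QuotientGroup.mk'_apply, hd]
        have e := hye (π a) ⟨a, ha, rfl⟩
        simp only [map_mul, map_inv, mul_inv_rev, inv_inv]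
        rw [show (π h)⁻¹ * π g * π a * ((π g)⁻¹ * π h) * (π a)⁻¹ =
          (π h)⁻¹ * (π g * π a * (π g)⁻¹) * π h * (π a)⁻¹ by group, ← e]
        group
      -- the stabilizer of `Q ≤ P`
      set π' := π
      let D : Subgroup G := (centralizer ((P.map π' : Subgroup (G ⧸ Q)) : Set (G ⧸ Q))).comap π'
      have hmemD : ∀ z : G, z ∈ D ↔ ∀ a ∈ P, z * a * z⁻¹ * a⁻¹ ∈ Q := by
        intro z
        rw [mem_comap, mem_centralizer_iff]
        constructor
        · intro h a ha
          rw [← QuotientGroup.eq_one_iff, ← QuotientGroup.mk'_apply, map_mul, map_mul, map_mul,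
            map_inv, map_inv, ← h _ (mem_map_of_mem π' ha), mul_inv_cancel_right, mul_inv_cancel]
        · rintro h _ ⟨a, ha, rfl⟩
          have := h a ha
          rw [← QuotientGroup.eq_one_iff, ← QuotientGroup.mk'_apply, map_mul, map_mul, map_mul,
            map_inv, map_inv, mul_inv_eq_one, mul_inv_eq_iff_eq_mul] at this
          exact this.symm
      have hDN : D ≤ normalizer (P : Set G) := by
        intro z hz
        refine conjBy_eq_iff.1 (CfsgLib.Fusion.conjBy_eq_of_le (conjBy_le_iff.2 fun a ha => ?_))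
        simpa using mul_mem (hQP ((hmemD z).1 hz a ha)) ha
      have hfull' : ¬ p ∣ (S0 ⊓ D).relIndex D := by
        set NP := normalizer (P : Set G)
        have hn : NP ≤ normalizer (D : Set G) := by
          intro n hn
          have h1 : π' n ∈ normalizer ((P.map π' : Subgroup (G ⧸ Q)) : Set (G ⧸ Q)) :=
            le_normalizer_map π' (mem_map_of_mem π' hn)
          have h2 := le_normalizer_centralizer (A := P.map π') (H := normalizer
            ((P.map π' : Subgroup (G ⧸ Q)) : Set (G ⧸ Q))) le_rfl h1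
          refine mem_normalizer_iff.2 fun z => ?_
          rw [mem_comap, mem_comap, map_mul, map_mul, map_inv]
          exact mem_normalizer_iff.1 h2 _
        haveI : (D.subgroupOf NP).Normal := normal_subgroupOf_of_le_normalizer hn
        let P1 : Sylow p NP := ((S.2.to_le inf_le_left).of_equiv
          (Subgroup.subgroupOfEquivOfLe (inf_le_right : S0 ⊓ NP ≤ NP)).symm).toSylow hfull
        have := CfsgLib.Fusion.not_dvd_relIndex_inf_of_normal P1 (D.subgroupOf NP)
        rw [← Subgroup.relIndex_map_map_of_injective _ _ NP.subtype_injective,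
          Subgroup.map_inf _ _ _ NP.subtype_injective, map_subgroupOf_eq_of_le hDN] at this
        change ¬ p ∣ (((S0 ⊓ NP).subgroupOf NP).map NP.subtype ⊓ D).relIndex D at this
        rwa [map_subgroupOf_eq_of_le inf_le_right, inf_assoc, inf_eq_right.2 hDN] at this
      -- `D` is a `p`-group modulo the centralizer of `P`
      have hppow : ∀ z ∈ D, ∃ k : ℕ, z ^ p ^ k ∈ centralizer (P : Set G) := by
        intro z hz
        have hzC : ∃ m : ℕ, z ^ p ^ m ∈ C := by
          have hzs : z ∈ C ⊔ S0 := hCS ▸ mem_top z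
          obtain ⟨c, hc, s, hs, rfl⟩ := Subgroup.mem_sup_of_normal_left.1 hzs
          obtain ⟨m, hm⟩ := S.2 ⟨s, hs⟩
          refine ⟨m, ?_⟩
          rw [← QuotientGroup.eq_one_iff, QuotientGroup.mk_pow, QuotientGroup.mk_mul,
            (QuotientGroup.eq_one_iff c).2 hc, one_mul, ← QuotientGroup.mk_pow,
            show s ^ p ^ m = 1 from congrArg Subtype.val hm]
          rfl
        obtain ⟨m, hm⟩ := hzC
        obtain ⟨k, hk⟩ := exists_ppow_mem_of_stabilizes (S.2.to_le hPS) hQP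
          (d := z ^ p ^ m) (fun q hq => (mem_centralizer_iff.1 hm q hq).symm)
          ((hmemD _).1 (pow_mem hz _))
        exact ⟨m + k, by rwa [pow_add, pow_mul]⟩
      obtain ⟨t, ht, htd⟩ : ∃ t ∈ S0 ⊓ D, ∀ a ∈ P, t * a * t⁻¹ = d * a * d⁻¹ := by
        set T := ((S.2.to_le inf_le_left).of_equiv
          (Subgroup.subgroupOfEquivOfLe (inf_le_right : S0 ⊓ D ≤ D)).symm).toSylow hfull' with hT
        set K := (centralizer (P : Set G)).subgroupOf D
        haveI : K.Normal := normal_subgroupOf_of_le_normalizer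
          (hDN.trans (le_normalizer_centralizer le_rfl))
        have hq : IsPGroup p (D ⧸ K) := by
          intro x
          obtain ⟨z, rfl⟩ := QuotientGroup.mk'_surjective K x
          obtain ⟨k, hk⟩ := hppow z z.2
          refine ⟨k, ?_⟩
          rw [← map_pow, QuotientGroup.mk'_apply, QuotientGroup.eq_one_iff]
          exact hk
        have htop : (T : Subgroup D).map (QuotientGroup.mk' K) = ⊤ :=
          ((T.mapSurjective (QuotientGroup.mk'_surjective K)).is_maximal'
            (hq.to_subgroup ⊤) le_top).symm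
        have hdD : d ∈ D := (hmemD d).2 hdP
        obtain ⟨t, ht, hte⟩ := mem_map.1 (htop.symm ▸ mem_top (QuotientGroup.mk' K ⟨d, hdD⟩) :
          QuotientGroup.mk' K ⟨d, hdD⟩ ∈ (T : Subgroup D).map (QuotientGroup.mk' K))
        refine ⟨t, ht, fun a ha => ?_⟩
        have hc : ((t⁻¹ * ⟨d, hdD⟩ : D) : G) ∈ centralizer (P : Set G) :=
          (QuotientGroup.eq (s := K)).1 hte
        have hc : (t : G)⁻¹ * d ∈ centralizer (P : Set G) := hc
        have := mem_centralizer_iff.1 hc a ha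
        calc (t : G) * a * (t : G)⁻¹ =
              (t : G) * (a * ((t : G)⁻¹ * d)) * d⁻¹ := by group
          _ = d * a * d⁻¹ := by rw [this]; group
      obtain ⟨htS, htD⟩ := mem_inf.1 ht
      have htP : (fun a => t * a * t⁻¹) '' (P : Set G) = (P : Set G) := by
        rw [himg, conjBy_eq_iff.2 (hDN htD)]
      refine reach_congr ((useSub S0 le_rfl hStop (P : Set G) t htS (fun a ha => hPS ha)
        fun a ha => mul_mem (mul_mem htS (hPS ha)) (inv_mem htS)).trans (k := h)
          (by rwa [htP])) fun a ha => ?_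
      rw [show h * t * a * (h * t)⁻¹ = h * (t * a * t⁻¹) * h⁻¹ by group, htd a ha, hd]
      group
    intro P g hQP hPS hgP
    obtain ⟨k, hk1, -, hkfull⟩ := CfsgLib.Fusion.exists_conj_fully_normalized S hPS
    have hQk : Q ≤ conjBy k P := by
      intro q hq
      refine mem_conjBy.2 (hQP ?_)
      simpa using hQn.conj_mem q hq k⁻¹
    have r₁ := (full (conjBy k P) k⁻¹ hQk hk1
      (by rw [CfsgLib.Fusion.conjBy_inv_conjBy]; exact hPS) hkfull).symm
    rw [himg, CfsgLib.Fusion.conjBy_inv_conjBy, inv_inv] at r₁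
    have r₂ := full (conjBy k P) (g * k⁻¹) hQk hk1 (by
      rw [CfsgLib.Fusion.conjBy_conjBy, inv_mul_cancel_right]; exact hgP) hkfull
    have r := r₁.trans (k := g * k⁻¹) (by rw [himg]; exact r₂)
    rwa [inv_mul_cancel_right] at r
  · -- both `N(R)` and `C S` are proper
    intro P g hQP hPS hgP
    have hg : g ∈ C ⊔ normalizer (R : Set G) := by rw [sup_comm, hfr]; exact mem_top g
    obtain ⟨c, hc, n, hn, rfl⟩ := Subgroup.mem_sup_of_normal_left.1 hg
    set M := normalizer (R : Set G) ⊓ (C ⊔ S0)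
    have hSM : S0 ≤ M := le_inf hSN le_sup_right
    have hX : conjBy n P ≤ M := by
      refine conjBy_le_iff.2 fun a ha => mem_inf.2
        ⟨mul_mem (mul_mem hn (hSN (hPS ha))) (inv_mem hn), ?_⟩
      have h1 := conjBy_le_iff.1 hgP a ha
      have : n * a * n⁻¹ = c⁻¹ * (c * n * a * (c * n)⁻¹) * c := by group
      rw [this]
      exact mul_mem (mul_mem (inv_mem (mem_sup_left hc)) (mem_sup_right h1)) (mem_sup_left hc)
    obtain ⟨c', hc', hle⟩ := CfsgLib.Fusion.exists_conj_le_of_not_dvd_relIndex S.2 hSM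
      (fun hd => S.not_dvd_index (hd.trans (relIndex_dvd_index_of_le hSM)))
      (CfsgLib.Fusion.isPGroup_conjBy n (S.2.to_le hPS)) hX
    rw [CfsgLib.Fusion.conjBy_conjBy] at hle
    obtain ⟨hc'N, hc'CS⟩ := mem_inf.1 hc'
    have r₁ := useSub _ hSN hNR (P : Set G) (c' * n) (mul_mem hc'N hn)
      (fun a ha => hPS ha) fun a ha => conjBy_le_iff.1 hle a ha
    have r₂ := useSub (C ⊔ S0) le_sup_right hCS (conjBy (c' * n) P : Set G)
      (c * c'⁻¹) (mul_mem (mem_sup_left hc) (inv_mem hc'CS)) (fun a ha => hle ha) (by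
        intro b hb
        obtain ⟨a, ha, rfl⟩ := hb
        have := conjBy_le_iff.1 hgP a ha
        show c * c'⁻¹ * (c' * n * a * (c' * n)⁻¹) * (c * c'⁻¹)⁻¹ ∈ S0
        convert this using 1
        group)
    have r := r₁.trans (k := c * c'⁻¹) (by rw [himg]; exact r₂)
    rwa [← mul_assoc, inv_mul_cancel_right] at r

/-- Strong fusion is controlled by a family that controls it in the constrained sections. -/
theorem famCtrl_of_constrained (h𝓦 : ∀ W ∈ 𝓦, Cfsg.IsCharPFunctor.{u} p W) (n : ℕ) :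
    ∀ (X : Type u) [Group X] [Finite X], Nat.card X = n →
      (∀ (Y : Type u) [Group Y] [Finite Y], Cfsg.Involves Y X →
        centralizer ((Cfsg.pCore p Y : Subgroup Y) : Set Y) ≤ Cfsg.pCore p Y → FamCtrl p 𝓦 Y) →
      FamCtrl p 𝓦 X := by
  induction n using Nat.strong_induction_on with
  | _ n ih =>
    intro X _ _ hn hloc
    obtain ⟨S⟩ := (inferInstance : Nonempty (Sylow p X))
    refine famCtrl_of_strongAtF S (strongAtF_of_minimal h𝓦 (fun H hH => ?_) (fun N _ hN => ?_)
      (hloc X (involves_self X)) S)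
    · refine ih _ ?_ H rfl fun Y _ _ hY => hloc Y
        (CfsgLib.Fusion.involves_of_injective H.subtype H.subtype_injective hY)
      have := card_lt_card (lt_top_iff_ne_top.2 hH)
      rwa [Nat.card_congr (topEquiv (G := X)).toEquiv, hn] at this
    · refine ih _ ?_ (X ⧸ N) rfl fun Y _ _ hY => hloc Y
        (CfsgLib.Fusion.involves_of_surjective (QuotientGroup.mk' N)
          (QuotientGroup.mk'_surjective N) hY)
      have h1 : 1 < Nat.card N := (Subgroup.one_lt_card_iff_ne_bot N).2 hN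
      rw [← hn, Subgroup.card_eq_card_quotient_mul_card_subgroup N]
      exact lt_mul_of_one_lt_right Nat.card_pos h1

/-- The constrained sections of `G` suffice. -/
theorem famCtrl_of_sections (h𝓦 : ∀ W ∈ 𝓦, Cfsg.IsCharPFunctor.{u} p W)
    (hloc : ∀ (K R : Subgroup G) [(R.subgroupOf K).Normal],
      centralizer ((Cfsg.pCore p (↥K ⧸ R.subgroupOf K) : Subgroup (↥K ⧸ R.subgroupOf K)) :
        Set (↥K ⧸ R.subgroupOf K)) ≤ Cfsg.pCore p (↥K ⧸ R.subgroupOf K) →
      FamCtrl p 𝓦 (↥K ⧸ R.subgroupOf K)) : FamCtrl p 𝓦 G := by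
  refine famCtrl_of_constrained h𝓦 _ G rfl fun Y _ _ hY hcon => ?_
  obtain ⟨A, B, hB, ⟨e⟩⟩ := hY
  haveI := hB
  refine famCtrl_congr h𝓦 e (hloc A B fun x hx => ?_)
  rw [← CfsgLib.Coprime.map_pCore_equiv e.symm]
  refine ⟨e x, hcon (mem_centralizer_iff.2 fun q hq => ?_), e.symm_apply_apply x⟩
  have := mem_centralizer_iff.1 hx (e.symm q) (by
    rw [← CfsgLib.Coprime.map_pCore_equiv e.symm]; exact mem_map_of_mem _ hq)
  simpa using congrArg e this

end CfsgLib.CFun
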