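import Cfsg.Agent.Lib.CFun.OrbitTransfer
import Cfsg.Agent.Lib.CFun.Degree

/-!
# The norm of a unipotent element on a chief factor
-/

set_option autoImplicit false
set_option linter.style.haveILetI false

open Subgroup

namespace CfsgLib.CFun

universe u

theorem pow_mem_of_chief {G : Type u} [Group G] [Finite G] {p : ℕ} [Fact p.Prime] {P : Subgroup G}
    [P.Normal] (hP : IsPGroup p P) {U V : Subgroup G} (hch : Cfsg.IsChiefFactor U V) (hU : U ≤ P)
    {x : G} (hx : x ∈ U) : x ^ p ∈ V := by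
  haveI := hch.2.1
  haveI := hch.2.2.1
  have hc := chief_commute hP hch hU
  set π := QuotientGroup.mk' V
  have hone : ∀ z : G, z ∈ V ↔ π z = 1 := fun z => (QuotientGroup.eq_one_iff z).symm
  let W : Subgroup G :=
    { carrier := {z | z ∈ U ∧ π z ^ p = 1}
      one_mem' := ⟨one_mem U, by simp⟩
      mul_mem' := fun {a b} ha hb => ⟨mul_mem ha.1 hb.1, by
        rw [map_mul, (hc _ (mem_map_of_mem π ha.1) _ (mem_map_of_mem π hb.1)).mul_pow, ha.2, hb.2,
          one_mul]⟩
      inv_mem' := fun {a} ha => ⟨inv_mem ha.1, by rw [map_inv, inv_pow, ha.2, inv_one]⟩ }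
  haveI hWn : W.Normal := ⟨fun z hz g => ⟨Subgroup.Normal.conj_mem ‹U.Normal› z hz.1 g, by
    rw [map_mul, map_mul, map_inv, conj_pow, hz.2, mul_one, mul_inv_cancel]⟩⟩
  have hVW : V ≤ W := fun v hv => ⟨hch.1.le hv, by rw [(hone v).1 hv, one_pow]⟩
  have hWU : W ≤ U := fun z hz => hz.1
  rcases hch.2.2.2 W hWn hVW hWU with h | h
  · obtain ⟨y, hyU, hyV⟩ := SetLike.exists_of_lt hch.1
    obtain ⟨k, hk⟩ := hP ⟨y, hU hyU⟩
    have hk' : y ^ p ^ k = 1 := congrArg Subtype.val hk
    have key : ∀ n, y ^ p ^ n ∈ V → y ∈ V := by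
      intro n
      induction n with
      | zero => simp
      | succ n ih =>
        intro hn
        refine ih (h ▸ ⟨pow_mem hyU _, ?_⟩)
        rw [← map_pow, ← hone, ← pow_mul, ← pow_succ]
        exact hn
    exact absurd (key k (by rw [hk']; exact one_mem V)) hyV
  · have := (h.symm ▸ hx : x ∈ W).2
    rwa [← map_pow, ← hone] at this

/-- If `e` has degree less than `p` on a chief factor, the product of the `p` conjugates of an
element is killed by every homomorphism trivial on the lower term. -/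
theorem hom_norm_eq_one {G : Type u} [Group G] [Finite G] {p : ℕ} [Fact p.Prime] {P : Subgroup G}
    [P.Normal] (hP : IsPGroup p P) {U V : Subgroup G} (hch : Cfsg.IsChiefFactor U V) (hU : U ≤ P)
    {e : G} (hdeg : Cfsg.iterCommutator U (zpowers e) (p - 1) ≤ V) {A : Type*} [CommGroup A]
    (ψ : U →* A) (hψ : ∀ v : U, (v : G) ∈ V → ψ v = 1) (x : U) :
    ∏ j ∈ Finset.range p,
      ψ ⟨(e ^ j)⁻¹ * (x : G) * e ^ j, hch.2.1.conj_mem' x x.2 (e ^ j)⟩ = 1 := by
  haveI := hch.2.1
  haveI := hch.2.2.1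
  set π := QuotientGroup.mk' V
  haveI : (U.map π).Normal := Subgroup.Normal.map hch.2.1 π (QuotientGroup.mk'_surjective _)
  have hc := chief_commute hP hch hU
  letI := addCommGroupOfCommute (U.map π) hc
  let r : U →* U.map π := π.subgroupMap U
  have hr : Function.Surjective r := π.subgroupMap_surjective U
  have hker : r.ker ≤ ψ.ker := by
    intro u hu
    refine MonoidHom.mem_ker.2 (hψ u ?_)
    have := congrArg Subtype.val (MonoidHom.mem_ker.1 hu)
    change π (u : G) = 1 at this
    rwa [QuotientGroup.mk'_apply, QuotientGroup.eq_one_iff] at this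
  let ψ' : Additive (U.map π) →+ Additive A :=
    MonoidHom.toAdditive (r.liftOfSurjective hr ⟨ψ, hker⟩)
  have hψ' : ∀ u : U, ψ' (Additive.ofMul (r u)) = Additive.ofMul (ψ u) := fun u =>
    congrArg Additive.ofMul (r.liftOfRightInverse_comp_apply _ _ ⟨ψ, hker⟩ u)
  set q := secEnd (U.map π) hc (π e⁻¹)
  have hq : (q - 1) ^ (p - 1) = 0 := by
    rw [← iterCommutator_eq_bot_iff]
    have h := (iterCommutator_le_iff V U (zpowers e) (p - 1)).1 hdeg
    rwa [MonoidHom.map_zpowers, ← zpowers_inv, ← map_inv] at h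
  have hchar : ((p : ℕ) : AddMonoid.End (Additive (U.map π))) = 0 := by
    refine DFunLike.ext _ _ fun y => ?_
    obtain ⟨u, hu⟩ := hr y.toMul
    show p • y = 0
    have hy : y = Additive.ofMul (r u) := by rw [hu]; rfl
    rw [hy, ← ofMul_pow, ← map_pow]
    refine congrArg Additive.ofMul (Subtype.ext ?_)
    show π ((u ^ p : U) : G) = 1
    rw [SubmonoidClass.coe_pow, QuotientGroup.mk'_apply, QuotientGroup.eq_one_iff]
    exact pow_mem_of_chief hP hch hU u.2
  have hsum : (∑ j ∈ Finset.range p, q ^ j) (Additive.ofMul (r x)) = 0 := by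
    rw [sum_pow_eq_sub_one_pow hchar, hq]
    rfl
  have hev : ∀ n : ℕ, (∑ j ∈ Finset.range n, q ^ j) (Additive.ofMul (r x)) =
      ∑ j ∈ Finset.range n, (q ^ j) (Additive.ofMul (r x)) := by
    intro n
    induction n with
    | zero => rfl
    | succ n ih =>
      rw [Finset.sum_range_succ, Finset.sum_range_succ, ← ih]
      rfl
  rw [hev] at hsum
  have h := congrArg ψ' hsum
  rw [map_sum, map_zero] at h
  refine Additive.ofMul.injective ?_
  rw [ofMul_prod]
  refine Eq.trans (Finset.sum_congr rfl fun j _ => ?_) h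
  rw [← hψ']
  refine congrArg ψ' (Additive.toMul.injective (Subtype.ext ?_))
  refine Eq.trans ?_ (secEnd_pow_apply (U.map π) hc (π e⁻¹) j _).symm
  show π ((e ^ j)⁻¹ * (x : G) * e ^ j) = π e⁻¹ ^ j * π (x : G) * (π e⁻¹ ^ j)⁻¹
  rw [← map_pow, ← map_inv, ← map_mul, ← map_mul, inv_pow, inv_inv]

end CfsgLib.CFun
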