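import Cfsg.Agent.Lib.CFun.SectionRed
import Cfsg.Agent.Lib.CFun.NormStep
import Cfsg.Agent.Lib.CFun.Semisimple
import Mathlib.GroupTheory.Abelianization.Defs

/-!
# The structure of a minimal failure of control of transfer
-/

set_option autoImplicit false
set_option linter.style.haveILetI false

open Subgroup
open scoped commutatorElement
open CfsgLib.Fusion (conjBy mem_conjBy conj_mem_conjBy conjBy_le_iff conjBy_eq_iff)

namespace CfsgLib.CFun

universe u

/-- The data of a minimal failure of control of transfer. -/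
structure MinFail {G : Type u} [Group G] (p : ℕ)
    (𝓦 : Set (∀ (Q : Type u) [Group Q], Subgroup Q)) : Prop where
  char : ∀ W ∈ 𝓦, Cfsg.IsCharPFunctor.{u} p W
  nonempty : 𝓦.Nonempty
  sub : ∀ H : Subgroup G, H ≠ ⊤ → Cfsg.FamilyControlsTransferIn p (indFam G 𝓦) H
  quo : ∀ (N : Subgroup G) [N.Normal], N ≠ ⊥ → Ctrl p 𝓦 (G ⧸ N)
  fail : ¬ Ctrl p 𝓦 G

variable {G : Type u} [Group G] [Finite G] {p : ℕ} [Fact p.Prime]
  {𝓦 : Set (∀ (Q : Type u) [Group Q], Subgroup Q)}

theorem MinFail.pCore_ne_bot (h : MinFail (G := G) p 𝓦) : Cfsg.pCore p G ≠ ⊥ := fun hQ =>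
  h.fail (ctrl_of_pCore_eq_bot h.char h.sub hQ)

theorem MinFail.pPrimeCore_eq_bot (h : MinFail (G := G) p 𝓦) : Cfsg.pPrimeCore p G = ⊥ := by
  by_contra hne
  haveI := CfsgLib.Coprime.pPrimeCore_characteristic (G := G) p
  exact h.fail (ctrl_of_quotient_pPrime h.char _ (CfsgLib.Coprime.pPrimeCore_not_dvd Fact.out)
    (h.quo _ hne))

theorem MinFail.not_le (h : MinFail (G := G) p 𝓦) (S : Sylow p G) :
    ¬ (S : Subgroup G) ⊓ commutator G ≤ famSup (indFam G 𝓦) (S : Subgroup G) ⊤ := fun hle =>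
  h.fail ((ctrl_iff h.char S).2 (le_antisymm hle
    ((famSup_le _ _ _).trans_eq (by rw [← _root_.commutator_def]))))

theorem MinFail.sylow_normalizer_le (h : MinFail (G := G) p 𝓦) (S : Sylow p G)
    {W' : Subgroup G → Subgroup G} (hW' : W' ∈ indFam G 𝓦) :
    normalizer ((S : Subgroup G) : Set G) ≤ normalizer ((W' (S : Subgroup G) : Subgroup G) : Set G) :=
  cfun_normalizer_le (indFam_isConjugacyFunctor h.char W' hW') S.2

theorem MinFail.not_normal (h : MinFail (G := G) p 𝓦) (S : Sylow p G) :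
    normalizer ((S : Subgroup G) : Set G) ≠ ⊤ := by
  intro hn
  obtain ⟨W, hW⟩ := h.nonempty
  refine h.not_le S (le_iSup₂_of_le (Cfsg.inducedFunctor (G := G) W) ⟨W, hW, rfl⟩ ?_)
  have := h.sylow_normalizer_le S (W' := Cfsg.inducedFunctor (G := G) W) ⟨W, hW, rfl⟩
  rw [hn, top_le_iff] at this
  rw [this, top_inf_eq, ← _root_.commutator_def]

theorem MinFail.inf_commutator_le (h : MinFail (G := G) p 𝓦) (S : Sylow p G) {H : Subgroup G}
    (hSH : (S : Subgroup G) ≤ H) (hH : H ≠ ⊤) :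
    (S : Subgroup G) ⊓ ⁅H, H⁆ ≤ famSup (indFam G 𝓦) (S : Subgroup G) ⊤ := by
  rw [famControl_any (indFam_isConjugacyFunctor h.char) (h.sub H hH) hSH S.2
    (fun hd => S.not_dvd_index (hd.trans (relIndex_dvd_index_of_le hSH)))]
  exact famSup_mono _ _ le_top

theorem MinFail.sylow_ne_top (h : MinFail (G := G) p 𝓦) (S : Sylow p G) :
    (S : Subgroup G) ≠ ⊤ := fun e => h.not_normal S (by rw [e]; exact Subgroup.normalizer_eq_top _)

theorem MinFail.pCore_le_sylow (_h : MinFail (G := G) p 𝓦) (S : Sylow p G) :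
    Cfsg.pCore p G ≤ (S : Subgroup G) := by
  haveI := CfsgLib.Coprime.pCore_normal' (G := G) p
  exact (CfsgLib.Coprime.pCore_isPGroup (G := G) p).le_sylow_of_normal S

/-- Modulo the `p`-core, the failure is concentrated in `O_p ⊓ G'`. -/
theorem MinFail.decomp (h : MinFail (G := G) p 𝓦) (S : Sylow p G) :
    (S : Subgroup G) ⊓ commutator G ≤
      famSup (indFam G 𝓦) (S : Subgroup G) ⊤ ⊔ (Cfsg.pCore p G ⊓ commutator G) := by
  haveI := CfsgLib.Coprime.pCore_normal' (G := G) p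
  set Q := Cfsg.pCore p G
  set T := famSup (indFam G 𝓦) (S : Subgroup G) ⊤
  set π := QuotientGroup.mk' Q
  have hπ := QuotientGroup.mk'_surjective Q
  have hQS : Q ≤ (S : Subgroup G) := h.pCore_le_sylow S
  have hc := (ctrl_iff h.char (S.mapSurjective hπ)).1 (h.quo Q h.pCore_ne_bot)
  have hle : famSup (indFam (G ⧸ Q) 𝓦) ((S : Subgroup G).map π) ⊤ ≤ T.map π := by
    refine iSup₂_le fun W' hW' => ?_
    obtain ⟨W, hW, rfl⟩ := hW'
    simp only [top_inf_eq]
    set X := Cfsg.inducedFunctor W ((S : Subgroup G).map π)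
    set H := (normalizer ((X : Subgroup (G ⧸ Q)) : Set (G ⧸ Q))).comap π
    have hSp : IsPGroup p ((S : Subgroup G).map π) := S.2.map π
    have hSne : (S : Subgroup G).map π ≠ ⊥ := by
      intro e
      rw [Subgroup.map_eq_bot_iff, QuotientGroup.ker_mk'] at e
      refine h.not_normal S ?_
      rw [le_antisymm e hQS]
      exact Subgroup.normalizer_eq_top Q
    have hH : H ≠ ⊤ := by
      intro e
      have e2 : normalizer ((X : Subgroup (G ⧸ Q)) : Set (G ⧸ Q)) = ⊤ := by
        rw [← Subgroup.map_comap_eq_self_of_surjective hπ (normalizer _), ← Subgroup.map_top_of_surjective π hπ]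
        exact congrArg (Subgroup.map π) e
      haveI : X.Normal := Subgroup.normalizer_eq_top_iff.1 e2
      exact induced_ne_bot (h.char W hW) hSp hSne (le_bot_iff.1
        ((CfsgLib.Coprime.le_pCore (hSp.to_le (induced_le W _))).trans
          (CfsgLib.Coprime.pCore_quotient_eq_bot p).le))
    have hSH : (S : Subgroup G) ≤ H := by
      rw [← Subgroup.map_le_iff_le_comap]
      exact le_normalizer.trans (cfun_normalizer_le (isConjugacyFunctor_induced (h.char W hW)) hSp)
    refine le_trans ?_ (map_mono (h.inf_commutator_le S hSH hH))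
    rw [← Subgroup.map_comap_eq_self_of_surjective hπ (normalizer ((X : Subgroup (G ⧸ Q)) : Set (G ⧸ Q))),
      ← Subgroup.map_commutator]
    rintro _ ⟨⟨s, hs, rfl⟩, n, hn, hns⟩
    refine ⟨n, mem_inf.2 ⟨?_, hn⟩, hns⟩
    have hq : s⁻¹ * n ∈ Q := by
      rw [← QuotientGroup.eq_one_iff, ← QuotientGroup.mk'_apply, map_mul, map_inv, hns,
        inv_mul_cancel]
    simpa using mul_mem hs (hQS hq)
  intro x hx
  have hxb : π x ∈ (S : Subgroup G).map π ⊓ commutator (G ⧸ Q) := by
    refine mem_inf.2 ⟨mem_map_of_mem π hx.1, ?_⟩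
    rw [_root_.commutator_def, ← Subgroup.map_top_of_surjective π hπ, ← Subgroup.map_commutator,
      ← _root_.commutator_def]
    exact mem_map_of_mem π hx.2
  rw [show (S : Subgroup G).map π = ((S.mapSurjective hπ : Sylow p (G ⧸ Q)) : Subgroup (G ⧸ Q))
    from rfl, hc] at hxb
  obtain ⟨t, ht, htx⟩ := hle hxb
  have htG : t ∈ commutator G := by
    rw [_root_.commutator_def]; exact (famSup_le _ _ _ ht).2
  have : t⁻¹ * x ∈ Q ⊓ commutator G := mem_inf.2 ⟨(QuotientGroup.eq).1 htx,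
    mul_mem (inv_mem htG) hx.2⟩
  simpa using mul_mem (mem_sup_left ht) (mem_sup_right this)

theorem MinFail.not_pCore_inf_le (h : MinFail (G := G) p 𝓦) (S : Sylow p G) :
    ¬ Cfsg.pCore p G ⊓ commutator G ≤ famSup (indFam G 𝓦) (S : Subgroup G) ⊤ := fun hle =>
  h.not_le S ((h.decomp S).trans (sup_le le_rfl hle))

theorem MinFail.commutator_le_of_proper (h : MinFail (G := G) p 𝓦) (S : Sylow p G) {H : Subgroup G}
    (hSH : (S : Subgroup G) ≤ H) (hH : H ≠ ⊤) :
    ⁅Cfsg.pCore p G, H⁆ ≤ famSup (indFam G 𝓦) (S : Subgroup G) ⊤ ⊓ Cfsg.pCore p G := by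
  haveI := CfsgLib.Coprime.pCore_normal' (G := G) p
  have hQS := h.pCore_le_sylow S
  refine le_inf (le_trans (le_inf ?_ ?_) (h.inf_commutator_le S hSH hH))
    (commutator_le_left _ _)
  · exact (commutator_le_left _ _).trans hQS
  · exact commutator_mono (hQS.trans hSH) le_rfl

theorem MinFail.le_M (h : MinFail (G := G) p 𝓦) (S : Sylow p G) {H : Subgroup G}
    (hSH : (S : Subgroup G) ≤ H) (hH : H ≠ ⊤) :
    H ≤ normalizer (((famSup (indFam G 𝓦) (S : Subgroup G) ⊤ ⊓ Cfsg.pCore p G : Subgroup G)) : Set G) :=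
  le_normalizer_iff_commutator_le_left.2
    ((commutator_mono inf_le_right le_rfl).trans (h.commutator_le_of_proper S hSH hH))

theorem MinFail.M_ne_top (h : MinFail (G := G) p 𝓦) (S : Sylow p G) :
    normalizer (((famSup (indFam G 𝓦) (S : Subgroup G) ⊤ ⊓ Cfsg.pCore p G : Subgroup G)) : Set G)
      ≠ ⊤ := by
  classical
  intro htop
  haveI hQn := CfsgLib.Coprime.pCore_normal' (G := G) p
  set Q := Cfsg.pCore p G
  set T := famSup (indFam G 𝓦) (S : Subgroup G) ⊤ with hT
  set L := T ⊓ Q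
  haveI : L.Normal := Subgroup.normalizer_eq_top_iff.1 htop
  set π := QuotientGroup.mk' L
  haveI : (Q.map π).Normal := Subgroup.Normal.map hQn π (QuotientGroup.mk'_surjective L)
  set C := (centralizer ((Q.map π : Subgroup (G ⧸ L)) : Set (G ⧸ L))).comap π
  have hmemC : ∀ H : Subgroup G, ⁅Q, H⁆ ≤ L → H ≤ C := by
    intro H hH
    rw [← Subgroup.map_le_iff_le_comap, ← commutator_eq_bot_iff_le_centralizer,
      Subgroup.commutator_comm, ← Subgroup.map_commutator, Subgroup.map_eq_bot_iff,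
      QuotientGroup.ker_mk']
    exact hH
  have hCSle : (S : Subgroup G) ≤ C :=
    hmemC _ (h.commutator_le_of_proper S le_rfl (h.sylow_ne_top S))
  have hCtop : C = ⊤ := by
    rw [← top_le_iff, ← Sylow.normalizer_sup_eq_top' S hCSle]
    exact sup_le (hmemC _ (h.commutator_le_of_proper S le_normalizer (h.not_normal S))) le_rfl
  have hQG : ∀ q ∈ Q, ∀ t : G, q⁻¹ * (t⁻¹ * q * t) ∈ L := by
    intro q hq t
    have htC : π t ∈ centralizer ((Q.map π : Subgroup (G ⧸ L)) : Set (G ⧸ L)) :=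
      mem_comap.1 (hCtop ▸ mem_top t : t ∈ C)
    have hcom : Commute (π q) (π t) := mem_centralizer_iff.1 htC _ (mem_map_of_mem π hq)
    rw [← QuotientGroup.eq_one_iff, ← QuotientGroup.mk'_apply, map_mul, map_mul, map_mul, map_inv,
      map_inv, mul_assoc (π t)⁻¹, hcom.eq, inv_mul_cancel_left, inv_mul_cancel]
  -- transfer into `S/T`
  set S0 : Subgroup G := (S : Subgroup G)
  have hQS : Q ≤ S0 := h.pCore_le_sylow S
  set T0 := T.subgroupOf S0 with hT0
  have hder : commutator S0 ≤ T0 := by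
    intro z hz
    refine h.inf_commutator_le S le_rfl (h.sylow_ne_top S) (mem_inf.2 ⟨z.2, ?_⟩)
    rw [← S0.map_subtype_commutator]
    exact mem_map_of_mem _ hz
  let A := Abelianization S0 ⧸ T0.map Abelianization.of
  let φ : S0 →* A := (QuotientGroup.mk' (T0.map Abelianization.of)).comp Abelianization.of
  have hker : φ.ker = T0 := by
    rw [← MonoidHom.comap_ker, QuotientGroup.ker_mk', Subgroup.comap_map_eq,
      Abelianization.ker_of, sup_eq_left.2 hder]
  have hAp : IsPGroup p A := (S.2.of_surjective Abelianization.of (QuotientGroup.mk'_surjective _)).to_quotient _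
  refine h.not_pCore_inf_le S fun x hx => ?_
  haveI : Fintype (G ⧸ S0) := Fintype.ofFinite _
  have htr : MonoidHom.transfer φ x = 1 :=
    (Abelianization.commutator_subset_ker _) hx.2
  rw [transfer_eq_prod_conj S0 φ hQS hx.1] at htr
  have hconst : ∀ q : G ⧸ S0, φ ⟨q.out⁻¹ * x * q.out, hQS (hQn.conj_mem' x hx.1 _)⟩ =
      φ ⟨x, hQS hx.1⟩ := by
    intro q
    have : (⟨x, hQS hx.1⟩ : S0)⁻¹ * ⟨q.out⁻¹ * x * q.out, hQS (hQn.conj_mem' x hx.1 _)⟩ ∈ φ.ker := by
      rw [hker]; exact (hQG x hx.1 q.out).1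
    rw [MonoidHom.mem_ker, map_mul, map_inv, inv_mul_eq_one] at this
    exact this.symm
  rw [Finset.prod_congr rfl fun q _ => hconst q, Finset.prod_const, Finset.card_univ,
    ← Nat.card_eq_fintype_card] at htr
  have h1 : φ ⟨x, hQS hx.1⟩ = 1 := by
    obtain ⟨k, hk⟩ := hAp (φ ⟨x, hQS hx.1⟩)
    have hco : (p ^ k).Coprime S0.index :=
      Nat.Coprime.pow_left k ((Fact.out : p.Prime).coprime_iff_not_dvd.2 S.not_dvd_index)
    exact orderOf_eq_one_iff.1 (Nat.eq_one_of_dvd_coprimes hco (orderOf_dvd_of_pow_eq_one hk)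
      (orderOf_dvd_of_pow_eq_one htr))
  rw [← MonoidHom.mem_ker, hker] at h1
  exact h1

/-- If `O_p'` is trivial and the Sylow part of the centralizer of `O_p` lies in `O_p`, the group is
`p`-constrained. -/
theorem centralizer_pCore_le_of_inf_le (hO : Cfsg.pPrimeCore p G = ⊥) (S : Sylow p G)
    (hle : (S : Subgroup G) ⊓ centralizer ((Cfsg.pCore p G : Subgroup G) : Set G) ≤ Cfsg.pCore p G) :
    centralizer ((Cfsg.pCore p G : Subgroup G) : Set G) ≤ Cfsg.pCore p G := by
  haveI hQn := CfsgLib.Coprime.pCore_normal' (G := G) p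
  set Q := Cfsg.pCore p G
  set C := centralizer ((Q : Subgroup G) : Set G)
  haveI hCn : C.Normal := inferInstance
  set R := (S : Subgroup G) ⊓ C with hR
  have hRi : ¬ p ∣ R.relIndex C := CfsgLib.Fusion.not_dvd_relIndex_inf_of_normal S C
  have hRp : IsPGroup p R := S.2.to_le inf_le_left
  let P : Sylow p C := (hRp.of_equiv (Subgroup.subgroupOfEquivOfLe inf_le_right).symm).toSylow hRi
  have hmapP : (P : Subgroup C).map C.subtype = R := map_subgroupOf_eq_of_le inf_le_right
  have hRQ : R ≤ Q := hle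
  have hcomp : Cfsg.HasNormalPComplement p C := by
    refine CfsgLib.Fusion.hasNormalPComplement_of_normalizer_le_centralizer P fun c _ => ?_
    refine mem_centralizer_iff.2 fun r hr => Subtype.ext ?_
    exact mem_centralizer_iff.1 c.2 _ (hRQ (hmapP.le (mem_map_of_mem _ hr)))
  have hbot : Cfsg.pResidual p C = ⊥ := by
    haveI := CfsgLib.Fusion.pResidual_normal (G := C) (p := p)
    have h1 := CfsgLib.Coprime.le_pPrimeCore_of_not_dvd (G := C) Fact.out
      (CfsgLib.Fusion.hasNormalPComplement_iff_not_dvd.1 hcomp)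
    have h2 : (Cfsg.pPrimeCore p C).map C.subtype = Cfsg.pPrimeCore p G ⊓ C :=
      CfsgLib.Coprime.pPrimeCore_map_subtype_eq Fact.out C
    rw [hO, bot_inf_eq, Subgroup.map_eq_bot_iff_of_injective _ C.subtype_injective]
      at h2
    exact le_bot_iff.1 (h1.trans h2.le)
  have hCp : IsPGroup p C :=
    (CfsgLib.Fusion.isPGroup_quotient_pResidual (p := p) (⊥ : Subgroup C) hbot.le).of_equiv
      QuotientGroup.quotientBot
  exact CfsgLib.Coprime.le_pCore hCp

theorem MinFail.constrained (h : MinFail (G := G) p 𝓦) :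
    centralizer ((Cfsg.pCore p G : Subgroup G) : Set G) ≤ Cfsg.pCore p G := by
  obtain ⟨S⟩ := (inferInstance : Nonempty (Sylow p G))
  haveI hQn := CfsgLib.Coprime.pCore_normal' (G := G) p
  set Q := Cfsg.pCore p G
  set C := centralizer ((Q : Subgroup G) : Set G)
  haveI hCn : C.Normal := inferInstance
  set S0 : Subgroup G := (S : Subgroup G)
  set R := S0 ⊓ C with hR
  have hRi : ¬ p ∣ R.relIndex C := CfsgLib.Fusion.not_dvd_relIndex_inf_of_normal S C
  have hRp : IsPGroup p R := S.2.to_le inf_le_left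
  let P : Sylow p C := (hRp.of_equiv (Subgroup.subgroupOfEquivOfLe inf_le_right).symm).toSylow hRi
  have hmapP : (P : Subgroup C).map C.subtype = R := map_subgroupOf_eq_of_le inf_le_right
  have hfr : normalizer (R : Set G) ⊔ C = ⊤ := by
    rw [← hmapP]; exact Sylow.normalizer_sup_eq_top P
  set M := normalizer (((famSup (indFam G 𝓦) S0 ⊤ ⊓ Q : Subgroup G)) : Set G)
  have hSN : S0 ≤ normalizer (R : Set G) := le_normalizer_inf le_normalizer
    (le_top.trans (Subgroup.normalizer_eq_top C).ge)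
  have hNtop : normalizer (R : Set G) = ⊤ := by
    by_contra hN
    refine h.M_ne_top S (top_le_iff.1 (hfr.ge.trans (sup_le (h.le_M S hSN hN) ?_)))
    by_cases hCS : C ⊔ S0 = ⊤
    · exact le_trans le_sup_left (hCS.le.trans (hCS.ge.trans (sup_le
        ((centralizer_le inf_le_right).trans (centralizer_le_normalizer _))
        (h.le_M S le_rfl (h.sylow_ne_top S)))))
    · exact le_sup_left.trans (h.le_M S le_sup_right hCS)
  haveI : R.Normal := Subgroup.normalizer_eq_top_iff.1 hNtop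
  exact centralizer_pCore_le_of_inf_le h.pPrimeCore_eq_bot S (CfsgLib.Coprime.le_pCore hRp)

/-- The functions on a coset space given by a class function on the subgroup. -/
theorem apply_conj_eq {M : Subgroup G} {A : Type*} [CommGroup A] (φ : M →* A) {U : Subgroup G}
    (hU : U.Normal) (hUM : U ≤ M) {x : G} (hx : x ∈ U) {g g' : G}
    (hg : (g : G ⧸ M) = g') :
    φ ⟨g⁻¹ * x * g, hUM (hU.conj_mem' x hx _)⟩ = φ ⟨g'⁻¹ * x * g', hUM (hU.conj_mem' x hx _)⟩ := by
  obtain ⟨m, hm, rfl⟩ : ∃ m ∈ M, g' = g * m := ⟨g⁻¹ * g', QuotientGroup.eq.1 hg, by group⟩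
  rw [show (⟨(g * m)⁻¹ * x * (g * m), hUM (hU.conj_mem' x hx _)⟩ : M) =
    (⟨m, hm⟩ : M)⁻¹ * ⟨g⁻¹ * x * g, hUM (hU.conj_mem' x hx _)⟩ * ⟨m, hm⟩ from
      Subtype.ext (by simp; group), map_mul, map_mul, map_inv, mul_comm (φ ⟨m, hm⟩)⁻¹,
    inv_mul_cancel_right]

theorem exists_chief_over {L N : Subgroup G} [L.Normal] [N.Normal] (h : L < N) :
    ∃ U : Subgroup G, L < U ∧ U ≤ N ∧ Cfsg.IsChiefFactor U L := by
  obtain ⟨U, ⟨h1, h2, h3⟩, hmin⟩ := (Set.toFinite
    {U : Subgroup G | U.Normal ∧ L < U ∧ U ≤ N}).exists_minimal ⟨N, inferInstance, h, le_rfl⟩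
  refine ⟨U, h2, h3, h2, h1, inferInstance, fun M hM hLM hMU => ?_⟩
  rcases eq_or_lt_of_le hLM with e | e
  · exact Or.inl e.symm
  · exact Or.inr (le_antisymm hMU (hmin ⟨hM, e, hMU.trans h3⟩ hMU))

theorem MinFail.no_engel (h : MinFail (G := G) p 𝓦) (S : Sylow p G) {u : G}
    (huS : u ∈ (S : Subgroup G)) (huQ : u ∉ Cfsg.pCore p G) :
    ∃ U V : Subgroup G, Cfsg.IsChiefFactor U V ∧ U ≤ Cfsg.pCore p G ∧
      ¬ Cfsg.iterCommutator U (zpowers u) (p - 1) ≤ V := by
  classical
  by_contra hno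
  push Not at hno
  haveI hQn := CfsgLib.Coprime.pCore_normal' (G := G) p
  have hQp : IsPGroup p (Cfsg.pCore p G) := CfsgLib.Coprime.pCore_isPGroup p
  set Q := Cfsg.pCore p G with hQdef
  set S0 : Subgroup G := (S : Subgroup G) with hS0
  set M := normalizer (((famSup (indFam G 𝓦) S0 ⊤ ⊓ Q : Subgroup G)) : Set G) with hMdef
  have hSM : S0 ≤ M := h.le_M S le_rfl (h.sylow_ne_top S)
  have hQS : Q ≤ S0 := h.pCore_le_sylow S
  have hQM : Q ≤ M := hQS.trans hSM
  haveI hGn : (Q ⊓ commutator G).Normal := normal_inf_normal Q _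
  suffices hle : Q ⊓ commutator G ≤ ⁅M, M⁆ from h.not_pCore_inf_le S
    ((le_inf (inf_le_left.trans hQS) hle).trans (h.inf_commutator_le S hSM (h.M_ne_top S)))
  by_contra hnle
  obtain ⟨V0, ⟨hV0n, hV0G, hV0M⟩, hV0max⟩ := (Set.toFinite {V : Subgroup G |
    V.Normal ∧ V ≤ Q ⊓ commutator G ∧ V ≤ ⁅M, M⁆}).exists_maximal ⟨⊥, inferInstance, bot_le, bot_le⟩
  haveI := hV0n
  obtain ⟨U, hV0U, hUG, hch⟩ := exists_chief_over (lt_of_le_of_ne hV0G fun e => hnle (e ▸ hV0M))
  haveI hUn := hch.2.1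
  refine hV0U.not_ge (hV0max ⟨hUn, hUG, ?_⟩ hV0U.le)
  have hUQ : U ≤ Q := hUG.trans inf_le_left
  have hUM : U ≤ M := hUQ.trans hQM
  intro x hx
  set φ : M →* Abelianization M := Abelianization.of
  suffices hx1 : φ ⟨x, hUM hx⟩ = 1 by
    rw [← MonoidHom.mem_ker, Abelianization.ker_of] at hx1
    rw [← M.map_subtype_commutator]
    exact mem_map_of_mem M.subtype hx1
  haveI : Fintype (G ⧸ M) := Fintype.ofFinite _
  have htr : MonoidHom.transfer φ x = 1 := (Abelianization.commutator_subset_ker _) (hUG hx).2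
  rw [transfer_eq_prod_conj M φ hUM hx] at htr
  -- split by orbits of `S`
  haveI : Fintype (MulAction.orbitRel.Quotient S0 (G ⧸ M)) := Fintype.ofFinite _
  haveI : ∀ ω : MulAction.orbitRel.Quotient S0 (G ⧸ M),
      Fintype (S0 ⧸ MulAction.stabilizer S0 ω.out) := fun _ => Fintype.ofFinite _
  set F : G ⧸ M → Abelianization M :=
    fun q => φ ⟨q.out⁻¹ * x * q.out, hUM (hUn.conj_mem' x hx _)⟩ with hF
  let E := MulAction.selfEquivSigmaOrbitsQuotientStabilizer S0 (G ⧸ M)
  rw [← Fintype.prod_equiv E.symm (fun z => F (E.symm z)) F fun _ => rfl,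
    Fintype.prod_sigma] at htr
  -- a moving element for every nontrivial orbit
  let Edeg : Set G := {e | ∀ U' V' : Subgroup G, Cfsg.IsChiefFactor U' V' → U' ≤ Q →
    Cfsg.iterCommutator U' (zpowers e) (p - 1) ≤ V'}
  have hEconj : ∀ e ∈ Edeg, ∀ g : G, g * e * g⁻¹ ∈ Edeg := by
    intro e he g U' V' hc hU'
    haveI := hc.2.1
    haveI := hc.2.2.1
    have hfix : ∀ (N : Subgroup G) [N.Normal], N.map (MulAut.conj g).toMonoidHom = N := fun N _ =>
      conjBy_eq_iff.2 (by rw [Subgroup.normalizer_eq_top N]; exact mem_top g)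
    have := Subgroup.map_mono (f := (MulAut.conj g).toMonoidHom) (he U' V' hc hU')
    rw [iterCommutator_map, MonoidHom.map_zpowers, hfix U', hfix V'] at this
    exact this
  set K := Subgroup.closure (Edeg ∩ (S0 : Set G)) with hK
  have hKS : K ≤ S0 := (closure_le _).2 Set.inter_subset_right
  have hKnorm : ∀ g : G, (∀ e ∈ Edeg ∩ (S0 : Set G), g * e * g⁻¹ ∈ S0) →
      g ∈ normalizer (K : Set G) := by
    intro g hg
    refine conjBy_eq_iff.1 (CfsgLib.Fusion.conjBy_eq_of_le ?_)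
    show K.map (MulAut.conj g).toMonoidHom ≤ K
    rw [hK, MonoidHom.map_closure, closure_le]
    rintro _ ⟨e, he, rfl⟩
    exact subset_closure ⟨hEconj e he.1 g, hg e he⟩
  have hNK : normalizer (K : Set G) ≤ M := by
    refine h.le_M S (fun s hs => hKnorm s fun e he => mul_mem (mul_mem hs he.2) (inv_mem hs))
      fun e => huQ ?_
    haveI : K.Normal := Subgroup.normalizer_eq_top_iff.1 e
    exact CfsgLib.Coprime.le_pCore (S.2.to_le hKS) (subset_closure ⟨hno, huS⟩)
  have hmove : ∀ c : G ⧸ M, (∀ e ∈ Edeg ∩ (S0 : Set G), (e : G) • c = c) → c = (1 : G) := by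
    intro c hc
    induction c using QuotientGroup.induction_on with
    | _ t =>
      have hKt : conjBy t⁻¹ K ≤ M := by
        show K.map (MulAut.conj t⁻¹).toMonoidHom ≤ M
        rw [hK, MonoidHom.map_closure, closure_le]
        rintro _ ⟨e, he, rfl⟩
        have := QuotientGroup.eq.1 (hc e he : ((e * t : G) : G ⧸ M) = (t : G ⧸ M))
        have h2 := inv_mem this
        simpa [MulAut.conj_apply, mul_assoc] using h2
      obtain ⟨m, hm, hle⟩ := CfsgLib.Fusion.exists_conj_le_of_not_dvd_relIndex S.2 hSM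
        (fun hd => S.not_dvd_index (hd.trans (relIndex_dvd_index_of_le hSM)))
        (CfsgLib.Fusion.isPGroup_conjBy t⁻¹ (S.2.to_le hKS)) hKt
      rw [CfsgLib.Fusion.conjBy_conjBy] at hle
      have := hNK (hKnorm (m * t⁻¹) fun e he => conjBy_le_iff.1 hle e (subset_closure he))
      rw [QuotientGroup.eq, mul_one]
      simpa using mul_mem (inv_mem hm) this
  set o1 : MulAction.orbitRel.Quotient S0 (G ⧸ M) := Quotient.mk'' ((1 : G) : G ⧸ M)
  have hfix1 : ∀ s : S0, s • (((1 : G) : G ⧸ M)) = ((1 : G) : G ⧸ M) := by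
    intro s
    show (((s : G) * 1 : G) : G ⧸ M) = _
    rw [QuotientGroup.eq]
    simpa using inv_mem (hSM s.2)
  have hout1 : o1.out = ((1 : G) : G ⧸ M) := by
    have hm : o1.out ∈ MulAction.orbit S0 ((1 : G) : G ⧸ M) :=
      MulAction.orbitRel_apply.1 (Quotient.mk_out ((1 : G) : G ⧸ M))
    obtain ⟨s, hs⟩ := hm
    rw [← hs]
    exact hfix1 s
  have hsub : ∀ ω : MulAction.orbitRel.Quotient S0 (G ⧸ M), ω ≠ o1 →
      ∏ y : S0 ⧸ MulAction.stabilizer S0 ω.out, F (E.symm ⟨ω, y⟩) = 1 := by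
    intro ω hω
    obtain ⟨e, he, hem⟩ : ∃ e ∈ Edeg ∩ (S0 : Set G), (e : G) • ω.out ≠ ω.out := by
      by_contra hall
      push Not at hall
      refine hω ?_
      rw [← Quotient.out_eq' ω, hmove _ hall]
    set t := (ω.out).out with ht
    have hval : ∀ s : S0, F (E.symm ⟨ω, (s : S0 ⧸ MulAction.stabilizer S0 ω.out)⟩) =
        φ ⟨((s : G) * t)⁻¹ * x * ((s : G) * t), hUM (hUn.conj_mem' x hx _)⟩ := by
      intro s
      refine apply_conj_eq φ hUn hUM hx ?_
      rw [QuotientGroup.out_eq']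
      show s • ω.out = _
      conv_lhs => rw [← QuotientGroup.out_eq' ω.out]
      rfl
    refine prod_cosets_eq_one S.2 (MulAction.stabilizer S0 ω.out) (e := ⟨e, he.2⟩)
      (fun hmem => hem hmem) _ fun r b => ?_
    simp only [hval]
    -- the homomorphism attached to `b`
    let ψ : U →* Abelianization M := φ.comp (MonoidHom.mk'
      (fun y => (⟨((b : G) * t)⁻¹ * (y : G) * ((b : G) * t), hUM (hUn.conj_mem' _ y.2 _)⟩ : M))
      fun y z => Subtype.ext (by simp; group))
    have hψ : ∀ v : U, (v : G) ∈ V0 → ψ v = 1 := by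
      intro v hv
      have hmem : (((b : G) * t)⁻¹ * (v : G) * ((b : G) * t)) ∈ ⁅M, M⁆ :=
        hV0M (hV0n.conj_mem' _ hv _)
      rw [← M.map_subtype_commutator] at hmem
      obtain ⟨z, hz, hzv⟩ := hmem
      show φ _ = 1
      rw [← MonoidHom.mem_ker, Abelianization.ker_of]
      have hz' : z = ⟨((b : G) * t)⁻¹ * (v : G) * ((b : G) * t),
          hUM (hUn.conj_mem' _ v.2 _)⟩ := Subtype.ext hzv
      rw [hz'] at hz
      exact hz
    have := hom_norm_eq_one hQp hch hUQ (he.1 U V0 hch hUQ) ψ hψ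
      ⟨(r : G)⁻¹ * x * r, hUn.conj_mem' x hx _⟩
    refine Eq.trans (Finset.prod_congr rfl fun j _ => congrArg φ (Subtype.ext ?_)) this
    simp [mul_assoc]
  rw [Fintype.prod_eq_single o1 hsub] at htr
  have hsing : ∀ y : S0 ⧸ MulAction.stabilizer S0 o1.out, F (E.symm ⟨o1, y⟩) = φ ⟨x, hUM hx⟩ := by
    intro y
    induction y using QuotientGroup.induction_on with
    | _ s =>
      refine (apply_conj_eq φ hUn hUM hx (g' := 1) ?_).trans (congrArg φ (Subtype.ext (by simp)))
      rw [QuotientGroup.out_eq']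
      show s • o1.out = _
      rw [hout1, hfix1]
  haveI : Subsingleton (S0 ⧸ MulAction.stabilizer S0 o1.out) := by
    refine QuotientGroup.subsingleton_iff.2 (eq_top_iff.2 fun s _ => ?_)
    show s • o1.out = o1.out
    rw [hout1, hfix1]
  rwa [Fintype.prod_subsingleton _ ((1 : S0) : S0 ⧸ MulAction.stabilizer S0 o1.out), hsing] at htr

end CfsgLib.CFun
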