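import Cfsg.Agent.Lib.CFun.LocalGlobal
import Cfsg.Agent.Lib.Fusion.ThompsonComplement
import Cfsg.Agent.Lib.Coprime.Core

/-!
# First reductions for control of transfer by functors
-/

set_option autoImplicit false
set_option linter.style.haveILetI false

open Subgroup
open CfsgLib.Fusion (conjBy)

namespace CfsgLib.CFun

universe u

variable {G : Type u} [Group G] [Finite G] {p : ℕ} [Fact p.Prime]
  {𝓦 : Set (∀ (Q : Type u) [Group Q], Subgroup Q)}

theorem sylow_not_dvd_relIndex_top (S : Sylow p G) :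
    ¬ p ∣ (S : Subgroup G).relIndex ⊤ := by
  rw [relIndex_top_right]; exact S.not_dvd_index

/-- Control of transfer, read in a given Sylow subgroup. -/
theorem ctrl_iff (h𝓦 : ∀ W ∈ 𝓦, Cfsg.IsCharPFunctor.{u} p W) (S : Sylow p G) :
    Ctrl p 𝓦 G ↔ (S : Subgroup G) ⊓ commutator G = famSup (indFam G 𝓦) (S : Subgroup G) ⊤ := by
  constructor
  · intro h
    rw [_root_.commutator_def]
    exact famControl_any (indFam_isConjugacyFunctor h𝓦) h le_top S.2 (sylow_not_dvd_relIndex_top S)
  · intro h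
    exact ⟨S, le_top, S.2, sylow_not_dvd_relIndex_top S, by rw [← _root_.commutator_def]; exact h⟩

theorem famSup_mono (F : Set (Subgroup G → Subgroup G)) (T : Subgroup G) {H K : Subgroup G}
    (h : H ≤ K) : famSup F T H ≤ famSup F T K :=
  iSup₂_mono fun _ _ => inf_le_inf le_rfl
    (commutator_mono (inf_le_inf h le_rfl) (inf_le_inf h le_rfl))

/-- A normal `p'`-subgroup may be factored out. -/
theorem ctrl_of_quotient_pPrime (h𝓦 : ∀ W ∈ 𝓦, Cfsg.IsCharPFunctor.{u} p W) (N : Subgroup G)
    [N.Normal] (hN : ¬ p ∣ Nat.card N) (h : Ctrl p 𝓦 (G ⧸ N)) : Ctrl p 𝓦 G := by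
  obtain ⟨S⟩ := (inferInstance : Nonempty (Sylow p G))
  rw [ctrl_iff h𝓦 S]
  refine le_antisymm ?_ ((famSup_le _ _ ⊤).trans_eq (by rw [← _root_.commutator_def]))
  set π := QuotientGroup.mk' N
  have hπ := QuotientGroup.mk'_surjective N
  have hd : ∀ x ∈ N, Nat.Coprime (orderOf x) p :=
    (CfsgLib.Fusion.not_dvd_card_iff_forall_coprime_orderOf N).1 hN
  have hinj : ∀ x ∈ (S : Subgroup G), π x = 1 → x = 1 := fun x hx h1 =>
    CfsgLib.Fusion.eq_one_of_pGroup_of_coprime S.2 hx (hd x ((QuotientGroup.eq_one_iff x).1 h1))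
  let e : (S : Subgroup G) ≃* (S : Subgroup G).map π :=
    MulEquiv.ofBijective (π.subgroupMap (S : Subgroup G)) ⟨(injective_iff_map_eq_one _).2 fun x hx =>
      Subtype.ext (hinj x x.2 (congrArg Subtype.val hx)), π.subgroupMap_surjective _⟩
  have hSb := (ctrl_iff h𝓦 (S.mapSurjective hπ)).1 h
  intro x hx
  have hxb : π x ∈ (S : Subgroup G).map π ⊓ commutator (G ⧸ N) := by
    refine mem_inf.2 ⟨mem_map_of_mem π hx.1, ?_⟩
    rw [_root_.commutator_def, ← Subgroup.map_top_of_surjective π hπ, ← Subgroup.map_commutator,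
      ← _root_.commutator_def]
    exact mem_map_of_mem π hx.2
  rw [show (S : Subgroup G).map π = ((S.mapSurjective hπ : Sylow p (G ⧸ N)) : Subgroup (G ⧸ N))
    from rfl, hSb] at hxb
  have hle : famSup (indFam (G ⧸ N) 𝓦) ((S : Subgroup G).map π) ⊤ ≤
      (famSup (indFam G 𝓦) (S : Subgroup G) ⊤).map π := by
    refine iSup₂_le fun W' hW' => ?_
    obtain ⟨W, hW, rfl⟩ := hW'
    have hWS : Cfsg.inducedFunctor W ((S : Subgroup G).map π) =
        (Cfsg.inducedFunctor W (S : Subgroup G)).map π :=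
      induced_of_equiv (h𝓦 W hW) S.2 e π fun _ => rfl
    refine le_trans ?_ (map_mono (le_iSup₂_of_le (Cfsg.inducedFunctor (G := G) W) ⟨W, hW, rfl⟩
      (le_refl _)))
    simp only [hWS, top_inf_eq]
    set X := Cfsg.inducedFunctor W (S : Subgroup G)
    refine (inf_le_inf le_rfl (commutator_mono (CfsgLib.Fusion.normalizer_map_le (p := p) N hN
      (S.2.to_le (induced_le W _))) (CfsgLib.Fusion.normalizer_map_le (p := p) N hN
      (S.2.to_le (induced_le W _))))).trans ?_
    rw [← Subgroup.map_commutator]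
    rintro _ ⟨⟨s, hs, rfl⟩, n, hn, hns⟩
    have hS' : S ≤ normalizer ((X : Subgroup G) : Set G) :=
      le_normalizer.trans (cfun_normalizer_le (isConjugacyFunctor_induced (h𝓦 W hW)) S.2)
    have hm : n⁻¹ * s ∈ N := by
      rw [← QuotientGroup.eq_one_iff, ← QuotientGroup.mk'_apply, map_mul, map_inv, hns,
        inv_mul_cancel]
    refine mem_map_of_mem π (mem_inf.2 ⟨hs, ?_⟩)
    set D := ⁅normalizer ((X : Subgroup G) : Set G), normalizer ((X : Subgroup G) : Set G)⁆
    set K := D ⊔ (N ⊓ normalizer ((X : Subgroup G) : Set G))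
    have hsK : s ∈ K := by
      have : s = n * (n⁻¹ * s) := by group
      rw [this]
      exact mul_mem (mem_sup_left hn) (mem_sup_right (mem_inf.2
        ⟨hm, mul_mem (inv_mem (commutator_le_self _ hn)) (hS' hs)⟩))
    have hnorm : N ⊓ normalizer ((X : Subgroup G) : Set G) ≤ normalizer (D : Set G) :=
      inf_le_right.trans (le_normalizer_commutator le_normalizer le_normalizer)
    rw [← SetLike.mem_coe, Subgroup.coe_mul_of_right_le_normalizer_left _ _ hnorm] at hsK
    obtain ⟨d, hd', m, hm', rfl⟩ := Set.mem_mul.1 hsK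
    obtain ⟨k, hk⟩ := S.2 ⟨_, hs⟩
    have hk' : (d * m) ^ p ^ k = 1 := congrArg Subtype.val hk
    -- the coprime part is absorbed
    have hcop : (p ^ k).Coprime (orderOf m) := Nat.Coprime.pow_left k
      (Nat.coprime_comm.1 (hd m hm'.1))
    have hex : m ^ p ^ k ∈ D := by
      have hmn : m ∈ normalizer (D : Set G) := hnorm hm'
      have key : ∀ i : ℕ, (d * m) ^ i * (m ^ i)⁻¹ ∈ D := by
        intro i
        induction i with
        | zero => simp
        | succ i ih =>
          rw [pow_succ', pow_succ', mul_inv_rev]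
          have h1 := (mem_normalizer_iff.1 hmn _).1 ih
          have := mul_mem hd' h1
          convert this using 1
          group
      have := key (p ^ k)
      rw [hk', one_mul, inv_mem_iff] at this
      exact this
    have hmD : m ∈ D := by
      obtain ⟨i, hi⟩ := exists_pow_eq_self_of_coprime hcop
      rw [← hi]
      exact pow_mem hex i
    exact mul_mem hd' hmD
  obtain ⟨y, hy, hyx⟩ := hle hxb
  have hyS : y ∈ (S : Subgroup G) := (famSup_le _ _ _ hy).1
  have : x = y := (mul_inv_eq_one.1 (hinj _ (mul_mem hyS (inv_mem hx.1))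
    (by rw [map_mul, map_inv, hyx, mul_inv_cancel]))).symm
  rwa [this]

/-- Without a normal `p`-subgroup, control passes from the proper subgroups to the group. -/
theorem ctrl_of_pCore_eq_bot (h𝓦 : ∀ W ∈ 𝓦, Cfsg.IsCharPFunctor.{u} p W)
    (hsub : ∀ H : Subgroup G, H ≠ ⊤ → Cfsg.FamilyControlsTransferIn p (indFam G 𝓦) H)
    (hQ : Cfsg.pCore p G = ⊥) : Ctrl p 𝓦 G := by
  obtain ⟨S⟩ := (inferInstance : Nonempty (Sylow p G))
  refine transfer_local_to_global S (indFam_isConjugacyFunctor h𝓦) (localData_full S)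
    fun T hTS hT _ => hsub _ fun h => hT (le_bot_iff.1 ?_)
  haveI : T.Normal := Subgroup.normalizer_eq_top_iff.1 h
  exact (CfsgLib.Coprime.le_pCore (S.2.to_le hTS)).trans hQ.le

end CfsgLib.CFun
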