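import Cfsg.Agent.Lib.CFun.OffenderCore
import Cfsg.Agent.Lib.Fusion.FourSection
import Cfsg.Agent.Lib.Fusion.ZJFamilies
import Cfsg.Agent.Lib.Fusion.Dichotomy
import Cfsg.Agent.Lib.Fusion.System.Glauberman

/-!
# Central elements fixed by the normalizer of the Thompson subgroup in groups without a section `S₄`
-/

set_option autoImplicit false
set_option linter.style.haveILetI false

open Subgroup
open CfsgLib.Fusion (conjBy mem_conjBy conj_mem_conjBy conjBy_le_iff conjBy_eq_iff conjBy_conjBy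
  conjBy_mono card_conjBy maxAb)

namespace CfsgLib.CFun

universe u

section

variable {Y : Type u} [Group Y]

theorem conjBy_mem_maxAb {g : Y} {D D' A : Subgroup Y} (hD : maxAb D ⊆ maxAb D') (hA : A ∈ maxAb D)
    (h : conjBy g A ≤ D') : conjBy g A ∈ maxAb D' :=
  ⟨h, CfsgLib.Fusion.isMulCommutative_map _ hA.2.1, fun B hB hBc => by
    rw [card_conjBy]; exact (hD hA).2.2 B hB hBc⟩

theorem conjBy_le_of_normal {g : Y} {N K : Subgroup Y} [N.Normal] (h : N ≤ K) : N ≤ conjBy g K :=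
  fun n hn => mem_conjBy.2 (h ((inferInstance : N.Normal).conj_mem' n hn g))

theorem le_of_conjBy_le {g : Y} {H K : Subgroup Y} (hg : g ∈ K) (h : conjBy g H ≤ K) : H ≤ K := by
  intro x hx
  have := mul_mem (mul_mem (inv_mem hg) (conjBy_le_iff.1 h x hx)) hg
  simpa [mul_assoc] using this

/-- The conjugation action of `Y` without a section `S₄` gives no section `S₃` on four-groups. -/
theorem noThree_of_not_involves [Finite Y] (hfree : ¬ Cfsg.Involves (Equiv.Perm (Fin 4)) Y)
    {E : Subgroup Y} {V G : Type*} [CommGroup V] [Group G] (π : Y →* G) (hπ : Function.Surjective π)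
    (σ : E →* V) (hσ : Function.Surjective σ) (ρ : G →* MulAut V) (hEn : E.Normal)
    (hcompat : ∀ (g : Y) (e : E), ρ (π g) (σ e) = σ ⟨g * e * g⁻¹, hEn.conj_mem e e.2 g⟩)
    (hEc : ∀ a ∈ E, ∀ b ∈ E, Commute a b) (h2 : ∀ v : V, v * v = 1) : NoThree ρ := by
  rintro ⟨a₀, b₀, N, x, y, -, -, hN, hxN, hyN, hxyN, hax, hay, hby, hbx⟩
  obtain ⟨a, rfl⟩ := hπ a₀
  obtain ⟨b, rfl⟩ := hπ b₀
  set q := QuotientGroup.mk' N with hq
  set α := q x with hα
  set β := q y with hβ
  have hsq : ∀ w : V ⧸ N, w * w = 1 := by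
    intro w
    induction w using QuotientGroup.induction_on with
    | _ v => rw [← QuotientGroup.mk_mul, h2, QuotientGroup.mk_one]
  have hker : ∀ v, q v = 1 ↔ v ∈ N := fun v => QuotientGroup.eq_one_iff v
  have hdiv : ∀ {v w : V}, v / w ∈ N → q v = q w := fun {v w} h =>
    div_eq_one.1 (by rw [← map_div]; exact (hker _).2 h)
  have hα1 : α ≠ 1 := fun h => hxN ((hker _).1 h)
  have hβ1 : β ≠ 1 := fun h => hyN ((hker _).1 h)
  have hαβ1 : α * β ≠ 1 := fun h => hxyN ((hker _).1 (by rw [map_mul]; exact h))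
  have hαβ : α ≠ β := fun h => hαβ1 (by rw [h, hsq])
  -- the two automorphisms on the four-group
  have e1 : q (ρ (π a) x) = α * β := by
    rw [delt_apply ρ, map_mul, hdiv hax, mul_comm]
  have e2 : q (ρ (π a) y) = β := by rw [delt_apply ρ, map_mul, (hker _).2 hay, one_mul]
  have e3 : q (ρ (π b) y) = α * β := by rw [delt_apply ρ, map_mul, hdiv hby]
  have e4 : q (ρ (π b) x) = α := by rw [delt_apply ρ, map_mul, (hker _).2 hbx, one_mul]
  let W : Subgroup (V ⧸ N) :=
    { carrier := {w | w = 1 ∨ w = α ∨ w = β ∨ w = α * β}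
      one_mem' := Or.inl rfl
      mul_mem' := fun {v w} hv hw => by
        have f1 : α * (α * β) = β := by rw [← mul_assoc, hsq, one_mul]
        have f2 : β * (α * β) = α := by rw [mul_comm α β, ← mul_assoc, hsq, one_mul]
        show v * w = 1 ∨ v * w = α ∨ v * w = β ∨ v * w = α * β
        rcases hv with e | e | e | e <;> rcases hw with f | f | f | f <;> rw [e, f] <;>
          simp [hsq, f1, f2, mul_comm β α, mul_comm (α * β) α, mul_comm (α * β) β]
      inv_mem' := fun {v} hv => by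
        show v⁻¹ = 1 ∨ v⁻¹ = α ∨ v⁻¹ = β ∨ v⁻¹ = α * β
        rwa [show v⁻¹ = v from inv_eq_of_mul_eq_one_right (hsq v)] }
  have hW4 : Nat.card W = 4 := by
    have hset : (W : Set (V ⧸ N)) = {1, α, β, α * β} := by
      ext w; simp [W]
    rw [← SetLike.coe_sort_coe, Nat.card_coe_set_eq, hset,
      Set.ncard_insert_of_notMem (by simp [hα1.symm, hβ1.symm, hαβ1.symm]),
      Set.ncard_insert_of_notMem (by simp [hαβ, hβ1]),
      Set.ncard_insert_of_notMem (by simp [hα1]), Set.ncard_singleton]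
  set τ : E →* V ⧸ N := q.comp σ with hτ
  set Q₀ := τ.ker.map E.subtype with hQ₀
  set U₀ := (W.comap τ).map E.subtype with hU₀
  have hQU : Q₀ ≤ U₀ := map_mono fun e he => by
    show τ e ∈ W
    rw [MonoidHom.mem_ker.1 he]; exact one_mem W
  have hτs : Function.Surjective τ := (QuotientGroup.mk'_surjective N).comp hσ
  have h4 : Q₀.relIndex U₀ = 4 := by
    rw [hQ₀, hU₀, relIndex_map_map_of_injective _ _ E.subtype_injective, ← MonoidHom.comap_bot,
      Subgroup.relIndex_comap, map_comap_eq_self_of_surjective hτs, relIndex_bot_left, hW4]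
  have hmemQ : ∀ e : E, (e : Y) ∈ Q₀ ↔ τ e = 1 := fun e =>
    ⟨fun ⟨e', he', h⟩ => by rw [← Subtype.ext h]; exact he', fun h => ⟨e, h, rfl⟩⟩
  have hmemU : ∀ e : E, (e : Y) ∈ U₀ ↔ τ e ∈ W := fun e =>
    ⟨fun ⟨e', he', h⟩ => by rw [← Subtype.ext h]; exact he', fun h => ⟨e, h, rfl⟩⟩
  have hnorm : ∀ g : Y, (∀ u ∈ N, ρ (π g) u ∈ N) → (q (ρ (π g) x) ∈ W) → (q (ρ (π g) y) ∈ W) →
      g ∈ normalizer (Q₀ : Set Y) ∧ g ∈ normalizer (U₀ : Set Y) := by
    intro g hgN hgx hgy
    constructor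
    · refine conjBy_eq_iff.1 (CfsgLib.Fusion.conjBy_eq_of_le (conjBy_le_iff.2 ?_))
      rintro _ ⟨e, he, rfl⟩
      refine (hmemQ ⟨g * e * g⁻¹, hEn.conj_mem e e.2 g⟩).2 ((hker _).2 ?_)
      rw [← hcompat]
      exact hgN _ ((hker _).1 he)
    · refine conjBy_eq_iff.1 (CfsgLib.Fusion.conjBy_eq_of_le (conjBy_le_iff.2 ?_))
      rintro _ ⟨e, he, rfl⟩
      refine (hmemU ⟨g * e * g⁻¹, hEn.conj_mem e e.2 g⟩).2 ?_
      show q (σ _) ∈ W
      rw [← hcompat]
      rcases (show τ e = 1 ∨ τ e = α ∨ τ e = β ∨ τ e = α * β from he) with h | h | h | h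
      · rw [(hker _).2 (hgN _ ((hker _).1 h))]; exact one_mem W
      · rw [delt_apply ρ (π g) (σ e), map_mul,
          show q (delt ρ (π g) (σ e)) = q (delt ρ (π g) x) from ?_, show q (σ e) = q x from h,
          ← map_mul, ← delt_apply]
        · exact hgx
        · refine hdiv ?_
          rw [div_eq_mul_inv, ← delt_inv_right, ← delt_mul_left]
          exact div_mem (hgN _ ((hker _).1 (by rw [map_mul, map_inv]; exact mul_inv_eq_one.2 h)))
            ((hker _).1 (by rw [map_mul, map_inv]; exact mul_inv_eq_one.2 h))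
      · rw [delt_apply ρ (π g) (σ e), map_mul,
          show q (delt ρ (π g) (σ e)) = q (delt ρ (π g) y) from ?_, show q (σ e) = q y from h,
          ← map_mul, ← delt_apply]
        · exact hgy
        · refine hdiv ?_
          rw [div_eq_mul_inv, ← delt_inv_right, ← delt_mul_left]
          exact div_mem (hgN _ ((hker _).1 (by rw [map_mul, map_inv]; exact mul_inv_eq_one.2 h)))
            ((hker _).1 (by rw [map_mul, map_inv]; exact mul_inv_eq_one.2 h))
      · rw [delt_apply ρ (π g) (σ e), map_mul,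
          show q (delt ρ (π g) (σ e)) = q (delt ρ (π g) (x * y)) from ?_,
          show q (σ e) = q (x * y) from h.trans (map_mul q x y).symm,
          ← map_mul, ← delt_apply, map_mul, map_mul]
        · exact mul_mem hgx hgy
        · refine hdiv ?_
          rw [div_eq_mul_inv, ← delt_inv_right, ← delt_mul_left]
          have h' : q (σ e) = q (x * y) := h.trans (map_mul q x y).symm
          exact div_mem (hgN _ ((hker _).1 (by rw [map_mul, map_inv]; exact mul_inv_eq_one.2 h')))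
            ((hker _).1 (by rw [map_mul, map_inv]; exact mul_inv_eq_one.2 h'))
  obtain ⟨haQ, haU⟩ := hnorm a (fun u hu => (hN u hu).1) (by rw [e1]; exact Or.inr (Or.inr (Or.inr rfl)))
    (by rw [e2]; exact Or.inr (Or.inr (Or.inl rfl)))
  obtain ⟨hbQ, hbU⟩ := hnorm b (fun u hu => (hN u hu).2) (by rw [e4]; exact Or.inr (Or.inl rfl))
    (by rw [e3]; exact Or.inr (Or.inr (Or.inr rfl)))
  refine hfree (CfsgLib.Fusion.involves_of_fourCond Q₀ U₀ a b hQU ?_ h4 haQ haU hbQ hbU ?_)
  · rintro _ ⟨e, -, rfl⟩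
    refine centralizer_le_normalizer _ (mem_centralizer_iff.2 ?_)
    rintro _ ⟨e', -, rfl⟩
    exact hEc _ e'.2 _ e.2
  -- the action on the four classes
  have hact : ∀ (g : Y), (∀ u ∈ N, ρ (π g) u ∈ N) → ∀ (e : E) (v : V), τ e = q v →
      τ ⟨g * e * g⁻¹, hEn.conj_mem e e.2 g⟩ = q (ρ (π g) v) := by
    intro g hgN e v he
    show q (σ _) = _
    rw [← hcompat]
    refine hdiv ?_
    rw [← map_div]
    exact hgN _ ((hker _).1 (by rw [map_div]; exact div_eq_one.2 he))
  have hA : ∀ e : E, (τ e = 1 → τ ⟨a * e * a⁻¹, hEn.conj_mem e e.2 a⟩ = 1) ∧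
      (τ e = α → τ ⟨a * e * a⁻¹, hEn.conj_mem e e.2 a⟩ = α * β) ∧
      (τ e = β → τ ⟨a * e * a⁻¹, hEn.conj_mem e e.2 a⟩ = β) ∧
      (τ e = α * β → τ ⟨a * e * a⁻¹, hEn.conj_mem e e.2 a⟩ = α) := by
    intro e
    have hh := hact a (fun u hu => (hN u hu).1) e
    refine ⟨fun h => ?_, fun h => (hh x h).trans e1, fun h => (hh y h).trans e2, fun h => ?_⟩
    · rw [hh 1 (by rw [h, map_one]), map_one, map_one]
    · rw [hh (x * y) (by rw [h, map_mul]), map_mul, map_mul, e1, e2, mul_assoc, hsq, mul_one]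
  have hB : ∀ e : E, (τ e = 1 → τ ⟨b * e * b⁻¹, hEn.conj_mem e e.2 b⟩ = 1) ∧
      (τ e = α → τ ⟨b * e * b⁻¹, hEn.conj_mem e e.2 b⟩ = α) ∧
      (τ e = β → τ ⟨b * e * b⁻¹, hEn.conj_mem e e.2 b⟩ = α * β) ∧
      (τ e = α * β → τ ⟨b * e * b⁻¹, hEn.conj_mem e e.2 b⟩ = β) := by
    intro e
    have hh := hact b (fun u hu => (hN u hu).2) e
    refine ⟨fun h => ?_, fun h => (hh x h).trans e4, fun h => (hh y h).trans e3, fun h => ?_⟩
    · rw [hh 1 (by rw [h, map_one]), map_one, map_one]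
    · rw [hh (x * y) (by rw [h, map_mul]), map_mul, map_mul, e4, e3, ← mul_assoc, hsq, one_mul]
  have hmul : ∀ (g u : Y) (hu : u ∈ E), g * u * g⁻¹ ∈ E := fun g u hu => hEn.conj_mem u hu g
  have hiff : ∀ {u v : Y} (hu : u ∈ E) (hv : v ∈ E), u * v⁻¹ ∈ Q₀ ↔ τ ⟨u, hu⟩ = τ ⟨v, hv⟩ := by
    intro u v hu hv
    rw [show u * v⁻¹ = ((⟨u, hu⟩ * ⟨v, hv⟩⁻¹ : E) : Y) from rfl, hmemQ, map_mul, map_inv,
      mul_inv_eq_one]
  have hUE : ∀ {u : Y}, u ∈ U₀ → ∃ hu : u ∈ E, τ ⟨u, hu⟩ ∈ W := by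
    rintro _ ⟨e, he, rfl⟩
    exact ⟨e.2, he⟩
  constructor
  · intro u hu
    obtain ⟨hu, hw⟩ := hUE hu
    refine (hiff (hmul a _ (hmul a u hu)) hu).2 ?_
    rcases hw with h | h | h | h
    · rw [h]; exact (hA _).1 ((hA ⟨u, hu⟩).1 h)
    · rw [h]; exact (hA _).2.2.2 ((hA ⟨u, hu⟩).2.1 h)
    · rw [h]; exact (hA _).2.2.1 ((hA ⟨u, hu⟩).2.2.1 h)
    · rw [h]; exact (hA _).2.1 ((hA ⟨u, hu⟩).2.2.2 h)
  · intro u hu
    obtain ⟨hu, hw⟩ := hUE hu
    refine (hiff (hmul b _ (hmul b u hu)) hu).2 ?_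
    rcases hw with h | h | h | h
    · rw [h]; exact (hB _).1 ((hB ⟨u, hu⟩).1 h)
    · rw [h]; exact (hB _).2.1 ((hB ⟨u, hu⟩).2.1 h)
    · rw [h]; exact (hB _).2.2.2 ((hB ⟨u, hu⟩).2.2.1 h)
    · rw [h]; exact (hB _).2.2.1 ((hB ⟨u, hu⟩).2.2.2 h)
  · intro u hu
    obtain ⟨hu, hw⟩ := hUE hu
    refine (hiff (hmul a _ (hmul b _ (hmul a _ (hmul b _ (hmul a _ (hmul b u hu)))))) hu).2 ?_
    rcases hw with h | h | h | h <;> rw [h]
    · exact (hA _).1 ((hB _).1 ((hA _).1 ((hB _).1 ((hA _).1 ((hB ⟨u, hu⟩).1 h)))))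
    · exact (hA _).2.2.2 ((hB _).2.2.1 ((hA _).2.2.1 ((hB _).2.2.2 ((hA _).2.1
        ((hB ⟨u, hu⟩).2.1 h)))))
    · exact (hA _).2.2.1 ((hB _).2.2.2 ((hA _).2.1 ((hB _).2.1 ((hA _).2.2.2
        ((hB ⟨u, hu⟩).2.2.1 h)))))
    · exact (hA _).2.1 ((hB _).2.1 ((hA _).2.2.2 ((hB _).2.2.1 ((hA _).2.2.1
        ((hB ⟨u, hu⟩).2.2.2 h)))))
  · intro u hu hfix
    obtain ⟨hu, hw⟩ := hUE hu
    have hfix' := (hiff (hmul a _ (hmul b u hu)) hu).1 hfix
    have hne1 : α ≠ α * β := fun h => hβ1 (mul_eq_left.1 h.symm)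
    have hne2 : β ≠ α * β := fun h => hα1 (mul_eq_right.1 h.symm)
    refine (hmemQ ⟨u, hu⟩).2 ?_
    rcases hw with h | h | h | h
    · exact h
    · rw [h] at hfix'
      exact absurd ((hA _).2.1 ((hB ⟨u, hu⟩).2.1 h) |>.symm.trans hfix') hne1.symm
    · rw [h] at hfix'
      exact absurd ((hA _).2.2.2 ((hB ⟨u, hu⟩).2.2.1 h) |>.symm.trans hfix') hαβ
    · rw [h] at hfix'
      exact absurd ((hA _).2.2.1 ((hB ⟨u, hu⟩).2.2.2 h) |>.symm.trans hfix') hne2
  · obtain ⟨e, he⟩ := hτs α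
    refine ⟨e, (hmemU e).2 (Or.inr (Or.inl he)), fun h => hβ1 ?_⟩
    have h' := (hiff (hmul a _ e.2) e.2).1 h
    rw [(hA e).2.1 he, he] at h'
    exact mul_eq_left.1 h'

end

/-- An element of the centre of a Sylow 2-subgroup which lies in `O₂` and is fixed by the normalizer
of the Thompson subgroup is central, when `S₄` is not involved. -/
theorem commute_of_fix_thompsonA_aux (n : ℕ) : ∀ (Y : Type u) [Group Y] [Finite Y],
    Nat.card Y = n → ¬ Cfsg.Involves (Equiv.Perm (Fin 4)) Y → ∀ (T : Sylow 2 Y) (x : Y),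
    x ∈ Cfsg.pCore 2 Y → (∀ t ∈ (T : Subgroup Y), Commute t x) →
    (∀ g ∈ normalizer (Cfsg.thompsonSubgroupAOf (T : Subgroup Y) : Set Y), Commute g x) →
    ∀ g : Y, Commute g x := by
  induction n using Nat.strong_induction_on with
  | _ n ih =>
  intro Y _ _ hn hfree T x
  classical
  induction hm : orderOf x using Nat.strong_induction_on generalizing x with
  | _ m ihm =>
  intro hxQ hxT hJ
  set L := centralizer ({x} : Set Y) with hLdef
  have hmemL : ∀ {g}, g ∈ L ↔ Commute g x := mem_centralizer_singleton_iff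
  suffices hLtop : L = ⊤ from fun g => hmemL.1 (hLtop.ge (mem_top g))
  by_contra hL
  haveI hQn : (Cfsg.pCore 2 Y).Normal := CfsgLib.Coprime.pCore_normal' 2
  set Q := Cfsg.pCore 2 Y with hQdef
  have hQp : IsPGroup 2 Q := CfsgLib.Coprime.pCore_isPGroup 2
  have hQT : Q ≤ (T : Subgroup Y) := hQp.le_sylow_of_normal T
  have hTL : (T : Subgroup Y) ≤ L := fun t ht => hmemL.2 (hxT t ht)
  haveI : Group.IsNilpotent (T : Subgroup Y) := T.2.isNilpotent
  have hx1 : x ≠ 1 := fun h => hL (top_le_iff.1 fun g _ => hmemL.2 (h ▸ Commute.one_right g))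
  -- the square is central
  have hsq : ∀ g : Y, Commute g (x ^ 2) := by
    refine ihm (orderOf (x ^ 2)) ?_ (x ^ 2) rfl (pow_mem hxQ 2) (fun t ht => (hxT t ht).pow_right 2)
      fun g hg => (hJ g hg).pow_right 2
    obtain ⟨k, hk⟩ := IsPGroup.iff_orderOf.1 hQp ⟨x, hxQ⟩
    rw [Subgroup.orderOf_mk] at hk
    rw [← hm, orderOf_pow]
    rcases k with _ | k
    · exact absurd (orderOf_eq_one_iff.1 (by simpa using hk)) hx1
    · rw [hk, Nat.gcd_eq_right (dvd_pow_self 2 k.succ_ne_zero)]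
      exact Nat.div_lt_self (by positivity) one_lt_two
  -- the conjugates of `x`
  set E := normalClosure ({x} : Set Y) with hE
  haveI hEn : E.Normal := normalClosure_normal
  have hxE : x ∈ E := subset_normalClosure rfl
  have hEQ : E ≤ Q := normalClosure_le_normal (Set.singleton_subset_iff.2 hxQ)
  have hEcen : E ≤ centralizer (Q : Set Y) := normalClosure_le_normal
    (Set.singleton_subset_iff.2 (mem_centralizer_iff.2 fun w hw => (hxT w (hQT hw)).eq))
  have hEc : ∀ a ∈ E, ∀ b ∈ E, Commute a b := fun a ha b hb =>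
    (mem_centralizer_iff.1 (hEcen hb) a (hEQ ha))
  letI : CommGroup E := { mul_comm := fun a b => Subtype.ext (hEc _ a.2 _ b.2) }
  have hEp : IsPGroup 2 E := hQp.to_le hEQ
  set φ : Y →* MulAut E := MulAut.conjNormal with hφdef
  have hφ : ∀ (g : Y) (e : E), ((φ g e : E) : Y) = g * e * g⁻¹ := fun g e => rfl
  let G := φ.range
  set π : Y →* G := φ.rangeRestrict with hπdef
  have hπs : Function.Surjective π := φ.rangeRestrict_surjective
  haveI : Finite (MulAut E) := Finite.of_injective MulEquiv.toEquiv fun a b h =>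
    MulEquiv.ext fun v => congrArg (fun e : E ≃ E => e v) h
  have hker : ∀ g, π g = 1 ↔ ∀ e ∈ E, Commute g e := by
    intro g
    constructor
    · intro h e he
      have h1 : φ g = 1 := congrArg Subtype.val h
      have h2 := congrArg (fun f : MulAut E => ((f ⟨e, he⟩ : E) : Y)) h1
      simp only [MulAut.one_apply, hφ] at h2
      exact mul_inv_eq_iff_eq_mul.1 h2
    · intro h
      refine Subtype.ext (MulEquiv.ext fun e => Subtype.ext ?_)
      show g * e * g⁻¹ = e
      rw [(h e e.2).eq, mul_inv_cancel_right]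
  have hkerL : π.ker ≤ L := fun g hg => hmemL.2 ((hker g).1 hg x hxE)
  have hQker : Q ≤ π.ker := fun w hw => (hker w).2 fun e he => mem_centralizer_iff.1 (hEcen he) w hw
  -- some large abelian subgroup of `T` acts nontrivially
  have hex : ∃ A ∈ maxAb (T : Subgroup Y), ¬ A ≤ π.ker := by
    by_contra hall
    push Not at hall
    obtain ⟨A₀, hA₀⟩ := CfsgLib.Fusion.maxAb_nonempty (T : Subgroup Y)
    have hmax := CfsgLib.Fusion.maxAb_inter hA₀ (hall A₀ hA₀)
    have hset : {A : Subgroup Y | A ∈ maxAb (T : Subgroup Y) ∧ A ≤ π.ker} =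
        maxAb (T : Subgroup Y) := Set.ext fun A => ⟨fun h => h.1, fun h => ⟨h, hall A h⟩⟩
    rw [hset] at hmax
    set R := (T : Subgroup Y) ⊓ π.ker with hR
    have hRp : IsPGroup 2 R := T.2.to_le inf_le_left
    let TK : Sylow 2 π.ker := (hRp.of_equiv (Subgroup.subgroupOfEquivOfLe inf_le_right).symm).toSylow
      (CfsgLib.Fusion.not_dvd_relIndex_inf_of_normal T π.ker)
    have hfr : normalizer (R : Set Y) ⊔ π.ker = ⊤ := by
      have := Sylow.normalizer_sup_eq_top TK
      rwa [show (TK : Subgroup π.ker).map π.ker.subtype = R from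
        map_subgroupOf_eq_of_le inf_le_right] at this
    refine hL (top_le_iff.1 (hfr.ge.trans (sup_le ?_ hkerL)))
    intro g hg
    refine hmemL.2 (hJ g ?_)
    have := CfsgLib.Fusion.normalizer_le_normalizer_thompsonA R hg
    rwa [CfsgLib.Fusion.thompsonSubgroupAOf_eq, ← hmax,
      ← CfsgLib.Fusion.thompsonSubgroupAOf_eq] at this
  have moved : ∀ {g : Y} {A : Subgroup Y}, ¬ A ≤ π.ker → ¬ conjBy g A ≤ π.ker := by
    intro g A hA h
    exact hA fun a ha => by
      have := (inferInstance : π.ker.Normal).conj_mem' _ (h (conj_mem_conjBy ha)) g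
      simpa [mul_assoc] using this
  -- subgroups meeting a large moving abelian subgroup
  have down : ∀ d : ℕ,
      (∀ y : Y, Nat.card (T : Subgroup Y) -
          Nat.card ((T : Subgroup Y) ⊓ conjBy y T : Subgroup Y) = d →
        (∃ A ∈ maxAb (T : Subgroup Y), ¬ A ≤ π.ker ∧ A ≤ conjBy y T) → y ∈ L) ∧
      (∀ H T₁ : Subgroup Y, H ≠ ⊤ → Q ≤ H → T₁ ≤ (T : Subgroup Y) → T₁ ≤ H →
        ¬ 2 ∣ T₁.relIndex H → Nat.card (T : Subgroup Y) - Nat.card T₁ = d →
        (∃ A ∈ maxAb (T : Subgroup Y), ¬ A ≤ π.ker ∧ A ≤ T₁) → H ≤ L) := by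
    intro d
    induction d using Nat.strong_induction_on with
    | _ d ihd =>
    -- a proper subgroup containing a larger part of `T`
    have up : ∀ M P : Subgroup Y, M ≠ ⊤ → Q ≤ M → P ≤ (T : Subgroup Y) → P ≤ M →
        Nat.card (T : Subgroup Y) - Nat.card P < d →
        (∃ A ∈ maxAb (T : Subgroup Y), ¬ A ≤ π.ker ∧ A ≤ P) → M ≤ L := by
      intro M P hM hQM hPT hPM hd ⟨A, hA, hAk, hAP⟩
      obtain ⟨P₁, hPP₁, hP₁M, hP₁p, hP₁i⟩ :=
        CfsgLib.Fusion.exists_le_not_dvd_relIndex (T.2.to_le hPT) hPM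
      obtain ⟨g, -, hgT⟩ := CfsgLib.Fusion.exists_conj_le_of_not_dvd_relIndex T.2 le_top
        (by rw [relIndex_top_right]; exact T.not_dvd_index) hP₁p le_top
      have hPg : P ≤ conjBy g⁻¹ (T : Subgroup Y) := by
        refine hPP₁.trans ?_
        have := conjBy_mono (g := g⁻¹) hgT
        rwa [CfsgLib.Fusion.conjBy_inv_conjBy] at this
      have hcard := Subgroup.card_le_of_le (le_inf hPT hPg)
      have hgL : g ∈ L := by
        have := (ihd _ (lt_of_le_of_lt (Nat.sub_le_sub_left hcard _) hd)).1 g⁻¹ rfl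
          ⟨A, hA, hAk, hAP.trans hPg⟩
        simpa using inv_mem this
      have hcard' := Subgroup.card_le_of_le hPP₁
      refine le_of_conjBy_le hgL ((ihd (Nat.card (T : Subgroup Y) - Nat.card (conjBy g P₁))
        (lt_of_le_of_lt (Nat.sub_le_sub_left (by rw [card_conjBy]; exact hcard') _) hd)).2
        (conjBy g M) (conjBy g P₁) (fun e => hM ?_) (conjBy_le_of_normal hQM) hgT
        (conjBy_mono hP₁M) (CfsgLib.Fusion.not_dvd_relIndex_conjBy g hP₁i) rfl
        ⟨conjBy g A, conjBy_mem_maxAb subset_rfl hA ((conjBy_mono (hAP.trans hPP₁)).trans hgT),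
          moved hAk, conjBy_mono (hAP.trans hPP₁)⟩)
      refine eq_top_iff.2 (le_trans ?_ (le_of_eq (CfsgLib.Fusion.conjBy_inv_conjBy g M)))
      rw [e]
      exact fun z _ => mem_conjBy.2 (mem_top _)
    refine ⟨?_, ?_⟩
    · intro y hd ⟨A, hA, hAk, hAy⟩
      set R := (T : Subgroup Y) ⊓ conjBy y T with hR
      have hAR : A ≤ R := le_inf hA.1 hAy
      have hRT : R ≤ (T : Subgroup Y) := inf_le_left
      have hQR : Q ≤ R := le_inf hQT (conjBy_le_of_normal hQT)
      by_cases hRe : R = (T : Subgroup Y)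
      · refine hmemL.2 (hJ y (CfsgLib.Fusion.normalizer_le_normalizer_thompsonA _ ?_))
        exact conjBy_eq_iff.1 (Subgroup.eq_of_le_of_card_ge (hRe.ge.trans inf_le_right)
          (by rw [card_conjBy])).symm
      have hRne : R ≠ conjBy y T := fun e => hRe
        (Subgroup.eq_of_le_of_card_ge hRT (by rw [e, card_conjBy]))
      set N := normalizer (R : Set Y) with hN
      have hNtop : N ≠ ⊤ := fun e => hAk (hAR.trans (le_trans ?_ hQker))
      swap
      · haveI : R.Normal := Subgroup.normalizer_eq_top_iff.1 e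
        exact CfsgLib.Coprime.le_pCore (T.2.to_le hRT)
      have hQN : Q ≤ N := hQR.trans le_normalizer
      set P := (T : Subgroup Y) ⊓ N with hP
      set P' := conjBy y (T : Subgroup Y) ⊓ N with hP'
      have hPlt : Nat.card R < Nat.card P :=
        CfsgLib.Fusion.card_lt_card_of_lt (CfsgLib.Fusion.lt_inf_normalizer hRT hRe)
      haveI : Group.IsNilpotent (conjBy y (T : Subgroup Y)) :=
        (CfsgLib.Fusion.isPGroup_conjBy y T.2).isNilpotent
      have hP'lt : Nat.card R < Nat.card P' := CfsgLib.Fusion.card_lt_card_of_lt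
        (CfsgLib.Fusion.lt_inf_normalizer (P := conjBy y (T : Subgroup Y)) inf_le_right hRne)
      have hcP : Nat.card P ≤ Nat.card (T : Subgroup Y) := Subgroup.card_le_of_le inf_le_left
      have hcR := Subgroup.card_le_of_le hRT
      have hNL : N ≤ L := up N P hNtop hQN inf_le_left inf_le_right (by omega)
        ⟨A, hA, hAk, (le_inf hRT le_normalizer).trans' hAR⟩
      obtain ⟨l, hl, hlT⟩ := CfsgLib.Fusion.exists_conj_le_of_not_dvd_relIndex T.2 hTL
        (fun hd => T.not_dvd_index (hd.trans (relIndex_dvd_index_of_le hTL)))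
        ((CfsgLib.Fusion.isPGroup_conjBy y T.2).to_le inf_le_left) (inf_le_right.trans hNL)
      have hly : conjBy l P' ≤ (T : Subgroup Y) ⊓ conjBy (l * y) T :=
        le_inf hlT (by rw [← conjBy_conjBy]; exact conjBy_mono inf_le_left)
      have hc := Subgroup.card_le_of_le hly
      rw [card_conjBy] at hc
      have hc' := Subgroup.card_le_of_le
        (inf_le_left : (T : Subgroup Y) ⊓ conjBy (l * y) T ≤ (T : Subgroup Y))
      have hAP' : A ≤ P' := le_inf hAy (hAR.trans le_normalizer)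
      have hres := (ihd (Nat.card (T : Subgroup Y) -
          Nat.card ((T : Subgroup Y) ⊓ conjBy (l * y) T : Subgroup Y)) (by omega)).1 (l * y) rfl
        ⟨conjBy l A, conjBy_mem_maxAb subset_rfl hA ((conjBy_mono hAP').trans hlT), moved hAk,
          ((conjBy_mono hAP').trans hly).trans inf_le_right⟩
      simpa using mul_mem (inv_mem hl) hres
    · intro H T₁ hH hQH hT₁T hT₁H hT₁i hd ⟨A, hA, hAk, hAT₁⟩
      let TH : Sylow 2 H :=
        ((T.2.to_le hT₁T).of_equiv (Subgroup.subgroupOfEquivOfLe hT₁H).symm).toSylow hT₁i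
      have hmapTH : (TH : Subgroup H).map H.subtype = T₁ := map_subgroupOf_eq_of_le hT₁H
      have hxH : x ∈ H := hQH hxQ
      have hQle : Q.subgroupOf H ≤ Cfsg.pCore 2 H :=
        CfsgLib.Coprime.le_pCore (hQp.of_equiv (Subgroup.subgroupOfEquivOfLe hQH).symm)
      have hJ₁ : H ⊓ normalizer (Cfsg.thompsonSubgroupAOf T₁ : Set Y) ≤ L := by
        rcases eq_or_ne T₁ (T : Subgroup Y) with e | e
        · exact fun g hg => hmemL.2 (hJ g (e ▸ hg.2))
        set M := normalizer (Cfsg.thompsonSubgroupAOf T₁ : Set Y) with hM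
        have hT₁M : normalizer (T₁ : Set Y) ≤ M :=
          CfsgLib.Fusion.normalizer_le_normalizer_thompsonA T₁
        have hQT₁ : Q ≤ T₁ := by
          intro w hw
          rw [← hmapTH]
          exact ⟨⟨w, hQH hw⟩, (CfsgLib.Coprime.pCore_isPGroup 2).le_sylow_of_normal TH
            (hQle hw), rfl⟩
        have hMtop : M ≠ ⊤ := fun e' => hAk (le_trans ?_ hQker)
        swap
        · haveI : (Cfsg.thompsonSubgroupAOf T₁).Normal := Subgroup.normalizer_eq_top_iff.1 e'
          refine le_trans ?_ (CfsgLib.Coprime.le_pCore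
            ((T.2.to_le hT₁T).to_le (CfsgLib.Fusion.thompsonSubgroupAOf_le T₁)))
          rw [CfsgLib.Fusion.thompsonSubgroupAOf_eq]
          exact le_sSup ⟨hAT₁, hA.2.1, fun B hB => hA.2.2 B (hB.trans hT₁T)⟩
        have hlt : Nat.card T₁ < Nat.card ((T : Subgroup Y) ⊓ M : Subgroup Y) :=
          lt_of_lt_of_le (CfsgLib.Fusion.card_lt_card_of_lt (CfsgLib.Fusion.lt_inf_normalizer hT₁T e))
            (Subgroup.card_le_of_le (inf_le_inf le_rfl hT₁M))
        have := Subgroup.card_le_of_le (inf_le_left : (T : Subgroup Y) ⊓ M ≤ (T : Subgroup Y))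
        exact inf_le_right.trans (up M _ hMtop (hQT₁.trans (le_normalizer.trans hT₁M))
          inf_le_left inf_le_right (by omega)
          ⟨A, hA, hAk, (le_inf hT₁T (le_normalizer.trans hT₁M)).trans' hAT₁⟩)
      have hlt : Nat.card H < n := by
        rw [← hn]
        exact lt_of_le_of_ne (Nat.le_of_dvd Nat.card_pos (card_subgroup_dvd_card H)) fun e =>
          hH (eq_top_of_card_eq H e)
      have hfix := ih _ hlt H rfl (fun h => hfree (CfsgLib.Fusion.involves_of_injective H.subtype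
        H.subtype_injective h)) TH ⟨x, hxH⟩ (hQle hxQ)
        (fun t ht => Subtype.ext (hxT (t : Y) (hT₁T ht)).eq)
        (fun g hg => Subtype.ext (hmemL.1 (hJ₁ (mem_inf.2 ⟨g.2, ?_⟩))).eq)
      · exact fun g hg => hmemL.2 (congrArg Subtype.val (hfix ⟨g, hg⟩).eq)
      · rw [← hmapTH, ← CfsgLib.Fusion.map_thompsonSubgroupAOf _ H.subtype_injective]
        exact le_normalizer_map H.subtype ⟨g, hg, rfl⟩
  -- a large abelian subgroup inducing a smallest group
  obtain ⟨A₁, ⟨hA₁, hA₁k⟩, hA₁min⟩ := Set.exists_min_image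
    {A : Subgroup Y | A ∈ maxAb (T : Subgroup Y) ∧ ¬ A ≤ π.ker}
    (fun A => Nat.card (A.map π)) (Set.toFinite _) (by obtain ⟨A, h1, h2⟩ := hex; exact ⟨A, h1, h2⟩)
  have hA₁c : ∀ a ∈ A₁, ∀ b ∈ A₁, Commute a b := fun a ha b hb =>
    congrArg Subtype.val (hA₁.2.1.is_comm.comm (⟨a, ha⟩ : A₁) ⟨b, hb⟩)
  set Ā := A₁.map π with hĀ
  let ρE : G →* MulAut E := φ.range.subtype
  have hρE : ∀ (g : Y) (e : E), ρE (π g) e = φ g e := fun g e => rfl
  have hne : Ā ≠ ⊥ := fun h => hA₁k fun a ha => MonoidHom.mem_ker.2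
    (mem_bot.1 (h ▸ mem_map_of_mem π ha))
  -- the inequality for the subgroups of `Ā`
  have key : ∀ B : Subgroup G, B ≤ Ā → ∃ A' : Subgroup Y, A' ≤ (T : Subgroup Y) ∧
      IsMulCommutative A' ∧ A'.map π = B ∧ (A₁ ⊓ π.ker) ≤ A' ∧
      ∀ e : E, (e : Y) ∈ A' ↔ e ∈ fixOf ρE B := by
    intro B hB
    let C := (fixOf ρE B).map E.subtype
    have hCE : C ≤ E := map_subtype_le _
    have hcomm : ∀ a ∈ A₁ ⊓ B.comap π, ∀ c ∈ C, Commute a c := by
      rintro a ha _ ⟨e, he, rfl⟩
      have := mem_fixOf.1 he (π a) ha.2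
      have h' := congrArg (fun z : E => (z : Y)) this
      simp only [hρE, hφ] at h'
      exact mul_inv_eq_iff_eq_mul.1 h'
    have hgen : (A₁ ⊓ B.comap π) ⊔ C = Subgroup.closure ((A₁ ⊓ B.comap π : Subgroup Y) ∪ C) :=
      Subgroup.sup_eq_closure _ _
    refine ⟨(A₁ ⊓ B.comap π) ⊔ C, sup_le (inf_le_left.trans hA₁.1) ((hCE.trans hEQ).trans hQT),
      ?_, ?_, (le_inf inf_le_left fun a ha => ?_).trans le_sup_left, fun e => ?_⟩
    · rw [hgen]
      refine Subgroup.isMulCommutative_closure ?_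
      rintro a (ha | ha) b (hb | hb)
      · exact hA₁c a ha.1 b hb.1
      · exact hcomm a ha b hb
      · exact (hcomm b hb a ha).symm
      · exact hEc a (hCE ha) b (hCE hb)
    · rw [Subgroup.map_sup]
      have h1 : C.map π = ⊥ := by
        rw [eq_bot_iff]
        rintro _ ⟨c, hc, rfl⟩
        exact mem_bot.2 ((hker c).2 fun e he => hEc c (hCE hc) e he)
      rw [h1, sup_bot_eq]
      refine le_antisymm (by rintro _ ⟨a, ha, rfl⟩; exact ha.2) fun b hb => ?_
      obtain ⟨a, ha, rfl⟩ := hB hb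
      exact ⟨a, ⟨ha, hb⟩, rfl⟩
    · show π a ∈ B
      rw [show π a = 1 from (mem_inf.1 ha).2]; exact one_mem B
    · constructor
      · intro he
        refine mem_fixOf.2 fun b hb => ?_
        obtain ⟨a, ha, rfl⟩ := hB hb
        have hcm : ∀ z ∈ (A₁ ⊓ B.comap π) ⊔ C, Commute a z := by
          intro z hz
          rw [hgen] at hz
          induction hz using Subgroup.closure_induction with
          | mem z hz => exact hz.elim (fun h => hA₁c a ha z h.1) (hcomm a ⟨ha, hb⟩ z)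
          | one => exact Commute.one_right a
          | mul z w _ _ iz iw => exact iz.mul_right iw
          | inv z _ iz => exact iz.inv_right
        refine Subtype.ext ?_
        show a * e * a⁻¹ = e
        rw [(hcm e he).eq, mul_inv_cancel_right]
      · exact fun he => mem_sup_right (mem_map_of_mem E.subtype he)
  -- the order of an abelian subgroup
  have hsplit : ∀ A : Subgroup Y, Nat.card A = Nat.card (A.map π) * Nat.card (A ⊓ π.ker : Subgroup Y) := by
    intro A
    rw [← Subgroup.relIndex_ker (K := A) π, mul_comm, ← Subgroup.inf_relIndex_left A π.ker]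
    exact (card_mul_relIndex' inf_le_left).symm
  have hfixeq : ∀ e : E, (e : Y) ∈ A₁ ↔ e ∈ fixOf ρE Ā := by
    intro e
    obtain ⟨A', hA'T, hA'c, hA'm, hA'k, hA'e⟩ := key Ā le_rfl
    constructor
    · intro he
      refine mem_fixOf.2 ?_
      rintro _ ⟨a, ha, rfl⟩
      refine Subtype.ext ?_
      show a * e * a⁻¹ = e
      rw [(hA₁c a ha e he).eq, mul_inv_cancel_right]
    · intro he
      refine CfsgLib.Fusion.mem_of_commute_maxAb hA₁ (hQT (hEQ e.2)) fun a ha => ?_
      have h' := congrArg (fun z : E => (z : Y)) (mem_fixOf.1 he (π a) (mem_map_of_mem π ha))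
      simp only [hρE, hφ] at h'
      exact mul_inv_eq_iff_eq_mul.1 h'
  have hcardfix : Nat.card (A₁ ⊓ E : Subgroup Y) = Nat.card (fixOf ρE Ā) := by
    rw [← Subgroup.card_map_of_injective E.subtype_injective (K := fixOf ρE Ā)]
    refine congrArg (fun K : Subgroup Y => Nat.card K) (le_antisymm ?_ ?_)
    · rintro a ⟨ha, haE⟩
      exact ⟨⟨a, haE⟩, (hfixeq ⟨a, haE⟩).1 ha, rfl⟩
    · rintro _ ⟨e, he, rfl⟩
      exact ⟨(hfixeq e).2 he, e.2⟩
  -- comparing a subgroup with `A₁`
  have hbound : ∀ B : Subgroup G, B ≤ Ā → Nat.card B * Nat.card (fixOf ρE B) ≤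
      Nat.card Ā * Nat.card (fixOf ρE Ā) ∧
      (B ≠ ⊥ → B < Ā → Nat.card B * Nat.card (fixOf ρE B) ≠
        Nat.card Ā * Nat.card (fixOf ρE Ā)) := by
    intro B hB
    obtain ⟨A', hA'T, hA'c, hA'm, hA'k, hA'e⟩ := key B hB
    have hE1 : E ≤ π.ker := hEQ.trans hQker
    have e1 : Nat.card (A' ⊓ π.ker : Subgroup Y) * Nat.card (fixOf ρE Ā) ≥
        Nat.card (A₁ ⊓ π.ker : Subgroup Y) * Nat.card (fixOf ρE B) := by
      set J := A₁ ⊓ π.ker with hJ
      set K := (fixOf ρE B).map E.subtype with hK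
      have hJK : J ⊓ K ≤ A₁ ⊓ E := inf_le_inf inf_le_left (map_subtype_le _)
      have hle : J ⊔ K ≤ A' ⊓ π.ker := sup_le (le_inf hA'k inf_le_right)
        (le_inf (by rintro _ ⟨e, he, rfl⟩; exact (hA'e e).2 he) ((map_subtype_le _).trans hE1))
      haveI : IsMulCommutative A' := hA'c
      have hprod : Nat.card J * Nat.card K ≤
          Nat.card (J ⊔ K : Subgroup Y) * Nat.card (J ⊓ K : Subgroup Y) := by
        have h1 : K.relIndex J ≤ K.relIndex (J ⊔ K) :=
          relIndex_le_of_le_right le_sup_left (by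
            exact (Nat.pos_of_ne_zero Subgroup.index_ne_zero_of_finite).ne')
        have h2 : Nat.card (J ⊓ K : Subgroup Y) * K.relIndex J = Nat.card J := by
          rw [← Subgroup.inf_relIndex_left J K, card_mul_relIndex' inf_le_left]
        have h3 : Nat.card K * K.relIndex (J ⊔ K) = Nat.card (J ⊔ K : Subgroup Y) :=
          card_mul_relIndex' le_sup_right
        calc Nat.card J * Nat.card K
            = Nat.card K * K.relIndex J * Nat.card (J ⊓ K : Subgroup Y) := by rw [← h2]; ring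
          _ ≤ Nat.card K * K.relIndex (J ⊔ K) * Nat.card (J ⊓ K : Subgroup Y) :=
              Nat.mul_le_mul (Nat.mul_le_mul le_rfl h1) le_rfl
          _ = _ := by rw [h3]
      have hKc : Nat.card K = Nat.card (fixOf ρE B) :=
        Subgroup.card_map_of_injective E.subtype_injective
      rw [← hKc, ← hcardfix]
      exact hprod.trans (Nat.mul_le_mul (Subgroup.card_le_of_le hle) (Subgroup.card_le_of_le hJK))
    have e2 := hA₁.2.2 A' hA'T hA'c
    rw [hsplit A₁, hsplit A', hA'm, ← hĀ] at e2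
    have hk0 : 0 < Nat.card (A₁ ⊓ π.ker : Subgroup Y) := Nat.card_pos
    refine ⟨?_, fun hB0 hBlt heq => ?_⟩
    · refine Nat.le_of_mul_le_mul_right ?_ hk0
      calc Nat.card B * Nat.card (fixOf ρE B) * Nat.card (A₁ ⊓ π.ker : Subgroup Y)
          ≤ Nat.card B * (Nat.card (A' ⊓ π.ker : Subgroup Y) * Nat.card (fixOf ρE Ā)) := by
            rw [mul_assoc, mul_comm (Nat.card (fixOf ρE B))]
            exact Nat.mul_le_mul le_rfl e1
        _ ≤ Nat.card Ā * Nat.card (A₁ ⊓ π.ker : Subgroup Y) * Nat.card (fixOf ρE Ā) := by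
            rw [← mul_assoc]; exact Nat.mul_le_mul e2 le_rfl
        _ = _ := by ring
    · have hA' : A' ∈ maxAb (T : Subgroup Y) := by
        refine ⟨hA'T, hA'c, fun C hC hCc => (hA₁.2.2 C hC hCc).trans ?_⟩
        rw [hsplit A₁, hsplit A', hA'm, ← hĀ]
        refine Nat.le_of_mul_le_mul_right ?_ (Nat.card_pos (α := fixOf ρE Ā))
        calc Nat.card Ā * Nat.card (A₁ ⊓ π.ker : Subgroup Y) * Nat.card (fixOf ρE Ā)
            = Nat.card B * (Nat.card (A₁ ⊓ π.ker : Subgroup Y) * Nat.card (fixOf ρE B)) := by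
              rw [mul_right_comm, ← heq]; ring
          _ ≤ Nat.card B * (Nat.card (A' ⊓ π.ker : Subgroup Y) * Nat.card (fixOf ρE Ā)) :=
              Nat.mul_le_mul le_rfl e1
          _ = _ := by ring
      have hmove : ¬ A' ≤ π.ker := fun h => hB0 (by
        rw [← hA'm, eq_bot_iff]
        rintro _ ⟨a, ha, rfl⟩
        exact mem_bot.2 (h ha))
      have := hA₁min A' ⟨hA', hmove⟩
      simp only [hA'm] at this
      exact absurd (CfsgLib.Fusion.card_lt_card_of_lt hBlt) (not_lt.2 this)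
  have hoffE : IsOff ρE Ā := by
    have h := (hbound ⊥ bot_le).1
    rw [Subgroup.card_bot, one_mul, show fixOf ρE (⊥ : Subgroup G) = ⊤ from eq_top_iff.2
      fun e _ => mem_fixOf.2 fun b hb => by rw [mem_bot.1 hb, map_one]; rfl, Subgroup.card_top] at h
    exact h
  have hcommA : ∀ a ∈ Ā, ∀ b ∈ Ā, Commute a b := by
    rintro _ ⟨a, ha, rfl⟩ _ ⟨b, hb, rfl⟩
    exact (hA₁c a ha b hb).map π
  have hqE := quadratic_of_minimal hEp hcommA hne hoffE fun B hB hB0 =>
    lt_of_le_of_ne (hbound B hB.le).1 ((hbound B hB.le).2 hB0 hB)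
  -- the quotient by the square
  set F : Subgroup E := Subgroup.zpowers (⟨x ^ 2, pow_mem hxE 2⟩ : E) with hF
  have hFfix : ∀ (g : G), ∀ f ∈ F, ρE g f = f := by
    intro g f hf
    obtain ⟨g, rfl⟩ := hπs g
    obtain ⟨k, rfl⟩ := Subgroup.mem_zpowers_iff.1 hf
    rw [map_zpow]
    congr 1
    refine Subtype.ext ?_
    show g * x ^ 2 * g⁻¹ = x ^ 2
    rw [(hsq g).eq, mul_inv_cancel_right]
  have hFmap : ∀ g : G, F.map (ρE g : E ≃* E).toMonoidHom = F := by
    intro g
    ext f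
    exact ⟨by rintro ⟨f', hf', rfl⟩; exact (hFfix g f' hf').symm ▸ hf',
      fun hf => ⟨f, hf, hFfix g f hf⟩⟩
  let σ : E →* E ⧸ F := QuotientGroup.mk' F
  let ρ : G →* MulAut (E ⧸ F) :=
    { toFun := fun g => QuotientGroup.congr F F (ρE g) (hFmap g)
      map_one' := MulEquiv.ext fun w => QuotientGroup.induction_on w fun e => by
        simp
      map_mul' := fun g h => MulEquiv.ext fun w => QuotientGroup.induction_on w fun e => by
        show σ (ρE (g * h) e) = σ (ρE g (ρE h e))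
        rw [map_mul, MulAut.mul_apply] }
  have hρ : ∀ (g : Y) (e : E), ρ (π g) (σ e) = σ ⟨g * e * g⁻¹, hEn.conj_mem e e.2 g⟩ :=
    fun g e => by simp [ρ, σ]; rfl
  have hh2 : ∀ v : E ⧸ F, v * v = 1 := by
    let K : Subgroup E :=
      { carrier := {e | σ e * σ e = 1}
        one_mem' := by simp
        mul_mem' := fun {a b} ha hb => by
          show σ (a * b) * σ (a * b) = 1
          rw [map_mul, mul_mul_mul_comm, ha, hb, one_mul]
        inv_mem' := fun {a} ha => by
          show σ a⁻¹ * σ a⁻¹ = 1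
          rw [map_inv, ← mul_inv_rev, ha, inv_one] }
    haveI : (K.map E.subtype).Normal := by
      refine ⟨?_⟩
      rintro _ ⟨e, he, rfl⟩ g
      refine ⟨⟨g * e * g⁻¹, hEn.conj_mem e e.2 g⟩, ?_, rfl⟩
      show σ _ * σ _ = 1
      rw [← hρ, ← map_mul, he, map_one]
    have hEK : E ≤ K.map E.subtype := normalClosure_le_normal (Set.singleton_subset_iff.2
      ⟨⟨x, hxE⟩, by
        show σ _ * σ _ = 1
        rw [← map_mul]
        exact (QuotientGroup.eq_one_iff _).2 (by
          convert Subgroup.mem_zpowers (⟨x ^ 2, pow_mem hxE 2⟩ : E) using 1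
          exact Subtype.ext (by simp [pow_two])), rfl⟩)
    intro v
    induction v using QuotientGroup.induction_on with
    | _ e =>
      obtain ⟨e', he', h⟩ := hEK e.2
      rw [← Subtype.ext h]
      exact he'
  -- the stabilizer of the class of `x`
  let Lbar : Subgroup Y :=
    { carrier := {g | ρ (π g) (σ ⟨x, hxE⟩) = σ ⟨x, hxE⟩}
      one_mem' := by simp
      mul_mem' := fun {a b} ha hb => by
        show ρ (π (a * b)) _ = _
        rw [map_mul, map_mul, MulAut.mul_apply, hb, ha]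
      inv_mem' := fun {a} ha => by
        show ρ (π a⁻¹) _ = _
        rw [map_inv, map_inv]
        exact ((ρ (π a)).symm_apply_eq).2 ha.symm }
  have hstab : ∀ g, g ∈ Lbar ↔ g ∈ L := by
    intro g
    refine ⟨fun hg => hmemL.2 ?_, fun hg => ?_⟩
    swap
    · show ρ (π g) _ = _
      rw [hρ]
      congr 1
      exact Subtype.ext (show g * x * g⁻¹ = x by rw [(hmemL.1 hg).eq, mul_inv_cancel_right])
    have hd : ∀ h ∈ Lbar, ∃ f : Y, (∀ y, Commute y f) ∧ h * x * h⁻¹ = x * f ∧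
        f ∈ zpowers (x ^ 2) := by
      intro h hh
      have h1 : ρ (π h) (σ ⟨x, hxE⟩) = σ ⟨x, hxE⟩ := hh
      rw [hρ] at h1
      obtain ⟨k, hk⟩ := Subgroup.mem_zpowers_iff.1 (QuotientGroup.eq.1 h1.symm)
      have hk' := congrArg Subtype.val hk
      simp only [Subgroup.coe_zpow, Subgroup.coe_mul, Subgroup.coe_inv] at hk'
      exact ⟨(x ^ 2) ^ k, fun y => (hsq y).zpow_right k, by rw [hk', mul_inv_cancel_left],
        ⟨k, rfl⟩⟩
    obtain ⟨f, hfc, hgf, hfz⟩ := hd g hg
    have hpow : ∀ i : ℕ, g ^ i * x * (g ^ i)⁻¹ = x * f ^ i := by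
      intro i
      induction i with
      | zero => simp
      | succ i ihi =>
        calc g ^ (i + 1) * x * (g ^ (i + 1))⁻¹ = g * (g ^ i * x * (g ^ i)⁻¹) * g⁻¹ := by
              rw [pow_succ']; group
          _ = g * x * (f ^ i * g⁻¹) := by rw [ihi]; group
          _ = g * x * g⁻¹ * f ^ i := by rw [← ((hfc g⁻¹).pow_right i).eq]; group
          _ = x * f ^ (i + 1) := by rw [hgf, mul_assoc, ← pow_succ']
    have hf2 : ∃ k, f ^ 2 ^ k = 1 := by
      obtain ⟨k, hk⟩ := hQp ⟨f, zpowers_le.2 (pow_mem hxQ 2) hfz⟩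
      exact ⟨k, congrArg Subtype.val hk⟩
    -- the odd part
    obtain ⟨e, m', hm', hgm⟩ := Nat.exists_eq_two_pow_mul_odd (orderOf_pos g).ne'
    have hg2 : Commute (g ^ m') x := by
      have hp2 : IsPGroup 2 (zpowers (g ^ m')) := by
        rintro ⟨z, hz⟩
        refine ⟨e, Subtype.ext (show z ^ 2 ^ e = 1 from ?_)⟩
        obtain ⟨i, rfl⟩ := Subgroup.mem_zpowers_iff.1 hz
        rw [← zpow_natCast, ← zpow_mul, mul_comm, zpow_mul, zpow_natCast, ← pow_mul, mul_comm m',
          ← hgm, pow_orderOf_eq_one, one_zpow]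
      have hTLb : (T : Subgroup Y) ≤ Lbar := fun t ht => by
        show ρ (π t) _ = _
        rw [hρ]
        congr 1
        exact Subtype.ext (show t * x * t⁻¹ = x by rw [(hxT t ht).eq, mul_inv_cancel_right])
      obtain ⟨l, hl, hlT⟩ := CfsgLib.Fusion.exists_conj_le_of_not_dvd_relIndex T.2 hTLb
        (fun hd => T.not_dvd_index (hd.trans (relIndex_dvd_index_of_le hTLb))) hp2
        (zpowers_le.2 (pow_mem hg m'))
      obtain ⟨f', hf'c, hlf, -⟩ := hd l hl
      have h1 := hxT _ (conjBy_le_iff.1 hlT _ (mem_zpowers _))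
      have h2 : Commute (l * g ^ m' * l⁻¹) (l * x * l⁻¹) := by
        rw [hlf]; exact h1.mul_right (hf'c _)
      have h3 : l * g ^ m' * l⁻¹ * (l * x * l⁻¹) = l * x * l⁻¹ * (l * g ^ m' * l⁻¹) := h2
      show g ^ m' * x = x * g ^ m'
      exact mul_left_cancel (a := l) (mul_right_cancel (b := l⁻¹) (by simpa [mul_assoc] using h3))
    have hfm : f ^ m' = 1 := by
      have := hpow m'
      rw [hg2.eq, mul_inv_cancel_right] at this
      exact mul_left_cancel (a := x) (by rw [← this, mul_one])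
    obtain ⟨k, hk⟩ := hf2
    have hf1 : f = 1 := by
      refine orderOf_eq_one_iff.1 (Nat.dvd_one.1 ?_)
      have := Nat.dvd_gcd (orderOf_dvd_of_pow_eq_one hk) (orderOf_dvd_of_pow_eq_one hfm)
      rwa [(Nat.Coprime.pow_left k (Nat.coprime_two_left.2 hm')).gcd_eq_one] at this
    rw [hf1, mul_one] at hgf
    exact mul_inv_eq_iff_eq_mul.1 hgf
  have hstab' : ∀ (g h : Y), ρ (π g) (σ ⟨h * x * h⁻¹, hEn.conj_mem x hxE h⟩) =
      σ ⟨h * x * h⁻¹, hEn.conj_mem x hxE h⟩ → h⁻¹ * g * h ∈ L := by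
    intro g h he
    refine (hstab _).1 ?_
    show ρ (π (h⁻¹ * g * h)) _ = _
    rw [map_mul, map_mul, map_mul, map_mul, MulAut.mul_apply, MulAut.mul_apply,
      show ρ (π h) (σ ⟨x, hxE⟩) = σ ⟨h * x * h⁻¹, hEn.conj_mem x hxE h⟩ from hρ h _, he,
      ← hρ h ⟨x, hxE⟩, ← MulAut.mul_apply, ← map_mul, ← map_mul, inv_mul_cancel, map_one, map_one,
      MulAut.one_apply]
  -- the action is faithful
  have hfaith : ∀ g : Y, (∀ v, ρ (π g) v = v) → π g = 1 := by
    intro g hg
    refine (hker g).2 ?_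
    have hle : E ≤ centralizer ({g} : Set Y) := by
      refine (Subgroup.closure_le _).2 fun z hz => ?_
      obtain ⟨w, hw, hwz⟩ := Group.mem_conjugatesOfSet_iff.1 hz
      obtain ⟨c, rfl⟩ := isConj_iff.1 (Set.mem_singleton_iff.1 hw ▸ hwz)
      have h3 := hmemL.1 (hstab' g c (hg _))
      refine mem_centralizer_singleton_iff.2 ?_
      calc c * x * c⁻¹ * g = c * (x * (c⁻¹ * g * c)) * c⁻¹ := by group
        _ = c * (c⁻¹ * g * c * x) * c⁻¹ := by rw [h3.eq]
        _ = g * (c * x * c⁻¹) := by group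
    exact fun e he => (mem_centralizer_singleton_iff.1 (hle he)).symm
  have hinj : Function.Injective ρ := by
    refine (injective_iff_map_eq_one ρ).2 fun g hg => ?_
    obtain ⟨g, rfl⟩ := hπs g
    exact hfaith g fun v => by rw [hg]; rfl
  have hq : ∀ a ∈ Ā, ∀ b ∈ Ā, ∀ v, delt ρ a (delt ρ b v) = 1 := by
    intro a ha b hb v
    induction v using QuotientGroup.induction_on with
    | _ e =>
      obtain ⟨a, rfl⟩ := hπs a
      obtain ⟨b, rfl⟩ := hπs b
      have hd : ∀ (g : Y) (w : E), delt ρ (π g) (σ w) = σ (delt ρE (π g) w) := fun g w => by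
        rw [delt, delt, map_div, hρ]; rfl
      show delt ρ (π a) (delt ρ (π b) (σ e)) = 1
      rw [hd, hd, hqE _ ha _ hb, map_one]
  have hĀ2 : ∀ a ∈ Ā, a * a = 1 := by
    intro a ha
    refine hinj (MulEquiv.ext fun v => ?_)
    rw [map_one, MulAut.one_apply, delt_apply ρ (a * a) v, delt_mul,
      delt_apply ρ a (delt ρ a v), hq a ha a ha, one_mul, hh2, one_mul]
  have hoff : IsOff ρ Ā := by
    show Nat.card (E ⧸ F) ≤ Nat.card Ā * Nat.card (fixOf ρ Ā)
    have hsub : (fixOf ρE Ā).map σ ≤ fixOf ρ Ā := by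
      rintro _ ⟨e, he, rfl⟩
      refine mem_fixOf.2 fun b hb => ?_
      obtain ⟨g, rfl⟩ := hπs b
      rw [hρ]
      exact congrArg σ (mem_fixOf.1 he _ hb)
    have hFle : F ≤ fixOf ρE Ā := fun f hf => mem_fixOf.2 fun b _ => hFfix b f hf
    have h1 : Nat.card ((fixOf ρE Ā).map σ) * Nat.card F = Nat.card (fixOf ρE Ā) := by
      rw [← Subgroup.relIndex_ker, QuotientGroup.ker_mk', mul_comm, card_mul_relIndex' hFle]
    refine Nat.le_of_mul_le_mul_right ?_ (Nat.card_pos (α := F))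
    rw [← Subgroup.card_eq_card_quotient_mul_card_subgroup, mul_assoc]
    exact hoffE.trans (Nat.mul_le_mul le_rfl
      (h1.ge.trans (Nat.mul_le_mul (Subgroup.card_le_of_le hsub) le_rfl)))
  have hNoThree : NoThree ρ := noThree_of_not_involves hfree π hπs σ
    (QuotientGroup.mk'_surjective F) ρ hEn hρ hEc hh2
  let T' : Sylow 2 G := T.mapSurjective hπs
  have hT' : (T' : Subgroup G) = (T : Subgroup Y).map π := Sylow.coe_mapSurjective hπs T
  set L' := L.map π with hL'
  have hcomapL : L'.comap π = L := Subgroup.comap_map_eq_self hkerL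
  have hL'top : L' ≠ ⊤ := fun e => hL (by rw [← hcomapL, e, Subgroup.comap_top])
  have hA₁T' : Ā ≤ L' := map_mono (hA₁.1.trans hTL)
  -- an element moving `A₁` into `T`
  have intoL : ∀ {g : Y}, conjBy g A₁ ≤ (T : Subgroup Y) → g ∈ L := by
    intro g hg
    have := (down _).1 g rfl ⟨conjBy g A₁, conjBy_mem_maxAb subset_rfl hA₁ hg, moved hA₁k,
      conjBy_mono hA₁.1⟩
    exact this
  have notinto : ∀ {g : Y}, conjBy g A₁ ≤ L → g ∈ L := by
    intro g hg
    obtain ⟨l, hl, hlT⟩ := CfsgLib.Fusion.exists_conj_le_of_not_dvd_relIndex T.2 hTL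
      (fun hd => T.not_dvd_index (hd.trans (relIndex_dvd_index_of_le hTL)))
      (CfsgLib.Fusion.isPGroup_conjBy g (T.2.to_le hA₁.1)) hg
    rw [conjBy_conjBy] at hlT
    simpa using mul_mem (inv_mem hl) (intoL hlT)
  have notinto' : ∀ {g : Y}, conjBy (π g) Ā ≤ L' → g ∈ L := by
    intro g hg
    refine notinto (conjBy_le_iff.2 fun a ha => hcomapL.le ?_)
    show π (g * a * g⁻¹) ∈ L'
    rw [map_mul, map_mul, map_inv]
    exact conjBy_le_iff.1 hg _ (mem_map_of_mem π ha)
  have gen : ∀ h, h ∉ L' → Ā ⊔ conjBy h Ā = ⊤ := by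
    intro h hh
    obtain ⟨g, rfl⟩ := hπs h
    by_contra htop
    set H := (Ā ⊔ conjBy (π g) Ā).comap π with hHdef
    have hH : H ≠ ⊤ := fun e => htop (by
      rw [← Subgroup.map_comap_eq_self_of_surjective hπs (Ā ⊔ conjBy (π g) Ā), ← hHdef, e,
        Subgroup.map_top_of_surjective π hπs])
    have hA₁H : A₁ ≤ H := fun a ha => mem_sup_left (mem_map_of_mem π ha)
    have hQH : Q ≤ H := hQker.trans (Subgroup.ker_le_comap π _)
    obtain ⟨P₁, hAP₁, hP₁H, hP₁p, hP₁i⟩ :=
      CfsgLib.Fusion.exists_le_not_dvd_relIndex (T.2.to_le hA₁.1) hA₁H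
    obtain ⟨k, -, hkT⟩ := CfsgLib.Fusion.exists_conj_le_of_not_dvd_relIndex T.2 le_top
      (by rw [relIndex_top_right]; exact T.not_dvd_index) hP₁p le_top
    have hkL : k ∈ L := intoL ((conjBy_mono hAP₁).trans hkT)
    have hHL : H ≤ L := by
      refine le_of_conjBy_le hkL ((down _).2 (conjBy k H) (conjBy k P₁) (fun e => hH ?_)
        (conjBy_le_of_normal hQH) hkT (conjBy_mono hP₁H)
        (CfsgLib.Fusion.not_dvd_relIndex_conjBy k hP₁i) rfl
        ⟨conjBy k A₁, conjBy_mem_maxAb subset_rfl hA₁ ((conjBy_mono hAP₁).trans hkT), moved hA₁k,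
          conjBy_mono hAP₁⟩)
      refine eq_top_iff.2 (le_trans ?_ (le_of_eq (CfsgLib.Fusion.conjBy_inv_conjBy k H)))
      rw [e]
      exact fun z _ => mem_conjBy.2 (mem_top _)
    refine hh (mem_map_of_mem π (notinto' fun z hz => ?_))
    obtain ⟨w, rfl⟩ := hπs z
    exact mem_map_of_mem π (hHL (mem_sup_right hz))
  refine false_of_generators hh2 hinj hNoThree T' L' (hT'.trans_le (map_mono hTL)) hL'top Ā hne hĀ2
    hq hoff gen ?_
  -- a conjugate and its translate by an element of `Ā`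
  intro h hh a ha ha1
  set cx : G → E ⧸ F := fun k => ρ k (σ ⟨x, hxE⟩) with hcx
  have hcxL : ∀ {k : G}, k ∈ L' ↔ cx k = σ ⟨x, hxE⟩ := by
    intro k
    constructor
    · rintro ⟨k, hk, rfl⟩
      exact (hstab k).2 hk
    · intro hk
      obtain ⟨k, rfl⟩ := hπs k
      exact mem_map_of_mem π ((hstab k).1 hk)
  have hcxfix : ∀ {k b : G}, ρ b (cx k) = cx k ↔ k⁻¹ * b * k ∈ L' := by
    intro k b
    rw [hcxL]
    simp only [hcx, map_mul, MulAut.mul_apply, map_inv]
    exact ((ρ k).symm_apply_eq).symm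
  -- it suffices that some conjugate is moved by `a`
  have step : ∀ k, k ∉ L' → k⁻¹ * a * k ∉ L' → conjBy k Ā ⊔ conjBy a (conjBy k Ā) = ⊤ := by
    intro k hk hka
    have := congrArg (conjBy k) (gen _ hka)
    have etop : conjBy k (⊤ : Subgroup G) = ⊤ :=
      conjBy_eq_iff.2 (by rw [Subgroup.normalizer_eq_top (⊤ : Subgroup G)]; trivial)
    rw [etop, show conjBy k (Ā ⊔ conjBy (k⁻¹ * a * k) Ā) =
      conjBy k Ā ⊔ conjBy k (conjBy (k⁻¹ * a * k) Ā) from Subgroup.map_sup _ _ _, conjBy_conjBy,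
      show k * (k⁻¹ * a * k) = a * k by group, ← conjBy_conjBy] at this
    exact this
  refine step h hh fun haL => ?_
  obtain ⟨k, hk, hka⟩ : ∃ k, k ∉ L' ∧ k⁻¹ * a * k ∉ L' := by
    by_contra hall
    push Not at hall
    refine ha1 ?_
    have hfix : ∀ k, ρ a (cx k) = cx k := fun k => hcxfix.2 (by
      by_cases hk : k ∈ L'
      · exact mul_mem (mul_mem (inv_mem hk) (hA₁T' ha)) hk
      · exact hall k hk)
    obtain ⟨g, rfl⟩ := hπs a
    refine hfaith g fun v => ?_
    let K : Subgroup E :=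
      { carrier := {e | ρ (π g) (σ e) = σ e}
        one_mem' := by simp
        mul_mem' := fun {p q} hp hq => by
          show ρ (π g) (σ (p * q)) = σ (p * q)
          rw [map_mul, map_mul, hp, hq]
        inv_mem' := fun {p} hp => by
          show ρ (π g) (σ p⁻¹) = σ p⁻¹
          rw [map_inv, map_inv, hp] }
    have hEK : E ≤ K.map E.subtype := by
      refine (Subgroup.closure_le _).2 fun z hz => ?_
      obtain ⟨w, hw, hwz⟩ := Group.mem_conjugatesOfSet_iff.1 hz
      obtain ⟨c, rfl⟩ := isConj_iff.1 (Set.mem_singleton_iff.1 hw ▸ hwz)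
      refine ⟨⟨c * x * c⁻¹, hEn.conj_mem x hxE c⟩, ?_, rfl⟩
      show ρ (π g) (σ _) = σ _
      have := hfix (π c)
      simp only [hcx, hρ] at this
      exact this
    induction v using QuotientGroup.induction_on with
    | _ e =>
      obtain ⟨e', he', h⟩ := hEK e.2
      rw [← Subtype.ext h]
      exact he'
  -- the fixed points of `Ā` and of the second conjugate span
  set D := conjBy k Ā with hD
  have hgen := gen k hk
  have hqD : ∀ d ∈ D, ∀ d' ∈ D, ∀ v, delt ρ d (delt ρ d' v) = 1 := by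
    intro d hd d' hd' v
    have e : ∀ (c : G) (w : E ⧸ F), delt ρ c w = ρ k (delt ρ (k⁻¹ * c * k) (ρ k⁻¹ w)) := by
      intro c w
      simp only [delt, map_div, map_mul, MulAut.mul_apply, map_inv]
      simp
    rw [e d' v, e d]
    simp only [map_inv, MulAut.inv_apply, MulEquiv.symm_apply_apply]
    rw [hq _ (mem_conjBy.1 hd) _ (mem_conjBy.1 hd'), map_one]
  set S := fixOf ρ Ā ⊔ fixOf ρ D with hS
  have hSinv : ∀ b : G, ∀ u ∈ S, ρ b u ∈ S := by
    intro b
    have hb : b ∈ Ā ⊔ D := hgen ▸ mem_top b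
    rw [Subgroup.sup_eq_closure] at hb
    induction hb using Subgroup.closure_induction_left with
    | one => intro u hu; simpa using hu
    | mul_left c hc d _ ic =>
      intro u hu
      rw [map_mul, MulAut.mul_apply, delt_apply ρ c]
      refine mul_mem ?_ (ic u hu)
      rcases hc with hc | hc
      · exact mem_sup_left ⟨trivial, fun b' hb' => mem_bot.2 (hq b' hb' c hc _)⟩
      · exact mem_sup_right ⟨trivial, fun b' hb' => mem_bot.2 (hqD b' hb' c hc _)⟩
    | inv_mul_cancel c hc d _ ic =>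
      intro u hu
      rw [map_mul, MulAut.mul_apply, delt_apply ρ c⁻¹]
      refine mul_mem ?_ (ic u hu)
      rcases hc with hc | hc
      · exact mem_sup_left ⟨trivial, fun b' hb' => mem_bot.2 (hq b' hb' _ (inv_mem hc) _)⟩
      · exact mem_sup_right ⟨trivial, fun b' hb' => mem_bot.2 (hqD b' hb' _ (inv_mem hc) _)⟩
  have hxS : σ ⟨x, hxE⟩ ∈ S := mem_sup_left (mem_fixOf.2 fun b hb => hcxL.1 (hA₁T' hb))
  obtain ⟨u, hu, w, hw, huw⟩ := Subgroup.mem_sup.1 (hSinv h _ hxS)
  have hahx : ρ a (cx h) = cx h := hcxfix.2 haL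
  have haw : ρ a w = w := by
    have huw' : cx h = u * w := huw.symm
    rw [huw', map_mul, mem_fixOf.1 hu a ha] at hahx
    exact mul_left_cancel hahx
  have hwtop : ∀ b : G, ρ b w = w := by
    intro b
    have hb : b ∈ D ⊔ conjBy a D := (step k hk hka) ▸ mem_top b
    rw [Subgroup.sup_eq_closure] at hb
    induction hb using Subgroup.closure_induction with
    | mem c hc =>
      rcases hc with hc | hc
      · exact mem_fixOf.1 hw c hc
      · have hc' := mem_fixOf.1 hw _ (mem_conjBy.1 hc)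
        rw [map_mul, map_mul, MulAut.mul_apply, MulAut.mul_apply, haw, map_inv] at hc'
        exact (((ρ a).symm_apply_eq).1 hc').trans haw
    | one => rw [map_one]; rfl
    | mul c d _ _ ic id => rw [map_mul, MulAut.mul_apply, id, ic]
    | inv c _ ic => rw [map_inv]; exact ((ρ c).symm_apply_eq).2 ic.symm
  have hconj : conjBy h⁻¹ Ā ≤ L' := conjBy_le_iff.2 fun b hb => by
    rw [inv_inv]
    refine hcxfix.1 ?_
    show ρ b (ρ h (σ ⟨x, hxE⟩)) = ρ h (σ ⟨x, hxE⟩)
    rw [← huw, map_mul, mem_fixOf.1 hu b hb, hwtop]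
  obtain ⟨g, hg⟩ := hπs h⁻¹
  rw [← hg] at hconj
  have := inv_mem (mem_map_of_mem π (notinto' hconj))
  rw [hg, inv_inv] at this
  exact hh this

/-- An element of the centre of a Sylow 2-subgroup which lies in `O₂` and is fixed by the normalizer
of the Thompson subgroup is central, when `S₄` is not involved. -/
theorem commute_of_fix_thompsonA {Y : Type u} [Group Y] [Finite Y]
    (hfree : ¬ Cfsg.Involves (Equiv.Perm (Fin 4)) Y) (T : Sylow 2 Y) {x : Y}
    (hxQ : x ∈ Cfsg.pCore 2 Y) (hxT : ∀ t ∈ (T : Subgroup Y), Commute t x)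
    (hJ : ∀ g ∈ normalizer (Cfsg.thompsonSubgroupAOf (T : Subgroup Y) : Set Y), Commute g x)
    (g : Y) : Commute g x :=
  commute_of_fix_thompsonA_aux _ Y rfl hfree T x hxQ hxT hJ g

end CfsgLib.CFun
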