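import Cfsg.Agent.Lib.CFun.FourFreeCenter
import Cfsg.Agent.Lib.CFun.Semisimple

/-!
# Abelian subgroups of largest order in groups without a section `S₄`

A proper subgroup which contains the normalizer of their join, and every proper subgroup with this
property on its Sylow subgroup, cannot contain the centralizer of a central element of the Sylow
2-subgroup lying in `O₂` with central square.
-/

set_option autoImplicit false
set_option linter.style.haveILetI false

open Subgroup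
open CfsgLib.Fusion (conjBy mem_conjBy conj_mem_conjBy conjBy_le_iff conjBy_eq_iff conjBy_conjBy
  conjBy_mono card_conjBy)

namespace CfsgLib.CFun

universe u

variable {Y : Type u} [Group Y] [Finite Y]

/-- The properties used of the family of large abelian subgroups of a Sylow 2-subgroup. -/
structure AbFam (T : Subgroup Y) (𝒜 : Set (Subgroup Y)) : Prop where
  le : ∀ A ∈ 𝒜, A ≤ T
  comm : ∀ A ∈ 𝒜, ∀ a ∈ A, ∀ b ∈ A, Commute a b
  nonempty : 𝒜.Nonempty
  conj : ∀ A ∈ 𝒜, ∀ g : Y, conjBy g A ≤ T → conjBy g A ∈ 𝒜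
  rep : ∀ A ∈ 𝒜, ∀ B : Subgroup Y, B ≤ A → ∀ C : Subgroup Y, C ≤ T →
    (∀ c ∈ C, c * c = 1) → (∀ b ∈ B, ∀ c ∈ C, Commute b c) →
    Nat.card (B ⊔ C : Subgroup Y) ≤ Nat.card A ∧
      (Nat.card (B ⊔ C : Subgroup Y) = Nat.card A → B ⊔ C ∈ 𝒜)

theorem AbFam.mem_of_commute {T : Subgroup Y} {𝒜 : Set (Subgroup Y)} (h : AbFam T 𝒜)
    {A : Subgroup Y} (hA : A ∈ 𝒜) {c : Y} (hcT : c ∈ T) (hc : c * c = 1)
    (hcA : ∀ a ∈ A, Commute a c) : c ∈ A := by
  have hle : ∀ d ∈ zpowers c, d = 1 ∨ d = c := by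
    intro d hd
    obtain ⟨k, rfl⟩ := Subgroup.mem_zpowers_iff.1 hd
    rcases Int.even_or_odd k with ⟨j, rfl⟩ | ⟨j, rfl⟩
    · left
      rw [zpow_add, ← (Commute.refl c).mul_zpow, hc, one_zpow]
    · right
      rw [zpow_add, zpow_mul, zpow_two, hc, one_zpow, one_mul, zpow_one]
  have h1 := (h.rep A hA A le_rfl (zpowers c) (zpowers_le.2 hcT) (fun d hd => by
      rcases hle d hd with rfl | rfl
      exacts [one_mul 1, hc]) fun a ha d hd => by
      rcases hle d hd with rfl | rfl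
      exacts [Commute.one_right a, hcA a ha]).1
  have := Subgroup.eq_of_le_of_card_ge (le_sup_left : A ≤ A ⊔ zpowers c) h1
  rw [this]
  exact mem_sup_right (mem_zpowers c)

/-- An automorphism of odd order of an abelian 2-group fixing the involutions is trivial. -/
theorem commute_of_fix_omega {E : Subgroup Y} [E.Normal] (hEc : ∀ a ∈ E, ∀ b ∈ E, Commute a b)
    (hEp : IsPGroup 2 E) {g : Y} (hg : Odd (orderOf g)) (h : ∀ e ∈ E, e * e = 1 → Commute g e)
    {e : Y} (he : e ∈ E) : Commute g e := by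
  induction hn : orderOf e using Nat.strong_induction_on generalizing e with
  | _ n ih =>
  rcases eq_or_ne e 1 with rfl | he1
  · exact Commute.one_right g
  obtain ⟨k, hk⟩ := IsPGroup.iff_orderOf.1 hEp ⟨e, he⟩
  rw [Subgroup.orderOf_mk] at hk
  have hlt : orderOf (e * e) < n := by
    rw [← hn, ← pow_two, orderOf_pow]
    rcases k with _ | k
    · exact absurd (orderOf_eq_one_iff.1 (by simpa using hk)) he1
    · rw [hk, Nat.gcd_eq_right (dvd_pow_self 2 k.succ_ne_zero)]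
      exact Nat.div_lt_self (by positivity) one_lt_two
  have hsq := ih _ hlt (mul_mem he he) rfl
  set f := g * e * g⁻¹ * e⁻¹ with hf
  have hge : g * e * g⁻¹ ∈ E := (inferInstance : E.Normal).conj_mem e he g
  have hfE : f ∈ E := mul_mem hge (inv_mem he)
  have hf2 : f * f = 1 := by
    have h1 : g * (e * e) * g⁻¹ = e * e := by rw [hsq.eq, mul_inv_cancel_right]
    rw [hf, (hEc _ hge _ (inv_mem he)).symm.mul_mul_mul_comm,
      show g * e * g⁻¹ * (g * e * g⁻¹) = g * (e * e) * g⁻¹ by group, h1]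
    group
  have hgf := h f hfE hf2
  have hpow : ∀ i : ℕ, g ^ i * e * (g ^ i)⁻¹ = f ^ i * e := by
    intro i
    induction i with
    | zero => simp
    | succ i ihi =>
      calc g ^ (i + 1) * e * (g ^ (i + 1))⁻¹ = g * (g ^ i * e * (g ^ i)⁻¹) * g⁻¹ := by
            rw [pow_succ']; group
        _ = g * f ^ i * e * g⁻¹ := by rw [ihi]; group
        _ = f ^ i * (g * e * g⁻¹) := by rw [(hgf.pow_right i).eq]; group
        _ = f ^ (i + 1) * e := by rw [pow_succ, hf]; group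
  have h2 := hpow (orderOf g)
  rw [pow_orderOf_eq_one, one_mul, inv_one, mul_one, right_eq_mul] at h2
  obtain ⟨j, hj⟩ := hg
  rw [hj, pow_succ, pow_mul, pow_two, hf2, one_pow, one_mul] at h2
  exact mul_inv_eq_iff_eq_mul.1 (mul_inv_eq_one.1 h2)

/-- The step of the inductions: no proper subgroup contains the normalizer of the join of the family,
the centralizer of the element, and the subgroups inheriting this. -/
theorem false_of_family (hfree : ¬ Cfsg.Involves (Equiv.Perm (Fin 4)) Y) (T : Sylow 2 Y)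
    {𝒜 : Set (Subgroup Y)} (h𝒜 : AbFam (T : Subgroup Y) 𝒜) (L : Subgroup Y) (hL : L ≠ ⊤)
    (x : Y) (hxQ : x ∈ Cfsg.pCore 2 Y) (hxT : ∀ t ∈ (T : Subgroup Y), Commute t x)
    (hx2 : ∀ g : Y, Commute g (x * x)) (hxL : centralizer ({x} : Set Y) ≤ L)
    (hJ : normalizer ((sSup 𝒜 : Subgroup Y) : Set Y) ≤ L)
    (hH : ∀ H T₁ : Subgroup Y, H ≠ ⊤ → Cfsg.pCore 2 Y ≤ H → T₁ ≤ (T : Subgroup Y) → T₁ ≤ H →
      ¬ 2 ∣ T₁.relIndex H →
      H ⊓ normalizer ((sSup {A | A ∈ 𝒜 ∧ A ≤ T₁} : Subgroup Y) : Set Y) ≤ L → H ≤ L) :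
    False := by
  classical
  have hmemx : ∀ {g}, g ∈ centralizer ({x} : Set Y) ↔ Commute g x := mem_centralizer_singleton_iff
  haveI hQn : (Cfsg.pCore 2 Y).Normal := CfsgLib.Coprime.pCore_normal' 2
  haveI : Group.IsNilpotent (T : Subgroup Y) := T.2.isNilpotent
  set Q := Cfsg.pCore 2 Y with hQdef
  have hQp : IsPGroup 2 Q := CfsgLib.Coprime.pCore_isPGroup 2
  have hQT : Q ≤ (T : Subgroup Y) := hQp.le_sylow_of_normal T
  have hTx : (T : Subgroup Y) ≤ centralizer ({x} : Set Y) := fun t ht => hmemx.2 (hxT t ht)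
  have hTL : (T : Subgroup Y) ≤ L := hTx.trans hxL
  -- the conjugates of `x` and their involutions
  set E := normalClosure ({x} : Set Y) with hE
  haveI hEn : E.Normal := normalClosure_normal
  have hxE : x ∈ E := subset_normalClosure rfl
  have hEQ : E ≤ Q := normalClosure_le_normal (Set.singleton_subset_iff.2 hxQ)
  have hEcen : E ≤ centralizer (Q : Set Y) := normalClosure_le_normal
    (Set.singleton_subset_iff.2 (mem_centralizer_iff.2 fun w hw => (hxT w (hQT hw)).eq))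
  have hEc : ∀ a ∈ E, ∀ b ∈ E, Commute a b := fun a ha b hb =>
    (mem_centralizer_iff.1 (hEcen hb) a (hEQ ha))
  let E₁ : Subgroup Y :=
    { carrier := {e | e ∈ E ∧ e * e = 1}
      one_mem' := ⟨one_mem E, one_mul 1⟩
      mul_mem' := fun {a b} ha hb => ⟨mul_mem ha.1 hb.1, by
        rw [(hEc _ ha.1 _ hb.1).symm.mul_mul_mul_comm, ha.2, hb.2, one_mul]⟩
      inv_mem' := fun {a} ha => ⟨inv_mem ha.1, by rw [← mul_inv_rev, ha.2, inv_one]⟩ }
  have hE₁E : E₁ ≤ E := fun e he => he.1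
  haveI hE₁n : E₁.Normal := ⟨fun e he g => ⟨hEn.conj_mem e he.1 g, by
    rw [show g * e * g⁻¹ * (g * e * g⁻¹) = g * (e * e) * g⁻¹ by group, he.2, mul_one,
      mul_inv_cancel]⟩⟩
  letI : CommGroup E₁ := { mul_comm := fun a b => Subtype.ext (hEc _ a.2.1 _ b.2.1) }
  have h2 : ∀ e : E₁, e * e = 1 := fun e => Subtype.ext e.2.2
  set φ : Y →* MulAut E₁ := MulAut.conjNormal with hφdef
  have hφ : ∀ (g : Y) (e : E₁), ((φ g e : E₁) : Y) = g * e * g⁻¹ := fun g e => rfl
  let G := φ.range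
  set π : Y →* G := φ.rangeRestrict with hπdef
  have hπs : Function.Surjective π := φ.rangeRestrict_surjective
  haveI : Finite (MulAut E₁) := Finite.of_injective MulEquiv.toEquiv fun a b h =>
    MulEquiv.ext fun v => congrArg (fun e : E₁ ≃ E₁ => e v) h
  let ρ : G →* MulAut E₁ := φ.range.subtype
  have hρ : ∀ (g : Y) (e : E₁), ρ (π g) e = φ g e := fun g e => rfl
  have hinj : Function.Injective ρ := φ.range.subtype_injective
  have hker : ∀ g, g ∈ π.ker ↔ ∀ e ∈ E₁, Commute g e := by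
    intro g
    constructor
    · intro h e he
      have h1 : φ g = 1 := congrArg Subtype.val (MonoidHom.mem_ker.1 h)
      have h2 := congrArg (fun f : MulAut E₁ => ((f ⟨e, he⟩ : E₁) : Y)) h1
      simp only [MulAut.one_apply, hφ] at h2
      exact mul_inv_eq_iff_eq_mul.1 h2
    · intro h
      refine Subtype.ext (MulEquiv.ext fun e => Subtype.ext ?_)
      show g * e * g⁻¹ = e
      rw [(h e e.2).eq, mul_inv_cancel_right]
  have hQker : Q ≤ π.ker := fun w hw => (hker w).2 fun e he =>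
    mem_centralizer_iff.1 (hEcen he.1) w hw
  -- the kernel fixes `x`
  have hkerx : π.ker ≤ centralizer ({x} : Set Y) := by
    set N := centralizer (E : Set Y) with hN
    haveI hNn : N.Normal := inferInstance
    have hNK : N ≤ π.ker := fun g hg => (hker g).2 fun e he =>
      (mem_centralizer_iff.1 hg e he.1).symm
    set π₀ := QuotientGroup.mk' (N.subgroupOf π.ker) with hπ₀
    have hq : IsPGroup 2 (↥π.ker ⧸ N.subgroupOf π.ker) := by
      intro z
      obtain ⟨g, rfl⟩ := QuotientGroup.mk'_surjective (N.subgroupOf π.ker) z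
      obtain ⟨e, m, hm, hgm⟩ := Nat.exists_eq_two_pow_mul_odd (orderOf_pos (g : Y)).ne'
      refine ⟨e, ?_⟩
      rw [← map_pow, QuotientGroup.mk'_apply, QuotientGroup.eq_one_iff]
      refine mem_centralizer_iff.2 fun z hz => ?_
      refine (commute_of_fix_omega hEc (hQp.to_le hEQ) ?_ ?_ hz).eq.symm
      · show Odd (orderOf ((g : Y) ^ 2 ^ e))
        rw [orderOf_pow_of_dvd (by positivity) ⟨m, hgm⟩, hgm,
          Nat.mul_div_cancel_left _ (by positivity)]
        exact hm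
      · exact fun w hw hw2 => ((hker g).1 g.2 w ⟨hw, hw2⟩).pow_left _
    let P : Sylow 2 π.ker := ((T.2.to_le inf_le_left).of_equiv
      (Subgroup.subgroupOfEquivOfLe (inf_le_right : (T : Subgroup Y) ⊓ π.ker ≤ π.ker)).symm).toSylow
      (CfsgLib.Fusion.not_dvd_relIndex_inf_of_normal T π.ker)
    have htop : (P : Subgroup π.ker).map π₀ = ⊤ :=
      ((P.mapSurjective (QuotientGroup.mk'_surjective _)).is_maximal'
        (hq.to_subgroup ⊤) le_top).symm
    intro g hg
    obtain ⟨t, ht, hte⟩ := htop.ge (mem_top (π₀ ⟨g, hg⟩))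
    have h1 : ((t⁻¹ * ⟨g, hg⟩ : π.ker) : Y) ∈ N := (QuotientGroup.eq (s := N.subgroupOf π.ker)).1 hte
    have h3 : (t : Y)⁻¹ * g ∈ centralizer ({x} : Set Y) := hmemx.2
      (mem_centralizer_iff.1 h1 x hxE).symm
    have := mul_mem (hTx (show (t : Y) ∈ (T : Subgroup Y) from ht.1)) h3
    rwa [mul_inv_cancel_left] at this
  have hkerL : π.ker ≤ L := hkerx.trans hxL
  -- normalizers of subgroups of `T` permute the family
  have hperm : ∀ (T₁ : Subgroup Y), T₁ ≤ (T : Subgroup Y) →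
      normalizer (T₁ : Set Y) ≤
        normalizer ((sSup {A | A ∈ 𝒜 ∧ A ≤ T₁} : Subgroup Y) : Set Y) := by
    intro T₁ hT₁ g hg
    refine conjBy_eq_iff.1 (CfsgLib.Fusion.conjBy_eq_of_le ?_)
    rw [conjBy, (Subgroup.gc_map_comap _).l_sSup]
    refine iSup₂_le fun A hA => le_sSup ⟨h𝒜.conj A hA.1 g ?_, ?_⟩
    · exact ((conjBy_mono hA.2).trans_eq (conjBy_eq_iff.2 hg)).trans hT₁
    · exact (conjBy_mono hA.2).trans_eq (conjBy_eq_iff.2 hg)
  have hfull : {A | A ∈ 𝒜 ∧ A ≤ (T : Subgroup Y)} = 𝒜 :=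
    Set.ext fun A => ⟨fun h => h.1, fun h => ⟨h, h𝒜.le A h⟩⟩
  -- a proper subgroup containing `T`
  have hover : ∀ H : Subgroup Y, (T : Subgroup Y) ≤ H → H ≠ ⊤ → H ≤ L := fun H hTH hH' =>
    hH H T hH' (hQT.trans hTH) le_rfl hTH
      (fun hd => T.not_dvd_index (hd.trans (relIndex_dvd_index_of_le hTH)))
      (by rw [hfull]; exact inf_le_right.trans hJ)
  -- normal subgroups inside `L` meet `T` in the kernel
  have hcore : ∀ N : Subgroup Y, N.Normal → N ≤ L → (T : Subgroup Y) ⊓ N ≤ π.ker := by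
    intro N hN hNL
    set R := (T : Subgroup Y) ⊓ N with hR
    have hRp : IsPGroup 2 R := T.2.to_le inf_le_left
    let TN : Sylow 2 N := (hRp.of_equiv (Subgroup.subgroupOfEquivOfLe inf_le_right).symm).toSylow
      (CfsgLib.Fusion.not_dvd_relIndex_inf_of_normal T N)
    have hfr : normalizer (R : Set Y) ⊔ N = ⊤ := by
      have := Sylow.normalizer_sup_eq_top TN
      rwa [show (TN : Subgroup N).map N.subtype = R from
        map_subgroupOf_eq_of_le inf_le_right] at this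
    by_cases hNR : normalizer (R : Set Y) = ⊤
    · haveI : R.Normal := Subgroup.normalizer_eq_top_iff.1 hNR
      exact (CfsgLib.Coprime.le_pCore hRp).trans hQker
    · refine absurd (top_le_iff.1 (hfr.ge.trans (sup_le (hover _ ?_ hNR) hNL))) hL
      exact le_normalizer_inf le_normalizer (le_top.trans (Subgroup.normalizer_eq_top N).ge)
  -- some member acts nontrivially
  have hex : ∃ A ∈ 𝒜, ¬ A ≤ π.ker := by
    by_contra hall
    push Not at hall
    set R := (T : Subgroup Y) ⊓ π.ker with hR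
    have hRp : IsPGroup 2 R := T.2.to_le inf_le_left
    let TK : Sylow 2 π.ker := (hRp.of_equiv (Subgroup.subgroupOfEquivOfLe inf_le_right).symm).toSylow
      (CfsgLib.Fusion.not_dvd_relIndex_inf_of_normal T π.ker)
    have hfr : normalizer (R : Set Y) ⊔ π.ker = ⊤ := by
      have := Sylow.normalizer_sup_eq_top TK
      rwa [show (TK : Subgroup π.ker).map π.ker.subtype = R from
        map_subgroupOf_eq_of_le inf_le_right] at this
    refine hL (top_le_iff.1 (hfr.ge.trans (sup_le ?_ hkerL)))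
    refine (hperm R inf_le_left).trans (le_trans ?_ hJ)
    rw [show {A | A ∈ 𝒜 ∧ A ≤ R} = 𝒜 from
      Set.ext fun A => ⟨fun h => h.1, fun h => ⟨h, le_inf (h𝒜.le A h) (hall A h)⟩⟩]
  have moved : ∀ {g : Y} {A : Subgroup Y}, ¬ A ≤ π.ker → ¬ conjBy g A ≤ π.ker := by
    intro g A hA h
    exact hA fun a ha => by
      have := (inferInstance : π.ker.Normal).conj_mem' _ (h (conj_mem_conjBy ha)) g
      simpa [mul_assoc] using this
  -- subgroups meeting a moving member
  have down : ∀ d : ℕ,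
      (∀ y : Y, Nat.card (T : Subgroup Y) -
          Nat.card ((T : Subgroup Y) ⊓ conjBy y T : Subgroup Y) = d →
        (∃ A ∈ 𝒜, ¬ A ≤ π.ker ∧ A ≤ conjBy y T) → y ∈ L) ∧
      (∀ H T₁ : Subgroup Y, H ≠ ⊤ → Q ≤ H → T₁ ≤ (T : Subgroup Y) → T₁ ≤ H →
        ¬ 2 ∣ T₁.relIndex H → Nat.card (T : Subgroup Y) - Nat.card T₁ = d →
        (∃ A ∈ 𝒜, ¬ A ≤ π.ker ∧ A ≤ T₁) → H ≤ L) := by
    intro d
    induction d using Nat.strong_induction_on with
    | _ d ihd =>
    -- a proper subgroup containing a larger part of `T`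
    have up : ∀ M P : Subgroup Y, M ≠ ⊤ → Q ≤ M → P ≤ (T : Subgroup Y) → P ≤ M →
        Nat.card (T : Subgroup Y) - Nat.card P < d →
        (∃ A ∈ 𝒜, ¬ A ≤ π.ker ∧ A ≤ P) → M ≤ L := by
      intro M P hM hQM hPT hPM hd ⟨A, hA, hAk, hAP⟩
      obtain ⟨P₁, hPP₁, hP₁M, hP₁p, hP₁i⟩ :=
        CfsgLib.Fusion.exists_le_not_dvd_relIndex (T.2.to_le hPT) hPM
      obtain ⟨g, -, hgT⟩ := CfsgLib.Fusion.exists_conj_le_of_not_dvd_relIndex T.2 le_top
        (by rw [relIndex_top_right]; exact T.not_dvd_index) hP₁p le_top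
      have hPg : P ≤ conjBy g⁻¹ (T : Subgroup Y) := by
        refine hPP₁.trans ?_
        have := conjBy_mono (g := g⁻¹) hgT
        rwa [CfsgLib.Fusion.conjBy_inv_conjBy] at this
      have hcard := Subgroup.card_le_of_le (le_inf hPT hPg)
      have hgL : g ∈ L := by
        have := (ihd _ (lt_of_le_of_lt (Nat.sub_le_sub_left hcard _) hd)).1 g⁻¹ rfl
          ⟨A, hA, hAk, hAP.trans hPg⟩
        simpa using inv_mem this
      have hcard' := Subgroup.card_le_of_le hPP₁
      refine le_of_conjBy_le hgL ((ihd (Nat.card (T : Subgroup Y) - Nat.card (conjBy g P₁))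
        (lt_of_le_of_lt (Nat.sub_le_sub_left (by rw [card_conjBy]; exact hcard') _) hd)).2
        (conjBy g M) (conjBy g P₁) (fun e => hM ?_) (conjBy_le_of_normal hQM) hgT
        (conjBy_mono hP₁M) (CfsgLib.Fusion.not_dvd_relIndex_conjBy g hP₁i) rfl
        ⟨conjBy g A, h𝒜.conj A hA g ((conjBy_mono (hAP.trans hPP₁)).trans hgT),
          moved hAk, conjBy_mono (hAP.trans hPP₁)⟩)
      refine eq_top_iff.2 (le_trans ?_ (le_of_eq (CfsgLib.Fusion.conjBy_inv_conjBy g M)))
      rw [e]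
      exact fun z _ => mem_conjBy.2 (mem_top _)
    refine ⟨?_, ?_⟩
    · intro y hd ⟨A, hA, hAk, hAy⟩
      set R := (T : Subgroup Y) ⊓ conjBy y T with hR
      have hAR : A ≤ R := le_inf (h𝒜.le A hA) hAy
      have hRT : R ≤ (T : Subgroup Y) := inf_le_left
      have hQR : Q ≤ R := le_inf hQT (conjBy_le_of_normal hQT)
      by_cases hRe : R = (T : Subgroup Y)
      · have hy : y ∈ normalizer ((T : Subgroup Y) : Set Y) := conjBy_eq_iff.1
          (Subgroup.eq_of_le_of_card_ge (hRe.ge.trans inf_le_right) (by rw [card_conjBy])).symm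
        have := hperm T le_rfl hy
        rw [hfull] at this
        exact hJ this
      have hRne : R ≠ conjBy y T := fun e => hRe
        (Subgroup.eq_of_le_of_card_ge hRT (by rw [e, card_conjBy]))
      set N := normalizer (R : Set Y) with hN
      have hNtop : N ≠ ⊤ := fun e => hAk (hAR.trans (le_trans ?_ hQker))
      swap
      · haveI : R.Normal := Subgroup.normalizer_eq_top_iff.1 e
        exact CfsgLib.Coprime.le_pCore (T.2.to_le hRT)
      have hQN : Q ≤ N := hQR.trans le_normalizer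
      set P := (T : Subgroup Y) ⊓ N with hP
      set P' := conjBy y (T : Subgroup Y) ⊓ N with hP'
      have hPlt : Nat.card R < Nat.card P :=
        CfsgLib.Fusion.card_lt_card_of_lt (CfsgLib.Fusion.lt_inf_normalizer hRT hRe)
      haveI : Group.IsNilpotent (conjBy y (T : Subgroup Y)) :=
        (CfsgLib.Fusion.isPGroup_conjBy y T.2).isNilpotent
      have hP'lt : Nat.card R < Nat.card P' := CfsgLib.Fusion.card_lt_card_of_lt
        (CfsgLib.Fusion.lt_inf_normalizer (P := conjBy y (T : Subgroup Y)) inf_le_right hRne)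
      have hcP : Nat.card P ≤ Nat.card (T : Subgroup Y) := Subgroup.card_le_of_le inf_le_left
      have hcR := Subgroup.card_le_of_le hRT
      have hNL : N ≤ L := up N P hNtop hQN inf_le_left inf_le_right (by omega)
        ⟨A, hA, hAk, (le_inf hRT le_normalizer).trans' hAR⟩
      obtain ⟨l, hl, hlT⟩ := CfsgLib.Fusion.exists_conj_le_of_not_dvd_relIndex T.2 hTL
        (fun hd => T.not_dvd_index (hd.trans (relIndex_dvd_index_of_le hTL)))
        ((CfsgLib.Fusion.isPGroup_conjBy y T.2).to_le inf_le_left) (inf_le_right.trans hNL)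
      have hly : conjBy l P' ≤ (T : Subgroup Y) ⊓ conjBy (l * y) T :=
        le_inf hlT (by rw [← conjBy_conjBy]; exact conjBy_mono inf_le_left)
      have hc := Subgroup.card_le_of_le hly
      rw [card_conjBy] at hc
      have hc' := Subgroup.card_le_of_le
        (inf_le_left : (T : Subgroup Y) ⊓ conjBy (l * y) T ≤ (T : Subgroup Y))
      have hAP' : A ≤ P' := le_inf hAy (hAR.trans le_normalizer)
      have hres := (ihd (Nat.card (T : Subgroup Y) -
          Nat.card ((T : Subgroup Y) ⊓ conjBy (l * y) T : Subgroup Y)) (by omega)).1 (l * y) rfl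
        ⟨conjBy l A, h𝒜.conj A hA l ((conjBy_mono hAP').trans hlT), moved hAk,
          ((conjBy_mono hAP').trans hly).trans inf_le_right⟩
      simpa using mul_mem (inv_mem hl) hres
    · intro H T₁ hH' hQH hT₁T hT₁H hT₁i hd ⟨A, hA, hAk, hAT₁⟩
      refine hH H T₁ hH' hQH hT₁T hT₁H hT₁i ?_
      rcases eq_or_ne T₁ (T : Subgroup Y) with e | e
      · rw [e, hfull]; exact inf_le_right.trans hJ
      set J₁ : Subgroup Y := sSup {A | A ∈ 𝒜 ∧ A ≤ T₁} with hJ₁
      set M := normalizer (J₁ : Set Y) with hM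
      have hT₁M : normalizer (T₁ : Set Y) ≤ M := hperm T₁ hT₁T
      have hQT₁ : Q ≤ T₁ := by
        let TH : Sylow 2 H :=
          ((T.2.to_le hT₁T).of_equiv (Subgroup.subgroupOfEquivOfLe hT₁H).symm).toSylow hT₁i
        intro w hw
        exact (hQp.of_equiv (Subgroup.subgroupOfEquivOfLe hQH).symm).le_sylow_of_normal TH
          (show (⟨w, hQH hw⟩ : H) ∈ Q.subgroupOf H from hw)
      have hMtop : M ≠ ⊤ := fun e' => hAk (le_trans ?_ hQker)
      swap
      · haveI : J₁.Normal := Subgroup.normalizer_eq_top_iff.1 e'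
        exact (le_sSup ⟨hA, hAT₁⟩ : A ≤ J₁).trans (CfsgLib.Coprime.le_pCore
          ((T.2.to_le hT₁T).to_le (sSup_le fun B hB => hB.2)))
      have hlt : Nat.card T₁ < Nat.card ((T : Subgroup Y) ⊓ M : Subgroup Y) :=
        lt_of_lt_of_le (CfsgLib.Fusion.card_lt_card_of_lt (CfsgLib.Fusion.lt_inf_normalizer hT₁T e))
          (Subgroup.card_le_of_le (inf_le_inf le_rfl hT₁M))
      have := Subgroup.card_le_of_le (inf_le_left : (T : Subgroup Y) ⊓ M ≤ (T : Subgroup Y))
      exact inf_le_right.trans (up M _ hMtop (hQT₁.trans (le_normalizer.trans hT₁M))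
        inf_le_left inf_le_right (by omega)
        ⟨A, hA, hAk, (le_inf hT₁T (le_normalizer.trans hT₁M)).trans' hAT₁⟩)
  -- a member inducing a smallest group
  obtain ⟨A₁, ⟨hA₁, hA₁k⟩, hA₁min⟩ := Set.exists_min_image
    {A : Subgroup Y | A ∈ 𝒜 ∧ ¬ A ≤ π.ker}
    (fun A => Nat.card (A.map π)) (Set.toFinite _) (by obtain ⟨A, h1, h2⟩ := hex; exact ⟨A, h1, h2⟩)
  have hA₁T := h𝒜.le A₁ hA₁
  have hA₁c := h𝒜.comm A₁ hA₁
  set Ā := A₁.map π with hĀ
  have hne : Ā ≠ ⊥ := fun h => hA₁k fun a ha => MonoidHom.mem_ker.2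
    (mem_bot.1 (h ▸ mem_map_of_mem π ha))
  -- an element moving `A₁` into `T` or into `L`
  have notinto : ∀ {g : Y}, conjBy g A₁ ≤ L → g ∈ L := by
    intro g hg
    obtain ⟨l, hl, hlT⟩ := CfsgLib.Fusion.exists_conj_le_of_not_dvd_relIndex T.2 hTL
      (fun hd => T.not_dvd_index (hd.trans (relIndex_dvd_index_of_le hTL)))
      (CfsgLib.Fusion.isPGroup_conjBy g (T.2.to_le hA₁T)) hg
    rw [conjBy_conjBy] at hlT
    have := (down _).1 (l * g) rfl ⟨conjBy (l * g) A₁, h𝒜.conj A₁ hA₁ _ hlT, moved hA₁k,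
      conjBy_mono hA₁T⟩
    simpa using mul_mem (inv_mem hl) this
  have hsplit : ∀ A : Subgroup Y,
      Nat.card A = Nat.card (A.map π) * Nat.card (A ⊓ π.ker : Subgroup Y) := by
    intro A
    rw [← Subgroup.relIndex_ker (K := A) π, mul_comm, ← Subgroup.inf_relIndex_left A π.ker]
    exact (card_mul_relIndex' inf_le_left).symm
  have hfixeq : ∀ e : E₁, (e : Y) ∈ A₁ ↔ e ∈ fixOf ρ Ā := by
    intro e
    constructor
    · intro he
      refine mem_fixOf.2 ?_
      rintro _ ⟨a, ha, rfl⟩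
      refine Subtype.ext ?_
      show a * e * a⁻¹ = e
      rw [(hA₁c a ha e he).eq, mul_inv_cancel_right]
    · intro he
      refine h𝒜.mem_of_commute hA₁ (hQT (hEQ (hE₁E e.2))) e.2.2 fun a ha => ?_
      have h' := congrArg (fun z : E₁ => (z : Y)) (mem_fixOf.1 he (π a) (mem_map_of_mem π ha))
      simp only [hρ, hφ] at h'
      exact mul_inv_eq_iff_eq_mul.1 h'
  have hcardfix : Nat.card (A₁ ⊓ E₁ : Subgroup Y) = Nat.card (fixOf ρ Ā) := by
    rw [← Subgroup.card_map_of_injective E₁.subtype_injective (K := fixOf ρ Ā)]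
    refine congrArg (fun K : Subgroup Y => Nat.card K) (le_antisymm ?_ ?_)
    · rintro a ⟨ha, haE⟩
      exact ⟨⟨a, haE⟩, (hfixeq ⟨a, haE⟩).1 ha, rfl⟩
    · rintro _ ⟨e, he, rfl⟩
      exact ⟨(hfixeq e).2 he, e.2⟩
  -- comparing a subgroup with `A₁`
  have hbound : ∀ B : Subgroup G, B ≤ Ā → Nat.card B * Nat.card (fixOf ρ B) ≤
      Nat.card Ā * Nat.card (fixOf ρ Ā) ∧
      (B ≠ ⊥ → B < Ā → Nat.card B * Nat.card (fixOf ρ B) ≠
        Nat.card Ā * Nat.card (fixOf ρ Ā)) := by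
    intro B hB
    set K := (fixOf ρ B).map E₁.subtype with hK
    set A₀ := A₁ ⊓ B.comap π with hA₀
    have hKE : K ≤ E₁ := map_subtype_le _
    have hKker : K ≤ π.ker := (hKE.trans hE₁E).trans (hEQ.trans hQker)
    have hcomm : ∀ a ∈ A₀, ∀ c ∈ K, Commute a c := by
      rintro a ha _ ⟨e, he, rfl⟩
      have h' := congrArg (fun z : E₁ => (z : Y)) (mem_fixOf.1 he (π a) ha.2)
      simp only [hρ, hφ] at h'
      exact mul_inv_eq_iff_eq_mul.1 h'
    obtain ⟨hrep, hmem⟩ := h𝒜.rep A₁ hA₁ A₀ inf_le_left K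
      ((hKE.trans hE₁E).trans (hEQ.trans hQT)) (fun c hc => (hKE hc).2) hcomm
    set A' := A₀ ⊔ K with hA'
    have hA'm : A'.map π = B := by
      rw [hA', Subgroup.map_sup, (Subgroup.map_eq_bot_iff K).2 hKker, sup_bot_eq]
      refine le_antisymm (by rintro _ ⟨a, ha, rfl⟩; exact ha.2) fun b hb => ?_
      obtain ⟨a, ha, rfl⟩ := hB hb
      exact ⟨a, ⟨ha, hb⟩, rfl⟩
    have e1 : Nat.card (A₁ ⊓ π.ker : Subgroup Y) * Nat.card (fixOf ρ B) ≤
        Nat.card (A' ⊓ π.ker : Subgroup Y) * Nat.card (fixOf ρ Ā) := by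
      set J := A₁ ⊓ π.ker with hJ'
      have hJA₀ : J ≤ A₀ := fun a ha => ⟨ha.1, by
        show π a ∈ B
        rw [MonoidHom.mem_ker.1 ha.2]; exact one_mem B⟩
      have hJK : J ⊓ K ≤ A₁ ⊓ E₁ := inf_le_inf inf_le_left hKE
      have hle : J ⊔ K ≤ A' ⊓ π.ker := sup_le (le_inf (hJA₀.trans le_sup_left) inf_le_right)
        (le_inf le_sup_right hKker)
      have hprod : Nat.card J * Nat.card K ≤
          Nat.card (J ⊔ K : Subgroup Y) * Nat.card (J ⊓ K : Subgroup Y) := by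
        have h1 : K.relIndex J ≤ K.relIndex (J ⊔ K) :=
          relIndex_le_of_le_right le_sup_left (by
            exact (Nat.pos_of_ne_zero Subgroup.index_ne_zero_of_finite).ne')
        have h2 : Nat.card (J ⊓ K : Subgroup Y) * K.relIndex J = Nat.card J := by
          rw [← Subgroup.inf_relIndex_left J K, card_mul_relIndex' inf_le_left]
        have h3 : Nat.card K * K.relIndex (J ⊔ K) = Nat.card (J ⊔ K : Subgroup Y) :=
          card_mul_relIndex' le_sup_right
        calc Nat.card J * Nat.card K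
            = Nat.card K * K.relIndex J * Nat.card (J ⊓ K : Subgroup Y) := by rw [← h2]; ring
          _ ≤ Nat.card K * K.relIndex (J ⊔ K) * Nat.card (J ⊓ K : Subgroup Y) :=
              Nat.mul_le_mul (Nat.mul_le_mul le_rfl h1) le_rfl
          _ = _ := by rw [h3]
      have hKc : Nat.card K = Nat.card (fixOf ρ B) :=
        Subgroup.card_map_of_injective E₁.subtype_injective
      rw [← hKc, ← hcardfix]
      exact hprod.trans (Nat.mul_le_mul (Subgroup.card_le_of_le hle) (Subgroup.card_le_of_le hJK))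
    have e2 := hrep
    rw [hsplit A₁, hsplit A', hA'm, ← hĀ] at e2
    have hk0 : 0 < Nat.card (A₁ ⊓ π.ker : Subgroup Y) := Nat.card_pos
    refine ⟨?_, fun hB0 hBlt heq => ?_⟩
    · refine Nat.le_of_mul_le_mul_right ?_ hk0
      calc Nat.card B * Nat.card (fixOf ρ B) * Nat.card (A₁ ⊓ π.ker : Subgroup Y)
          ≤ Nat.card B * (Nat.card (A' ⊓ π.ker : Subgroup Y) * Nat.card (fixOf ρ Ā)) := by
            rw [mul_assoc, mul_comm (Nat.card (fixOf ρ B))]
            exact Nat.mul_le_mul le_rfl e1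
        _ ≤ Nat.card Ā * Nat.card (A₁ ⊓ π.ker : Subgroup Y) * Nat.card (fixOf ρ Ā) := by
            rw [← mul_assoc]; exact Nat.mul_le_mul e2 le_rfl
        _ = _ := by ring
    · have hcardA : Nat.card A' = Nat.card A₁ := by
        refine le_antisymm hrep ?_
        rw [hsplit A₁, hsplit A', hA'm, ← hĀ]
        refine Nat.le_of_mul_le_mul_right ?_ (Nat.card_pos (α := fixOf ρ Ā))
        calc Nat.card Ā * Nat.card (A₁ ⊓ π.ker : Subgroup Y) * Nat.card (fixOf ρ Ā)
            = Nat.card B * (Nat.card (A₁ ⊓ π.ker : Subgroup Y) * Nat.card (fixOf ρ B)) := by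
              rw [mul_right_comm, ← heq]; ring
          _ ≤ Nat.card B * (Nat.card (A' ⊓ π.ker : Subgroup Y) * Nat.card (fixOf ρ Ā)) :=
              Nat.mul_le_mul le_rfl e1
          _ = _ := by ring
      have hmove : ¬ A' ≤ π.ker := fun h => hB0 (by
        rw [← hA'm, (Subgroup.map_eq_bot_iff A').2 h])
      have := hA₁min A' ⟨hmem hcardA, hmove⟩
      simp only [hA'm] at this
      exact absurd (CfsgLib.Fusion.card_lt_card_of_lt hBlt) (not_lt.2 this)
  have hoff : IsOff ρ Ā := by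
    have h := (hbound ⊥ bot_le).1
    rw [Subgroup.card_bot, one_mul, show fixOf ρ (⊥ : Subgroup G) = ⊤ from eq_top_iff.2
      fun e _ => mem_fixOf.2 fun b hb => by rw [mem_bot.1 hb, map_one]; rfl, Subgroup.card_top] at h
    exact h
  have hcommA : ∀ a ∈ Ā, ∀ b ∈ Ā, Commute a b := by
    rintro _ ⟨a, ha, rfl⟩ _ ⟨b, hb, rfl⟩
    exact (hA₁c a ha b hb).map π
  have hq := quadratic_of_minimal (fun v => ⟨1, by rw [pow_one, pow_two]; exact h2 v⟩) hcommA hne
    hoff fun B hB hB0 => lt_of_le_of_ne (hbound B hB.le).1 ((hbound B hB.le).2 hB0 hB)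
  have hĀ2 : ∀ a ∈ Ā, a * a = 1 := by
    intro a ha
    refine hinj (MulEquiv.ext fun v => ?_)
    rw [map_one, MulAut.one_apply, delt_apply ρ (a * a) v, delt_mul,
      delt_apply ρ a (delt ρ a v), hq a ha a ha, one_mul, h2, one_mul]
  have hNoThree : NoThree ρ := noThree_of_not_involves hfree π hπs (MonoidHom.id E₁)
    Function.surjective_id ρ hE₁n (fun g e => rfl) (fun a ha b hb => hEc a ha.1 b hb.1) h2
  let T' : Sylow 2 G := T.mapSurjective hπs
  have hT' : (T' : Subgroup G) = (T : Subgroup Y).map π := Sylow.coe_mapSurjective hπs T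
  set L' := L.map π with hL'
  have hcomapL : L'.comap π = L := Subgroup.comap_map_eq_self hkerL
  have hL'top : L' ≠ ⊤ := fun e => hL (by rw [← hcomapL, e, Subgroup.comap_top])
  have hA₁T' : Ā ≤ L' := map_mono (hA₁T.trans hTL)
  have gen : ∀ h, h ∉ L' → Ā ⊔ conjBy h Ā = ⊤ := by
    intro h hh
    obtain ⟨g, rfl⟩ := hπs h
    by_contra htop
    set H := (Ā ⊔ conjBy (π g) Ā).comap π with hHdef
    have hH' : H ≠ ⊤ := fun e => htop (by
      rw [← Subgroup.map_comap_eq_self_of_surjective hπs (Ā ⊔ conjBy (π g) Ā), ← hHdef, e,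
        Subgroup.map_top_of_surjective π hπs])
    have hA₁H : A₁ ≤ H := fun a ha => mem_sup_left (mem_map_of_mem π ha)
    have hQH : Q ≤ H := hQker.trans (Subgroup.ker_le_comap π _)
    obtain ⟨P₁, hAP₁, hP₁H, hP₁p, hP₁i⟩ :=
      CfsgLib.Fusion.exists_le_not_dvd_relIndex (T.2.to_le hA₁T) hA₁H
    obtain ⟨k, -, hkT⟩ := CfsgLib.Fusion.exists_conj_le_of_not_dvd_relIndex T.2 le_top
      (by rw [relIndex_top_right]; exact T.not_dvd_index) hP₁p le_top
    have hkL : k ∈ L := notinto (((conjBy_mono hAP₁).trans hkT).trans hTL)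
    have hHL : H ≤ L := by
      refine le_of_conjBy_le hkL ((down _).2 (conjBy k H) (conjBy k P₁) (fun e => hH' ?_)
        (conjBy_le_of_normal hQH) hkT (conjBy_mono hP₁H)
        (CfsgLib.Fusion.not_dvd_relIndex_conjBy k hP₁i) rfl
        ⟨conjBy k A₁, h𝒜.conj A₁ hA₁ k ((conjBy_mono hAP₁).trans hkT), moved hA₁k,
          conjBy_mono hAP₁⟩)
      refine eq_top_iff.2 (le_trans ?_ (le_of_eq (CfsgLib.Fusion.conjBy_inv_conjBy k H)))
      rw [e]
      exact fun z _ => mem_conjBy.2 (mem_top _)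
    refine hh (mem_map_of_mem π (notinto ((conjBy_le_iff.2 fun a ha => hHL ?_))))
    show π (g * a * g⁻¹) ∈ Ā ⊔ conjBy (π g) Ā
    rw [map_mul, map_mul, map_inv]
    exact mem_sup_right (conj_mem_conjBy (mem_map_of_mem π ha))
  refine false_of_generators h2 hinj hNoThree T' L' (hT'.trans_le (map_mono hTL)) hL'top Ā hne hĀ2
    hq hoff gen ?_
  -- a conjugate and its translate by an element of `Ā`
  intro h hh a ha ha1
  have step : ∀ k, k ∉ L' → k⁻¹ * a * k ∉ L' → conjBy k Ā ⊔ conjBy a (conjBy k Ā) = ⊤ := by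
    intro k hk hka
    have := congrArg (conjBy k) (gen _ hka)
    have etop : conjBy k (⊤ : Subgroup G) = ⊤ :=
      conjBy_eq_iff.2 (by rw [Subgroup.normalizer_eq_top (⊤ : Subgroup G)]; trivial)
    rw [etop, show conjBy k (Ā ⊔ conjBy (k⁻¹ * a * k) Ā) =
      conjBy k Ā ⊔ conjBy k (conjBy (k⁻¹ * a * k) Ā) from Subgroup.map_sup _ _ _, conjBy_conjBy,
      show k * (k⁻¹ * a * k) = a * k by group, ← conjBy_conjBy] at this
    exact this
  refine step h hh fun haL => ?_
  obtain ⟨a₀, ha₀, rfl⟩ := ha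
  obtain ⟨k, hk, hka⟩ : ∃ k : Y, π k ∉ L' ∧ (π k)⁻¹ * π a₀ * π k ∉ L' := by
    by_contra hall
    push Not at hall
    refine ha1 (MonoidHom.mem_ker.1 (hcore L.normalCore L.normalCore_normal L.normalCore_le
      ⟨hA₁T ha₀, fun c => ?_⟩))
    rw [← hcomapL, mem_comap, map_mul, map_mul, map_inv]
    by_cases hc : π c⁻¹ ∈ L'
    · rw [map_inv, inv_mem_iff] at hc
      exact mul_mem (mul_mem hc (hA₁T' ⟨a₀, ha₀, rfl⟩)) (inv_mem hc)
    · have := hall c⁻¹ hc
      rwa [map_inv, inv_inv] at this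
  obtain ⟨h₀, rfl⟩ := hπs h
  -- `a₀` fixes a conjugate of `x`
  obtain ⟨l, hl, hlT⟩ := CfsgLib.Fusion.exists_conj_le_of_not_dvd_relIndex T.2 hTL
    (fun hd => T.not_dvd_index (hd.trans (relIndex_dvd_index_of_le hTL)))
    (CfsgLib.Fusion.isPGroup_conjBy h₀⁻¹ (T.2.to_le (zpowers_le.2 (hA₁T ha₀))))
    (conjBy_le_iff.2 fun z hz => by
      obtain ⟨i, rfl⟩ := Subgroup.mem_zpowers_iff.1 hz
      rw [inv_inv, show h₀⁻¹ * a₀ ^ i * h₀ = (h₀⁻¹ * a₀ * h₀) ^ i by
        have := conj_zpow (a := h₀⁻¹) (b := a₀) (i := i); rw [inv_inv] at this; exact this.symm]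
      refine zpow_mem ?_ i
      rw [← hcomapL, mem_comap, map_mul, map_mul, map_inv]
      exact haL)
  set h' := h₀ * l⁻¹ with hh'
  have hh'L : h' ∉ L := fun e => hh (mem_map_of_mem π (by
    rw [show h₀ = h' * l by rw [hh']; group]; exact mul_mem e hl))
  set x' := h' * x * h'⁻¹ with hx'
  have hax' : Commute a₀ x' := by
    have hz := hxT _ (hlT (conj_mem_conjBy (conj_mem_conjBy (mem_zpowers a₀))))
    rw [inv_inv] at hz
    have h1 : l * (h₀⁻¹ * a₀ * h₀) * l⁻¹ * x = x * (l * (h₀⁻¹ * a₀ * h₀) * l⁻¹) := hz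
    show a₀ * x' = x' * a₀
    calc a₀ * x' = h₀ * l⁻¹ * (l * (h₀⁻¹ * a₀ * h₀) * l⁻¹ * x) * (h₀ * l⁻¹)⁻¹ := by
          rw [hx', hh']; group
      _ = h₀ * l⁻¹ * (x * (l * (h₀⁻¹ * a₀ * h₀) * l⁻¹)) * (h₀ * l⁻¹)⁻¹ := by rw [h1]
      _ = x' * a₀ := by rw [hx', hh']; group
  set D₀ := conjBy k A₁ with hD₀
  have hgenY : A₁ ⊔ D₀ ⊔ π.ker = ⊤ := by
    rw [← Subgroup.comap_map_eq]
    have : (A₁ ⊔ D₀).map π = ⊤ := by
      rw [Subgroup.map_sup, hD₀, show (conjBy k A₁).map π = conjBy (π k) Ā by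
        rw [hĀ, conjBy, conjBy, Subgroup.map_map, Subgroup.map_map]
        congr 1
        ext z
        simp]
      exact gen (π k) hk
    rw [this, Subgroup.comap_top]
  -- quadratic action in `Y`
  have hqY : ∀ b ∈ A₁, ∀ c ∈ A₁, ∀ e ∈ E₁, Commute b (c * e * c⁻¹ * e⁻¹) := by
    intro b hb c hc e he
    have h' := congrArg (fun z : E₁ => (z : Y))
      (hq (π b) (mem_map_of_mem π hb) (π c) (mem_map_of_mem π hc) ⟨e, he⟩)
    simp only [delt, hρ, Subgroup.coe_div, hφ, Subgroup.coe_one, div_eq_one] at h'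
    rw [div_eq_mul_inv] at h'
    exact mul_inv_eq_iff_eq_mul.1 h'
  have hqD : ∀ b ∈ D₀, ∀ c ∈ D₀, ∀ e ∈ E₁, Commute b (c * e * c⁻¹ * e⁻¹) := by
    intro b hb c hc e he
    have he' : k⁻¹ * e * k ∈ E₁ := hE₁n.conj_mem' e he k
    have := (hqY _ (mem_conjBy.1 hb) _ (mem_conjBy.1 hc) _ he').map (MulAut.conj k).toMonoidHom
    convert this using 1 <;> simp [mul_assoc]
  set U := E₁ ⊓ centralizer (A₁ : Set Y) with hU
  set W := E₁ ⊓ centralizer (D₀ : Set Y) with hW
  set S := U ⊔ W with hS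
  have hSE : S ≤ E₁ := sup_le inf_le_left inf_le_left
  have hUc : ∀ c ∈ A₁, ∀ e ∈ E₁, c * e * c⁻¹ * e⁻¹ ∈ U := fun c hc e he =>
    mem_inf.2 ⟨mul_mem (hE₁n.conj_mem e he c) (inv_mem he),
      mem_centralizer_iff.2 fun b hb => (hqY b hb c hc e he).eq⟩
  have hWc : ∀ c ∈ D₀, ∀ e ∈ E₁, c * e * c⁻¹ * e⁻¹ ∈ W := fun c hc e he =>
    mem_inf.2 ⟨mul_mem (hE₁n.conj_mem e he c) (inv_mem he),
      mem_centralizer_iff.2 fun b hb => (hqD b hb c hc e he).eq⟩
  have hxk : x * (k * x * k⁻¹)⁻¹ ∈ E₁ := by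
    refine ⟨mul_mem hxE (inv_mem (hEn.conj_mem x hxE k)), ?_⟩
    rw [(hEc _ hxE _ (inv_mem (hEn.conj_mem x hxE k))).symm.mul_mul_mul_comm, ← mul_inv_rev,
      show k * x * k⁻¹ * (k * x * k⁻¹) = k * (x * x) * k⁻¹ by group, (hx2 k).eq,
      mul_inv_cancel_right, mul_inv_cancel]
  have hmove : ∀ g : Y, (∀ e ∈ S, g * e * g⁻¹ ∈ S) ∧ g * x * g⁻¹ * x⁻¹ ∈ S := by
    have hA : ∀ c ∈ A₁, (∀ e ∈ S, c * e * c⁻¹ ∈ S) ∧ c * x * c⁻¹ * x⁻¹ ∈ S := fun c hc =>
      ⟨fun e he => by
        have := mul_mem (mem_sup_left (hUc c hc e (hSE he))) he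
        rwa [inv_mul_cancel_right] at this,
      by rw [(hxT c (hA₁T hc)).eq, mul_inv_cancel_right, mul_inv_cancel]; exact one_mem S⟩
    have hD : ∀ c ∈ D₀, (∀ e ∈ S, c * e * c⁻¹ ∈ S) ∧ c * x * c⁻¹ * x⁻¹ ∈ S := fun c hc =>
      ⟨fun e he => by
        have := mul_mem (mem_sup_right (hWc c hc e (hSE he))) he
        rwa [inv_mul_cancel_right] at this,
      by
        have hcx : c * (k * x * k⁻¹) = k * x * k⁻¹ * c := by
          have := (hxT _ (hA₁T (mem_conjBy.1 hc))).eq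
          calc c * (k * x * k⁻¹) = k * (k⁻¹ * c * k * x) * k⁻¹ := by group
            _ = k * (x * (k⁻¹ * c * k)) * k⁻¹ := by rw [this]
            _ = k * x * k⁻¹ * c := by group
        have h1 := hWc c hc _ hxk
        refine mem_sup_right ?_
        have hcx' : c * (k * x * k⁻¹)⁻¹ = (k * x * k⁻¹)⁻¹ * c :=
          (show Commute c (k * x * k⁻¹) from hcx).inv_right.eq
        have hxx : Commute x (k * x * k⁻¹) := hEc _ hxE _ (hEn.conj_mem x hxE k)
        convert h1 using 1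
        calc c * x * c⁻¹ * x⁻¹ = c * x * c⁻¹ * ((k * x * k⁻¹)⁻¹ * (k * x * k⁻¹) * x⁻¹) := by group
          _ = c * x * (c⁻¹ * (k * x * k⁻¹)⁻¹) * (k * x * k⁻¹ * x⁻¹) := by group
          _ = c * x * ((k * x * k⁻¹)⁻¹ * c⁻¹) * (k * x * k⁻¹ * x⁻¹) := by
            rw [((show Commute c (k * x * k⁻¹) from hcx).inv_left.inv_right).eq]
          _ = c * (x * (k * x * k⁻¹)⁻¹) * c⁻¹ * (x * (k * x * k⁻¹)⁻¹)⁻¹ := by group⟩
    have hC : ∀ c ∈ π.ker, (∀ e ∈ S, c * e * c⁻¹ ∈ S) ∧ c * x * c⁻¹ * x⁻¹ ∈ S := fun c hc =>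
      ⟨fun e he => by rwa [((hker c).1 hc e (hSE he)).eq, mul_inv_cancel_right],
      by rw [(hmemx.1 (hkerx hc)).eq, mul_inv_cancel_right, mul_inv_cancel]; exact one_mem S⟩
    intro g
    have hg : g ∈ A₁ ⊔ D₀ ⊔ π.ker := hgenY ▸ mem_top g
    rw [Subgroup.sup_eq_closure_mul] at hg
    induction hg using Subgroup.closure_induction_left with
    | one => exact ⟨fun e he => by simpa using he, by simp⟩
    | mul_left c hc d _ ic =>
      obtain ⟨c₁, hc₁, c₂, hc₂, rfl⟩ := hc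
      have h₂ := hC c₂ hc₂
      have h₁ : (∀ e ∈ S, c₁ * e * c₁⁻¹ ∈ S) ∧ c₁ * x * c₁⁻¹ * x⁻¹ ∈ S := by
        rw [SetLike.mem_coe, Subgroup.sup_eq_closure] at hc₁
        induction hc₁ using Subgroup.closure_induction_left with
        | one => exact ⟨fun e he => by simpa using he, by simp⟩
        | mul_left b hb d' _ ib =>
          have hb' := hb.elim (hA b) (hD b)
          exact ⟨fun e he => by simpa [mul_assoc] using hb'.1 _ (ib.1 e he), by
            simpa [mul_assoc] using mul_mem (hb'.1 _ ib.2) hb'.2⟩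
        | inv_mul_cancel b hb d' _ ib =>
          have hb' := hb.elim (fun h => hA b⁻¹ (inv_mem h)) (fun h => hD b⁻¹ (inv_mem h))
          exact ⟨fun e he => by simpa [mul_assoc] using hb'.1 _ (ib.1 e he), by
            simpa [mul_assoc] using mul_mem (hb'.1 _ ib.2) hb'.2⟩
      exact ⟨fun e he => by simpa [mul_assoc] using h₁.1 _ (h₂.1 _ (ic.1 e he)), by
        simpa [mul_assoc] using mul_mem (h₁.1 _ (mul_mem (h₂.1 _ ic.2) h₂.2)) h₁.2⟩
    | inv_mul_cancel c hc d _ ic =>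
      obtain ⟨c₁, hc₁, c₂, hc₂, rfl⟩ := hc
      have h₂ := hC c₂⁻¹ (inv_mem hc₂)
      have hc₁' : c₁⁻¹ ∈ A₁ ⊔ D₀ := inv_mem hc₁
      have h₁ : (∀ e ∈ S, c₁⁻¹ * e * c₁⁻¹⁻¹ ∈ S) ∧ c₁⁻¹ * x * c₁⁻¹⁻¹ * x⁻¹ ∈ S := by
        revert hc₁'
        generalize c₁⁻¹ = c₀
        intro hc₀
        rw [Subgroup.sup_eq_closure] at hc₀
        induction hc₀ using Subgroup.closure_induction_left with
        | one => exact ⟨fun e he => by simpa using he, by simp⟩
        | mul_left b hb d' _ ib =>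
          have hb' := hb.elim (hA b) (hD b)
          exact ⟨fun e he => by simpa [mul_assoc] using hb'.1 _ (ib.1 e he), by
            simpa [mul_assoc] using mul_mem (hb'.1 _ ib.2) hb'.2⟩
        | inv_mul_cancel b hb d' _ ib =>
          have hb' := hb.elim (fun h => hA b⁻¹ (inv_mem h)) (fun h => hD b⁻¹ (inv_mem h))
          exact ⟨fun e he => by simpa [mul_assoc] using hb'.1 _ (ib.1 e he), by
            simpa [mul_assoc] using mul_mem (hb'.1 _ ib.2) hb'.2⟩
      exact ⟨fun e he => by simpa [mul_assoc] using h₂.1 _ (h₁.1 _ (ic.1 e he)), by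
        simpa [mul_assoc] using mul_mem (h₂.1 _ (mul_mem (h₁.1 _ ic.2) h₁.2)) h₂.2⟩
  obtain ⟨u, hu, w, hw, huw⟩ : ∃ u ∈ U, ∃ w ∈ W, u * w = x' * x⁻¹ := by
    have hmem : x' * x⁻¹ ∈ S := (hmove h').2
    rw [hS, Subgroup.sup_eq_closure] at hmem
    generalize x' * x⁻¹ = z at hmem ⊢
    induction hmem using Subgroup.closure_induction with
    | mem z hz =>
      rcases hz with hz | hz
      · exact ⟨z, hz, 1, one_mem W, mul_one z⟩
      · exact ⟨1, one_mem U, z, hz, one_mul z⟩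
    | one => exact ⟨1, one_mem U, 1, one_mem W, mul_one 1⟩
    | mul z z' _ _ iz iz' =>
      obtain ⟨u₁, hu₁, w₁, hw₁, rfl⟩ := iz
      obtain ⟨u₂, hu₂, w₂, hw₂, rfl⟩ := iz'
      refine ⟨u₁ * u₂, mul_mem hu₁ hu₂, w₁ * w₂, mul_mem hw₁ hw₂, ?_⟩
      exact (hEc _ (hE₁E hw₁.1) _ (hE₁E hu₂.1)).symm.mul_mul_mul_comm u₁ w₂
    | inv z _ iz =>
      obtain ⟨u₁, hu₁, w₁, hw₁, rfl⟩ := iz
      refine ⟨u₁⁻¹, inv_mem hu₁, w₁⁻¹, inv_mem hw₁, ?_⟩
      rw [mul_inv_rev]
      exact (hEc _ (hE₁E (inv_mem hu₁.1)) _ (hE₁E (inv_mem hw₁.1))).eq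
  have hx'eq : x' = u * w * x := by rw [huw, inv_mul_cancel_right]
  have haw : Commute a₀ w := by
    have h1 : Commute a₀ (u * w) := by
      rw [huw]; exact hax'.mul_right (hxT a₀ (hA₁T ha₀)).inv_right
    have h2' := (show Commute a₀ u from mem_centralizer_iff.1 hu.2 a₀ ha₀).inv_right.mul_right h1
    rwa [inv_mul_cancel_left] at h2'
  have hwall : ∀ g : Y, Commute g w := by
    have hle : D₀ ⊔ conjBy a₀ D₀ ⊔ π.ker ≤ centralizer ({w} : Set Y) := by
      have hD : D₀ ≤ centralizer ({w} : Set Y) := fun d hd =>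
        mem_centralizer_singleton_iff.2 (mem_centralizer_iff.1 hw.2 d hd)
      refine sup_le (sup_le hD ?_) fun c hc =>
        mem_centralizer_singleton_iff.2 ((hker c).1 hc w hw.1).eq
      refine (conjBy_mono hD).trans (conjBy_le_iff.2 fun c hc => ?_)
      refine mem_centralizer_singleton_iff.2 ?_
      have hac : Commute a₀ w := haw
      exact ((hac.mul_left (mem_centralizer_singleton_iff.1 hc)).mul_left hac.inv_left).eq
    have htop : D₀ ⊔ conjBy a₀ D₀ ⊔ π.ker = ⊤ := by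
      rw [← Subgroup.comap_map_eq]
      have : (D₀ ⊔ conjBy a₀ D₀).map π = ⊤ := by
        rw [Subgroup.map_sup]
        have e : ∀ (c : Y) (K : Subgroup Y), (conjBy c K).map π = conjBy (π c) (K.map π) := by
          intro c K
          rw [conjBy, conjBy, Subgroup.map_map, Subgroup.map_map]
          congr 1
          ext z
          simp
        simp only [e, hD₀, ← hĀ]
        exact step (π k) hk hka
      rw [this, Subgroup.comap_top]
    exact fun g => mem_centralizer_singleton_iff.1 (hle (htop.ge (mem_top g)))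
  have hconj : conjBy h'⁻¹ A₁ ≤ L := by
    refine le_trans (conjBy_le_iff.2 fun b hb => ?_) hxL
    refine hmemx.2 ?_
    have hbx : b * x' = x' * b := by
      rw [hx'eq]
      exact (((show Commute b u from mem_centralizer_iff.1 hu.2 b hb).mul_right (hwall b)).mul_right
        (hxT b (hA₁T hb))).eq
    rw [inv_inv]
    show h'⁻¹ * b * h' * x = x * (h'⁻¹ * b * h')
    calc h'⁻¹ * b * h' * x = h'⁻¹ * (b * x') * h' := by rw [hx']; group
      _ = h'⁻¹ * (x' * b) * h' := by rw [hbx]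
      _ = x * (h'⁻¹ * b * h') := by rw [hx']; group
  exact hh'L (by simpa using inv_mem (notinto hconj))

end CfsgLib.CFun
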