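import Cfsg.Agent.Lib.CFun.FourFreeFamily
import Cfsg.Agent.Lib.Fusion.ZJFamilies
import Cfsg.Agent.Lib.Invol.PConstrained

/-!
# The subgroup `J_e` in groups without a section `S₄`

In a group without a section `S₄` whose `O₂` contains its centralizer, the centralizer of the centre
of a Sylow 2-subgroup and the normalizer of `J_e` lie in no proper subgroup; if the Sylow 2-subgroup
has class at most two, then `J_e` is normal.
-/

set_option autoImplicit false
set_option linter.style.haveILetI false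

open Subgroup
open CfsgLib.Fusion (conjBy maxEA maxEA_inter IsMaxEA thompsonSubgroupOf_eq map_thompsonSubgroupOf)

namespace CfsgLib.CFun

universe u

variable {Y : Type u} [Group Y] [Finite Y]

/-- The elementary abelian subgroups of largest order form a family of this kind. -/
theorem abFam_maxEA (T : Subgroup Y) : AbFam T (maxEA 2 T) where
  le := fun A hA => hA.1
  comm := fun A hA a ha b hb => congrArg Subtype.val (hA.2.1.1.is_comm.comm (⟨a, ha⟩ : A) ⟨b, hb⟩)
  nonempty := CfsgLib.Fusion.maxEA_nonempty T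
  conj := fun A hA g hg => ⟨hg, CfsgLib.Fusion.isElementaryAbelian_map _ hA.2.1, fun B hB hBe =>
    (hA.2.2 B hB hBe).trans (CfsgLib.Fusion.card_conjBy g A).ge⟩
  rep := fun A hA B hBA C hCT hC2 hBC => by
    have hAc : ∀ a ∈ A, ∀ b ∈ A, Commute a b := fun a ha b hb =>
      congrArg Subtype.val (hA.2.1.1.is_comm.comm (⟨a, ha⟩ : A) ⟨b, hb⟩)
    have hC : ∀ a ∈ C, ∀ b ∈ C, Commute a b := fun a ha b hb => by
      have e := hC2 _ (mul_mem ha hb)
      have ea : a⁻¹ = a := inv_eq_of_mul_eq_one_right (hC2 a ha)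
      have eb : b⁻¹ = b := inv_eq_of_mul_eq_one_right (hC2 b hb)
      show a * b = b * a
      rw [← inv_eq_of_mul_eq_one_right e, _root_.mul_inv_rev, ea, eb]
    have hclos : B ⊔ C = Subgroup.closure ((B : Set Y) ∪ C) := by
      rw [Subgroup.closure_union, Subgroup.closure_eq, Subgroup.closure_eq]
    have hcomm : IsMulCommutative (B ⊔ C : Subgroup Y) := by
      rw [hclos]
      refine Subgroup.isMulCommutative_closure ?_
      rintro u (hu | hu) v (hv | hv)
      exacts [hAc u (hBA hu) v (hBA hv), hBC u hu v hv, (hBC v hv u hu).symm, hC u hu v hv]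
    have hel : Cfsg.IsElementaryAbelian 2 (B ⊔ C : Subgroup Y) := by
      refine ⟨hcomm, fun a ha => ?_⟩
      rw [hclos] at ha
      induction ha using Subgroup.closure_induction with
      | mem x hx =>
        rcases hx with hx | hx
        · exact hA.2.1.2 x (hBA hx)
        · rw [pow_two]; exact hC2 x hx
      | one => exact one_pow 2
      | mul x y hx hy ihx ihy =>
        rw [← hclos] at hx hy
        rw [(show Commute x y from congrArg Subtype.val (hcomm.is_comm.comm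
          (⟨x, hx⟩ : (B ⊔ C : Subgroup Y)) ⟨y, hy⟩)).mul_pow, ihx, ihy, one_mul]
      | inv x _ ihx => rw [inv_pow, ihx, inv_one]
    have hle : B ⊔ C ≤ T := sup_le (hBA.trans hA.1) hCT
    exact ⟨hA.2.2 _ hle hel, fun e => ⟨hle, hel, fun D hD hDe => e ▸ hA.2.2 D hD hDe⟩⟩

omit [Finite Y] in
/-- The members inside a smaller subgroup. -/
theorem maxEA_sub {T T₁ : Subgroup Y} (hT₁ : T₁ ≤ T) :
    sSup {A | A ∈ maxEA 2 T ∧ A ≤ T₁} = ⊥ ∨
      sSup {A | A ∈ maxEA 2 T ∧ A ≤ T₁} = sSup (maxEA 2 T₁) := by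
  by_cases h : ∃ A₀ ∈ maxEA 2 T, A₀ ≤ T₁
  · obtain ⟨A₀, h₀, h₀T⟩ := h
    exact Or.inr (by rw [maxEA_inter h₀ h₀T, inf_eq_right.2 hT₁])
  · exact Or.inl (le_bot_iff.1 (sSup_le fun A hA => absurd ⟨A, hA.1, hA.2⟩ h))

/-- `O₂` of the group lies in `O₂` of a subgroup containing it, which therefore contains its
centralizer. -/
theorem constrained_of_le (hcon : centralizer (Cfsg.pCore 2 Y : Set Y) ≤ Cfsg.pCore 2 Y)
    {H : Subgroup Y} (hQH : Cfsg.pCore 2 Y ≤ H) :
    centralizer (Cfsg.pCore 2 H : Set H) ≤ Cfsg.pCore 2 H := by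
  haveI : (Cfsg.pCore 2 Y).Normal := CfsgLib.Coprime.pCore_normal' 2
  have hle : (Cfsg.pCore 2 Y).subgroupOf H ≤ Cfsg.pCore 2 H :=
    CfsgLib.Coprime.le_pCore ((CfsgLib.Coprime.pCore_isPGroup 2).of_equiv
      (Subgroup.subgroupOfEquivOfLe hQH).symm)
  intro h hh
  refine hle (mem_subgroupOf.2 (hcon (mem_centralizer_iff.2 fun w hw => ?_)))
  exact congrArg Subtype.val (mem_centralizer_iff.1 hh ⟨w, hQH hw⟩ (hle (mem_subgroupOf.2 hw)))

/-- The Sylow subgroup given by a 2-subgroup of odd index. -/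
theorem exists_sylow_of_le (T : Sylow 2 Y) {H T₁ : Subgroup Y} (hT₁ : T₁ ≤ (T : Subgroup Y))
    (hT₁H : T₁ ≤ H) (hi : ¬ 2 ∣ T₁.relIndex H) :
    ∃ TH : Sylow 2 H, (TH : Subgroup H).map H.subtype = T₁ ∧
      (Cfsg.thompsonSubgroupOf 2 (TH : Subgroup H)).map H.subtype =
        Cfsg.thompsonSubgroupOf 2 T₁ := by
  let TH : Sylow 2 H :=
    ((T.2.to_le hT₁).of_equiv (Subgroup.subgroupOfEquivOfLe hT₁H).symm).toSylow hi
  have h : (TH : Subgroup H).map H.subtype = T₁ := map_subgroupOf_eq_of_le hT₁H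
  exact ⟨TH, h, by rw [map_thompsonSubgroupOf H.subtype
    (fun x _ hx => H.subtype_injective (hx.trans (map_one _).symm)), h]⟩

/-- The step common to the inductions. -/
theorem false_of_thompson (hfree : ¬ Cfsg.Involves (Equiv.Perm (Fin 4)) Y)
    (hcon : centralizer (Cfsg.pCore 2 Y : Set Y) ≤ Cfsg.pCore 2 Y) (T : Sylow 2 Y)
    (L : Subgroup Y) (hL : L ≠ ⊤)
    (hJ : normalizer ((Cfsg.thompsonSubgroupOf 2 (T : Subgroup Y) : Subgroup Y) : Set Y) ≤ L)
    (x : Y) (hxT : x ∈ (T : Subgroup Y)) (hxc : ∀ t ∈ (T : Subgroup Y), Commute t x)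
    (hxZ : x ∉ center Y) (hx2 : ∀ g : Y, Commute g (x * x))
    (hstep : ∀ (H T₁ : Subgroup Y), H ≠ ⊤ → Cfsg.pCore 2 Y ≤ H → T₁ ≤ (T : Subgroup Y) → T₁ ≤ H →
      ¬ 2 ∣ T₁.relIndex H → Cfsg.pCore 2 Y ≤ T₁ →
      H ⊓ normalizer ((Cfsg.thompsonSubgroupOf 2 T₁ : Subgroup Y) : Set Y) ≤ L → H ≤ L) :
    False := by
  set Q := Cfsg.pCore 2 Y with hQdef
  haveI hQn : Q.Normal := CfsgLib.Coprime.pCore_normal' 2
  have hQp : IsPGroup 2 Q := CfsgLib.Coprime.pCore_isPGroup 2
  have hQT : Q ≤ (T : Subgroup Y) := hQp.le_sylow_of_normal T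
  have hQT₁ : ∀ {H T₁ : Subgroup Y}, Q ≤ H → T₁ ≤ (T : Subgroup Y) → T₁ ≤ H →
      ¬ 2 ∣ T₁.relIndex H → Q ≤ T₁ := by
    intro H T₁ hQH hT₁ hT₁H hi
    obtain ⟨TH, hTH, -⟩ := exists_sylow_of_le T hT₁ hT₁H hi
    intro w hw
    rw [← hTH]
    exact ⟨⟨w, hQH hw⟩, (hQp.of_equiv (Subgroup.subgroupOfEquivOfLe hQH).symm).le_sylow_of_normal TH
      (mem_subgroupOf.2 hw), rfl⟩
  have hxQ : x ∈ Q := hcon (mem_centralizer_iff.2 fun w hw => (hxc w (hQT hw)).eq)
  have hTC : (T : Subgroup Y) ≤ centralizer ({x} : Set Y) := fun t ht =>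
    mem_centralizer_singleton_iff.2 (hxc t ht)
  have hxL : centralizer ({x} : Set Y) ≤ L := by
    refine hstep _ _ (fun e => hxZ (Subgroup.mem_center_iff.2 fun g => ?_)) (hQT.trans hTC) le_rfl hTC
      (fun hd => T.not_dvd_index (hd.trans (relIndex_dvd_index_of_le hTC))) hQT
      (inf_le_right.trans hJ)
    exact mem_centralizer_singleton_iff.1 (e ▸ mem_top g)
  refine false_of_family hfree T (abFam_maxEA _) L hL x hxQ hxc hx2 hxL
    (by rw [show sSup (maxEA 2 (T : Subgroup Y)) = Cfsg.thompsonSubgroupOf 2 (T : Subgroup Y) from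
      (thompsonSubgroupOf_eq 2 _).symm]; exact hJ) fun H T₁ hH hQH hT₁ hT₁H hi hle => ?_
  rcases maxEA_sub hT₁ with e | e <;> rw [e] at hle
  · exact fun h hh => hle (mem_inf.2 ⟨hh, by rw [Subgroup.normalizer_eq_top]; exact mem_top h⟩)
  · exact hstep H T₁ hH hQH hT₁ hT₁H hi (hQT₁ hQH hT₁ hT₁H hi)
      (by rw [thompsonSubgroupOf_eq]; exact hle)

/-- A central element of the Sylow 2-subgroup which is not central, with central square. -/
theorem exists_central_sq (T : Sylow 2 Y)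
    (h : ∃ z ∈ (T : Subgroup Y), (∀ t ∈ (T : Subgroup Y), Commute t z) ∧ z ∉ center Y) :
    ∃ x ∈ (T : Subgroup Y), (∀ t ∈ (T : Subgroup Y), Commute t x) ∧ x ∉ center Y ∧
      ∀ g : Y, Commute g (x * x) := by
  obtain ⟨x, ⟨hxT, hxc, hxZ⟩, hmin⟩ := Set.exists_min_image
    {z : Y | z ∈ (T : Subgroup Y) ∧ (∀ t ∈ (T : Subgroup Y), Commute t z) ∧ z ∉ center Y}
    orderOf (Set.toFinite _) (by obtain ⟨z, h1, h2, h3⟩ := h; exact ⟨z, h1, h2, h3⟩)
  refine ⟨x, hxT, hxc, hxZ, fun g => ?_⟩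
  have hsq : x * x ∈ center Y := by
    by_contra hn
    have h1 := hmin (x * x) ⟨mul_mem hxT hxT, fun t ht => (hxc t ht).mul_right (hxc t ht), hn⟩
    obtain ⟨k, hk⟩ := IsPGroup.iff_orderOf.1 T.2 ⟨x, hxT⟩
    rw [Subgroup.orderOf_mk] at hk
    rcases k with _ | k
    · exact hxZ (by rw [show x = 1 from orderOf_eq_one_iff.1 (by simpa using hk)]; exact one_mem _)
    · rw [← pow_two, orderOf_pow, hk, Nat.gcd_eq_right (dvd_pow_self 2 k.succ_ne_zero)] at h1
      exact absurd h1 (not_le.2 (Nat.div_lt_self (by positivity) one_lt_two))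
  exact (Subgroup.mem_center_iff.1 hsq g)

theorem class_two_normal_aux (n : ℕ) : ∀ (Y : Type u) [Group Y] [Finite Y], Nat.card Y = n →
    ¬ Cfsg.Involves (Equiv.Perm (Fin 4)) Y →
    centralizer (Cfsg.pCore 2 Y : Set Y) ≤ Cfsg.pCore 2 Y → ∀ T : Sylow 2 Y,
    (∀ a ∈ (T : Subgroup Y), ∀ b ∈ (T : Subgroup Y), ∀ c ∈ (T : Subgroup Y),
      Commute (a * b * a⁻¹ * b⁻¹) c) →
    (Cfsg.thompsonSubgroupOf 2 (T : Subgroup Y)).Normal := by
  induction n using Nat.strong_induction_on with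
  | _ n ih =>
  intro Y _ _ hn hfree hcon T hcl
  set Q := Cfsg.pCore 2 Y with hQdef
  haveI hQn : Q.Normal := CfsgLib.Coprime.pCore_normal' 2
  have hQp : IsPGroup 2 Q := CfsgLib.Coprime.pCore_isPGroup 2
  have hQT : Q ≤ (T : Subgroup Y) := hQp.le_sylow_of_normal T
  rw [← Subgroup.normalizer_eq_top_iff]
  by_cases hex : ∃ z ∈ (T : Subgroup Y), (∀ t ∈ (T : Subgroup Y), Commute t z) ∧ z ∉ center Y
  · obtain ⟨x, hxT, hxc, hxZ, hx2⟩ := exists_central_sq T hex
    by_contra hL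
    refine false_of_thompson hfree hcon T _ hL le_rfl x hxT hxc hxZ hx2
      fun H T₁ hH hQH hT₁ hT₁H hi _ hle h hh => hle (mem_inf.2 ⟨hh, ?_⟩)
    obtain ⟨TH, hTH, hJH⟩ := exists_sylow_of_le T hT₁ hT₁H hi
    have hmem : ∀ a ∈ (TH : Subgroup H), (a : Y) ∈ (T : Subgroup Y) := fun a ha =>
      hT₁ (hTH ▸ ⟨a, ha, rfl⟩)
    haveI := ih (Nat.card H) (hn ▸ (CfsgLib.Fusion.card_lt_card_of_lt (lt_top_iff_ne_top.2 hH)).trans_eq Subgroup.card_top) H rfl
      (fun hi' => hfree (CfsgLib.Fusion.involves_of_injective H.subtype H.subtype_injective hi'))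
      (constrained_of_le hcon hQH) TH fun a ha b hb c hc => Subtype.ext
        (show _ * (c : Y) = _ from (hcl _ (hmem a ha) _ (hmem b hb) _ (hmem c hc)).eq)
    rw [← hJH]
    exact le_normalizer_map H.subtype
      ⟨⟨h, hh⟩, Subgroup.normalizer_eq_top (Cfsg.thompsonSubgroupOf 2 (TH : Subgroup H)) ▸ mem_top _, rfl⟩
  · push Not at hex
    -- the centre of `T` is central, so `T` stabilises a series of `Q`
    set π := QuotientGroup.mk' (center Y) with hπ
    set D := (centralizer ((Q.map π : Subgroup (Y ⧸ center Y)) : Set (Y ⧸ center Y))).comap π with hD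
    haveI : (Q.map π).Normal := Subgroup.Normal.map hQn π (QuotientGroup.mk'_surjective _)
    haveI hDn : D.Normal := Subgroup.Normal.comap inferInstance π
    have hmemD : ∀ g, g ∈ D ↔ ∀ q ∈ Q, g * q * g⁻¹ * q⁻¹ ∈ center Y := by
      intro g
      rw [hD, mem_comap, mem_centralizer_iff]
      constructor
      · intro h q hq
        rw [← QuotientGroup.eq_one_iff, ← QuotientGroup.mk'_apply, map_mul, map_mul, map_mul,
          map_inv, map_inv, ← h _ (mem_map_of_mem π hq), mul_inv_cancel_right, mul_inv_cancel]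
      · rintro h _ ⟨q, hq, rfl⟩
        have := h q hq
        rw [← QuotientGroup.eq_one_iff, ← QuotientGroup.mk'_apply, map_mul, map_mul, map_mul,
          map_inv, map_inv, mul_inv_eq_one, mul_inv_eq_iff_eq_mul] at this
        exact this.symm
    have hTD : (T : Subgroup Y) ≤ D := fun t ht => (hmemD t).2 fun q hq =>
      hex _ (mul_mem (mul_mem (mul_mem ht (hQT hq)) (inv_mem ht)) (inv_mem (hQT hq)))
        fun c hc => (hcl t ht q (hQT hq) c hc).symm
    have hDp : IsPGroup 2 D := by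
      rintro ⟨g, hg⟩
      obtain ⟨e, m, hm, hgm⟩ := Nat.exists_eq_two_pow_mul_odd (orderOf_pos g).ne'
      refine ⟨e, Subtype.ext ?_⟩
      set d := g ^ 2 ^ e with hd
      have hdD : d ∈ D := pow_mem hg _
      have hdm : orderOf d = m := by
        rw [hd, orderOf_pow_of_dvd (by positivity) ⟨m, hgm⟩, hgm,
          Nat.mul_div_cancel_left _ (by positivity)]
      have hdC : d ∈ centralizer (Q : Set Y) := mem_centralizer_iff.2 fun q hq => by
        set c := d * q * d⁻¹ * q⁻¹ with hc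
        have hcc : ∀ z, Commute z c := Subgroup.mem_center_iff.1 ((hmemD d).1 hdD q hq)
        have hcQ : c ∈ Q := mul_mem (hQn.conj_mem q hq d) (inv_mem hq)
        have hi : ∀ i : ℕ, d ^ i * q * (d ^ i)⁻¹ = c ^ i * q := by
          intro i
          induction i with
          | zero => simp
          | succ i ihi =>
            calc d ^ (i + 1) * q * (d ^ (i + 1))⁻¹ = d * (d ^ i * q * (d ^ i)⁻¹) * d⁻¹ := by
                  rw [pow_succ']; group
              _ = d * c ^ i * q * d⁻¹ := by rw [ihi]; group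
              _ = c ^ i * (d * q * d⁻¹) := by rw [((hcc d).pow_right i).eq]; group
              _ = c ^ (i + 1) * q := by rw [pow_succ, hc]; group
        have h1 := hi m
        rw [← hdm, pow_orderOf_eq_one, one_mul, inv_one, mul_one, right_eq_mul, hdm] at h1
        obtain ⟨k, hk⟩ := hQp ⟨c, hcQ⟩
        have hc1 : c = 1 := orderOf_eq_one_iff.1 (Nat.eq_one_of_dvd_coprimes
          (Nat.Coprime.pow_right k (Nat.coprime_two_right.2 hm)) (orderOf_dvd_of_pow_eq_one h1)
          (orderOf_dvd_of_pow_eq_one (congrArg Subtype.val hk)))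
        exact (mul_inv_eq_iff_eq_mul.1 (mul_inv_eq_one.1 hc1)).symm
      exact CfsgLib.Invol.eq_one_of_coprime_of_isPGroup hQp (hcon hdC)
        (show (orderOf d).Coprime 2 by rw [hdm]; exact Nat.coprime_two_right.2 hm)
    have hTQ : (T : Subgroup Y) = Q := le_antisymm (hTD.trans (CfsgLib.Coprime.le_pCore hDp)) hQT
    haveI : (T : Subgroup Y).Normal := hTQ ▸ hQn
    exact top_le_iff.1 ((Subgroup.normalizer_eq_top (T : Subgroup Y)).ge.trans
      (CfsgLib.Fusion.normalizer_le_normalizer_thompsonSubgroupOf _))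

/-- With a Sylow 2-subgroup of class at most two, `J_e` is normal. -/
theorem thompson_normal_of_classTwo (hfree : ¬ Cfsg.Involves (Equiv.Perm (Fin 4)) Y)
    (hcon : centralizer (Cfsg.pCore 2 Y : Set Y) ≤ Cfsg.pCore 2 Y) (T : Sylow 2 Y)
    (hcl : ∀ a ∈ (T : Subgroup Y), ∀ b ∈ (T : Subgroup Y), ∀ c ∈ (T : Subgroup Y),
      Commute (a * b * a⁻¹ * b⁻¹) c) :
    (Cfsg.thompsonSubgroupOf 2 (T : Subgroup Y)).Normal :=
  class_two_normal_aux _ Y rfl hfree hcon T hcl

theorem eq_top_of_center_thompson_aux (n : ℕ) : ∀ (Y : Type u) [Group Y] [Finite Y], Nat.card Y = n →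
    ¬ Cfsg.Involves (Equiv.Perm (Fin 4)) Y →
    centralizer (Cfsg.pCore 2 Y : Set Y) ≤ Cfsg.pCore 2 Y → ∀ (T : Sylow 2 Y) (L : Subgroup Y),
    centralizer (((T : Subgroup Y) ⊓ centralizer ((T : Subgroup Y) : Set Y) : Subgroup Y) : Set Y) ≤ L →
    normalizer ((Cfsg.thompsonSubgroupOf 2 (T : Subgroup Y) : Subgroup Y) : Set Y) ≤ L →
    L = ⊤ := by
  induction n using Nat.strong_induction_on with
  | _ n ih =>
  intro Y _ _ hn hfree hcon T L hZ hJ
  set Z := (T : Subgroup Y) ⊓ centralizer ((T : Subgroup Y) : Set Y) with hZdef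
  haveI hQn : (Cfsg.pCore 2 Y).Normal := CfsgLib.Coprime.pCore_normal' 2
  have hQT : Cfsg.pCore 2 Y ≤ (T : Subgroup Y) :=
    (CfsgLib.Coprime.pCore_isPGroup 2).le_sylow_of_normal T
  have hcomm : ∀ z ∈ Z, ∀ t ∈ (T : Subgroup Y), Commute t z := fun z hz t ht =>
    mem_centralizer_iff.1 hz.2 t ht
  by_cases hex : ∃ z ∈ (T : Subgroup Y), (∀ t ∈ (T : Subgroup Y), Commute t z) ∧ z ∉ center Y
  · obtain ⟨x, hxT, hxc, hxZ, hx2⟩ := exists_central_sq T hex
    by_contra hL
    refine false_of_thompson hfree hcon T L hL hJ x hxT hxc hxZ hx2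
      fun H T₁ hH hQH hT₁ hT₁H hi hQT₁ hle => ?_
    obtain ⟨TH, hTH, hJH⟩ := exists_sylow_of_le T hT₁ hT₁H hi
    rw [← subgroupOf_eq_top]
    refine ih (Nat.card H) (hn ▸ (CfsgLib.Fusion.card_lt_card_of_lt (lt_top_iff_ne_top.2 hH)).trans_eq Subgroup.card_top) H rfl
      (fun hi' => hfree (CfsgLib.Fusion.involves_of_injective H.subtype H.subtype_injective hi'))
      (constrained_of_le hcon hQH) TH (L.subgroupOf H) (fun h hh => hZ ?_) (fun h hh => hle ?_)
    · refine mem_centralizer_iff.2 fun z hz => ?_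
      have hzT₁ : z ∈ T₁ := hQT₁ (hcon (mem_centralizer_iff.2 fun w hw => (hcomm z hz w (hQT hw)).eq))
      have hzTH : (⟨z, hT₁H hzT₁⟩ : H) ∈ (TH : Subgroup H) := by
        rw [← hTH] at hzT₁
        obtain ⟨a, ha, hae⟩ := id hzT₁
        rw [show (⟨z, _⟩ : H) = a from Subtype.ext (show z = (a : Y) from hae.symm)]
        exact ha
      refine congrArg Subtype.val (mem_centralizer_iff.1 hh ⟨z, hT₁H hzT₁⟩
        (mem_inf.2 ⟨hzTH, mem_centralizer_iff.2 fun t ht => Subtype.ext ?_⟩))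
      exact hcomm z hz t (hT₁ (hTH ▸ ⟨t, ht, rfl⟩))
    · exact mem_inf.2 ⟨h.2, hJH ▸ le_normalizer_map H.subtype (mem_map_of_mem _ hh)⟩
  · push Not at hex
    refine top_le_iff.1 (le_trans ?_ hZ)
    exact fun g _ => mem_centralizer_iff.2 fun z hz =>
      (Subgroup.mem_center_iff.1 (hex z hz.1 fun t ht => hcomm z hz t ht) g).symm

/-- No proper subgroup contains the centralizer of the centre of a Sylow 2-subgroup and the
normalizer of `J_e`. -/
theorem eq_top_of_center_thompson (hfree : ¬ Cfsg.Involves (Equiv.Perm (Fin 4)) Y)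
    (hcon : centralizer (Cfsg.pCore 2 Y : Set Y) ≤ Cfsg.pCore 2 Y) (T : Sylow 2 Y) (L : Subgroup Y)
    (hZ : centralizer
      (((T : Subgroup Y) ⊓ centralizer ((T : Subgroup Y) : Set Y) : Subgroup Y) : Set Y) ≤ L)
    (hJ : normalizer ((Cfsg.thompsonSubgroupOf 2 (T : Subgroup Y) : Subgroup Y) : Set Y) ≤ L) :
    L = ⊤ :=
  eq_top_of_center_thompson_aux _ Y rfl hfree hcon T L hZ hJ

/-- With a Sylow 2-subgroup of class at most two, `G = N(J_e) O(G)`. -/
theorem thompson_factorization_of_classTwo (hfree : ¬ Cfsg.Involves (Equiv.Perm (Fin 4)) Y)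
    (hcon : CfsgLib.Invol.PCons 2 Y) (S : Sylow 2 Y)
    (hcl : Subgroup.lowerCentralSeries (S : Subgroup Y) 2 = ⊥) :
    normalizer ((Cfsg.thompsonSubgroupOf 2 (S : Subgroup Y) : Subgroup Y) : Set Y) ⊔
      Cfsg.pPrimeCore 2 Y = ⊤ := by
  set K := Cfsg.pPrimeCore 2 Y with hK
  haveI : K.Normal := Subgroup.sSup_normal _ fun _ h => h.1
  have hKc : ¬ 2 ∣ Nat.card K := CfsgLib.Coprime.pPrimeCore_not_dvd Fact.out
  set f := QuotientGroup.mk' K with hf
  have hfs : Function.Surjective f := QuotientGroup.mk'_surjective K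
  set J := Cfsg.thompsonSubgroupOf 2 (S : Subgroup Y) with hJdef
  have hinj : ∀ x ∈ (S : Subgroup Y), f x = 1 → x = 1 := fun x hx h1 =>
    CfsgLib.Invol.eq_one_of_coprime_of_isPGroup S.2 hx
      (Nat.Coprime.coprime_dvd_left (Subgroup.orderOf_dvd_natCard K ((QuotientGroup.eq_one_iff x).1 h1))
        (Nat.coprime_two_right.2 (Nat.not_even_iff_odd.1 fun h2 => hKc h2.two_dvd)))
  simp only [Subgroup.lowerCentralSeries_succ, Subgroup.lowerCentralSeries_zero,
    Subgroup.commutator_eq_bot_iff_le_centralizer] at hcl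
  haveI hJn : (Cfsg.thompsonSubgroupOf 2 ((S : Subgroup Y).map f)).Normal := by
    have := thompson_normal_of_classTwo (Y := Y ⧸ K) (fun hi => hfree
      (CfsgLib.Fusion.involves_of_surjective f hfs hi)) hcon.centralizer_le (S.mapSurjective hfs) ?_
    · rwa [Sylow.coe_mapSurjective] at this
    · rw [Sylow.coe_mapSurjective]
      rintro _ ⟨a, ha, rfl⟩ _ ⟨b, hb, rfl⟩ _ ⟨c, hc, rfl⟩
      have h2 := mem_centralizer_iff.1 (hcl (Subgroup.commutator_mem_commutator ha hb)) c hc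
      rw [commutatorElement_def] at h2
      simp only [← map_inv, ← map_mul]
      exact (show Commute (a * b * a⁻¹ * b⁻¹) c from h2.symm).map f
  rw [← map_thompsonSubgroupOf f hinj, ← hJdef] at hJn
  have hcomap : (J.map f).comap f = J ⊔ K := by
    rw [Subgroup.comap_map_eq, QuotientGroup.ker_mk']
  haveI : (J ⊔ K).Normal := hcomap ▸ Subgroup.Normal.comap hJn f
  have hJp : IsPGroup 2 J := S.2.to_le (CfsgLib.Fusion.thompsonSubgroupOf_le _)
  have hi : ¬ 2 ∣ J.relIndex (J ⊔ K) := by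
    have hdis : K.relIndex J = Nat.card J := by
      rw [← Subgroup.inf_relIndex_left, show J ⊓ K = ⊥ from eq_bot_iff.2 fun x hx => mem_bot.2
        (hinj x (CfsgLib.Fusion.thompsonSubgroupOf_le _ hx.1) ((QuotientGroup.eq_one_iff x).2 hx.2)),
        Subgroup.relIndex_bot_left]
    have h1 := card_mul_relIndex' (le_sup_left : J ≤ J ⊔ K)
    have h2 := card_mul_relIndex' (le_sup_right : K ≤ J ⊔ K)
    rw [sup_comm J K, Subgroup.relIndex_sup_left, hdis, mul_comm] at h2
    rw [sup_comm J K] at h1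
    rw [← h2] at h1
    rw [sup_comm J K]
    rw [Nat.eq_of_mul_eq_mul_left Nat.card_pos h1]
    exact hKc
  let P : Sylow 2 ↥(J ⊔ K) :=
    (hJp.of_equiv (Subgroup.subgroupOfEquivOfLe le_sup_left).symm).toSylow hi
  have hfr := Sylow.normalizer_sup_eq_top P
  rw [show (P : Subgroup ↥(J ⊔ K)).map (J ⊔ K).subtype = J from
    map_subgroupOf_eq_of_le le_sup_left] at hfr
  exact top_le_iff.1 (hfr.ge.trans (sup_le le_sup_left
    (sup_le (le_normalizer.trans le_sup_left) le_sup_right)))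

end CfsgLib.CFun
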