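import Cfsg.Agent.S3919
import Cfsg.Agent.S4157
import Cfsg.Agent.S3224
import Mathlib

/-!
# Invariant four-groups in 2-groups

* `exists_invariant_pair`: if a 2-group `P` normalizes a non-cyclic 2-group `S ≤ P` which is not of
  maximal class, then `P` leaves invariant a four-group `{1, z, x, x z}` of `S` containing a given
  central involution `z`.
* `exists_cyclic_frame`: a 2-group of maximal class with a non-central involution has a cyclic subgroup
  of index two, and non-central involutions have centralizers of order four.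
-/

set_option autoImplicit false

open Subgroup
open scoped Classical

universe u

namespace CfsgLib.CFun.FourMax

/-- subgroups of order two correspond to involutions -/
theorem card_order_two_subgroups (G : Type u) [Group G] [Finite G] :
    Nat.card {H : Subgroup G // Nat.card H = 2} = Nat.card {x : G // orderOf x = 2} := by
  refine (Nat.card_eq_of_bijective
    (fun x : {x : G // orderOf x = 2} =>
      (⟨zpowers x.1, by rw [Nat.card_zpowers]; exact x.2⟩ : {H : Subgroup G // Nat.card H = 2}))
    ⟨fun x y h => ?_, fun H => ?_⟩).symm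
  · have h1 : zpowers x.1 = zpowers y.1 := congrArg Subtype.val h
    have hmem : x.1 ∈ zpowers y.1 := h1 ▸ mem_zpowers x.1
    obtain ⟨k, hk⟩ := mem_zpowers_iff.1 hmem
    refine Subtype.ext ?_
    rw [← hk, ← zpow_mod_orderOf, y.2]
    have hkk : k % ((2 : ℕ) : ℤ) = 0 ∨ k % ((2 : ℕ) : ℤ) = 1 := by omega
    rcases hkk with hk0 | hk1
    · exfalso
      have : x.1 = 1 := by rw [← hk, ← zpow_mod_orderOf, y.2, hk0, zpow_zero]
      have h2 := x.2
      rw [this, orderOf_one] at h2
      omega
    · rw [hk1, zpow_one]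
  · obtain ⟨⟨x, hx⟩, hx1'⟩ := Subgroup.ne_bot_iff_exists_ne_one.1 (show H.1 ≠ ⊥ by
      intro e; have := H.2; rw [e, Subgroup.card_bot] at this; omega)
    have hx1 : x ≠ 1 := fun e => hx1' (Subtype.ext e)
    have hox : orderOf x = 2 := by
      have hd : orderOf x ∣ 2 := H.2 ▸ H.1.orderOf_dvd_natCard hx
      exact ((Nat.dvd_prime Nat.prime_two).1 hd).resolve_left fun e => hx1 (orderOf_eq_one_iff.1 e)
    exact ⟨⟨x, hox⟩, Subtype.ext (Subgroup.eq_of_le_of_card_ge (zpowers_le.2 hx)
      (by rw [Nat.card_zpowers, hox, H.2]))⟩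

/-- The invariant four-group lemma. -/
theorem exists_invariant_pair {G : Type u} [Group G] [Finite G] {P S : Subgroup G}
    (hP : IsPGroup 2 P) (hSP : S ≤ P) (hn : P ≤ normalizer (S : Set G))
    {z : G} (hzS : z ∈ S) (hz : orderOf z = 2) (hzP : ∀ p ∈ P, p * z = z * p)
    (hnc : ¬ IsCyclic S) {m : ℕ} (hm : Nat.card S = 2 ^ m) (hcl : Group.nilpotencyClass S ≠ m - 1) :
    ∃ x ∈ S, orderOf x = 2 ∧ x ≠ z ∧ ∀ p ∈ P, p * x * p⁻¹ = x ∨ p * x * p⁻¹ = x * z := by
  classical
  haveI : Fact (Nat.Prime 2) := ⟨Nat.prime_two⟩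
  letI := Fintype.ofFinite G
  have hm2 : 1 < m := by
    rcases Nat.lt_or_ge 1 m with h | h
    · exact h
    exfalso
    refine hnc ?_
    interval_cases m
    · haveI : Subsingleton S := (Nat.card_eq_one_iff_unique.1 (by rw [hm, pow_zero])).1
      exact isCyclic_of_subsingleton
    · exact isCyclic_of_prime_card (by rw [hm, pow_one])
  have hcount := Cfsg.Agent.S4157.result (G := S) (p := 2) m hm hnc (fun _ => hcl) 1 le_rfl hm2
  rw [pow_one, card_order_two_subgroups] at hcount
  have hmod : Nat.card {x : S // orderOf x = 2} % 4 = 3 := hcount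
  set T : Finset G := Finset.univ.filter fun x => x ∈ S ∧ orderOf x = 2 ∧ x ≠ z with hT
  have hTcard : T.card % 4 = 2 := by
    have e : Nat.card {x : S // orderOf x = 2} = T.card + 1 := by
      have hzT : z ∉ T := by simp [hT]
      rw [← Finset.card_insert_of_notMem hzT, ← Nat.card_eq_finsetCard]
      refine Nat.card_congr ⟨fun x => ⟨x.1.1, ?_⟩, fun x => ⟨⟨x.1, ?_⟩, ?_⟩, fun x => rfl, fun x => rfl⟩
      · have h1 : orderOf (x.1 : G) = 2 := by rw [Subgroup.orderOf_coe]; exact x.2
        by_cases hxz : (x.1 : G) = z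
        · simp [hxz]
        · simp [hT, x.1.2, h1, hxz]
      · rcases Finset.mem_insert.1 x.2 with heq | h
        · show (x : G) ∈ S
          rw [heq]; exact hzS
        · exact (Finset.mem_filter.1 h).2.1
      · rw [← Subgroup.orderOf_coe]
        rcases Finset.mem_insert.1 x.2 with heq | h
        · show orderOf (x : G) = 2
          rw [heq]; exact hz
        · exact (Finset.mem_filter.1 h).2.2.1
    omega
  have hz1 : z ≠ 1 := fun e => by rw [e, orderOf_one] at hz; omega
  have hzz : z * z = 1 := by
    have h := pow_orderOf_eq_one z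
    rwa [hz, pow_two] at h
  have hTz : ∀ x ∈ T, x * z ∈ T := by
    intro x hx
    simp only [hT, Finset.mem_filter, Finset.mem_univ, true_and] at hx ⊢
    obtain ⟨hxS, hxo, hxz⟩ := hx
    have hxx : x * x = 1 := by
      have h := pow_orderOf_eq_one x
      rwa [hxo, pow_two] at h
    refine ⟨S.mul_mem hxS hzS, orderOf_eq_prime ?_ ?_, fun e => ?_⟩
    · have hc : x * z = z * x := hzP x (hSP hxS)
      rw [pow_two, mul_assoc, ← mul_assoc z x z, ← hc, mul_assoc x z z, hzz, mul_one, hxx]
    · intro e
      have h1 : x = z⁻¹ := eq_inv_of_mul_eq_one_left e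
      exact hxz (h1.trans (inv_eq_of_mul_eq_one_right hzz))
    · have h1 : x = 1 := by simpa using e
      rw [h1, orderOf_one] at hxo
      omega
  let f : G → Finset G := fun x => {x, x * z}
  have hfib : ∀ x ∈ T, ∀ y ∈ T, f y = f x ↔ y ∈ f x := by
    intro x _ y _
    constructor
    · intro h; rw [← h]; simp [f]
    · intro h
      simp [f] at h
      rcases h with rfl | rfl
      · rfl
      · simp only [f, mul_assoc, hzz, mul_one]
        exact Finset.pair_comm _ _
  set Y : Finset (Finset G) := T.image f with hY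
  have hYcard : T.card = 2 * Y.card := by
    rw [Finset.card_eq_sum_card_image f T, ← hY, Finset.sum_const_nat (m := 2) ?_, mul_comm]
    intro y hy
    obtain ⟨x, hx, rfl⟩ := Finset.mem_image.1 hy
    have : T.filter (fun a => f a = f x) = f x := by
      ext a
      constructor
      · intro ha
        obtain ⟨haT, hax⟩ := Finset.mem_filter.1 ha
        exact (hfib x hx a haT).1 hax
      · intro ha
        have haT : a ∈ T := by
          simp [f] at ha
          rcases ha with rfl | rfl
          · exact hx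
          · exact hTz x hx
        exact Finset.mem_filter.2 ⟨haT, (hfib x hx a haT).2 ha⟩
    rw [this]
    have hne : x ≠ x * z := fun e => hz1 (mul_eq_left.1 e.symm)
    exact Finset.card_pair hne
  have hTP : ∀ p ∈ P, ∀ x ∈ T, p * x * p⁻¹ ∈ T := by
    intro p hp x hx
    simp only [hT, Finset.mem_filter, Finset.mem_univ, true_and] at hx ⊢
    refine ⟨(mem_normalizer_iff.1 (hn hp) x).1 hx.1, ?_, fun e => hx.2.2 ?_⟩
    · have := orderOf_injective (MulAut.conj p).toMonoidHom (MulAut.conj p).injective x
      exact this.trans hx.2.1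
    · have h1 : p * x = z * p := by
        rw [← e]; group
      rw [← hzP p hp] at h1
      exact mul_left_cancel h1
  let c : P → G → G := fun p x => (p : G) * x * (p : G)⁻¹
  have hcf : ∀ p : P, ∀ x : G, (f x).image (c p) = f (c p x) := by
    intro p x
    simp only [f, Finset.image_insert, Finset.image_singleton]
    congr 2
    show (p : G) * (x * z) * (p : G)⁻¹ = (p : G) * x * (p : G)⁻¹ * z
    have h := hzP _ (P.inv_mem p.2)
    rw [mul_assoc, mul_assoc, mul_assoc, mul_assoc, ← h]
  have hYP : ∀ p : P, ∀ y ∈ Y, y.image (c p) ∈ Y := by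
    intro p y hy
    obtain ⟨x, hx, rfl⟩ := Finset.mem_image.1 hy
    rw [hcf]
    exact Finset.mem_image_of_mem f (hTP _ p.2 x hx)
  letI : MulAction P Y :=
    { smul := fun p y => ⟨y.1.image (c p), hYP p y.1 y.2⟩
      one_smul := fun y => Subtype.ext (by
        show y.1.image (c 1) = y.1
        have : c 1 = id := funext fun x => by simp [c]
        rw [this, Finset.image_id])
      mul_smul := fun p q y => Subtype.ext (by
        show y.1.image (c (p * q)) = (y.1.image (c q)).image (c p)
        rw [Finset.image_image]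
        congr 1
        funext x
        simp [c, mul_assoc]) }
  obtain ⟨y, hy⟩ := hP.nonempty_fixed_point_of_prime_not_dvd_card Y (by
    rw [Nat.card_eq_finsetCard]
    omega)
  obtain ⟨x, hx, hxy⟩ := Finset.mem_image.1 y.2
  have hx' := hx
  simp only [hT, Finset.mem_filter, Finset.mem_univ, true_and] at hx'
  refine ⟨x, hx'.1, hx'.2.1, hx'.2.2, fun p hp => ?_⟩
  have h := congrArg Subtype.val (hy ⟨p, hp⟩)
  change y.1.image (c ⟨p, hp⟩) = y.1 at h
  rw [← hxy, hcf] at h
  have hmem : p * x * p⁻¹ ∈ f x := by rw [← h]; simp [f, c]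
  simpa [f] using hmem

/-- Maximal class with a non-central involution: structure. -/
theorem exists_cyclic_frame {S : Type u} [Group S] [Finite S] {m : ℕ} (hm : Nat.card S = 2 ^ m)
    (hna : ¬ IsMulCommutative S) (hcl : Group.nilpotencyClass S = m - 1)
    {z x : S} (hz : orderOf z = 2) (hzc : z ∈ center S) (hx : orderOf x = 2) (hxz : x ≠ z) :
    (∀ y : S, orderOf y = 2 → y ≠ z → ∀ s : S, s * y = y * s → s ∈ zpowers z ⊔ zpowers y) ∧
      (∀ y : S, orderOf y = 2 → y ≠ z → Nat.card ↥(zpowers z ⊔ zpowers y) = 4) ∧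
      ∃ r : S, (zpowers r).index = 2 := by
  haveI : Fact (Nat.Prime 2) := ⟨Nat.prime_two⟩
  have hS : IsPGroup 2 S := IsPGroup.of_card hm
  have hm3 : 3 ≤ m := by
    by_contra h
    refine hna ?_
    interval_cases m
    · haveI : Subsingleton S := (Nat.card_eq_one_iff_unique.1 (by rw [hm, pow_zero])).1
      exact ⟨⟨fun a b => Subsingleton.elim _ _⟩⟩
    · haveI : IsCyclic S := isCyclic_of_prime_card (by rw [hm, pow_one])
      letI := IsCyclic.commGroup (α := S)
      exact ⟨⟨fun a b => mul_comm a b⟩⟩
    · exact ⟨⟨fun a b => IsPGroup.commutative_of_card_eq_prime_sq hm a b⟩⟩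
  haveI := hS.isNilpotent
  have hself := (Cfsg.Agent.S3919.result hna m hm).2 (fun h => by
    have := Subgroup.lowerCentralSeries_eq_bot_iff_nilpotencyClass_le.1 h
    omega)
  have hsq : ∀ y : S, orderOf y = 2 → y * y = 1 := fun y hy => by
    have h := pow_orderOf_eq_one y
    rwa [hy, pow_two] at h
  have hcard : ∀ y : S, orderOf y = 2 → y ≠ z → Nat.card ↥(zpowers z ⊔ zpowers y) = 4 := by
    intro y hy hyz
    let H : Subgroup S :=
      { carrier := {1, z, y, z * y}
        one_mem' := by simp
        mul_mem' := by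
          have hcm : y * z = z * y := mem_center_iff.1 hzc y
          have e0 := hsq z hz
          have e0' := hsq y hy
          have e1 : z * (z * y) = y := by rw [← mul_assoc, e0, one_mul]
          have e2 : y * (z * y) = z := by rw [← mul_assoc, hcm, mul_assoc, e0', mul_one]
          have e3 : z * y * z = y := by rw [mul_assoc, hcm, e1]
          have e4 : z * y * y = z := by rw [mul_assoc, e0', mul_one]
          have e5 : z * y * (z * y) = 1 := by rw [mul_assoc, e2, e0]
          intro a b ha hb
          simp only [Set.mem_insert_iff, Set.mem_singleton_iff] at ha hb ⊢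
          rcases ha with ha | ha | ha | ha <;> rcases hb with hb | hb | hb | hb <;>
            simp [ha, hb, e0, e0', hcm, e1, e2, e3, e4, e5]
        inv_mem' := by
          rintro a (rfl | rfl | rfl | rfl)
          · simp
          · simp [inv_eq_of_mul_eq_one_right (hsq _ hz)]
          · simp [inv_eq_of_mul_eq_one_right (hsq _ hy)]
          · have hcm : y * z = z * y := mem_center_iff.1 hzc y
            simp [inv_eq_of_mul_eq_one_right (hsq _ hz), inv_eq_of_mul_eq_one_right (hsq _ hy), hcm] }
    have hH : zpowers z ⊔ zpowers y = H := by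
      refine le_antisymm (sup_le (zpowers_le.2 (by simp [H])) (zpowers_le.2 (by simp [H]))) ?_
      rintro a (rfl | rfl | rfl | rfl)
      · exact one_mem _
      · exact mem_sup_left (mem_zpowers _)
      · exact mem_sup_right (mem_zpowers _)
      · exact mul_mem (mem_sup_left (mem_zpowers _)) (mem_sup_right (mem_zpowers _))
    rw [hH]
    have hz1 : z ≠ 1 := fun e => by rw [e, orderOf_one] at hz; omega
    have hy1 : y ≠ 1 := fun e => by rw [e, orderOf_one] at hy; omega
    have hzy1 : z * y ≠ 1 := fun e => hyz (by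
      rw [← inv_eq_of_mul_eq_one_right (hsq z hz)]; exact eq_inv_of_mul_eq_one_right e)
    show Nat.card ({1, z, y, z * y} : Set S) = 4
    rw [Nat.card_coe_set_eq, Set.ncard_insert_of_notMem, Set.ncard_insert_of_notMem, Set.ncard_pair]
    · intro e; exact hz1 (mul_eq_right.1 e.symm)
    · simp only [Set.mem_insert_iff, Set.mem_singleton_iff, not_or]
      exact ⟨fun e => hyz e.symm, fun e => hy1 (mul_eq_left.1 e.symm)⟩
    · simp only [Set.mem_insert_iff, Set.mem_singleton_iff, not_or]
      exact ⟨hz1.symm, hy1.symm, hzy1.symm⟩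
  have hcent : ∀ y : S, orderOf y = 2 → y ≠ z → ∀ s : S, s * y = y * s → s ∈ zpowers z ⊔ zpowers y := by
    intro y hy hyz s hs
    refine hself _ (fun hc => ?_) ?_
    · haveI := hc
      have h1 : z ∈ zpowers z ⊔ zpowers y := mem_sup_left (mem_zpowers z)
      have h2 : y ∈ zpowers z ⊔ zpowers y := mem_sup_right (mem_zpowers y)
      letI := Fintype.ofFinite ↥(zpowers z ⊔ zpowers y)
      have hu := IsCyclic.card_orderOf_eq_totient (α := ↥(zpowers z ⊔ zpowers y)) (d := 2)
        (by rw [← Nat.card_eq_fintype_card, hcard y hy hyz]; norm_num)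
      rw [Nat.totient_two, Finset.card_eq_one] at hu
      obtain ⟨w, hw⟩ := hu
      have a1 : (⟨z, h1⟩ : ↥(zpowers z ⊔ zpowers y)) = w :=
        Finset.mem_singleton.1 (hw ▸ Finset.mem_filter.2 ⟨Finset.mem_univ _, by rw [Subgroup.orderOf_mk]; exact hz⟩)
      have a2 : (⟨y, h2⟩ : ↥(zpowers z ⊔ zpowers y)) = w :=
        Finset.mem_singleton.1 (hw ▸ Finset.mem_filter.2 ⟨Finset.mem_univ _, by rw [Subgroup.orderOf_mk]; exact hy⟩)
      exact hyz (congrArg Subtype.val (a2.trans a1.symm))
    · have hle : zpowers z ⊔ zpowers y ≤ centralizer ({s} : Set S) :=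
        sup_le (zpowers_le.2 (mem_centralizer_singleton_iff.2 (mem_center_iff.1 hzc s).symm))
          (zpowers_le.2 (mem_centralizer_singleton_iff.2 hs.symm))
      exact mem_centralizer_iff.2 fun h hh => mem_centralizer_singleton_iff.1 (hle hh)
  refine ⟨hcent, hcard, ?_⟩
  have hC : Nat.card ↥(centralizer ({x} : Set S)) = 4 := by
    have e : centralizer ({x} : Set S) = zpowers z ⊔ zpowers x := le_antisymm
      (fun s hs => hcent x hx hxz s (mem_centralizer_singleton_iff.1 hs))
      (sup_le (zpowers_le.2 (mem_centralizer_singleton_iff.2 (mem_center_iff.1 hzc x).symm))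
        (zpowers_le.2 (mem_centralizer_singleton_iff.2 rfl)))
    rw [e]; exact hcard x hx hxz
  rcases Cfsg.Agent.S3224.result hS x hx hC with ⟨n, ⟨e⟩⟩ | ⟨n, -, hn, a, -, ha, -⟩ | h4
  · have hn0 : n ≠ 0 := by
      intro h0; subst h0
      exact absurd (Nat.card_congr e.toEquiv) (by rw [DihedralGroup.nat_card, mul_zero]; exact Nat.card_pos.ne')
    refine ⟨e.symm (DihedralGroup.r 1), ?_⟩
    have h := Subgroup.card_mul_index (zpowers (e.symm (DihedralGroup.r 1)))
    rw [Nat.card_zpowers, MulEquiv.orderOf_eq, DihedralGroup.orderOf_r_one, Nat.card_congr e.toEquiv,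
      DihedralGroup.nat_card] at h
    exact Nat.eq_of_mul_eq_mul_left (Nat.pos_of_ne_zero hn0) (by rw [h]; ring)
  · refine ⟨a, ?_⟩
    have h := Subgroup.card_mul_index (zpowers a)
    rw [Nat.card_zpowers, ha, hn, pow_succ] at h
    exact Nat.eq_of_mul_eq_mul_left (pow_pos two_pos n) h
  · exfalso
    rw [hm] at h4
    have h2 : (2 : ℕ) ^ 3 ≤ 2 ^ m := Nat.pow_le_pow_right two_pos hm3
    omega

end CfsgLib.CFun.FourMax
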