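import Cfsg.Prelude.Def_CaseTheorems
import Cfsg.Agent.Lib.PGroup.CocyclicCentralizers
import Cfsg.Agent.Lib.Coprime.Core
import Cfsg.Agent.Lib.Coprime.Solvable
import Mathlib.GroupTheory.SpecificGroups.KleinFour

/-!
# A normal four-group of a Sylow 2-subgroup centralises invariant subgroups of odd order
-/

set_option autoImplicit false
set_option linter.style.haveILetI false
set_option linter.unusedSectionVars false

open Subgroup
open scoped commutatorElement
open CfsgLib.Coprime (conj_mem_of_le_normalizer)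

namespace CfsgLib.FourGroupSignalizer

universe u

variable {G : Type u} [Group G] [Finite G]

theorem normalizer_zpowers_involution {t : G} (ht : t ^ 2 = 1) (ht1 : t ≠ 1) :
    normalizer ((zpowers t : Subgroup G) : Set G) = centralizer ({t} : Set G) := by
  refine le_antisymm (fun g hg => mem_centralizer_singleton_iff.2 ?_) fun g hg =>
    CfsgLib.Coprime.centralizer_le_normalizer_self _ (mem_centralizer_iff.2 fun x hx => by
      obtain ⟨i, rfl⟩ := mem_zpowers_iff.1 hx
      exact ((show Commute g t from mem_centralizer_singleton_iff.1 hg).zpow_right i).eq.symm)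
  have h := (Subgroup.mem_normalizer_iff.1 hg t).1 (mem_zpowers t)
  obtain ⟨i, hi⟩ := mem_zpowers_iff.1 h
  rw [← Int.emod_add_mul_ediv i 2, zpow_add, zpow_mul,
    show t ^ (2 : ℤ) = 1 from (zpow_natCast t 2).trans ht, one_zpow, mul_one] at hi
  rcases Int.emod_two_eq_zero_or_one i with h' | h' <;> rw [h'] at hi
  · rw [zpow_zero] at hi
    exact absurd (conj_eq_one_iff.1 hi.symm) ht1
  · rw [zpow_one] at hi
    exact mul_inv_eq_iff_eq_mul.1 hi.symm

theorem isPGroup_zpowers_involution {t : G} (ht : t ^ 2 = 1) (ht1 : t ≠ 1) :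
    IsPGroup 2 (zpowers t) := by
  haveI : Fact (Nat.Prime 2) := ⟨Nat.prime_two⟩
  exact IsPGroup.of_card (n := 1) (by rw [Nat.card_zpowers, orderOf_eq_prime ht ht1, pow_one])

/-- `O₂` of the centraliser of an involution, in a group of characteristic 2 type. -/
theorem exists_core (hL : Cfsg.IsCharacteristicTwoType G) {t : G} (ht : t ^ 2 = 1) (ht1 : t ≠ 1) :
    ∃ Q : Subgroup G, IsPGroup 2 Q ∧ Q ≤ centralizer ({t} : Set G) ∧
      centralizer ({t} : Set G) ≤ normalizer (Q : Set G) ∧
      centralizer ({t} : Set G) ⊓ centralizer (Q : Set G) ≤ Q ∧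
      ∀ Y : Subgroup G, IsPGroup 2 Y → Y ≤ centralizer ({t} : Set G) →
        centralizer ({t} : Set G) ≤ normalizer (Y : Set G) → Y ≤ Q := by
  have hp := isPGroup_zpowers_involution ht ht1
  have h := hL.2 (zpowers t) hp (zpowers_ne_bot.2 ht1)
  rw [← normalizer_zpowers_involution ht ht1]
  set M := normalizer ((zpowers t : Subgroup G) : Set G)
  haveI := CfsgLib.Coprime.pCore_normal' (G := M) 2
  refine ⟨(Cfsg.pCore 2 M).map M.subtype, (CfsgLib.Coprime.pCore_isPGroup 2).map _,
    map_subtype_le _, ?_, ?_, fun Y hY hYM hMY => ?_⟩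
  · have h1 := le_normalizer_map M.subtype (H := Cfsg.pCore 2 M)
    rwa [normalizer_eq_top_iff.2 inferInstance, ← MonoidHom.range_eq_map, range_subtype] at h1
  · rintro g ⟨hgM, hgc⟩
    exact ⟨⟨g, hgM⟩, h (mem_centralizer_iff.2 fun x hx =>
      Subtype.ext (mem_centralizer_iff.1 hgc _ ⟨x, hx, rfl⟩)), rfl⟩
  · haveI : (Y.subgroupOf M).Normal :=
      (normal_subgroupOf_iff_le_normalizer hYM).2 hMY
    intro y hy
    exact ⟨⟨y, hYM hy⟩, CfsgLib.Coprime.le_pCore (N := Y.subgroupOf M)
      (hY.comap_of_injective M.subtype M.subtype_injective) hy, rfl⟩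

theorem eq_one_of_mem_two_odd {Q K : Subgroup G} (hQ : IsPGroup 2 Q) (hK : Odd (Nat.card K))
    {x : G} (hxQ : x ∈ Q) (hxK : x ∈ K) : x = 1 := by
  haveI : Fact (Nat.Prime 2) := ⟨Nat.prime_two⟩
  obtain ⟨k, hk⟩ := IsPGroup.iff_card.1 hQ
  have hd : Q ⊓ K = ⊥ := CfsgLib.Coprime.disjoint_of_coprime_card
    (hk ▸ (Nat.prime_two.coprime_iff_not_dvd.2 hK.not_two_dvd_nat).pow_left k)
  exact mem_bot.1 (hd ▸ (⟨hxQ, hxK⟩ : x ∈ Q ⊓ K))

/-- For a central involution `z` in a four-group `U` normal in a Sylow group `P`, `C_K(z)` centralises `U`. -/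
theorem centralizes_central (hL : Cfsg.IsCharacteristicTwoType G) {P : Sylow 2 G} {U K : Subgroup G}
    (hUP : U ≤ P) (hPU : (P : Subgroup G) ≤ normalizer (U : Set G)) [IsKleinFour U]
    (hK : Odd (Nat.card K)) (hUK : U ≤ normalizer (K : Set G)) {z : G} (hzU : z ∈ U) (hz1 : z ≠ 1)
    (hzP : z ∈ centralizer ((P : Subgroup G) : Set G)) :
    K ⊓ centralizer ({z} : Set G) ≤ centralizer (U : Set G) := by
  haveI : Fact (Nat.Prime 2) := ⟨Nat.prime_two⟩
  have hsq : ∀ x ∈ U, x ^ 2 = 1 := fun x hx => by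
    have := IsKleinFour.mul_self (⟨x, hx⟩ : U)
    rw [pow_two]; exact congrArg Subtype.val this
  have hab : ∀ x ∈ U, ∀ y ∈ U, x * y = y * x := fun x hx y hy => by
    have hi : ∀ w ∈ U, w⁻¹ = w := fun w hw =>
      inv_eq_of_mul_eq_one_right (by rw [← pow_two]; exact hsq w hw)
    calc x * y = (x * y)⁻¹ := (hi _ (mul_mem hx hy)).symm
      _ = y * x := by rw [mul_inv_rev, hi x hx, hi y hy]
  obtain ⟨Q, hQ, hQC, hCQ, hcen, hmax⟩ := exists_core hL (hsq z hzU) hz1
  have hPz : (P : Subgroup G) ≤ centralizer ({z} : Set G) := fun p hp =>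
    mem_centralizer_singleton_iff.2 (mem_centralizer_iff.1 hzP p hp)
  have hUz : U ≤ centralizer ({z} : Set G) := hUP.trans hPz
  have hQP : Q ≤ P := by
    have hn : (P : Subgroup G) ≤ normalizer (Q : Set G) := hPz.trans hCQ
    have := P.3 (hQ.to_sup_of_normal_left' P.2 hn) le_sup_right
    exact le_sup_left.trans this.le
  have hzQ : z ∈ Q := by
    have h := hmax (zpowers z) (isPGroup_zpowers_involution (hsq z hzU) hz1)
      (zpowers_le.2 (hUz hzU))
      (by rw [← normalizer_zpowers_involution (hsq z hzU) hz1])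
    exact h (mem_zpowers z)
  have hzc : ∀ g ∈ centralizer ({z} : Set G), g * z = z * g := fun g hg =>
    mem_centralizer_singleton_iff.1 hg
  -- `U ≤ Q`
  have hUQ : U ≤ Q := by
    intro u hu
    by_contra huQ
    have hUQz : ∀ x ∈ U, x ∈ Q → x = 1 ∨ x = z := by
      intro x hx hxQ
      by_contra h
      push_neg at h
      have hall : ({1, z, x, z * x} : Set G) = (U : Set G) := by
        refine Set.eq_of_subset_of_ncard_le ?_ ?_
        · rintro y (rfl | rfl | rfl | rfl)
          exacts [one_mem U, hzU, hx, mul_mem hzU hx]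
        · rw [← Nat.card_coe_set_eq, show Nat.card (U : Set G) = 4 from IsKleinFour.card_four,
            Set.ncard_insert_of_notMem, Set.ncard_insert_of_notMem, Set.ncard_pair]
          · intro e; exact hz1 (mul_eq_right.1 e.symm)
          · rintro (e | e)
            · exact h.2 e.symm
            · exact h.1 (mul_eq_left.1 e.symm)
          · rintro (e | e | e)
            · exact hz1 e.symm
            · exact h.1 e.symm
            · refine h.2 ?_
              rw [← inv_eq_of_mul_eq_one_right e.symm]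
              exact inv_eq_of_mul_eq_one_right (by rw [← pow_two]; exact hsq z hzU)
      have : u ∈ ({1, z, x, z * x} : Set G) := hall ▸ hu
      rcases this with rfl | rfl | rfl | rfl
      exacts [huQ (one_mem Q), huQ hzQ, huQ hxQ, huQ (mul_mem hzQ hxQ)]
    let Y : Subgroup G :=
      { carrier := {y | y ∈ centralizer ({z} : Set G) ∧
          ∀ q ∈ Q, y * q * y⁻¹ * q⁻¹ = 1 ∨ y * q * y⁻¹ * q⁻¹ = z}
        one_mem' := ⟨one_mem _, fun q _ => Or.inl (by group)⟩
        mul_mem' := fun {a b} ha hb => ⟨mul_mem ha.1 hb.1, fun q hq => by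
          have e : a * b * q * (a * b)⁻¹ * q⁻¹ =
              a * (b * q * b⁻¹ * q⁻¹) * a⁻¹ * (a * q * a⁻¹ * q⁻¹) := by group
          have hz2 : z * z = 1 := by rw [← pow_two]; exact hsq z hzU
          have haz : a * z * a⁻¹ = z := mul_inv_eq_iff_eq_mul.2 (hzc a ha.1)
          rw [e]
          rcases hb.2 q hq with h | h <;> rcases ha.2 q hq with h' | h' <;> rw [h, h']
          · left; group
          · right; group
          · right; rw [haz, mul_one]
          · left; rw [haz, hz2]⟩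
        inv_mem' := fun {a} ha => ⟨inv_mem ha.1, fun q hq => by
          have hqa : a⁻¹ * q * a ∈ Q := by
            simpa using conj_mem_of_le_normalizer hCQ (inv_mem ha.1) hq
          have e : a * (a⁻¹ * q * a) * a⁻¹ * (a⁻¹ * q * a)⁻¹ = (a⁻¹ * q * a⁻¹⁻¹ * q⁻¹)⁻¹ := by group
          rcases ha.2 _ hqa with h | h
          · left; rw [e, inv_eq_one] at h; exact h
          · right
            rw [e, inv_eq_iff_eq_inv] at h
            rw [h]
            exact inv_eq_of_mul_eq_one_right (by rw [← pow_two]; exact hsq z hzU)⟩ }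
    have hY2 : IsPGroup 2 Y := by
      intro y
      have hyy : (y : G) ^ 2 ∈ centralizer ({z} : Set G) ⊓ centralizer (Q : Set G) := by
        refine ⟨pow_mem y.2.1 2, mem_centralizer_iff.2 fun q hq => ?_⟩
        have hyz : (y : G) * z * (y : G)⁻¹ = z := mul_inv_eq_iff_eq_mul.2 (hzc _ y.2.1)
        refine (mul_inv_eq_iff_eq_mul.1 (?_ : (y : G) ^ 2 * q * ((y : G) ^ 2)⁻¹ = q)).symm
        rcases y.2.2 q hq with h | h
        · have h' : (y : G) * q * (y : G)⁻¹ = q := mul_inv_eq_one.1 h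
          calc (y : G) ^ 2 * q * ((y : G) ^ 2)⁻¹ = y * (y * q * (y : G)⁻¹) * (y : G)⁻¹ := by
                rw [pow_two]; group
            _ = q := by rw [h', h']
        · have h' : (y : G) * q * (y : G)⁻¹ = z * q := mul_inv_eq_iff_eq_mul.1 h
          calc (y : G) ^ 2 * q * ((y : G) ^ 2)⁻¹ = y * (y * q * (y : G)⁻¹) * (y : G)⁻¹ := by
                rw [pow_two]; group
            _ = (y : G) * (z * q) * (y : G)⁻¹ := by rw [h']
            _ = ((y : G) * z * (y : G)⁻¹) * (y * q * (y : G)⁻¹) := by group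
            _ = q := by rw [hyz, h', ← mul_assoc, ← pow_two, hsq z hzU, one_mul]
      obtain ⟨k, hk⟩ := hQ ⟨_, hcen hyy⟩
      exact ⟨k + 1, Subtype.ext (by
        have := congrArg Subtype.val hk
        simpa [pow_succ', pow_mul] using this)⟩
    have hYn : centralizer ({z} : Set G) ≤ normalizer (Y : Set G) := by
      have key : ∀ g ∈ centralizer ({z} : Set G), ∀ y ∈ Y, g * y * g⁻¹ ∈ Y := by
        intro g hg y hy
        refine ⟨mul_mem (mul_mem hg hy.1) (inv_mem hg), fun q hq => ?_⟩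
        have hqg : g⁻¹ * q * g ∈ Q := by
          simpa using conj_mem_of_le_normalizer hCQ (inv_mem hg) hq
        have e : g * y * g⁻¹ * q * (g * y * g⁻¹)⁻¹ * q⁻¹ =
            g * (y * (g⁻¹ * q * g) * y⁻¹ * (g⁻¹ * q * g)⁻¹) * g⁻¹ := by group
        rw [e]
        rcases hy.2 _ hqg with h | h <;> rw [h]
        · left; group
        · right; exact mul_inv_eq_iff_eq_mul.2 (hzc g hg)
      intro g hg
      refine Subgroup.mem_normalizer_iff.2 fun y => ⟨key g hg y, fun h => ?_⟩
      have := key g⁻¹ (inv_mem hg) _ h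
      rwa [show g⁻¹ * (g * y * g⁻¹) * g⁻¹⁻¹ = y by group] at this
    refine huQ (hmax Y hY2 (fun y hy => hy.1) hYn (⟨hUz hu, fun q hq => ?_⟩ : u ∈ Y))
    refine hUQz _ ?_ (mul_mem (conj_mem_of_le_normalizer hCQ (hUz hu) hq) (inv_mem hq))
    rw [show u * q * u⁻¹ * q⁻¹ = u * (q * u⁻¹ * q⁻¹) by group]
    exact mul_mem hu (conj_mem_of_le_normalizer hPU (hQP hq) (inv_mem hu))
  rintro k ⟨hkK, hkz⟩
  refine mem_centralizer_iff.2 fun u hu => ?_
  have h1 : k * u * k⁻¹ * u⁻¹ = 1 := by
    refine eq_one_of_mem_two_odd hQ hK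
      (mul_mem (conj_mem_of_le_normalizer hCQ hkz (hUQ hu)) (inv_mem (hUQ hu))) ?_
    rw [show k * u * k⁻¹ * u⁻¹ = k * (u * k⁻¹ * u⁻¹) by group]
    exact mul_mem hkK (conj_mem_of_le_normalizer hUK hu (inv_mem hkK))
  exact (mul_inv_eq_iff_eq_mul.1 (mul_inv_eq_one.1 h1)).symm

theorem exists_central {P : Sylow 2 G} {U : Subgroup G} (hUP : U ≤ P)
    (hPU : (P : Subgroup G) ≤ normalizer (U : Set G)) (hU : U ≠ ⊥) :
    ∃ z ∈ U, z ≠ 1 ∧ z ∈ centralizer ((P : Subgroup G) : Set G) := by
  haveI : Fact (Nat.Prime 2) := ⟨Nat.prime_two⟩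
  haveI : Group.IsNilpotent (P : Subgroup G) := P.2.isNilpotent
  haveI : (U.subgroupOf (P : Subgroup G)).Normal := (normal_subgroupOf_iff_le_normalizer hUP).2 hPU
  have h := CfsgLib.Coprime.nilpotent_inf_center_ne_bot (U.subgroupOf (P : Subgroup G))
    (fun e => hU ((subgroupOf_eq_bot.1 e).eq_bot_of_le hUP))
  obtain ⟨z, hz1⟩ := (Subgroup.ne_bot_iff_exists_ne_one.1 h)
  exact ⟨((z : (P : Subgroup G)) : G), z.2.1, fun e => hz1 (Subtype.ext (Subtype.ext e)),
    mem_centralizer_iff.2 fun p hp => congrArg Subtype.val (mem_center_iff.1 z.2.2 ⟨p, hp⟩)⟩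

theorem eq_of_cyclic {Z : Subgroup G} [IsCyclic Z] {x z : G} (hx : x ∈ Z) (hz : z ∈ Z)
    (hx2 : x ^ 2 = 1) (hz2 : z ^ 2 = 1) (hx1 : x ≠ 1) (hz1 : z ≠ 1) : x = z := by
  classical
  haveI : Fintype Z := Fintype.ofFinite _
  by_contra hne
  have h := IsCyclic.card_pow_eq_one_le (α := Z) (n := 2) two_pos
  have h3 : ({1, ⟨x, hx⟩, ⟨z, hz⟩} : Finset Z) ⊆ Finset.univ.filter (fun a : Z => a ^ 2 = 1) := by
    intro a ha
    simp only [Finset.mem_insert, Finset.mem_singleton] at ha
    simp only [Finset.mem_filter, Finset.mem_univ, true_and]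
    rcases ha with rfl | rfl | rfl
    · exact one_pow 2
    · exact Subtype.ext hx2
    · exact Subtype.ext hz2
  have h4 : ({1, ⟨x, hx⟩, ⟨z, hz⟩} : Finset Z).card = 3 := by
    rw [Finset.card_insert_of_notMem, Finset.card_pair]
    · intro e; exact hne (congrArg Subtype.val e)
    · simp only [Finset.mem_insert, Finset.mem_singleton, not_or]
      exact ⟨fun e => hx1 (congrArg Subtype.val e).symm, fun e => hz1 (congrArg Subtype.val e).symm⟩
  have := (Finset.card_le_card h3).trans h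
  omega

theorem centralizes (hL : Cfsg.IsCharacteristicTwoType G) {P : Sylow 2 G} {U K : Subgroup G}
    (hUP : U ≤ P) (hPU : (P : Subgroup G) ≤ normalizer (U : Set G)) [IsKleinFour U]
    (hUZ : ¬ IsCyclic ↥((P : Subgroup G) ⊓ centralizer ((P : Subgroup G) : Set G)) →
      U ≤ centralizer ((P : Subgroup G) : Set G))
    (hK : Odd (Nat.card K)) (hUK : U ≤ normalizer (K : Set G)) :
    U ≤ centralizer (K : Set G) := by
  haveI : Fact (Nat.Prime 2) := ⟨Nat.prime_two⟩
  have hsq : ∀ x ∈ U, x ^ 2 = 1 := fun x hx => by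
    rw [pow_two]; exact congrArg Subtype.val (IsKleinFour.mul_self (⟨x, hx⟩ : U))
  have hi : ∀ w ∈ U, w⁻¹ = w := fun w hw =>
    inv_eq_of_mul_eq_one_right (by rw [← pow_two]; exact hsq w hw)
  have hab : ∀ x ∈ U, ∀ y ∈ U, x * y = y * x := fun x hx y hy => by
    calc x * y = (x * y)⁻¹ := (hi _ (mul_mem hx hy)).symm
      _ = y * x := by rw [mul_inv_rev, hi x hx, hi y hy]
  have h4 : Nat.card U = 4 := IsKleinFour.card_four
  have hU2 : IsPGroup 2 U := fun x => ⟨1, Subtype.ext (by simpa using hsq _ x.2)⟩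
  suffices key : ∀ u ∈ U, u ≠ 1 → K ⊓ centralizer ({u} : Set G) ≤ centralizer (U : Set G) by
    have hcop : (Nat.card U).Coprime (Nat.card K) := by
      rw [h4, show (4 : ℕ) = 2 ^ 2 from rfl]
      exact (Nat.prime_two.coprime_iff_not_dvd.2 hK.not_two_dvd_nat).pow_left 2
    have hgen := (CfsgLib.PGroup.coprime_cocyclic_generation
      (isMulCommutative_iff.2 fun a b => Subtype.ext (hab _ a.2 _ b.2)) hUK hcop).1
    rw [le_centralizer_iff, ← hgen]
    refine iSup₂_le fun V hV => ?_
    obtain ⟨v, hv, hv1⟩ : ∃ v ∈ V, v ≠ 1 := by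
      by_contra hno
      push_neg at hno
      obtain ⟨a, ha, hVa⟩ := hV.2
      have : Nat.card U ≤ 2 := by
        rw [← hVa, (Subgroup.eq_bot_iff_forall V).2 hno, bot_sup_eq, Nat.card_zpowers]
        exact Nat.le_of_dvd two_pos (orderOf_dvd_of_pow_eq_one (hsq a ha))
      omega
    exact le_trans (inf_le_inf_left K (centralizer_le (Set.singleton_subset_iff.2 hv)))
      (key v (hV.1 hv) hv1)
  intro u hu hu1
  by_cases hUc : U ≤ centralizer ((P : Subgroup G) : Set G)
  · exact centralizes_central hL hUP hPU hK hUK hu hu1 (hUc hu)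
  haveI hcyc : IsCyclic ↥((P : Subgroup G) ⊓ centralizer ((P : Subgroup G) : Set G)) :=
    not_not.1 fun h => hUc (hUZ h)
  obtain ⟨z, hzU, hz1, hzP⟩ := exists_central hUP hPU (fun h => by rw [h, card_bot] at h4; omega)
  by_cases huz : u = z
  · subst huz; exact centralizes_central hL hUP hPU hK hUK hu hu1 hzP
  have hzz : z * z = 1 := by rw [← pow_two]; exact hsq z hzU
  have hall : ∀ x ∈ U, x = 1 ∨ x = z ∨ x = u ∨ x = z * u := by
    have hsub : ({1, z, u, z * u} : Set G) ⊆ (U : Set G) := by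
      rintro y (rfl | rfl | rfl | rfl)
      exacts [one_mem U, hzU, hu, mul_mem hzU hu]
    have hn : ({1, z, u, z * u} : Set G).ncard = 4 := by
      rw [Set.ncard_insert_of_notMem, Set.ncard_insert_of_notMem, Set.ncard_pair]
      · intro e; exact hz1 (mul_eq_right.1 e.symm)
      · rintro (e | e)
        · exact huz e.symm
        · exact hu1 (mul_eq_left.1 e.symm)
      · rintro (e | e | e)
        · exact hz1 e.symm
        · exact hu1 e.symm
        · refine huz ?_
          rw [← inv_eq_of_mul_eq_one_right e.symm, hi z hzU]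
    have h := Set.eq_of_subset_of_ncard_le hsub (by rw [hn, ← Nat.card_coe_set_eq]; exact h4.le)
    intro x hx
    have : x ∈ ({1, z, u, z * u} : Set G) := h.symm ▸ hx
    simpa using this
  set P₀ := (P : Subgroup G) ⊓ centralizer (U : Set G) with hP₀
  have hzc : ∀ p ∈ (P : Subgroup G), p * z * p⁻¹ = z := fun p hp =>
    mul_inv_eq_iff_eq_mul.2 (mem_centralizer_iff.1 hzP p hp)
  have hmove : ∀ p ∈ (P : Subgroup G), p ∉ P₀ → p * u * p⁻¹ = z * u := by
    intro p hp hp0
    rcases hall _ (conj_mem_of_le_normalizer hPU hp hu) with h | h | h | h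
    · exact absurd (conj_eq_one_iff.1 h) hu1
    · exact absurd (conj_injective (h.trans (hzc p hp).symm)) huz
    · refine absurd ⟨hp, mem_centralizer_iff.2 fun x hx => ?_⟩ hp0
      have hpu : p * u = u * p := mul_inv_eq_iff_eq_mul.1 h
      have hpz : p * z = z * p := mem_centralizer_iff.1 hzP p hp
      rcases hall x hx with rfl | rfl | rfl | rfl
      · simp
      · exact hpz.symm
      · exact hpu.symm
      · exact ((show Commute p z from hpz).mul_right hpu).eq.symm
    · exact h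
  obtain ⟨g, hgP, hg0⟩ : ∃ g ∈ (P : Subgroup G), g ∉ P₀ := by
    by_contra hno
    push_neg at hno
    exact hUc (le_centralizer_iff.1 fun p hp => (hno p hp).2)
  have hfixu : ∀ p ∈ (P : Subgroup G), p * u * p⁻¹ = u → p ∈ P₀ := by
    intro p hp h
    by_contra h0
    exact hz1 (mul_eq_right.1 ((hmove p hp h0).symm.trans h))
  have hgu : g * (z * u) * g⁻¹ = u := by
    rw [show g * (z * u) * g⁻¹ = (g * z * g⁻¹) * (g * u * g⁻¹) by group, hzc g hgP,
      hmove g hgP hg0, ← mul_assoc, hzz, one_mul]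
  have hg2 : g * g ∈ P₀ := by
    refine hfixu _ (mul_mem hgP hgP) ?_
    rw [show g * g * u * (g * g)⁻¹ = g * (g * u * g⁻¹) * g⁻¹ by group, hmove g hgP hg0, hgu]
  have hgen : ∀ p ∈ (P : Subgroup G), p ∈ P₀ ∨ g⁻¹ * p ∈ P₀ := by
    intro p hp
    by_cases h0 : p ∈ P₀
    · exact Or.inl h0
    refine Or.inr (hfixu _ (mul_mem (inv_mem hgP) hp) ?_)
    rw [show g⁻¹ * p * u * (g⁻¹ * p)⁻¹ = g⁻¹ * (p * u * p⁻¹) * g by group, hmove p hp h0,
      ← hmove g hgP hg0]
    group
  have hP₀n : (P : Subgroup G) ≤ normalizer (P₀ : Set G) :=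
    CfsgLib.Coprime.inf_le_normalizer le_normalizer
      (hPU.trans (CfsgLib.Coprime.normalizer_le_normalizer_centralizer U))
  -- `Ω₁(Z(P₀)) = U`
  have hOmega : ∀ x ∈ P₀, x ∈ centralizer (P₀ : Set G) → x ^ 2 = 1 → x ∈ U := by
    intro x hx hxc hx2
    have hxy : ∀ p ∈ P₀, Commute x p := fun p hp => (mem_centralizer_iff.1 hxc p hp).symm
    set y := g * x * g⁻¹ with hy
    have hyP₀ : y ∈ P₀ := conj_mem_of_le_normalizer hP₀n hgP hx
    have hyc : ∀ p ∈ P₀, Commute y p := by
      intro p hp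
      have h := hxy (g⁻¹ * p * g)
        (by simpa using conj_mem_of_le_normalizer hP₀n (inv_mem hgP) hp)
      show y * p = p * y
      calc y * p = g * (x * (g⁻¹ * p * g)) * g⁻¹ := by rw [hy]; group
        _ = p * y := by rw [h.eq, hy]; group
    have hy2 : y ^ 2 = 1 := by rw [hy, conj_pow, hx2]; group
    have hwg : g * (x * y) * g⁻¹ = x * y := by
      have hgg : (g * g) * x * (g * g)⁻¹ = x :=
        mul_inv_eq_iff_eq_mul.2 ((hxy _ hg2).eq.symm)
      calc g * (x * y) * g⁻¹ = y * ((g * g) * x * (g * g)⁻¹) := by rw [hy]; group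
        _ = x * y := by rw [hgg]; exact (hxy y hyP₀).eq.symm
    have hfix : ∀ w ∈ P₀, (∀ p ∈ P₀, Commute w p) → g * w * g⁻¹ = w → w ^ 2 = 1 →
        w = 1 ∨ w = z := by
      intro w hw hwc hwg hw2
      by_cases hw1 : w = 1
      · exact Or.inl hw1
      refine Or.inr (eq_of_cyclic (Z := (P : Subgroup G) ⊓ centralizer ((P : Subgroup G) : Set G))
        ⟨hw.1, mem_centralizer_iff.2 fun p hp => ?_⟩ ⟨hUP hzU, hzP⟩ hw2 (hsq z hzU) hw1 hz1)
      rcases hgen p hp with h | h
      · exact (hwc p h).eq.symm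
      · have hgw : Commute w g := (mul_inv_eq_iff_eq_mul.1 hwg).symm
        have := hgw.mul_right (hwc _ h)
        rw [mul_inv_cancel_left] at this
        exact this.eq.symm
    rcases hfix (x * y) (mul_mem hx hyP₀) (fun p hp => (hxy p hp).mul_left (hyc p hp)) hwg
      (by rw [(hxy y hyP₀).mul_pow, hx2, hy2, one_mul]) with h | h
    · have hxy' : y = x := by
        rw [← inv_eq_of_mul_eq_one_right h]
        exact inv_eq_of_mul_eq_one_right (by rw [← pow_two]; exact hx2)
      rcases hfix x hx hxy hxy' hx2 with h1 | h1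
      · rw [h1]; exact one_mem U
      · rw [h1]; exact hzU
    · have hyx : y = x * z := by
        rw [← h, ← mul_assoc, ← pow_two, hx2, one_mul]
      have huc : ∀ p ∈ P₀, Commute u p := fun p hp => mem_centralizer_iff.1 hp.2 u hu
      have huP₀ : u ∈ P₀ := ⟨hUP hu, mem_centralizer_iff.2 fun w hw => hab w hw u hu⟩
      have hxu : g * (x * u) * g⁻¹ = x * u := by
        calc g * (x * u) * g⁻¹ = y * (g * u * g⁻¹) := by rw [hy]; group
          _ = x * z * (z * u) := by rw [hyx, hmove g hgP hg0]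
          _ = x * (z * z) * u := by group
          _ = x * u := by rw [hzz, mul_one]
      rcases hfix (x * u) (mul_mem hx huP₀) (fun p hp => (hxy p hp).mul_left (huc p hp)) hxu
        (by rw [(hxy u huP₀).mul_pow, hx2, hsq u hu, one_mul]) with h1 | h1
      · rw [eq_inv_of_mul_eq_one_left h1]; exact inv_mem hu
      · rw [show x = z * u⁻¹ from eq_mul_inv_of_mul_eq h1]; exact mul_mem hzU (inv_mem hu)
  -- a Sylow subgroup of `C(u)` containing `P₀`
  have hP₀u : P₀ ≤ centralizer ({u} : Set G) := fun p hp =>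
    mem_centralizer_singleton_iff.2 (mem_centralizer_iff.1 hp.2 u hu).symm
  obtain ⟨T, hT⟩ := (IsPGroup.comap_of_injective (P.2.to_le (inf_le_left : P₀ ≤ P))
    (centralizer ({u} : Set G)).subtype (subtype_injective _)).exists_le_sylow
  set S := (T : Subgroup _).map (centralizer ({u} : Set G)).subtype with hS
  have hS2 : IsPGroup 2 S := T.2.map _
  have hPS : P₀ ≤ S := fun p hp => ⟨⟨p, hP₀u hp⟩, hT hp, rfl⟩
  obtain ⟨Q, hQ, hQC, hCQ, hcen, hmax⟩ := exists_core hL (hsq u hu) hu1
  by_cases hSP : S ≤ P₀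
  · -- `O₂(C(u)) ≤ P₀` is centralised by `U`
    have hQS : Q ≤ P₀ := by
      refine le_trans ?_ hSP
      have hSn : S ≤ normalizer (Q : Set G) := (map_subtype_le _).trans hCQ
      have h1 : IsPGroup 2 ↥((Q ⊔ S).subgroupOf (centralizer ({u} : Set G))) :=
        (hQ.to_sup_of_normal_left' hS2 hSn).comap_of_injective _ (subtype_injective _)
      have h2 := T.3 h1 (fun x hx => mem_subgroupOf.2 (mem_sup_right ⟨x, hx, rfl⟩))
      intro q hq
      refine ⟨⟨q, hQC hq⟩, ?_, rfl⟩
      rw [← h2]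
      exact mem_subgroupOf.2 (mem_sup_left hq)
    have hUQ : U ≤ Q := fun w hw => hcen
      ⟨mem_centralizer_singleton_iff.2 (hab w hw u hu), mem_centralizer_iff.2 fun q hq =>
        (mem_centralizer_iff.1 (hQS hq).2 w hw).symm⟩
    rintro k ⟨hkK, hku⟩
    refine mem_centralizer_iff.2 fun w hw => ?_
    have h1 : k * w * k⁻¹ * w⁻¹ = 1 := by
      refine eq_one_of_mem_two_odd hQ hK
        (mul_mem (conj_mem_of_le_normalizer hCQ hku (hUQ hw)) (inv_mem (hUQ hw))) ?_
      rw [show k * w * k⁻¹ * w⁻¹ = k * (w * k⁻¹ * w⁻¹) by group]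
      exact mul_mem hkK (conj_mem_of_le_normalizer hUK hw (inv_mem hkK))
    exact (mul_inv_eq_iff_eq_mul.1 (mul_inv_eq_one.1 h1)).symm
  -- otherwise `u` is central in a conjugate of `P` normalising `U`
  obtain ⟨s, hsS, hsn, hs0⟩ : ∃ s ∈ S, s ∈ normalizer (P₀ : Set G) ∧ s ∉ P₀ := by
    haveI : Group.IsNilpotent S := hS2.isNilpotent
    have hne : P₀.subgroupOf S ≠ ⊤ := fun e => hSP (subgroupOf_eq_top.1 e)
    obtain ⟨x, hxN, hxC⟩ := SetLike.exists_of_lt
      (Group.normalizerCondition_of_isNilpotent _ hne.lt_top)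
    refine ⟨x, x.2, ?_, fun h => hxC h⟩
    refine Subgroup.mem_normalizer_iff.2 fun y => ⟨fun hy => ?_, fun hy => ?_⟩
    · exact (Subgroup.mem_normalizer_iff.1 hxN ⟨y, hPS hy⟩).1 hy
    · have hyS : y ∈ S := by
        have := mul_mem (mul_mem (inv_mem x.2) (hPS hy)) x.2
        rwa [show (x : G)⁻¹ * ((x : G) * y * (x : G)⁻¹) * (x : G) = y by group] at this
      exact (Subgroup.mem_normalizer_iff.1 hxN ⟨y, hyS⟩).2 hy
  have hsu : s * u = u * s := mem_centralizer_singleton_iff.1 ((map_subtype_le _) hsS)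
  have hUP₀ : U ≤ P₀ := fun w hw =>
    ⟨hUP hw, mem_centralizer_iff.2 fun v hv => hab v hv w hw⟩
  have hsU : ∀ t ∈ normalizer (P₀ : Set G), ∀ w ∈ U, t * w * t⁻¹ ∈ U := by
    intro t ht w hw
    refine hOmega _ ((Subgroup.mem_normalizer_iff.1 ht w).1 (hUP₀ hw))
      (mem_centralizer_iff.2 fun p hp => ?_) (by rw [conj_pow, hsq w hw]; group)
    have hp' : t⁻¹ * p * t ∈ P₀ :=
      (Subgroup.mem_normalizer_iff.1 ht _).2 (by rwa [show t * (t⁻¹ * p * t) * t⁻¹ = p by group])
    have h : Commute w (t⁻¹ * p * t) := mem_centralizer_iff.1 hp'.2 w hw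
    calc p * (t * w * t⁻¹) = t * ((t⁻¹ * p * t) * w) * t⁻¹ := by group
      _ = t * w * t⁻¹ * p := by rw [← h.eq]; group
  have hsN : ∀ t ∈ normalizer (P₀ : Set G), t ∈ normalizer (U : Set G) := by
    intro t ht
    refine Subgroup.mem_normalizer_iff.2 fun w => ⟨hsU t ht w, fun h => ?_⟩
    have := hsU t⁻¹ (inv_mem ht) _ h
    rwa [show t⁻¹ * (t * w * t⁻¹) * t⁻¹⁻¹ = w by group] at this
  have hsz : s * z * s⁻¹ = z * u := by
    rcases hall _ (hsU s hsn z hzU) with h | h | h | h
    · exact absurd (conj_eq_one_iff.1 h) hz1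
    · exfalso
      -- then `s` centralises `U`, against Sylow in `N(U)`
      set R := P₀ ⊔ zpowers s with hR
      have hsc : s ∈ centralizer (U : Set G) := by
        refine mem_centralizer_iff.2 fun w hw => ?_
        have hcz : Commute s z := mul_inv_eq_iff_eq_mul.1 h
        rcases hall w hw with rfl | rfl | rfl | rfl
        · simp
        · exact hcz.eq.symm
        · exact hsu.symm
        · exact (hcz.mul_right hsu).eq.symm
      have hRU : R ≤ centralizer (U : Set G) := sup_le inf_le_right (zpowers_le.2 hsc)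
      have hRN : R ≤ normalizer (U : Set G) := hRU.trans (CfsgLib.Coprime.centralizer_le_normalizer_self U)
      have hR2 : IsPGroup 2 R := hS2.to_le (sup_le hPS (zpowers_le.2 hsS))
      obtain ⟨T', hT'⟩ := (hR2.comap_of_injective (normalizer (U : Set G)).subtype
        (subtype_injective _)).exists_le_sylow
      obtain ⟨m, hm⟩ := MulAction.exists_smul_eq (normalizer (U : Set G)) T' (P.subtype hPU)
      have hle : R.map (MulAut.conj (m : G)).toMonoidHom ≤ P₀ := by
        rintro _ ⟨r, hr, rfl⟩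
        refine ⟨?_, ?_⟩
        · have h1 : m * ⟨r, hRN hr⟩ * m⁻¹ ∈ ((P.subtype hPU : Sylow 2 _) : Subgroup _) := by
            rw [← hm, Sylow.coe_subgroup_smul]
            exact ⟨⟨r, hRN hr⟩, hT' hr, rfl⟩
          exact h1
        · refine mem_centralizer_iff.2 fun w hw => ?_
          have hw' : (m : G)⁻¹ * w * m ∈ U :=
            (Subgroup.mem_normalizer_iff.1 m.2 _).2
              (by rwa [show (m : G) * ((m : G)⁻¹ * w * m) * (m : G)⁻¹ = w by group])
          have hc := mem_centralizer_iff.1 (hRU hr) _ hw'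
          show w * ((m : G) * r * (m : G)⁻¹) = (m : G) * r * (m : G)⁻¹ * w
          calc w * ((m : G) * r * (m : G)⁻¹) = m * (((m : G)⁻¹ * w * m) * r) * (m : G)⁻¹ := by group
            _ = (m : G) * r * (m : G)⁻¹ * w := by rw [hc]; group
      have hcard := Nat.le_of_dvd Nat.card_pos (card_dvd_of_le hle)
      rw [Subgroup.card_map_of_injective (MulAut.conj (m : G)).injective] at hcard
      exact hs0 ((eq_of_le_of_card_ge le_sup_left hcard).ge (mem_sup_right (mem_zpowers s)))
    · exact absurd (conj_injective (h.trans (mul_inv_eq_iff_eq_mul.2 hsu).symm)) (Ne.symm huz)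
    · exact h
  set t := g * s with ht
  have htN : t ∈ normalizer (U : Set G) := mul_mem (hPU hgP) (hsN s hsn)
  have htz : t * z * t⁻¹ = u := by
    rw [show t * z * t⁻¹ = g * (s * z * s⁻¹) * g⁻¹ by rw [ht]; group, hsz, hgu]
  have hmem : ∀ {x : G}, x ∈ ((t • P : Sylow 2 G) : Subgroup G) ↔
      t⁻¹ * x * t ∈ (P : Subgroup G) := by
    intro x
    rw [Sylow.coe_subgroup_smul, Subgroup.mem_pointwise_smul_iff_inv_smul_mem]
    simp [MulAut.smul_def]
  refine centralizes_central hL (P := t • P) (fun w hw => hmem.2 (hUP ?_)) (fun w hw => ?_) hK hUK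
    hu hu1 (mem_centralizer_iff.2 fun w hw => ?_)
  · exact (Subgroup.mem_normalizer_iff.1 htN _).2
      (by rwa [show t * (t⁻¹ * w * t) * t⁻¹ = w by group])
  · have h := mul_mem (mul_mem htN (hPU (hmem.1 hw))) (inv_mem htN)
    rwa [show t * (t⁻¹ * w * t) * t⁻¹ = w by group] at h
  · have h : Commute (t⁻¹ * w * t) z := mem_centralizer_iff.1 hzP _ (hmem.1 hw)
    rw [← htz]
    calc w * (t * z * t⁻¹) = t * ((t⁻¹ * w * t) * z) * t⁻¹ := by group
      _ = t * z * t⁻¹ * w := by rw [h.eq]; group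

end CfsgLib.FourGroupSignalizer
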