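import Cfsg.Agent.Lib.CFun.LocalGlobal

/-!
# Control of strong fusion by a family of conjugacy functors passes from local subgroups to the group
-/

set_option autoImplicit false
set_option linter.style.haveILetI false

open Subgroup
open CfsgLib.Fusion (conjBy mem_conjBy conj_mem_conjBy conjBy_le_iff conjBy_eq_iff conjBy_conjBy
  conjBy_mono conjBy_normalizer card_conjBy isPGroup_conjBy
  exists_conj_le_of_not_dvd_relIndex eq_of_le_of_isPGroup_of_not_dvd_relIndex)

namespace CfsgLib.CFun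

variable {G : Type*} [Group G]

/-- Maps on `A` induced by chains of conjugations inside the normalizers of the values at `T`,
taken in `H`. -/
inductive Chain (𝓦 : Set (Subgroup G → Subgroup G)) (H T : Subgroup G) (A : Set G) :
    G → Prop
  | one : (∀ a ∈ A, a ∈ T) → Chain 𝓦 H T A 1
  | step (c : G) (W : Subgroup G → Subgroup G) (w : G) : Chain 𝓦 H T A c → W ∈ 𝓦 →
      w ∈ H ⊓ normalizer ((W T : Subgroup G) : Set G) → (∀ a ∈ A, w * c * a * (w * c)⁻¹ ∈ T) →
      Chain 𝓦 H T A (w * c)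

/-- The conjugation by `g` agrees on `A` with a chain. -/
def Reach (𝓦 : Set (Subgroup G → Subgroup G)) (H T : Subgroup G) (A : Set G) (g : G) : Prop :=
  ∃ c, Chain 𝓦 H T A c ∧ ∀ a ∈ A, c * a * c⁻¹ = g * a * g⁻¹

variable {𝓦 : Set (Subgroup G → Subgroup G)} {H T : Subgroup G} {A : Set G}

theorem Chain.mem {c : G} (h : Chain 𝓦 H T A c) : ∀ a ∈ A, c * a * c⁻¹ ∈ T := by
  cases h with
  | one h => simpa using h
  | step c W w _ _ _ h => exact h

theorem Chain.mem_left {c : G} (h : Chain 𝓦 H T A c) : ∀ a ∈ A, a ∈ T := by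
  induction h with
  | one h => exact h
  | step c W w _ _ _ _ ih => exact ih

theorem Chain.mono {A' : Set G} {c : G} (h : Chain 𝓦 H T A c) (hA : A' ⊆ A) :
    Chain 𝓦 H T A' c := by
  induction h with
  | one h => exact .one fun a ha => h a (hA ha)
  | step c W w _ hW hw h ih => exact .step c W w ih hW hw fun a ha => h a (hA ha)

theorem Chain.trans {c d : G} (h : Chain 𝓦 H T A c)
    (h' : Chain 𝓦 H T ((fun a => c * a * c⁻¹) '' A) d) : Chain 𝓦 H T A (d * c) := by
  induction h' with
  | one _ => rwa [one_mul]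
  | step d W w _ hW hw hm ih =>
    rw [mul_assoc]
    refine .step _ W w ih hW hw fun a ha => ?_
    have := hm _ ⟨a, ha, rfl⟩
    rw [show w * (d * c) * a * (w * (d * c))⁻¹ = w * d * (c * a * c⁻¹) * (w * d)⁻¹ by group]
    exact this

theorem Chain.symm {c : G} (h : Chain 𝓦 H T A c) :
    Chain 𝓦 H T ((fun a => c * a * c⁻¹) '' A) c⁻¹ := by
  induction h with
  | one h =>
    rw [inv_one]
    exact .one (by rintro _ ⟨a, ha, rfl⟩; simpa using h a ha)
  | step c W w hc hW hw hm ih =>
    have h1 : Chain 𝓦 H T ((fun a => w * c * a * (w * c)⁻¹) '' A) (w⁻¹ * 1) := by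
      refine .step 1 W w⁻¹ (.one ?_) hW (inv_mem hw) ?_
      · rintro _ ⟨a, ha, rfl⟩; exact hm a ha
      · rintro _ ⟨a, ha, rfl⟩
        simpa [mul_assoc] using hc.mem a ha
    rw [mul_one] at h1
    have h2 := h1.trans (d := c⁻¹) (by
      rw [Set.image_image]
      convert ih using 2
      group)
    rwa [← mul_inv_rev] at h2

theorem Reach.mono {A' : Set G} {g : G} (h : Reach 𝓦 H T A g) (hA : A' ⊆ A) :
    Reach 𝓦 H T A' g := by
  obtain ⟨c, hc, he⟩ := h
  exact ⟨c, hc.mono hA, fun a ha => he a (hA ha)⟩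

theorem Reach.trans {g k : G} (h : Reach 𝓦 H T A g)
    (h' : Reach 𝓦 H T ((fun a => g * a * g⁻¹) '' A) k) : Reach 𝓦 H T A (k * g) := by
  obtain ⟨c, hc, hce⟩ := h
  obtain ⟨d, hd, hde⟩ := h'
  have e : (fun a => g * a * g⁻¹) '' A = (fun a => c * a * c⁻¹) '' A :=
    Set.image_congr fun a ha => (hce a ha).symm
  refine ⟨d * c, hc.trans (e ▸ hd), fun a ha => ?_⟩
  rw [show d * c * a * (d * c)⁻¹ = d * (c * a * c⁻¹) * d⁻¹ by group, hce a ha,
    hde _ ⟨a, ha, rfl⟩]
  group

theorem Reach.symm {g : G} (h : Reach 𝓦 H T A g) :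
    Reach 𝓦 H T ((fun a => g * a * g⁻¹) '' A) g⁻¹ := by
  obtain ⟨c, hc, hce⟩ := h
  have e : (fun a => g * a * g⁻¹) '' A = (fun a => c * a * c⁻¹) '' A :=
    Set.image_congr fun a ha => (hce a ha).symm
  refine ⟨c⁻¹, e ▸ hc.symm, ?_⟩
  rintro _ ⟨a, ha, rfl⟩
  show c⁻¹ * (g * a * g⁻¹) * c⁻¹⁻¹ = g⁻¹ * (g * a * g⁻¹) * g⁻¹⁻¹
  conv_lhs => rw [← hce a ha]
  group

theorem Chain.of_fin {n : ℕ} (c : Fin (n + 1) → G) (h0 : c 0 = 1)
    (hs : ∀ i : Fin n, ∃ W ∈ 𝓦,
      c i.succ * (c i.castSucc)⁻¹ ∈ H ⊓ normalizer ((W T : Subgroup G) : Set G))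
    (hm : ∀ i : Fin (n + 1), (fun a => c i * a * (c i)⁻¹) '' A ⊆ T) :
    Chain 𝓦 H T A (c (Fin.last n)) := by
  have : ∀ i : Fin (n + 1), Chain 𝓦 H T A (c i) := by
    intro i
    induction i using Fin.induction with
    | zero =>
      rw [h0]
      exact .one fun a ha => by simpa [h0] using hm 0 ⟨a, ha, rfl⟩
    | succ i ih =>
      obtain ⟨W, hW, hw⟩ := hs i
      have := Chain.step (c i.castSucc) W _ ih hW hw fun a ha => by
        simpa [mul_assoc] using hm i.succ ⟨a, ha, rfl⟩
      rwa [inv_mul_cancel_right] at this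
  exact this _

theorem Chain.to_fin {g : G} (h : Chain 𝓦 H T A g) :
    ∃ (n : ℕ) (c : Fin (n + 1) → G), c 0 = 1 ∧
      (∀ i : Fin n, ∃ W ∈ 𝓦,
        c i.succ * (c i.castSucc)⁻¹ ∈ H ⊓ normalizer ((W T : Subgroup G) : Set G)) ∧
      (∀ i : Fin (n + 1), (fun a => c i * a * (c i)⁻¹) '' A ⊆ T) ∧ c (Fin.last n) = g := by
  induction h with
  | one h =>
    refine ⟨0, fun _ => 1, rfl, fun i => i.elim0, fun i => ?_, rfl⟩
    rintro _ ⟨a, ha, rfl⟩
    simpa using h a ha
  | step c W w _ hW hw hm ih =>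
    obtain ⟨n, f, f0, fs, fm, fl⟩ := ih
    refine ⟨n + 1, Fin.snoc f (w * c), ?_, ?_, ?_, Fin.snoc_last _ _⟩
    · rw [← Fin.castSucc_zero, Fin.snoc_castSucc]
      exact f0
    · intro i
      induction i using Fin.lastCases with
      | last =>
        refine ⟨W, hW, ?_⟩
        rw [Fin.succ_last, Fin.snoc_last, Fin.snoc_castSucc, fl, mul_inv_cancel_right]
        exact hw
      | cast i =>
        obtain ⟨W', hW', hw'⟩ := fs i
        refine ⟨W', hW', ?_⟩
        rw [Fin.succ_castSucc, Fin.snoc_castSucc, Fin.snoc_castSucc]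
        exact hw'
    · intro i
      induction i using Fin.lastCases with
      | last =>
        rw [Fin.snoc_last]
        rintro _ ⟨a, ha, rfl⟩
        exact hm a ha
      | cast i =>
        rw [Fin.snoc_castSucc]
        exact fm i

section global

variable {p : ℕ} [Finite G] [Fact p.Prime]

/-- Control of strong fusion may be used in any Sylow subgroup. -/
theorem reach_of_control (h𝓦 : ∀ W ∈ 𝓦, Cfsg.IsConjugacyFunctor p W)
    (hc : Cfsg.FamilyControlsStrongFusionIn p 𝓦 H) (hTH : T ≤ H) (hT : IsPGroup p T)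
    (hTi : ¬ p ∣ T.relIndex H) {g : G} (hg : g ∈ H) (hA : ∀ a ∈ A, a ∈ T)
    (hgA : ∀ a ∈ A, g * a * g⁻¹ ∈ T) : Reach 𝓦 H T A g := by
  obtain ⟨T₀, hT₀H, hT₀, hT₀i, hc⟩ := hc
  obtain ⟨k, hk, hle⟩ := exists_conj_le_of_not_dvd_relIndex hT hTH hTi hT₀ hT₀H
  have hH : conjBy k H = H := conjBy_eq_iff.2 (le_normalizer hk)
  have e : conjBy k T₀ = T := by
    refine (eq_of_le_of_isPGroup_of_not_dvd_relIndex hT hle hTH ?_).symm
    rw [← hH]
    exact CfsgLib.Fusion.not_dvd_relIndex_conjBy k hT₀i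
  have hback : ∀ {x : G}, x ∈ T → k⁻¹ * x * k ∈ T₀ := fun hx => mem_conjBy.1 (by rw [e]; exact hx)
  have hfwd : ∀ {x : G}, x ∈ T₀ → k * x * k⁻¹ ∈ T := fun hx => by
    rw [← e]; exact conj_mem_conjBy hx
  obtain ⟨n, f, f0, fs, fm, fe⟩ := hc ((fun a => k⁻¹ * a * k) '' A) (k⁻¹ * g * k)
    (mul_mem (mul_mem (inv_mem hk) hg) hk) (by
      rintro _ ⟨a, ha, rfl⟩; exact hback (hA a ha)) (by
      rintro _ ⟨_, ⟨a, ha, rfl⟩, rfl⟩
      rw [SetLike.mem_coe]
      convert hback (hgA a ha) using 1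
      group)
  refine ⟨k * f (Fin.last n) * k⁻¹,
    Chain.of_fin (fun i => k * f i * k⁻¹) (by simp [f0]) (fun i => ?_) (fun i => ?_), fun a ha => ?_⟩
  · obtain ⟨W, hW, hw⟩ := fs i
    refine ⟨W, hW, ?_⟩
    rw [show k * f i.succ * k⁻¹ * (k * f i.castSucc * k⁻¹)⁻¹ =
      k * (f i.succ * (f i.castSucc)⁻¹) * k⁻¹ by group, ← e, cfun_conjBy (h𝓦 W hW) hT₀, ← hH,
      ← conjBy_normalizer, ← Subgroup.map_inf _ _ _ (MulAut.conj k).injective]
    exact conj_mem_conjBy hw
  · rintro _ ⟨a, ha, rfl⟩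
    rw [SetLike.mem_coe]
    convert hfwd (fm i ⟨_, ⟨a, ha, rfl⟩, rfl⟩) using 1
    group
  · have := congrArg (fun x => k * x * k⁻¹) (fe _ ⟨a, ha, rfl⟩)
    convert this using 1 <;> group

theorem fusion_local_to_global (S : Sylow p G) (h𝓦 : ∀ W ∈ 𝓦, Cfsg.IsConjugacyFunctor p W)
    {Placed : Subgroup G → Prop} (D : LocalData S Placed)
    (hloc : ∀ T : Subgroup G, T ≤ (S : Subgroup G) → T ≠ ⊥ → Placed T →
      Cfsg.FamilyControlsStrongFusionIn p 𝓦 (normalizer (T : Set G))) :
    Cfsg.FamilyControlsStrongFusionIn p 𝓦 ⊤ := by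
  set S0 : Subgroup G := (S : Subgroup G) with hS0
  have hmeasure : ∀ {R : Subgroup G}, R ≤ S0 → Nat.card R ≤ Nat.card S0 := fun h =>
    Subgroup.card_le_of_le h
  have main : ∀ n : ℕ,
      (∀ R : Subgroup G, R ≤ S0 → Nat.card S0 - Nat.card R = n → ∀ g : G, conjBy g R ≤ S0 →
        Reach 𝓦 ⊤ S0 (R : Set G) g) ∧
      (∀ P : Subgroup G, P ≤ S0 → P ≠ ⊥ → Placed P →
        Nat.card S0 - Nat.card (S0 ⊓ normalizer (P : Set G) : Subgroup G) = n →
        ∀ (A : Set G), ∀ m ∈ normalizer (P : Set G), (∀ a ∈ A, a ∈ S0 ⊓ normalizer (P : Set G)) →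
          (∀ a ∈ A, m * a * m⁻¹ ∈ S0 ⊓ normalizer (P : Set G)) → Reach 𝓦 ⊤ S0 A m) := by
    intro n
    induction n using Nat.strong_induction_on with
    | _ n ih =>
      have hB : ∀ P : Subgroup G, P ≤ S0 → P ≠ ⊥ → Placed P →
          Nat.card S0 - Nat.card (S0 ⊓ normalizer (P : Set G) : Subgroup G) = n →
          ∀ (A : Set G), ∀ m ∈ normalizer (P : Set G),
            (∀ a ∈ A, a ∈ S0 ⊓ normalizer (P : Set G)) →
            (∀ a ∈ A, m * a * m⁻¹ ∈ S0 ⊓ normalizer (P : Set G)) → Reach 𝓦 ⊤ S0 A m := by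
        intro P hPS hP hpl hn A m hm hA hmA
        set L := S0 ⊓ normalizer (P : Set G) with hL
        have hLS : L ≤ S0 := inf_le_left
        have hLp : IsPGroup p L := S.2.to_le hLS
        obtain ⟨c, hc, hce⟩ := reach_of_control h𝓦 (hloc P hPS hP hpl) inf_le_right hLp
          (D.full P hpl) hm hA hmA
        suffices hs : Reach 𝓦 ⊤ S0 A c by
          obtain ⟨d, hd, hde⟩ := hs
          exact ⟨d, hd, fun a ha => (hde a ha).trans (hce a ha)⟩
        clear hce hmA
        induction hc with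
        | one _ => exact ⟨1, .one fun a ha => hLS (hA a ha), fun _ _ => rfl⟩
        | step c W w hc hW hw hmem ihc =>
          refine ihc.trans ?_
          have hcL : ∀ b ∈ (fun a => c * a * c⁻¹) '' A, b ∈ L := by
            rintro _ ⟨a, ha, rfl⟩; exact hc.mem a ha
          have hwL : ∀ b ∈ (fun a => c * a * c⁻¹) '' A, w * b * w⁻¹ ∈ L := by
            rintro _ ⟨a, ha, rfl⟩
            convert hmem a ha using 1
            group
          generalize (fun a => c * a * c⁻¹) '' A = B at hcL hwL ⊢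
          have hW' := h𝓦 W hW
          by_cases hLeq : L = S0
          · refine ⟨w * 1, .step 1 W w (.one fun b hb => hLS (hcL b hb)) hW ?_ fun b hb => ?_,
              fun b _ => by rw [mul_one]⟩
            · rw [show S0 ⊓ normalizer (P : Set G) = S0 from hLeq] at hw
              exact mem_inf.2 ⟨mem_top _, (mem_inf.1 hw).2⟩
            · rw [mul_one]; exact hLS (hwL b hb)
          have hLne : L ≠ ⊥ := ne_bot_of_le_ne_bot hP (le_inf hPS le_normalizer)
          have hlt : Nat.card L <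
              Nat.card (S0 ⊓ normalizer ((W L : Subgroup G) : Set G) : Subgroup G) :=
            lt_of_lt_of_le (card_lt_card (lt_inf_normalizer_sylow S hLS hLeq))
              (Subgroup.card_le_of_le (inf_le_inf le_rfl (cfun_normalizer_le hW' hLp)))
          set R := S0 ⊓ normalizer ((W L : Subgroup G) : Set G) with hR
          have hRS : R ≤ S0 := inf_le_left
          have := hmeasure hRS
          have hLR : L ≤ R := le_inf hLS (le_normalizer.trans (cfun_normalizer_le hW' hLp))
          obtain ⟨k, hk, hkpl⟩ := D.ex (W L) ((cfun_le hW' hLp).trans hLS)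
          set P₂ := conjBy k (W L) with hP₂
          have hP₂S : P₂ ≤ S0 := LocalData.le_of_le ((cfun_le hW' hLp).trans hLS) hk
          have hP₂ne : P₂ ≠ ⊥ := fun h => (hW' L hLp).2.1 hLne
            ((Subgroup.map_eq_bot_iff_of_injective _ (MulAut.conj k).injective).1 h)
          have hkR : conjBy k R ≤ S0 ⊓ normalizer (P₂ : Set G) :=
            le_inf hk (conjBy_normalizer k (W L) ▸ conjBy_mono inf_le_right)
          have hcard : Nat.card R ≤ Nat.card (S0 ⊓ normalizer (P₂ : Set G) : Subgroup G) := by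
            rw [← card_conjBy k]; exact Subgroup.card_le_of_le hkR
          have := hmeasure (inf_le_left : S0 ⊓ normalizer (P₂ : Set G) ≤ S0)
          have r1 : Reach 𝓦 ⊤ S0 B k :=
            ((ih _ (by omega)).1 R hRS rfl k hk).mono fun b hb => hLR (hcL b hb)
          have r3 : Reach 𝓦 ⊤ S0 ((fun b => w * b * w⁻¹) '' B) k :=
            ((ih _ (by omega)).1 R hRS rfl k hk).mono (by
              rintro _ ⟨b, hb, rfl⟩; exact hLR (hwL b hb))
          have r2 : Reach 𝓦 ⊤ S0 ((fun b => k * b * k⁻¹) '' B) (k * w * k⁻¹) := by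
            refine (ih _ (by omega)).2 P₂ hP₂S hP₂ne hkpl rfl _ _ ?_ ?_ ?_
            · rw [hP₂, ← conjBy_normalizer]
              exact conj_mem_conjBy (mem_inf.1 hw).2
            · rintro _ ⟨b, hb, rfl⟩
              exact hkR (conj_mem_conjBy (hLR (hcL b hb)))
            · rintro _ ⟨b, hb, rfl⟩
              convert hkR (conj_mem_conjBy (hLR (hwL b hb))) using 1
              group
          have r12 := r1.trans r2
          rw [inv_mul_cancel_right] at r12
          have := r12.trans (k := k⁻¹) (by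
            convert r3.symm using 1
            rw [Set.image_image]
            exact Set.image_congr fun b _ => by group)
          rwa [inv_mul_cancel_left] at this
      refine ⟨?_, hB⟩
      intro R hR hn g hg
      by_cases hRb : R = ⊥
      · exact ⟨1, .one fun a ha => hR ha, fun a ha => by
          rw [hRb, SetLike.mem_coe, mem_bot] at ha; rw [ha]; simp⟩
      set R' := conjBy g R
      obtain ⟨h, hh, hpl⟩ := D.ex R hR
      set Rs := conjBy h R
      have hRsS : Rs ≤ S0 := LocalData.le_of_le hR hh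
      have hRs : Rs ≠ ⊥ := fun e => hRb
        ((Subgroup.map_eq_bot_iff_of_injective _ (MulAut.conj h).injective).1 e)
      have hcR := hmeasure hR
      have hlocal : ∀ m ∈ normalizer (Rs : Set G), Reach 𝓦 ⊤ S0 (Rs : Set G) m := by
        intro m hm
        have hc : Nat.card R ≤ Nat.card (S0 ⊓ normalizer (Rs : Set G) : Subgroup G) := by
          rw [← card_conjBy h]; exact Subgroup.card_le_of_le (le_inf hRsS le_normalizer)
        have := hmeasure (inf_le_left : S0 ⊓ normalizer (Rs : Set G) ≤ S0)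
        have hm1 : ∀ a ∈ (Rs : Set G), a ∈ S0 ⊓ normalizer (Rs : Set G) := fun a ha =>
          ⟨hRsS ha, le_normalizer ha⟩
        have hm2 : ∀ a ∈ (Rs : Set G), m * a * m⁻¹ ∈ S0 ⊓ normalizer (Rs : Set G) :=
          fun a ha => hm1 _ ((mem_normalizer_iff.1 hm a).1 ha)
        rcases eq_or_lt_of_le (show Nat.card S0 -
            Nat.card (S0 ⊓ normalizer (Rs : Set G) : Subgroup G) ≤ n by omega) with e | e
        · exact hB Rs hRsS hRs hpl e _ m hm hm1 hm2
        · exact (ih _ e).2 Rs hRsS hRs hpl rfl _ m hm hm1 hm2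
      rcases eq_or_ne R S0 with hRS | hRS
      · have hgR : R' = R := Subgroup.eq_of_le_of_card_ge (hRS ▸ hg) (card_conjBy g R).ge
        have hhR : Rs = R := Subgroup.eq_of_le_of_card_ge (hRS ▸ hRsS) (card_conjBy h R).ge
        have := hlocal g (by rw [hhR]; exact conjBy_eq_iff.1 hgR)
        rwa [hhR] at this
      · have hR'S : R' ≠ S0 := fun e => hRS (Subgroup.eq_of_le_of_card_ge hR
          (by rw [← e, card_conjBy]))
        have hR'card : Nat.card R' = Nat.card R := card_conjBy g R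
        set m := h * g⁻¹
        have hmR : conjBy m R' = Rs := by rw [conjBy_conjBy]; simp [m, Rs]
        set X := S0 ⊓ normalizer (R' : Set G) with hX
        have hXS : X ≤ S0 := inf_le_left
        have hX1 : conjBy m X ≤ normalizer (Rs : Set G) := by
          rw [← hmR, ← conjBy_normalizer]; exact conjBy_mono inf_le_right
        obtain ⟨c, hc, hcX⟩ := exists_conj_le_of_not_dvd_relIndex
          (S.2.to_le (inf_le_left : S0 ⊓ normalizer (Rs : Set G) ≤ S0)) inf_le_right
          (D.full Rs hpl) (isPGroup_conjBy m (S.2.to_le hXS)) hX1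
        rw [conjBy_conjBy] at hcX
        set Y := S0 ⊓ normalizer (R : Set G) with hY
        have hYS : Y ≤ S0 := inf_le_left
        have l1 : Nat.card R < Nat.card Y := card_lt_card (lt_inf_normalizer_sylow S hR hRS)
        have l2 : Nat.card R' < Nat.card X := card_lt_card (lt_inf_normalizer_sylow S hg hR'S)
        have := hmeasure hYS
        have := hmeasure hXS
        have a1 : Reach 𝓦 ⊤ S0 (R : Set G) h :=
          ((ih _ (by omega)).1 Y hYS rfl h hh).mono fun x hx => ⟨hR hx, le_normalizer hx⟩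
        have a2 : Reach 𝓦 ⊤ S0 (R' : Set G) (c * m) :=
          ((ih _ (by omega)).1 X hXS rfl (c * m) (hcX.trans inf_le_left)).mono
            fun y hy => ⟨hg hy, le_normalizer hy⟩
        have himg : ∀ (k : G) (K : Subgroup G),
            (fun a => k * a * k⁻¹) '' (K : Set G) = (conjBy k K : Subgroup G) := by
          intro k K
          ext y
          exact ⟨by rintro ⟨a, ha, rfl⟩; exact conj_mem_conjBy ha,
            fun hy => ⟨k⁻¹ * y * k, mem_conjBy.1 hy, by group⟩⟩
        have a3 := a1.trans (k := c) (by rw [himg]; exact hlocal c hc)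
        have a4 := a3.trans (k := (c * m)⁻¹) (by
          convert a2.symm using 1
          rw [himg, himg, conjBy_conjBy (c * m), show c * m * g = c * h by simp [m, mul_assoc]])
        rwa [show (c * m)⁻¹ * (c * h) = g by simp only [m]; group] at a4
  refine ⟨S0, le_top, S.2, by rw [relIndex_top_right]; exact S.not_dvd_index,
    fun A g _ hA hgA => ?_⟩
  obtain ⟨c, hc, hce⟩ := ((main _).1 (Subgroup.closure A) ((closure_le _).2 hA) rfl g (by
    show (Subgroup.closure A).map _ ≤ S0
    rw [MonoidHom.map_closure, closure_le]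
    exact hgA)).mono subset_closure
  obtain ⟨n, f, f0, fs, fm, fl⟩ := hc.to_fin
  exact ⟨n, f, f0, fs, fm, fun a ha => fl ▸ hce a ha⟩

/-- Strong fusion for a single functor. -/
theorem controlsStrongFusionIn_iff_family {W : Subgroup G → Subgroup G} :
    Cfsg.ControlsStrongFusionIn p W H ↔ Cfsg.FamilyControlsStrongFusionIn p {W} H := by
  constructor
  · rintro ⟨T, hTH, hT, hTi, hc⟩
    refine ⟨T, hTH, hT, hTi, fun A h hh hA hhA => ?_⟩
    obtain ⟨x, hx, hxe⟩ := hc A h hh hA hhA
    obtain ⟨n, f, f0, fs, fm, fl⟩ := (Chain.step (𝓦 := ({W} : Set _)) (A := A) 1 W x (.one hA) rfl hx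
      fun a ha => by
        rw [mul_one, hxe a ha]; exact hhA ⟨a, ha, rfl⟩).to_fin
    exact ⟨n, f, f0, fs, fm, fun a ha => by rw [fl, mul_one, hxe a ha]⟩
  · rintro ⟨T, hTH, hT, hTi, hc⟩
    refine ⟨T, hTH, hT, hTi, fun A h hh hA hhA => ?_⟩
    obtain ⟨n, f, f0, fs, -, fl⟩ := hc A h hh hA hhA
    refine ⟨f (Fin.last n), ?_, fl⟩
    suffices ∀ i : Fin (n + 1), f i ∈ H ⊓ normalizer ((W T : Subgroup G) : Set G) from this _
    intro i
    induction i using Fin.induction with
    | zero => rw [f0]; exact one_mem _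
    | succ i ih =>
      obtain ⟨W', hW', hw⟩ := fs i
      rw [Set.mem_singleton_iff.1 hW'] at hw
      simpa using mul_mem hw ih

end global

end CfsgLib.CFun
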