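import Cfsg.Agent.Lib.CFun.FusionGlobal
import Cfsg.Agent.Lib.CFun.SectionInd
import Cfsg.Prelude.Def_LocalEven

/-!
# Control of strong fusion by a functor that is normal in the constrained sections
-/

set_option autoImplicit false
set_option linter.style.haveILetI false

open Subgroup
open scoped commutatorElement
open CfsgLib.Fusion (conjBy mem_conjBy conj_mem_conjBy conjBy_le_iff conjBy_eq_iff)

namespace CfsgLib.CFun

universe u

variable {p : ℕ} {W : ∀ (Q : Type u) [Group Q], Subgroup Q}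

/-- Conjugation inside `S` is realised in the normalizer of `W S`. -/
def StrongAt {G : Type u} [Group G] (W : ∀ (Q : Type u) [Group Q], Subgroup Q) (S : Subgroup G) :
    Prop :=
  ∀ (A : Set G) (g : G), (∀ a ∈ A, a ∈ S) → (∀ a ∈ A, g * a * g⁻¹ ∈ S) →
    ∃ x ∈ normalizer ((Cfsg.inducedFunctor W S : Subgroup G) : Set G),
      ∀ a ∈ A, x * a * x⁻¹ = g * a * g⁻¹

/-- The functor controls strong fusion in the whole group. -/
abbrev StrongCtrl (p : ℕ) (W : ∀ (Q : Type u) [Group Q], Subgroup Q) (G : Type u) [Group G] : Prop :=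
  Cfsg.ControlsStrongFusionIn p (Cfsg.inducedFunctor (G := G) W) ⊤

variable [Fact p.Prime]

/-- Control in `H` may be used in any Sylow subgroup of `H`. -/
theorem exists_of_controlIn {G : Type u} [Group G] [Finite G] (hW : Cfsg.IsCharPFunctor.{u} p W)
    {H T : Subgroup G} (hc : Cfsg.ControlsStrongFusionIn p (Cfsg.inducedFunctor W) H) (hTH : T ≤ H)
    (hT : IsPGroup p T) (hTi : ¬ p ∣ T.relIndex H) (A : Set G) (g : G) (hg : g ∈ H)
    (hA : ∀ a ∈ A, a ∈ T) (hgA : ∀ a ∈ A, g * a * g⁻¹ ∈ T) :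
    ∃ x ∈ H ⊓ normalizer ((Cfsg.inducedFunctor W T : Subgroup G) : Set G),
      ∀ a ∈ A, x * a * x⁻¹ = g * a * g⁻¹ := by
  obtain ⟨c, hc', hce⟩ := reach_of_control
    (fun W' h => Set.mem_singleton_iff.1 h ▸ isConjugacyFunctor_induced hW)
    (controlsStrongFusionIn_iff_family.1 hc) hTH hT hTi hg hA hgA
  refine ⟨c, ?_, hce⟩
  clear hce
  induction hc' with
  | one _ => exact one_mem _
  | step c W' w _ hW' hw _ ih =>
    rw [Set.mem_singleton_iff.1 hW'] at hw
    exact mul_mem hw ih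

theorem strongAt_of_ctrl {G : Type u} [Group G] [Finite G] (hW : Cfsg.IsCharPFunctor.{u} p W)
    (h : StrongCtrl p W G) (S : Sylow p G) : StrongAt W (S : Subgroup G) := by
  intro A g hA hgA
  obtain ⟨x, hx, he⟩ := exists_of_controlIn hW h le_top S.2 (sylow_not_dvd_relIndex_top S) A g
    (mem_top g) hA hgA
  exact ⟨x, (mem_inf.1 hx).2, he⟩

theorem ctrl_of_strongAt {G : Type u} [Group G] [Finite G] (S : Sylow p G)
    (h : StrongAt W (S : Subgroup G)) : StrongCtrl p W G :=
  ⟨S, le_top, S.2, sylow_not_dvd_relIndex_top S, fun A g _ hA hgA => by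
    obtain ⟨x, hx, he⟩ := h A g hA fun a ha => hgA ⟨a, ha, rfl⟩
    exact ⟨x, mem_inf.2 ⟨mem_top x, hx⟩, he⟩⟩

theorem controlsStrongFusion_of_strongAt {G : Type u} [Group G] (S : Sylow p G)
    (h : StrongAt W (S : Subgroup G)) :
    Cfsg.ControlsStrongFusion p (Cfsg.inducedFunctor W (S : Subgroup G)) := by
  refine ⟨S, induced_le W _, fun A hA => ⟨hA, fun g hg => ?_⟩⟩
  obtain ⟨x, hx, he⟩ := h A g hA fun a ha => hg ⟨a, ha, rfl⟩
  exact ⟨x, hx, fun a ha => (he a ha).symm⟩

theorem strongAt_of_controlsStrongFusion {G : Type u} [Group G] [Finite G]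
    (hW : Cfsg.IsCharPFunctor.{u} p W) (S : Sylow p G)
    (h : Cfsg.ControlsStrongFusion p (Cfsg.inducedFunctor W (S : Subgroup G))) :
    StrongAt W (S : Subgroup G) := by
  obtain ⟨T, hUT, hc⟩ := h
  set U := Cfsg.inducedFunctor W (S : Subgroup G)
  have hSN : (S : Subgroup G) ≤ normalizer (U : Set G) :=
    le_normalizer.trans (cfun_normalizer_le (isConjugacyFunctor_induced hW) S.2)
  have hTN : (T : Subgroup G) ≤ normalizer (U : Set G) := by
    intro t ht
    obtain ⟨x, hx, he⟩ := (hc (U : Set G) hUT).2 t (by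
      rintro _ ⟨u, hu, rfl⟩
      exact mul_mem (mul_mem ht (hUT hu)) (inv_mem ht))
    refine conjBy_eq_iff.1 (CfsgLib.Fusion.conjBy_eq_of_le (conjBy_le_iff.2 fun u hu => ?_))
    rw [he u hu]
    exact (mem_normalizer_iff.1 hx u).1 hu
  obtain ⟨n, hn, hle⟩ := CfsgLib.Fusion.exists_conj_le_of_not_dvd_relIndex T.2 hTN
    (fun hd => T.not_dvd_index (hd.trans (relIndex_dvd_index_of_le hTN))) S.2 hSN
  intro A g hA hgA
  have hmem : ∀ {a : G}, a ∈ (S : Subgroup G) → n * a * n⁻¹ ∈ (T : Subgroup G) :=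
    fun ha => conjBy_le_iff.1 hle _ ha
  obtain ⟨x, hx, he⟩ := (hc ((fun a => n * a * n⁻¹) '' A) (by
    rintro _ ⟨a, ha, rfl⟩; exact hmem (hA a ha))).2 (n * g * n⁻¹) (by
    rintro _ ⟨_, ⟨a, ha, rfl⟩, rfl⟩
    show n * g * n⁻¹ * (n * a * n⁻¹) * (n * g * n⁻¹)⁻¹ ∈ (T : Subgroup G)
    convert hmem (hgA a ha) using 1
    group)
  refine ⟨n⁻¹ * x * n, mul_mem (mul_mem (inv_mem hn) hx) hn, fun a ha => ?_⟩
  have := he _ ⟨a, ha, rfl⟩
  calc n⁻¹ * x * n * a * (n⁻¹ * x * n)⁻¹ = n⁻¹ * (x * (n * a * n⁻¹) * x⁻¹) * n := by group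
    _ = g * a * g⁻¹ := by rw [← this]; group

theorem strongIn_map {G G' : Type u} [Group G] [Group G'] [Finite G]
    (hW : Cfsg.IsCharPFunctor.{u} p W) (f : G →* G') (hf : Function.Injective f) {H : Subgroup G}
    (h : Cfsg.ControlsStrongFusionIn p (Cfsg.inducedFunctor W) H) :
    Cfsg.ControlsStrongFusionIn p (Cfsg.inducedFunctor W) (H.map f) := by
  obtain ⟨T, hTH, hT, hTi, hc⟩ := h
  refine ⟨T.map f, map_mono hTH, hT.map f, ?_, ?_⟩
  · rwa [Subgroup.relIndex_map_map_of_injective _ _ hf]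
  · intro A h' hh hA hhA
    obtain ⟨h, hh', rfl⟩ := hh
    obtain ⟨x, hx, he⟩ := hc (f ⁻¹' A) h hh'
      (fun a ha => (mem_map_iff_mem hf).1 (hA ha)) (by
        rintro _ ⟨a, ha, rfl⟩
        exact (mem_map_iff_mem hf).1 (by simpa using hhA ⟨f a, ha, rfl⟩))
    refine ⟨f x, ?_, ?_⟩
    · rw [induced_map hW hT f hf, ← map_inf_normalizer f hf]
      exact mem_map_of_mem f hx
    · intro a' ha'
      obtain ⟨a, -, rfl⟩ := hA ha'
      have := congrArg f (he a ha')
      simpa using this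

theorem strongCtrl_congr {G G' : Type u} [Group G] [Group G'] [Finite G]
    (hW : Cfsg.IsCharPFunctor.{u} p W) (e : G ≃* G') (h : StrongCtrl p W G) : StrongCtrl p W G' := by
  have := strongIn_map hW e.toMonoidHom e.injective h
  rwa [Subgroup.map_top_of_surjective _ e.surjective] at this

theorem strongIn_of_subgroup {G : Type u} [Group G] [Finite G] (hW : Cfsg.IsCharPFunctor.{u} p W)
    (H : Subgroup G) (h : StrongCtrl p W H) :
    Cfsg.ControlsStrongFusionIn p (Cfsg.inducedFunctor W) H := by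
  have := strongIn_map hW H.subtype H.subtype_injective h
  rwa [← MonoidHom.range_eq_map, Subgroup.range_subtype] at this

variable {G : Type u} [Group G] [Finite G]

/-- A normal `p'`-subgroup may be factored out. -/
theorem strongAt_of_quotient_pPrime (hW : Cfsg.IsCharPFunctor.{u} p W) (N : Subgroup G) [N.Normal]
    (hN : ¬ p ∣ Nat.card N) (h : StrongCtrl p W (G ⧸ N)) (S : Sylow p G) :
    StrongAt W (S : Subgroup G) := by
  intro A g hA hgA
  set π := QuotientGroup.mk' N
  have hπ := QuotientGroup.mk'_surjective N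
  set S0 : Subgroup G := (S : Subgroup G) with hS0
  have hinj : ∀ x ∈ S0, π x = 1 → x = 1 := fun x hx h1 =>
    CfsgLib.Fusion.eq_one_of_pGroup_of_coprime S.2 hx
      ((CfsgLib.Fusion.not_dvd_card_iff_forall_coprime_orderOf N).1 hN x
        ((QuotientGroup.eq_one_iff x).1 h1))
  let e : S0 ≃* S0.map π :=
    MulEquiv.ofBijective (π.subgroupMap S0) ⟨(injective_iff_map_eq_one _).2 fun x hx =>
      Subtype.ext (hinj x x.2 (congrArg Subtype.val hx)), π.subgroupMap_surjective _⟩
  have hWS : Cfsg.inducedFunctor W (S0.map π) = (Cfsg.inducedFunctor W S0).map π :=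
    induced_of_equiv hW S.2 e π fun _ => rfl
  obtain ⟨y, hy, hye⟩ := strongAt_of_ctrl hW h (S.mapSurjective hπ) (π '' A) (π g)
    (by rintro _ ⟨a, ha, rfl⟩; exact mem_map_of_mem π (hA a ha))
    (by
      rintro _ ⟨a, ha, rfl⟩
      rw [← map_inv, ← map_mul, ← map_mul]
      exact mem_map_of_mem π (hgA a ha))
  change y ∈ normalizer ((Cfsg.inducedFunctor W (S0.map π) : Subgroup (G ⧸ N)) : Set (G ⧸ N)) at hy
  rw [hWS] at hy
  set X := Cfsg.inducedFunctor W S0 with hX
  obtain ⟨n, hn, rfl⟩ := CfsgLib.Fusion.normalizer_map_le (p := p) N hN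
    (S.2.to_le (induced_le W _)) hy
  have hSX : S0 ≤ normalizer (X : Set G) :=
    le_normalizer.trans (cfun_normalizer_le (isConjugacyFunctor_induced hW) S.2)
  set M := (S0.map π).comap π ⊓ normalizer (X : Set G) with hM
  have hSM : S0 ≤ M := le_inf (le_comap_map _ _) hSX
  set P := Subgroup.closure A
  have hP : P ≤ S0 := (closure_le _).2 hA
  have hR : conjBy n P ≤ M := by
    show P.map (MulAut.conj n).toMonoidHom ≤ M
    rw [MonoidHom.map_closure, closure_le]
    rintro _ ⟨a, ha, rfl⟩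
    refine mem_inf.2 ⟨?_, mul_mem (mul_mem hn (hSX (hA a ha))) (inv_mem hn)⟩
    rw [mem_comap]
    show π (n * a * n⁻¹) ∈ S0.map π
    rw [map_mul, map_mul, map_inv, hye (π a) ⟨a, ha, rfl⟩, ← map_inv, ← map_mul, ← map_mul]
    exact mem_map_of_mem π (hgA a ha)
  obtain ⟨l, hl, hle⟩ := CfsgLib.Fusion.exists_conj_le_of_not_dvd_relIndex S.2 hSM
    (fun hd => S.not_dvd_index (hd.trans (relIndex_dvd_index_of_le hSM)))
    (CfsgLib.Fusion.isPGroup_conjBy n (S.2.to_le hP)) hR
  rw [CfsgLib.Fusion.conjBy_conjBy] at hle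
  obtain ⟨⟨s, hs, hsl⟩, hlX⟩ := hl
  refine ⟨s⁻¹ * l * n, mul_mem (mul_mem (inv_mem (hSX hs)) hlX) hn, fun a ha => ?_⟩
  have h1 : s⁻¹ * l * n * a * (s⁻¹ * l * n)⁻¹ ∈ S0 := by
    have := conjBy_le_iff.1 hle a (subset_closure ha)
    convert mul_mem (mul_mem (inv_mem hs) this) hs using 1
    group
  refine mul_inv_eq_one.1 (hinj _ (mul_mem h1 (inv_mem (hgA a ha))) ?_)
  rw [map_mul, map_inv, mul_inv_eq_one]
  simp only [map_mul, map_inv, hsl, inv_mul_cancel, one_mul]
  rw [hye (π a) ⟨a, ha, rfl⟩]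

theorem exists_ppow_mem_of_stabilizes {P : Subgroup G} (hP : IsPGroup p P) {Q : Subgroup G}
    (hQP : Q ≤ P) {d : G} (hdQ : ∀ q ∈ Q, Commute d q)
    (hd : ∀ a ∈ P, d * a * d⁻¹ * a⁻¹ ∈ Q) :
    ∃ k : ℕ, d ^ p ^ k ∈ centralizer (P : Set G) := by
  obtain ⟨k, hk⟩ := hP.exists_card_eq
  refine ⟨k, mem_centralizer_iff.2 fun a ha => ?_⟩
  set z := d * a * d⁻¹ * a⁻¹ with hz
  have hzd : Commute d z := hdQ z (hd a ha)
  have key : ∀ i : ℕ, d ^ i * a * (d ^ i)⁻¹ = z ^ i * a := by
    intro i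
    induction i with
    | zero => simp
    | succ i ih =>
      calc d ^ (i + 1) * a * (d ^ (i + 1))⁻¹ = d * (d ^ i * a * (d ^ i)⁻¹) * d⁻¹ := by
            rw [pow_succ']; group
        _ = d * z ^ i * a * d⁻¹ := by rw [ih]; group
        _ = z ^ i * (d * a * d⁻¹) := by rw [(hzd.pow_right i).eq]; group
        _ = z ^ (i + 1) * a := by rw [pow_succ, hz]; group
  have hz1 : z ^ p ^ k = 1 := by
    have := congrArg Subtype.val (pow_card_eq_one' (G := P) (x := ⟨z, hQP (hd a ha)⟩))
    rwa [hk] at this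
  have h2 := key (p ^ k)
  rw [hz1, one_mul, mul_inv_eq_iff_eq_mul] at h2
  exact h2.symm

/-- The inductive step: proper subgroups and the relevant proper quotients controlled. Only
quotients by normal `p'`-subgroups and by normal `p`-subgroups `N` with `G = C(N) S` are needed. -/
theorem strongAt_of_minimal (hW : Cfsg.IsCharPFunctor.{u} p W)
    (hsub : ∀ H : Subgroup G, H ≠ ⊤ → StrongCtrl p W H)
    (hquo : ∀ (N : Subgroup G) [N.Normal], N ≠ ⊥ → (¬ p ∣ Nat.card N ∨ (IsPGroup p N ∧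
      ∃ T : Sylow p G, centralizer (N : Set G) ⊔ (T : Subgroup G) = ⊤)) → StrongCtrl p W (G ⧸ N))
    (hloc : centralizer ((Cfsg.pCore p G : Subgroup G) : Set G) ≤ Cfsg.pCore p G →
      ∀ T : Sylow p G, (Cfsg.inducedFunctor W (T : Subgroup G)).Normal)
    (S : Sylow p G) : StrongAt W (S : Subgroup G) := by
  classical
  by_cases hO : Cfsg.pPrimeCore p G ≠ ⊥
  · haveI := CfsgLib.Coprime.pPrimeCore_characteristic (G := G) p
    exact strongAt_of_quotient_pPrime hW _ (CfsgLib.Coprime.pPrimeCore_not_dvd Fact.out)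
      (hquo _ hO (Or.inl (CfsgLib.Coprime.pPrimeCore_not_dvd Fact.out))) S
  push Not at hO
  have hWc := isConjugacyFunctor_induced (G := G) hW
  by_cases hnorm : normalizer ((Cfsg.inducedFunctor W (S : Subgroup G) : Subgroup G) : Set G) = ⊤
  · exact fun A g _ _ => ⟨g, hnorm ▸ mem_top g, fun _ _ => rfl⟩
  haveI hQn := CfsgLib.Coprime.pCore_normal' (G := G) p
  set Q := Cfsg.pCore p G with hQdef
  have hQp : IsPGroup p Q := CfsgLib.Coprime.pCore_isPGroup p
  set S0 : Subgroup G := (S : Subgroup G) with hS0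
  have hQS : Q ≤ S0 := hQp.le_sylow_of_normal S
  have useSub : ∀ H : Subgroup G, S0 ≤ H → H ≠ ⊤ → ∀ (A : Set G) (h : G), h ∈ H →
      (∀ a ∈ A, a ∈ S0) → (∀ a ∈ A, h * a * h⁻¹ ∈ S0) →
      ∃ x ∈ normalizer ((Cfsg.inducedFunctor W S0 : Subgroup G) : Set G),
        ∀ a ∈ A, x * a * x⁻¹ = h * a * h⁻¹ := by
    intro H hSH hH A h hh hA hhA
    obtain ⟨x, hx, he⟩ := exists_of_controlIn hW (strongIn_of_subgroup hW H (hsub H hH)) hSH S.2
      (fun hd => S.not_dvd_index (hd.trans (relIndex_dvd_index_of_le hSH))) A h hh hA hhA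
    exact ⟨x, (mem_inf.1 hx).2, he⟩
  by_cases hQb : Q = ⊥
  · refine strongAt_of_ctrl hW (controlsStrongFusionIn_iff_family.2 ?_) S
    refine fusion_local_to_global S (𝓦 := {Cfsg.inducedFunctor W})
      (fun W' h => Set.mem_singleton_iff.1 h ▸ hWc) (localData_full S) fun T hTS hT _ => ?_
    refine controlsStrongFusionIn_iff_family.1 (strongIn_of_subgroup hW _ (hsub _ fun h => hT ?_))
    haveI : T.Normal := Subgroup.normalizer_eq_top_iff.1 h
    exact le_bot_iff.1 ((CfsgLib.Coprime.le_pCore (S.2.to_le hTS)).trans hQb.le)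
  set C := centralizer (Q : Set G) with hC
  haveI hCn : C.Normal := inferInstance
  set R := S0 ⊓ C with hR
  have hRp : IsPGroup p R := S.2.to_le inf_le_left
  have hfr : normalizer (R : Set G) ⊔ C = ⊤ := by
    have hRi : ¬ p ∣ R.relIndex C := CfsgLib.Fusion.not_dvd_relIndex_inf_of_normal S C
    let P : Sylow p C := (hRp.of_equiv (Subgroup.subgroupOfEquivOfLe inf_le_right).symm).toSylow hRi
    have hmapP : (P : Subgroup C).map C.subtype = R := map_subgroupOf_eq_of_le inf_le_right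
    rw [← hmapP]; exact Sylow.normalizer_sup_eq_top P
  have hSN : S0 ≤ normalizer (R : Set G) :=
    le_normalizer_inf le_normalizer (le_top.trans (Subgroup.normalizer_eq_top C).ge)
  by_cases hNR : normalizer (R : Set G) = ⊤
  · haveI : R.Normal := Subgroup.normalizer_eq_top_iff.1 hNR
    haveI := hloc (centralizer_pCore_le_of_inf_le hO S (CfsgLib.Coprime.le_pCore hRp)) S
    exact absurd (Subgroup.normalizer_eq_top _) hnorm
  intro A₀ g hA₀ hgA₀
  -- enlarge the set by `O_p`
  set P := Subgroup.closure A₀ ⊔ Q with hPdef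
  have hPS : P ≤ S0 := sup_le ((closure_le _).2 hA₀) hQS
  have hgP : conjBy g P ≤ S0 := by
    show P.map (MulAut.conj g).toMonoidHom ≤ S0
    rw [Subgroup.map_sup, MonoidHom.map_closure]
    refine sup_le ((closure_le _).2 ?_) ?_
    · rintro _ ⟨a, ha, rfl⟩; exact hgA₀ a ha
    · rintro _ ⟨q, hq, rfl⟩; exact hQS (hQn.conj_mem q hq g)
  suffices key : ∀ (P : Subgroup G) (g : G), Q ≤ P → P ≤ S0 → conjBy g P ≤ S0 →
      ∃ x ∈ normalizer ((Cfsg.inducedFunctor W S0 : Subgroup G) : Set G),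
        ∀ a ∈ P, x * a * x⁻¹ = g * a * g⁻¹ by
    obtain ⟨x, hx, he⟩ := key P g le_sup_right hPS hgP
    exact ⟨x, hx, fun a ha => he a (mem_sup_left (subset_closure ha))⟩
  clear! A₀ g
  by_cases hCS : C ⊔ S0 = ⊤
  · -- `G = C S`: work modulo `Q`
    set π := QuotientGroup.mk' Q
    have hπ := QuotientGroup.mk'_surjective Q
    set Sb := S.mapSurjective hπ
    set H := (normalizer ((Cfsg.inducedFunctor W (S0.map π) : Subgroup (G ⧸ Q)) : Set (G ⧸ Q))).comap π
      with hH
    have hSbp : IsPGroup p (S0.map π) := S.2.map π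
    have hSH : S0 ≤ H := by
      rw [hH, ← Subgroup.map_le_iff_le_comap]
      exact le_normalizer.trans (cfun_normalizer_le (isConjugacyFunctor_induced hW) hSbp)
    have hHne : H ≠ ⊤ := by
      intro e
      have e2 : normalizer ((Cfsg.inducedFunctor W (S0.map π) : Subgroup (G ⧸ Q)) :
          Set (G ⧸ Q)) = ⊤ := by
        rw [← Subgroup.map_comap_eq_self_of_surjective hπ (normalizer _),
          ← Subgroup.map_top_of_surjective π hπ, ← hH, e]
      haveI : (Cfsg.inducedFunctor W (S0.map π)).Normal := Subgroup.normalizer_eq_top_iff.1 e2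
      refine induced_ne_bot hW hSbp ?_ (le_bot_iff.1 ((CfsgLib.Coprime.le_pCore
        (hSbp.to_le (induced_le W _))).trans (CfsgLib.Coprime.pCore_quotient_eq_bot p).le))
      intro e'
      rw [Subgroup.map_eq_bot_iff, QuotientGroup.ker_mk'] at e'
      have hSeq : S0 = Q := le_antisymm e' hQS
      refine hnorm (top_le_iff.1 (le_trans ?_ (cfun_normalizer_le hWc S.2)))
      show ⊤ ≤ normalizer (S0 : Set G)
      rw [hSeq]
      exact (Subgroup.normalizer_eq_top Q).ge
    -- from a fully normalised subgroup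
    have full : ∀ (P : Subgroup G) (g : G), Q ≤ P → P ≤ S0 → conjBy g P ≤ S0 →
        ¬ p ∣ (S0 ⊓ normalizer (P : Set G)).relIndex (normalizer (P : Set G)) →
        ∃ x ∈ normalizer ((Cfsg.inducedFunctor W S0 : Subgroup G) : Set G),
          ∀ a ∈ P, x * a * x⁻¹ = g * a * g⁻¹ := by
      intro P g hQP hPS hgP hfull
      obtain ⟨y, hy, hye⟩ := strongAt_of_ctrl hW (hquo Q hQb (Or.inr ⟨hQp, S, hCS⟩)) Sb (π '' P) (π g)
        (by rintro _ ⟨a, ha, rfl⟩; exact mem_map_of_mem π (hPS ha))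
        (by
          rintro _ ⟨a, ha, rfl⟩
          rw [← map_inv, ← map_mul, ← map_mul]
          exact mem_map_of_mem π (conjBy_le_iff.1 hgP a ha))
      obtain ⟨h, hhy⟩ := hπ y
      change π h = y at hhy
      subst hhy
      have hhH : h ∈ H := hy
      set d := h⁻¹ * g with hd
      have hdP : ∀ a ∈ P, d * a * d⁻¹ * a⁻¹ ∈ Q := by
        intro a ha
        rw [← QuotientGroup.eq_one_iff, ← QuotientGroup.mk'_apply, hd]
        have e := hye (π a) ⟨a, ha, rfl⟩
        simp only [map_mul, map_inv, mul_inv_rev, inv_inv]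
        rw [show (π h)⁻¹ * π g * π a * ((π g)⁻¹ * π h) * (π a)⁻¹ =
          (π h)⁻¹ * (π g * π a * (π g)⁻¹) * π h * (π a)⁻¹ by group, ← e]
        group
      -- the stabilizer of `Q ≤ P`
      set π' := π
      let D : Subgroup G := (centralizer ((P.map π' : Subgroup (G ⧸ Q)) : Set (G ⧸ Q))).comap π'
      have hmemD : ∀ z : G, z ∈ D ↔ ∀ a ∈ P, z * a * z⁻¹ * a⁻¹ ∈ Q := by
        intro z
        rw [mem_comap, mem_centralizer_iff]
        constructor
        · intro h a ha
          rw [← QuotientGroup.eq_one_iff, ← QuotientGroup.mk'_apply, map_mul, map_mul, map_mul,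
            map_inv, map_inv, ← h _ (mem_map_of_mem π' ha), mul_inv_cancel_right, mul_inv_cancel]
        · rintro h _ ⟨a, ha, rfl⟩
          have := h a ha
          rw [← QuotientGroup.eq_one_iff, ← QuotientGroup.mk'_apply, map_mul, map_mul, map_mul,
            map_inv, map_inv, mul_inv_eq_one, mul_inv_eq_iff_eq_mul] at this
          exact this.symm
      have hDN : D ≤ normalizer (P : Set G) := by
        intro z hz
        refine conjBy_eq_iff.1 (CfsgLib.Fusion.conjBy_eq_of_le (conjBy_le_iff.2 fun a ha => ?_))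
        simpa using mul_mem (hQP ((hmemD z).1 hz a ha)) ha
      have hfull' : ¬ p ∣ (S0 ⊓ D).relIndex D := by
        set NP := normalizer (P : Set G)
        have hn : NP ≤ normalizer (D : Set G) := by
          intro n hn
          have h1 : π' n ∈ normalizer ((P.map π' : Subgroup (G ⧸ Q)) : Set (G ⧸ Q)) :=
            le_normalizer_map π' (mem_map_of_mem π' hn)
          have h2 := le_normalizer_centralizer (A := P.map π') (H := normalizer
            ((P.map π' : Subgroup (G ⧸ Q)) : Set (G ⧸ Q))) le_rfl h1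
          refine mem_normalizer_iff.2 fun z => ?_
          rw [mem_comap, mem_comap, map_mul, map_mul, map_inv]
          exact mem_normalizer_iff.1 h2 _
        haveI : (D.subgroupOf NP).Normal := normal_subgroupOf_of_le_normalizer hn
        let P1 : Sylow p NP := ((S.2.to_le inf_le_left).of_equiv
          (Subgroup.subgroupOfEquivOfLe (inf_le_right : S0 ⊓ NP ≤ NP)).symm).toSylow hfull
        have := CfsgLib.Fusion.not_dvd_relIndex_inf_of_normal P1 (D.subgroupOf NP)
        rw [← Subgroup.relIndex_map_map_of_injective _ _ NP.subtype_injective,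
          Subgroup.map_inf _ _ _ NP.subtype_injective, map_subgroupOf_eq_of_le hDN] at this
        change ¬ p ∣ (((S0 ⊓ NP).subgroupOf NP).map NP.subtype ⊓ D).relIndex D at this
        rwa [map_subgroupOf_eq_of_le inf_le_right, inf_assoc, inf_eq_right.2 hDN] at this
      -- `D` is a `p`-group modulo the centralizer of `P`
      have hppow : ∀ z ∈ D, ∃ k : ℕ, z ^ p ^ k ∈ centralizer (P : Set G) := by
        intro z hz
        have hzC : ∃ m : ℕ, z ^ p ^ m ∈ C := by
          have hzs : z ∈ C ⊔ S0 := hCS ▸ mem_top z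
          obtain ⟨c, hc, s, hs, rfl⟩ := Subgroup.mem_sup_of_normal_left.1 hzs
          obtain ⟨m, hm⟩ := S.2 ⟨s, hs⟩
          refine ⟨m, ?_⟩
          rw [← QuotientGroup.eq_one_iff, QuotientGroup.mk_pow, QuotientGroup.mk_mul,
            (QuotientGroup.eq_one_iff c).2 hc, one_mul, ← QuotientGroup.mk_pow,
            show s ^ p ^ m = 1 from congrArg Subtype.val hm]
          rfl
        obtain ⟨m, hm⟩ := hzC
        obtain ⟨k, hk⟩ := exists_ppow_mem_of_stabilizes (S.2.to_le hPS) hQP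
          (d := z ^ p ^ m) (fun q hq => (mem_centralizer_iff.1 hm q hq).symm)
          ((hmemD _).1 (pow_mem hz _))
        exact ⟨m + k, by rwa [pow_add, pow_mul]⟩
      obtain ⟨t, ht, htd⟩ : ∃ t ∈ S0 ⊓ D, ∀ a ∈ P, t * a * t⁻¹ = d * a * d⁻¹ := by
        set T := ((S.2.to_le inf_le_left).of_equiv
          (Subgroup.subgroupOfEquivOfLe (inf_le_right : S0 ⊓ D ≤ D)).symm).toSylow hfull' with hT
        set K := (centralizer (P : Set G)).subgroupOf D
        haveI : K.Normal := normal_subgroupOf_of_le_normalizer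
          (hDN.trans (le_normalizer_centralizer le_rfl))
        have hq : IsPGroup p (D ⧸ K) := by
          intro x
          obtain ⟨z, rfl⟩ := QuotientGroup.mk'_surjective K x
          obtain ⟨k, hk⟩ := hppow z z.2
          refine ⟨k, ?_⟩
          rw [← map_pow, QuotientGroup.mk'_apply, QuotientGroup.eq_one_iff]
          exact hk
        have htop : (T : Subgroup D).map (QuotientGroup.mk' K) = ⊤ :=
          ((T.mapSurjective (QuotientGroup.mk'_surjective K)).is_maximal'
            (hq.to_subgroup ⊤) le_top).symm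
        have hdD : d ∈ D := (hmemD d).2 hdP
        obtain ⟨t, ht, hte⟩ := mem_map.1 (htop.symm ▸ mem_top (QuotientGroup.mk' K ⟨d, hdD⟩) :
          QuotientGroup.mk' K ⟨d, hdD⟩ ∈ (T : Subgroup D).map (QuotientGroup.mk' K))
        refine ⟨t, ht, fun a ha => ?_⟩
        have hc : ((t⁻¹ * ⟨d, hdD⟩ : D) : G) ∈ centralizer (P : Set G) :=
          (QuotientGroup.eq (s := K)).1 hte
        have hc : (t : G)⁻¹ * d ∈ centralizer (P : Set G) := hc
        have := mem_centralizer_iff.1 hc a ha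
        calc (t : G) * a * (t : G)⁻¹ =
              (t : G) * (a * ((t : G)⁻¹ * d)) * d⁻¹ := by group
          _ = d * a * d⁻¹ := by rw [this]; group
      obtain ⟨htS, htD⟩ := mem_inf.1 ht
      obtain ⟨x, hx, hxe⟩ := useSub H hSH hHne (P : Set G) (h * t) (mul_mem hhH (hSH htS))
        (fun a ha => hPS ha) fun a ha => by
          have e : h * t * a * (h * t)⁻¹ = g * a * g⁻¹ := by
            rw [show h * t * a * (h * t)⁻¹ = h * (t * a * t⁻¹) * h⁻¹ by group, htd a ha, hd]
            group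
          rw [e]; exact conjBy_le_iff.1 hgP a ha
      refine ⟨x, hx, fun a ha => ?_⟩
      rw [hxe a ha, show h * t * a * (h * t)⁻¹ = h * (t * a * t⁻¹) * h⁻¹ by group, htd a ha, hd]
      group
    intro P g hQP hPS hgP
    obtain ⟨k, hk1, -, hkfull⟩ := CfsgLib.Fusion.exists_conj_fully_normalized S hPS
    have hQk : Q ≤ conjBy k P := by
      intro q hq
      refine mem_conjBy.2 (hQP ?_)
      simpa using hQn.conj_mem q hq k⁻¹
    obtain ⟨x₁, hx₁, he₁⟩ := full (conjBy k P) k⁻¹ hQk hk1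
      (by rw [CfsgLib.Fusion.conjBy_inv_conjBy]; exact hPS) hkfull
    obtain ⟨x₂, hx₂, he₂⟩ := full (conjBy k P) (g * k⁻¹) hQk hk1 (by
      rw [CfsgLib.Fusion.conjBy_conjBy, inv_mul_cancel_right]; exact hgP) hkfull
    refine ⟨x₂ * x₁⁻¹, mul_mem hx₂ (inv_mem hx₁), fun a ha => ?_⟩
    have e1 := he₁ _ (conj_mem_conjBy (g := k) ha)
    have e2 := he₂ _ (conj_mem_conjBy (g := k) ha)
    have e1' : x₁ * (k * a * k⁻¹) * x₁⁻¹ = a := by rw [e1]; group
    calc x₂ * x₁⁻¹ * a * (x₂ * x₁⁻¹)⁻¹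
          = x₂ * (x₁⁻¹ * (x₁ * (k * a * k⁻¹) * x₁⁻¹) * x₁) * x₂⁻¹ := by rw [e1']; group
      _ = x₂ * (k * a * k⁻¹) * x₂⁻¹ := by group
      _ = g * a * g⁻¹ := by rw [e2]; group
  · -- both `N(R)` and `C S` are proper
    intro P g hQP hPS hgP
    have hg : g ∈ C ⊔ normalizer (R : Set G) := by rw [sup_comm, hfr]; exact mem_top g
    obtain ⟨c, hc, n, hn, rfl⟩ := Subgroup.mem_sup_of_normal_left.1 hg
    set M := normalizer (R : Set G) ⊓ (C ⊔ S0)
    have hSM : S0 ≤ M := le_inf hSN le_sup_right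
    have hX : conjBy n P ≤ M := by
      refine conjBy_le_iff.2 fun a ha => mem_inf.2
        ⟨mul_mem (mul_mem hn (hSN (hPS ha))) (inv_mem hn), ?_⟩
      have h1 := conjBy_le_iff.1 hgP a ha
      have : n * a * n⁻¹ = c⁻¹ * (c * n * a * (c * n)⁻¹) * c := by group
      rw [this]
      exact mul_mem (mul_mem (inv_mem (mem_sup_left hc)) (mem_sup_right h1)) (mem_sup_left hc)
    obtain ⟨c', hc', hle⟩ := CfsgLib.Fusion.exists_conj_le_of_not_dvd_relIndex S.2 hSM
      (fun hd => S.not_dvd_index (hd.trans (relIndex_dvd_index_of_le hSM)))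
      (CfsgLib.Fusion.isPGroup_conjBy n (S.2.to_le hPS)) hX
    rw [CfsgLib.Fusion.conjBy_conjBy] at hle
    obtain ⟨hc'N, hc'CS⟩ := mem_inf.1 hc'
    obtain ⟨x₁, hx₁, he₁⟩ := useSub _ hSN hNR (P : Set G) (c' * n) (mul_mem hc'N hn)
      (fun a ha => hPS ha) fun a ha => conjBy_le_iff.1 hle a ha
    obtain ⟨x₂, hx₂, he₂⟩ := useSub (C ⊔ S0) le_sup_right hCS (conjBy (c' * n) P : Set G)
      (c * c'⁻¹) (mul_mem (mem_sup_left hc) (inv_mem hc'CS)) (fun a ha => hle ha) (by
        intro b hb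
        obtain ⟨a, ha, rfl⟩ := hb
        have := conjBy_le_iff.1 hgP a ha
        show c * c'⁻¹ * (c' * n * a * (c' * n)⁻¹) * (c * c'⁻¹)⁻¹ ∈ S0
        convert this using 1
        group)
    refine ⟨x₂ * x₁, mul_mem hx₂ hx₁, fun a ha => ?_⟩
    calc x₂ * x₁ * a * (x₂ * x₁)⁻¹ = x₂ * (x₁ * a * x₁⁻¹) * x₂⁻¹ := by group
      _ = x₂ * (c' * n * a * (c' * n)⁻¹) * x₂⁻¹ := by rw [he₁ a ha]
      _ = c * n * a * (c * n)⁻¹ := by rw [he₂ _ (conj_mem_conjBy ha)]; group

/-- Strong fusion is controlled by a functor normal in the constrained sections. -/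
theorem strongCtrl_of_constrained (hW : Cfsg.IsCharPFunctor.{u} p W) (n : ℕ) :
    ∀ (X : Type u) [Group X] [Finite X], Nat.card X = n →
      (∀ (Y : Type u) [Group Y] [Finite Y], Cfsg.Involves Y X →
        centralizer ((Cfsg.pCore p Y : Subgroup Y) : Set Y) ≤ Cfsg.pCore p Y →
          ∀ T : Sylow p Y, (Cfsg.inducedFunctor W (T : Subgroup Y)).Normal) →
      StrongCtrl p W X := by
  induction n using Nat.strong_induction_on with
  | _ n ih =>
    intro X _ _ hn hloc
    obtain ⟨S⟩ := (inferInstance : Nonempty (Sylow p X))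
    refine ctrl_of_strongAt S (strongAt_of_minimal hW (fun H hH => ?_) (fun N _ hN _ => ?_)
      (hloc X (involves_self X)) S)
    · refine ih _ ?_ H rfl fun Y _ _ hY => hloc Y
        (CfsgLib.Fusion.involves_of_injective H.subtype H.subtype_injective hY)
      have := card_lt_card (lt_top_iff_ne_top.2 hH)
      rwa [Nat.card_congr (topEquiv (G := X)).toEquiv, hn] at this
    · refine ih _ ?_ (X ⧸ N) rfl fun Y _ _ hY => hloc Y
        (CfsgLib.Fusion.involves_of_surjective (QuotientGroup.mk' N)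
          (QuotientGroup.mk'_surjective N) hY)
      have h1 : 1 < Nat.card N := (Subgroup.one_lt_card_iff_ne_bot N).2 hN
      rw [← hn, Subgroup.card_eq_card_quotient_mul_card_subgroup N]
      exact lt_mul_of_one_lt_right Nat.card_pos h1

end CfsgLib.CFun
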