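import Cfsg.Prelude.Def_OddOrderLocal
import Cfsg.Agent.Lib.Qd.Unstable
import Cfsg.Agent.Lib.Coprime.Component
import Cfsg.Agent.Lib.Coprime.Fitting
import Cfsg.Agent.Lib.Coprime.Core
import Cfsg.Agent.Lib.Coprime.Hall
import Cfsg.Agent.Lib.Coprime.PComponent
import Cfsg.Agent.Lib.Coprime.QdRankTwo.Data
import Cfsg.Agent.Lib.PGroup.QBaer
import Cfsg.Agent.Lib.CFun.OddTypePBasic

/-!
# Centralisers of self-centralising normal abelian subgroups of the Fitting group of a Hall subgroup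
-/

set_option autoImplicit false
set_option linter.style.haveILetI false
set_option linter.unusedSectionVars false

open Subgroup
open scoped commutatorElement
open CfsgLib.Coprime (conj_mem_of_le_normalizer IsPiNum)

namespace CfsgLib.HallFittingSCN

universe u

variable {G : Type u} [Group G] [Finite G]

/-- Splitting an element into its `r`-part and its `r'`-part. -/
theorem exists_parts (r : ℕ) [hr : Fact r.Prime] (a : G) :
    ∃ a₁ a₂ : G, a₁ ∈ zpowers a ∧ a₂ ∈ zpowers a ∧ a₁ * a₂ = a ∧ (∃ k, a₁ ^ r ^ k = 1) ∧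
      (orderOf a₂).Coprime r := by
  have hn : orderOf a ≠ 0 := (orderOf_pos a).ne'
  obtain ⟨k, m, hm, hkm⟩ := Nat.exists_eq_pow_mul_and_not_dvd hn r hr.out.ne_one
  have hco : Nat.gcd (r ^ k) m = 1 := ((hr.out.coprime_iff_not_dvd.2 hm).pow_left k)
  set u := Nat.gcdA (r ^ k) m
  set v := Nat.gcdB (r ^ k) m
  have ha : a ^ (((r ^ k * m : ℕ)) : ℤ) = 1 := by rw [zpow_natCast, ← hkm, pow_orderOf_eq_one]
  refine ⟨a ^ ((m : ℤ) * v), a ^ (((r ^ k : ℕ) : ℤ) * u), zpow_mem (mem_zpowers a) _,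
    zpow_mem (mem_zpowers a) _, ?_, ⟨k, ?_⟩, ?_⟩
  · rw [← zpow_add, add_comm, ← Nat.gcd_eq_gcd_ab, hco, Nat.cast_one, zpow_one]
  · rw [← zpow_natCast _ (r ^ k), ← zpow_mul,
      show (m : ℤ) * v * ((r ^ k : ℕ) : ℤ) = ((r ^ k * m : ℕ) : ℤ) * v by push_cast; ring,
      zpow_mul, ha, one_zpow]
  · have h : orderOf (a ^ (((r ^ k : ℕ) : ℤ) * u)) ∣ m := by
      refine orderOf_dvd_of_pow_eq_one ?_
      rw [← zpow_natCast _ m, ← zpow_mul,
        show ((r ^ k : ℕ) : ℤ) * u * (m : ℤ) = ((r ^ k * m : ℕ) : ℤ) * u by push_cast; ring,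
        zpow_mul, ha, one_zpow]
    exact Nat.Coprime.coprime_dvd_left h ((hr.out.coprime_iff_not_dvd.2 hm).symm)

theorem commute_of_fitting {x y : G} (hx : x ∈ Cfsg.fittingSubgroup G)
    (hy : y ∈ Cfsg.fittingSubgroup G) (h : (orderOf x).Coprime (orderOf y)) : x * y = y * x := by
  haveI : Group.IsNilpotent (Cfsg.fittingSubgroup G) := CfsgLib.Coprime.fitting_isNilpotent
  exact congrArg Subtype.val (CfsgLib.CFun.commute_of_coprime_order
    (x := (⟨x, hx⟩ : Cfsg.fittingSubgroup G)) (y := ⟨y, hy⟩)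
    (by rwa [Subgroup.orderOf_mk, Subgroup.orderOf_mk])).eq

/-- In a solvable group quadratic `q`-elements, `q ≥ 5`, lie in the core modulo the centraliser. -/
theorem quadratic_mem_core [Group.IsSolvable G] {q : ℕ} [hq : Fact q.Prime] (hq5 : 5 ≤ q)
    {P : Subgroup G} (hP : IsPGroup q P) {a : G} (ha : a ∈ normalizer (P : Set G))
    (hquad : ⁅⁅P, zpowers a⁆, zpowers a⁆ = ⊥) :
    (QuotientGroup.mk' ((centralizer (P : Set G)).subgroupOf (normalizer (P : Set G))))
      ⟨a, ha⟩ ∈ Cfsg.pCore q _ := by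
  by_contra h
  obtain ⟨-, K, L, hL, -, ⟨e⟩⟩ :=
    CfsgLib.Qd.sections_of_not_mem (by omega) P hP ha hquad h
  haveI := hL
  haveI : Group.IsSolvable (K ⧸ L.subgroupOf K) := inferInstance
  have hs : Group.IsSolvable (Matrix.SpecialLinearGroup (Fin 2) (ZMod q)) :=
    CfsgLib.Coprime.isSolvable_congr e inferInstance
  haveI : Fact (1 < q) := ⟨hq.out.one_lt⟩
  haveI : Nontrivial (Matrix.SpecialLinearGroup (Fin 2) (ZMod q)) := by
    refine ⟨⟨1, ⟨!![1, 1; 0, 1], by simp [Matrix.det_fin_two]⟩, fun h => ?_⟩⟩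
    have := congrArg (fun M : Matrix.SpecialLinearGroup (Fin 2) (ZMod q) =>
      (M : Matrix (Fin 2) (Fin 2) (ZMod q)) 0 1) h
    simp at this
  haveI := hs
  exact (Group.IsSolvable.commutator_lt_top_of_nontrivial _).ne
    (CfsgLib.Coprime.QdRankTwo.commutator_sl_eq_top (p := q) (by omega))

/-- A `q`-element centralising the other primary parts of `F(G)` and acting quadratically on the
`q`-part lies in `F(G)`. -/
theorem mem_fitting_of_quadratic [Group.IsSolvable G] {q : ℕ} [hq : Fact q.Prime] (hq5 : 5 ≤ q)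
    {a : G} (hoth : ∀ r : ℕ, r.Prime → r ≠ q → a ∈ centralizer (Cfsg.pCore r G : Set G))
    (hquad : ⁅⁅Cfsg.pCore q G, zpowers a⁆, zpowers a⁆ = ⊥) :
    a ∈ Cfsg.fittingSubgroup G := by
  set P := Cfsg.pCore q G with hPdef
  haveI hPn : P.Normal := CfsgLib.Coprime.pCore_normal' q
  haveI := CfsgLib.Coprime.fitting_normal (G := G)
  have htop : normalizer (P : Set G) = ⊤ := normalizer_eq_top_iff.2 hPn
  have ha : a ∈ normalizer (P : Set G) := htop ▸ mem_top a
  have hcore := quadratic_mem_core hq5 (CfsgLib.Coprime.pCore_isPGroup q) ha hquad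
  set π := QuotientGroup.mk' ((centralizer (P : Set G)).subgroupOf (normalizer (P : Set G)))
    with hπ
  set Y₀ := (Cfsg.pCore q _).comap π with hY₀
  haveI := CfsgLib.Coprime.pCore_normal' (G := (normalizer (P : Set G)) ⧸
    (centralizer (P : Set G)).subgroupOf (normalizer (P : Set G))) q
  haveI : Y₀.Normal := Subgroup.Normal.comap inferInstance π
  set N := normalClosure ({a} : Set G) with hN
  have hNY : N ≤ Y₀.map (normalizer (P : Set G)).subtype := by
    haveI : (Y₀.map (normalizer (P : Set G)).subtype).Normal :=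
      Subgroup.Normal.map inferInstance _ fun g => ⟨⟨g, htop ▸ mem_top g⟩, rfl⟩
    exact normalClosure_le_normal (Set.singleton_subset_iff.2 ⟨⟨a, ha⟩, hcore, rfl⟩)
  have hNr : ∀ r : ℕ, r.Prime → r ≠ q → N ≤ centralizer (Cfsg.pCore r G : Set G) := by
    intro r hr hrq
    haveI := CfsgLib.Coprime.pCore_normal' (G := G) r
    exact normalClosure_le_normal (Set.singleton_subset_iff.2 (hoth r hr hrq))
  have hpow : ∀ y ∈ N, ∃ j, y ^ q ^ j ∈ centralizer (N : Set G) := by
    intro y hy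
    obtain ⟨y', hy', hyy⟩ := hNY hy
    obtain ⟨e, he⟩ := CfsgLib.Coprime.pCore_isPGroup q ⟨π y', hy'⟩
    have hyP : y ^ q ^ e ∈ centralizer (P : Set G) := by
      have h := (QuotientGroup.eq_one_iff (y' ^ q ^ e)).1
        ((map_pow π y' _).trans (congrArg Subtype.val he))
      rw [mem_subgroupOf] at h
      rw [← hyy]
      exact h
    have hyF : y ^ q ^ e ∈ Cfsg.fittingSubgroup G := by
      refine CfsgLib.Coprime.centralizer_fitting_le (mem_centralizer_iff.2 fun w hw => ?_)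
      have hle : Cfsg.fittingSubgroup G ≤ centralizer ({y ^ q ^ e} : Set G) := by
        rw [CfsgLib.Coprime.fitting_eq_iSup_pCore]
        refine iSup_le fun r w hw => mem_centralizer_singleton_iff.2 ?_
        by_cases hrq : (r : ℕ) = q
        · rw [hrq] at hw
          exact mem_centralizer_iff.1 hyP w hw
        · exact mem_centralizer_iff.1 (hNr r r.2 hrq (pow_mem hy _)) w hw
      exact mem_centralizer_singleton_iff.1 (hle hw)
    obtain ⟨z₁, z₂, hz₁, hz₂, hz, ⟨f, hf⟩, hco⟩ := exists_parts q (y ^ q ^ e)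
    refine ⟨e + f, mem_centralizer_iff.2 fun w hw => ?_⟩
    have hz₂F : z₂ ∈ Cfsg.fittingSubgroup G := (zpowers_le.2 hyF) hz₂
    have hcomm : Commute z₁ z₂ := by
      obtain ⟨i, rfl⟩ := mem_zpowers_iff.1 hz₁
      obtain ⟨j, rfl⟩ := mem_zpowers_iff.1 hz₂
      exact (Commute.refl _).zpow_zpow i j
    rw [pow_add, pow_mul, ← hz, hcomm.mul_pow, hf, one_mul]
    have hz₂w : Commute w z₂ := by
      have hle : zpowers z₂ ≤ centralizer ({w} : Set G) := by
        rw [zpowers_le]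
        -- `z₂` is a product of its primary parts, each centralised by `w`
        have key : ∀ n : ℕ, ∀ z : G, orderOf z = n → z ∈ Cfsg.fittingSubgroup G →
            (orderOf z).Coprime q → z ∈ centralizer ({w} : Set G) := by
          intro n
          induction n using Nat.strong_induction_on with
          | _ n ih =>
          intro z hzn hzF hzq
          by_cases h1 : z = 1
          · rw [h1]; exact one_mem _
          obtain ⟨r, hr, hrd⟩ := Nat.exists_prime_and_dvd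
            (fun h => h1 (orderOf_eq_one_iff.1 h) : orderOf z ≠ 1)
          haveI := Fact.mk hr
          have hrq : r ≠ q := fun h => hq.out.coprime_iff_not_dvd.1 hzq.symm (h ▸ hrd)
          obtain ⟨u₁, u₂, hu₁, hu₂, hu, ⟨k, hk⟩, huco⟩ := exists_parts r z
          have h₁ : u₁ ∈ centralizer ({w} : Set G) := mem_centralizer_singleton_iff.2
            (mem_centralizer_iff.1 (hNr r hr hrq hw) u₁
              (CfsgLib.PGroup.QBaer.mem_pCore_of_mem_fitting hk ((zpowers_le.2 hzF) hu₁)))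
          have hdvd : orderOf u₂ ∣ orderOf z := orderOf_dvd_of_mem_zpowers hu₂
          have hlt : orderOf u₂ < n := hzn ▸ lt_of_le_of_ne (Nat.le_of_dvd (orderOf_pos z) hdvd)
            fun h => hr.coprime_iff_not_dvd.1 huco.symm (h ▸ hrd)
          rw [← hu]
          exact mul_mem h₁ (ih _ hlt u₂ rfl ((zpowers_le.2 hzF) hu₂)
            (Nat.Coprime.coprime_dvd_left hdvd hzq))
        exact key _ z₂ rfl hz₂F hco
      exact (mem_centralizer_singleton_iff.1 (hle (mem_zpowers z₂))).symm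
    exact (hz₂w.pow_right _).eq
  have hnil : Group.IsNilpotent N := by
    have hZ : ∀ y : N, ∃ j, y ^ q ^ j ∈ center N := fun y => by
      obtain ⟨j, hj⟩ := hpow y y.2
      exact ⟨j, mem_center_iff.2 fun w => Subtype.ext
        (by simpa using mem_centralizer_iff.1 hj w w.2)⟩
    haveI : Group.IsNilpotent (N ⧸ center N) := IsPGroup.isNilpotent (p := q) fun y => by
      induction y using QuotientGroup.induction_on with
      | _ y =>
        obtain ⟨j, hj⟩ := hZ y
        exact ⟨j, (QuotientGroup.eq_one_iff _).2 hj⟩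
    exact Subgroup.isNilpotent_of_ker_le_center (QuotientGroup.mk' (center N))
      (by rw [QuotientGroup.ker_mk'])
  exact CfsgLib.Coprime.le_fitting hnil (subset_normalClosure (Set.mem_singleton a))

/-- The reduced case: a `q`-element centralising `A` lies in `A`. -/
theorem mem_of_reduced [Group.IsSolvable G] {π : Set ℕ} (h2 : 2 ∉ π) (h3 : 3 ∉ π)
    (hO : Cfsg.piCore πᶜ G = ⊥) {H F A : Subgroup G} (hH : Cfsg.IsPiHall π H)
    (hF : F = (Cfsg.fittingSubgroup H).map H.subtype) (hA : Cfsg.IsSCN F A) {q : ℕ}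
    [hq : Fact q.Prime] (hqπ : q ∈ π) {x : G} (hx : ∃ k, x ^ q ^ k = 1)
    (hxA : x ∈ centralizer (A : Set G)) : x ∈ A := by
  obtain ⟨hAF, hFA, hcA⟩ := hA
  set K := Cfsg.fittingSubgroup G with hK
  haveI := CfsgLib.Coprime.fitting_normal (G := G)
  have hπ5 : ∀ r : ℕ, r.Prime → r ∈ π → 5 ≤ r := by
    intro r hr hrπ
    by_contra h
    have := hr.two_le
    interval_cases r
    · exact h2 hrπ
    · exact h3 hrπ
    · exact absurd hr (by norm_num)
  have hAab : ∀ a ∈ A, ∀ b ∈ A, a * b = b * a := fun a ha b hb => by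
    rw [← hcA] at hb
    exact mem_centralizer_iff.1 hb.2 a ha
  -- the Fitting group is a `π`-group inside `F(H)`
  have hKπ : ∀ r : ℕ, r.Prime → r ∉ π → Cfsg.pCore r G = ⊥ := by
    intro r hr hrπ
    haveI := Fact.mk hr
    haveI := CfsgLib.Coprime.pCore_normal' (G := G) r
    refine le_bot_iff.1 (hO ▸ CfsgLib.Coprime.le_piCore fun s hs hsd => ?_)
    obtain ⟨k, hk⟩ := IsPGroup.iff_card.1 (CfsgLib.Coprime.pCore_isPGroup (G := G) r)
    rw [hk] at hsd
    rw [(Nat.prime_dvd_prime_iff_eq hs hr).1 (hs.dvd_of_dvd_pow hsd)]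
    exact hrπ
  have hKH : K ≤ H := by
    rw [hK, CfsgLib.Coprime.fitting_eq_iSup_pCore]
    refine iSup_le fun r => ?_
    haveI := Fact.mk r.2
    haveI := CfsgLib.Coprime.pCore_normal' (G := G) (r : ℕ)
    by_cases hrπ : (r : ℕ) ∈ π
    · have hp := CfsgLib.Coprime.pCore_isPGroup (G := G) (r : ℕ)
      have h1 := CfsgLib.Coprime.relIndex_sup_dvd_card H (Cfsg.pCore r G)
      obtain ⟨k, hk⟩ := IsPGroup.iff_card.1 hp
      obtain ⟨j, -, hj⟩ := (Nat.dvd_prime_pow r.2).1 (hk ▸ h1)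
      rcases Nat.eq_zero_or_pos j with h0 | h0
      · exact le_sup_right.trans (relIndex_eq_one.1 (by rw [hj, h0, pow_zero]))
      · exact absurd ((dvd_pow_self (r : ℕ) h0.ne').trans (hj ▸ relIndex_dvd_index_of_le le_sup_left))
          (hH.2 r r.2 hrπ)
    · rw [hKπ r r.2 hrπ]; exact bot_le
  have hKF : K ≤ F := by
    haveI : (K.subgroupOf H).Normal := inferInstance
    have h := CfsgLib.Coprime.le_fitting (N := K.subgroupOf H)
      (Group.nilpotent_of_mulEquiv (subgroupOfEquivOfLe hKH).symm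
        (_h := CfsgLib.Coprime.fitting_isNilpotent))
    intro k hk
    rw [hF]
    exact ⟨⟨k, hKH hk⟩, h hk, rfl⟩
  have hKA : ∀ k ∈ K, ∀ a ∈ A, k * a * k⁻¹ ∈ A := fun k hk a ha =>
    conj_mem_of_le_normalizer hFA (hKF hk) ha
  have hPK : ∀ r : ℕ, r.Prime → Cfsg.pCore r G ≤ K := fun r hr => by
    haveI := Fact.mk hr
    exact CfsgLib.Coprime.pCore_le_fitting r
  -- elements centralising `A` act quadratically
  have hquad : ∀ y ∈ centralizer (A : Set G), ∀ r : ℕ, r.Prime →
      ⁅⁅Cfsg.pCore r G, zpowers y⁆, zpowers y⁆ = ⊥ := by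
    intro y hy r hr
    haveI := CfsgLib.Coprime.pCore_normal' (G := G) r
    have hle : ⁅Cfsg.pCore r G, zpowers y⁆ ≤ A := by
      refine commutator_le.2 fun k hk z hz => ?_
      rw [← hcA]
      refine ⟨hKF (hPK r hr ?_), ?_⟩
      · rw [commutatorElement_def]
        rw [show k * z * k⁻¹ * z⁻¹ = k * (z * k⁻¹ * z⁻¹) by group]
        exact mul_mem hk ((inferInstance : (Cfsg.pCore r G).Normal).conj_mem _ (inv_mem hk) z)
      · have hzc : z ∈ centralizer (A : Set G) := (zpowers_le.2 hy) hz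
        rw [commutatorElement_def]
        refine mul_mem ?_ ((centralizer (A : Set G)).inv_mem hzc)
        refine mem_centralizer_iff.2 fun a ha => ?_
        have h := mem_centralizer_iff.1 hzc (k⁻¹ * a * k)
          (by simpa using hKA k⁻¹ (inv_mem (hPK r hr hk)) a ha)
        calc a * (k * z * k⁻¹) = k * ((k⁻¹ * a * k) * z) * k⁻¹ := by group
          _ = k * z * k⁻¹ * a := by rw [h]; group
    rw [eq_bot_iff, ← commutator_eq_bot_iff_le_centralizer.2 (le_centralizer_iff.1 (zpowers_le.2 hy))]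
    exact commutator_mono hle le_rfl
  have hAc : A ≤ centralizer (A : Set G) := fun a ha => mem_centralizer_iff.2 fun b hb => hAab b hb a ha
  -- coprime quadratic action is trivial
  have hcop : ∀ y ∈ centralizer (A : Set G), ∀ r : ℕ, r.Prime → (orderOf y).Coprime r →
      y ∈ centralizer (Cfsg.pCore r G : Set G) := by
    intro y hy r hr hco
    haveI := Fact.mk hr
    haveI := CfsgLib.Coprime.pCore_normal' (G := G) r
    obtain ⟨k, hk⟩ := IsPGroup.iff_card.1 (CfsgLib.Coprime.pCore_isPGroup (G := G) r)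
    have h := CfsgLib.Coprime.commutator_commutator_eq (A := zpowers y) (K := Cfsg.pCore r G)
      (le_top.trans_eq (normalizer_eq_top_iff.2 (CfsgLib.Coprime.pCore_normal' r)).symm)
      (by rw [Nat.card_zpowers, hk]; exact hco.pow_right k) (Or.inr inferInstance)
    rw [hquad y hy r hr, eq_comm, commutator_eq_bot_iff_le_centralizer, le_centralizer_iff] at h
    exact h (mem_zpowers y)
  have hFH : F ≤ H := hF ▸ map_subtype_le _
  have hAK : A ≤ K := by
    have hT : ∀ s : ℕ, s.Prime → ∀ a ∈ A, (∃ k, a ^ s ^ k = 1) → a ∈ K := by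
      intro s hs a ha ⟨k, hk⟩
      by_cases h1 : a = 1
      · rw [h1]; exact one_mem _
      haveI := Fact.mk hs
      obtain ⟨j, -, hj⟩ := (Nat.dvd_prime_pow hs).1 (orderOf_dvd_of_pow_eq_one hk)
      have hsπ : s ∈ π := by
        refine hH.1 s hs (dvd_trans ?_ (Subgroup.orderOf_dvd_natCard H (hFH (hAF ha))))
        rw [hj]
        refine dvd_pow_self s fun h0 => h1 (orderOf_eq_one_iff.1 ?_)
        rw [hj, h0, pow_zero]
      exact mem_fitting_of_quadratic (hπ5 s hs hsπ) (fun r hr hrs => hcop a (hAc ha) r hr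
        (hj ▸ ((Nat.coprime_primes hs hr).2 (Ne.symm hrs)).pow_left j)) (hquad a (hAc ha) s hs)
    intro a ha
    have key : ∀ n : ℕ, ∀ z : G, orderOf z = n → z ∈ A → z ∈ K := by
      intro n
      induction n using Nat.strong_induction_on with
      | _ n ih =>
      intro z hzn hz
      by_cases h1 : z = 1
      · rw [h1]; exact one_mem _
      obtain ⟨r, hr, hrd⟩ := Nat.exists_prime_and_dvd
        (fun h => h1 (orderOf_eq_one_iff.1 h) : orderOf z ≠ 1)
      haveI := Fact.mk hr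
      obtain ⟨u₁, u₂, hu₁, hu₂, hu, hk, huco⟩ := exists_parts r z
      have hlt : orderOf u₂ < n := hzn ▸ lt_of_le_of_ne
        (Nat.le_of_dvd (orderOf_pos z) (orderOf_dvd_of_mem_zpowers hu₂))
        fun h => hr.coprime_iff_not_dvd.1 huco.symm (h ▸ hrd)
      rw [← hu]
      exact mul_mem (hT r hr u₁ ((zpowers_le.2 hz) hu₁) hk) (ih _ hlt u₂ rfl ((zpowers_le.2 hz) hu₂))
    exact key _ a rfl ha
  -- `x` centralises the other primary parts
  obtain ⟨k, hk⟩ := hx
  obtain ⟨j, -, hj⟩ := (Nat.dvd_prime_pow hq.out).1 (orderOf_dvd_of_pow_eq_one hk)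
  have hxK : x ∈ K := mem_fitting_of_quadratic (hπ5 q hq.out hqπ) (fun r hr hrq => hcop x hxA r hr
    (hj ▸ ((Nat.coprime_primes hq.out hr).2 (Ne.symm hrq)).pow_left j)) (hquad x hxA q hq.out)
  exact hcA.le ⟨hKF hxK, hxA⟩

theorem mem_of_centralizer [Group.IsSolvable G] {π : Set ℕ} (h2 : 2 ∉ π) (h3 : 3 ∉ π)
    {H F A : Subgroup G} (hH : Cfsg.IsPiHall π H)
    (hF : F = (Cfsg.fittingSubgroup H).map H.subtype) (hA : Cfsg.IsSCN F A) {q : ℕ}
    [hq : Fact q.Prime] (hqπ : q ∈ π) {x : G} (hx : ∃ k, x ^ q ^ k = 1)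
    (hxA : x ∈ centralizer (A : Set G)) : x ∈ A := by
  obtain ⟨hAF, hFA, hcA⟩ := hA
  set N := Cfsg.piCore πᶜ G with hN
  set f := QuotientGroup.mk' N with hf
  have hFH : F ≤ H := hF ▸ map_subtype_le _
  have hinj : Function.Injective (f.comp H.subtype) := by
    refine (injective_iff_map_eq_one _).2 fun y hy => ?_
    have hd : H ⊓ N = ⊥ := CfsgLib.Coprime.disjoint_of_coprime_card
      (CfsgLib.Coprime.isPiNum_coprime (π := π) hH.1 (CfsgLib.Coprime.piCore_isPiNum _))
    exact Subtype.ext ((mem_bot).1 (hd ▸ (⟨y.2, (QuotientGroup.eq_one_iff (y : G)).1 hy⟩ :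
      (y : G) ∈ H ⊓ N)))
  have hinjH : ∀ y ∈ H, ∀ z ∈ H, f y = f z → y = z := fun y hy z hz h =>
    congrArg Subtype.val (hinj (a₁ := ⟨y, hy⟩) (a₂ := ⟨z, hz⟩) h)
  have hbij : Function.Bijective (f.subgroupMap H) := by
    refine ⟨fun y z h => hinj (congrArg Subtype.val h), ?_⟩
    exact f.subgroupMap_surjective H
  have hFb : F.map f = (Cfsg.fittingSubgroup ↥(H.map f)).map (H.map f).subtype := by
    have hcompat : (H.map f).subtype.comp (MulEquiv.ofBijective _ hbij).toMonoidHom =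
        f.comp H.subtype := MonoidHom.ext fun y => rfl
    rw [hF, ← CfsgLib.Coprime.map_fitting_equiv (MulEquiv.ofBijective _ hbij), Subgroup.map_map,
      Subgroup.map_map, hcompat]
  have hHb : Cfsg.IsPiHall π (H.map f) :=
    ⟨fun r hr hd => hH.1 r hr (hd.trans (Subgroup.card_map_dvd H f)), fun r hr hrπ hd =>
      hH.2 r hr hrπ (hd.trans (index_map_dvd H (QuotientGroup.mk'_surjective N)))⟩
  have hAb : Cfsg.IsSCN (F.map f) (A.map f) := by
    refine ⟨map_mono hAF, (map_mono hFA).trans (le_normalizer_map f), le_antisymm ?_ ?_⟩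
    · rintro _ ⟨⟨y, hy, rfl⟩, hyc⟩
      refine ⟨y, hcA.le ⟨hy, mem_centralizer_iff.2 fun a ha => ?_⟩, rfl⟩
      exact hinjH _ (mul_mem (hFH (hAF ha)) (hFH hy)) _ (mul_mem (hFH hy) (hFH (hAF ha)))
        (by rw [map_mul, map_mul]; exact mem_centralizer_iff.1 hyc _ ⟨a, ha, rfl⟩)
    · rintro _ ⟨a, ha, rfl⟩
      refine ⟨⟨a, hAF ha, rfl⟩, mem_centralizer_iff.2 ?_⟩
      rintro _ ⟨b, hb, rfl⟩
      rw [← map_mul, ← map_mul]
      refine congrArg f ?_
      exact mem_centralizer_iff.1 (hcA.ge ha).2 b hb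
  obtain ⟨k, hk⟩ := hx
  have hxb : f x ∈ A.map f := by
    refine mem_of_reduced h2 h3 (CfsgLib.Coprime.piCore_quotient_eq_bot _) hHb hFb hAb hqπ
      ⟨k, by rw [← map_pow, hk, map_one]⟩ (mem_centralizer_iff.2 ?_)
    rintro _ ⟨a, ha, rfl⟩
    rw [← map_mul, ← map_mul, mem_centralizer_iff.1 hxA a ha]
  obtain ⟨a, ha, hax⟩ := hxb
  set n := a⁻¹ * x with hn
  have hnN : n ∈ N := (QuotientGroup.eq_one_iff n).1
    (show f n = 1 by rw [hn, map_mul, map_inv, hax, inv_mul_cancel])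
  have hcomm : Commute a n := by
    have h : Commute a x := mem_centralizer_iff.1 hxA a ha
    exact ((Commute.refl a).inv_right).mul_right h
  have hxm : x ^ Nat.card N ∈ A := by
    rw [show x = a * n by rw [hn, mul_inv_cancel_left], hcomm.mul_pow,
      show n ^ Nat.card N = 1 from congrArg Subtype.val (pow_card_eq_one' (x := (⟨n, hnN⟩ : N))),
      mul_one]
    exact pow_mem ha _
  have hco : Nat.gcd (q ^ k) (Nat.card N) = 1 := by
    refine Nat.Coprime.pow_left k (hq.out.coprime_iff_not_dvd.2 fun hd => ?_)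
    exact CfsgLib.Coprime.piCore_isPiNum πᶜ q hq.out hd hqπ
  have e' : x = (x ^ q ^ k) ^ (Nat.gcdA (q ^ k) (Nat.card N)) *
      (x ^ Nat.card N) ^ (Nat.gcdB (q ^ k) (Nat.card N)) := by
    rw [← zpow_natCast x (q ^ k), ← zpow_natCast x (Nat.card N), ← zpow_mul, ← zpow_mul,
      ← zpow_add, ← Nat.gcd_eq_gcd_ab, hco, Nat.cast_one, zpow_one]
  rw [e', hk, one_zpow, one_mul]
  exact zpow_mem hxm _

theorem exists_direct_complement [Group.IsSolvable G] {π : Set ℕ} (h2 : 2 ∉ π) (h3 : 3 ∉ π)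
    {H A : Subgroup G} (hH : Cfsg.IsPiHall π H)
    (hA : Cfsg.IsSCN ((Cfsg.fittingSubgroup H).map H.subtype) A) :
    ∃ D : Subgroup G, D ≤ centralizer (A : Set G) ∧
      (∀ c ∈ centralizer (A : Set G), ∀ d ∈ D, c * d * c⁻¹ ∈ D) ∧
      A ⊓ D = ⊥ ∧ A ⊔ D = centralizer (A : Set G) ∧
      ∀ q : ℕ, q.Prime → q ∣ Nat.card D → q ∉ π := by
  obtain ⟨hAF, hFA, hcA⟩ := id hA
  set C := centralizer (A : Set G) with hC
  have hAC : A ≤ C := fun a ha => by
    rw [← hcA] at ha; exact ha.2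
  have hAH : A ≤ H := hAF.trans (map_subtype_le _)
  set A' := A.subgroupOf C with hA'
  haveI : A'.Normal := ⟨fun a ha g => by
    show (g : G) * a * (g : G)⁻¹ ∈ A
    have h : (a : G) * g = g * a := mem_centralizer_iff.1 g.2 _ ha
    rw [← h, mul_inv_cancel_right]
    exact ha⟩
  have hidx : ∀ r : ℕ, r.Prime → r ∈ π → ¬ r ∣ A'.index := by
    intro r hr hrπ hd
    haveI := Fact.mk hr
    obtain ⟨P⟩ : Nonempty (Sylow r C) := inferInstance
    have hPA : (P : Subgroup C) ≤ A' := by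
      intro y hy
      obtain ⟨k, hk⟩ := P.2 ⟨y, hy⟩
      exact mem_of_centralizer h2 h3 hH rfl hA hrπ
        ⟨k, congrArg (fun z : (P : Subgroup C) => ((z : C) : G)) hk⟩ y.2
    exact P.not_dvd_index (hd.trans (index_dvd_of_le hPA))
  have hcop : (Nat.card A').Coprime A'.index := by
    refine Nat.coprime_of_dvd fun r hr hrA hrI => hidx r hr (hH.1 r hr ?_) hrI
    rw [Nat.card_congr (subgroupOfEquivOfLe hAC).toEquiv] at hrA
    exact hrA.trans (card_dvd_of_le hAH)
  obtain ⟨D', hD'⟩ := exists_right_complement'_of_coprime hcop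
  refine ⟨D'.map C.subtype, map_subtype_le D', ?_, ?_, ?_, ?_⟩
  · rintro c hc _ ⟨d, hd, rfl⟩
    obtain ⟨⟨⟨a, ha⟩, ⟨e, he⟩⟩, hae⟩ := hD'.2 ⟨c, hc⟩
    refine ⟨e * d * e⁻¹, mul_mem (mul_mem he hd) (inv_mem he), ?_⟩
    have hcd : c = (a : G) * e := (congrArg Subtype.val hae).symm
    show (e : G) * d * (e : G)⁻¹ = c * d * c⁻¹
    have h : ∀ y : C, Commute (a : G) y := fun y => mem_centralizer_iff.1 y.2 _ ha
    rw [hcd, mul_inv_rev,
      show (a : G) * e * d * ((e : G)⁻¹ * (a : G)⁻¹) = a * ((e * d * e⁻¹ : C) : G) * (a : G)⁻¹ by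
        push_cast; group]
    rw [(h _).eq, mul_inv_cancel_right]
    rfl
  · rw [eq_bot_iff]
    rintro y ⟨hyA, d, hd, rfl⟩
    have : d ∈ A' ⊓ D' := ⟨hyA, hd⟩
    rw [hD'.isCompl.inf_eq_bot] at this
    rw [mem_bot.1 this]
    exact one_mem _
  · refine le_antisymm (sup_le hAC (map_subtype_le D')) fun c hc => ?_
    obtain ⟨⟨⟨a, ha⟩, ⟨e, he⟩⟩, hae⟩ := hD'.2 ⟨c, hc⟩
    rw [show c = (a : G) * e from (congrArg Subtype.val hae).symm]
    exact mul_mem (mem_sup_left ha) (mem_sup_right ⟨e, he, rfl⟩)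
  · intro r hr hd hrπ
    rw [card_subtype] at hd
    have h := hD'.symm.index_eq_card
    exact hidx r hr hrπ (h ▸ hd)

end CfsgLib.HallFittingSCN
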