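import Cfsg.Agent.Lib.CFun.SectionInd

/-!
# Quotients of order `p` from control of transfer
-/

set_option autoImplicit false
set_option linter.style.haveILetI false

open Subgroup
open scoped commutatorElement

namespace CfsgLib.CFun

universe u

theorem exists_index_of_not_le {G : Type u} [Group G] [Finite G] {p : ℕ} [Fact p.Prime]
    {S : Subgroup G} (hS : IsPGroup p S) (h : ¬ S ≤ commutator G) :
    ∃ N : Subgroup G, N.Normal ∧ N.index = p := by
  obtain ⟨s, hs, hs'⟩ := SetLike.not_le_iff_exists.1 h
  set a : Abelianization G := Abelianization.of s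
  have ha : a ≠ 1 := fun e => hs' (by rw [← Abelianization.ker_of]; exact e)
  set c := Nat.card (Abelianization G)
  set n := c / p ^ c.factorization p
  let f : G →* Abelianization G := (powMonoidHom n).comp Abelianization.of
  have hfp : IsPGroup p f.range := by
    rintro ⟨_, g, rfl⟩
    refine ⟨c.factorization p, Subtype.ext ?_⟩
    show (Abelianization.of g ^ n) ^ p ^ c.factorization p = 1
    rw [← pow_mul, mul_comm, Nat.ordProj_mul_ordCompl_eq_self, pow_card_eq_one']
  have hfa : f s ≠ 1 := by
    intro e
    obtain ⟨k, hk⟩ := hS ⟨s, hs⟩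
    have hk' : a ^ p ^ k = 1 := by
      have := congrArg (fun z : S => Abelianization.of (z : G)) hk
      simpa [a, map_pow] using this
    exact ha (orderOf_eq_one_iff.1 (Nat.eq_one_of_dvd_coprimes
      (Nat.Coprime.pow_left k (Nat.coprime_ordCompl Fact.out Nat.card_pos.ne'))
      (orderOf_dvd_of_pow_eq_one hk') (orderOf_dvd_of_pow_eq_one e)))
  obtain ⟨m, hm⟩ := hfp.exists_card_eq
  have hm0 : m ≠ 0 := by
    rintro rfl
    rw [pow_zero, Subgroup.card_eq_one] at hm
    exact hfa (mem_bot.1 (hm ▸ MonoidHom.mem_range.2 ⟨s, rfl⟩))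
  obtain ⟨M, hM⟩ := Sylow.exists_subgroup_card_pow_prime p (G := f.range) (n := m - 1)
    (by rw [hm]; exact pow_dvd_pow p (Nat.sub_le m 1))
  haveI : IsMulCommutative f.range := inferInstance
  haveI : M.Normal := inferInstance
  refine ⟨M.comap f.rangeRestrict, inferInstance, ?_⟩
  rw [Subgroup.index_comap_of_surjective _ f.rangeRestrict_surjective]
  have h1 := M.card_mul_index
  rw [hM, hm, ← Nat.sub_add_cancel (Nat.one_le_iff_ne_zero.2 hm0), pow_succ, Nat.add_sub_cancel] at h1
  exact Nat.eq_of_mul_eq_mul_left (pow_pos (Fact.out : p.Prime).pos _) h1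

variable {p : ℕ} [Fact p.Prime] {W : ∀ (Q : Type u) [Group Q], Subgroup Q}

/-- The `p`-part and the `p'`-part of an element. -/
theorem exists_parts {G : Type u} [Group G] [Finite G] (g : G) :
    ∃ a b : G, g = a * b ∧ a ∈ zpowers g ∧ b ∈ zpowers g ∧ (∃ k, a ^ p ^ k = 1) ∧
      (orderOf b).Coprime p := by
  set o := orderOf g
  have ho : 0 < o := orderOf_pos g
  set k := o.factorization p
  set m := o / p ^ k
  have hco : (p ^ k).Coprime m := Nat.Coprime.pow_left k (Nat.coprime_ordCompl Fact.out ho.ne')
  obtain ⟨x, y, hxy⟩ := Nat.isCoprime_iff_coprime.2 hco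
  have hmul : p ^ k * m = o := Nat.ordProj_mul_ordCompl_eq_self o p
  refine ⟨g ^ (y * (m : ℤ)), g ^ (x * ((p ^ k : ℕ) : ℤ)), ?_, zpow_mem (mem_zpowers g) _,
    zpow_mem (mem_zpowers g) _, ⟨k, ?_⟩, ?_⟩
  · rw [← zpow_add, add_comm, hxy, zpow_one]
  · rw [← zpow_natCast (g ^ _), ← zpow_mul, mul_assoc, ← Nat.cast_mul, mul_comm m, hmul, mul_comm,
      zpow_mul, zpow_natCast, pow_orderOf_eq_one, one_zpow]
  · refine Nat.Coprime.coprime_dvd_left (orderOf_dvd_of_pow_eq_one (n := m) ?_)
      (Nat.coprime_comm.1 (Nat.coprime_ordCompl Fact.out ho.ne'))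
    rw [← zpow_natCast (g ^ _), ← zpow_mul, mul_assoc, ← Nat.cast_mul, hmul, mul_comm,
      zpow_mul, zpow_natCast, pow_orderOf_eq_one, one_zpow]

/-- A group whose Sylow automizer is a `p`-group has a normal subgroup of index `p`, if a functor
controls transfer in all its sections. -/
theorem exists_index_p_of_control (hW : Cfsg.IsCharPFunctor.{u} p W) (n : ℕ) :
    ∀ (G : Type u) [Group G] [Finite G],
      (∀ (Y : Type u) [Group Y] [Finite Y], Cfsg.Involves Y G → Ctrl p {W} Y) →
      ∀ S : Sylow p G, Nat.card (S : Subgroup G) = n → (S : Subgroup G) ≠ ⊥ →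
      (∀ g ∈ normalizer ((S : Subgroup G) : Set G), (orderOf g).Coprime p →
        g ∈ centralizer ((S : Subgroup G) : Set G)) →
      ¬ (S : Subgroup G) ≤ commutator G := by
  induction n using Nat.strong_induction_on with
  | _ n ih =>
    intro G _ _ hctl S hn hSne hN hle
    set S0 : Subgroup G := (S : Subgroup G)
    have h𝓦 : ∀ W' ∈ ({W} : Set _), Cfsg.IsCharPFunctor.{u} p W' := fun W' h =>
      Set.mem_singleton_iff.1 h ▸ hW
    have hc := (ctrl_iff h𝓦 S).1 (hctl G (involves_self G))
    rw [inf_eq_left.2 hle, show famSup (indFam G {W}) S0 ⊤ = S0 ⊓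
      ⁅normalizer ((Cfsg.inducedFunctor W S0 : Subgroup G) : Set G),
        normalizer ((Cfsg.inducedFunctor W S0 : Subgroup G) : Set G)⁆ by
      simp [famSup, indFam], eq_comm, inf_eq_left] at hc
    set X := Cfsg.inducedFunctor W S0 with hX
    set H := normalizer (X : Set G) with hH
    have hSH : S0 ≤ H := le_normalizer.trans (cfun_normalizer_le (isConjugacyFunctor_induced hW) S.2)
    have hNH : normalizer (S0 : Set G) ≤ H := cfun_normalizer_le (isConjugacyFunctor_induced hW) S.2
    let P : Sylow p H := S.subtype hSH
    have hPle : (P : Subgroup H) ≤ commutator H := by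
      rw [← Subgroup.map_le_map_iff_of_injective H.subtype_injective, H.map_subtype_commutator]
      exact (Subgroup.map_subgroupOf_eq_of_le hSH).le.trans hc
    have hPN : ∀ g ∈ normalizer ((P : Subgroup H) : Set H), (g : G) ∈ normalizer (S0 : Set G) := by
      intro g hg
      have := le_normalizer_map H.subtype (mem_map_of_mem H.subtype hg)
      rwa [show (P : Subgroup H).map H.subtype = S0 from map_subgroupOf_eq_of_le hSH] at this
    by_cases hXS : X = S0
    · -- `S` is normal in `H`
      haveI hPn : (P : Subgroup H).Normal := by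
        show (S0.subgroupOf H).Normal
        rw [hH, hXS]
        exact normal_in_normalizer
      have hcontrol : ∀ x ∈ (P : Subgroup H), ∀ g : H, g * x * g⁻¹ ∈ (P : Subgroup H) →
          ∃ m ∈ (P : Subgroup H), m * x * m⁻¹ = g * x * g⁻¹ := by
        intro x hx g _
        obtain ⟨a, b, rfl, -, -, ⟨k, hk⟩, hb⟩ := exists_parts (p := p) g
        have haP : a ∈ (P : Subgroup H) := by
          have hp : IsPGroup p (zpowers a) := fun ⟨z, hz⟩ => by
            obtain ⟨i, rfl⟩ := mem_zpowers_iff.1 hz
            exact ⟨k, Subtype.ext (by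
              show (a ^ i) ^ p ^ k = 1
              rw [← zpow_natCast, ← zpow_mul, mul_comm, zpow_mul, zpow_natCast, hk, one_zpow])⟩
          have := P.is_maximal' (IsPGroup.to_sup_of_normal_right hp P.2) le_sup_right
          exact this ▸ mem_sup_left (mem_zpowers a)
        have hbc : (b : G) ∈ centralizer (S0 : Set G) :=
          hN _ (hPN b (by rw [Subgroup.normalizer_eq_top]; exact mem_top b))
            (by rwa [Subgroup.orderOf_coe])
        refine ⟨a, haP, Subtype.ext ?_⟩
        have hcx : (x : G) * b = b * x := mem_centralizer_iff.1 hbc x hx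
        push_cast
        rw [mul_assoc (a : G) (b : G) (x : G), ← hcx]
        group
      have h2 : (P : Subgroup H) ≤ ⁅(P : Subgroup H), (P : Subgroup H)⁆ := by
        refine le_trans ?_ (CfsgLib.Fusion.focalSubgroup_le_of_control hcontrol)
        rw [← CfsgLib.Fusion.commutator_inf_eq_focal (CfsgLib.Fusion.coprime_card_focalQuotient P)]
        exact le_inf hPle le_rfl
      haveI := P.2.isNilpotent
      have h3 : commutator (P : Subgroup H) = ⊤ := by
        rw [← map_injective (P : Subgroup H).subtype_injective |>.eq_iff,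
          (P : Subgroup H).map_subtype_commutator, ← MonoidHom.range_eq_map, range_subtype]
        exact le_antisymm (commutator_le_self _) h2
      haveI : Nontrivial (P : Subgroup H) := by
        refine (Subgroup.nontrivial_iff_ne_bot _).2 fun e => hSne ?_
        rw [← map_subgroupOf_eq_of_le hSH, show S0.subgroupOf H = ⊥ from e, Subgroup.map_bot]
      exact (Group.IsSolvable.commutator_lt_top_of_nontrivial (P : Subgroup H)).ne h3
    · -- pass to `H / W(S)`
      haveI hXn : (X.subgroupOf H).Normal := normal_in_normalizer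
      set π := QuotientGroup.mk' (X.subgroupOf H)
      have hπ := QuotientGroup.mk'_surjective (X.subgroupOf H)
      set Pb := P.mapSurjective hπ
      have hne : (Pb : Subgroup (H ⧸ X.subgroupOf H)) ≠ ⊥ := by
        intro e
        change (P : Subgroup H).map π = ⊥ at e
        rw [Subgroup.map_eq_bot_iff, QuotientGroup.ker_mk'] at e
        refine hXS (le_antisymm (induced_le W S0) ?_)
        intro x hx
        exact e (show (⟨x, hSH hx⟩ : H) ∈ (P : Subgroup H) from hx)
      have hlt : Nat.card (Pb : Subgroup (H ⧸ X.subgroupOf H)) < n := by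
        have h1 : Nat.card (P : Subgroup H) = n := by
          rw [← hn]; exact Nat.card_congr (subgroupOfEquivOfLe hSH).toEquiv
        have hXne : X.subgroupOf H ≠ ⊥ := fun e => induced_ne_bot hW S.2 hSne
          (le_bot_iff.1 fun x hx => by
            have : (⟨x, le_normalizer hx⟩ : H) ∈ X.subgroupOf H := hx
            rw [e, mem_bot] at this
            simpa using congrArg Subtype.val this)
        have hXP : X.subgroupOf H ≤ (P : Subgroup H) := fun x hx => induced_le W S0 hx
        have h2 : Nat.card (P : Subgroup H) = Nat.card (X.subgroupOf H) *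
            Nat.card ((P : Subgroup H).map π) :=
          CfsgLib.Coprime.card_eq_card_mul_card_map_mk' _ hXP
        rw [← h1, h2]
        exact lt_mul_of_one_lt_left Nat.card_pos ((Subgroup.one_lt_card_iff_ne_bot _).2 hXne)
      refine ih _ hlt (H ⧸ X.subgroupOf H) (fun Y _ _ hY => hctl Y
        (CfsgLib.Fusion.involves_of_injective H.subtype H.subtype_injective
          (CfsgLib.Fusion.involves_of_surjective π hπ hY))) Pb rfl hne ?_ ?_
      · intro g hg hgc
        obtain ⟨y, rfl⟩ := hπ g
        obtain ⟨a, b, hab, hga, hgb, ⟨k, hk⟩, hb⟩ := exists_parts (p := p) y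
        have hyN : y ∈ normalizer ((P : Subgroup H) : Set H) := by
          have hc : (normalizer (((P : Subgroup H).map π : Subgroup _) : Set _)).comap π ≤
              normalizer ((P : Subgroup H) : Set H) := by
            intro z hz
            refine mem_normalizer_iff.2 fun w => ?_
            have hcm : ((P : Subgroup H).map π).comap π = (P : Subgroup H) := by
              rw [Subgroup.comap_map_eq, QuotientGroup.ker_mk',
                sup_eq_left.2 fun x hx => induced_le W S0 hx]
            conv_lhs => rw [← hcm, mem_comap]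
            conv_rhs => rw [← hcm, mem_comap, map_mul, map_mul, map_inv]
            exact mem_normalizer_iff.1 hz _
          exact hc hg
        have ha1 : π a = 1 := by
          have h1 : orderOf (π a) ∣ p ^ k := orderOf_dvd_of_pow_eq_one (by rw [← map_pow, hk, map_one])
          have h2 : π a ∈ zpowers (π y) := by
            obtain ⟨i, hi⟩ := mem_zpowers_iff.1 hga
            exact mem_zpowers_iff.2 ⟨i, by rw [← map_zpow, hi]⟩
          exact orderOf_eq_one_iff.1 (Nat.eq_one_of_dvd_coprimes
            (Nat.Coprime.pow_right k hgc) (orderOf_dvd_of_mem_zpowers h2) h1)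
        have hbN : b ∈ normalizer ((P : Subgroup H) : Set H) :=
          (zpowers_le.2 hyN) hgb
        have hbc : (b : G) ∈ centralizer (S0 : Set G) :=
          hN _ (hPN b hbN) (by rwa [Subgroup.orderOf_coe])
        rw [hab, map_mul, ha1, one_mul]
        refine mem_centralizer_iff.2 ?_
        rintro _ ⟨x, hx, rfl⟩
        rw [← map_mul, ← map_mul]
        exact congrArg π (Subtype.ext (mem_centralizer_iff.1 hbc x hx))
      · have := Subgroup.map_mono (f := π) hPle
        rw [_root_.commutator_def, Subgroup.map_commutator, Subgroup.map_top_of_surjective π hπ,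
          ← _root_.commutator_def] at this
        exact this

end CfsgLib.CFun
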