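import Cfsg.Prelude.Def_Transfer
import Cfsg.Agent.Lib.PGroup.SmallExpAut
import Cfsg.Agent.Lib.CFun.Critical

/-!
# A small exponent subgroup, invariant under a group of automorphisms, detecting coprime elements
-/

set_option autoImplicit false
set_option linter.style.haveILetI false
set_option linter.unusedSectionVars false

open Subgroup
open scoped commutatorElement
open CfsgLib.CFun (cen)

namespace CfsgLib.InvariantSmallExponent

universe u

variable {P : Type u} [Group P] [Finite P] {p : ℕ} [hp : Fact p.Prime]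

/-- A coprime automorphism with `x⁻¹ * θ x` fixed fixes `x`. -/
theorem fixed_of_quotient_fixed (hP : IsPGroup p P) (θ : MulAut P) (hθ : ¬ p ∣ orderOf θ) {x : P}
    (h : θ (x⁻¹ * θ x) = x⁻¹ * θ x) : θ x = x := by
  have := CfsgLib.PGroup.eq_one_of_fixed_iterate (φ := θ) (v := x) hp.out hP
    (pow_orderOf_eq_one θ) hθ (w := x⁻¹ * θ x) (by group) h
  exact (inv_mul_eq_one.1 this).symm

/-- An automorphism preserving `C` and fixing its small elements fixes `C`. -/
theorem fixes_of_fix_small (hP : IsPGroup p P) {C : Subgroup P}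
    (hpow : ∀ a ∈ C, a ^ p ∈ cen C) (hcc : ⁅C, C⁆ ≤ centralizer (C : Set P))
    (θ : MulAut P) (hθC : ∀ c ∈ C, θ c ∈ C) (hθ : ¬ p ∣ orderOf θ)
    (h : ∀ x ∈ C, x ^ CfsgLib.PGroup.smallExp p = 1 → θ x = x) : ∀ c ∈ C, θ c = c := by
  have hZfix : ∀ z ∈ cen C, θ z = z := by
    suffices key : ∀ (k : ℕ), ∀ z ∈ cen C, z ^ p ^ k = 1 → θ z = z by
      intro z hz
      obtain ⟨k, hk⟩ := hP z
      exact key k z hz hk
    intro k
    induction k with
    | zero => intro z _ hz; rw [pow_zero, pow_one] at hz; rw [hz, map_one]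
    | succ k ih =>
      intro z hz hzk
      have h1 := ih (z ^ p) (pow_mem hz p) (by rw [← pow_mul, ← pow_succ']; exact hzk)
      have hθz : θ z ∈ C := hθC z hz.1
      have hcm : Commute z⁻¹ (θ z) :=
        (show Commute (θ z) z from mem_centralizer_iff.1 hz.2 (θ z) hθz).symm.inv_left
      have hwp : (z⁻¹ * θ z) ^ p = 1 := by
        rw [hcm.mul_pow, ← map_pow, h1, inv_pow, inv_mul_cancel]
      refine fixed_of_quotient_fixed hP θ hθ (h _ (C.mul_mem (C.inv_mem hz.1) hθz) ?_)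
      obtain ⟨c, hc⟩ := CfsgLib.PGroup.smallExp_dvd p
      rw [hc, pow_mul, hwp, one_pow]
  intro c hc
  have hθc : θ c ∈ C := hθC c hc
  have hce : c ^ CfsgLib.PGroup.smallExp p ∈ cen C := by
    obtain ⟨d, hd⟩ := CfsgLib.PGroup.smallExp_dvd p
    rw [hd, pow_mul]; exact pow_mem (hpow c hc) d
  refine fixed_of_quotient_fixed hP θ hθ (h _ (C.mul_mem (C.inv_mem hc) hθc) ?_)
  rw [CfsgLib.PGroup.mul_pow_of_mem hpow hcc (inv_mem hc) hθc
      (CfsgLib.PGroup.dvd_choose_smallExp hp.out), ← map_pow, hZfix _ hce, inv_pow, inv_mul_cancel]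

variable (G : Subgroup (MulAut P))

/-- The `G`-invariant version of a critical subgroup inside `R`. -/
def CriticalIn (p : ℕ) (R C : Subgroup P) : Prop :=
  C ≤ R ∧ (∀ α ∈ G, ∀ c ∈ C, α c ∈ C) ∧ (∀ a ∈ C, a ^ p ∈ cen C) ∧ ⁅(⊤ : Subgroup P), C⁆ ≤ cen C

theorem exists_criticalIn (hP : IsPGroup p P) (hInn : ∀ g : P, MulAut.conj g ∈ G) {R : Subgroup P}
    (hR : ∀ α ∈ G, ∀ x ∈ R, α x ∈ R) :
    ∃ C : Subgroup P, CriticalIn G p R C ∧ R ⊓ centralizer (C : Set P) ≤ C := by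
  obtain ⟨C, hC, hmax⟩ := (Set.toFinite {C : Subgroup P | CriticalIn G p R C}).exists_maximal
    ⟨⊥, bot_le, fun α _ c hc => by rw [mem_bot.1 hc, map_one]; exact one_mem _,
      fun a ha => by rw [mem_bot.1 ha, one_pow]; exact one_mem _,
      by rw [commutator_bot_right]; exact bot_le⟩
  refine ⟨C, hC, ?_⟩
  obtain ⟨hCR, hinv, hpow, hPC⟩ := hC
  by_contra hne
  have hsymm : ∀ α ∈ G, ∀ c ∈ C, α.symm c ∈ C := fun α hα c hc => hinv _ (G.inv_mem hα) c hc
  set Z := cen C with hZdef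
  have hZmem : ∀ α ∈ G, ∀ z ∈ Z, α z ∈ Z := by
    intro α hα z hz
    refine mem_inf.2 ⟨hinv α hα z hz.1, mem_centralizer_iff.2 fun c hc => ?_⟩
    have := congrArg α (mem_centralizer_iff.1 hz.2 _ (hsymm α hα c hc))
    simpa using this
  have hcenZ : ∀ z ∈ Z, ∀ y ∈ centralizer (C : Set P), Commute z y := fun z hz y hy =>
    mem_centralizer_iff.1 hy z hz.1
  let L : Subgroup P :=
    { carrier := {l | l ∈ R ∧ l ∈ centralizer (C : Set P) ∧ l ^ p ∈ Z ∧ ∀ x : P, ⁅x, l⁆ ∈ Z}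
      one_mem' := ⟨one_mem _, one_mem _, by rw [one_pow]; exact one_mem Z,
        fun x => by rw [commutatorElement_one_right]; exact one_mem Z⟩
      mul_mem' := fun {a b} ha hb => ⟨mul_mem ha.1 hb.1, mul_mem ha.2.1 hb.2.1, by
          have hc := ha.2.2.2 b
          have hba : b * a = ⁅b, a⁆ * (a * b) := by rw [commutatorElement_def]; group
          rw [CfsgLib.PGroup.mul_pow_of_commute_commutator hba (hcenZ _ hc a ha.2.1)
            (hcenZ _ hc b hb.2.1)]
          exact mul_mem (mul_mem ha.2.2.1 hb.2.2.1) (pow_mem hc _), fun x => by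
          have e : ⁅x, a * b⁆ = ⁅x, a⁆ * (a * ⁅x, b⁆ * a⁻¹) := by
            simp only [commutatorElement_def]; group
          rw [e, ← (hcenZ _ (hb.2.2.2 x) a ha.2.1).eq, mul_inv_cancel_right]
          exact mul_mem (ha.2.2.2 x) (hb.2.2.2 x)⟩
      inv_mem' := fun {a} ha => ⟨inv_mem ha.1, inv_mem ha.2.1,
        by rw [inv_pow]; exact inv_mem ha.2.2.1, fun x => by
          have e : ⁅x, a⁻¹⁆ = a⁻¹ * ⁅x, a⁆⁻¹ * a := by simp only [commutatorElement_def]; group
          rw [e, ← (hcenZ _ (inv_mem (ha.2.2.2 x)) _ (inv_mem ha.2.1)).eq, inv_mul_cancel_right]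
          exact inv_mem (ha.2.2.2 x)⟩ }
  have hLinv : ∀ α ∈ G, ∀ l ∈ L, α l ∈ L := by
    rintro α hα l ⟨hl0, hl1, hl2, hl3⟩
    refine ⟨hR α hα l hl0, mem_centralizer_iff.2 fun c hc => ?_, ?_, fun x => ?_⟩
    · have := congrArg α (mem_centralizer_iff.1 hl1 _ (hsymm α hα c hc))
      simpa using this
    · simpa using hZmem α hα _ hl2
    · have := hZmem α hα _ (hl3 (α.symm x))
      simpa [map_commutatorElement] using this
  haveI hZn : Z.Normal := ⟨fun z hz g => hZmem (MulAut.conj g) (hInn g) z hz⟩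
  haveI hCn : C.Normal := ⟨fun z hz g => hinv (MulAut.conj g) (hInn g) z hz⟩
  haveI hRn : R.Normal := ⟨fun z hz g => hR (MulAut.conj g) (hInn g) z hz⟩
  obtain ⟨x, hxC, hxZ, -, hx⟩ := CfsgLib.CFun.exists_commutator_le hP (A := Z)
    (C := R ⊓ centralizer (C : Set P)) (H := ⊤) (by rw [Subgroup.normalizer_eq_top Z])
    (CfsgLib.Coprime.inf_le_normalizer (by rw [Subgroup.normalizer_eq_top R])
      (CfsgLib.CFun.le_normalizer_centralizer (by rw [Subgroup.normalizer_eq_top C])))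
    (by rw [Subgroup.normalizer_eq_top Z]; exact le_top)
    (fun h => hne (h.trans inf_le_left))
  obtain ⟨k, hk⟩ := hP x
  have hex : ∃ i, x ^ p ^ i ∈ Z := ⟨k, by rw [hk]; exact one_mem Z⟩
  obtain ⟨i, hi0, hi1⟩ : ∃ i, x ^ p ^ i ∉ Z ∧ x ^ p ^ (i + 1) ∈ Z := by
    by_contra hno
    push Not at hno
    obtain ⟨j, hj⟩ := hex
    exact (Nat.rec (motive := fun i => x ^ p ^ i ∉ Z) (by simpa using hxZ)
      (fun i ih => hno i ih) j) hj
  set y := x ^ p ^ i with hy
  have hyL : y ∈ L := by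
    refine ⟨pow_mem hxC.1 _, pow_mem hxC.2 _, by rw [hy, ← pow_mul, ← pow_succ]; exact hi1,
      fun w => ?_⟩
    have h1 : QuotientGroup.mk' Z x * QuotientGroup.mk' Z w =
        QuotientGroup.mk' Z w * QuotientGroup.mk' Z x := by
      refine commutatorElement_eq_one_iff_mul_comm.1 ?_
      rw [← map_commutatorElement, QuotientGroup.mk'_apply, QuotientGroup.eq_one_iff]
      exact (hx w (mem_top w)).1
    rw [← QuotientGroup.eq_one_iff, ← QuotientGroup.mk'_apply, map_commutatorElement, hy, map_pow]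
    exact (show Commute _ _ from h1).symm.pow_right _ |>.commutator_eq
  have hyC : y ∉ C := fun h => hi0 (mem_inf.2 ⟨h, hyL.2.1⟩)
  have hCL : C ≤ normalizer (L : Set P) := fun c _ => by
    haveI : L.Normal := ⟨fun z hz g => hLinv (MulAut.conj g) (hInn g) z hz⟩
    rw [Subgroup.normalizer_eq_top L]; exact mem_top c
  have hcl : ∀ c ∈ C, ∀ l ∈ L, Commute c l := fun c hc l hl => mem_centralizer_iff.1 hl.2.1 c hc
  have hmemCL : ∀ w ∈ C ⊔ L, ∃ c ∈ C, ∃ l ∈ L, c * l = w := by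
    intro w hw
    rw [← SetLike.mem_coe, coe_mul_of_left_le_normalizer_right C L hCL, Set.mem_mul] at hw
    exact hw
  have hZD : Z ≤ cen (C ⊔ L) := fun z hz => by
    refine mem_inf.2 ⟨mem_sup_left hz.1, ?_⟩
    rw [mem_centralizer_iff]
    intro w hw
    obtain ⟨c, hc, l, hl, rfl⟩ := hmemCL w hw
    exact ((CfsgLib.CFun.commute_of_mem_cen hz hc).mul_right (hcenZ z hz l hl.2.1)).eq.symm
  have htop : ∀ w ∈ C ⊔ L, ∀ x : P, ⁅x, w⁆ ∈ Z := by
    intro w hw x
    obtain ⟨c, hc, l, hl, rfl⟩ := hmemCL w hw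
    have e : ⁅x, c * l⁆ = ⁅x, c⁆ * (c * ⁅x, l⁆ * c⁻¹) := by
      simp only [commutatorElement_def]; group
    rw [e]
    exact mul_mem (hPC (commutator_mem_commutator (mem_top x) hc)) (hZn.conj_mem _ (hl.2.2.2 x) c)
  have hD : CriticalIn G p R (C ⊔ L) := by
    refine ⟨sup_le hCR fun l hl => hl.1, fun α hα w hw => ?_, fun w hw => ?_, ?_⟩
    · obtain ⟨c, hc, l, hl, rfl⟩ := hmemCL w hw
      rw [map_mul]
      exact mul_mem (mem_sup_left (hinv α hα c hc)) (mem_sup_right (hLinv α hα l hl))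
    · obtain ⟨c, hc, l, hl, rfl⟩ := hmemCL w hw
      rw [(hcl c hc l hl).mul_pow]
      exact hZD (mul_mem (hpow c hc) hl.2.2.1)
    · exact commutator_le.2 fun a _ b hb => hZD (htop b hb a)
  exact hyC (hmax hD le_sup_left (mem_sup_right hyL))

theorem exists_detector (hP : IsPGroup p P) (hInn : ∀ g : P, MulAut.conj g ∈ G) :
    ∃ D : Subgroup P,
      (∀ α ∈ G, D.map α.toMonoidHom = D) ∧
      D ≤ Subgroup.closure {y : P | ∃ α ∈ Cfsg.pResidual p ↥G, ∃ x : P,
        y = x⁻¹ * (α : MulAut P) x} ∧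
      (∀ d ∈ D, d ^ p = 1 ∨ (p = 2 ∧ d ^ 4 = 1)) ∧
      ⁅D, (⊤ : Subgroup P)⁆ ≤ D ⊓ centralizer (D : Set P) ∧
      (∀ α ∈ G, (orderOf α).Coprime p → (∀ d ∈ D, α d = d) → α = 1) ∧
      ∀ A : Subgroup P, A ≤ D → IsMulCommutative ↥A →
        (∀ B : Subgroup P, A ≤ B → B ≤ D → IsMulCommutative ↥B → B = A) →
        A.Normal ∧ ∀ α ∈ G, (∀ a ∈ A, α a = a) → ∃ k : ℕ, orderOf α = p ^ k := by
  set S := {y : P | ∃ α ∈ Cfsg.pResidual p ↥G, ∃ x : P, y = x⁻¹ * (α : MulAut P) x} with hS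
  set R := Subgroup.closure S with hRdef
  have hRinv : ∀ γ ∈ G, ∀ x ∈ R, γ x ∈ R := by
    intro γ hγ x hx
    have hle : R ≤ R.comap γ.toMonoidHom := by
      rw [hRdef, closure_le]
      rintro _ ⟨α, hα, z, rfl⟩
      refine subset_closure ⟨(⟨γ, hγ⟩ : G) * α * (⟨γ, hγ⟩ : G)⁻¹, ?_, γ z, ?_⟩
      · have hle' : Cfsg.pResidual p ↥G ≤
            (Cfsg.pResidual p ↥G).comap (MulAut.conj (⟨γ, hγ⟩ : G)).toMonoidHom := by
          refine (closure_le _).2 fun g hg => subset_closure ?_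
          show Nat.Coprime (orderOf ((MulAut.conj (⟨γ, hγ⟩ : G)) g)) p
          rw [MulEquiv.orderOf_eq]
          exact hg
        exact hle' hα
      · show γ (z⁻¹ * (α : MulAut P) z) = _
        simp
    exact hle hx
  obtain ⟨C, ⟨hCR, hCinv, hpow, hPC⟩, hcenR⟩ := exists_criticalIn G hP hInn hRinv
  have hcc : ⁅C, C⁆ ≤ centralizer (C : Set P) :=
    (commutator_mono le_top le_rfl).trans (hPC.trans inf_le_right)
  set D := CfsgLib.PGroup.smallSubgroup C hpow hcc with hD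
  have hmemD : ∀ {y : P}, y ∈ D ↔ y ∈ C ∧ y ^ CfsgLib.PGroup.smallExp p = 1 := Iff.rfl
  have hDinv : ∀ α ∈ G, ∀ d ∈ D, α d ∈ D := fun α hα d hd =>
    hmemD.2 ⟨hCinv α hα d (hmemD.1 hd).1, by rw [← map_pow, (hmemD.1 hd).2, map_one]⟩
  have hcop : ∀ α ∈ G, (orderOf α).Coprime p → (∀ d ∈ D, α d = d) → α = 1 := by
    intro α hα hco hfix
    have hnd : ¬ p ∣ orderOf α := fun h => hp.out.coprime_iff_not_dvd.1 hco.symm h
    have hC : ∀ c ∈ C, α c = c := fixes_of_fix_small hP hpow hcc α (hCinv α hα) hnd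
      fun x hx hxs => hfix x (hmemD.2 ⟨hx, hxs⟩)
    have hR : ∀ x ∈ R, α x = x := by
      intro x hx
      refine fixed_of_quotient_fixed hP α hnd (hC _ (hcenR ⟨?_, ?_⟩))
      · exact mul_mem (R.inv_mem hx) (hRinv α hα x hx)
      refine mem_centralizer_iff.2 fun c hc => ?_
      have h1 := hC _ (hPC (commutator_mem_commutator (mem_top x) hc)).1
      rw [map_commutatorElement, hC c hc, commutatorElement_def, commutatorElement_def,
        mul_left_inj] at h1
      calc c * (x⁻¹ * α x) = x⁻¹ * (x * c * x⁻¹) * α x := by group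
        _ = x⁻¹ * (α x * c * (α x)⁻¹) * α x := by rw [h1]
        _ = x⁻¹ * α x * c := by group
    refine MulEquiv.ext fun x => ?_
    rw [MulAut.one_apply]
    refine fixed_of_quotient_fixed hP α hnd (hR _ (subset_closure ⟨⟨α, hα⟩, ?_, x, rfl⟩))
    refine subset_closure ?_
    show Nat.Coprime (orderOf (⟨α, hα⟩ : G)) p
    rwa [Subgroup.orderOf_mk]
  have hDP : ∀ (x : P), ∀ d ∈ D, ⁅d, x⁆ ∈ D ⊓ centralizer (D : Set P) := by
    intro x d hd
    have h1 : ⁅d, x⁆ ∈ cen C := by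
      rw [← commutatorElement_inv]
      exact (cen C).inv_mem (hPC (commutator_mem_commutator (mem_top x) (hmemD.1 hd).1))
    refine ⟨?_, mem_centralizer_iff.2 fun e he => mem_centralizer_iff.1 h1.2 e (hmemD.1 he).1⟩
    rw [commutatorElement_def, show d * x * d⁻¹ * x⁻¹ = d * (x * d⁻¹ * x⁻¹) by group]
    exact mul_mem hd (hDinv (MulAut.conj x) (hInn x) _ (inv_mem hd))
  refine ⟨D, fun α hα => le_antisymm ?_ ?_, fun d hd => hCR (hmemD.1 hd).1, fun d hd => ?_,
    commutator_le.2 fun d hd x _ => hDP x d hd, hcop, fun A hAD hAc hmax => ?_⟩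
  · rintro _ ⟨d, hd, rfl⟩
    exact hDinv α hα d hd
  · intro d hd
    exact ⟨α⁻¹ d, hDinv _ (G.inv_mem hα) d hd, α.apply_symm_apply d⟩
  · have h := (hmemD.1 hd).2
    by_cases h2 : p = 2
    · subst h2
      simp [CfsgLib.PGroup.smallExp] at h
      exact Or.inr ⟨rfl, h⟩
    · simp [CfsgLib.PGroup.smallExp, h2] at h
      exact Or.inl h
  · have hcA : ∀ a ∈ A, ∀ b ∈ A, a * b = b * a := fun a ha b hb =>
      congrArg Subtype.val (isMulCommutative_iff.1 hAc ⟨a, ha⟩ ⟨b, hb⟩)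
    have hmax' : ∀ e ∈ D, (∀ a ∈ A, a * e = e * a) → e ∈ A := by
      intro e he hea
      have hle : zpowers e ≤ centralizer (A : Set P) :=
        zpowers_le.2 (mem_centralizer_iff.2 hea)
      have hab : IsMulCommutative ↥(A ⊔ zpowers e) := by
        have hA1 : A ≤ centralizer ((A ⊔ zpowers e : Subgroup P) : Set P) :=
          le_centralizer_iff.1 (sup_le (fun a ha => mem_centralizer_iff.2 fun b hb => hcA b hb a ha) hle)
        have hA2 : zpowers e ≤ centralizer ((A ⊔ zpowers e : Subgroup P) : Set P) :=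
          le_centralizer_iff.1 (sup_le (le_centralizer_iff.1 hle) (fun a ha =>
            mem_centralizer_iff.2 fun b hb => by
              obtain ⟨i, rfl⟩ := mem_zpowers_iff.1 ha
              obtain ⟨j, rfl⟩ := mem_zpowers_iff.1 hb
              exact ((Commute.refl e).zpow_zpow j i).eq))
        exact isMulCommutative_iff.2 fun u v =>
          Subtype.ext (mem_centralizer_iff.1 (sup_le hA1 hA2 v.2) u u.2)
      rw [← hmax _ le_sup_left (sup_le hAD (zpowers_le.2 he)) hab]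
      exact mem_sup_right (mem_zpowers e)
    have hcomA : ∀ (x : P), ∀ a ∈ A, ⁅a, x⁆ ∈ A := by
      intro x a ha
      obtain ⟨h1, h2⟩ := hDP x a (hAD ha)
      exact hmax' _ h1 fun b hb => mem_centralizer_iff.1 h2 b (hAD hb)
    refine ⟨⟨fun a ha x => ?_⟩, fun α hα hfix => ?_⟩
    · rw [show x * a * x⁻¹ = ⁅a, x⁆⁻¹ * a by rw [commutatorElement_def]; group]
      exact mul_mem (inv_mem (hcomA x a ha)) ha
    obtain ⟨k, m, hm, hkm⟩ :=
      Nat.exists_eq_pow_mul_and_not_dvd (orderOf_pos α).ne' p hp.out.ne_one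
    refine ⟨k, ?_⟩
    set β := α ^ p ^ k with hβ
    have hβm : β ^ m = 1 := by rw [hβ, ← pow_mul, ← hkm, pow_orderOf_eq_one]
    have hβG : β ∈ G := G.pow_mem hα _
    have hβfix : ∀ a ∈ A, β a = a := by
      intro a ha
      rw [hβ]
      induction p ^ k with
      | zero => rfl
      | succ n ih => rw [pow_succ, MulAut.mul_apply, hfix a ha, ih]
    have hco : (orderOf β).Coprime p := Nat.Coprime.coprime_dvd_left
      (orderOf_dvd_of_pow_eq_one hβm) (hp.out.coprime_iff_not_dvd.2 hm).symm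
    have hnd : ¬ p ∣ orderOf β := fun h => hp.out.coprime_iff_not_dvd.1 hco.symm h
    have hβD : ∀ d ∈ D, β d = d := by
      intro d hd
      refine fixed_of_quotient_fixed hP β hnd (hβfix _ (hmax' _
        (mul_mem (inv_mem hd) (hDinv β hβG d hd)) fun a ha => ?_))
      have h1 : β ⁅a, d⁆ = ⁅a, d⁆ := hβfix _ (hcomA d a ha)
      rw [map_commutatorElement, hβfix a ha, commutatorElement_def, commutatorElement_def] at h1
      have h2 : β d * a⁻¹ * (β d)⁻¹ = d * a⁻¹ * d⁻¹ := by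
        simpa [mul_assoc] using congrArg (fun z => a⁻¹ * z) h1
      have h3 : β d * a * (β d)⁻¹ = d * a * d⁻¹ := by
        have := congrArg (fun z => z⁻¹) h2
        simpa [mul_assoc] using this
      calc a * (d⁻¹ * β d) = d⁻¹ * (d * a * d⁻¹) * β d := by group
        _ = d⁻¹ * (β d * a * (β d)⁻¹) * β d := by rw [h3]
        _ = d⁻¹ * β d * a := by group
    have hβ1 := hcop β hβG hco hβD
    refine Nat.dvd_antisymm (orderOf_dvd_of_pow_eq_one hβ1) ?_
    rw [hkm]; exact Dvd.intro m rfl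

end CfsgLib.InvariantSmallExponent
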