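import Cfsg.Agent.Lib.CFun.Tools
import Cfsg.Prelude.Def_ConjugacyFunctors

/-!
# The two `K`-infinity subgroups of a finite `p`-group
-/

set_option autoImplicit false
set_option linter.style.haveILetI false

open Subgroup
open scoped commutatorElement

namespace CfsgLib.CFun

universe u v

section Families

variable {P : Type u} [Group P]

theorem bot_mem_classTwo : (⊥ : Subgroup P) ∈ Cfsg.classTwoSubgroups P := by
  show ⁅(⊥ : Subgroup P), (⊥ : Subgroup P)⁆ ≤ _
  rw [commutator_bot_left]; exact bot_le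

theorem lower_antitone {Q R : Subgroup P} (h : Q ≤ R) :
    Cfsg.kLowerStarFamily R ⊆ Cfsg.kLowerStarFamily Q :=
  fun _ ⟨h2, hn, ht⟩ => ⟨h2, h.trans hn, fun A hA hAQ => ht A hA (hAQ.trans h)⟩

theorem upper_antitone {Q R : Subgroup P} (h : Q ≤ R) :
    Cfsg.kUpperStarFamily R ⊆ Cfsg.kUpperStarFamily Q :=
  fun _ ⟨h2, hc⟩ => ⟨h2, (commutator_mono le_rfl h).trans hc⟩

theorem kSeqEven_def (n : ℕ) :
    Cfsg.kSeqEven P n = sSup (Cfsg.kLowerStarFamily (Cfsg.kSeqOdd P n)) := rfl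

theorem kSeqOdd_succ (n : ℕ) :
    Cfsg.kSeqOdd P (n + 1) = sSup (Cfsg.kUpperStarFamily (Cfsg.kSeqEven P n)) := rfl

theorem kSeqEven_mono_of_le {n m : ℕ} (h : Cfsg.kSeqOdd P m ≤ Cfsg.kSeqOdd P n) :
    Cfsg.kSeqEven P n ≤ Cfsg.kSeqEven P m := sSup_le_sSup (lower_antitone h)

theorem kSeqOdd_antitone : Antitone (Cfsg.kSeqOdd P) := by
  refine antitone_nat_of_succ_le fun n => ?_
  induction n with
  | zero => exact le_top
  | succ n ih => exact sSup_le_sSup (upper_antitone (kSeqEven_mono_of_le ih))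

theorem kSeqEven_mono : Monotone (Cfsg.kSeqEven P) :=
  monotone_nat_of_le_succ fun n => kSeqEven_mono_of_le (kSeqOdd_antitone (Nat.le_succ n))

theorem exists_stable [Finite P] : ∃ n : ℕ, ∀ m, n ≤ m →
    Cfsg.kSeqEven P m = Cfsg.kInfLower P ∧ Cfsg.kSeqOdd P m = Cfsg.kInfUpper P := by
  obtain ⟨a, ha⟩ := WellFoundedGT.monotone_chain_condition (α := Subgroup P)
    ⟨Cfsg.kSeqEven P, kSeqEven_mono⟩
  obtain ⟨b, hb⟩ := WellFoundedGT.monotone_chain_condition (α := (Subgroup P)ᵒᵈ)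
    ⟨fun n => OrderDual.toDual (Cfsg.kSeqOdd P n), fun _ _ h => kSeqOdd_antitone h⟩
  refine ⟨max a b, fun m hm => ⟨le_antisymm (le_iSup _ m) (iSup_le fun k => ?_),
    le_antisymm (le_iInf fun k => ?_) (iInf_le _ m)⟩⟩
  · rcases le_total k m with h | h
    · exact kSeqEven_mono h
    · exact ((ha m ((le_max_left a b).trans hm)).symm.trans
        (ha k (((le_max_left a b).trans hm).trans h))).ge
  · rcases le_total k m with h | h
    · exact kSeqOdd_antitone h
    · exact (congrArg OrderDual.ofDual ((hb m ((le_max_right a b).trans hm)).symm.trans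
        (hb k (((le_max_right a b).trans hm).trans h))) :
          Cfsg.kSeqOdd P m = Cfsg.kSeqOdd P k).le

/-- A normal abelian subgroup lies in every family. -/
theorem abelian_mem {A : Subgroup P} [A.Normal] (hA : IsMulCommutative A) (Q : Subgroup P) :
    A ∈ Cfsg.classTwoSubgroups P ∧ A ∈ Cfsg.kLowerStarFamily Q ∧ A ∈ Cfsg.kUpperStarFamily Q := by
  have h2 : A ∈ Cfsg.classTwoSubgroups P := by
    show ⁅A, A⁆ ≤ _
    rw [commutator_self_eq_bot_iff.2 hA]; exact bot_le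
  have hc : A ≤ A ⊓ centralizer (A : Set P) :=
    le_inf le_rfl (commutator_eq_bot_iff_le_centralizer.1 (commutator_self_eq_bot_iff.2 hA))
  refine ⟨h2, ⟨h2, ?_, fun B _ _ _ _ _ => (commutator_le_left A B).trans hc⟩,
    h2, (commutator_le_left A Q).trans hc⟩
  rw [Subgroup.normalizer_eq_top A]; exact le_top

/-- Adjoining an element centralizing `B`, central modulo `B` for `Q`. -/
theorem extend_data {B : Subgroup P} {x : P} (hxC : x ∈ centralizer (B : Set P))
    (h2 : B ∈ Cfsg.classTwoSubgroups P) :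
    (B ⊔ zpowers x) ∈ Cfsg.classTwoSubgroups P ∧ cen B ≤ cen (B ⊔ zpowers x) ∧
      x ∈ cen (B ⊔ zpowers x) := by
  have hcx : ∀ b ∈ B, Commute b x := fun b hb => mem_centralizer_iff.1 hxC b hb
  have hgen : ∀ (z : P), (∀ b ∈ B, Commute z b) → Commute z x →
      z ∈ centralizer ((B ⊔ zpowers x : Subgroup P) : Set P) := by
    intro z h1 h3
    have : B ⊔ zpowers x ≤ centralizer ({z} : Set P) :=
      sup_le (fun b hb => mem_centralizer_singleton_iff.2 (h1 b hb).eq.symm)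
        (zpowers_le.2 (mem_centralizer_singleton_iff.2 h3.eq.symm))
    exact mem_centralizer_iff.2 fun y hy => mem_centralizer_singleton_iff.1 (this hy)
  have hx' : x ∈ cen (B ⊔ zpowers x) :=
    mem_inf.2 ⟨mem_sup_right (mem_zpowers x),
      hgen x (fun b hb => (hcx b hb).symm) (Commute.refl x)⟩
  have hcen : cen B ≤ cen (B ⊔ zpowers x) := fun z hz =>
    mem_inf.2 ⟨mem_sup_left hz.1, hgen z (fun b hb => commute_of_mem_cen hz hb) (hcx z hz.1)⟩
  refine ⟨?_, hcen, hx'⟩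
  show ⁅B ⊔ zpowers x, B ⊔ zpowers x⁆ ≤ _
  have hB : B ≤ normalizer (zpowers x : Set P) := fun b hb => by
    rw [mem_normalizer_iff]
    intro y
    constructor
    · rintro ⟨k, rfl⟩
      exact ⟨k, by rw [((hcx b hb).zpow_right k).eq, mul_inv_cancel_right]⟩
    · rintro ⟨k, hk⟩
      simp only at hk
      refine ⟨k, ?_⟩
      calc x ^ k = b⁻¹ * (b * x ^ k) := by group
        _ = b⁻¹ * (x ^ k * b) := by rw [((hcx b hb).zpow_right k).eq]
        _ = y := by rw [hk]; group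
  rw [commutator_le]
  intro a ha c hc
  rw [← SetLike.mem_coe, coe_mul_of_left_le_normalizer_right B _ hB, Set.mem_mul] at ha hc
  obtain ⟨a1, ha1, a2, ⟨i, rfl⟩, rfl⟩ := ha
  obtain ⟨c1, hc1, c2, ⟨j, rfl⟩, rfl⟩ := hc
  have e : ⁅a1 * x ^ i, c1 * x ^ j⁆ = ⁅a1, c1⁆ := by
    have c_1 : Commute (x ^ i) c1 := ((hcx c1 hc1).zpow_right i).symm
    have c_2 : Commute a1 (x ^ j) := (hcx a1 ha1).zpow_right j
    have h1 : ⁅x ^ i, c1 * x ^ j⁆ = 1 :=
      (c_1.mul_right ((Commute.refl x).zpow_zpow i j)).commutator_eq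
    have h2 : ⁅a1, x ^ j⁆ = 1 := c_2.commutator_eq
    rw [commutatorElement_mul_left_eq_conj_mul, h1, commutatorElement_mul_right_eq_mul_conj, h2]
    group
  rw [e]
  exact (hcen ⟨commutator_le_self B (commutator_mem_commutator ha1 hc1),
    h2 (commutator_mem_commutator ha1 hc1)⟩).2

end Families

section Transport

variable {P : Type u} [Group P] {P' : Type v} [Group P'] (f : P →* P') (hf : Function.Injective f)

theorem le_normalizer_map_iff {H K : Subgroup P} (hf : Function.Injective f) :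
    H.map f ≤ normalizer ((K.map f : Subgroup P') : Set P') ↔ H ≤ normalizer (K : Set P) := by
  rw [le_normalizer_iff_commutator_le_right, le_normalizer_iff_commutator_le_right, ← map_commutator,
    map_le_map_iff_of_injective hf]

theorem commutator_map_eq_bot_iff {H K : Subgroup P} (hf : Function.Injective f) :
    ⁅H.map f, K.map f⁆ = ⊥ ↔ ⁅H, K⁆ = ⊥ := by
  rw [← map_commutator, map_eq_bot_iff_of_injective _ hf]

include hf in
theorem cen_map (B : Subgroup P) : (cen B).map f = cen (B.map f) := by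
  ext y
  simp only [mem_map, mem_inf, mem_centralizer_iff, SetLike.mem_coe]
  constructor
  · rintro ⟨z, ⟨hz1, hz2⟩, rfl⟩
    refine ⟨⟨z, hz1, rfl⟩, ?_⟩
    rintro _ ⟨w, hw, rfl⟩
    rw [← map_mul, ← map_mul, hz2 w hw]
  · rintro ⟨⟨z, hz1, rfl⟩, hz2⟩
    refine ⟨z, ⟨hz1, fun w hw => hf ?_⟩, rfl⟩
    rw [map_mul, map_mul]
    exact hz2 _ ⟨w, hw, rfl⟩

include hf in
theorem classTwo_map_iff (B : Subgroup P) :
    B.map f ∈ Cfsg.classTwoSubgroups P' ↔ B ∈ Cfsg.classTwoSubgroups P := by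
  show ⁅B.map f, B.map f⁆ ≤ _ ↔ ⁅B, B⁆ ≤ _
  rw [← commutator_eq_bot_iff_le_centralizer, ← commutator_eq_bot_iff_le_centralizer,
    ← map_commutator, commutator_map_eq_bot_iff f hf]

include hf in
theorem upper_map_iff (B Q : Subgroup P) :
    B.map f ∈ Cfsg.kUpperStarFamily (Q.map f) ↔ B ∈ Cfsg.kUpperStarFamily Q := by
  show (B.map f ∈ _ ∧ ⁅B.map f, Q.map f⁆ ≤ cen (B.map f)) ↔ (B ∈ _ ∧ ⁅B, Q⁆ ≤ cen B)
  rw [classTwo_map_iff f hf, ← cen_map f hf, ← map_commutator, map_le_map_iff_of_injective hf]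

include hf in
theorem lower_map_iff (B Q : Subgroup P) :
    B.map f ∈ Cfsg.kLowerStarFamily (Q.map f) ↔ B ∈ Cfsg.kLowerStarFamily Q := by
  refine ⟨fun ⟨h2, hn, ht⟩ => ⟨(classTwo_map_iff f hf B).1 h2, (le_normalizer_map_iff f hf).1 hn,
    fun A hA hAQ hBA hc1 hc2 => ?_⟩, fun ⟨h2, hn, ht⟩ => ⟨(classTwo_map_iff f hf B).2 h2,
    (le_normalizer_map_iff f hf).2 hn, fun A' hA hAQ hBA hc1 hc2 => ?_⟩⟩
  · have := ht (A.map f) ((classTwo_map_iff f hf A).2 hA) (map_mono hAQ)
      ((le_normalizer_map_iff f hf).2 hBA)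
      (by rw [← map_commutator, commutator_map_eq_bot_iff f hf]; exact hc1)
      (by
        show ⁅⁅cen (B.map f), A.map f⁆, A.map f⁆ = ⊥
        rw [← cen_map f hf, ← map_commutator, commutator_map_eq_bot_iff f hf]; exact hc2)
    change ⁅B.map f, A.map f⁆ ≤ cen (B.map f) at this
    rwa [← cen_map f hf, ← map_commutator, map_le_map_iff_of_injective hf] at this
  · have hr : (A'.comap f).map f = A' :=
      map_comap_eq_self (hAQ.trans (map_le_range f Q))
    rw [← hr] at hA hAQ hBA hc1 hc2 ⊢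
    show ⁅B.map f, _⁆ ≤ cen (B.map f)
    rw [← cen_map f hf, ← map_commutator, map_le_map_iff_of_injective hf]
    refine ht _ ((classTwo_map_iff f hf _).1 hA) ((map_le_map_iff_of_injective hf).1 hAQ)
      ((le_normalizer_map_iff f hf).1 hBA)
      (by rw [← map_commutator, commutator_map_eq_bot_iff f hf] at hc1; exact hc1) ?_
    change ⁅⁅cen (B.map f), _⁆, _⁆ = ⊥ at hc2
    rw [← cen_map f hf, ← map_commutator, commutator_map_eq_bot_iff f hf] at hc2
    exact hc2

theorem map_sSup_image (f : P →* P') (F : Set (Subgroup P)) :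
    (sSup F).map f = sSup ((fun B => B.map f) '' F) := by
  rw [(gc_map_comap f).l_sSup, sSup_image]

theorem image_family_equiv (e : P ≃* P') (F : Subgroup P → Set (Subgroup P))
    (F' : Subgroup P' → Set (Subgroup P'))
    (h : ∀ B Q, B.map e.toMonoidHom ∈ F' (Q.map e.toMonoidHom) ↔ B ∈ F Q) (Q : Subgroup P) :
    (sSup (F Q)).map e.toMonoidHom = sSup (F' (Q.map e.toMonoidHom)) := by
  rw [map_sSup_image]
  congr 1
  ext B'
  constructor
  · rintro ⟨B, hB, rfl⟩; exact (h B Q).2 hB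
  · intro hB
    have hB' : (B'.comap e.toMonoidHom).map e.toMonoidHom = B' :=
      map_comap_eq_self_of_surjective e.surjective B'
    exact ⟨_, (h _ Q).1 (hB'.symm ▸ hB), hB'⟩

theorem kSeq_equiv (e : P ≃* P') (n : ℕ) :
    (Cfsg.kSeqOdd P n).map e.toMonoidHom = Cfsg.kSeqOdd P' n ∧
      (Cfsg.kSeqEven P n).map e.toMonoidHom = Cfsg.kSeqEven P' n := by
  have hlow : ∀ Q, (sSup (Cfsg.kLowerStarFamily Q)).map e.toMonoidHom =
      sSup (Cfsg.kLowerStarFamily (Q.map e.toMonoidHom)) :=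
    image_family_equiv e _ _ (fun B Q => lower_map_iff e.toMonoidHom e.injective B Q)
  have hupp : ∀ Q, (sSup (Cfsg.kUpperStarFamily Q)).map e.toMonoidHom =
      sSup (Cfsg.kUpperStarFamily (Q.map e.toMonoidHom)) :=
    image_family_equiv e _ _ (fun B Q => upper_map_iff e.toMonoidHom e.injective B Q)
  induction n with
  | zero =>
    have h0 : (Cfsg.kSeqOdd P 0).map e.toMonoidHom = Cfsg.kSeqOdd P' 0 :=
      map_top_of_surjective e.toMonoidHom e.surjective
    exact ⟨h0, by rw [kSeqEven_def, hlow, h0, kSeqEven_def]⟩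
  | succ n ih =>
    have h1 : (Cfsg.kSeqOdd P (n + 1)).map e.toMonoidHom = Cfsg.kSeqOdd P' (n + 1) := by
      rw [kSeqOdd_succ, hupp, ih.2, kSeqOdd_succ]
    exact ⟨h1, by rw [kSeqEven_def, hlow, h1, kSeqEven_def]⟩

theorem kInfLower_equiv (e : P ≃* P') :
    (Cfsg.kInfLower P).map e.toMonoidHom = Cfsg.kInfLower P' := by
  show (⨆ n, Cfsg.kSeqEven P n).map e.toMonoidHom = ⨆ n, Cfsg.kSeqEven P' n
  rw [map_iSup]; exact iSup_congr fun n => (kSeq_equiv e n).2

theorem kInfUpper_equiv (e : P ≃* P') :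
    (Cfsg.kInfUpper P).map e.toMonoidHom = Cfsg.kInfUpper P' := by
  show (⨅ n, Cfsg.kSeqOdd P n).map e.toMonoidHom = ⨅ n, Cfsg.kSeqOdd P' n
  rw [map_iInf _ e.injective]; exact iInf_congr fun n => (kSeq_equiv e n).1

theorem kSeq_characteristic (n : ℕ) :
    (Cfsg.kSeqOdd P n).Characteristic ∧ (Cfsg.kSeqEven P n).Characteristic :=
  ⟨characteristic_iff_map_eq.2 fun e => (kSeq_equiv e n).1,
    characteristic_iff_map_eq.2 fun e => (kSeq_equiv e n).2⟩

theorem kInfLower_characteristic : (Cfsg.kInfLower P).Characteristic :=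
  characteristic_iff_map_eq.2 kInfLower_equiv

theorem kInfUpper_characteristic : (Cfsg.kInfUpper P).Characteristic :=
  characteristic_iff_map_eq.2 kInfUpper_equiv

end Transport

section Finite

variable {P : Type u} [Group P] [Finite P] {p : ℕ} [Fact p.Prime]

omit [Finite P] in
/-- A commutator bound for a subgroup generated by `B` and `x`. -/
theorem commutator_extend_le {B T A : Subgroup P} {x : P}
    (hT : ∀ y ∈ B ⊔ zpowers x, ∀ z ∈ T, Commute y z)
    (hB : ⁅B, A⁆ ≤ T) (hx : ∀ a ∈ A, ⁅x, a⁆ ∈ T) : ⁅B ⊔ zpowers x, A⁆ ≤ T := by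
  let D := B ⊔ zpowers x
  let L : Subgroup P :=
    { carrier := {y | y ∈ D ∧ ∀ a ∈ A, ⁅y, a⁆ ∈ T}
      one_mem' := ⟨one_mem _, fun a _ => by rw [commutatorElement_one_left]; exact one_mem T⟩
      mul_mem' := fun {y z} hy hz => ⟨mul_mem hy.1 hz.1, fun a ha => by
        have e : ⁅y * z, a⁆ = y * ⁅z, a⁆ * y⁻¹ * ⁅y, a⁆ := by simp only [commutatorElement_def]; group
        rw [e, (hT y hy.1 _ (hz.2 a ha)).eq, mul_inv_cancel_right]
        exact mul_mem (hz.2 a ha) (hy.2 a ha)⟩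
      inv_mem' := fun {y} hy => ⟨inv_mem hy.1, fun a ha => by
        have e : ⁅y⁻¹, a⁆ = y⁻¹ * ⁅y, a⁆⁻¹ * y := by simp only [commutatorElement_def]; group
        rw [e, (hT _ (inv_mem hy.1) _ (inv_mem (hy.2 a ha))).eq, inv_mul_cancel_right]
        exact inv_mem (hy.2 a ha)⟩ }
  have hle : B ⊔ zpowers x ≤ L :=
    sup_le (fun b hb => ⟨mem_sup_left hb, fun a ha => hB (commutator_mem_commutator hb ha)⟩)
      (zpowers_le.2 ⟨mem_sup_right (mem_zpowers x), hx⟩)
  exact commutator_le.2 fun y hy a ha => (hle hy).2 a ha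

omit [Finite P] in
theorem commute_cen {D : Subgroup P} : ∀ y ∈ D, ∀ z ∈ cen D, Commute y z :=
  fun _ hy _ hz => (commute_of_mem_cen hz hy).symm

/-- A maximal member of a family contains its centralizer. -/
theorem centralizer_le_of_maximal (hP : IsPGroup p P) {B : Subgroup P}
    (𝒦 : Set (Subgroup P)) (Q : Subgroup P) (hQB : Q ≤ normalizer (B : Set P))
    (hext : ∀ x ∈ centralizer (B : Set P), (∀ h ∈ Q, ⁅x, h⁆ ∈ cen B) → B ⊔ zpowers x ∈ 𝒦)
    (hmax : ∀ C ∈ 𝒦, B ≤ C → C = B) : centralizer (B : Set P) ≤ B := by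
  by_contra hne
  obtain ⟨x, hxC, hxB, -, hx⟩ := exists_commutator_le hP hQB (le_normalizer_centralizer hQB)
    (centralizer_le_normalizer _) hne
  have h := hmax _ (hext x hxC fun h hh => hx h hh) le_sup_left
  exact hxB (h ▸ mem_sup_right (mem_zpowers x))

theorem classTwo_maximal (hP : IsPGroup p P) {B : Subgroup P}
    (hB : B ∈ Cfsg.classTwoSubgroups P)
    (hmax : ∀ C ∈ Cfsg.classTwoSubgroups P, B ≤ C → C = B) : centralizer (B : Set P) ≤ B :=
  centralizer_le_of_maximal hP _ ⊥ bot_le (fun _ hx _ => (extend_data hx hB).1) hmax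

theorem upper_maximal (hP : IsPGroup p P) {B Q : Subgroup P}
    (hB : B ∈ Cfsg.kUpperStarFamily Q)
    (hmax : ∀ C ∈ Cfsg.kUpperStarFamily Q, B ≤ C → C = B) : centralizer (B : Set P) ≤ B := by
  refine centralizer_le_of_maximal hP _ Q
    (le_normalizer_iff_commutator_le_left.2 (hB.2.trans inf_le_left)) (fun x hx hxQ => ?_) hmax
  obtain ⟨h2, hc, -⟩ := extend_data hx hB.1
  exact ⟨h2, commutator_extend_le commute_cen (hB.2.trans hc) fun a ha => hc (hxQ a ha)⟩

theorem lower_maximal (hP : IsPGroup p P) {B Q : Subgroup P}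
    (hB : B ∈ Cfsg.kLowerStarFamily Q)
    (hmax : ∀ C ∈ Cfsg.kLowerStarFamily Q, B ≤ C → C = B) : centralizer (B : Set P) ≤ B := by
  obtain ⟨hB2, hQB, ht⟩ := hB
  refine centralizer_le_of_maximal hP _ Q hQB (fun x hx hxQ => ?_) hmax
  obtain ⟨h2, hc, -⟩ := extend_data hx hB2
  refine ⟨h2, ?_, fun A hA hAQ hDA hc1 hc2 => ?_⟩
  · have key : ∀ h ∈ Q, B ⊔ zpowers x ≤ (B ⊔ zpowers x).comap (MulAut.conj h).toMonoidHom := by
      intro h hh
      refine sup_le (fun b hb => mem_sup_left ((mem_normalizer_iff.1 (hQB hh) b).1 hb))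
        (zpowers_le.2 ?_)
      show h * x * h⁻¹ ∈ B ⊔ zpowers x
      have e : h * x * h⁻¹ = ⁅x, h⁆⁻¹ * x := by simp only [commutatorElement_def]; group
      rw [e]
      exact mul_mem (mem_sup_left (inv_mem (hxQ h hh).1)) (mem_sup_right (mem_zpowers x))
    intro h hh
    refine mem_normalizer_iff.2 fun n => ⟨fun hn => key h hh hn, fun hn => ?_⟩
    have := key h⁻¹ (inv_mem hh) hn
    simpa [mul_assoc] using this
  · refine commutator_extend_le commute_cen ?_ fun a ha => hc (hxQ a (hAQ ha))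
    refine le_trans (b := cen B) (ht A hA hAQ (le_sup_left.trans hDA) ?_ ?_) hc
    · exact le_bot_iff.1 ((commutator_mono le_sup_left le_rfl).trans hc1.le)
    · exact le_bot_iff.1 ((commutator_mono (commutator_mono hc le_rfl) le_rfl).trans hc2.le)

theorem exists_maximal_ge (F : Set (Subgroup P)) {A : Subgroup P} (hA : A ∈ F) :
    ∃ B ∈ F, A ≤ B ∧ ∀ C ∈ F, B ≤ C → C = B := by
  obtain ⟨B, ⟨hBF, hAB⟩, hmax⟩ := (Set.toFinite {B : Subgroup P | B ∈ F ∧ A ≤ B}).exists_maximal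
    ⟨A, hA, le_rfl⟩
  exact ⟨B, hBF, hAB, fun C hC hBC => le_antisymm (hmax ⟨hC, hAB.trans hBC⟩ hBC) hBC⟩

theorem bot_mem_lower (Q : Subgroup P) : (⊥ : Subgroup P) ∈ Cfsg.kLowerStarFamily Q :=
  (abelian_mem (A := (⊥ : Subgroup P)) (commutator_self_eq_bot_iff.1 (commutator_bot_left _)) Q).2.1

theorem bot_mem_upper (Q : Subgroup P) : (⊥ : Subgroup P) ∈ Cfsg.kUpperStarFamily Q :=
  (abelian_mem (A := (⊥ : Subgroup P)) (commutator_self_eq_bot_iff.1 (commutator_bot_left _)) Q).2.2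

theorem centralizer_kInf_le (hP : IsPGroup p P) :
    centralizer (Cfsg.kInfLower P : Set P) ≤ Cfsg.kInfLower P ∧
      centralizer (Cfsg.kInfUpper P : Set P) ≤ Cfsg.kInfUpper P := by
  obtain ⟨n, hn⟩ := exists_stable (P := P)
  constructor
  · obtain ⟨B, hB, -, hmax⟩ := exists_maximal_ge _ (bot_mem_lower (Cfsg.kSeqOdd P n))
    have hle : B ≤ Cfsg.kInfLower P := by rw [← (hn n le_rfl).1]; exact le_sSup hB
    exact (centralizer_le hle).trans ((lower_maximal hP hB hmax).trans hle)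
  · obtain ⟨B, hB, -, hmax⟩ := exists_maximal_ge _ (bot_mem_upper (Cfsg.kSeqEven P n))
    have hle : B ≤ Cfsg.kInfUpper P := by rw [← (hn (n + 1) (Nat.le_succ n)).2]; exact le_sSup hB
    exact (centralizer_le hle).trans ((upper_maximal hP hB hmax).trans hle)

omit [Finite P] in
/-- The sequences of a subgroup containing all the terms. -/
theorem kInf_subgroup (Q : Subgroup P)
    (hQ : ∀ n : ℕ, Cfsg.kSeqEven P n ≤ Q ∧ Cfsg.kSeqOdd P (n + 1) ≤ Q) :
    (Cfsg.kInfLower Q).map Q.subtype = Cfsg.kInfLower P ∧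
      (Cfsg.kInfUpper Q).map Q.subtype = Cfsg.kInfUpper P := by
  let o : ℕ → Subgroup P := fun n => (Cfsg.kSeqOdd Q n).map Q.subtype
  let e : ℕ → Subgroup P := fun n => (Cfsg.kSeqEven Q n).map Q.subtype
  have hi := Q.subtype_injective
  have hoQ : ∀ n, o n ≤ Q := fun n => map_subtype_le _
  -- comparison of the families
  have hl1 : ∀ n (X : Subgroup P), o n ≤ X → sSup (Cfsg.kLowerStarFamily X) ≤ Q →
      sSup (Cfsg.kLowerStarFamily X) ≤ e n := by
    intro n X hoX hXQ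
    refine sSup_le fun B hB => ?_
    have hBQ : B ≤ Q := (le_sSup hB).trans hXQ
    have hB' : (B.subgroupOf Q).map Q.subtype = B := map_subgroupOf_eq_of_le hBQ
    rw [← hB']
    refine map_mono (le_sSup ((lower_map_iff Q.subtype hi _ _).1 ?_))
    rw [hB']; exact lower_antitone hoX hB
  have hl2 : ∀ n (X : Subgroup P), X ≤ o n → e n ≤ sSup (Cfsg.kLowerStarFamily X) := by
    intro n X hX
    show (Cfsg.kSeqEven Q n).map Q.subtype ≤ _
    rw [kSeqEven_def, map_sSup_image]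
    refine sSup_le ?_
    rintro _ ⟨B, hB, rfl⟩
    exact le_sSup (lower_antitone hX ((lower_map_iff Q.subtype hi _ _).2 hB))
  have hu1 : ∀ n (X : Subgroup P), e n ≤ X → sSup (Cfsg.kUpperStarFamily X) ≤ Q →
      sSup (Cfsg.kUpperStarFamily X) ≤ o (n + 1) := by
    intro n X heX hXQ
    refine sSup_le fun B hB => ?_
    have hBQ : B ≤ Q := (le_sSup hB).trans hXQ
    have hB' : (B.subgroupOf Q).map Q.subtype = B := map_subgroupOf_eq_of_le hBQ
    rw [← hB']
    refine map_mono (le_sSup ((upper_map_iff Q.subtype hi _ _).1 ?_))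
    rw [hB']; exact upper_antitone heX hB
  have hu2 : ∀ n (X : Subgroup P), X ≤ e n → o (n + 1) ≤ sSup (Cfsg.kUpperStarFamily X) := by
    intro n X hX
    show (Cfsg.kSeqOdd Q (n + 1)).map Q.subtype ≤ _
    rw [kSeqOdd_succ, map_sSup_image]
    refine sSup_le ?_
    rintro _ ⟨B, hB, rfl⟩
    exact le_sSup (upper_antitone hX ((upper_map_iff Q.subtype hi _ _).2 hB))
  have key : ∀ n, o n ≤ Cfsg.kSeqOdd P n ∧ Cfsg.kSeqEven P n ≤ e n ∧
      Cfsg.kSeqOdd P (n + 1) ≤ o n ∧ e n ≤ Cfsg.kSeqEven P (n + 1) := by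
    intro n
    induction n with
    | zero =>
      have h0 : o 0 = Q := by
        show (⊤ : Subgroup Q).map Q.subtype = Q
        rw [← MonoidHom.range_eq_map, range_subtype]
      exact ⟨le_top, hl1 0 _ le_top (hQ 0).1, h0.symm ▸ (hQ 0).2,
        hl2 0 _ (h0.symm ▸ (hQ 0).2)⟩
    | succ n ih =>
      have h1 : o (n + 1) ≤ Cfsg.kSeqOdd P (n + 1) := hu2 n _ ih.2.1
      have h3 : Cfsg.kSeqOdd P (n + 2) ≤ o (n + 1) := hu1 n _ ih.2.2.2 (hQ (n + 1)).2
      exact ⟨h1, hl1 (n + 1) _ h1 (hQ (n + 1)).1, h3, hl2 (n + 1) _ h3⟩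
  constructor
  · show (⨆ n, Cfsg.kSeqEven Q n).map Q.subtype = ⨆ n, Cfsg.kSeqEven P n
    rw [map_iSup]
    exact le_antisymm (iSup_le fun n => le_iSup_of_le (n + 1) (key n).2.2.2)
      (iSup_le fun n => le_iSup_of_le n (key n).2.1)
  · show (⨅ n, Cfsg.kSeqOdd Q n).map Q.subtype = ⨅ n, Cfsg.kSeqOdd P n
    rw [map_iInf _ hi]
    exact le_antisymm (le_iInf fun n => iInf_le_of_le n (key n).1)
      (le_iInf fun n => iInf_le_of_le (n + 1) (key n).2.2.1)

omit [Finite P] in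
theorem kInf_eq_top (hgen : ⨆ A ∈ {A : Subgroup P | A.Normal ∧ IsMulCommutative A}, A = ⊤) :
    Cfsg.kInfLower P = ⊤ ∧ Cfsg.kInfUpper P = ⊤ := by
  have hall : ∀ X : Subgroup P, sSup (Cfsg.kLowerStarFamily X) = ⊤ ∧
      sSup (Cfsg.kUpperStarFamily X) = ⊤ := by
    intro X
    constructor <;>
      refine top_le_iff.1 (hgen.ge.trans (iSup₂_le fun A hA => ?_)) <;>
      haveI := hA.1
    · exact le_sSup (abelian_mem hA.2 X).2.1
    · exact le_sSup (abelian_mem hA.2 X).2.2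
  refine ⟨top_le_iff.1 ((hall _).1.ge.trans (le_iSup (Cfsg.kSeqEven P) 0)), ?_⟩
  refine top_le_iff.1 (le_iInf fun n => ?_)
  cases n with
  | zero => exact le_top
  | succ n => exact (hall _).2.ge

omit [Finite P] in
theorem center_le_kInf : center P ≤ Cfsg.kInfLower P ∧ center P ≤ Cfsg.kInfUpper P := by
  have hc : IsMulCommutative (center P) := inferInstance
  constructor
  · exact (le_sSup (abelian_mem hc _).2.1).trans (le_iSup (Cfsg.kSeqEven P) 0)
  · refine le_iInf fun n => ?_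
    cases n with
    | zero => exact le_top
    | succ n => exact le_sSup (abelian_mem hc _).2.2

end Finite

end CfsgLib.CFun
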