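import Cfsg.Agent.S1983
import Cfsg.Agent.Lib.CFun.WeakBases
import Cfsg.Agent.Lib.CFun.KFunctor

/-!
# Quadratic elements on the centre of `O_p` for the lower `K`-infinity functor
-/

set_option autoImplicit false

open Subgroup

namespace CfsgLib.CFun

universe u

variable {G : Type u} [Group G] [Finite G] {p : ℕ} [Fact p.Prime]

/-- The local hypothesis of the weak-closure criteria holds for the lower `K`-infinity functor. -/
theorem kInfLower_quadratic {H T : Subgroup G} (hTH : T ≤ H) (hT : IsPGroup p T)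
    (hTi : ¬ p ∣ T.relIndex H)
    (hne : ¬ H ≤ normalizer ((Cfsg.inducedFunctor Cfsg.kInfLower T : Subgroup G) : Set G)) :
    ∃ g : G, g ∈ T ∧ g ∉ Cfsg.pCoreOf p H ∧
      ⁅⁅Cfsg.pCoreOf p H ⊓ centralizer ((Cfsg.pCoreOf p H : Subgroup G) : Set G), zpowers g⁆,
        zpowers g⁆ = ⊥ := by
  let S : Sylow p H := (hT.of_equiv (Subgroup.subgroupOfEquivOfLe hTH).symm).toSylow hTi
  have hST : (S : Subgroup H).map H.subtype = T := map_subgroupOf_eq_of_le hTH
  have hind := induced_map (kInfLower_isCharPFunctor (p := p)) S.2 H.subtype H.subtype_injective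
  rw [hST] at hind
  have hnn : ¬ (Cfsg.inducedFunctor Cfsg.kInfLower (S : Subgroup H)).Normal := fun hn => by
    apply hne
    rw [hind]
    refine le_trans (le_of_eq ?_) (le_normalizer_map H.subtype)
    rw [Subgroup.normalizer_eq_top (Cfsg.inducedFunctor Cfsg.kInfLower (S : Subgroup H)),
      ← MonoidHom.range_eq_map, range_subtype]
  obtain ⟨g, hgS, hgQ, -, h2, -⟩ := Cfsg.Agent.S1983.result S (Or.inl hnn)
  refine ⟨g, hST ▸ mem_map_of_mem _ hgS, fun h => hgQ ?_, ?_⟩
  · obtain ⟨x, hx, hxg⟩ := h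
    rwa [← Subtype.ext hxg]
  · have hQ : (cen (Cfsg.pCore p H)).map H.subtype = cen (Cfsg.pCoreOf p H) :=
      cen_map H.subtype H.subtype_injective _
    show ⁅⁅cen (Cfsg.pCoreOf p H), zpowers (H.subtype g)⁆, zpowers (H.subtype g)⁆ = ⊥
    rw [← hQ, ← MonoidHom.map_zpowers, ← Subgroup.map_commutator, ← Subgroup.map_commutator]
    exact (Subgroup.map_eq_bot_iff_of_injective _ H.subtype_injective).2 h2

end CfsgLib.CFun
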