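import Cfsg.Agent.Lib.Coprime.Action
import Mathlib.GroupTheory.SpecificGroups.KleinFour

/-!
# Normal subgroups with no fixed point under any involution of a fused four-group
-/

set_option autoImplicit false
set_option linter.style.haveILetI false

namespace CfsgLib.CFun

open Subgroup

variable {H : Type*} [Group H] [Finite H]

/-- A proper normal subgroup meeting `C(z)` trivially is trivial. -/
theorem eq_bot_of_klein_fused {z : H} (hz : orderOf z = 2) {E : Subgroup H} (hE : IsKleinFour E)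
    (hc : ∀ e ∈ E, e ≠ 1 → IsConj z e) {N : Subgroup H} [hNn : N.Normal]
    (hN : N ⊓ centralizer ({z} : Set H) = ⊥) : N = ⊥ := by
  have hz2 : z ^ 2 = 1 := hz ▸ pow_orderOf_eq_one z
  have hfix : ∀ e ∈ E, e ≠ 1 → N ⊓ centralizer ({e} : Set H) = ⊥ := by
    intro e he he1
    obtain ⟨c, rfl⟩ := isConj_iff.1 (hc e he he1)
    refine (Subgroup.eq_bot_iff_forall _).2 fun x hx => ?_
    have h1 := mem_centralizer_singleton_iff.1 (mem_inf.1 hx).2
    have h2 : c⁻¹ * x * c ∈ N ⊓ centralizer ({z} : Set H) := by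
      refine mem_inf.2 ⟨by simpa using hNn.conj_mem x (mem_inf.1 hx).1 c⁻¹,
        mem_centralizer_singleton_iff.2 ?_⟩
      calc c⁻¹ * x * c * z = c⁻¹ * (x * (c * z * c⁻¹)) * c := by group
        _ = c⁻¹ * (c * z * c⁻¹ * x) * c := by rw [h1]
        _ = z * (c⁻¹ * x * c) := by group
    rw [hN, mem_bot] at h2
    rw [show x = c * (c⁻¹ * x * c) * c⁻¹ by group, h2]
    group
  have hodd : ¬ 2 ∣ Nat.card N := by
    intro hd
    haveI : Fact (Nat.Prime 2) := ⟨Nat.prime_two⟩
    obtain ⟨P⟩ := (inferInstance : Nonempty (Sylow 2 N))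
    have hzN : zpowers z ≤ normalizer (N : Set H) := by rw [normalizer_eq_top]; exact le_top
    have hzp : IsPGroup 2 (zpowers z) := IsPGroup.of_card (n := 1) (by rw [Nat.card_zpowers, hz, pow_one])
    let f : N ≃ N :=
      { toFun := fun n => ⟨z * n * z⁻¹, hNn.conj_mem n n.2 z⟩
        invFun := fun n => ⟨z * n * z⁻¹, hNn.conj_mem n n.2 z⟩
        left_inv := fun n => Subtype.ext (by
          show z * (z * n * z⁻¹) * z⁻¹ = n
          rw [show z * (z * (n : H) * z⁻¹) * z⁻¹ = z ^ 2 * n * (z ^ 2)⁻¹ by rw [pow_two]; group, hz2]; group)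
        right_inv := fun n => Subtype.ext (by
          show z * (z * n * z⁻¹) * z⁻¹ = n
          rw [show z * (z * (n : H) * z⁻¹) * z⁻¹ = z ^ 2 * n * (z ^ 2)⁻¹ by rw [pow_two]; group, hz2]; group) }
    classical
    haveI : Fintype N := Fintype.ofFinite _
    have hf : Function.Involutive f := fun n => f.left_inv n
    obtain ⟨b, hb, hb1⟩ := Equiv.Perm.exists_fixed_point_of_prime' (p := 2) (n := 1)
      (σ := (f : Equiv.Perm N)) (by rw [← Nat.card_eq_fintype_card]; exact hd)
      (Equiv.ext fun n => by rw [pow_one, pow_two]; exact hf n) (a := 1)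
      (Subtype.ext (show z * 1 * z⁻¹ = 1 by group))
    have h2 : (b : H) ∈ N ⊓ centralizer ({z} : Set H) := mem_inf.2 ⟨b.2,
      mem_centralizer_singleton_iff.2
        (mul_inv_eq_iff_eq_mul.1 (congrArg Subtype.val hb : z * (b : H) * z⁻¹ = b)).symm⟩
    rw [hN, mem_bot] at h2
    exact hb1 (Subtype.ext h2)
  have hEc : Nat.card E = 4 := hE.card_four
  haveI : IsMulCommutative E := ⟨⟨fun a b => by
    have hsq : ∀ x : E, x * x = 1 := fun x => by rw [← pow_two, ← hE.exponent_two]; exact Monoid.pow_exponent_eq_one x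
    calc a * b = (a * b) * ((b * a) * (b * a)) := by rw [hsq, mul_one]
      _ = a * (b * b) * a * (b * a) := by group
      _ = b * a := by rw [hsq, mul_one, hsq, one_mul]⟩⟩
  refine le_bot_iff.1 (CfsgLib.Coprime.le_of_centralizers_le (A := E) (fun h => ?_)
    (by rw [normalizer_eq_top]; exact le_top) ?_ fun a ha ha1 => (hfix a ha ha1).le)
  · have h1 := IsCyclic.exponent_eq_card (α := E)
    rw [hE.exponent_two, hEc] at h1
    omega
  · rw [hEc, show (4 : ℕ) = 2 ^ 2 by norm_num]
    exact (Nat.prime_two.coprime_iff_not_dvd.2 hodd).pow_left 2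

end CfsgLib.CFun
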