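import Cfsg.Agent.Lib.CFun.NilpotentProductEngine
import Cfsg.Agent.Lib.Char.Burnside
import Cfsg.Agent.Lib.Coprime.Primitive

/-!
# Products of two nilpotent groups are solvable
-/

set_option autoImplicit false
set_option linter.style.haveILetI false
set_option linter.unusedSectionVars false

open Subgroup
open scoped Pointwise
open CfsgLib.CFun (core core_le isPGroup_core le_normalizer_core core_ne_bot_of_dvd
  le_centralizer_of_inf_eq_bot zCore zCore_ne_bot zCore_le_center)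
open CfsgLib.Coprime (conjBy)

namespace CfsgLib.NilpotentProduct

universe u

variable {G : Type u} [Group G] [Finite G]

/-- The two pieces permute in `l`-groups. -/
def PermL (l : ℕ) (A B : Subgroup G) : Prop :=
  ∀ x : G, ∃ S : Subgroup G, IsPGroup l S ∧
    (S : Set G) = (A : Set G) * ((MulAut.conj x • B : Subgroup G) : Set G)

theorem le_of_coe_eq {A B S : Subgroup G} (h : (S : Set G) = (A : Set G) * (B : Set G)) :
    A ≤ S ∧ B ≤ S :=
  ⟨fun a ha => SetLike.mem_coe.1 (h ▸ ⟨a, ha, 1, B.one_mem, mul_one a⟩),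
    fun b hb => SetLike.mem_coe.1 (h ▸ ⟨1, A.one_mem, b, hb, one_mul b⟩)⟩

theorem isPGroup_product {l : ℕ} [Fact l.Prime] {A B S : Subgroup G} (hA : IsPGroup l A)
    (hB : IsPGroup l B) (h : (S : Set G) = (A : Set G) * (B : Set G)) : IsPGroup l S := by
  obtain ⟨hAS, hBS⟩ := le_of_coe_eq h
  have hm : ∀ g : S, ∃ a ∈ A.subgroupOf S, ∃ b ∈ B.subgroupOf S, g = a * b := by
    intro g
    obtain ⟨a, ha, b, hb, e⟩ := (h ▸ g.2 : (g : G) ∈ (A : Set G) * (B : Set G))
    exact ⟨⟨a, hAS ha⟩, ha, ⟨b, hBS hb⟩, hb, Subtype.ext e.symm⟩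
  obtain ⟨i, hi⟩ := IsPGroup.iff_card.1 hA
  obtain ⟨j, hj⟩ := IsPGroup.iff_card.1 hB
  have hd : (B.subgroupOf S).relIndex (A.subgroupOf S) ∣ l ^ i := by
    rw [← hi, ← Nat.card_congr (subgroupOfEquivOfLe hAS).toEquiv]
    exact relIndex_dvd_card _ _
  obtain ⟨k, -, hk⟩ := (Nat.dvd_prime_pow Fact.out).1 hd
  refine IsPGroup.of_card (n := j + k) ?_
  rw [← card_mul_index (B.subgroupOf S), ← CfsgLib.Coprime.relIndex_eq_index_of_product hm, hk,
    Nat.card_congr (subgroupOfEquivOfLe hBS).toEquiv, hj, pow_add]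

theorem PermL.enlarge {l : ℕ} [Fact l.Prime] (hG : ¬ IsPGroup l G) {A B : Subgroup G}
    (h : PermL l A B) {x y : G} (hy : y ∈ (MulAut.conj x • B : Subgroup G)) :
    PermL l (A ⊔ A.map (MulAut.conj y).toMonoidHom) B := by
  have h' : Cfsg.Agent.S0566.Prop' A B := fun z => by
    obtain ⟨S, hS, hSe⟩ := h z
    exact ⟨S, fun e => hG ((e ▸ hS).of_equiv topEquiv), hSe⟩
  obtain ⟨U, hU, hUe⟩ := h x
  obtain ⟨hAU, hBU⟩ := le_of_coe_eq hUe
  have hA' : IsPGroup l (A ⊔ A.map (MulAut.conj y).toMonoidHom : Subgroup G) := by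
    refine hU.to_le (sup_le hAU ?_)
    rintro _ ⟨a, ha, rfl⟩
    exact U.mul_mem (U.mul_mem (hBU hy) (hAU ha)) (U.inv_mem (hBU hy))
  intro z
  obtain ⟨S, -, hS⟩ := Cfsg.Agent.S0566.enlarge h' hy z
  obtain ⟨T, hT, hTe⟩ := h z
  exact ⟨S, isPGroup_product hA' (hT.to_le (le_of_coe_eq hTe).2) hS, hS⟩

theorem eq_bot_of_solvable_normal (hsol : ∀ N : Subgroup G, N.Normal → Group.IsSolvable N → N = ⊥)
    (hmeet : ∀ J K : Subgroup G, J.Normal → K.Normal → J ⊓ K = ⊥ → J = ⊥ ∨ K = ⊥)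
    {l : ℕ} [Fact l.Prime] (hG : ¬ IsPGroup l G) {A B : Subgroup G} (h : PermL l A B)
    (hB : B ≠ ⊥) : A = ⊥ := by
  obtain ⟨M, hAM, hM⟩ := exists_maximal_ge_of_wellFoundedGT (fun M : Subgroup G => PermL l M B) A h
  have hnorm : ∀ x : G, (MulAut.conj x • B : Subgroup G) ≤ normalizer (M : Set G) := by
    intro x y hy
    have h1 := hM.le_of_ge (hM.prop.enlarge hG hy) le_sup_left
    refine CfsgLib.Coprime.conjBy_eq_self_iff.1 (eq_of_le_of_card_ge (le_sup_right.trans h1)
      (CfsgLib.Coprime.card_conjBy y M).ge)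
  set K := Subgroup.normalClosure (B : Set G) with hK
  haveI hKn : K.Normal := normalClosure_normal
  have hKM : K ≤ normalizer (M : Set G) := by
    refine (closure_le _).2 fun g hg => ?_
    obtain ⟨b, hb, hbg⟩ := Group.mem_conjugatesOfSet_iff.1 hg
    obtain ⟨c, rfl⟩ := isConj_iff.1 hbg
    refine hnorm c ?_
    rw [Cfsg.Agent.S0566.mem_conj']
    simpa [mul_assoc] using hb
  have hMp : IsPGroup l M := by
    obtain ⟨S, hS, hSe⟩ := hM.prop 1
    exact hS.to_le (le_of_coe_eq hSe).1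
  have hinter : M ⊓ K = ⊥ := by
    haveI := CfsgLib.Coprime.pCore_characteristic (G := K) l
    have hn : ((Cfsg.pCore l K).map K.subtype).Normal :=
      CfsgLib.Coprime.map_subtype_normal_of_characteristic K (Cfsg.pCore l K)
    have h0 : core K l = ⊥ := hsol (core K l) hn
      (CfsgLib.Coprime.isSolvable_of_isNilpotent isPGroup_core.isNilpotent)
    exact le_bot_iff.1 (h0 ▸ CfsgLib.CFun.BenderInvariant.le_core_of_normalized inf_le_right
      (CfsgLib.Coprime.inf_le_normalizer hKM le_normalizer) (hMp.to_le inf_le_left))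
  have hMK : M ≤ centralizer (K : Set G) :=
    le_centralizer_of_inf_eq_bot (by rw [normalizer_eq_top]; exact le_top) hKM hinter
  have hCn : (centralizer (K : Set G)).Normal := normalizer_eq_top_iff.1 (top_le_iff.1
    ((normalizer_eq_top K).ge.trans (CfsgLib.Coprime.normalizer_le_normalizer_centralizer K)))
  have h0 : K ⊓ centralizer (K : Set G) = ⊥ :=
    hsol _ (haveI := hCn; inferInstance) (CfsgLib.Coprime.isSolvable_of_isMulCommutative
      ⟨⟨fun a b => Subtype.ext (mem_centralizer_iff.1 b.2.2 a a.2.1)⟩⟩)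
  rcases hmeet K _ hKn hCn h0 with e | e
  · exact absurd (le_bot_iff.1 (e ▸ subset_normalClosure)) hB
  · exact le_bot_iff.1 (e ▸ hAM.trans hMK)

theorem sylow_map_eq {A : Subgroup G} {l : ℕ} [Fact l.Prime] (h : Group.IsNilpotent A)
    (P : Sylow l A) : (P : Subgroup A).map A.subtype = core A l :=
  eq_of_le_of_card_ge (le_core h (map_subtype_le _) (P.2.map _))
    (by rw [card_core h, card_map_of_injective A.subtype_injective, P.card_eq_multiplicity])

theorem false_of_prime_power {A B : Subgroup G} [IsSimpleGroup G] (hB : Group.IsNilpotent B)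
    (hns : ¬ Group.IsSolvable G) (hm : ∀ g : G, ∃ a ∈ A, ∃ b ∈ B, g = a * b)
    (hd : A ⊓ B = ⊥) {p k : ℕ} (hp : p.Prime) (hA : Nat.card A = p ^ k) (hB0 : B ≠ ⊥) : False := by
  obtain ⟨r, hr, hrd⟩ := Nat.exists_prime_and_dvd (fun h => hB0 (card_eq_one.1 h))
  haveI : Fact r.Prime := ⟨hr⟩
  obtain ⟨z, hz, hz1⟩ := (bot_or_exists_ne_one _).resolve_left
    (zCore_ne_bot (core_ne_bot_of_dvd ((fittingOf_eq hB).symm ▸ hrd)))
  have hzc := (zCore_le_center hz).2
  rw [fittingOf_eq hB] at hzc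
  have hle : B ≤ centralizer ({z} : Set G) :=
    (le_centralizer_iff.1 (zpowers_le.2 hzc)).trans
      (centralizer_le (Set.singleton_subset_iff.2 (mem_zpowers z)))
  have hidx : B.index = p ^ k := by
    rw [← hA]
    refine Nat.eq_of_mul_eq_mul_left (Nat.card_pos (α := B)) ?_
    rw [card_mul_index, card_mul_of_product hd hm, mul_comm]
  obtain ⟨j, -, hj⟩ := (Nat.dvd_prime_pow hp).1 (hidx ▸ index_dvd_of_le hle)
  exact hns (Group.isSolvable_of_comm
    (CfsgLib.Char.comm_of_class_prime_pow hp hz1 hj))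

/-- **Wielandt–Kegel**: a product of two nilpotent subgroups is solvable. -/
theorem isSolvable_of_product_aux : ∀ (n : ℕ) (G : Type u) [Group G] [Finite G] (A B : Subgroup G),
    Nat.card G = n → Group.IsNilpotent A → Group.IsNilpotent B →
    (∀ g : G, ∃ a ∈ A, ∃ b ∈ B, g = a * b) → Group.IsSolvable G := by
  intro n
  induction n using Nat.strong_induction_on with
  | _ n ih =>
  intro G _ _ A B hn hA hB hm
  subst hn
  by_contra hns
  haveI := hA
  haveI := hB
  have hproper : ∀ H : Subgroup G, H ≠ ⊤ → (∀ g ∈ H, ∃ a ∈ H ⊓ A, ∃ b ∈ H ⊓ B, g = a * b) →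
      Group.IsSolvable H := by
    intro H hH hfac
    have e : ∀ X : Subgroup G, Group.IsNilpotent X → Group.IsNilpotent (X.subgroupOf H) := by
      intro X hX
      have hmap : (X.subgroupOf H).map H.subtype ≤ X := map_comap_le _ _
      haveI := nil_of_le hX hmap
      exact Group.nilpotent_of_mulEquiv
        ((X.subgroupOf H).equivMapOfInjective H.subtype H.subtype_injective).symm
    refine ih (Nat.card H) ?_ H (A.subgroupOf H) (B.subgroupOf H) rfl (e A hA) (e B hB) fun g => ?_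
    · exact lt_of_le_of_ne (Nat.le_of_dvd Nat.card_pos (card_subgroup_dvd_card H))
        fun h => hH (eq_top_of_card_eq H h)
    · obtain ⟨a, ha, b, hb, e⟩ := hfac g g.2
      exact ⟨⟨a, ha.1⟩, ha.2, ⟨b, hb.1⟩, hb.2, Subtype.ext e⟩
  have hquot : ∀ (N : Subgroup G) [N.Normal], N ≠ ⊥ → Group.IsSolvable (G ⧸ N) := by
    intro N _ hN
    have hsurj : Function.Surjective (QuotientGroup.mk' N) := QuotientGroup.mk'_surjective N
    refine ih (Nat.card (G ⧸ N)) ?_ (G ⧸ N) (A.map (QuotientGroup.mk' N))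
      (B.map (QuotientGroup.mk' N)) rfl
      (Group.nilpotent_of_surjective _ (MonoidHom.subgroupMap_surjective (QuotientGroup.mk' N) A))
      (Group.nilpotent_of_surjective _ (MonoidHom.subgroupMap_surjective (QuotientGroup.mk' N) B))
      fun g => ?_
    · rw [← index_eq_card]
      refine lt_of_lt_of_eq ?_ (card_mul_index N)
      exact lt_mul_of_one_lt_left (Nat.pos_of_ne_zero index_ne_zero_of_finite)
        ((one_lt_card_iff_ne_bot N).2 hN)
    · obtain ⟨g, rfl⟩ := hsurj g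
      obtain ⟨a, ha, b, hb, rfl⟩ := hm g
      exact ⟨_, ⟨a, ha, rfl⟩, _, ⟨b, hb, rfl⟩, map_mul _ _ _⟩
  have hsol : ∀ N : Subgroup G, N.Normal → Group.IsSolvable N → N = ⊥ := by
    intro N hNn hNs
    by_contra hN
    haveI := hquot N hN
    haveI := hNs
    exact hns (Group.isSolvable_of_ker_le_range N.subtype (QuotientGroup.mk' N) (by simp))
  have hmeet : ∀ J K : Subgroup G, J.Normal → K.Normal → J ⊓ K = ⊥ → J = ⊥ ∨ K = ⊥ := by
    intro J K hJ hK h
    by_contra! hne
    haveI := hquot J hne.1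
    haveI := hquot K hne.2
    refine hns (Group.isSolvable_of_isSolvable_injective
      (f := (QuotientGroup.mk' J).prod (QuotientGroup.mk' K)) ?_)
    refine (MonoidHom.ker_eq_bot_iff _).1 (eq_bot_iff.2 fun x hx => ?_)
    rw [MonoidHom.mem_ker, MonoidHom.prod_apply, Prod.mk_eq_one] at hx
    exact h.le ⟨(QuotientGroup.eq_one_iff x).1 hx.1, (QuotientGroup.eq_one_iff x).1 hx.2⟩
  have hAne : A ≠ ⊥ := by
    rintro rfl
    refine hns ((CfsgLib.Coprime.isSolvable_of_isNilpotent hB) |> fun _ =>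
      Group.isSolvable_of_surjective (f := B.subtype) fun g => ?_)
    obtain ⟨a, ha, b, hb, rfl⟩ := hm g
    exact ⟨⟨b, hb⟩, by simp [mem_bot.1 ha]⟩
  have hBne : B ≠ ⊥ := by
    rintro rfl
    refine hns ((CfsgLib.Coprime.isSolvable_of_isNilpotent hA) |> fun _ =>
      Group.isSolvable_of_surjective (f := A.subtype) fun g => ?_)
    obtain ⟨a, ha, b, hb, rfl⟩ := hm g
    exact ⟨⟨a, ha⟩, by simp [mem_bot.1 hb]⟩
  have hcop : (Nat.card A).Coprime (Nat.card B) := by
    refine Nat.coprime_of_dvd fun l hl hlA hlB => ?_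
    haveI : Fact l.Prime := ⟨hl⟩
    obtain ⟨P, Q, R, hR⟩ := CfsgLib.Coprime.exists_sylow_product hm l
    rw [sylow_map_eq hA, sylow_map_eq hB] at hR
    have hbase : PermL l (core A l) (core B l) := by
      intro x
      obtain ⟨a, ha, b, hb, rfl⟩ := hm x
      refine ⟨(R : Subgroup G).map (MulAut.conj a).toMonoidHom, R.2.map _, ?_⟩
      have e2 : ((core A l).map (MulAut.conj a).toMonoidHom : Subgroup G) = core A l :=
        CfsgLib.Coprime.conjBy_eq_self_iff.2 (le_normalizer_core ha)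
      have e3 : (MulAut.conj (a * b) • core B l : Subgroup G) =
          (core B l).map (MulAut.conj a).toMonoidHom := by
        show conjBy (a * b) (core B l) = conjBy a (core B l)
        rw [← CfsgLib.Coprime.conjBy_conjBy,
          CfsgLib.Coprime.conjBy_eq_self_iff.2 (le_normalizer_core hb)]
      conv_rhs => rw [← e2, e3]
      rw [coe_map, hR, Set.image_mul, coe_map, coe_map]
    exact core_ne_bot_of_dvd ((fittingOf_eq hA).symm ▸ hlA)
      (eq_bot_of_solvable_normal hsol hmeet (fun h => hns (by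
        haveI := h.isNilpotent
        infer_instance)) hbase
        (core_ne_bot_of_dvd ((fittingOf_eq hB).symm ▸ hlB)))
  have hd : A ⊓ B = ⊥ := CfsgLib.Coprime.disjoint_of_coprime_card hcop
  have hidx : ∀ (X Y : Subgroup G), (∀ g : G, ∃ a ∈ X, ∃ b ∈ Y, g = a * b) →
      (∀ H : Subgroup G, H ≠ ⊤ → (∀ g ∈ H, ∃ a ∈ H ⊓ X, ∃ b ∈ H ⊓ Y, g = a * b) →
        Group.IsSolvable H) →
      ∀ (N : Subgroup G) [N.Normal], N ≠ ⊥ → N.index ∣ Nat.card X := by
    intro X Y hXY hXYs N hNn hN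
    have htop : X ⊔ N = ⊤ := by
      by_contra hne
      refine hN (hsol N hNn ?_)
      haveI := hXYs (X ⊔ N) hne fun g hg => by
        obtain ⟨a, ha, b, hb, e⟩ := hXY g
        refine ⟨a, ⟨mem_sup_left ha, ha⟩, b, ⟨?_, hb⟩, e⟩
        have := mul_mem (inv_mem (mem_sup_left ha : a ∈ X ⊔ N)) hg
        rwa [e, inv_mul_cancel_left] at this
      exact Group.isSolvable_of_isSolvable_injective
        (inclusion_injective (le_sup_right : N ≤ X ⊔ N))
    have h1 : X.map (QuotientGroup.mk' N) = ⊤ := by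
      have h2 := Subgroup.map_sup X N (QuotientGroup.mk' N)
      rw [htop, Subgroup.map_top_of_surjective _ (QuotientGroup.mk'_surjective N),
        show N.map (QuotientGroup.mk' N) = ⊥ by simp, sup_bot_eq] at h2
      exact h2.symm
    rw [index_eq_card, ← card_top (G := G ⧸ N), ← h1]
    exact Subgroup.card_map_dvd _ _
  have hm' : ∀ g : G, ∃ b ∈ B, ∃ a ∈ A, g = b * a := fun g => by
    obtain ⟨a, ha, b, hb, e⟩ := hm g⁻¹
    exact ⟨b⁻¹, inv_mem hb, a⁻¹, inv_mem ha, by rw [← inv_inv g, e, mul_inv_rev]⟩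
  have hproper' : ∀ H : Subgroup G, H ≠ ⊤ → (∀ g ∈ H, ∃ b ∈ H ⊓ B, ∃ a ∈ H ⊓ A, g = b * a) →
      Group.IsSolvable H := fun H hH h => hproper H hH fun g hg => by
    obtain ⟨b, hb, a, ha, e⟩ := h g⁻¹ (inv_mem hg)
    exact ⟨a⁻¹, inv_mem ha, b⁻¹, inv_mem hb, by rw [← inv_inv g, e, mul_inv_rev]⟩
  have hsimple : ∀ N : Subgroup G, N.Normal → N = ⊥ ∨ N = ⊤ := by
    intro N hN
    refine or_iff_not_imp_left.2 fun hne => ?_
    exact index_eq_one.1 (Nat.eq_one_of_dvd_coprimes hcop (hidx A B hm hproper N hne)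
      (hidx B A hm' hproper' N hne))
  haveI : Nontrivial G := by
    rw [← not_subsingleton_iff_nontrivial]
    intro hs
    exact hns inferInstance
  haveI : IsSimpleGroup G := ⟨fun N hN => hsimple N hN⟩
  have key : ∀ {X Y : Subgroup G}, Group.IsNilpotent Y → X ⊓ Y = ⊥ → Y ≠ ⊥ → X ≠ ⊥ →
      (∀ g : G, ∃ a ∈ X, ∃ b ∈ Y, g = a * b) → 2 ≤ (Nat.card X).primeFactors.card := by
    intro X Y hY hXY hY0 hX0 hXYm
    by_contra hlt
    have hne1 : Nat.card X ≠ 1 := fun h => hX0 (card_eq_one.1 h)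
    obtain ⟨p, hp, hpd⟩ := Nat.exists_prime_and_dvd hne1
    refine false_of_prime_power hY hns hXYm hXY hp
      (k := (Nat.card X).primeFactorsList.length) ?_ hY0
    refine Nat.eq_prime_pow_of_unique_prime_dvd Nat.card_pos.ne' fun {q} hq hqd => ?_
    exact Finset.card_le_one.1 (by omega) q (Nat.mem_primeFactors.2 ⟨hq, hqd, Nat.card_pos.ne'⟩)
      p (Nat.mem_primeFactors.2 ⟨hp, hpd, Nat.card_pos.ne'⟩)
  exact Data.false (A := A) (B := B)
    ⟨hA, hB, hcop, hm, hsimple, hproper, key hB hd hBne hAne hm,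
      key hA ((inf_comm B A).trans hd) hAne hBne hm'⟩

theorem isSolvable_of_product {A B : Subgroup G} (hA : Group.IsNilpotent A)
    (hB : Group.IsNilpotent B) (hm : ∀ g : G, ∃ a ∈ A, ∃ b ∈ B, g = a * b) : Group.IsSolvable G :=
  isSolvable_of_product_aux _ G A B rfl hA hB hm

/-- In a product of two nilpotent subgroups a proper normal subgroup contains one of the factors
(when one of them is proper). -/
theorem exists_normal_containing_aux : ∀ (n : ℕ) (G : Type u) [Group G] [Finite G]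
    (A B : Subgroup G), Nat.card G = n → Group.IsNilpotent A → Group.IsNilpotent B →
    (∀ g : G, ∃ a ∈ A, ∃ b ∈ B, g = a * b) → (A ≠ ⊤ ∨ B ≠ ⊤) →
    ∃ N : Subgroup G, N.Normal ∧ N ≠ ⊤ ∧ (A ≤ N ∨ B ≤ N) := by
  intro n
  induction n using Nat.strong_induction_on with
  | _ n ih =>
  intro G _ _ A B hn hA hB hm hne
  subst hn
  haveI := hA
  haveI := hB
  haveI := isSolvable_of_product hA hB hm
  by_cases hgood : ∃ N : Subgroup G, N.Normal ∧ N ≠ ⊥ ∧ (A ⊔ N ≠ ⊤ ∨ B ⊔ N ≠ ⊤)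
  · obtain ⟨N, hNn, hN, hAB⟩ := hgood
    set f := QuotientGroup.mk' N
    have hf : Function.Surjective f := QuotientGroup.mk'_surjective N
    have hne' : ∀ X : Subgroup G, X ⊔ N ≠ ⊤ → X.map f ≠ ⊤ := fun X hX h => hX (by
      have := congrArg (Subgroup.comap f) h
      rwa [comap_map_eq, QuotientGroup.ker_mk', comap_top] at this)
    obtain ⟨K, hK, hK1, hK2⟩ := ih (Nat.card (G ⧸ N)) (by
        rw [← index_eq_card]
        refine lt_of_lt_of_eq ?_ (card_mul_index N)
        exact lt_mul_of_one_lt_left (Nat.pos_of_ne_zero index_ne_zero_of_finite)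
          ((one_lt_card_iff_ne_bot N).2 hN)) (G ⧸ N) (A.map f) (B.map f) rfl
      (Group.nilpotent_of_surjective _ (MonoidHom.subgroupMap_surjective f A))
      (Group.nilpotent_of_surjective _ (MonoidHom.subgroupMap_surjective f B))
      (fun g => by
        obtain ⟨g, rfl⟩ := hf g
        obtain ⟨a, ha, b, hb, rfl⟩ := hm g
        exact ⟨_, ⟨a, ha, rfl⟩, _, ⟨b, hb, rfl⟩, map_mul _ _ _⟩)
      (hAB.imp (hne' A) (hne' B))
    refine ⟨K.comap f, hK.comap f, fun h => hK1 ?_, hK2.imp map_le_iff_le_comap.1 map_le_iff_le_comap.1⟩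
    rw [← map_comap_eq_self_of_surjective hf K, h, map_top_of_surjective f hf]
  have hall : ∀ N : Subgroup G, N.Normal → N ≠ ⊥ → A ⊔ N = ⊤ ∧ B ⊔ N = ⊤ := fun N hN hN0 =>
    ⟨by_contra fun h => hgood ⟨N, hN, hN0, Or.inl h⟩,
      by_contra fun h => hgood ⟨N, hN, hN0, Or.inr h⟩⟩
  have hnil : ∀ X Y : Subgroup G, X = ⊤ → Group.IsNilpotent X → Y ≠ ⊤ →
      ∃ N : Subgroup G, N.Normal ∧ N ≠ ⊤ ∧ Y ≤ N := by
    intro X Y hX hXn hY
    subst hX
    haveI : Group.IsNilpotent G := Group.nilpotent_of_mulEquiv (topEquiv (G := G))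
    obtain ⟨M, hM, hYM⟩ := (eq_top_or_exists_le_coatom Y).resolve_left hY
    exact ⟨M, Subgroup.NormalizerCondition.normal_of_coatom M Group.normalizerCondition_of_isNilpotent hM,
      hM.1, hYM⟩
  by_cases hAt : A = ⊤
  · obtain ⟨N, h1, h2, h3⟩ := hnil A B hAt hA (hne.resolve_left (not_not.2 hAt))
    exact ⟨N, h1, h2, Or.inr h3⟩
  by_cases hBt : B = ⊤
  · obtain ⟨N, h1, h2, h3⟩ := hnil B A hBt hB hAt
    exact ⟨N, h1, h2, Or.inl h3⟩
  exfalso
  have hnt : (⊤ : Subgroup G) ≠ ⊥ := fun h => hAt (top_le_iff.1 (h ▸ bot_le))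
  obtain ⟨N, hNn, hN0, -, hmin⟩ := CfsgLib.Coprime.exists_minimal_normal_le hnt
  haveI := hNn
  obtain ⟨hcomm, p, hp, hexp⟩ := CfsgLib.Coprime.minimal_normal_solvable hN0 hmin
  haveI : Fact p.Prime := ⟨hp⟩
  have hNc : N ≤ centralizer (N : Set G) := fun x hx =>
    mem_centralizer_iff.2 fun y hy => hcomm y hy x hx
  have small : ∀ X : Subgroup G, X ≠ ⊤ → (∀ K : Subgroup G, K.Normal → K ≠ ⊥ → X ⊔ K = ⊤) →
      ∀ D : Subgroup G, D ≤ X → X ≤ normalizer (D : Set G) → N ≤ normalizer (D : Set G) →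
        D = ⊥ := by
    intro X hX hXall D hDX h1 h2
    by_contra hD
    have hDn : D.Normal := normalizer_eq_top_iff.1
      (top_le_iff.1 ((hXall N hNn hN0).ge.trans (sup_le h1 h2)))
    exact hX (by rw [← hXall D hDn hD, sup_eq_left.2 hDX])
  have compl : ∀ X : Subgroup G, X ≠ ⊤ → Group.IsNilpotent X →
      (∀ K : Subgroup G, K.Normal → K ≠ ⊥ → X ⊔ K = ⊤) →
      X ⊓ N = ⊥ ∧ Nat.card X = N.index ∧ ¬ p ∣ Nat.card X := by
    intro X hX hXn hXall
    have hinf : X ⊓ N = ⊥ := small X hX hXall _ inf_le_left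
      (CfsgLib.Coprime.inf_le_normalizer le_normalizer (by rw [normalizer_eq_top]; exact le_top))
      ((hNc.trans (centralizer_le (inf_le_right : X ⊓ N ≤ N))).trans
        (CfsgLib.Coprime.centralizer_le_normalizer_self _))
    have hfaith : X ⊓ centralizer (N : Set G) = ⊥ := small X hX hXall _ inf_le_left
      (CfsgLib.Coprime.inf_le_normalizer le_normalizer ((normalizer_eq_top N).ge.trans
        (CfsgLib.Coprime.normalizer_le_normalizer_centralizer N) |> le_trans le_top))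
      (((le_centralizer_iff.1 (inf_le_right : X ⊓ centralizer (N : Set G) ≤ _))).trans
        (CfsgLib.Coprime.centralizer_le_normalizer_self _))
    refine ⟨hinf, ?_, fun hpX => ?_⟩
    · have hmX : ∀ g : G, ∃ a ∈ X, ∃ b ∈ N, g = a * b := fun g => by
        have hg : g ∈ X ⊔ N := by rw [hXall N hNn hN0]; exact mem_top g
        obtain ⟨n, hn, a, ha, e⟩ := CfsgLib.Coprime.mem_sup_exists
          (show X ≤ normalizer (N : Set G) by rw [normalizer_eq_top]; exact le_top)
          (sup_comm X N ▸ hg)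
        exact ⟨a, ha, a⁻¹ * n * a, by simpa using hNn.conj_mem n hn a⁻¹, by rw [← e]; group⟩
      refine Nat.eq_of_mul_eq_mul_left (Nat.card_pos (α := N)) ?_
      rw [card_mul_index, card_mul_of_product hinf hmX, mul_comm]
    set P := core X p with hP
    have hP0 : P ≠ ⊥ := core_ne_bot_of_dvd ((fittingOf_eq hXn).symm ▸ hpX)
    have hNp : IsPGroup p N := fun x => ⟨1, by rw [pow_one]; exact Subtype.ext (hexp x x.2)⟩
    set D := N ⊓ centralizer (P : Set G) with hD
    have hDn : D.Normal := normalizer_eq_top_iff.1 (top_le_iff.1 ((hXall N hNn hN0).ge.trans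
      (sup_le (CfsgLib.Coprime.inf_le_normalizer (by rw [normalizer_eq_top]; exact le_top)
          (le_normalizer_core.trans (CfsgLib.Coprime.normalizer_le_normalizer_centralizer _)))
        ((hNc.trans (centralizer_le (inf_le_left : N ⊓ centralizer (P : Set G) ≤ N))).trans
          (CfsgLib.Coprime.centralizer_le_normalizer_self _)))))
    have hD0 : D ≠ ⊥ := by
      haveI : Group.IsNilpotent (P ⊔ N : Subgroup G) :=
        (isPGroup_core.to_sup_of_normal_right hNp).isNilpotent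
      have h1 := CfsgLib.Coprime.nilpotent_inf_center_ne_bot' (M := N) (N := P ⊔ N) le_sup_right hN0
      exact fun h => h1 (le_bot_iff.1 (h ▸ inf_le_inf_left N (centralizer_le (le_sup_left : P ≤ P ⊔ N))))
    rcases hmin D hDn inf_le_left with e | e
    · exact hD0 e
    · refine hP0 (le_bot_iff.1 (hfaith ▸ le_inf core_le (le_centralizer_iff.1 ?_)))
      exact (le_inf_iff.1 e.ge).2
  obtain ⟨hAN, hAi, hAp⟩ := compl A hAt hA fun K hK hK0 => (hall K hK hK0).1
  obtain ⟨-, hBi, -⟩ := compl B hBt hB fun K hK hK0 => (hall K hK hK0).2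
  have hcop : (Nat.card N).Coprime N.index := by
    have hNp : IsPGroup p N := fun x => ⟨1, by rw [pow_one]; exact Subtype.ext (hexp x x.2)⟩
    obtain ⟨k, hk⟩ := IsPGroup.iff_card.1 hNp
    rw [hk, ← hAi]
    exact Nat.Coprime.pow_left k ((hp.coprime_iff_not_dvd).2 hAp)
  obtain ⟨g, hg, e⟩ := CfsgLib.Coprime.sz_conj hcop hAi hBi
    (Or.inr (CfsgLib.Coprime.isSolvable_of_isNilpotent hB))
  obtain ⟨a, ha, b, hb, hgb⟩ := hm g⁻¹
  rw [← e] at hb
  obtain ⟨a', ha', rfl⟩ := hb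
  simp only [MulEquiv.coe_toMonoidHom, MulAut.conj_apply] at hgb
  have hgA : g ∈ A := by
    have h1 : a * g * a' = 1 := by
      have := congrArg (· * g) hgb
      simp only [inv_mul_cancel] at this
      rw [this]; group
    rw [show g = a⁻¹ * a'⁻¹ by
      rw [← mul_left_inj a', inv_mul_cancel_right, ← mul_right_inj a, mul_inv_cancel, ← mul_assoc, h1]]
    exact mul_mem (inv_mem ha) (inv_mem ha')
  have hg1 : g = 1 := mem_bot.1 (hAN ▸ ⟨hgA, hg⟩)
  rw [hg1, CfsgLib.Coprime.conjBy_one] at e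
  refine hAt (eq_top_iff.2 fun x _ => ?_)
  obtain ⟨a₁, ha₁, b₁, hb₁, rfl⟩ := hm x
  exact mul_mem ha₁ (e ▸ hb₁)

theorem exists_normal_containing {A B : Subgroup G} (hA : Group.IsNilpotent A)
    (hB : Group.IsNilpotent B) (hm : ∀ g : G, ∃ a ∈ A, ∃ b ∈ B, g = a * b) (h : A ≠ ⊤ ∨ B ≠ ⊤) :
    ∃ N : Subgroup G, N.Normal ∧ N ≠ ⊤ ∧ (A ≤ N ∨ B ≤ N) :=
  exists_normal_containing_aux _ G A B rfl hA hB hm h

end CfsgLib.NilpotentProduct
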