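import Cfsg.Agent.Lib.CFun.OddRankTwo
import Cfsg.Agent.Lib.Coprime.Fitting

/-!
# Odd solvable groups whose Fitting subgroup has rank at most two
-/

set_option autoImplicit false
set_option linter.style.haveILetI false
set_option linter.unusedSectionVars false

open Subgroup
open scoped commutatorElement
open CfsgLib.Coprime (conj_mem_of_le_normalizer)

namespace CfsgLib.CFun

universe u

variable {G : Type u} [Group G] [Finite G]

/-- A finite group in which elements of coprime prime power orders commute is nilpotent. -/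
theorem isNilpotent_of_prime_powers_commute {K : Type u} [Group K] [Finite K]
    (h : ∀ (r s : ℕ) [Fact r.Prime] [Fact s.Prime], r ≠ s → ∀ x y : K,
      (∃ a, x ^ r ^ a = 1) → (∃ b, y ^ s ^ b = 1) → Commute x y) : Group.IsNilpotent K := by
  refine (Group.isNilpotent_of_finite_tfae.out 0 3).2 fun s hs S => ?_
  haveI := hs
  refine normalizer_eq_top_iff.1 (eq_top_of_card_eq _ (Nat.dvd_antisymm (card_subgroup_dvd_card _)
    ((Nat.dvd_iff_prime_pow_dvd_dvd _ _).2 fun r k hr hd => ?_)))
  haveI : Fact r.Prime := ⟨hr⟩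
  rcases k with _ | k
  · simp
  have key : ∀ T : Sylow r K, (T : Subgroup K) ≤ normalizer ((S : Subgroup K) : Set K) →
      r ^ (k + 1) ∣ Nat.card ↥(normalizer ((S : Subgroup K) : Set K)) := fun T hT => by
    refine dvd_trans ?_ (card_dvd_of_le hT)
    rw [T.card_eq_multiplicity]
    exact pow_dvd_pow r ((hr.pow_dvd_iff_le_factorization Nat.card_pos.ne').1 hd)
  rcases eq_or_ne r s with rfl | hne
  · exact key S le_normalizer
  obtain ⟨T⟩ : Nonempty (Sylow r K) := inferInstance
  refine key T fun t ht => ?_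
  rw [mem_normalizer_iff]
  intro w
  have hc : ∀ w ∈ (S : Subgroup K), t * w * t⁻¹ = w := fun w hw => by
    obtain ⟨a, ha⟩ := T.2 ⟨t, ht⟩
    obtain ⟨b, hb⟩ := S.2 ⟨w, hw⟩
    have hcm : Commute t w := h r s hne t w ⟨a, congrArg Subtype.val ha⟩ ⟨b, congrArg Subtype.val hb⟩
    rw [hcm.eq, mul_inv_cancel_right]
  refine ⟨fun hw => (hc w hw).symm ▸ hw, fun hw => ?_⟩
  have := hc _ hw
  have e : t * w * t⁻¹ = w := mul_left_cancel (mul_right_cancel this)
  rwa [e] at hw

/-- The derived group is nilpotent when its elements of order prime to `t` centralize the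
`t`-core, for every prime `t`. -/
theorem commutator_isNilpotent_of_centralizes [Group.IsSolvable G]
    (hcent : ∀ {t : ℕ}, t.Prime → ∀ {x : G}, x ∈ commutator G → (orderOf x).Coprime t →
      x ∈ centralizer (Cfsg.pCore t G : Set G)) :
    Group.IsNilpotent ↥(commutator G) := by
  haveI := CfsgLib.Coprime.fitting_normal (G := G)
  set F := Cfsg.fittingSubgroup G with hF
  refine isNilpotent_of_prime_powers_commute fun r s _ _ hrs x y hx hy => ?_
  obtain ⟨a, ha⟩ := hx
  obtain ⟨b, hb⟩ := hy
  have hr' : r.Prime := Fact.out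
  have hs' : s.Prime := Fact.out
  have hxa : orderOf (x : G) ∣ r ^ a := orderOf_dvd_of_pow_eq_one (congrArg Subtype.val ha)
  have hyb : orderOf (y : G) ∣ s ^ b := orderOf_dvd_of_pow_eq_one (congrArg Subtype.val hb)
  -- the commutator centralizes, hence lies in, the Fitting subgroup
  set c := ⁅(x : G), (y : G)⁆ with hc
  have hcF : c ∈ F := by
    refine CfsgLib.Coprime.centralizer_fitting_le ?_
    rw [CfsgLib.Coprime.fitting_eq_iSup_pCore]
    refine le_centralizer_iff.1 (iSup_le fun t => le_centralizer_iff.1 ?_) (mem_zpowers c)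
    rw [zpowers_le]
    haveI := CfsgLib.Coprime.pCore_normal' (G := G) t.1
    set V := Cfsg.pCore (t : ℕ) G
    haveI : (centralizer (V : Set G)).Normal := Subgroup.normal_centralizer
    rw [hc, commutatorElement_def]
    rcases eq_or_ne (t : ℕ) r with e | hne
    · have hyV : (y : G) ∈ centralizer (V : Set G) := hcent t.2 y.2
        (Nat.Coprime.coprime_dvd_left hyb
          (Nat.Coprime.pow_left b ((Nat.coprime_primes hs' t.2).2 (e ▸ hrs.symm))))
      exact mul_mem (Subgroup.Normal.conj_mem inferInstance _ hyV _) (inv_mem hyV)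
    · have hxV : (x : G) ∈ centralizer (V : Set G) := hcent t.2 x.2
        (Nat.Coprime.coprime_dvd_left hxa
          (Nat.Coprime.pow_left a ((Nat.coprime_primes hr' t.2).2 hne.symm)))
      rw [mul_assoc, mul_assoc]
      exact mul_mem hxV (by
        rw [← mul_assoc]
        exact Subgroup.Normal.conj_mem inferInstance _ (inv_mem hxV) _)
  -- hence is a `t`-element for both primes
  have key : ∀ {t : ℕ}, t.Prime → ∀ {u v : G} {m : ℕ}, u ∈ commutator G → orderOf u ∣ t ^ m →
      orderOf v ∣ t ^ m → v * u⁻¹ ∈ F → ∃ n, (v * u⁻¹) ^ t ^ n = 1 := by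
    intro t ht u v m hu hum hvm hd
    haveI : Fact t.Prime := ⟨ht⟩
    haveI := CfsgLib.Coprime.pCore_normal' (G := G) t
    set π := QuotientGroup.mk' (Cfsg.pCore t G)
    have hcomm : Commute (π u) (π (v * u⁻¹)) := by
      have h1 : F ≤ (centralizer ({π u} : Set (G ⧸ Cfsg.pCore t G))).comap π := by
        rw [hF, CfsgLib.Coprime.fitting_eq_iSup_pCore]
        refine iSup_le fun l f hf => mem_comap.2 ?_
        refine mem_centralizer_iff.2 ?_
        rintro _ rfl
        rcases eq_or_ne (l : ℕ) t with e | hne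
        · have hfl : f ∈ Cfsg.pCore t G := e ▸ hf
          rw [show π f = 1 from (QuotientGroup.eq_one_iff f).2 hfl, mul_one, one_mul]
        · have h2 := mem_centralizer_iff.1 (hcent l.2 hu (Nat.Coprime.coprime_dvd_left hum
            (Nat.Coprime.pow_left m ((Nat.coprime_primes ht l.2).2 hne.symm)))) f hf
          rw [← map_mul, ← map_mul, h2]
      exact mem_centralizer_iff.1 (mem_comap.1 (h1 hd)) _ rfl
    have hu1 : π u ^ t ^ m = 1 := by
      rw [← map_pow, orderOf_dvd_iff_pow_eq_one.1 hum, map_one]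
    have hv1 : π v ^ t ^ m = 1 := by
      rw [← map_pow, orderOf_dvd_iff_pow_eq_one.1 hvm, map_one]
    have h3 : π ((v * u⁻¹) ^ t ^ m) = 1 := by
      have e : π v = π (v * u⁻¹) * π u := by rw [← map_mul, inv_mul_cancel_right]
      rw [e, hcomm.symm.mul_pow, hu1, mul_one] at hv1
      rw [map_pow, hv1]
    obtain ⟨n, hn⟩ := CfsgLib.Coprime.pCore_isPGroup (G := G) t
      ⟨_, (QuotientGroup.eq_one_iff _).1 h3⟩
    refine ⟨m + n, ?_⟩
    rw [pow_add, pow_mul]
    exact congrArg Subtype.val hn
  obtain ⟨n₁, h₁⟩ := key hs' y.2 hyb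
    (show orderOf ((x : G) * y * (x : G)⁻¹) ∣ s ^ b by
      rw [← MulAut.conj_apply, MulEquiv.orderOf_eq]; exact hyb)
    (by rw [show (x : G) * y * (x : G)⁻¹ * (y : G)⁻¹ = c from (commutatorElement_def _ _).symm]
        exact hcF)
  obtain ⟨n₂, h₂⟩ := key hr' x.2 hxa
    (show orderOf ((y : G) * x * (y : G)⁻¹) ∣ r ^ a by
      rw [← MulAut.conj_apply, MulEquiv.orderOf_eq]; exact hxa)
    (by rw [show (y : G) * x * (y : G)⁻¹ * (x : G)⁻¹ = c⁻¹ by
          rw [hc, commutatorElement_inv, commutatorElement_def]]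
        exact inv_mem hcF)
  rw [show (x : G) * y * (x : G)⁻¹ * (y : G)⁻¹ = c from (commutatorElement_def _ _).symm] at h₁
  rw [show (y : G) * x * (y : G)⁻¹ * (x : G)⁻¹ = c⁻¹ by
        rw [hc, commutatorElement_inv, commutatorElement_def], inv_pow, inv_eq_one] at h₂
  have hc1 : c = 1 := orderOf_eq_one_iff.1 (Nat.eq_one_of_dvd_coprimes
    (Nat.Coprime.pow _ _ ((Nat.coprime_primes hs' hr').2 hrs.symm))
    (orderOf_dvd_of_pow_eq_one h₁) (orderOf_dvd_of_pow_eq_one h₂))
  rw [hc, commutatorElement_eq_one_iff_commute] at hc1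
  exact Subtype.ext hc1.eq

/-- The derived group is nilpotent when every `p`-core has rank at most two. -/
theorem commutator_isNilpotent_of_rank_two [Group.IsSolvable G] (hodd : Odd (Nat.card G))
    (hr : ∀ s : ℕ, s.Prime → Cfsg.PRankLE s 2 ↥(Cfsg.pCore s G)) :
    Group.IsNilpotent ↥(commutator G) := by
  refine commutator_isNilpotent_of_centralizes fun {t} ht {x} hx hxt => ?_
  haveI : Fact t.Prime := ⟨ht⟩
  haveI hn := CfsgLib.Coprime.pCore_normal' (G := G) t
  rcases eq_or_ne t 2 with rfl | ht2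
  · obtain ⟨k, hk⟩ := IsPGroup.iff_card.1 (CfsgLib.Coprime.pCore_isPGroup (G := G) 2)
    rcases k with _ | k
    · rw [card_eq_one.1 (hk.trans (pow_zero 2))]
      exact mem_centralizer_iff.2 fun y hy => by rw [mem_bot.1 hy, one_mul, mul_one]
    · exact absurd (even_iff_two_dvd.2 ((hk ▸ dvd_pow_self 2 k.succ_ne_zero :
        2 ∣ Nat.card (Cfsg.pCore 2 G)).trans (card_subgroup_dvd_card _)))
        (Nat.not_even_iff_odd.2 hodd)
  haveI : Group.IsSolvable (⊤ : Subgroup G) :=
    Group.isSolvable_of_surjective (f := (topEquiv (G := G)).symm.toMonoidHom)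
      (topEquiv (G := G)).symm.surjective
  refine centralizes_rank_two ht2 (CfsgLib.Coprime.pCore_isPGroup t) (hr t ht)
    (show ⊤ ≤ normalizer (Cfsg.pCore t G : Set G) by rw [normalizer_eq_top]) inferInstance
    (by rw [card_top]; exact hodd) ?_ hxt
  rwa [← _root_.commutator_def]

/-- The derived group lies in the Fitting subgroup. -/
theorem commutator_le_fitting_of_rank_two [Group.IsSolvable G] (hodd : Odd (Nat.card G))
    (hr : ∀ s : ℕ, s.Prime → Cfsg.PRankLE s 2 ↥(Cfsg.pCore s G)) :
    commutator G ≤ Cfsg.fittingSubgroup G := by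
  haveI := commutator_isNilpotent_of_rank_two hodd hr
  exact CfsgLib.Coprime.le_fitting (N := _root_.commutator G) inferInstance

end CfsgLib.CFun
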