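import Cfsg.Agent.Lib.CFun.OddSCNAnchor
import Cfsg.Agent.Lib.CFun.OddDerivedFitting
import Cfsg.Agent.Lib.Fusion.Transfer
import Cfsg.Agent.Lib.Fusion.Thompson
import Cfsg.Agent.S0118
import Cfsg.Agent.Lib.Coprime.Fitting

/-!
# Abelian subgroups of rank three, self-centralizing in a Sylow subgroup, are uniqueness subgroups
-/

set_option autoImplicit false
set_option linter.style.haveILetI false
set_option linter.unusedSectionVars false

open Subgroup
open scoped commutatorElement
open CfsgLib.Coprime (conjBy conjBy_conjBy conjBy_one conjBy_eq_self_iff mem_conjBy conj_mem_conjBy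
  conj_mem_of_le_normalizer card_conjBy IsSylowIn)

namespace CfsgLib.CFun

universe u

variable {G : Type u} [Group G] [Finite G] {p : ℕ} [hp : Fact p.Prime]

theorem normalizer_le_normalizer_centerThompsonOf (P : Subgroup G) :
    normalizer (P : Set G) ≤ normalizer (Cfsg.centerThompsonOf p P : Set G) := by
  have hJ : normalizer (P : Set G) ≤ normalizer (Cfsg.thompsonSubgroupOf p P : Set G) := by
    intro g hg
    refine conjBy_eq_self_iff.1 (eq_of_le_of_card_ge ?_ (card_conjBy g _).ge)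
    have h := CfsgLib.Fusion.conjBy_thompsonSubgroupOf (p := p) g P
    rwa [show CfsgLib.Fusion.conjBy g P = P from conjBy_eq_self_iff.2 hg] at h
  exact CfsgLib.Coprime.inf_le_normalizer hJ
    (hJ.trans (CfsgLib.Coprime.normalizer_le_normalizer_centralizer _))

/-- The normalizer of the centre of the Thompson subgroup controls transfer. -/
theorem le_commutator_transfer_local (hG : Cfsg.IsMinSimpleOddOrder G) (P : Sylow p G)
    (hP : (P : Subgroup G) ≠ ⊥) :
    normalizer (Cfsg.centerThompsonOf p (P : Subgroup G) : Set G) ≠ ⊤ ∧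
      (P : Subgroup G) ≤ ⁅normalizer (Cfsg.centerThompsonOf p (P : Subgroup G) : Set G),
        normalizer (Cfsg.centerThompsonOf p (P : Subgroup G) : Set G)⁆ := by
  have hp2 : p ≠ 2 := ms_ne_two hG (by
    obtain ⟨k, hk⟩ := IsPGroup.iff_card.1 P.2
    rcases k with _ | k
    · exact absurd (card_eq_one.1 (by rw [hk, pow_zero])) hP
    · exact (hk ▸ dvd_pow_self p k.succ_ne_zero).trans (card_subgroup_dvd_card _))
  set N := normalizer (Cfsg.centerThompsonOf p (P : Subgroup G) : Set G) with hN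
  set J := Cfsg.thompsonSubgroupOf p (P : Subgroup G) with hJ
  have hJP : J ≤ (P : Subgroup G) := CfsgLib.Fusion.thompsonSubgroupOf_le _
  have hJ1 : J ≠ ⊥ := CfsgLib.Fusion.thompsonSubgroupOf_ne_bot P.2 hP
  have hZ1 : Cfsg.centerThompsonOf p (P : Subgroup G) ≠ ⊥ := by
    obtain ⟨x, hx, hx1⟩ := centerSocle_ne_bot (P.2.to_le hJP) le_rfl le_normalizer hJ1
    refine fun h => hx1 (mem_bot.1 (h ▸ ⟨hx.1, mem_centralizer_iff.2 fun y hy => ?_⟩))
    exact (hx.2.2.2 y hy).symm.eq
  have hNtop : N ≠ ⊤ := ms_normalizer_ne_top hG hZ1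
    (ms_isPGroup_ne_top hG (P.2.to_le ((inf_le_left : Cfsg.centerThompsonOf p _ ≤ J).trans hJP)))
  refine ⟨hNtop, ?_⟩
  have hfree : ¬ ∃ (H K : Subgroup G) (_ : (K.subgroupOf H).Normal),
      Nonempty ((H ⧸ K.subgroupOf H) ≃* Matrix.SpecialLinearGroup (Fin 2) (ZMod p)) := by
    rintro ⟨H, K, hK, ⟨e⟩⟩
    have h1 : Odd (Nat.card (Matrix.SpecialLinearGroup (Fin 2) (ZMod p))) := by
      rw [← Nat.card_congr e.toEquiv]
      exact hG.1.of_dvd_nat ((card_quotient_dvd_card _).trans (card_subgroup_dvd_card H))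
    set m : Matrix.SpecialLinearGroup (Fin 2) (ZMod p) := ⟨-1, by simp [Matrix.det_fin_two]⟩
    have hm : m * m = 1 := Subtype.ext (show (-1 : Matrix (Fin 2) (Fin 2) (ZMod p)) * -1 = 1 by simp)
    have hm1 : m = 1 := orderOf_eq_one_iff.1 (Nat.eq_one_of_dvd_coprimes h1.coprime_two_left.symm
      (orderOf_dvd_natCard m) (orderOf_dvd_of_pow_eq_one (by rw [pow_two, hm])))
    have h2 : (-1 : ZMod p) = 1 := by
      have := congrArg (fun x : Matrix.SpecialLinearGroup (Fin 2) (ZMod p) => x.1 0 0) hm1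
      simpa [m] using this
    have h3 : ((2 : ℕ) : ZMod p) = 0 := by push_cast; linear_combination -(1 : ZMod p) * h2
    rw [ZMod.natCast_eq_zero_iff] at h3
    exact hp2 ((Nat.prime_dvd_prime_iff_eq hp.out Nat.prime_two).1 h3)
  have hcontrol : (P : Subgroup G).focalSubgroup ≤ ⁅(P : Subgroup G), N⁆ := by
    refine CfsgLib.Fusion.focalSubgroup_le_of_control fun x hx g hgx => ?_
    obtain ⟨n, hn, h⟩ := Cfsg.Agent.S0118.result hp2 hfree P {x} (Set.singleton_subset_iff.2 hx) g⁻¹ (by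
      rintro _ ⟨a, rfl, rfl⟩
      show g⁻¹⁻¹ * a * g⁻¹ ∈ (P : Subgroup G)
      rw [inv_inv]; exact hgx)
    exact ⟨n⁻¹, inv_mem hn, by simpa using h x rfl⟩
  have hPN : (P : Subgroup G) ≤ N :=
    le_normalizer.trans (normalizer_le_normalizer_centerThompsonOf _)
  have hperf : commutator G = ⊤ := by
    haveI := hG.2.1
    haveI : IsSimpleGroup G := hG.2.1
    refine (IsSimpleGroup.eq_bot_or_eq_top_of_normal (commutator G) inferInstance).resolve_left
      fun h => hG.2.2.1 ⟨⟨fun a b => ?_⟩⟩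
    have h1 : ⁅a, b⁆ ∈ commutator G := commutator_mem_commutator (mem_top a) (mem_top b)
    rw [h, mem_bot] at h1
    exact commutatorElement_eq_one_iff_mul_comm.1 h1
  have hfocal := CfsgLib.Fusion.commutator_inf_eq_focal
    (CfsgLib.Fusion.coprime_card_focalQuotient P)
  rw [hperf, top_inf_eq] at hfocal
  exact hfocal.le.trans (hcontrol.trans (commutator_mono hPN le_rfl))

/-- A Sylow subgroup lies in the derived group of a local subgroup of the centre of its Thompson
subgroup. -/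
theorem exists_transfer_local (hG : Cfsg.IsMinSimpleOddOrder G) (P : Sylow p G)
    (hP : (P : Subgroup G) ≠ ⊥) :
    ∃ M : Subgroup G, IsCoatom M ∧ (P : Subgroup G) ≤ ⁅M, M⁆ := by
  obtain ⟨hN, hle⟩ := le_commutator_transfer_local hG P hP
  obtain ⟨M, hM, hNM⟩ := (eq_top_or_exists_le_coatom _).resolve_left hN
  exact ⟨M, hM, hle.trans (commutator_mono hNM hNM)⟩

/-- The conjugating group. -/
local notation "Θ" A => Cfsg.piCoreOf (Cfsg.primesNotDvd (Nat.card A)) (centralizer (A : Set G))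

variable {A E Q M Q' M' S : Subgroup G} {q t : ℕ}

theorem conjBy_le_of_mem {c : G} {X Y : Subgroup G} (hc : c ∈ Y) (hX : X ≤ Y) : conjBy c X ≤ Y := by
  rintro _ ⟨x, hx, rfl⟩
  exact mul_mem (mul_mem hc (hX hx)) (inv_mem hc)

/-- The comparison of two anchors. -/
theorem Anchor.eq_of_lt (h : Anchor p A E q Q M) (h' : Anchor p A E t Q' M') (htq : t < q) :
    M' = M := by
  haveI : Fact q.Prime := ⟨h.prime⟩
  haveI : Fact t.Prime := ⟨h'.prime⟩
  obtain ⟨hΘM, hAM⟩ := h.theta_le
  obtain ⟨V, hVQ', hVe, hV3⟩ := exists_elementary_of_not_pRankLE h'.rank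
  have hQ'M : Q' ≤ M → M' = M := fun hle =>
    (h'.big V hVQ' hVe hV3.ge).unique ⟨h'.maxM, hVQ'.trans h'.leM⟩ ⟨h.maxM, hVQ'.trans hle⟩
  by_cases hle : Q' ≤ M
  · exact hQ'M hle
  have key : h.socle ≤ M' := by
    by_contra hU
    obtain ⟨H, hHE, hHe, hH2, hne⟩ := exists_line h.data.elem h.data.card h.elem_le_normalizer
      h.socle_not_dvd hU
    refine hle (gen_le h.data.elem h.data.card (K := Q') (h.data.le.trans h'.maxQ.2.1)
      (not_dvd_of_isPGroup h'.ne h'.maxQ.1) hHE hHe hH2.ge le_rfl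
      ((hHE.trans h.data.le).trans h'.maxQ.2.1) fun b hb hb1 => ?_)
    by_cases hb' : centralizer ({b} : Set G) ≤ M
    · exact inf_le_right.trans hb'
    have hbE := hHE hb
    have hCtop := ms_centralizer_singleton_ne_top h.data.hG hb1
    have hHb : h.socle ⊓ centralizer (H : Set G) ≤ h.socle ⊓ centralizer ({b} : Set G) :=
      inf_le_inf_left _ (centralizer_le (by simpa using hb))
    have hbM' : ¬ centralizer ({b} : Set G) ≤ M' := fun hc =>
      hne ((hHb.trans inf_le_right).trans hc)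
    have hr : Cfsg.PRankLE t 2 ↥(Q' ⊓ centralizer ({b} : Set G)) := by
      by_contra hr
      obtain ⟨V', hV', hV'e, hV'3⟩ := exists_elementary_of_not_pRankLE hr
      exact hbM' (h'.le_of_rank (hV'.trans inf_le_left) hV'e hV'3.ge (hV'.trans inf_le_right) hCtop)
    obtain ⟨c, hc, hle'⟩ := h.data.exists_normalizing h'.ne h.ne htq h'.maxQ h.maxQ hbE hb1 hr
    refine hle'.trans ?_
    have h1 := h.normalizer_inf_le hbE hb1 hb' (fun e => hne ((hHb.trans e.le).trans bot_le))
    have h2 : normalizer (conjBy c (Q ⊓ centralizer ({b} : Set G)) : Set G) =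
        conjBy c (normalizer ((Q ⊓ centralizer ({b} : Set G) : Subgroup G) : Set G)) :=
      (map_equiv_normalizer_eq _ _).symm
    rw [h2]
    exact conjBy_le_of_mem (hΘM hc) h1
  obtain ⟨B, hBU, -, hBe, hB2⟩ := exists_normal_elementary_two h.ne_two (h.maxQ.1.to_le h.socle_le)
    (fun hc => by
      obtain ⟨g, hg⟩ := IsCyclic.exists_generator (α := h.socle)
      have h1 : Nat.card h.socle ∣ q := by
        rw [← orderOf_eq_card_of_forall_mem_zpowers hg]
        exact orderOf_dvd_of_pow_eq_one (Subtype.ext g.2.2.1)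
      exact absurd (Nat.le_of_dvd h.prime.pos h1) (not_le.2 h.lt_card_socle))
  exact (h.socle_unique hBU hBe hB2.ge).unique ⟨h'.maxM, hBU.trans key⟩
    ⟨h.maxM, (hBU.trans h.socle_le).trans h.leM⟩

/-- All maximal invariant subgroups at the prime of an anchor lie in its maximal subgroup. -/
theorem Anchor.le_of_same (h : Anchor p A E q Q M) [Fact q.Prime] (hS : IsMaxInv A q S) : S ≤ M := by
  obtain ⟨c, hc, e⟩ := h.data.trans h.ne Q S h.maxQ hS
  exact e ▸ conjBy_le_of_mem (h.theta_le.1 hc) h.leM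

theorem Anchor.eq (h : Anchor p A E q Q M) (h' : Anchor p A E t Q' M') : M' = M := by
  haveI : Fact q.Prime := ⟨h.prime⟩
  haveI : Fact t.Prime := ⟨h'.prime⟩
  rcases lt_trichotomy t q with hlt | heq | hgt
  · exact h.eq_of_lt h' hlt
  · subst heq
    obtain ⟨V, hV, hVe, hV3⟩ := exists_elementary_of_not_pRankLE h'.rank
    exact (h'.big V hV hVe hV3.ge).unique ⟨h'.maxM, hV.trans h'.leM⟩
      ⟨h.maxM, hV.trans (h.le_of_same h'.maxQ)⟩
  · exact (h'.eq_of_lt h hgt).symm

/-- Invariant subgroups of rank two lie in the maximal subgroup of an anchor. -/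
theorem Anchor.le_of_rank_two (h : Anchor p A E q Q M) [Fact t.Prime] (ht : t ≠ p) (htq : t ≠ q)
    (hS : IsMaxInv A t S) (hr : Cfsg.PRankLE t 2 S) : S ≤ M := by
  haveI : Fact q.Prime := ⟨h.prime⟩
  rcases eq_or_ne S ⊥ with e | hS1
  · exact e ▸ bot_le
  have ht2 : t ≠ 2 := ms_ne_two h.data.hG <| by
    obtain ⟨k, hk⟩ := IsPGroup.iff_card.1 hS.1
    rcases k with _ | k
    · exact absurd (card_eq_one.1 (by rw [hk, pow_zero])) hS1
    · exact (hk ▸ dvd_pow_self t k.succ_ne_zero).trans (card_subgroup_dvd_card _)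
  obtain ⟨hΘM, -⟩ := h.theta_le
  have hE := h.data.elem
  have hE3 := h.data.card
  have hES : E ≤ normalizer (S : Set G) := h.data.le.trans hS.2.1
  have hSp : ¬ p ∣ Nat.card S := not_dvd_of_isPGroup ht hS.1
  have hrb : ∀ b : G, Cfsg.PRankLE t 2 ↥(S ⊓ centralizer ({b} : Set G)) := fun b => by
    by_contra hcon
    exact not_pRankLE_of_le inf_le_left hcon hr
  rcases lt_or_gt_of_ne htq with hlt | hgt
  · -- the smaller prime: `S` normalizes inside `M`
    obtain ⟨H, hHE, hHe, hH2, hne⟩ := exists_line hE hE3 h.elem_le_normalizer h.socle_not_dvd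
      (W := ⊥) fun e => by
        have := h.lt_card_socle
        rw [le_bot_iff.1 e, card_bot] at this
        exact absurd this (not_lt.2 h.prime.one_lt.le)
    refine gen_le hE hE3 hES hSp hHE hHe hH2.ge le_rfl (hHE.trans hES) fun b hb hb1 => ?_
    by_cases hb' : centralizer ({b} : Set G) ≤ M
    · exact inf_le_right.trans hb'
    obtain ⟨c, hc, hle⟩ := h.data.exists_normalizing ht h.ne hlt hS h.maxQ (hHE hb) hb1 (hrb b)
    refine hle.trans ?_
    rw [show normalizer (conjBy c (Q ⊓ centralizer ({b} : Set G)) : Set G) =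
      conjBy c (normalizer ((Q ⊓ centralizer ({b} : Set G) : Subgroup G) : Set G)) from
        (map_equiv_normalizer_eq _ _).symm]
    refine conjBy_le_of_mem (hΘM hc) (h.normalizer_inf_le (hHE hb) hb1 hb' fun e => hne ?_)
    exact (inf_le_inf_left _ (centralizer_le (by simpa using hb))).trans e.le
  -- the larger prime: a fixing element and a moved element of the socle
  obtain ⟨c, hc, hc1, hSc⟩ := exists_fixing hE hE3 ht ht2 hS.1 hr hES
  have hgood : centralizer ({c} : Set G) ≤ M → S ≤ M := fun hle => hSc.trans hle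
  by_cases hUc : h.socle ≤ centralizer ({c} : Set G)
  · exact hgood (h.good_of_wide (ms_centralizer_singleton_ne_top h.data.hG hc1)
      (lt_of_lt_of_le h.lt_card_socle (card_le_of_le (le_inf le_rfl hUc))))
  obtain ⟨L, hLE, -, hL2, hne⟩ := exists_line hE hE3 h.elem_le_normalizer h.socle_not_dvd hUc
  obtain ⟨H, hHE, hHe, hH2, hcH⟩ := exists_avoiding hE hE3 hc hc1
  refine gen_le hE hE3 hES hSp hHE hHe hH2.ge le_rfl (hHE.trans hES) fun b hb hb1 => ?_
  have hbc : b ∉ zpowers c := fun hbc => hcH (by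
    have h2 : zpowers b = zpowers c := eq_of_le_of_card_ge (zpowers_le.2 hbc)
      (by rw [card_zpowers_of_mem_elementary hE (hHE hb) hb1,
        card_zpowers_of_mem_elementary hE hc hc1])
    exact zpowers_le.2 hb (h2.ge (mem_zpowers c)))
  obtain ⟨hK, hK2⟩ := sup_zpowers_card hE hc (hHE hb) hc1 hbc
  set L' := zpowers c ⊔ zpowers b with hL'
  have hL'E : L' ≤ E := sup_le (zpowers_le.2 hc) (zpowers_le.2 (hHE hb))
  obtain ⟨b', hb', hb'1⟩ := inf_ne_bot_of_two hE hE3 hL'E hLE hK2.ge hL2.ge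
  obtain ⟨x, hx, hxc⟩ := SetLike.not_le_iff_exists.1 hne
  have hxb' : x ∈ centralizer ({b'} : Set G) := centralizer_le (by simpa using hb'.2) hx.2
  have hb'c : b' ∉ zpowers c := fun hh => hxc (by
    have h2 : zpowers b' = zpowers c := eq_of_le_of_card_ge (zpowers_le.2 hh)
      (by rw [card_zpowers_of_mem_elementary hE (hL'E hb'.1) hb'1,
        card_zpowers_of_mem_elementary hE hc hc1])
    exact centralizer_le (by simpa using zpowers_le.2 hb'.2 (h2.ge (mem_zpowers c))) hx.2)
  -- `S ⊓ C(b) = S ⊓ C(b')`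
  have hgen : zpowers c ⊔ zpowers b' = L' := by
    obtain ⟨-, hK'2⟩ := sup_zpowers_card hE hc (hL'E hb'.1) hc1 hb'c
    exact eq_of_le_of_card_ge (sup_le le_sup_left (zpowers_le.2 hb'.1)) (hK2.trans hK'2.symm).le
  have hSb : S ⊓ centralizer ({b} : Set G) ≤ S ⊓ centralizer ({b'} : Set G) := by
    rintro s ⟨hs, hsb⟩
    have h1 : L' ≤ centralizer ({s} : Set G) := by
      refine sup_le (zpowers_le.2 ?_) (zpowers_le.2 ?_) <;> refine mem_centralizer_iff.2 ?_ <;>
        rintro _ rfl
      · exact (mem_centralizer_iff.1 (hSc hs) c rfl).symm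
      · exact (mem_centralizer_iff.1 hsb b rfl).symm
    refine ⟨hs, mem_centralizer_iff.2 ?_⟩
    intro w hw
    rw [Set.mem_singleton_iff.1 hw]
    exact (mem_centralizer_iff.1 (h1 hb'.1) s rfl).symm
  refine hSb.trans ?_
  have hb'E := hL'E hb'.1
  by_cases hbad : centralizer ({b'} : Set G) ≤ M
  · exact inf_le_right.trans hbad
  have hCtop := ms_centralizer_singleton_ne_top h.data.hG hb'1
  have hrQ : Cfsg.PRankLE q 2 ↥(Q ⊓ centralizer ({b'} : Set G)) := by
    by_contra hcon
    obtain ⟨V, hV, hVe, hV3⟩ := exists_elementary_of_not_pRankLE hcon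
    exact hbad (h.le_of_rank (hV.trans inf_le_left) hVe hV3.ge (hV.trans inf_le_right) hCtop)
  obtain ⟨d, hd, hle⟩ := h.data.exists_normalizing h.ne ht hgt h.maxQ hS hb'E hb'1 hrQ
  set T := S ⊓ centralizer ({b'} : Set G)
  set T₁ := conjBy d T with hT₁
  have hdc : d ∈ centralizer ({c} : Set G) := h.data.theta_le hc hd
  have hTc : ∀ τ ∈ T₁, c * τ * c⁻¹ = τ := by
    intro τ hτ
    have h1 : T₁ ≤ centralizer ({c} : Set G) :=
      conjBy_le_of_mem hdc (inf_le_left.trans hSc)
    rw [mem_centralizer_iff.1 (h1 hτ) c rfl, mul_inv_cancel_right]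
  have hxn : x ∈ normalizer (T₁ : Set G) := hle ⟨h.socle_le hx.1, hxb'⟩
  set w := x⁻¹ * (c * x * c⁻¹) with hw
  have hwU : w ∈ h.socle :=
    mul_mem (inv_mem hx.1) ((mem_normalizer_iff.1 (h.elem_le_normalizer hc) x).1 hx.1)
  have hw1 : w ≠ 1 := fun e => hxc (by
    refine mem_centralizer_iff.2 ?_
    intro v hv
    rw [Set.mem_singleton_iff.1 hv]
    exact mul_inv_eq_iff_eq_mul.1 (inv_mul_eq_one.1 e).symm)
  have hT₁M : T₁ ≤ M := by
    refine le_trans (fun τ hτ => mem_centralizer_iff.2 ?_) (h.socle_cen hwU hw1).1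
    intro v hv
    rw [Set.mem_singleton_iff.1 hv]
    have h1 : c * (x * τ * x⁻¹) * c⁻¹ = x * τ * x⁻¹ := hTc _ ((mem_normalizer_iff.1 hxn τ).1 hτ)
    calc w * τ = x⁻¹ * (c * (x * (c⁻¹ * τ * c) * x⁻¹) * c⁻¹) * (c * x * c⁻¹) := by rw [hw]; group
      _ = τ * w := by
        have h2 : c⁻¹ * τ * c = τ := by
          conv_lhs => rw [← hTc τ hτ]
          group
        rw [h2, h1, hw]
        group
  intro τ hτ
  have := mul_mem (mul_mem (inv_mem (hΘM hd)) (hT₁M (conj_mem_conjBy (g := d) hτ))) (hΘM hd)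
  rwa [show d⁻¹ * (d * τ * d⁻¹) * d = τ by group] at this

/-- An abelian `p`-subgroup of rank three, self-centralizing and normal in a Sylow subgroup, lies in
a unique maximal subgroup. -/
theorem scn_three_unique (hG : Cfsg.IsMinSimpleOddOrder G) :
    ∀ (n p : ℕ) [Fact p.Prime], Nat.card G - p = n → ∀ (P : Sylow p G) (A : Subgroup G),
      Cfsg.IsSCN (P : Subgroup G) A → ¬ Cfsg.PRankLE p 2 A → Cfsg.InUniqueMaximal A := by
  intro n
  induction n using Nat.strongRecOn with
  | ind n ih =>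
  intro p _ hn P A hA hA3
  have hAp : IsPGroup p A := P.2.to_le hA.1
  have hAc : IsMulCommutative A :=
    ⟨⟨fun a b => Subtype.ext (mem_centralizer_iff.1 (hA.2.2.ge b.2).2 _ a.2)⟩⟩
  by_cases hbig : ∃ M : Subgroup G, IsCoatom M ∧ ¬ Cfsg.PRankLE p 2 ↥(Cfsg.fittingOf M)
  · obtain ⟨M, hM, hF⟩ := hbig
    exact unique_of_fitting_rank_three hG hM hF hAp hAc hA3
  push Not at hbig
  obtain ⟨E, hEA, hEe, hE3⟩ := exists_elementary_of_not_pRankLE hA3
  have d := scnData_of_scn hG P hA hEA hEe hE3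
  have hp2 := d.ne_two
  -- larger primes are good
  have hgoodPrime : ∀ (t : ℕ) [Fact t.Prime], p < t → ∀ V : Subgroup G,
      Cfsg.IsElementaryAbelian t V → t ^ 3 ≤ Nat.card V → Cfsg.InUniqueMaximal V := by
    intro t _ hpt V hVe hV3
    obtain ⟨S, hVS⟩ := (isPGroup_of_elementary hVe).exists_le_sylow
    have ht2 : t ≠ 2 := by have := (Fact.out : p.Prime).two_le; omega
    have hlt : t ^ 2 < t ^ 3 := Nat.pow_lt_pow_right (Fact.out : t.Prime).one_lt (by norm_num)
    have hrS := not_pRankLE_of_elementary hVS hVe (lt_of_lt_of_le hlt hV3)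
    obtain ⟨A', hA', hA'3⟩ := exists_scn_three hG S ht2 hrS
    have htG : t ≤ Nat.card G := by
      refine le_trans ?_ (card_le_card_group V)
      exact le_trans (Nat.le_self_pow (by norm_num) t) hV3
    have hU := ih (Nat.card G - t) (by omega) t rfl S A' hA' hA'3
    refine unique_of_rank_three hG (S.2.to_le hA'.1)
      ⟨⟨fun a b => Subtype.ext (mem_centralizer_iff.1 (hA'.2.2.ge b.2).2 _ a.2)⟩⟩ hA'3 hU
      (isPGroup_of_elementary hVe)
      (not_isCyclic_of_elementary hVe ((Nat.pow_le_pow_right (Fact.out : t.Prime).pos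
        (by norm_num)).trans hV3)) ?_
    exact not_pRankLE_of_elementary (le_centralizer_of_comm hVe.1) hVe (lt_of_lt_of_le hlt hV3)
  -- maximal subgroups with a large core give anchors
  have hanchor : ∀ (M : Subgroup G), IsCoatom M → A ≤ M → ∀ (s : ℕ) [Fact s.Prime],
      ¬ Cfsg.PRankLE s 2 ↥(Cfsg.fittingOf M) → ∃ Q, Anchor p A E s Q M := by
    intro M hM hAM s _ hF
    have hsp : s ≠ p := by
      rintro rfl
      exact hF (hbig M hM)
    obtain ⟨V, hVF, hVe, hV3⟩ := exists_elementary_of_not_pRankLE hF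
    have hlt : s ^ 2 < s ^ 3 := Nat.pow_lt_pow_right (Fact.out : s.Prime).one_lt (by norm_num)
    have hs2 : s ≠ 2 := ms_ne_two hG
      ((hV3 ▸ dvd_pow_self s (by norm_num)).trans (card_subgroup_dvd_card V))
    have hbigs : ∀ W : Subgroup G, Cfsg.IsElementaryAbelian s W → s ^ 3 ≤ Nat.card W →
        Cfsg.InUniqueMaximal W := fun W hWe hW3 =>
      unique_of_fitting_rank_three hG hM hF (isPGroup_of_elementary hWe) hWe.1
        (not_pRankLE_of_elementary le_rfl hWe (lt_of_lt_of_le hlt hW3))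
    obtain ⟨Q, hQ, hVQ⟩ := exists_isMaxInv_ge (isPGroup_core (H := M) (s := s))
      (hAM.trans le_normalizer_core)
    have hVQ' : V ≤ Q :=
      (le_core_of_le_fittingOf hVF (isPGroup_of_elementary hVe)).trans hVQ
    refine ⟨Q, d, Fact.out, hsp, hs2, hM, hQ, ?_, ?_, fun W _ => hbigs W⟩
    · exact le_of_unique hG (hbigs V hVe hV3.ge) hM (hVF.trans fittingOf_le) hVQ'
        (ms_isPGroup_ne_top hG hQ.1)
    · exact not_pRankLE_of_elementary hVQ' hVe (hV3 ▸ hlt)
  have hPne : (P : Subgroup G) ≠ ⊥ := fun e => by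
    have h1 := card_le_of_le (hEA.trans hA.1)
    rw [hE3, e, card_bot] at h1
    exact absurd h1 (not_le.2 (Nat.one_lt_pow (by norm_num) (Fact.out : p.Prime).one_lt))
  have hsmall : ∀ M : Subgroup G, IsCoatom M →
      (∀ s : ℕ, s.Prime → Cfsg.PRankLE s 2 ↥(Cfsg.fittingOf M)) → ⁅M, M⁆ ≤ Cfsg.fittingOf M := by
    intro M hM hs
    haveI := ms_solvable hG hM.1
    have h1 := commutator_le_fitting_of_rank_two (G := M)
      (hG.1.of_dvd_nat (card_subgroup_dvd_card M)) fun s hs' => by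
        haveI : Fact s.Prime := ⟨hs'⟩
        by_contra hcon
        obtain ⟨V, hV, hVe, hV3⟩ := exists_elementary_of_not_pRankLE (H := Cfsg.pCore s M) hcon
        refine not_pRankLE_of_elementary (E := V.map M.subtype)
          (map_mono (hV.trans (CfsgLib.Coprime.pCore_le_fitting s)))
          (CfsgLib.Fusion.isElementaryAbelian_map M.subtype hVe) ?_ (hs s hs')
        rw [card_map_of_injective M.subtype_injective, hV3]
        exact Nat.pow_lt_pow_right hs'.one_lt (by norm_num)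
    refine le_trans (le_of_eq ?_) (map_mono h1)
    rw [_root_.commutator_def, Subgroup.map_commutator, ← MonoidHom.range_eq_map, M.range_subtype]
  -- the first anchor
  obtain ⟨M₁, hM₁, hPM₁⟩ := exists_transfer_local hG P hPne
  have hPM₁' : (P : Subgroup G) ≤ M₁ := hPM₁.trans (commutator_le.2 fun a ha b hb => by
    rw [commutatorElement_def]
    exact mul_mem (mul_mem (mul_mem ha hb) (inv_mem ha)) (inv_mem hb))
  obtain ⟨s, hs, hsF⟩ : ∃ s : ℕ, s.Prime ∧ ¬ Cfsg.PRankLE s 2 ↥(Cfsg.fittingOf M₁) := by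
    by_contra hcon
    push Not at hcon
    refine not_pRankLE_of_le ((hA.1.trans hPM₁).trans (hsmall M₁ hM₁ hcon)) hA3 (hbig M₁ hM₁)
  haveI : Fact s.Prime := ⟨hs⟩
  obtain ⟨Q, h0⟩ := hanchor M₁ hM₁ (hA.1.trans hPM₁') s hsF
  obtain ⟨hΘ, hAM⟩ := h0.theta_le
  -- every maximal invariant subgroup lies in `M₁`
  have hall : ∀ (t : ℕ) [Fact t.Prime], t ≠ p → ∀ S : Subgroup G, IsMaxInv A t S → S ≤ M₁ := by
    intro t _ htp S hS
    by_cases hts : t = s
    · subst hts; exact h0.le_of_same hS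
    by_cases hr : Cfsg.PRankLE t 2 S
    · exact h0.le_of_rank_two htp hts hS hr
    have hStop : S ≠ ⊤ := ms_isPGroup_ne_top hG hS.1
    have hS1 : S ≠ ⊥ := fun e => hr fun F _ _ => by
      subst e
      exact (Nat.le_of_dvd Nat.card_pos (card_subgroup_dvd_card F)).trans
        (card_bot.le.trans (Nat.one_le_pow _ _ (Fact.out : t.Prime).pos))
    obtain ⟨M₂, hM₂, hNM₂⟩ :=
      (eq_top_or_exists_le_coatom _).resolve_left (ms_normalizer_ne_top hG hS1 hStop)
    have hAM₂ : A ≤ M₂ := hS.2.1.trans hNM₂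
    have hSM₂ : S ≤ M₂ := le_normalizer.trans hNM₂
    by_cases hl : ∃ u : ℕ, u.Prime ∧ ¬ Cfsg.PRankLE u 2 ↥(Cfsg.fittingOf M₂)
    · obtain ⟨u, hu, huF⟩ := hl
      haveI : Fact u.Prime := ⟨hu⟩
      obtain ⟨Q₂, h2⟩ := hanchor M₂ hM₂ hAM₂ u huF
      exact (h0.eq h2) ▸ hSM₂
    push Not at hl
    rcases lt_or_gt_of_ne htp with hlt | hgt
    · -- `A` centralizes the derived part of `S`
      obtain ⟨U, hUS, hUe, hU3⟩ := exists_elementary_of_not_pRankLE hr
      haveI := hS.1.isNilpotent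
      have ht2 : t ≠ 2 := ms_ne_two hG
        ((hU3 ▸ dvd_pow_self t (by norm_num)).trans (card_subgroup_dvd_card U))
      have hcen : S ≤ centralizer (A : Set G) := by
        have hAcore : A ≤ centralizer (core M₂ t : Set G) := by
          haveI : Group.IsSolvable A := CfsgLib.Coprime.isSolvable_of_isMulCommutative hAc
          have hrc : Cfsg.PRankLE t 2 ↥(core M₂ t) := by
            by_contra hcon
            exact not_pRankLE_of_le core_le_fittingOf hcon (hl t Fact.out)
          intro a ha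
          obtain ⟨D, -, hRD, hDp, -, -, -, hdet⟩ :=
            exists_small_detector ht2 (isPGroup_core (H := M₂) (s := t)) hrc
          by_contra hna
          set f := Subgroup.normalizerMonoidHom (core M₂ t) ⟨a, le_normalizer_core (hAM₂ ha)⟩
            with hf
          haveI : Finite (MulAut ↥(core M₂ t)) := Finite.of_injective _ MulEquiv.toEquiv_injective
          obtain ⟨k, hk⟩ := hAp ⟨a, ha⟩
          have hfk : orderOf f ∣ p ^ k := orderOf_dvd_of_pow_eq_one (by
            rw [hf, ← map_pow, show ((⟨a, le_normalizer_core (hAM₂ ha)⟩ :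
                normalizer (core M₂ t : Set G)) ^ p ^ k) = 1 from Subtype.ext
              (congrArg Subtype.val hk : _), map_one])
          obtain ⟨j, -, hj⟩ := (Nat.dvd_prime_pow (Fact.out : p.Prime)).1 hfk
          rcases j with _ | j
          · rw [pow_zero, orderOf_eq_one_iff] at hj
            refine hna (mem_centralizer_iff.2 fun y hy => ?_)
            have h1 := congrArg (fun σ : MulAut ↥(core M₂ t) => ((σ ⟨y, hy⟩ : core M₂ t) : G)) hj
            exact (mul_inv_eq_iff_eq_mul.1 h1).symm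
          · have h1 := (Cfsg.Agent.S0640.result ht2 (isPGroup_core (H := M₂) (s := t)) hrc p
              Fact.out htp.symm ((hj ▸ dvd_pow_self p j.succ_ne_zero).trans
                (orderOf_dvd_natCard f))).2
            omega
        haveI := hAc
        have hcop : (Nat.card A).Coprime (Nat.card S) := by
          obtain ⟨i, hi⟩ := IsPGroup.iff_card.1 hAp
          rw [hi]
          exact ((Fact.out : p.Prime).coprime_iff_not_dvd.2
            (not_dvd_of_isPGroup htp hS.1)).pow_left i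
        suffices hbot : ⁅⁅S, A⁆, A⁆ = ⊥ by
          have h5 := CfsgLib.Coprime.commutator_commutator_eq hS.2.1 hcop
            (Or.inl (CfsgLib.Coprime.isSolvable_of_isMulCommutative hAc))
          exact commutator_eq_bot_iff_le_centralizer.1 (h5.symm.trans hbot)
        rw [commutator_eq_bot_iff_le_centralizer]
        have h2 : ⁅S, A⁆ ≤ Cfsg.fittingOf M₂ :=
          (commutator_mono hSM₂ hAM₂).trans (hsmall M₂ hM₂ hl)
        have h3 : ⁅S, A⁆ ≤ S := le_normalizer_iff_commutator_le_left.1 hS.2.1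
        exact (le_core_of_le_fittingOf h2 (hS.1.to_le h3)).trans (le_centralizer_iff.1 hAcore)
      refine (le_trans ?_ hΘ)
      exact (d.data htp).le_theta (isPiNum_of_isPGroup (d.data htp).notDvd hS.1) hcen
    · obtain ⟨V, hVS, hVe, hV3⟩ := exists_elementary_of_not_pRankLE hr
      have ht2 : t ≠ 2 := by have := (Fact.out : p.Prime).two_le; omega
      have h2 : Anchor p A E t S M₂ :=
        ⟨d, Fact.out, htp, ht2, hM₂, hS, hSM₂, hr, fun W _ => hgoodPrime t hgt W⟩
      exact (h0.eq h2) ▸ hSM₂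
  have hinv : ∀ Y : Subgroup G, A ≤ normalizer (Y : Set G) → ¬ p ∣ Nat.card Y → Y ≤ M₁ := by
    intro Y hAY hY
    refine le_of_invariant_sylows hAY ?_ (Or.inl (CfsgLib.Coprime.isSolvable_of_isMulCommutative hAc))
      fun t ht htY W _ hW hAW => ?_
    · obtain ⟨i, hi⟩ := IsPGroup.iff_card.1 hAp
      rw [hi]
      exact ((Fact.out : p.Prime).coprime_iff_not_dvd.2 hY).pow_left i
    haveI : Fact t.Prime := ⟨ht⟩
    obtain ⟨S, hS, hWS⟩ := exists_isMaxInv_ge hW hAW
    exact hWS.trans (hall t (fun e => hY (e ▸ htY)) S hS)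
  exact ⟨M₁, ⟨hM₁, hAM⟩, fun L hL => eq_of_inv_le hG hM₁ hAM hAp d.hyp.1 hinv _ A L hAp le_rfl rfl
    hAM hL.1 hL.2⟩

end CfsgLib.CFun

namespace CfsgLib.CFun

universe v

variable {G : Type v} [Group G] [Finite G]

/-- Elementary abelian subgroups of rank three are uniqueness subgroups. -/
theorem unique_elementary_three (hG : Cfsg.IsMinSimpleOddOrder G) {p : ℕ} [Fact p.Prime]
    {V : Subgroup G} (hVe : Cfsg.IsElementaryAbelian p V) (hV3 : p ^ 3 ≤ Nat.card V) :
    Cfsg.InUniqueMaximal V := by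
  obtain ⟨S, hVS⟩ := (isPGroup_of_elementary hVe).exists_le_sylow
  have hlt : p ^ 2 < p ^ 3 := Nat.pow_lt_pow_right (Fact.out : p.Prime).one_lt (by norm_num)
  have hrS := not_pRankLE_of_elementary hVS hVe (lt_of_lt_of_le hlt hV3)
  have hp2 : p ≠ 2 := ms_ne_two hG (by
    obtain ⟨k, hk⟩ := IsPGroup.iff_card.1 (isPGroup_of_elementary hVe)
    rcases k with _ | k
    · rw [hk, pow_zero] at hV3
      exact absurd hV3 (not_le.2 (Nat.one_lt_pow (by norm_num) (Fact.out : p.Prime).one_lt))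
    · exact (hk ▸ dvd_pow_self p k.succ_ne_zero).trans (card_subgroup_dvd_card V))
  obtain ⟨A, hA, hA3⟩ := exists_scn_three hG S hp2 hrS
  refine unique_of_rank_three hG (S.2.to_le hA.1)
    ⟨⟨fun a b => Subtype.ext (mem_centralizer_iff.1 (hA.2.2.ge b.2).2 _ a.2)⟩⟩ hA3
    (scn_three_unique hG _ p rfl S A hA hA3) (isPGroup_of_elementary hVe)
    (not_isCyclic_of_elementary hVe ((Nat.pow_le_pow_right (Fact.out : p.Prime).pos
      (by norm_num)).trans hV3))
    (not_pRankLE_of_elementary (le_centralizer_of_comm hVe.1) hVe (lt_of_lt_of_le hlt hV3))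

/-- The uniqueness theorem. -/
theorem uniqueness_theorem (hG : Cfsg.IsMinSimpleOddOrder G) {K : Subgroup G} (hK : K ≠ ⊤)
    (hK2 : ¬ Cfsg.RankLE 1 K)
    (hK3 : ¬ Cfsg.RankLE 2 K ∨ ¬ Cfsg.RankLE 2 (centralizer (K : Set G))) :
    Cfsg.InUniqueMaximal K := by
  rcases hK3 with h | h
  · simp only [Cfsg.RankLE, not_forall] at h
    obtain ⟨p, hp, hr⟩ := h
    haveI : Fact p.Prime := ⟨hp⟩
    obtain ⟨V, hVK, hVe, hV3⟩ := exists_elementary_of_not_pRankLE hr
    exact inUniqueMaximal_mono hG (unique_elementary_three hG hVe hV3.ge) hVK hK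
  · simp only [Cfsg.RankLE, not_forall] at h
    obtain ⟨p, hp, hr⟩ := h
    haveI : Fact p.Prime := ⟨hp⟩
    obtain ⟨V, hVC, hVe, hV3⟩ := exists_elementary_of_not_pRankLE hr
    exact unique_of_centralizes hG (unique_elementary_three hG hVe hV3.ge)
      (le_centralizer_iff.1 hVC) hK2

end CfsgLib.CFun
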