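import Cfsg.Agent.Lib.CFun.BenderInvariant
import Cfsg.Agent.Lib.CFun.OddSCNUnique
import Cfsg.Agent.Lib.Coprime.Factorization
import Cfsg.Agent.Lib.Invol.InvertedOdd
import Cfsg.Agent.Lib.PGroup.FixedPointFree
import Cfsg.Agent.S0117
import Cfsg.Agent.S0562
import Cfsg.Agent.S0566

/-!
# Products of two nilpotent subgroups of coprime order

A finite group with no proper nontrivial normal subgroup is not the product of two nilpotent
subgroups of coprime orders, each order divisible by two primes, when the factorised proper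
subgroups are solvable.
-/

set_option autoImplicit false
set_option linter.style.haveILetI false
set_option linter.unusedSectionVars false

open Subgroup
open scoped Pointwise
open CfsgLib.CFun (core core_le isPGroup_core le_normalizer_core not_dvd_of_isPGroup
  inf_eq_bot_of_isPGroup le_centralizer_of_inf_eq_bot core_ne_bot_of_dvd dvd_of_core_ne_bot
  zCore zCore_ne_bot zCore_le_center)
open CfsgLib.Coprime (conjBy IsSylowIn conj_mem_of_le_normalizer)

namespace CfsgLib.NilpotentProduct

universe u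

variable {G : Type u} [Group G] [Finite G]

theorem fittingOf_eq {A : Subgroup G} (h : Group.IsNilpotent A) : Cfsg.fittingOf A = A :=
  le_antisymm CfsgLib.CFun.fittingOf_le fun x hx => ⟨⟨x, hx⟩,
    CfsgLib.Coprime.le_fitting (N := (⊤ : Subgroup A)) (Group.isNilpotent_top.2 h) (mem_top _), rfl⟩

theorem le_of_cores {A X : Subgroup G} (h : Group.IsNilpotent A)
    (hc : ∀ t : ℕ, t.Prime → core A t ≤ X) : A ≤ X :=
  (fittingOf_eq h).ge.trans (CfsgLib.CFun.fittingOf_le_of_cores hc)

theorem le_core {A P : Subgroup G} {t : ℕ} [Fact t.Prime] (h : Group.IsNilpotent A) (hP : P ≤ A)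
    (hPt : IsPGroup t P) : P ≤ core A t :=
  CfsgLib.CFun.le_core_of_le_fittingOf (hP.trans (fittingOf_eq h).ge) hPt

theorem card_core {A : Subgroup G} {t : ℕ} [Fact t.Prime] (h : Group.IsNilpotent A) :
    Nat.card (core A t) = t ^ (Nat.card A).factorization t := by
  obtain ⟨k, hk⟩ := IsPGroup.iff_card.1 (isPGroup_core (H := A) (s := t))
  refine le_antisymm ?_ ?_
  · rw [hk]
    refine Nat.pow_le_pow_right (Fact.out : t.Prime).pos
      (((Fact.out : t.Prime).pow_dvd_iff_le_factorization Nat.card_pos.ne').1 ?_)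
    exact hk ▸ card_dvd_of_le core_le
  · rw [← (default : Sylow t A).card_eq_multiplicity, ← card_map_of_injective A.subtype_injective]
    exact Nat.card_le_card_of_injective _ (inclusion_injective
      (le_core h (map_subtype_le _) ((default : Sylow t A).2.map _)))

theorem core_centralizes {A : Subgroup G} {s t : ℕ} [Fact s.Prime] [Fact t.Prime] (h : t ≠ s) :
    core A t ≤ centralizer (core A s : Set G) :=
  le_centralizer_of_inf_eq_bot (core_le.trans le_normalizer_core) (core_le.trans le_normalizer_core)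
    (inf_eq_bot_of_isPGroup isPGroup_core (not_dvd_of_isPGroup h.symm isPGroup_core))

theorem nil_of_le {A X : Subgroup G} (h : Group.IsNilpotent A) (hX : X ≤ A) :
    Group.IsNilpotent X := by
  haveI := h
  exact Group.nilpotent_of_mulEquiv (subgroupOfEquivOfLe hX)

theorem card_mul_of_product {X Y : Subgroup G} (h : X ⊓ Y = ⊥)
    (hm : ∀ g : G, ∃ a ∈ X, ∃ b ∈ Y, g = a * b) : Nat.card G = Nat.card X * Nat.card Y := by
  have e := CfsgLib.Coprime.relIndex_eq_index_of_product hm
  rw [← inf_relIndex_right, inf_comm, h, relIndex_bot_left] at e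
  rw [e, mul_comm, card_mul_index]

/-- A `q`-group normalising `T` centralises it when the centraliser contains a Sylow `q`-subgroup
of the whole group. -/
theorem le_centralizer_of_sylow {q : ℕ} [Fact q.Prime] {X T P : Subgroup G} (hX : IsPGroup q X)
    (hXT : X ≤ normalizer (T : Set G)) (hP : P ≤ centralizer (T : Set G))
    (hPc : Nat.card P = q ^ (Nat.card G).factorization q) : X ≤ centralizer (T : Set G) := by
  set N := normalizer (T : Set G) with hN
  have hPN : P ≤ N := hP.trans (CfsgLib.Coprime.centralizer_le_normalizer_self _)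
  have hPs : IsSylowIn q P N := by
    refine ⟨hPN, hPc.trans ?_⟩
    congr 1
    refine le_antisymm ?_ ?_
    · exact ((Fact.out : q.Prime).pow_dvd_iff_le_factorization Nat.card_pos.ne').1
        (hPc ▸ card_dvd_of_le hPN)
    · exact (Nat.factorization_le_iff_dvd Nat.card_pos.ne' Nat.card_pos.ne').2
        (card_subgroup_dvd_card N) q
  obtain ⟨S, hS⟩ := (hX.comap_subtype (K := N)).exists_le_sylow
  obtain ⟨k, hk, e⟩ := hPs.exists_conj (CfsgLib.Coprime.isSylowIn_map S)
  intro x hx
  have h1 : x ∈ conjBy k P := e ▸ ⟨⟨x, hXT hx⟩, hS (mem_subgroupOf.2 hx), rfl⟩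
  have h2 : conjBy k (centralizer (T : Set G)) = centralizer (T : Set G) :=
    CfsgLib.Coprime.conjBy_eq_self_iff.2
      (CfsgLib.Coprime.normalizer_le_normalizer_centralizer _ hk)
  exact h2.le (map_mono hP h1)

/-- The configuration to be shown impossible. -/
structure Data (A B : Subgroup G) : Prop where
  nilA : Group.IsNilpotent A
  nilB : Group.IsNilpotent B
  cop : (Nat.card A).Coprime (Nat.card B)
  mul : ∀ g : G, ∃ a ∈ A, ∃ b ∈ B, g = a * b
  simple : ∀ N : Subgroup G, N.Normal → N = ⊥ ∨ N = ⊤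
  solv : ∀ H : Subgroup G, H ≠ ⊤ → (∀ g ∈ H, ∃ a ∈ H ⊓ A, ∃ b ∈ H ⊓ B, g = a * b) →
    Group.IsSolvable H
  twoA : 2 ≤ (Nat.card A).primeFactors.card
  twoB : 2 ≤ (Nat.card B).primeFactors.card

variable {A B : Subgroup G} (d : Data A B)
include d

theorem Data.symm : Data B A where
  nilA := d.nilB
  nilB := d.nilA
  cop := d.cop.symm
  mul g := by
    obtain ⟨a, ha, b, hb, e⟩ := d.mul g⁻¹
    exact ⟨b⁻¹, inv_mem hb, a⁻¹, inv_mem ha, by rw [← inv_inv g, e, mul_inv_rev]⟩
  simple := d.simple
  solv H hH hfac := d.solv H hH fun g hg => by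
    obtain ⟨b, hb, a, ha, e⟩ := hfac g⁻¹ (inv_mem hg)
    exact ⟨a⁻¹, inv_mem ha, b⁻¹, inv_mem hb, by rw [← inv_inv g, e, mul_inv_rev]⟩
  twoA := d.twoB
  twoB := d.twoA

theorem Data.inf_eq_bot : A ⊓ B = ⊥ := CfsgLib.Coprime.disjoint_of_coprime_card d.cop

theorem Data.card_eq : Nat.card G = Nat.card A * Nat.card B :=
  card_mul_of_product d.inf_eq_bot d.mul

theorem Data.ne_top : A ≠ ⊤ := fun h => by
  have h2 := d.twoB
  have h1 : Nat.card B = 1 := by
    have := d.cop
    rw [h, card_top] at this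
    exact Nat.eq_one_of_dvd_coprimes this (card_subgroup_dvd_card B) dvd_rfl
  rw [h1] at h2
  simp at h2

theorem Data.ne_bot : A ≠ ⊥ := fun h => by
  have h2 := d.twoA
  rw [h, card_bot] at h2
  simp at h2

theorem Data.not_dvd {q : ℕ} (hq : q.Prime) (h : q ∣ Nat.card A) : ¬ q ∣ Nat.card B :=
  fun h' => hq.ne_one (Nat.eq_one_of_dvd_coprimes d.cop h h')

theorem Data.exists_ne (q : ℕ) : ∃ p : ℕ, p.Prime ∧ p ∣ Nat.card A ∧ p ≠ q := by
  obtain ⟨p, hp, hne⟩ := Finset.exists_mem_ne (lt_of_lt_of_le Nat.one_lt_two d.twoA) q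
  exact ⟨p, Nat.prime_of_mem_primeFactors hp, Nat.dvd_of_mem_primeFactors hp, hne⟩

theorem Data.dvd_cases {q : ℕ} (hq : q.Prime) (h : q ∣ Nat.card G) :
    q ∣ Nat.card A ∨ q ∣ Nat.card B := hq.dvd_mul.1 (d.card_eq ▸ h)

theorem Data.normalizer_ne_top {U : Subgroup G} (h1 : U ≠ ⊥) (h2 : U ≠ ⊤) :
    normalizer (U : Set G) ≠ ⊤ := fun h =>
  (d.simple U (normalizer_eq_top_iff.1 h)).elim h1 h2

theorem Data.ne_top_of_le {U : Subgroup G} (h : U ≤ A) : U ≠ ⊤ := fun e =>
  d.ne_top (top_le_iff.1 (e ▸ h))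

theorem Data.centralizer_ne_top {x : G} (hx : x ≠ 1) : centralizer ({x} : Set G) ≠ ⊤ := fun h => by
  have hxc : x ∈ center G := mem_center_iff.2 fun g =>
    mem_centralizer_singleton_iff.1 (h ▸ mem_top g)
  rcases d.simple (center G) inferInstance with e | e
  · exact hx (mem_bot.1 (e ▸ hxc))
  · refine d.normalizer_ne_top d.ne_bot d.ne_top (eq_top_iff.2 fun g _ => ?_)
    refine CfsgLib.Coprime.centralizer_le_normalizer_self A (mem_centralizer_iff.2 fun a _ => ?_)
    exact mem_center_iff.1 (e ▸ mem_top g : g ∈ center G) a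

theorem Data.card_core_eq {q : ℕ} [Fact q.Prime] (hqA : q ∣ Nat.card A) :
    Nat.card (core A q) = q ^ (Nat.card G).factorization q := by
  rw [card_core d.nilA, d.card_eq, Nat.factorization_mul Nat.card_pos.ne' Nat.card_pos.ne',
    Finsupp.add_apply, Nat.factorization_eq_zero_of_not_dvd (d.not_dvd Fact.out hqA), add_zero]

theorem Data.isSylowIn_top {q : ℕ} [Fact q.Prime] (hqA : q ∣ Nat.card A) :
    IsSylowIn q (core A q) (⊤ : Subgroup G) :=
  ⟨le_top, by rw [card_top]; exact d.card_core_eq hqA⟩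

/-- A `q`-subgroup lies in a conjugate of the `q`-part of `A` under an element of `B`. -/
theorem Data.exists_le_conj {q : ℕ} [Fact q.Prime] (hqA : q ∣ Nat.card A) {T : Subgroup G}
    (hT : IsPGroup q T) : ∃ y ∈ B, T ≤ conjBy y (core A q) := by
  obtain ⟨S, hS⟩ := hT.exists_le_sylow
  obtain ⟨g, -, e⟩ := (d.isSylowIn_top hqA).exists_conj
    (Q := (S : Subgroup G)) ⟨le_top, by rw [card_top]; exact S.card_eq_multiplicity⟩
  obtain ⟨b, hb, a, ha, rfl⟩ := d.symm.mul g
  refine ⟨b, hb, hS.trans (e.symm.le.trans (le_of_eq ?_))⟩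
  rw [← CfsgLib.Coprime.conjBy_conjBy, CfsgLib.Coprime.conjBy_eq_self_iff.2 (le_normalizer_core ha)]

theorem Data.card_fac {H : Subgroup G} (hfac : ∀ g ∈ H, ∃ a ∈ H ⊓ A, ∃ b ∈ H ⊓ B, g = a * b) :
    Nat.card H = Nat.card (H ⊓ A : Subgroup G) * Nat.card (H ⊓ B : Subgroup G) := by
  rw [card_mul_of_product (X := A.subgroupOf H) (Y := B.subgroupOf H) ?_ ?_]
  · have e : ∀ X : Subgroup G, Nat.card (X.subgroupOf H) = Nat.card (H ⊓ X : Subgroup G) :=
      fun X => (card_map_of_injective H.subtype_injective).symm.trans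
        (by rw [subgroupOf_map_subtype, inf_comm])
    rw [e A, e B]
  · rw [subgroupOf, subgroupOf, ← comap_inf, d.inf_eq_bot, MonoidHom.comap_bot, ker_subtype]
  · intro g
    obtain ⟨a, ha, b, hb, e⟩ := hfac g g.2
    exact ⟨⟨a, ha.1⟩, ha.2, ⟨b, hb.1⟩, hb.2, Subtype.ext e⟩

theorem Data.core_le_factor {H : Subgroup G}
    (hfac : ∀ g ∈ H, ∃ a ∈ H ⊓ A, ∃ b ∈ H ⊓ B, g = a * b) {q : ℕ} [Fact q.Prime]
    (hqA : q ∣ Nat.card A) : core H q ≤ core A q := by
  set P := H ⊓ core A q with hP
  have hX : IsPGroup q (core H q ⊔ P : Subgroup G) :=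
    isPGroup_core.to_sup_of_normal_left' (isPGroup_core.to_le inf_le_right)
      (inf_le_left.trans le_normalizer_core)
  obtain ⟨k, hk⟩ := IsPGroup.iff_card.1 hX
  have hd : q ^ k ∣ Nat.card (H ⊓ A : Subgroup G) := by
    refine ((((Fact.out : q.Prime).coprime_iff_not_dvd).2 fun h =>
      d.not_dvd Fact.out hqA (h.trans (card_dvd_of_le inf_le_right))).pow_left k).dvd_of_dvd_mul_right
      (n := Nat.card (H ⊓ B : Subgroup G)) ?_
    rw [← d.card_fac hfac, ← hk]
    exact card_dvd_of_le (sup_le core_le inf_le_left)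
  have hS : Nat.card (core H q ⊔ P : Subgroup G) ≤ Nat.card P := by
    rw [hk]
    calc q ^ k ≤ q ^ (Nat.card (H ⊓ A : Subgroup G)).factorization q :=
          Nat.pow_le_pow_right (Fact.out : q.Prime).pos
            (((Fact.out : q.Prime).pow_dvd_iff_le_factorization Nat.card_pos.ne').1 hd)
      _ = Nat.card (core (H ⊓ A) q) := (card_core (nil_of_le d.nilA inf_le_right)).symm
      _ ≤ Nat.card P := Nat.card_le_card_of_injective _ (inclusion_injective
          (le_inf (core_le.trans inf_le_left)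
            (le_core d.nilA (core_le.trans inf_le_right) isPGroup_core)))
  exact le_sup_left.trans ((eq_of_le_of_card_ge le_sup_right hS).ge.trans inf_le_right)

theorem Data.core_eq_bot {H : Subgroup G} {t : ℕ} [Fact t.Prime] (h : ¬ t ∣ Nat.card G) :
    core H t = ⊥ :=
  by_contra fun hne => h ((dvd_of_core_ne_bot hne).trans (card_subgroup_dvd_card _))

/-- A subgroup of `A` invariant under `A` and normalised by a central element of `B` is trivial. -/
theorem Data.eq_bot_of_normalized {U : Subgroup G} (hU : U ≤ A) (hA : A ≤ normalizer (U : Set G))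
    {z : G} (hzB : z ∈ centralizer (B : Set G)) (hz1 : z ≠ 1)
    (hzU : z ∈ normalizer (U : Set G)) : U = ⊥ := by
  by_contra hne
  have hle : Subgroup.normalClosure ({z} : Set G) ≤ normalizer (U : Set G) := by
    refine (closure_le _).2 fun g hg => ?_
    obtain ⟨w, hw, hwg⟩ := Group.mem_conjugatesOfSet_iff.1 hg
    rw [Set.mem_singleton_iff] at hw
    obtain ⟨c, rfl⟩ := isConj_iff.1 hwg
    obtain ⟨a, ha, b, hb, rfl⟩ := d.mul c
    have e : b * w = w * b := hw ▸ mem_centralizer_iff.1 hzB b hb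
    rw [show a * b * w * (a * b)⁻¹ = a * w * a⁻¹ by
      rw [mul_inv_rev, mul_assoc a b w, e]; group]
    exact mul_mem (mul_mem (hA ha) (hw ▸ hzU)) (inv_mem (hA ha))
  rcases d.simple (Subgroup.normalClosure ({z} : Set G)) normalClosure_normal with e | e
  · have hmem : z ∈ Subgroup.normalClosure ({z} : Set G) :=
      subset_normalClosure (Set.mem_singleton z)
    rw [e, mem_bot] at hmem
    exact hz1 hmem
  · rw [e] at hle
    exact d.normalizer_ne_top hne (d.ne_top_of_le hU) (top_le_iff.1 hle)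

/-- A subgroup of `B` invariant under `A` is trivial. -/
theorem Data.eq_bot_of_le_other {U : Subgroup G} (hU : U ≤ B)
    (hA : A ≤ normalizer (U : Set G)) : U = ⊥ := by
  have hle : Subgroup.normalClosure (U : Set G) ≤ B := by
    refine (closure_le _).2 fun g hg => ?_
    obtain ⟨w, hw, hwg⟩ := Group.mem_conjugatesOfSet_iff.1 hg
    obtain ⟨c, rfl⟩ := isConj_iff.1 hwg
    obtain ⟨b, hb, a, ha, rfl⟩ := d.symm.mul c
    rw [show b * a * w * (b * a)⁻¹ = b * (a * w * a⁻¹) * b⁻¹ by group]
    exact mul_mem (mul_mem hb (hU (conj_mem_of_le_normalizer hA ha hw))) (inv_mem hb)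
  rcases d.simple _ normalClosure_normal with e | e
  · exact eq_bot_iff.2 (e ▸ subset_normalClosure)
  · exact absurd (top_le_iff.1 (e ▸ hle)) d.symm.ne_top

/-- Normal subgroups of the two factors generating a proper subgroup give a proper factorised
normalizer, hence a solvable one. -/
theorem Data.factor_sup {A₀ B₀ : Subgroup G} (hA : A₀ ≤ A) (hAn : A ≤ normalizer (A₀ : Set G))
    (hB : B₀ ≤ B) (hBn : B ≤ normalizer (B₀ : Set G)) (h0 : A₀ ≠ ⊥) (h1 : A₀ ⊔ B₀ ≠ ⊤) :
    normalizer ((A₀ ⊔ B₀ : Subgroup G) : Set G) ≠ ⊤ ∧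
      (∀ g ∈ normalizer ((A₀ ⊔ B₀ : Subgroup G) : Set G),
        ∃ a ∈ normalizer ((A₀ ⊔ B₀ : Subgroup G) : Set G) ⊓ A,
        ∃ b ∈ normalizer ((A₀ ⊔ B₀ : Subgroup G) : Set G) ⊓ B, g = a * b) ∧
      Group.IsSolvable (normalizer ((A₀ ⊔ B₀ : Subgroup G) : Set G)) := by
  have hne := d.normalizer_ne_top (fun h => h0 (le_bot_iff.1 (h ▸ le_sup_left))) h1
  have hfac := Cfsg.Agent.S0562.result A B A₀ B₀ d.mul hA (normal_subgroupOf_of_le_normalizer hAn)
    hB (normal_subgroupOf_of_le_normalizer hBn)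
  exact ⟨hne, hfac, d.solv _ hne hfac⟩

/-- No proper subgroup contains full Sylow subgroups of both factors. -/
theorem Data.no_proper {q s : ℕ} [Fact q.Prime] [Fact s.Prime] (hqA : q ∣ Nat.card A)
    (hsB : s ∣ Nat.card B) {L : Subgroup G} (hqL : core A q ≤ L) (hsL : core B s ≤ L)
    (hL : L ≠ ⊤) : False := by
  have hq0 : core A q ≠ ⊥ := core_ne_bot_of_dvd ((fittingOf_eq d.nilA).symm ▸ hqA)
  have hs0 : core B s ≠ ⊥ := core_ne_bot_of_dvd ((fittingOf_eq d.nilB).symm ▸ hsB)
  obtain ⟨hNne, hfac, hsolv⟩ := d.factor_sup core_le le_normalizer_core core_le le_normalizer_core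
    hq0 fun h => hL (top_le_iff.1 (h ▸ sup_le hqL hsL))
  set N := normalizer ((core A q ⊔ core B s : Subgroup G) : Set G)
  have hqN : core A q ≤ N := le_sup_left.trans le_normalizer
  have hsN : core B s ≤ N := le_sup_right.trans le_normalizer
  haveI := hsolv
  have hnorm : ∀ (X : Subgroup G) (t : ℕ),
      (((core X t).subgroupOf N).subgroupOf (X.subgroupOf N)).Normal := by
    intro X t
    refine normal_subgroupOf_of_le_normalizer fun x hx => ?_
    refine mem_normalizer_iff.2 fun y => ?_
    exact mem_normalizer_iff.1 (le_normalizer_core (mem_subgroupOf.1 hx)) (y : G)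
  have hhall : ∀ (X : Subgroup G) (t : ℕ) [Fact t.Prime], core X t ≤ N →
      Nat.card (core X t) = t ^ (Nat.card G).factorization t →
      (Nat.card ((core X t).subgroupOf N)).Coprime ((core X t).subgroupOf N).index := by
    intro X t ht htN hc
    rw [Nat.card_congr (subgroupOfEquivOfLe htN).toEquiv, hc]
    refine Nat.Coprime.pow_left _ ((ht.out.coprime_iff_not_dvd).2 fun hd => ?_)
    have hd' : t ∣ (core X t).index := hd.trans ⟨N.index, (relIndex_mul_index htN).symm⟩
    have h2 : (Nat.card (core X t) * (core X t).index).factorization t =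
        (Nat.card G).factorization t := by rw [card_mul_index]
    rw [Nat.factorization_mul Nat.card_pos.ne' index_ne_zero_of_finite, Finsupp.add_apply,
      hc, Nat.Prime.factorization_pow ht.out, Finsupp.single_eq_same] at h2
    have := ht.out.factorization_pos_of_dvd index_ne_zero_of_finite hd'
    omega
  obtain ⟨S', hS'⟩ := CfsgLib.Coprime.hall_factors_permute (G := N) (H := A.subgroupOf N)
    (K := B.subgroupOf N) (A := (core A q).subgroupOf N) (B := (core B s).subgroupOf N)
    (fun g => by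
      obtain ⟨a, ha, b, hb, e⟩ := hfac g g.2
      exact ⟨⟨a, ha.1⟩, ha.2, ⟨b, hb.1⟩, hb.2, Subtype.ext e⟩)
    (comap_mono core_le) (hnorm A q) (hhall A q hqN (d.card_core_eq hqA))
    (hhall B s hsN (d.symm.card_core_eq hsB)) (comap_mono core_le) (hnorm B s)
  have hS : ((S'.map N.subtype : Subgroup G) : Set G) = (core A q : Set G) * (core B s : Set G) := by
    have e1 : ∀ X : Subgroup G, X ≤ N → N.subtype '' ((X.subgroupOf N : Subgroup N) : Set N) = X :=
      fun X hX => by rw [← coe_map, map_subgroupOf_eq_of_le hX]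
    rw [coe_map, hS', Set.image_mul N.subtype, e1 _ hqN, e1 _ hsN]
  obtain ⟨K, hK, hKtop, hle⟩ := Cfsg.Agent.S0566.result (core A q) (core B s) hq0 hs0 fun x => by
    obtain ⟨a, ha, b, hb, rfl⟩ := d.mul x
    refine ⟨(S'.map N.subtype).map (MulAut.conj a).toMonoidHom, fun h => hNne ?_, ?_⟩
    · refine eq_top_iff.2 fun g _ => map_subtype_le S' ?_
      obtain ⟨w, hw, e⟩ := (h ▸ mem_top (a * g * a⁻¹) :
        a * g * a⁻¹ ∈ (S'.map N.subtype).map (MulAut.conj a).toMonoidHom)
      simp only [MulEquiv.coe_toMonoidHom, MulAut.conj_apply] at e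
      rwa [mul_left_cancel (mul_right_cancel e)] at hw
    · have e2 : ((core A q).map (MulAut.conj a).toMonoidHom : Subgroup G) = core A q :=
        CfsgLib.Coprime.conjBy_eq_self_iff.2 (le_normalizer_core ha)
      have e3 : (MulAut.conj (a * b) • core B s : Subgroup G) =
          (core B s).map (MulAut.conj a).toMonoidHom := by
        show conjBy (a * b) (core B s) = conjBy a (core B s)
        rw [← CfsgLib.Coprime.conjBy_conjBy,
          CfsgLib.Coprime.conjBy_eq_self_iff.2 (le_normalizer_core hb)]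
      conv_rhs => rw [← e2, e3]
      rw [coe_map, hS, Set.image_mul, coe_map, coe_map]
  rcases d.simple K hK with e | e
  · rcases hle with h | h
    · exact hq0 (le_bot_iff.1 (e ▸ h))
    · exact hs0 (le_bot_iff.1 (e ▸ h))
  · exact hKtop e

/-- A central element of `B` normalises no nontrivial primary subgroup of `A`. -/
theorem Data.false_of_central {p : ℕ} [Fact p.Prime] {U : Subgroup G} (hU1 : U ≠ ⊥)
    (hU : U ≤ core A p) {z : G} (hzB : z ∈ B) (hzC : z ∈ centralizer (B : Set G)) (hz1 : z ≠ 1)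
    (hzU : z ∈ normalizer (U : Set G)) : False := by
  obtain ⟨q, hq, hqA, hqp⟩ := d.exists_ne p
  haveI : Fact q.Prime := ⟨hq⟩
  have hq0 : core A q ≠ ⊥ := core_ne_bot_of_dvd ((fittingOf_eq d.nilA).symm ▸ hqA)
  have hqU : core A q ≤ normalizer (U : Set G) :=
    ((core_centralizes hqp).trans (centralizer_le hU)).trans
      (CfsgLib.Coprime.centralizer_le_normalizer_self _)
  have hUne := d.normalizer_ne_top hU1 (d.ne_top_of_le (hU.trans core_le))
  have hzn : B ≤ normalizer (zpowers z : Set G) :=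
    (le_centralizer_iff.1 (zpowers_le.2 hzC)).trans
      (CfsgLib.Coprime.centralizer_le_normalizer_self _)
  obtain ⟨hHne, hfac, hsolv⟩ := d.factor_sup core_le le_normalizer_core (zpowers_le.2 hzB) hzn hq0
    fun h => hUne (top_le_iff.1 (h ▸ sup_le hqU (zpowers_le.2 hzU)))
  set H := normalizer ((core A q ⊔ zpowers z : Subgroup G) : Set G)
  have hqH : core A q ≤ H := le_sup_left.trans le_normalizer
  have hzH : z ∈ H := le_normalizer (mem_sup_right (mem_zpowers z))
  haveI := hsolv
  have hBs : ∀ s : ℕ, s.Prime → s ∣ Nat.card B → core H s = ⊥ := by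
    intro s hs hsB
    haveI : Fact s.Prime := ⟨hs⟩
    by_contra hne
    have hle : core H s ≤ core B s := d.symm.core_le_factor (fun g hg => by
      obtain ⟨a, ha, b, hb, e⟩ := hfac g⁻¹ (inv_mem hg)
      exact ⟨b⁻¹, inv_mem hb, a⁻¹, inv_mem ha, by rw [← inv_inv g, e, mul_inv_rev]⟩) hsB
    obtain ⟨t, ht, htB, hts⟩ := d.symm.exists_ne s
    haveI : Fact t.Prime := ⟨ht⟩
    exact d.no_proper hqA htB (hqH.trans le_normalizer_core)
      (((core_centralizes hts).trans (centralizer_le hle)).trans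
        (CfsgLib.Coprime.centralizer_le_normalizer_self _))
      (d.normalizer_ne_top hne (d.symm.ne_top_of_le (hle.trans core_le)))
  have hqbot : core H q = ⊥ := by
    have hle : core H q ≤ core A q := d.core_le_factor hfac hqA
    refine d.eq_bot_of_normalized (hle.trans core_le) (le_of_cores d.nilA fun t ht => ?_) hzC hz1
      (le_normalizer_core hzH)
    haveI : Fact t.Prime := ⟨ht⟩
    rcases eq_or_ne t q with rfl | htq
    · exact hqH.trans le_normalizer_core
    · exact ((core_centralizes htq).trans (centralizer_le hle)).trans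
        (CfsgLib.Coprime.centralizer_le_normalizer_self _)
  have hcent : core A q ≤ centralizer (Cfsg.fittingOf H : Set G) := by
    refine le_centralizer_iff.1 (CfsgLib.CFun.fittingOf_le_of_cores fun t ht => ?_)
    haveI : Fact t.Prime := ⟨ht⟩
    rcases eq_or_ne t q with rfl | htq
    · rw [hqbot]; exact bot_le
    by_cases htG : t ∣ Nat.card G
    · rcases d.dvd_cases ht htG with htA | htB
      · exact (d.core_le_factor hfac htA).trans (core_centralizes htq)
      · rw [hBs t ht htB]; exact bot_le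
    · rw [d.core_eq_bot htG]; exact bot_le
  have hqF := (le_inf hqH hcent).trans CfsgLib.CFun.centralizer_fittingOf_le
  exact hq0 (le_bot_iff.1 (hqbot ▸ CfsgLib.CFun.le_core_of_le_fittingOf hqF isPGroup_core))

/-- A central element of `A` normalises no nontrivial subgroup of order coprime to `|A|`. -/
theorem Data.eq_bot_of_invariant {a : G} (haA : a ∈ A) (haC : a ∈ centralizer (A : Set G))
    (ha1 : a ≠ 1) {R : Subgroup G} (haR : a ∈ normalizer (R : Set G))
    (hR : ∀ t : ℕ, t.Prime → t ∣ Nat.card R → ¬ t ∣ Nat.card A) : R = ⊥ := by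
  rw [eq_bot_iff_card]
  by_contra hne
  obtain ⟨t, ht, htd⟩ := Nat.exists_prime_and_dvd hne
  haveI : Fact t.Prime := ⟨ht⟩
  have hcop : (Nat.card (zpowers a)).Coprime (Nat.card R) :=
    Nat.coprime_of_dvd fun k hk hka hkR =>
      hR k hk hkR (hka.trans (card_dvd_of_le (zpowers_le.2 haA)))
  obtain ⟨T, hT, hTa⟩ := CfsgLib.Coprime.exists_invariant_sylow (zpowers_le.2 haR) hcop
    (Or.inl (CfsgLib.Coprime.isSolvable_of_isMulCommutative inferInstance)) t
  have hT1 : T ≠ ⊥ := fun h => by
    have hc := hT.2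
    rw [h, card_bot] at hc
    exact absurd hc.symm (Nat.one_lt_pow (ht.factorization_pos_of_dvd Nat.card_pos.ne' htd).ne'
      ht.one_lt).ne'
  have htB : t ∣ Nat.card B :=
    (d.dvd_cases ht (htd.trans (card_subgroup_dvd_card R))).resolve_left (hR t ht htd)
  obtain ⟨x, hx, hle⟩ := d.symm.exists_le_conj htB hT.isPGroup
  have hxa : x⁻¹ ∈ centralizer (zpowers a : Set G) :=
    le_centralizer_iff.1 (zpowers_le.2 haC) (inv_mem hx)
  refine d.symm.false_of_central (p := t) (U := conjBy x⁻¹ T) ?_ ?_ haA haC ha1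
    (CfsgLib.Coprime.normalizer_conjBy_le hxa hTa (mem_zpowers a))
  · intro h
    refine hT1 (card_eq_one.1 ?_)
    rw [← CfsgLib.Coprime.card_conjBy x⁻¹ T, h, card_bot]
  · refine (map_mono hle).trans (le_of_eq ?_)
    show conjBy x⁻¹ (conjBy x (core B t)) = core B t
    rw [CfsgLib.Coprime.conjBy_conjBy, inv_mul_cancel, CfsgLib.Coprime.conjBy_one]

theorem Data.centralizer_le {a : G} (haA : a ∈ A) (haC : a ∈ centralizer (A : Set G))
    (ha1 : a ≠ 1) : centralizer ({a} : Set G) ≤ A := by
  intro g hg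
  obtain ⟨x, hx, y, hy, rfl⟩ := d.mul g
  have hy' : y ∈ centralizer ({a} : Set G) := by
    have h1 : x ∈ centralizer ({a} : Set G) :=
      mem_centralizer_singleton_iff.2 (mem_centralizer_iff.1 haC x hx)
    simpa using mul_mem (inv_mem h1) hg
  have hzy : zpowers y = ⊥ := d.eq_bot_of_invariant haA haC ha1
    (CfsgLib.Coprime.centralizer_le_normalizer_self _ (le_centralizer_iff.1
      (zpowers_le.2 (show y ∈ centralizer (zpowers a : Set G) by
        rw [mem_centralizer_iff]
        rintro _ ⟨n, rfl⟩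
        exact ((Commute.zpow_left (mem_centralizer_singleton_iff.1 hy').symm n)))) (mem_zpowers a)))
    fun t ht htd htA => d.symm.not_dvd ht (htd.trans (card_dvd_of_le (zpowers_le.2 hy))) htA
  rw [zpowers_eq_bot.1 hzy, mul_one]
  exact hx

theorem Data.exists_central {q : ℕ} [Fact q.Prime] (hqA : q ∣ Nat.card A) :
    ∃ a : G, a ∈ core A q ∧ a ∈ centralizer (A : Set G) ∧ a ≠ 1 ∧ a ∈ zCore A q := by
  have hne : zCore A q ≠ ⊥ :=
    zCore_ne_bot (core_ne_bot_of_dvd ((fittingOf_eq d.nilA).symm ▸ hqA))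
  obtain ⟨a, ha, ha1⟩ := (bot_or_exists_ne_one _).resolve_left hne
  have h := zCore_le_center ha
  rw [fittingOf_eq d.nilA] at h
  exact ⟨a, ha.1, h.2, ha1, ha⟩

/-- The orders of the factors are odd. -/
theorem Data.not_two_dvd : ¬ 2 ∣ Nat.card A := by
  intro h2
  haveI : Fact (Nat.Prime 2) := ⟨Nat.prime_two⟩
  obtain ⟨a₀, -, -, ha₀, haz⟩ := d.exists_central h2
  have hz : IsPGroup 2 (zCore A 2) := isPGroup_core.to_le CfsgLib.CFun.zCore_le
  obtain ⟨k, hk⟩ := IsPGroup.iff_card.1 hz
  have hdvd : 2 ∣ Nat.card (zCore A 2) := by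
    rcases k with _ | k
    · have h1 := card_eq_one.1 (hk.trans (pow_zero 2))
      rw [h1, mem_bot] at haz
      exact absurd haz ha₀
    · exact hk ▸ dvd_pow_self 2 k.succ_ne_zero
  obtain ⟨a, ha⟩ := exists_prime_orderOf_dvd_card' 2 hdvd
  have hao : orderOf (a : G) = 2 := by rw [orderOf_coe, ha]
  have hac := zCore_le_center a.2
  rw [fittingOf_eq d.nilA] at hac
  have ha1 : (a : G) ≠ 1 := fun h => by rw [h, orderOf_one] at hao; omega
  have hO : (a : G) ∉ Cfsg.pCore 2 G := by
    intro hmem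
    haveI := CfsgLib.Coprime.pCore_normal' (G := G) 2
    rcases d.simple (Cfsg.pCore 2 G) inferInstance with e | e
    · exact ha1 (mem_bot.1 (e ▸ hmem))
    · obtain ⟨p, hp, hpA, hp2⟩ := d.exists_ne 2
      obtain ⟨j, hj⟩ := IsPGroup.iff_card.1 (CfsgLib.Coprime.pCore_isPGroup (G := G) 2)
      rw [e, card_top] at hj
      exact hp2 ((Nat.prime_dvd_prime_iff_eq hp Nat.prime_two).1
        (hp.dvd_of_dvd_pow (hj ▸ hpA.trans (card_subgroup_dvd_card A))))
  obtain ⟨x, hx1, hxodd, hxinv⟩ := CfsgLib.Invol.exists_odd_inverted_of_notMem_pCore hao hO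
  obtain ⟨q, hq, hqd⟩ := Nat.exists_prime_and_dvd (fun h => hx1 (orderOf_eq_one_iff.1 h))
  haveI : Fact q.Prime := ⟨hq⟩
  have hq2 : q ≠ 2 := fun h =>
    (Nat.not_even_iff_odd.2 hxodd) (even_iff_two_dvd.2 (h ▸ hqd))
  set v := x ^ (orderOf x / q) with hv
  have hvo : orderOf v = q := orderOf_pow_orderOf_div (orderOf_pos x).ne' hqd
  have hvinv : (a : G) * v * (a : G)⁻¹ = v⁻¹ := by rw [hv, ← conj_pow, hxinv, inv_pow]
  have haN : (a : G) ∈ normalizer (zpowers v : Set G) := by
    rw [← CfsgLib.Coprime.conjBy_eq_self_iff]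
    show (zpowers v).map (MulAut.conj (a : G)).toMonoidHom = zpowers v
    rw [MonoidHom.map_zpowers]
    show zpowers ((a : G) * v * (a : G)⁻¹) = zpowers v
    rw [hvinv, zpowers_inv]
  have hvc : Nat.card (zpowers v) = q := by rw [Nat.card_zpowers, hvo]
  by_cases hqA : q ∣ Nat.card A
  · obtain ⟨y, -, hle⟩ := d.exists_le_conj hqA (IsPGroup.of_card (n := 1) (hvc.trans (pow_one q).symm))
    have hP : conjBy y (core A 2) ≤ centralizer (zpowers v : Set G) := by
      refine le_trans ?_ (Subgroup.centralizer_le hle)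
      rintro _ ⟨w, hw, rfl⟩
      refine mem_centralizer_iff.2 ?_
      rintro _ ⟨w', hw', rfl⟩
      rw [← map_mul, ← map_mul, mem_centralizer_iff.1 (core_centralizes hq2.symm hw) w' hw']
    have h1 := le_centralizer_of_sylow (IsPGroup.of_card (n := 1) (G := zpowers (a : G))
        (by rw [Nat.card_zpowers, hao, pow_one])) (zpowers_le.2 haN) hP
      (by rw [CfsgLib.Coprime.card_conjBy, d.card_core_eq h2])
    have h3 := mem_centralizer_iff.1 (h1 (mem_zpowers _)) v (mem_zpowers v)
    rw [← h3, mul_inv_cancel_right, eq_comm, inv_eq_iff_mul_eq_one, ← pow_two] at hvinv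
    have h4 := orderOf_dvd_of_pow_eq_one hvinv
    rw [hvo] at h4
    exact hq2 ((Nat.prime_dvd_prime_iff_eq hq Nat.prime_two).1 h4)
  · have h1 := d.eq_bot_of_invariant hac.1 hac.2 ha1 haN fun t ht htd => by
      rw [hvc] at htd
      rwa [(Nat.prime_dvd_prime_iff_eq ht hq).1 htd]
    rw [h1, card_bot] at hvc
    exact hq.ne_one hvc.symm

/-- Every proper subgroup containing `A` normalises it. -/
theorem Data.overgroup {L : Subgroup G} (hL : L ≠ ⊤) (hAL : A ≤ L) :
    L ≤ normalizer (A : Set G) := by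
  have hfac : ∀ g ∈ L, ∃ a ∈ L ⊓ A, ∃ b ∈ L ⊓ B, g = a * b := fun g hg => by
    obtain ⟨a, ha, b, hb, e⟩ := d.mul g
    refine ⟨a, ⟨hAL ha, ha⟩, b, ⟨?_, hb⟩, e⟩
    have := mul_mem (inv_mem (hAL ha)) hg
    rwa [e, inv_mul_cancel_left] at this
  haveI := d.solv L hL hfac
  have hbot : ∀ s : ℕ, s.Prime → ¬ s ∣ Nat.card A → core L s = ⊥ := by
    intro s hs hsA
    haveI : Fact s.Prime := ⟨hs⟩
    by_cases hsG : s ∣ Nat.card G
    · refine d.eq_bot_of_le_other ((d.symm.core_le_factor (fun g hg => ?_)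
        ((d.dvd_cases hs hsG).resolve_left hsA)).trans core_le) (hAL.trans le_normalizer_core)
      obtain ⟨a, ha, b, hb, e⟩ := hfac g⁻¹ (inv_mem hg)
      exact ⟨b⁻¹, inv_mem hb, a⁻¹, inv_mem ha, by rw [← inv_inv g, e, mul_inv_rev]⟩
    · exact d.core_eq_bot hsG
  have key : ∀ q : ℕ, q.Prime → q ∣ Nat.card A → L ≤ normalizer (core A q : Set G) := by
    intro q hq hqA
    haveI : Fact q.Prime := ⟨hq⟩
    obtain ⟨p, hp, hpA, hpq⟩ := d.exists_ne q
    haveI : Fact p.Prime := ⟨hp⟩
    obtain ⟨a, hap, hac, ha1, haz⟩ := d.exists_central hpA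
    have haL : zpowers a ≤ core L p := by
      refine CfsgLib.CFun.le_core_of_le_fittingOf ?_
        ((isPGroup_core (H := A) (s := p)).to_le (zpowers_le.2 hap))
      refine le_trans (le_inf (zpowers_le.2 (hAL (core_le hap))) (le_centralizer_iff.1
        (CfsgLib.CFun.fittingOf_le_of_cores fun t ht => ?_))) CfsgLib.CFun.centralizer_fittingOf_le
      haveI : Fact t.Prime := ⟨ht⟩
      by_cases htA : t ∣ Nat.card A
      · exact ((d.core_le_factor hfac htA).trans core_le).trans
          (le_centralizer_iff.1 (zpowers_le.2 hac))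
      · rw [hbot t ht htA]; exact bot_le
    set C := L ⊓ centralizer (core L p : Set G) with hC
    have hCA : C ≤ A := by
      refine inf_le_right.trans ((Subgroup.centralizer_le ?_).trans
        (d.centralizer_le (core_le hap) hac ha1))
      exact Set.singleton_subset_iff.2 (haL (mem_zpowers a))
    have hCn : L ≤ normalizer (C : Set G) := CfsgLib.Coprime.inf_le_normalizer le_normalizer
      (le_normalizer_core.trans (CfsgLib.Coprime.normalizer_le_normalizer_centralizer _))
    have hqC : core A q ≤ C := le_inf (core_le.trans hAL)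
      ((core_centralizes hpq.symm).trans (Subgroup.centralizer_le (d.core_le_factor hfac hpA)))
    have h1 : core A q ≤ core L q := (le_core (nil_of_le d.nilA hCA) hqC isPGroup_core).trans
      (CfsgLib.CFun.BenderInvariant.core_le_core_of_normalized inf_le_left hCn)
    rw [le_antisymm h1 (d.core_le_factor hfac hqA)]
    exact le_normalizer_core
  intro g hg
  refine CfsgLib.Coprime.conjBy_eq_self_iff.1 (eq_of_le_of_card_ge ?_
    (CfsgLib.Coprime.card_conjBy g A).ge)
  refine Subgroup.map_le_iff_le_comap.2 (le_of_cores d.nilA fun t ht => ?_)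
  haveI : Fact t.Prime := ⟨ht⟩
  by_cases htA : t ∣ Nat.card A
  · intro w hw
    show g * w * g⁻¹ ∈ A
    exact core_le (H := A) ((mem_normalizer_iff.1 (key t ht htA hg) w).1 hw)
  · rw [show core A t = ⊥ from by_contra fun hne => htA
      ((dvd_of_core_ne_bot hne).trans (by rw [fittingOf_eq d.nilA]))]
    exact bot_le

/-- The centraliser of an element of `B` normalising `A` is factorised. -/
theorem Data.centralizer_fac {c : G} (hcB : c ∈ B) (hcA : c ∈ normalizer (A : Set G)) :
    ∀ g ∈ centralizer ({c} : Set G), ∃ a ∈ centralizer ({c} : Set G) ⊓ A,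
      ∃ b ∈ centralizer ({c} : Set G) ⊓ B, g = a * b := by
  intro g hg
  obtain ⟨a, ha, b, hb, rfl⟩ := d.mul g
  have hgc : a * b * c = c * (a * b) := mem_centralizer_singleton_iff.1 hg
  have e : b * c * b⁻¹ * c⁻¹ = a⁻¹ * (c * a * c⁻¹) := by
    have h1 : b * c * b⁻¹ = a⁻¹ * c * a := by
      rw [mul_inv_eq_iff_eq_mul, mul_assoc (a⁻¹ * c), mul_assoc a⁻¹ c, ← hgc]
      group
    rw [h1]
    group
  have h2 : b * c * b⁻¹ * c⁻¹ ∈ A ⊓ B := ⟨e ▸ mul_mem (A.inv_mem ha)
    ((mem_normalizer_iff.1 hcA a).1 ha), mul_mem (mul_mem (mul_mem hb hcB) (B.inv_mem hb))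
      (B.inv_mem hcB)⟩
  rw [d.inf_eq_bot, mem_bot, mul_inv_eq_one, mul_inv_eq_iff_eq_mul] at h2
  have hbc : b ∈ centralizer ({c} : Set G) := mem_centralizer_singleton_iff.2 h2
  have hac : a ∈ centralizer ({c} : Set G) := by
    simpa using mul_mem hg (inv_mem hbc)
  exact ⟨a, ⟨hac, ha⟩, b, ⟨hbc, hb⟩, rfl⟩

theorem Data.centralizer_le_normalizer {r : ℕ} [Fact r.Prime] (hrB : r ∣ Nat.card B) {c : G}
    (hc : c ∈ core B r) (hc1 : c ≠ 1) (hcA : c ∈ normalizer (A : Set G)) :
    centralizer ({c} : Set G) ⊓ A ≤ normalizer (B : Set G) := by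
  set K := centralizer ({c} : Set G) with hK
  have hfac := d.centralizer_fac (core_le hc) hcA
  have hfac' : ∀ g ∈ K, ∃ b ∈ K ⊓ B, ∃ a ∈ K ⊓ A, g = b * a := fun g hg => by
    obtain ⟨a, ha, b, hb, e⟩ := hfac g⁻¹ (inv_mem hg)
    exact ⟨b⁻¹, inv_mem hb, a⁻¹, inv_mem ha, by rw [← inv_inv g, e, mul_inv_rev]⟩
  haveI := d.solv K (d.centralizer_ne_top hc1) hfac
  obtain ⟨z, hzr, hzc, hz1, -⟩ := d.symm.exists_central hrB
  have hzK : z ∈ K := mem_centralizer_singleton_iff.2 (mem_centralizer_iff.1 hzc c (core_le hc)).symm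
  have hA0 : ∀ p : ℕ, p.Prime → p ∣ Nat.card A → core K p = ⊥ := by
    intro p hp hpA
    haveI : Fact p.Prime := ⟨hp⟩
    by_contra hne
    exact d.false_of_central hne (d.core_le_factor hfac hpA) (core_le hzr) hzc hz1
      (le_normalizer_core hzK)
  obtain ⟨t, ht, htB, htr⟩ := d.symm.exists_ne r
  haveI : Fact t.Prime := ⟨ht⟩
  have htK : core B t ≤ K := (core_centralizes htr).trans
    (Subgroup.centralizer_le (Set.singleton_subset_iff.2 hc))
  have hle : core K t ≤ core B t := d.symm.core_le_factor hfac' htB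
  by_cases h0 : core K t = ⊥
  · exfalso
    have hcent : core B t ≤ centralizer (Cfsg.fittingOf K : Set G) := by
      refine le_centralizer_iff.1 (CfsgLib.CFun.fittingOf_le_of_cores fun s hs => ?_)
      haveI : Fact s.Prime := ⟨hs⟩
      rcases eq_or_ne s t with rfl | hst
      · rw [h0]; exact bot_le
      by_cases hsG : s ∣ Nat.card G
      · rcases d.dvd_cases hs hsG with hsA | hsB
        · rw [hA0 s hs hsA]; exact bot_le
        · exact (d.symm.core_le_factor hfac' hsB).trans (core_centralizes hst)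
      · rw [d.core_eq_bot hsG]; exact bot_le
    have h1 := CfsgLib.CFun.le_core_of_le_fittingOf
      ((le_inf htK hcent).trans CfsgLib.CFun.centralizer_fittingOf_le) isPGroup_core
    rw [h0, le_bot_iff] at h1
    exact core_ne_bot_of_dvd ((fittingOf_eq d.nilB).symm ▸ htB) h1
  · have hB : B ≤ normalizer (core K t : Set G) := le_of_cores d.nilB fun s hs => by
      haveI : Fact s.Prime := ⟨hs⟩
      rcases eq_or_ne s t with rfl | hst
      · exact htK.trans le_normalizer_core
      · exact ((core_centralizes hst).trans (Subgroup.centralizer_le hle)).trans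
          (CfsgLib.Coprime.centralizer_le_normalizer_self _)
    exact (inf_le_left.trans le_normalizer_core).trans (d.symm.overgroup
      (d.normalizer_ne_top h0 (d.symm.ne_top_of_le (hle.trans core_le))) hB)

/-- A subgroup of the normaliser of `A` with order coprime to `|B|` lies in `A`. -/
theorem Data.le_of_le_normalizer {W : Subgroup G} (hW : W ≤ normalizer (A : Set G))
    (hWA : ∀ r : ℕ, r.Prime → r ∣ Nat.card W → r ∣ Nat.card A) : W ≤ A := by
  rw [← relIndex_eq_one]
  by_contra hne
  obtain ⟨r, hr, hrd⟩ := Nat.exists_prime_and_dvd hne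
  haveI : (A.subgroupOf (normalizer (A : Set G))).Normal :=
    normal_subgroupOf_of_le_normalizer le_rfl
  have h1 : r ∣ A.relIndex (normalizer (A : Set G)) := by
    refine hrd.trans ?_
    rw [← relIndex_subgroupOf hW]
    exact relIndex_dvd_index_of_normal _ _
  have h2 : r ∣ Nat.card B := by
    refine h1.trans ((relIndex_dvd_index_of_le le_normalizer).trans ?_)
    exact (dvd_of_eq (Nat.eq_of_mul_eq_mul_left (Nat.card_pos (α := A))
      ((card_mul_index A).trans d.card_eq)))
  exact d.not_dvd hr (hWA r hr (hrd.trans (relIndex_dvd_card A W))) h2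

/-- An element of prime order in `A` with conjugate in `A` under `y ∈ B` forces `y` to
normalise `A`. -/
theorem Data.mem_normalizer {p : ℕ} [Fact p.Prime] {e y : G} (heA : e ∈ A) (hyB : y ∈ B)
    (hey : y⁻¹ * e * y ∈ A) (he : orderOf e = p) : y ∈ normalizer (A : Set G) := by
  have hpA : p ∣ Nat.card A :=
    he ▸ (orderOf_coe (⟨e, heA⟩ : A)).symm ▸ orderOf_dvd_natCard _
  have hep : IsPGroup p (zpowers e) :=
    IsPGroup.of_card (n := 1) (by rw [Nat.card_zpowers, he, pow_one])
  have hecore : e ∈ core A p := le_core d.nilA (zpowers_le.2 heA) hep (mem_zpowers e)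
  have he'core : y⁻¹ * e * y ∈ core A p := le_core d.nilA (zpowers_le.2 hey)
    (IsPGroup.of_card (n := 1) (by
      rw [Nat.card_zpowers, pow_one, ← he]
      simpa using (orderOf_injective (MulAut.conj y⁻¹).toMonoidHom (MulEquiv.injective _) e)))
    (mem_zpowers _)
  obtain ⟨q, hq, hqA, hqp⟩ := d.exists_ne p
  haveI : Fact q.Prime := ⟨hq⟩
  have he1 : e ≠ 1 := fun h => by
    rw [h, orderOf_one] at he
    exact (Fact.out : p.Prime).one_lt.ne he
  set L := centralizer ({e} : Set G) with hLdef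
  have hqL : core A q ≤ L := (core_centralizes hqp).trans
    (Subgroup.centralizer_le (Set.singleton_subset_iff.2 hecore))
  have hyL : conjBy y (core A q) ≤ L := by
    rintro _ ⟨w, hw, rfl⟩
    refine mem_centralizer_singleton_iff.2 ?_
    show y * w * y⁻¹ * e = e * (y * w * y⁻¹)
    have h1 : (y⁻¹ * e * y) * w = w * (y⁻¹ * e * y) :=
      mem_centralizer_iff.1 (core_centralizes hqp hw) _ he'core
    calc y * w * y⁻¹ * e = y * (w * (y⁻¹ * e * y)) * y⁻¹ := by group
      _ = y * ((y⁻¹ * e * y) * w) * y⁻¹ := by rw [h1]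
      _ = e * (y * w * y⁻¹) := by group
  have hNA : normalizer (A : Set G) ≠ ⊤ := d.normalizer_ne_top d.ne_bot d.ne_top
  have hAq : A ≤ normalizer (core A q : Set G) := le_normalizer_core
  suffices heq : conjBy y (core A q) = core A q from
    d.overgroup (d.normalizer_ne_top
      (core_ne_bot_of_dvd ((fittingOf_eq d.nilA).symm ▸ hqA)) (d.ne_top_of_le core_le))
      hAq (CfsgLib.Coprime.conjBy_eq_self_iff.1 heq)
  have finish : conjBy y (core A q) ≤ normalizer (A : Set G) →
      conjBy y (core A q) = core A q := by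
    intro h
    haveI := CfsgLib.Coprime.pCore_characteristic (G := A) q
    have h1 : IsPGroup q (core A q ⊔ conjBy y (core A q) : Subgroup G) :=
      isPGroup_core.to_sup_of_normal_left' (isPGroup_core.map _)
        (h.trans (CfsgLib.PGroup.le_normalizer_map_char (Cfsg.pCore q A)))
    have h2 : Nat.card (core A q ⊔ conjBy y (core A q) : Subgroup G) ≤ Nat.card (core A q) := by
      obtain ⟨k, hk⟩ := IsPGroup.iff_card.1 h1
      rw [hk, d.card_core_eq hqA]
      exact Nat.pow_le_pow_right hq.pos ((hq.pow_dvd_iff_le_factorization Nat.card_pos.ne').1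
        (hk ▸ card_subgroup_dvd_card _))
    exact eq_of_le_of_card_ge (le_sup_right.trans (eq_of_le_of_card_ge le_sup_left h2).ge)
      (CfsgLib.Coprime.card_conjBy y _).ge
  apply finish
  by_cases hcase : ∀ r : ℕ, r.Prime → r ∣ Nat.card (L ⊓ normalizer (A : Set G) : Subgroup G) →
      r ∣ Nat.card A
  · have hW : L ⊓ normalizer (A : Set G) ≤ A := d.le_of_le_normalizer inf_le_right hcase
    have hq2 : q ≠ 2 := fun h => d.not_two_dvd (h ▸ hqA)
    have hLs : IsSylowIn q (core A q) L := by
      refine ⟨hqL, (d.card_core_eq hqA).trans ?_⟩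
      congr 1
      refine le_antisymm ((hq.pow_dvd_iff_le_factorization Nat.card_pos.ne').1
        (d.card_core_eq hqA ▸ card_dvd_of_le hqL))
        ((Nat.factorization_le_iff_dvd Nat.card_pos.ne' Nat.card_pos.ne').2
          (card_subgroup_dvd_card L) q)
    set P := hLs.toSylow with hPdef
    have hPm : (P : Subgroup L).map L.subtype = core A q := hLs.map_toSylow
    set J := Cfsg.centerThompsonOf q (P : Subgroup L) with hJ
    set J' := J.map L.subtype with hJ'
    have hJP : J ≤ (P : Subgroup L) :=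
      inf_le_left.trans (CfsgLib.Fusion.thompsonSubgroupOf_le _)
    have hJ'q : J' ≤ core A q := (map_mono hJP).trans hPm.le
    have hP1 : (P : Subgroup L) ≠ ⊥ := fun h => by
      rw [h, Subgroup.map_bot] at hPm
      exact core_ne_bot_of_dvd ((fittingOf_eq d.nilA).symm ▸ hqA) hPm.symm
    have hJ1 : J' ≠ ⊥ := by
      rw [hJ', Ne, map_eq_bot_iff_of_injective _ L.subtype_injective]
      have hT1 := CfsgLib.Fusion.thompsonSubgroupOf_ne_bot (p := q) P.2 hP1
      haveI : Nontrivial (Cfsg.thompsonSubgroupOf q (P : Subgroup L)) := (nontrivial_iff_ne_bot _).2 hT1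
      haveI := ((P.2).to_le (CfsgLib.Fusion.thompsonSubgroupOf_le (p := q) (P : Subgroup L))).center_nontrivial
      obtain ⟨z, hz⟩ := _root_.exists_ne (1 : center (Cfsg.thompsonSubgroupOf q (P : Subgroup L)))
      intro hb
      have : ((z : Cfsg.thompsonSubgroupOf q (P : Subgroup L)) : L) ∈ J :=
        ⟨z.1.2, mem_centralizer_iff.2 fun b hb' => congrArg Subtype.val (mem_center_iff.1 z.2 ⟨b, hb'⟩)⟩
      rw [hb, mem_bot] at this
      exact hz (Subtype.ext (Subtype.ext this))
    have hAJ : A ≤ normalizer (J' : Set G) := le_of_cores d.nilA fun t ht => by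
      haveI : Fact t.Prime := ⟨ht⟩
      rcases eq_or_ne t q with rfl | htq
      · rw [← hPm, hJ']
        exact (map_mono (le_normalizer.trans
          (CfsgLib.CFun.normalizer_le_normalizer_centerThompsonOf _))).trans (le_normalizer_map _)
      · exact ((core_centralizes htq).trans (Subgroup.centralizer_le hJ'q)).trans
          (CfsgLib.Coprime.centralizer_le_normalizer_self _)
    have hNJ : (normalizer (J : Set L)).map L.subtype ≤ A :=
      (le_inf (map_subtype_le _) ((le_normalizer_map _).trans (d.overgroup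
        (d.normalizer_ne_top hJ1 (d.ne_top_of_le (hJ'q.trans core_le))) hAJ))).trans hW
    have hnc : Cfsg.HasNormalPComplement q (normalizer (J : Set L)) := by
      set N₁ := normalizer (J : Set L)
      haveI : Group.IsNilpotent N₁ := by
        haveI := nil_of_le d.nilA hNJ
        exact Group.nilpotent_of_mulEquiv
          (N₁.equivMapOfInjective L.subtype L.subtype_injective).symm
      exact CfsgLib.PGroup.hasNormalPComplement_of_isNilpotent q
    obtain ⟨P₂, N₀, hN₀, hcomp⟩ := (Cfsg.Agent.S0117.result hq2 P).2 hnc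
    haveI := hN₀
    have hN₀q : ¬ q ∣ Nat.card N₀ := by
      rw [← hcomp.index_eq_card]
      exact P₂.not_dvd_index
    set K := N₀.map L.subtype with hK
    have hKn : L ≤ normalizer (K : Set G) := fun g hg => le_normalizer_map L.subtype
      ⟨⟨g, hg⟩, (normalizer_eq_top N₀).symm ▸ mem_top _, rfl⟩
    have hKc : Nat.card K = Nat.card N₀ := card_map_of_injective L.subtype_injective
    have hKA : K ≤ A := by
      have hcop : (Nat.card (core A q)).Coprime (Nat.card K) := by
        rw [d.card_core_eq hqA, hKc]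
        exact Nat.Coprime.pow_left _ ((hq.coprime_iff_not_dvd).2 hN₀q)
      have hsol : Group.IsSolvable (core A q) ∨ Group.IsSolvable K :=
        Or.inl (CfsgLib.Coprime.isSolvable_of_isNilpotent isPGroup_core.isNilpotent)
      obtain ⟨a, haq, hac, ha1, -⟩ := d.exists_central hqA
      have h1 : Nat.card K ∣ Nat.card (K ⊓ A : Subgroup G) := by
        refine (Nat.factorization_le_iff_dvd Nat.card_pos.ne' Nat.card_pos.ne').1 fun t => ?_
        by_cases ht : t.Prime
        swap
        · simp [Nat.factorization_eq_zero_of_not_prime _ ht]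
        haveI : Fact t.Prime := ⟨ht⟩
        obtain ⟨T, hT, hTq⟩ := CfsgLib.Coprime.exists_invariant_sylow
          (hqL.trans hKn) hcop hsol t
        have hTA : T ≤ A := by
          by_cases htA : t ∣ Nat.card A
          · rcases eq_or_ne t q with rfl | htq
            · have : T = ⊥ := card_eq_one.1 (by
                rw [hT.2, Nat.factorization_eq_zero_of_not_dvd (hKc ▸ hN₀q), pow_zero])
              rw [this]; exact bot_le
            obtain ⟨w, -, hle⟩ := d.exists_le_conj htA hT.isPGroup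
            have hP2 : conjBy w (core A q) ≤ centralizer (T : Set G) := by
              refine le_trans ?_ (Subgroup.centralizer_le hle)
              rintro _ ⟨v, hv, rfl⟩
              refine mem_centralizer_iff.2 ?_
              rintro _ ⟨v', hv', rfl⟩
              rw [← map_mul, ← map_mul, mem_centralizer_iff.1 (core_centralizes htq.symm hv) v' hv']
            have h2 := le_centralizer_of_sylow isPGroup_core hTq hP2
              (by rw [CfsgLib.Coprime.card_conjBy, d.card_core_eq hqA])
            refine (le_centralizer_iff.1 h2).trans ((Subgroup.centralizer_le ?_).trans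
              (d.centralizer_le (core_le haq) hac ha1))
            exact Set.singleton_subset_iff.2 haq
          · have h0 := d.eq_bot_of_invariant (core_le haq) hac ha1 (hTq haq) fun s hs hsd => by
              obtain ⟨k, hk⟩ := IsPGroup.iff_card.1 hT.isPGroup
              rw [hk] at hsd
              rwa [(Nat.prime_dvd_prime_iff_eq hs ht).1 (hs.dvd_of_dvd_pow hsd)]
            rw [h0]; exact bot_le
        exact (ht.pow_dvd_iff_le_factorization Nat.card_pos.ne').1
          (hT.2 ▸ card_dvd_of_le (le_inf hT.1 hTA))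
      exact inf_eq_left.1 (eq_of_le_of_card_ge inf_le_left (Nat.le_of_dvd Nat.card_pos h1))
    have hP₂ : (P₂ : Subgroup L).map L.subtype ≤ normalizer (A : Set G) := by
      obtain ⟨g, hg⟩ := MulAction.exists_smul_eq L P P₂
      have hgn : g ∈ (N₀ ⊔ (P : Subgroup L)) := by
        have hc2 : N₀.IsComplement' (P : Subgroup L) := by
          refine isComplement'_of_coprime ?_ ?_
          · rw [← hcomp.card_mul, P.card_eq_multiplicity, P₂.card_eq_multiplicity]
          · rw [P.card_eq_multiplicity]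
            exact (Nat.Coprime.pow_left _ ((hq.coprime_iff_not_dvd).2 hN₀q)).symm
        rw [hc2.sup_eq_top]
        exact mem_top g
      have hgA : (g : G) ∈ A := by
        have : (g : G) ∈ (N₀ ⊔ (P : Subgroup L)).map L.subtype := ⟨g, hgn, rfl⟩
        rw [Subgroup.map_sup, hPm] at this
        exact (sup_le hKA core_le) this
      rintro _ ⟨w, hw, rfl⟩
      rw [← hg] at hw
      obtain ⟨w', hw', rfl⟩ := hw
      have hw'A : (w' : G) ∈ A := core_le (hPm.le ⟨w', hw', rfl⟩)
      exact le_normalizer (mul_mem (mul_mem hgA hw'A) (inv_mem hgA))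
    have htop : L ≤ normalizer (A : Set G) := by
      intro g hg
      have : (g : G) ∈ (N₀ ⊔ (P₂ : Subgroup L)).map L.subtype :=
        ⟨⟨g, hg⟩, hcomp.sup_eq_top.symm ▸ mem_top _, rfl⟩
      rw [Subgroup.map_sup] at this
      exact (sup_le (hKA.trans le_normalizer) hP₂) this
    exact hyL.trans htop
  · push Not at hcase
    obtain ⟨r, hr, hrd, hrA⟩ := hcase
    haveI : Fact r.Prime := ⟨hr⟩
    set N := normalizer (A : Set G) with hNdef
    obtain ⟨c, hc⟩ := exists_prime_orderOf_dvd_card' r hrd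
    have hco : orderOf (c : G) = r := by rw [orderOf_coe, hc]
    have hrB : r ∣ Nat.card B :=
      (d.dvd_cases hr (hrd.trans (card_subgroup_dvd_card _))).resolve_left hrA
    have hfac : ∀ g ∈ N, ∃ a ∈ N ⊓ A, ∃ b ∈ N ⊓ B, g = a * b := fun g hg => by
      obtain ⟨a, ha, b, hb, e'⟩ := d.mul g
      refine ⟨a, ⟨le_normalizer ha, ha⟩, b, ⟨?_, hb⟩, e'⟩
      have := mul_mem (inv_mem (le_normalizer ha : a ∈ N)) hg
      rwa [e', inv_mul_cancel_left] at this
    have hS : IsSylowIn r (core (N ⊓ B) r) N := by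
      refine ⟨core_le.trans inf_le_left, (card_core (nil_of_le d.nilB inf_le_right)).trans ?_⟩
      rw [d.card_fac hfac, Nat.factorization_mul Nat.card_pos.ne' Nat.card_pos.ne',
        Finsupp.add_apply, Nat.factorization_eq_zero_of_not_dvd
          (fun h => hrA (h.trans (card_dvd_of_le inf_le_right))), zero_add]
    obtain ⟨T, hT⟩ := ((IsPGroup.of_card (n := 1) (G := zpowers (c : G))
      (by rw [Nat.card_zpowers, hco, pow_one])).comap_subtype (K := N)).exists_le_sylow
    obtain ⟨n, hn, heq⟩ := hS.exists_conj (CfsgLib.Coprime.isSylowIn_map T)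
    have hcn : (c : G) ∈ conjBy n (core (N ⊓ B) r) :=
      heq ▸ ⟨⟨c, c.2.2⟩, hT (mem_zpowers (c : G)), rfl⟩
    obtain ⟨x, hx, b, hb, rfl⟩ := hfac n hn
    rw [← CfsgLib.Coprime.conjBy_conjBy, CfsgLib.Coprime.conjBy_eq_self_iff.2
      (le_normalizer_core hb)] at hcn
    obtain ⟨c₁, hc₁, hcc⟩ := hcn
    have hcc' : x * c₁ * x⁻¹ = c := hcc
    have hc₁B : c₁ ∈ core B r :=
      le_core d.nilB (core_le.trans inf_le_right) isPGroup_core hc₁
    have hc₁N : c₁ ∈ N := (core_le.trans inf_le_left) hc₁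
    have hc₁1 : c₁ ≠ 1 := fun h => by
      rw [h, mul_one, mul_inv_cancel] at hcc'
      rw [← hcc', orderOf_one] at hco
      exact hr.one_lt.ne hco
    set e₁ := x⁻¹ * e * x with he₁
    have he₁A : e₁ ∈ A := mul_mem (mul_mem (inv_mem hx.2) heA) hx.2
    have he₁core : e₁ ∈ core A p := by
      have := conj_mem_of_le_normalizer le_normalizer_core (inv_mem hx.2) hecore
      rwa [inv_inv] at this
    have he₁c : e₁ ∈ centralizer ({c₁} : Set G) := by
      have h1 : (c : G) * e = e * c := mem_centralizer_singleton_iff.1 c.2.1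
      rw [← hcc'] at h1
      refine mem_centralizer_singleton_iff.2 ?_
      calc x⁻¹ * e * x * c₁ = x⁻¹ * (e * (x * c₁ * x⁻¹)) * x := by group
        _ = x⁻¹ * (x * c₁ * x⁻¹ * e) * x := by rw [h1]
        _ = c₁ * (x⁻¹ * e * x) := by group
    have he₁1 : e₁ ≠ 1 := fun h => he1 (by
      have h' := congrArg (fun w => x * w * x⁻¹) h
      simpa [he₁, mul_assoc] using h')
    have he₁N : e₁ ∈ normalizer (B : Set G) :=
      d.centralizer_le_normalizer hrB hc₁B hc₁1 hc₁N ⟨he₁c, he₁A⟩
    have h1 : centralizer ({e₁} : Set G) ≤ N := by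
      intro g hg
      obtain ⟨b', hb', a', ha', rfl⟩ := d.symm.centralizer_fac he₁A he₁N g hg
      exact mul_mem (d.symm.centralizer_le_normalizer hpA he₁core he₁1 he₁N hb')
        (le_normalizer ha'.2)
    intro g hg
    have hg' : x⁻¹ * g * x ∈ centralizer ({e₁} : Set G) := by
      have h2 : g * e = e * g := mem_centralizer_singleton_iff.1 (hyL hg)
      refine mem_centralizer_singleton_iff.2 ?_
      calc x⁻¹ * g * x * (x⁻¹ * e * x) = x⁻¹ * (g * e) * x := by group
        _ = x⁻¹ * (e * g) * x := by rw [h2]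
        _ = x⁻¹ * e * x * (x⁻¹ * g * x) := by group
    have h3 := mul_mem (mul_mem (le_normalizer hx.2 : x ∈ N) (h1 hg'))
      (inv_mem (le_normalizer hx.2 : x ∈ N))
    rwa [show x * (x⁻¹ * g * x) * x⁻¹ = g by group] at h3

/-- The configuration is impossible. -/
theorem Data.false : False := by
  suffices h : ∀ A B : Subgroup G, Data A B → Nat.card B < Nat.card A → False by
    rcases lt_trichotomy (Nat.card A) (Nat.card B) with h1 | h1 | h1
    · exact h B A d.symm h1
    · obtain ⟨p, hp, hpA, -⟩ := d.exists_ne 0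
      exact d.not_dvd hp hpA (h1 ▸ hpA)
    · exact h A B d h1
  intro A B d hlt
  obtain ⟨y, hyB, hy⟩ : ∃ y ∈ B, y ∉ normalizer (A : Set G) := by
    by_contra! hall
    refine d.normalizer_ne_top d.ne_bot d.ne_top (eq_top_iff.2 fun g _ => ?_)
    obtain ⟨a, ha, b, hb, rfl⟩ := d.mul g
    exact mul_mem (le_normalizer ha) (hall b hb)
  have hD : A ⊓ conjBy y A ≠ ⊥ := by
    intro h
    have h1 : Nat.card A * Nat.card (conjBy y A) ≤ Nat.card G := by
      rw [← Nat.card_prod]
      refine Nat.card_le_card_of_injective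
        (fun w : A × (conjBy y A : Subgroup G) => (w.1 : G) * (w.2 : G)) ?_
      exact Subgroup.mul_injective_of_disjoint (disjoint_iff.2 h)
    rw [CfsgLib.Coprime.card_conjBy, d.card_eq] at h1
    exact (Nat.lt_irrefl _) (lt_of_lt_of_le
      (Nat.mul_lt_mul_of_pos_left hlt Nat.card_pos) h1)
  obtain ⟨p, hp, hpd⟩ := Nat.exists_prime_and_dvd (fun h => hD (card_eq_one.1 h))
  haveI : Fact p.Prime := ⟨hp⟩
  obtain ⟨e, he⟩ := exists_prime_orderOf_dvd_card' p hpd
  refine hy (d.mem_normalizer (p := p) e.2.1 hyB ?_ (by rw [orderOf_coe, he]))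
  exact CfsgLib.Coprime.mem_conjBy.1 e.2.2

end CfsgLib.NilpotentProduct
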