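import Cfsg.Agent.Lib.CFun.NoEightLevels
import Mathlib

/-!
# 2-groups without normal elementary abelian subgroups of order 8 with odd automorphisms

Such a group, nonabelian and generated by the twists of a group of automorphisms of odd order, is the
quaternion group of order 8, special of order 64, or extraspecial of order 32.
-/

set_option autoImplicit false

open Subgroup

universe u

namespace CfsgLib.CFun.NoEight

variable {X : Type u} [Group X] [Finite X]

/-- The case of involutions of invariant normal abelian subgroups all fixed. -/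
theorem classify_fixed (hX : IsPGroup 2 X) (hna : ¬ IsMulCommutative X) (hno : NoNormalEight X)
    {A : Subgroup (MulAut X)} (hA : Odd (Nat.card A)) (hXA : GenByTwist A)
    (hfix : ∀ Q : Subgroup X, Q.Normal → Inv A Q → (∀ a ∈ Q, ∀ b ∈ Q, a * b = b * a) →
      ∀ φ ∈ A, ∀ w ∈ Q, w * w = 1 → φ w = w) :
    Nonempty (X ≃* QuaternionGroup 2) ∨
      (Cfsg.IsSpecial 2 X ∧ Nat.card X = 64 ∧ Nat.card {x : X // orderOf x = 2} = 3 ∧
        ∀ x : X, orderOf x = 2 → x ∈ center X) ∨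
      (Cfsg.IsExtraspecial 2 X ∧ Nat.card X = 32 ∧ Nat.card {x : X // orderOf x = 2} = 11) := by
  have hcen_fix : ∀ φ ∈ A, ∀ u ∈ center X, φ u = u := fun φ hφ =>
    fixed_of_fixed_omega hX hA (fun a _ b hb => mem_center_iff.1 hb a) (center_inv A) hφ fun w hw hww =>
      hfix _ inferInstance (center_inv A) (fun a _ b hb => mem_center_iff.1 hb a) φ hφ w hw hww
  have hlayer := centralizer_layer hX (A := A) (U := center X) (fun a _ b hb => mem_center_iff.1 hb a)
    (center_inv A) (fun Q hQn hQi hQab _ => by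
      haveI := hQn
      exact le_center_of_fixed hXA fun φ hφ =>
        fixed_of_fixed_omega hX hA hQab hQi hφ (hfix Q hQn hQi hQab φ hφ))
  have hall : ∀ x : X, x ∈ centralizer (center X : Set X) := fun x =>
    mem_centralizer_iff.2 fun c hc => (mem_center_iff.1 hc x).symm
  have hsq : ∀ x : X, x * x ∈ center X := fun x => (hlayer x (hall x)).1
  have hcsq : ∀ c ∈ commutator X, c ∈ center X ∧ c * c = 1 := by
    let N : Subgroup X :=
      { carrier := {c | c ∈ center X ∧ c * c = 1}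
        one_mem' := ⟨one_mem _, one_mul 1⟩
        mul_mem' := fun {a b} ha hb => ⟨mul_mem ha.1 hb.1, by
          rw [(show Commute b a from (mem_center_iff.1 hb.1 a).symm).mul_mul_mul_comm, ha.2, hb.2, one_mul]⟩
        inv_mem' := fun {a} ha => ⟨inv_mem ha.1, by rw [← mul_inv_rev, ha.2, inv_one]⟩ }
    have hle : commutator X ≤ N := by
      rw [_root_.commutator_def, commutator_le]
      intro a _ b _
      rw [commutatorElement_def]
      exact (hlayer a (hall a)).2 b (hall b)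
    exact fun c hc => hle hc
  have heq : commutator X = center X := le_antisymm (fun c hc => (hcsq c hc).1) fun u hu =>
    mem_of_fixed hX hA hXA (commutator_inv A) mem_commutator_of fun φ hφ => by
      rw [hcen_fix φ hφ u hu, mul_inv_cancel]; exact one_mem _
  have hW2 : ∀ w ∈ center X, w * w = 1 := fun w hw => (hcsq w (heq.ge hw)).2
  have hle4 : Nat.card ↥(center X) ≤ 4 := hno _ inferInstance
    ⟨⟨⟨fun a b => Subtype.ext (mem_center_iff.1 b.2 a)⟩⟩, fun w hw => by rw [pow_two]; exact hW2 w hw⟩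
  obtain ⟨d, hd⟩ := IsPGroup.iff_card.1 (hX.to_subgroup (center X))
  have hd2 : d ≤ 2 := by
    rw [hd] at hle4
    exact (Nat.pow_le_pow_iff_right (a := 2) one_lt_two).1 (hle4.trans (by norm_num))
  interval_cases d
  · exfalso
    rw [pow_zero, Subgroup.card_eq_one] at hd
    refine hna ⟨⟨fun a b => ?_⟩⟩
    have h : a * b * a⁻¹ * b⁻¹ ∈ center X := heq ▸ mem_commutator_of a b
    rw [hd, mem_bot, mul_inv_eq_one, mul_inv_eq_iff_eq_mul] at h
    exact h
  · haveI : Fact (Nat.Prime 2) := ⟨Nat.prime_two⟩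
    rw [pow_one] at hd
    obtain ⟨⟨z, hzc⟩, hz⟩ := exists_prime_orderOf_dvd_card' (G := center X) 2 (by rw [hd])
    rw [← Subgroup.orderOf_coe] at hz
    have hcen : center X = zpowers z :=
      (Subgroup.eq_of_le_of_card_ge (zpowers_le.2 hzc) (by rw [Nat.card_zpowers, hz, hd])).symm
    rcases final_two hX hA hXA hno hz hcen heq hsq with h | h
    · exact Or.inl h
    · exact Or.inr (Or.inr h)
  · norm_num at hd
    have hinv : ∀ x : X, x * x = 1 → x ∈ center X := fun x hx =>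
      mem_of_involution hno hd hW2 le_rfl hx fun y => heq ▸ mem_commutator_of y x
    exact Or.inr (Or.inl (final_four hX hA hXA hna hd hW2 hsq hinv heq.ge rfl (Or.inl hcen_fix)))

/-- The centralizer of a maximal layer is the layer. -/
theorem Layer.centralizer_le {A : Subgroup (MulAut X)} {U W : Subgroup X} {φ : MulAut X} {k : ℕ}
    (S : Layer A U W φ k) (hX : IsPGroup 2 X) (hno : NoNormalEight X)
    (hmax : ∀ Q : Subgroup X, Q.Normal → Inv A Q → (∀ a ∈ Q, ∀ b ∈ Q, a * b = b * a) → U ≤ Q → Q ≤ U) :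
    centralizer (U : Set X) ≤ U := by
  haveI := S.hUn
  have F := S.F
  have hlayer := centralizer_layer hX S.hUab S.hUi hmax
  set P := centralizer (U : Set X) with hP
  haveI hPn : P.Normal := by rw [hP]; infer_instance
  have hPU : ∀ p ∈ P, ∀ u ∈ U, p * u = u * p := fun p hp u hu => (mem_centralizer_iff.1 hp u hu).symm
  have hUP : U ≤ P := fun a ha => mem_centralizer_iff.2 fun b hb => S.hUab b hb a ha
  have hPi : Inv A P := by
    intro ψ hψ p hp
    refine mem_centralizer_iff.2 fun u hu => ?_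
    have h := congrArg ψ (mem_centralizer_iff.1 hp _ (S.hUi _ (A.inv_mem hψ) u hu))
    rwa [map_mul, map_mul, MulAut.apply_inv_self] at h
  let g : X → X := fun p => (p * p) ^ 2 ^ (k - 1)
  have hgW : ∀ p ∈ P, g p ∈ W := fun p hp => S.theta_mem (hlayer p hp).1
  have hW : ∀ p ∈ P, ∀ q ∈ P, p * q * p⁻¹ * q⁻¹ ∈ W := fun p hp q hq =>
    S.hom1 _ ((hlayer p hp).2 q hq).1 ((hlayer p hp).2 q hq).2
  have gmul : ∀ p ∈ P, ∀ q ∈ P, g (p * q) = g p * g q := by
    intro p hp q hq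
    have hc := hW q hq p hp
    have e : p * q * (p * q) = (q * p * q⁻¹ * p⁻¹) * ((p * p) * (q * q)) := by
      calc p * q * (p * q) = (p * (q * p * q⁻¹ * p⁻¹)) * (p * (q * q)) := by group
        _ = _ := by rw [S.cen hc p]; group
    show (p * q * (p * q)) ^ 2 ^ (k - 1) = (p * p) ^ 2 ^ (k - 1) * (q * q) ^ 2 ^ (k - 1)
    rw [e, S.pw (S.hWU hc) (U.mul_mem (hlayer p hp).1 (hlayer q hq).1), S.pw (hlayer p hp).1 (hlayer q hq).1,
      show k - 1 = (k - 2) + 1 by have := S.hk; omega, pow_succ' 2 (k - 2), pow_mul (q * p * q⁻¹ * p⁻¹), pow_two,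
      F.hW2 _ hc, one_pow, one_mul]
  have gU : ∀ u ∈ U, g u = 1 := fun u hu => by
    show (u * u) ^ 2 ^ (k - 1) = 1
    rw [← pow_two, ← pow_mul, ← pow_succ', show k - 1 + 1 = k from by have := S.hk; omega]
    exact S.hexp u hu
  -- the kernel
  have hker : ∀ p ∈ P, g p = 1 → p ∈ U := by
    by_contra hnot
    push Not at hnot
    obtain ⟨p₀, hp₀, hg₀, hp₀U⟩ := hnot
    let T : Subgroup X :=
      { carrier := {p | p ∈ P ∧ g p = 1}
        one_mem' := ⟨P.one_mem, gU 1 U.one_mem⟩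
        mul_mem' := fun {a b} ha hb => ⟨P.mul_mem ha.1 hb.1, by rw [gmul a ha.1 b hb.1, ha.2, hb.2, one_mul]⟩
        inv_mem' := fun {a} ha => ⟨P.inv_mem ha.1, by
          have h := gmul _ (P.inv_mem ha.1) a ha.1
          rw [inv_mul_cancel, gU 1 U.one_mem, ha.2, mul_one] at h
          exact h.symm⟩ }
    haveI hTn : T.Normal := ⟨fun p hp x => ⟨hPn.conj_mem p hp.1 x, by
      show (x * p * x⁻¹ * (x * p * x⁻¹)) ^ 2 ^ (k - 1) = 1
      have h : (p * p) ^ 2 ^ (k - 1) = 1 := hp.2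
      rw [show x * p * x⁻¹ * (x * p * x⁻¹) = x * (p * p) * x⁻¹ by group, conj_pow, h, mul_one, mul_inv_cancel]⟩⟩
    haveI : (T.map (QuotientGroup.mk' U)).Normal := hTn.map _ (QuotientGroup.mk'_surjective U)
    have hne : T.map (QuotientGroup.mk' U) ≠ ⊥ := fun h => hp₀U ((QuotientGroup.eq_one_iff p₀).1 (by
      have h1 : (p₀ : X ⧸ U) ∈ T.map (QuotientGroup.mk' U) := mem_map_of_mem _ ⟨hp₀, hg₀⟩
      rwa [h, mem_bot] at h1))
    haveI : Fact (Nat.Prime 2) := ⟨Nat.prime_two⟩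
    haveI := (hX.to_quotient U).isNilpotent
    haveI : Nontrivial ↥(T.map (QuotientGroup.mk' U) ⊓ center (X ⧸ U)) :=
      (nontrivial_iff_ne_bot _).2 (CfsgLib.Coprime.nilpotent_inf_center_ne_bot _ hne)
    obtain ⟨w, hw⟩ := exists_ne (1 : ↥(T.map (QuotientGroup.mk' U) ⊓ center (X ⧸ U)))
    obtain ⟨p, ⟨hp, hgp⟩, hpw⟩ := w.2.1
    have hpU : p ∉ U := fun h => hw (Subtype.ext (hpw.symm.trans ((QuotientGroup.eq_one_iff p).2 h)))
    have hxp : ∀ x : X, x * p * x⁻¹ * p⁻¹ ∈ U := by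
      intro x
      refine (QuotientGroup.eq_one_iff _).1 ?_
      have hc : (x : X ⧸ U) * p = p * x := by
        rw [show (p : X ⧸ U) = w.1 from hpw]; exact mem_center_iff.1 w.2.2 x
      rw [QuotientGroup.mk_mul, QuotientGroup.mk_mul, QuotientGroup.mk_mul, QuotientGroup.mk_inv,
        QuotientGroup.mk_inv, hc, mul_inv_cancel_right, mul_inv_cancel]
    obtain ⟨v, hv, hvv⟩ := S.sqroot (k - 1) (p * p) (hlayer p hp).1 hgp (by have := S.hk; omega)
    set t := p * v⁻¹ with ht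
    have hvp : v⁻¹ * p = p * v⁻¹ := (hPU p hp _ (U.inv_mem hv)).symm
    have htt : t * t = 1 := by
      calc t * t = p * (v⁻¹ * p) * v⁻¹ := by simp only [ht]; group
        _ = p * (p * v⁻¹) * v⁻¹ := by rw [hvp]
        _ = (p * p) * (v * v)⁻¹ := by group
        _ = 1 := by rw [hvv, mul_inv_cancel]
    have htP : t ∈ P := P.mul_mem hp (hUP (U.inv_mem hv))
    have htW : t ∈ W := by
      refine mem_of_involution hno F.hW4 F.hW2 S.hWc htt fun x => ?_
      set s := x * t * x⁻¹ * t⁻¹ with hs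
      have hsU : s ∈ U := by
        have he : x * v⁻¹ * x⁻¹ * v ∈ U := U.mul_mem (S.hUn.conj_mem _ (U.inv_mem hv) x) hv
        have e : s = (x * p * x⁻¹ * p⁻¹) * (x * v⁻¹ * x⁻¹ * v) := by
          calc s = (x * p * x⁻¹ * p⁻¹) * (p * (x * v⁻¹ * x⁻¹ * v) * p⁻¹) := by simp only [hs, ht]; group
            _ = _ := by rw [hPU p hp _ he, mul_inv_cancel_right]
        rw [e]; exact U.mul_mem (hxp x) he
      refine S.hom1 s hsU ?_
      calc s * s = s * s * (t * t) := by rw [htt, mul_one]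
        _ = s * (s * t) * t := by group
        _ = s * (t * s) * t := by rw [hPU t htP s hsU]
        _ = x * (t * t) * x⁻¹ := by simp only [hs]; group
        _ = 1 := by rw [htt]; group
    exact hpU (by rw [show p = t * v by rw [ht, inv_mul_cancel_right]]; exact U.mul_mem (S.hWU htW) hv)
  -- commutation
  by_contra hnot
  obtain ⟨p, hp, hpU⟩ := SetLike.not_le_iff_exists.1 hnot
  set w := g p with hw
  have hwW : w ∈ W := hgW p hp
  have hw1 : w ≠ 1 := fun h => hpU (hker p hp h)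
  have gφ : ∀ q : X, g (φ q) = φ (g q) := fun q => by
    show (φ q * φ q) ^ 2 ^ (k - 1) = φ ((q * q) ^ 2 ^ (k - 1))
    rw [map_pow, map_mul]
  set b := φ p with hb
  have hbP : b ∈ P := hPi φ F.hφ p hp
  have hφbP : φ b ∈ P := hPi φ F.hφ b hbP
  have gb : g b = φ w := gφ p
  have hu : φ b * (p * b) ∈ U := hker _ (P.mul_mem hφbP (P.mul_mem hp hbP)) (by
    rw [gmul _ hφbP _ (P.mul_mem hp hbP), gmul p hp b hbP, gφ b, gb, F.phi2 hwW, ← hw,
      F.hW2 _ (W.mul_mem hwW (F.phi_mem hwW))])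
  set u' := φ b * (p * b) with hu'
  have hφb : φ b = u' * (p * b)⁻¹ := by rw [hu', mul_inv_cancel_right]
  have hc : p * b * p⁻¹ * b⁻¹ = 1 := by
    have hcW := hW p hp b hbP
    refine F.hfree _ hcW ?_
    rw [map_mul, map_mul, map_mul, map_inv, map_inv, ← hb, hφb]
    clear_value u' b
    have he : p⁻¹ * b⁻¹ * p * b ∈ W := by
      have := hW _ (P.inv_mem hp) _ (P.inv_mem hbP)
      rwa [inv_inv, inv_inv] at this
    calc b * (u' * (p * b)⁻¹) * b⁻¹ * (u' * (p * b)⁻¹)⁻¹ = (b * u') * (b⁻¹ * p⁻¹ * b⁻¹ * p * b) * u'⁻¹ := by group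
      _ = (u' * b) * (b⁻¹ * p⁻¹ * b⁻¹ * p * b) * u'⁻¹ := by rw [hPU b hbP u' hu]
      _ = u' * (p⁻¹ * b⁻¹ * p * b) * u'⁻¹ := by group
      _ = p⁻¹ * b⁻¹ * p * b := by rw [S.cen he u', mul_inv_cancel_right]
      _ = (b * p) * (p⁻¹ * b⁻¹ * p * b) * (b * p)⁻¹ := by rw [S.cen he (b * p), mul_inv_cancel_right]
      _ = _ := by group
  have hpb : p * b = b * p := by rwa [mul_inv_eq_one, mul_inv_eq_iff_eq_mul] at hc
  have hgen : ∀ q ∈ P, ∃ u ∈ U, q = u ∨ q = u * p ∨ q = u * b ∨ q = u * (p * b) := by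
    intro q hq
    have hφw := F.phi_mem hwW
    have one : ∀ r ∈ P, g q = g r → q * r⁻¹ ∈ U := fun r hr h => hker _ (P.mul_mem hq (P.inv_mem hr)) (by
      have h1 := gmul _ (P.mul_mem hq (P.inv_mem hr)) r hr
      rw [inv_mul_cancel_right, h] at h1
      exact right_eq_mul.1 h1)
    rcases F.orbit hwW hw1 (g q) (hgW q hq) with h | h | h | h
    · exact ⟨q, hker q hq h, Or.inl rfl⟩
    · exact ⟨_, one p hp h, Or.inr (Or.inl (by rw [inv_mul_cancel_right]))⟩
    · exact ⟨_, one b hbP (h.trans gb.symm), Or.inr (Or.inr (Or.inl (by rw [inv_mul_cancel_right])))⟩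
    · refine ⟨_, one (p * b) (P.mul_mem hp hbP) ?_, Or.inr (Or.inr (Or.inr (by rw [inv_mul_cancel_right])))⟩
      rw [h, F.phi2 hwW, gmul p hp b hbP, gb]
  have hcomp : ∀ r ∈ P, r * p = p * r → r * b = b * r → ∀ q ∈ P, q * r = r * q := by
    intro r hr h1 h2 q hq
    obtain ⟨u, hu, e⟩ := hgen q hq
    have hur : Commute u r := (hPU r hr u hu).symm
    rcases e with rfl | rfl | rfl | rfl
    · exact hur
    · exact hur.mul_left h1.symm
    · exact hur.mul_left h2.symm
    · exact hur.mul_left ((show Commute p r from h1.symm).mul_left h2.symm)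
  refine hpU (hmax P hPn hPi (fun r hr q hq => ?_) hUP hp)
  exact (hcomp r hr (hcomp p hp rfl hpb r hr) (hcomp b hbP hpb.symm rfl r hr) q hq).symm

/-- A moved involution. -/
theorem classify_moved (hX : IsPGroup 2 X) (hna : ¬ IsMulCommutative X) (hno : NoNormalEight X)
    {A : Subgroup (MulAut X)} (hA : Odd (Nat.card A)) (hXA : GenByTwist A)
    {Q : Subgroup X} (hQn : Q.Normal) (hQi : Inv A Q) (hQab : ∀ a ∈ Q, ∀ b ∈ Q, a * b = b * a)
    {φ : MulAut X} (hφ : φ ∈ A) {w₀ : X} (hw₀ : w₀ ∈ Q) (hw₀2 : w₀ * w₀ = 1) (hmove : φ w₀ ≠ w₀) :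
    Cfsg.IsSpecial 2 X ∧ Nat.card X = 64 ∧ Nat.card {x : X // orderOf x = 2} = 3 ∧
      ∀ x : X, orderOf x = 2 → x ∈ center X := by
  classical
  haveI : Fact (Nat.Prime 2) := ⟨Nat.prime_two⟩
  let p : Subgroup X → Prop := fun S => S.Normal ∧ Inv A S ∧ (∀ a ∈ S, ∀ b ∈ S, a * b = b * a) ∧ Q ≤ S
  haveI : Nonempty {S // p S} := ⟨⟨Q, hQn, hQi, hQab, le_rfl⟩⟩
  obtain ⟨⟨U, hUn, hUi, hUab, hQU⟩, hbig⟩ := Finite.exists_max fun S : {S // p S} => Nat.card S.1
  have hmax : ∀ S : Subgroup X, S.Normal → Inv A S → (∀ a ∈ S, ∀ b ∈ S, a * b = b * a) → U ≤ S → S ≤ U :=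
    fun S h1 h2 h3 h4 => (Subgroup.eq_of_le_of_card_ge h4 (hbig ⟨S, h1, h2, h3, hQU.trans h4⟩)).ge
  haveI := hUn
  let W : Subgroup X :=
    { carrier := {w | w ∈ U ∧ w * w = 1}
      one_mem' := ⟨U.one_mem, one_mul 1⟩
      mul_mem' := fun {a b} ha hb => ⟨U.mul_mem ha.1 hb.1, by
        rw [(show Commute b a from hUab b hb.1 a ha.1).mul_mul_mul_comm, ha.2, hb.2, one_mul]⟩
      inv_mem' := fun {a} ha => ⟨U.inv_mem ha.1, by rw [← mul_inv_rev, ha.2, inv_one]⟩ }
  have memW : ∀ w, w ∈ W ↔ w ∈ U ∧ w * w = 1 := fun w => Iff.rfl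
  haveI hWn : W.Normal := ⟨fun w hw x => ⟨hUn.conj_mem w hw.1 x, by
    rw [show x * w * x⁻¹ * (x * w * x⁻¹) = x * (w * w) * x⁻¹ by group, hw.2, mul_one, mul_inv_cancel]⟩⟩
  have hWi : Inv A W := fun ψ hψ w hw => ⟨hUi ψ hψ w hw.1, by rw [← map_mul, hw.2, map_one]⟩
  have hW2 : ∀ w ∈ W, w * w = 1 := fun w hw => hw.2
  have hw₀W : w₀ ∈ W := ⟨hQU hw₀, hw₀2⟩
  have hW4 : Nat.card W = 4 := by
    have hle := hno W hWn ⟨⟨⟨fun a b => Subtype.ext (hUab _ a.2.1 _ b.2.1)⟩⟩,
      fun w hw => by rw [pow_two]; exact hW2 w hw⟩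
    have hw₀1 : w₀ ≠ 1 := fun h => hmove (by rw [h, map_one])
    have hsub : ({1, w₀, φ w₀} : Finset X) ⊆ (Set.toFinite (W : Set X)).toFinset := by
      intro s hs
      rw [Set.Finite.mem_toFinset]
      simp only [Finset.mem_insert, Finset.mem_singleton] at hs
      rcases hs with rfl | rfl | rfl
      · exact W.one_mem
      · exact hw₀W
      · exact hWi φ hφ _ hw₀W
    have hcard := Finset.card_le_card hsub
    rw [← Set.ncard_eq_toFinset_card _, ← Nat.card_coe_set_eq, Finset.card_insert_of_notMem (by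
      simp only [Finset.mem_insert, Finset.mem_singleton, not_or]
      exact ⟨hw₀1.symm, fun h => hw₀1 (φ.injective (h.symm.trans (map_one φ).symm))⟩),
      Finset.card_pair hmove.symm] at hcard
    have hcard' : 3 ≤ Nat.card W := hcard
    obtain ⟨d, hd⟩ := IsPGroup.iff_card.1 (hX.to_subgroup W)
    rw [hd] at hle hcard' ⊢
    have : d ≤ 2 := (Nat.pow_le_pow_iff_right (a := 2) one_lt_two).1 (hle.trans (by norm_num))
    interval_cases d <;> simp_all
  have F : FourAct A W φ := ⟨hA, hW4, hW2, hWi, hφ, fun w hw h => by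
    by_contra hw1
    exact hmove (fix_all hA hW4 hW2 hWi hφ hw hw1 h w₀ hw₀W)⟩
  have hWc : W ≤ center X := by
    haveI := hX.isNilpotent
    have hne : W ≠ ⊥ := fun h => by rw [h, Subgroup.card_bot] at hW4; omega
    haveI : Nontrivial ↥(W ⊓ center X) :=
      (nontrivial_iff_ne_bot _).2 (CfsgLib.Coprime.nilpotent_inf_center_ne_bot _ hne)
    obtain ⟨c, hc⟩ := exists_ne (1 : ↥(W ⊓ center X))
    exact F.le_of_inv (fun x hx => center_inv A φ hφ x hx) c.2.1 c.2.2 fun h => hc (Subtype.ext h)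
  by_cases hUW : U ≤ W
  · refine finish_four hX hXA hno hna F hWc fun x => ?_
    have hx : x ∈ centralizer (U : Set X) :=
      mem_centralizer_iff.2 fun u hu => (mem_center_iff.1 (hWc (hUW hu)) x).symm
    exact hUW (centralizer_layer hX hUab hUi hmax x hx).1
  -- exponent at least four
  have hex : ∃ i, ∀ u ∈ U, u ^ 2 ^ i = 1 := by
    obtain ⟨n, hn⟩ := IsPGroup.iff_card.1 hX
    exact ⟨n, fun u _ => by rw [← hn]; exact pow_card_eq_one'⟩
  set k := Nat.find hex with hkdef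
  have hexp : ∀ u ∈ U, u ^ 2 ^ k = 1 := Nat.find_spec hex
  have hk : 2 ≤ k := by
    by_contra h
    refine hUW fun u hu => ⟨hu, ?_⟩
    have h1 := hexp u hu
    rcases (show k = 0 ∨ k = 1 by omega) with e | e
    · rw [e, pow_zero, pow_one] at h1; rw [h1, one_mul]
    · rwa [e, pow_one, pow_two] at h1
  have hmin : ∃ u ∈ U, u ^ 2 ^ (k - 1) ≠ 1 := by
    have := Nat.find_min hex (show k - 1 < Nat.find hex by omega)
    push Not at this
    exact this
  have S : Layer A U W φ k :=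
    { F := F, hUn := hUn, hUi := hUi, hUab := hUab, hWU := fun w hw => hw.1, hWc := hWc,
      hom1 := fun u hu h => ⟨hu, h⟩, hk := hk, hexp := hexp, hmin := hmin }
  have hCU : ∀ x : X, (∀ u ∈ U, brk x u = 1) → x ∈ U := fun x hx =>
    S.centralizer_le hX hno hmax (mem_centralizer_iff.2 fun u hu => by
      have h : x * u * x⁻¹ * u⁻¹ = 1 := hx u hu
      rw [mul_inv_eq_one, mul_inv_eq_iff_eq_mul] at h
      exact h.symm)
  rcases eq_or_lt_of_le hk with h2 | h3
  · exact finish_four hX hXA hno hna F hWc (S.sq_mem hX hXA hCU h2.symm)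
  · refine (S.false_of_three_le hX hXA hno hCU (fun h => hna ⟨⟨fun a b => ?_⟩⟩) h3).elim
    exact hUab a (h ▸ mem_top a) b (h ▸ mem_top b)

/-- The classification. -/
theorem classify (hX : IsPGroup 2 X) (hna : ¬ IsMulCommutative X) (hno : NoNormalEight X)
    {A : Subgroup (MulAut X)} (hA : Odd (Nat.card A)) (hXA : GenByTwist A) :
    Nonempty (X ≃* QuaternionGroup 2) ∨
      (Cfsg.IsSpecial 2 X ∧ Nat.card X = 64 ∧ Nat.card {x : X // orderOf x = 2} = 3 ∧
        ∀ x : X, orderOf x = 2 → x ∈ center X) ∨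
      (Cfsg.IsExtraspecial 2 X ∧ Nat.card X = 32 ∧ Nat.card {x : X // orderOf x = 2} = 11) := by
  by_cases hfix : ∀ Q : Subgroup X, Q.Normal → Inv A Q → (∀ a ∈ Q, ∀ b ∈ Q, a * b = b * a) →
      ∀ φ ∈ A, ∀ w ∈ Q, w * w = 1 → φ w = w
  · exact classify_fixed hX hna hno hA hXA hfix
  push Not at hfix
  obtain ⟨Q, hQn, hQi, hQab, φ, hφ, w, hw, hw2, hmove⟩ := hfix
  exact Or.inr (Or.inl (classify_moved hX hna hno hA hXA hQn hQi hQab hφ hw hw2 hmove))

end CfsgLib.CFun.NoEight
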