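import Cfsg.Agent.Lib.CFun.OddPrelimSCN
import Cfsg.Agent.Lib.Coprime.Solvable
import Cfsg.Agent.Lib.Coprime.PGroupFrattini
import Cfsg.Agent.Lib.PGroup.FrattiniLe
import Cfsg.Prelude.Def_Transfer
import Mathlib

/-!
# 2-groups without normal elementary abelian subgroups of order 8: generalities

Tools for the classification of such groups having a group of automorphisms of odd order without
fixed points on the abelianization.
-/

set_option autoImplicit false

open Subgroup
open scoped commutatorElement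

universe u

namespace CfsgLib.CFun.NoEight

variable {X : Type u} [Group X] [Finite X]

/-- There is no normal elementary abelian subgroup of order greater than four. -/
def NoNormalEight (X : Type u) [Group X] : Prop :=
  ∀ E : Subgroup X, E.Normal → Cfsg.IsElementaryAbelian 2 E → Nat.card E ≤ 4

/-- `X` is generated by the elements `x⁻¹ φ(x)`. -/
def GenByTwist (A : Subgroup (MulAut X)) : Prop :=
  closure {g : X | ∃ φ ∈ A, ∃ x : X, g = x⁻¹ * φ x} = ⊤

/-- invariance of a subgroup -/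
def Inv (A : Subgroup (MulAut X)) (N : Subgroup X) : Prop := ∀ φ ∈ A, ∀ x ∈ N, φ x ∈ N

theorem noNormalEight_of_scn (hX : IsPGroup 2 X)
    (h : ¬ ∃ A : Subgroup X, A.Normal ∧ centralizer (A : Set X) = A ∧
      ∃ E : Subgroup X, E ≤ A ∧ Cfsg.IsElementaryAbelian 2 E ∧ Nat.card E = 8) :
    NoNormalEight X := by
  intro E hEn hE
  haveI : Fact (Nat.Prime 2) := ⟨Nat.prime_two⟩
  haveI := hEn
  by_contra hgt
  rw [not_le] at hgt
  obtain ⟨C, hCn, hEC, hCab, -, hCc⟩ :=
    CfsgLib.CFun.exists_scn_between hX (⊤ : Subgroup X) E le_top hE.1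
  rw [top_inf_eq] at hCc
  obtain ⟨n, hn⟩ := IsPGroup.iff_card.1 (hX.to_subgroup E)
  have hn3 : 3 ≤ n := by
    by_contra h'
    rw [hn] at hgt
    interval_cases n <;> norm_num at hgt
  obtain ⟨K, hK⟩ := Sylow.exists_subgroup_card_pow_prime 2 (G := E) (n := 3)
    (hn ▸ pow_dvd_pow 2 hn3)
  refine h ⟨C, hCn, hCc, K.map E.subtype, (map_subtype_le K).trans hEC, ⟨?_, ?_⟩, ?_⟩
  · exact CfsgLib.CFun.isMulCommutative_of_le hE.1 (map_subtype_le K)
  · exact fun a ha => hE.2 a (map_subtype_le K ha)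
  · rw [Subgroup.card_map_of_injective E.subtype_injective, hK]; norm_num

/-- An element fixed modulo a normal invariant subgroup with abelian quotient lies in that subgroup. -/
theorem mem_of_fixed (hX : IsPGroup 2 X) {A : Subgroup (MulAut X)} (hA : Odd (Nat.card A))
    (hXA : GenByTwist A) {N : Subgroup X} [N.Normal] (hN : Inv A N)
    (hab : ∀ x y : X, x * y * x⁻¹ * y⁻¹ ∈ N) {u : X} (hu : ∀ φ ∈ A, φ u * u⁻¹ ∈ N) : u ∈ N := by
  classical
  haveI : IsMulCommutative (X ⧸ N) := ⟨⟨fun a b => by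
    obtain ⟨a, rfl⟩ := QuotientGroup.mk_surjective a
    obtain ⟨b, rfl⟩ := QuotientGroup.mk_surjective b
    rw [← QuotientGroup.mk_mul, ← QuotientGroup.mk_mul, QuotientGroup.eq]
    rw [show (a * b)⁻¹ * (b * a) = b⁻¹ * a⁻¹ * b⁻¹⁻¹ * a⁻¹⁻¹ by group]
    exact hab _ _⟩⟩
  letI : CommGroup (X ⧸ N) := { mul_comm := fun a b => mul_comm' a b }
  letI := Fintype.ofFinite A
  let nm : X →* X ⧸ N :=
    { toFun := fun x => ∏ φ : A, ((φ.1 x : X) : X ⧸ N)
      map_one' := by simp
      map_mul' := fun x y => by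
        rw [← Finset.prod_mul_distrib]
        exact Finset.prod_congr rfl fun φ _ => by rw [map_mul, QuotientGroup.mk_mul] }
  have hker : closure {g : X | ∃ φ ∈ A, ∃ x : X, g = x⁻¹ * φ x} ≤ nm.ker := by
    rw [closure_le]
    rintro _ ⟨ψ, hψ, x, rfl⟩
    rw [SetLike.mem_coe, MonoidHom.mem_ker, map_mul, map_inv, inv_mul_eq_one]
    exact (Equiv.prod_comp (Equiv.mulRight (⟨ψ, hψ⟩ : A)) (fun φ : A => ((φ.1 x : X) : X ⧸ N))).symm
  rw [hXA] at hker
  have h1 : nm u = 1 := hker (mem_top u)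
  have h2 : nm u = (u : X ⧸ N) ^ Nat.card A := by
    show ∏ φ : A, ((φ.1 u : X) : X ⧸ N) = _
    rw [Finset.prod_congr rfl (fun φ _ => show ((φ.1 u : X) : X ⧸ N) = (u : X ⧸ N) by
      rw [QuotientGroup.eq_iff_div_mem, div_eq_mul_inv]; exact hu φ.1 φ.2),
      Finset.prod_const, Finset.card_univ, Nat.card_eq_fintype_card]
  rw [h2] at h1
  obtain ⟨n, hn⟩ := hX u
  have h3 : (u : X ⧸ N) ^ 2 ^ n = 1 := by rw [← QuotientGroup.mk_pow, hn, QuotientGroup.mk_one]
  have hcop : Nat.Coprime (Nat.card A) (2 ^ n) := (Nat.coprime_two_right.2 hA).pow_right n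
  have h4 := pow_gcd_eq_one.2 ⟨h1, h3⟩
  rw [hcop.gcd_eq_one, pow_one] at h4
  exact (QuotientGroup.eq_one_iff u).1 h4

/-- An automorphism of odd order fixing the involutions of an invariant abelian subgroup fixes it. -/
theorem fixed_of_fixed_omega (hX : IsPGroup 2 X) {A : Subgroup (MulAut X)} (hA : Odd (Nat.card A))
    {U : Subgroup X} (hUab : ∀ a ∈ U, ∀ b ∈ U, a * b = b * a) (hU : Inv A U) {φ : MulAut X} (hφ : φ ∈ A)
    (h : ∀ u ∈ U, u * u = 1 → φ u = u) : ∀ u ∈ U, φ u = u := by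
  suffices ∀ n : ℕ, ∀ u ∈ U, u ^ 2 ^ n = 1 → φ u = u by
    intro u hu
    obtain ⟨n, hn⟩ := hX u
    exact this n u hu hn
  intro n
  induction n with
  | zero => intro u _ h1; rw [pow_zero, pow_one] at h1; rw [h1, map_one]
  | succ n ih =>
    intro u hu hn
    have hsq : φ (u * u) = u * u := ih _ (U.mul_mem hu hu) (by rw [← pow_two, ← pow_mul, ← pow_succ']; exact hn)
    set d := u⁻¹ * φ u with hd
    have hdU : d ∈ U := U.mul_mem (U.inv_mem hu) (hU φ hφ u hu)
    have hφu : φ u = u * d := by rw [hd, mul_inv_cancel_left]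
    have hdd : d * d = 1 := by
      rw [map_mul, hφu] at hsq
      have hc : d * u = u * d := hUab d hdU u hu
      rw [show u * d * (u * d) = u * (d * u) * d by group, hc,
        show u * (u * d) * d = u * u * (d * d) by group] at hsq
      exact mul_eq_left.1 hsq
    have hφd := h d hdU hdd
    have hpow : ∀ k : ℕ, (φ ^ k) u = u * d ^ k := by
      intro k
      induction k with
      | zero => simp
      | succ k ihk =>
        rw [pow_succ', MulAut.mul_apply, ihk, map_mul, map_pow, hφd, hφu, pow_succ', mul_assoc]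
    have hcard : φ ^ Nat.card A = 1 := orderOf_dvd_iff_pow_eq_one.1 (A.orderOf_dvd_natCard hφ)
    have h1 := hpow (Nat.card A)
    rw [hcard, MulAut.one_apply, left_eq_mul] at h1
    obtain ⟨j, hj⟩ := hA
    rw [hj, pow_succ, pow_mul, pow_two, hdd, one_pow, one_mul] at h1
    rw [hφu, h1, mul_one]

/-- A normal abelian subgroup fixed pointwise is central. -/
theorem le_center_of_fixed {A : Subgroup (MulAut X)} (hXA : GenByTwist A) {U : Subgroup X} [hUn : U.Normal]
    (hfix : ∀ φ ∈ A, ∀ u ∈ U, φ u = u) : U ≤ center X := by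
  have hle : closure {g : X | ∃ φ ∈ A, ∃ x : X, g = x⁻¹ * φ x} ≤ centralizer (U : Set X) := by
    rw [closure_le]
    rintro _ ⟨φ, hφ, x, rfl⟩
    refine mem_centralizer_iff.2 fun u hu => ?_
    have h1 : φ (x * u * x⁻¹) = x * u * x⁻¹ := hfix φ hφ _ (hUn.conj_mem u hu x)
    rw [map_mul, map_mul, map_inv, hfix φ hφ u hu] at h1
    calc u * (x⁻¹ * φ x) = x⁻¹ * (x * u * x⁻¹) * φ x := by group
      _ = x⁻¹ * (φ x * u * (φ x)⁻¹) * φ x := by rw [h1]
      _ = x⁻¹ * φ x * u := by group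
  rw [hXA] at hle
  exact fun u hu => mem_center_iff.2 fun g => (mem_centralizer_iff.1 (hle (mem_top g)) u hu).symm

theorem center_inv (A : Subgroup (MulAut X)) : Inv A (center X) := by
  intro φ _ x hx
  refine mem_center_iff.2 fun g => ?_
  have h := congrArg φ (mem_center_iff.1 hx (φ.symm g))
  rwa [map_mul, map_mul, φ.apply_symm_apply] at h

theorem commutator_inv (A : Subgroup (MulAut X)) : Inv A (commutator X) := by
  intro φ _ x hx
  have h : (commutator X).comap φ.toMonoidHom = commutator X :=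
    Subgroup.Characteristic.fixed (inferInstance : (commutator X).Characteristic) φ
  rw [← h] at hx
  exact hx

theorem mem_commutator_of (x y : X) : x * y * x⁻¹ * y⁻¹ ∈ commutator X := by
  rw [← commutatorElement_def, _root_.commutator_def]
  exact commutator_mem_commutator (mem_top _) (mem_top _)

/-- The centralizer of a maximal invariant normal abelian subgroup has squares and commutators in it. -/
theorem centralizer_layer (hX : IsPGroup 2 X) {A : Subgroup (MulAut X)} {U : Subgroup X} [hUn : U.Normal]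
    (hUab : ∀ a ∈ U, ∀ b ∈ U, a * b = b * a) (hU : Inv A U)
    (hmax : ∀ Q : Subgroup X, Q.Normal → Inv A Q → (∀ a ∈ Q, ∀ b ∈ Q, a * b = b * a) → U ≤ Q → Q ≤ U) :
    ∀ p ∈ centralizer (U : Set X), p * p ∈ U ∧ ∀ q ∈ centralizer (U : Set X),
      p * q * p⁻¹ * q⁻¹ ∈ U ∧ (p * q * p⁻¹ * q⁻¹) * (p * q * p⁻¹ * q⁻¹) = 1 := by
  set P := centralizer (U : Set X) with hP
  haveI hPn : P.Normal := by rw [hP]; infer_instance
  have hPU : ∀ p ∈ P, ∀ u ∈ U, p * u = u * p := fun p hp u hu => (mem_centralizer_iff.1 hp u hu).symm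
  have hUP : U ≤ P := fun a ha => mem_centralizer_iff.2 fun b hb => hUab b hb a ha
  -- the layer
  let E1 : Subgroup (X ⧸ U) :=
    { carrier := {w | w ∈ center (X ⧸ U) ∧ w * w = 1}
      one_mem' := ⟨one_mem _, one_mul 1⟩
      mul_mem' := fun {a b} ha hb => ⟨mul_mem ha.1 hb.1, by
        rw [(show Commute b a from (mem_center_iff.1 hb.1 a).symm).mul_mul_mul_comm, ha.2, hb.2, one_mul]⟩
      inv_mem' := fun {a} ha => ⟨inv_mem ha.1, by rw [← mul_inv_rev, ha.2, inv_one]⟩ }
  haveI : E1.Normal := ⟨fun w hw g => by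
    rw [mem_center_iff.1 hw.1 g, mul_inv_cancel_right]; exact hw⟩
  set T := P ⊓ E1.comap (QuotientGroup.mk' U) with hT
  have memT : ∀ t : X, t ∈ T ↔ t ∈ P ∧ t * t ∈ U ∧ ∀ x : X, x * t * x⁻¹ * t⁻¹ ∈ U := by
    intro t
    refine ⟨fun h => ⟨h.1, ?_, fun x => ?_⟩, fun h => ⟨h.1, ?_, ?_⟩⟩
    · exact (QuotientGroup.eq_one_iff (t * t)).1 h.2.2
    · have hc : (x : X ⧸ U) * t = t * x := mem_center_iff.1 h.2.1 x
      refine (QuotientGroup.eq_one_iff _).1 ?_
      rw [QuotientGroup.mk_mul, QuotientGroup.mk_mul, QuotientGroup.mk_mul, QuotientGroup.mk_inv,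
        QuotientGroup.mk_inv, hc, mul_inv_cancel_right, mul_inv_cancel]
    · refine mem_center_iff.2 fun g => ?_
      obtain ⟨g, rfl⟩ := QuotientGroup.mk_surjective g
      have h1 := (QuotientGroup.eq_one_iff _).2 (h.2.2 g)
      rw [QuotientGroup.mk_mul, QuotientGroup.mk_mul, QuotientGroup.mk_mul, QuotientGroup.mk_inv,
        QuotientGroup.mk_inv, mul_inv_eq_one, mul_inv_eq_iff_eq_mul] at h1
      exact h1
    · exact (QuotientGroup.eq_one_iff (t * t)).2 h.2.1
  have hPinv : Inv A P := by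
    intro φ hφ p hp
    refine mem_centralizer_iff.2 fun u hu => ?_
    have hsymm : φ⁻¹ ∈ A := A.inv_mem hφ
    have h := congrArg φ (mem_centralizer_iff.1 hp _ (hU _ hsymm u hu))
    rwa [map_mul, map_mul, MulAut.apply_inv_self] at h
  set C := P ⊓ centralizer (T : Set X) with hC
  haveI hTn : T.Normal := Subgroup.normal_inf_normal _ _
  haveI hCn : C.Normal := by
    haveI : (centralizer (T : Set X)).Normal := inferInstance
    exact Subgroup.normal_inf_normal _ _
  have hTinv : Inv A T := by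
    intro φ hφ t ht
    obtain ⟨h1, h2, h3⟩ := (memT t).1 ht
    refine (memT _).2 ⟨hPinv φ hφ t h1, ?_, fun x => ?_⟩
    · rw [← map_mul]; exact hU φ hφ _ h2
    · have h := hU φ hφ _ (h3 (φ.symm x))
      rwa [map_mul, map_mul, map_mul, map_inv, map_inv, φ.apply_symm_apply] at h
  have hCinv : Inv A C := by
    intro φ hφ c hc
    refine ⟨hPinv φ hφ c hc.1, mem_centralizer_iff.2 fun t ht => ?_⟩
    have h := congrArg φ (mem_centralizer_iff.1 hc.2 _ (hTinv _ (A.inv_mem hφ) t ht))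
    rwa [map_mul, map_mul, MulAut.apply_inv_self] at h
  have hUT : U ≤ T := fun u hu => (memT u).2 ⟨hUP hu, U.mul_mem hu hu, fun x =>
    U.mul_mem (hUn.conj_mem u hu x) (U.inv_mem hu)⟩
  have hCT : C ⊓ T ≤ U := by
    refine hmax _ (Subgroup.normal_inf_normal _ _) (fun φ hφ x hx => ⟨hCinv φ hφ x hx.1, hTinv φ hφ x hx.2⟩)
      (fun a ha b hb => (mem_centralizer_iff.1 ha.1.2 b hb.2).symm) ?_
    refine le_inf (le_inf hUP fun u hu => mem_centralizer_iff.2 fun t ht => ?_) hUT
    exact hPU t ((memT t).1 ht).1 u hu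
  have hCU : C ≤ U := by
    by_contra hnot
    haveI : Fact (Nat.Prime 2) := ⟨Nat.prime_two⟩
    haveI : (C.map (QuotientGroup.mk' U)).Normal := hCn.map _ (QuotientGroup.mk'_surjective U)
    have hne : C.map (QuotientGroup.mk' U) ≠ ⊥ := by
      intro h
      refine hnot fun c hc => ?_
      have h1 : (c : X ⧸ U) ∈ C.map (QuotientGroup.mk' U) := mem_map_of_mem _ hc
      rw [h, mem_bot] at h1
      exact (QuotientGroup.eq_one_iff c).1 h1
    have hQ := hX.to_quotient U
    haveI := hQ.isNilpotent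
    have hbot := CfsgLib.Coprime.nilpotent_inf_center_ne_bot _ hne
    haveI : Nontrivial ↥(C.map (QuotientGroup.mk' U) ⊓ center (X ⧸ U)) := (nontrivial_iff_ne_bot _).2 hbot
    obtain ⟨w, hw⟩ := exists_prime_orderOf_dvd_card' (G := ↥(C.map (QuotientGroup.mk' U) ⊓ center (X ⧸ U))) 2 (by
      obtain ⟨n, hn⟩ := IsPGroup.iff_card.1 (hQ.to_subgroup (C.map (QuotientGroup.mk' U) ⊓ center (X ⧸ U)))
      have h1 : 1 < Nat.card ↥(C.map (QuotientGroup.mk' U) ⊓ center (X ⧸ U)) := Finite.one_lt_card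
      rw [hn] at h1 ⊢
      exact dvd_pow_self 2 (by rintro rfl; simp at h1))
    obtain ⟨c, hc, hcw⟩ := w.2.1
    have hwE : w.1 ∈ E1 := ⟨w.2.2, by
      have h := congrArg Subtype.val (pow_orderOf_eq_one w)
      rw [hw, pow_two, Subgroup.coe_mul] at h
      exact h⟩
    have hcT : c ∈ T := ⟨hc.1, show (c : X ⧸ U) ∈ E1 by rw [show (c : X ⧸ U) = w.1 from hcw]; exact hwE⟩
    have hw1 : w.1 = 1 := by rw [← hcw]; exact (QuotientGroup.eq_one_iff c).2 (hCT ⟨hc, hcT⟩)
    rw [show w = 1 from Subtype.ext hw1, orderOf_one] at hw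
    omega
  have act : ∀ p ∈ P, ∀ t ∈ T, p * t * p⁻¹ * t⁻¹ ∈ U := fun p _ t ht => ((memT t).1 ht).2.2 p
  intro p hp
  have hpp : p * p ∈ U := by
    refine hCU ⟨P.mul_mem hp hp, mem_centralizer_iff.2 fun t ht => ?_⟩
    set w := p * t * p⁻¹ * t⁻¹ with hw
    have hwU : w ∈ U := act p hp t ht
    clear_value w
    have htP := ((memT t).1 ht).1
    have hpt : p * t * p⁻¹ = w * t := by rw [hw, inv_mul_cancel_right]
    have hpw : p * w * p⁻¹ = w := by rw [hPU p hp w hwU, mul_inv_cancel_right]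
    have h2 : p * p * t * (p * p)⁻¹ = w * w * t := by
      calc p * p * t * (p * p)⁻¹ = p * (p * t * p⁻¹) * p⁻¹ := by group
        _ = p * (w * t) * p⁻¹ := by rw [hpt]
        _ = (p * w * p⁻¹) * (p * t * p⁻¹) := by group
        _ = _ := by rw [hpw, hpt, mul_assoc]
    have hww : w * w = 1 := by
      have htt := ((memT t).1 ht).2.1
      have e1 : p * (t * t) * p⁻¹ = w * w * (t * t) := by
        calc p * (t * t) * p⁻¹ = (p * t * p⁻¹) * (p * t * p⁻¹) := by group
          _ = w * (t * w) * t := by rw [hpt]; group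
          _ = _ := by rw [hPU t htP w hwU]; group
      rw [hPU p hp _ htt, mul_inv_cancel_right] at e1
      exact right_eq_mul.1 e1
    rw [hww, one_mul, mul_inv_eq_iff_eq_mul] at h2
    exact h2.symm
  refine ⟨hpp, fun q hq => ?_⟩
  have comm_eq : ∀ s ∈ T, p * q * s * (p * q)⁻¹ = q * p * s * (q * p)⁻¹ := by
    intro s hs
    set a := p * s * p⁻¹ * s⁻¹ with hadef
    set b := q * s * q⁻¹ * s⁻¹ with hbdef
    have haU : a ∈ U := act p hp s hs
    have hbU : b ∈ U := act q hq s hs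
    have e1 : p * s * p⁻¹ = a * s := by rw [hadef]; group
    have e2 : q * s * q⁻¹ = b * s := by rw [hbdef]; group
    clear_value a b
    calc p * q * s * (p * q)⁻¹ = p * (q * s * q⁻¹) * p⁻¹ := by group
      _ = (p * b) * (s * p⁻¹) := by rw [e2]; group
      _ = b * (p * s * p⁻¹) := by rw [hPU p hp b hbU]; group
      _ = a * (q * s * q⁻¹) := by rw [e1, e2, ← mul_assoc, ← mul_assoc, hUab a haU b hbU]
      _ = (q * a) * (s * q⁻¹) := by rw [hPU q hq a haU]; group
      _ = q * (p * s * p⁻¹) * q⁻¹ := by rw [e1]; group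
      _ = _ := by group
  have hc : p * q * p⁻¹ * q⁻¹ ∈ U := by
    refine hCU ⟨P.mul_mem (P.mul_mem (P.mul_mem hp hq) (P.inv_mem hp)) (P.inv_mem hq),
      mem_centralizer_iff.2 fun t ht => ?_⟩
    have h7 := comm_eq _ (hTn.conj_mem t ht (q * p)⁻¹)
    have h5 : (p * q * p⁻¹ * q⁻¹) * t * (p * q * p⁻¹ * q⁻¹)⁻¹ = t := by
      calc _ = p * q * ((q * p)⁻¹ * t * (q * p)⁻¹⁻¹) * (p * q)⁻¹ := by group
        _ = _ := by rw [h7]; group
    exact (mul_inv_eq_iff_eq_mul.1 h5).symm
  refine ⟨hc, ?_⟩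
  have hqq : q * q ∈ U := by
    refine hCU ⟨P.mul_mem hq hq, mem_centralizer_iff.2 fun t ht => ?_⟩
    set w := q * t * q⁻¹ * t⁻¹ with hw
    have hwU : w ∈ U := act q hq t ht
    clear_value w
    have htP := ((memT t).1 ht).1
    have htt := ((memT t).1 ht).2.1
    have hqt : q * t * q⁻¹ = w * t := by rw [hw, inv_mul_cancel_right]
    have e1 : q * (t * t) * q⁻¹ = w * w * (t * t) := by
      calc q * (t * t) * q⁻¹ = (q * t * q⁻¹) * (q * t * q⁻¹) := by group
        _ = w * (t * w) * t := by rw [hqt]; group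
        _ = _ := by rw [hPU t htP w hwU]; group
    rw [hPU q hq _ htt, mul_inv_cancel_right] at e1
    have h2 : q * q * t * (q * q)⁻¹ = w * w * t := by
      calc q * q * t * (q * q)⁻¹ = q * (q * t * q⁻¹) * q⁻¹ := by group
        _ = (q * w) * (t * q⁻¹) := by rw [hqt]; group
        _ = w * (q * t * q⁻¹) := by rw [hPU q hq w hwU]; group
        _ = _ := by rw [hqt, mul_assoc]
    rw [right_eq_mul.1 e1, one_mul, mul_inv_eq_iff_eq_mul] at h2
    exact h2.symm
  set c := p * q * p⁻¹ * q⁻¹ with hcdef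
  have hpq' : p * q * p⁻¹ = c * q := by rw [hcdef, inv_mul_cancel_right]
  clear_value c
  have e2 : p * (q * q) * p⁻¹ = c * c * (q * q) := by
    calc p * (q * q) * p⁻¹ = (p * q * p⁻¹) * (p * q * p⁻¹) := by group
      _ = c * (q * c) * q := by rw [hpq']; group
      _ = _ := by rw [hPU q hq c hc]; group
  rw [hPU p hp _ hqq, mul_inv_cancel_right] at e2
  exact right_eq_mul.1 e2

end CfsgLib.CFun.NoEight
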