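import Cfsg.Agent.Lib.CFun.NoEightBasic
import Cfsg.Agent.Lib.PGroup.TransInvol.Quadratic
import Cfsg.Agent.Lib.Coprime.UniqueOrderP
import Cfsg.Agent.S3763
import Mathlib

/-!
# The three groups

The last step of the classification of 2-groups without normal elementary abelian subgroups of
order 8 with a fixed-point-free group of odd order automorphisms.
-/

set_option autoImplicit false

open Subgroup
open scoped commutatorElement

universe u

namespace CfsgLib.CFun.NoEight

variable {X : Type u} [Group X] [Finite X]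

theorem comm_formula (x y : X) : x * y * x⁻¹ * y⁻¹ = x * x * (x⁻¹ * y * (x⁻¹ * y)) * (y⁻¹ * y⁻¹) := by group

theorem commutator_le_of_sq {W : Subgroup X} (hsq : ∀ x : X, x * x ∈ W) : commutator X ≤ W := by
  rw [_root_.commutator_def, commutator_le]
  intro a _ b _
  rw [commutatorElement_def, comm_formula]
  exact W.mul_mem (W.mul_mem (hsq a) (hsq _)) (hsq _)

/-- The order bound from anisotropy of the squaring map. -/
theorem card_le_of_anisotropic {W : Subgroup X} (hWc : W ≤ center X) (hW4 : Nat.card W = 4)
    (hW2 : ∀ w ∈ W, w * w = 1) (hsq : ∀ x : X, x * x ∈ W) (hinv : ∀ x : X, x * x = 1 → x ∈ W) :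
    Nat.card X ≤ 64 := by
  classical
  haveI : W.Normal := ⟨fun w hw g => by rw [mem_center_iff.1 (hWc hw) g, mul_inv_cancel_right]; exact hw⟩
  have hcomm := commutator_le_of_sq hsq
  haveI : IsMulCommutative (X ⧸ W) := ⟨⟨fun a b => by
    obtain ⟨a, rfl⟩ := QuotientGroup.mk_surjective a
    obtain ⟨b, rfl⟩ := QuotientGroup.mk_surjective b
    rw [← QuotientGroup.mk_mul, ← QuotientGroup.mk_mul, QuotientGroup.eq]
    rw [show (a * b)⁻¹ * (b * a) = b⁻¹ * a⁻¹ * b⁻¹⁻¹ * a⁻¹⁻¹ by group]
    exact hcomm (mem_commutator_of _ _)⟩⟩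
  haveI : IsMulCommutative W := ⟨⟨fun a b => Subtype.ext ((mem_center_iff.1 (hWc b.2) a.1))⟩⟩
  letI : CommGroup (X ⧸ W) := { mul_comm := fun a b => mul_comm' a b }
  letI : CommGroup W := { mul_comm := fun a b => mul_comm' a b }
  letI : Module (ZMod 2) (Additive (X ⧸ W)) := AddCommGroup.zmodModule (fun v => by
    obtain ⟨a, rfl⟩ : ∃ a, Additive.ofMul a = v := ⟨Additive.toMul v, rfl⟩
    obtain ⟨x, rfl⟩ := QuotientGroup.mk_surjective a
    rw [← ofMul_pow, ← QuotientGroup.mk_pow, (QuotientGroup.eq_one_iff _).2 (pow_two x ▸ hsq x), ofMul_one])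
  letI : Module (ZMod 2) (Additive W) := AddCommGroup.zmodModule (fun v => by
    obtain ⟨a, rfl⟩ : ∃ a, Additive.ofMul a = v := ⟨Additive.toMul v, rfl⟩
    rw [← ofMul_pow, show a ^ 2 = 1 from Subtype.ext (by rw [pow_two]; exact hW2 a a.2), ofMul_one])
  have cen : ∀ w ∈ W, ∀ g : X, g * w = w * g := fun w hw g => mem_center_iff.1 (hWc hw) g
  -- squaring
  let q : X ⧸ W → W := Quotient.lift (fun x => (⟨x * x, hsq x⟩ : W)) fun a b hab => Subtype.ext (by
    have hm : a⁻¹ * b ∈ W := QuotientGroup.leftRel_apply.1 hab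
    set w := a⁻¹ * b with hw
    have hb : b = a * w := by rw [hw, mul_inv_cancel_left]
    show a * a = b * b
    rw [hb]
    calc a * a = a * a * (w * w) := by rw [hW2 w hm, mul_one]
      _ = a * (a * w) * w := by group
      _ = a * (w * a) * w := by rw [cen w hm a]
      _ = _ := by group)
  have hqmk : ∀ x : X, ((q (x : X ⧸ W) : W) : X) = x * x := fun x => rfl
  -- commutation
  let bet : X → X → W := fun x y => ⟨y * x * y⁻¹ * x⁻¹, hcomm (mem_commutator_of y x)⟩
  have bmul_r : ∀ x y z : X, bet x (y * z) = bet x y * bet x z := fun x y z => Subtype.ext (by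
    show y * z * x * (y * z)⁻¹ * x⁻¹ = y * x * y⁻¹ * x⁻¹ * (z * x * z⁻¹ * x⁻¹)
    have hc : z * x * z⁻¹ * x⁻¹ ∈ W := hcomm (mem_commutator_of z x)
    calc y * z * x * (y * z)⁻¹ * x⁻¹ = (y * (z * x * z⁻¹ * x⁻¹)) * (x * y⁻¹ * x⁻¹) := by group
      _ = (z * x * z⁻¹ * x⁻¹) * (y * x * y⁻¹ * x⁻¹) := by rw [cen _ hc y]; group
      _ = _ := (cen _ hc _).symm)
  have bmul_l : ∀ x y z : X, bet (x * y) z = bet x z * bet y z := fun x y z => Subtype.ext (by
    show z * (x * y) * z⁻¹ * (x * y)⁻¹ = z * x * z⁻¹ * x⁻¹ * (z * y * z⁻¹ * y⁻¹)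
    have hc : z * y * z⁻¹ * y⁻¹ ∈ W := hcomm (mem_commutator_of z y)
    calc z * (x * y) * z⁻¹ * (x * y)⁻¹ = z * x * z⁻¹ * ((z * y * z⁻¹ * y⁻¹) * x⁻¹) := by group
      _ = z * x * z⁻¹ * (x⁻¹ * (z * y * z⁻¹ * y⁻¹)) := by rw [cen _ hc x⁻¹]
      _ = _ := by group)
  have b_one_r : ∀ x, ∀ w ∈ W, bet x w = 1 := fun x w hw => Subtype.ext (by
    show w * x * w⁻¹ * x⁻¹ = 1
    rw [← cen w hw x]; group)
  have b_one_l : ∀ x, ∀ w ∈ W, bet w x = 1 := fun x w hw => Subtype.ext (by
    show x * w * x⁻¹ * w⁻¹ = 1
    rw [cen w hw x]; group)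
  let bq : X ⧸ W → X ⧸ W → W := Quotient.lift₂ bet fun a b a' b' ha hb => by
    have hma : a⁻¹ * a' ∈ W := QuotientGroup.leftRel_apply.1 ha
    have hmb : b⁻¹ * b' ∈ W := QuotientGroup.leftRel_apply.1 hb
    rw [show a' = a * (a⁻¹ * a') by group, show b' = b * (b⁻¹ * b') by group, bmul_l, bmul_r,
      b_one_r a _ hmb, b_one_l _ _ hma, mul_one, mul_one]
  have bq_r : ∀ x y z, bq x (y * z) = bq x y * bq x z := by
    intro x y z
    obtain ⟨x, rfl⟩ := QuotientGroup.mk_surjective x
    obtain ⟨y, rfl⟩ := QuotientGroup.mk_surjective y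
    obtain ⟨z, rfl⟩ := QuotientGroup.mk_surjective z
    exact bmul_r x y z
  have bq_l : ∀ x y z, bq (x * y) z = bq x z * bq y z := by
    intro x y z
    obtain ⟨x, rfl⟩ := QuotientGroup.mk_surjective x
    obtain ⟨y, rfl⟩ := QuotientGroup.mk_surjective y
    obtain ⟨z, rfl⟩ := QuotientGroup.mk_surjective z
    exact bmul_l x y z
  have hquad : ∀ x y, q (x * y) = q x * q y * bq x y := by
    intro x y
    obtain ⟨x, rfl⟩ := QuotientGroup.mk_surjective x
    obtain ⟨y, rfl⟩ := QuotientGroup.mk_surjective y
    refine Subtype.ext ?_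
    show x * y * (x * y) = x * x * (y * y) * (y * x * y⁻¹ * x⁻¹)
    have hc : y * x * y⁻¹ * x⁻¹ ∈ W := hcomm (mem_commutator_of y x)
    calc x * y * (x * y) = (x * (y * x * y⁻¹ * x⁻¹)) * (x * (y * y)) := by group
      _ = (y * x * y⁻¹ * x⁻¹) * (x * x * (y * y)) := by rw [cen _ hc x]; group
      _ = _ := (cen _ hc _).symm
  let β : Additive (X ⧸ W) →+ Additive (X ⧸ W) →+ Additive W :=
    AddMonoidHom.mk' (fun v => AddMonoidHom.mk' (fun v' => Additive.ofMul (bq v.toMul v'.toMul))
      fun a b => by rw [toMul_add, bq_r, ofMul_mul]) fun a b => by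
        refine AddMonoidHom.ext fun v' => ?_
        show Additive.ofMul (bq (a + b).toMul v'.toMul) = _
        rw [toMul_add, bq_l, ofMul_mul]
        rfl
  let βl : Additive (X ⧸ W) →ₗ[ZMod 2] Additive (X ⧸ W) →ₗ[ZMod 2] Additive W :=
    (AddMonoidHom.mk' (fun v => (β v).toZModLinearMap 2) fun a b => by
      refine LinearMap.ext fun v' => ?_
      show β (a + b) v' = β a v' + β b v'
      rw [map_add]; rfl).toZModLinearMap 2
  have hmain := CfsgLib.TransInvol.finrank_le_of_anisotropic (fun v => Additive.ofMul (q v.toMul)) βl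
    (fun v w => by
      show Additive.ofMul (q (v + w).toMul) = _
      rw [toMul_add, hquad, ofMul_mul, ofMul_mul]; rfl)
    (fun v hv => by
      obtain ⟨a, rfl⟩ : ∃ a, Additive.ofMul a = v := ⟨Additive.toMul v, rfl⟩
      obtain ⟨x, rfl⟩ := QuotientGroup.mk_surjective a
      have h1 : q (x : X ⧸ W) = 1 := hv
      have h2 : x * x = 1 := by rw [← hqmk, h1]; rfl
      show Additive.ofMul ((x : X ⧸ W)) = 0
      rw [(QuotientGroup.eq_one_iff x).2 (hinv x h2), ofMul_one])
  have hv := Module.natCard_eq_pow_finrank (K := ZMod 2) (V := Additive (X ⧸ W))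
  have hw := Module.natCard_eq_pow_finrank (K := ZMod 2) (V := Additive W)
  rw [Nat.card_zmod, Nat.card_congr Additive.toMul] at hv hw
  rw [hW4] at hw
  have hw2 : Module.finrank (ZMod 2) (Additive W) = 2 :=
    (Nat.pow_right_injective le_rfl (show 2 ^ 2 = 2 ^ _ from hw)).symm
  rw [hw2] at hmain
  rw [Subgroup.card_eq_card_quotient_mul_card_subgroup W, hW4, hv]
  calc 2 ^ Module.finrank (ZMod 2) (Additive (X ⧸ W)) * 4 ≤ 2 ^ 4 * 4 :=
        Nat.mul_le_mul_right 4 (Nat.pow_le_pow_right two_pos hmain)
    _ = 64 := by norm_num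

theorem special_of_data (hX : IsPGroup 2 X) {W : Subgroup X} (hW2 : ∀ w ∈ W, w * w = 1)
    (hsq : ∀ x : X, x * x ∈ W) (hWX : W ≤ commutator X) (hcen : center X = W) : Cfsg.IsSpecial 2 X := by
  haveI : Fact (Nat.Prime 2) := ⟨Nat.prime_two⟩
  have hc : commutator X = center X := by rw [hcen]; exact le_antisymm (commutator_le_of_sq hsq) hWX
  refine ⟨hX, le_antisymm ?_ ?_, hc⟩
  · refine CfsgLib.FrattiniLe.frattini_le_of_pow_of_commutator (p := 2) (fun x => ?_) hc.le
    rw [hcen, pow_two]; exact hsq x
  · rw [← hc]; exact CfsgLib.Coprime.commutator_le_frattini hX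

/-- The case of a central four-group. -/
theorem final_four (hX : IsPGroup 2 X) {A : Subgroup (MulAut X)} (hA : Odd (Nat.card A)) (hXA : GenByTwist A)
    (hna : ¬ IsMulCommutative X) {W : Subgroup X} (hW4 : Nat.card W = 4) (hW2 : ∀ w ∈ W, w * w = 1)
    (hsq : ∀ x : X, x * x ∈ W) (hinv : ∀ x : X, x * x = 1 → x ∈ W) (hWX : W ≤ commutator X)
    (hcen : center X = W)
    (hdich : (∀ φ ∈ A, ∀ w ∈ W, φ w = w) ∨ ∃ φ ∈ A, ∀ w ∈ W, w ≠ 1 → φ w ≠ w) :
    Cfsg.IsSpecial 2 X ∧ Nat.card X = 64 ∧ Nat.card {x : X // orderOf x = 2} = 3 ∧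
      ∀ x : X, orderOf x = 2 → x ∈ center X := by
  classical
  haveI : Fact (Nat.Prime 2) := ⟨Nat.prime_two⟩
  have hWc : W ≤ center X := hcen.ge
  haveI hWn : W.Normal := by rw [← hcen]; infer_instance
  have hcomm := commutator_le_of_sq hsq
  have cen : ∀ w ∈ W, ∀ g : X, g * w = w * g := fun w hw g => mem_center_iff.1 (hWc hw) g
  have hiff : ∀ x : X, orderOf x = 2 ↔ x ∈ W ∧ x ≠ 1 := fun x => by
    constructor
    · intro h
      have h1 := pow_orderOf_eq_one x
      rw [h, pow_two] at h1
      exact ⟨hinv x h1, fun e => by rw [e, orderOf_one] at h; omega⟩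
    · exact fun h => orderOf_eq_prime (by rw [pow_two]; exact hW2 x h.1) h.2
  refine ⟨special_of_data hX hW2 hsq hWX hcen, ?_, ?_, fun x hx => hWc ((hiff x).1 hx).1⟩
  swap
  · letI := Fintype.ofFinite W
    rw [Nat.card_congr (show {x : X // orderOf x = 2} ≃ {w : W // w ≠ 1} from
      ⟨fun x => ⟨⟨x.1, ((hiff x.1).1 x.2).1⟩, fun e => ((hiff x.1).1 x.2).2 (congrArg Subtype.val e)⟩,
        fun w => ⟨w.1.1, (hiff _).2 ⟨w.1.2, fun e => w.2 (Subtype.ext e)⟩⟩, fun x => rfl, fun w => rfl⟩),
      Nat.card_eq_fintype_card, Fintype.card_subtype_compl, Fintype.card_subtype_eq,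
      ← Nat.card_eq_fintype_card, hW4]
  -- the order
  obtain ⟨n, hn⟩ := IsPGroup.iff_card.1 hX
  have hle := card_le_of_anisotropic hWc hW4 hW2 hsq hinv
  have hq : Nat.card X = Nat.card (X ⧸ W) * 4 := by
    rw [Subgroup.card_eq_card_quotient_mul_card_subgroup W, hW4]
  obtain ⟨d, hd⟩ := IsPGroup.iff_card.1 (hX.to_quotient W)
  have hd4 : d ≤ 4 := by
    rw [hq, hd] at hle
    exact (Nat.pow_le_pow_iff_right (a := 2) one_lt_two).1 (by omega)
  -- a cyclic quotient is impossible
  have hnoncyc : ¬ ∃ x : X, ∀ y : X, y ∈ W ∨ x⁻¹ * y ∈ W := by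
    rintro ⟨x, hx⟩
    refine hna ⟨⟨fun a b => ?_⟩⟩
    have key : ∀ a : X, ∃ w ∈ W, a = w ∨ a = x * w := fun a => by
      rcases hx a with h | h
      · exact ⟨a, h, Or.inl rfl⟩
      · exact ⟨x⁻¹ * a, h, Or.inr (by rw [mul_inv_cancel_left])⟩
    obtain ⟨w, hw, ha | ha⟩ := key a <;> obtain ⟨w', hw', hb | hb⟩ := key b <;> rw [ha, hb]
    · exact cen w' hw' w
    · exact (cen w hw (x * w')).symm
    · exact cen w' hw' (x * w)
    · calc x * w * (x * w') = x * (w * x) * w' := by group
        _ = x * (x * w) * w' := by rw [cen w hw x]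
        _ = x * x * (w * w') := by group
        _ = x * x * (w' * w) := by rw [cen w' hw' w]
        _ = x * (x * w') * w := by group
        _ = x * (w' * x) * w := by rw [cen w' hw' x]
        _ = _ := by group
  -- kernels of bracketing with an element, modulo a subgroup of the centre
  have cmul : ∀ M : Subgroup X, ∀ a b c : X, a * c * a⁻¹ * c⁻¹ ∈ M → b * c * b⁻¹ * c⁻¹ ∈ M →
      (a * b) * c * (a * b)⁻¹ * c⁻¹ ∈ M := by
    intro M a b c ha hb
    have hbW : b * c * b⁻¹ * c⁻¹ ∈ W := hcomm (mem_commutator_of b c)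
    have e : (a * b) * c * (a * b)⁻¹ * c⁻¹ = (b * c * b⁻¹ * c⁻¹) * (a * c * a⁻¹ * c⁻¹) := by
      calc (a * b) * c * (a * b)⁻¹ * c⁻¹ = (a * (b * c * b⁻¹ * c⁻¹)) * (c * a⁻¹ * c⁻¹) := by group
        _ = _ := by rw [cen _ hbW a]; group
    rw [e]; exact M.mul_mem hb ha
  have cinv : ∀ M : Subgroup X, ∀ a c : X, a * c * a⁻¹ * c⁻¹ ∈ M → a⁻¹ * c * a⁻¹⁻¹ * c⁻¹ ∈ M := by
    intro M a c ha
    have hW' : a * c * a⁻¹ * c⁻¹ ∈ W := hcomm (mem_commutator_of a c)
    have e : a⁻¹ * c * a⁻¹⁻¹ * c⁻¹ = (a * c * a⁻¹ * c⁻¹)⁻¹ := by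
      calc a⁻¹ * c * a⁻¹⁻¹ * c⁻¹ = a⁻¹ * (a * c * a⁻¹ * c⁻¹)⁻¹ * a := by group
        _ = _ := by rw [cen _ (W.inv_mem hW') a⁻¹, inv_mul_cancel_right]
    rw [e]; exact M.inv_mem ha
  have csymm : ∀ M : Subgroup X, ∀ a c : X, a * c * a⁻¹ * c⁻¹ ∈ M → c * a * c⁻¹ * a⁻¹ ∈ M := by
    intro M a c ha
    rw [show c * a * c⁻¹ * a⁻¹ = (a * c * a⁻¹ * c⁻¹)⁻¹ by group]; exact M.inv_mem ha
  let ker : Subgroup X → X → Subgroup X := fun M c =>
    { carrier := {a | a * c * a⁻¹ * c⁻¹ ∈ M}
      one_mem' := by simp [M.one_mem]
      mul_mem' := fun {a b} ha hb => cmul M a b c ha hb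
      inv_mem' := fun {a} ha => cinv M a c ha }
  have Wker : ∀ M c, W ≤ ker M c := fun M c w hw => by
    show w * c * w⁻¹ * c⁻¹ ∈ M
    rw [← cen w hw c, mul_inv_cancel_right, mul_inv_cancel]; exact M.one_mem
  -- small quotient: a single commutator
  have hd3 : 3 ≤ d := by
    by_contra h
    interval_cases d
    · refine hnoncyc ⟨1, fun y => Or.inl ?_⟩
      haveI : Subsingleton (X ⧸ W) := (Nat.card_eq_one_iff_unique.1 (by rw [hd, pow_zero])).1
      exact (QuotientGroup.eq_one_iff y).1 (Subsingleton.elim _ _)
    · haveI : IsCyclic (X ⧸ W) := isCyclic_of_prime_card (p := 2) (by rw [hd, pow_one])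
      obtain ⟨g, hg⟩ := IsCyclic.exists_generator (α := X ⧸ W)
      obtain ⟨x, rfl⟩ := QuotientGroup.mk_surjective g
      refine hnoncyc ⟨x, fun y => ?_⟩
      obtain ⟨i, hi⟩ := mem_zpowers_iff.1 (hg y)
      have h2 : (x : X ⧸ W) ^ 2 = 1 := by rw [← QuotientGroup.mk_pow, QuotientGroup.eq_one_iff, pow_two]; exact hsq x
      obtain ⟨j, rfl⟩ | ⟨j, rfl⟩ := Int.even_or_odd i
      · left
        rw [← QuotientGroup.eq_one_iff, ← hi, ← two_mul, zpow_mul]
        norm_cast; rw [h2, one_zpow]
      · right
        rw [← QuotientGroup.eq_one_iff, QuotientGroup.mk_mul, ← hi, QuotientGroup.mk_inv, zpow_add, zpow_mul]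
        norm_cast; rw [h2, one_zpow, one_mul, pow_one, inv_mul_cancel]
    · -- two generators give a single commutator
      obtain ⟨a, ha⟩ : ∃ a : X, a ∉ W := by
        by_contra hc; push Not at hc; exact hnoncyc ⟨1, fun y => Or.inl (hc y)⟩
      obtain ⟨b, hb, hab⟩ : ∃ b : X, b ∉ W ∧ a⁻¹ * b ∉ W := by
        by_contra hc; push Not at hc
        exact hnoncyc ⟨a, fun y => or_iff_not_imp_left.2 (hc y)⟩
      set c := a * b * a⁻¹ * b⁻¹
      have hcW : c ∈ W := hcomm (mem_commutator_of a b)
      have gen : ∀ K : Subgroup X, W ≤ K → a ∈ K → b ∈ K → K = ⊤ := by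
        intro K hWK haK hbK
        haveI : Fact (Nat.Prime 2) := ⟨Nat.prime_two⟩
        refine eq_top_iff.2 fun y _ => ?_
        have hfin : ({1, (a : X ⧸ W), (b : X ⧸ W), (a : X ⧸ W) * b} : Finset (X ⧸ W)).card = 4 := by
          have h1 : (a : X ⧸ W) ≠ 1 := fun e => ha ((QuotientGroup.eq_one_iff a).1 e)
          have h2 : (b : X ⧸ W) ≠ 1 := fun e => hb ((QuotientGroup.eq_one_iff b).1 e)
          have h3 : (a : X ⧸ W) ≠ b := fun e => hab (QuotientGroup.eq.1 e)
          have h4 : (a : X ⧸ W) * b ≠ 1 := by
            intro e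
            refine h3 ?_
            have h5 : (a : X ⧸ W) * a = 1 := by rw [← QuotientGroup.mk_mul, QuotientGroup.eq_one_iff]; exact hsq a
            exact mul_left_cancel (h5.trans e.symm)
          rw [Finset.card_insert_of_notMem, Finset.card_insert_of_notMem, Finset.card_pair]
          · intro e; exact h1 (mul_eq_right.1 e.symm)
          · simp only [Finset.mem_insert, Finset.mem_singleton, not_or]
            exact ⟨h3, fun e => h2 (mul_eq_left.1 e.symm)⟩
          · simp only [Finset.mem_insert, Finset.mem_singleton, not_or]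
            exact ⟨h1.symm, h2.symm, h4.symm⟩
        letI := Fintype.ofFinite (X ⧸ W)
        have huniv := Finset.eq_univ_of_card _ (hfin.trans (show 4 = Fintype.card (X ⧸ W) by
          rw [← Nat.card_eq_fintype_card, hd]; norm_num))
        have hy := huniv.ge (Finset.mem_univ (y : X ⧸ W))
        have fin : ∀ z ∈ K, (z : X ⧸ W) = y → y ∈ K := fun z hz e => by
          rw [show y = z * (z⁻¹ * y) by group]; exact K.mul_mem hz (hWK (QuotientGroup.eq.1 e))
        simp only [Finset.mem_insert, Finset.mem_singleton] at hy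
        rcases hy with h | h | h | h
        · exact fin 1 K.one_mem h.symm
        · exact fin a haK h.symm
        · exact fin b hbK h.symm
        · exact fin (a * b) (K.mul_mem haK hbK) (h.trans (QuotientGroup.mk_mul W a b).symm).symm
      set M := zpowers c with hMdef
      have haM : ker M a = ⊤ := gen _ (Wker M a) (by show a * a * a⁻¹ * a⁻¹ ∈ M; simp [M.one_mem])
        (csymm M a b (mem_zpowers c))
      have hbM : ker M b = ⊤ := gen _ (Wker M b) (mem_zpowers c) (by show b * b * b⁻¹ * b⁻¹ ∈ M; simp [M.one_mem])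
      have hall : ∀ y, ker M y = ⊤ := fun y => gen _ (Wker M y)
        (csymm M y a (haM.ge (mem_top y))) (csymm M y b (hbM.ge (mem_top y)))
      have hle : commutator X ≤ M := by
        rw [_root_.commutator_def, commutator_le]
        exact fun s _ t _ => by rw [commutatorElement_def]; exact (hall t).ge (mem_top s)
      have h1 := Subgroup.card_le_of_le (hWX.trans hle)
      rw [hMdef, hW4, Nat.card_zpowers] at h1
      have h2 : orderOf c ≤ 2 := Nat.le_of_dvd two_pos (orderOf_dvd_of_pow_eq_one (by rw [pow_two]; exact hW2 c hcW))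
      omega
  rw [hq, hd]
  rcases (show d = 3 ∨ d = 4 by omega) with rfl | rfl
  swap
  · norm_num
  exfalso
  rw [hd] at hq
  norm_num at hq
  rcases hdich with hfix | ⟨φ, -, hφ⟩
  swap
  · -- counting the fibres of squaring
    obtain ⟨w₁, hw₁, hw₁1⟩ : ∃ w ∈ W, w ≠ 1 := by
      by_contra hc; push Not at hc
      rw [(Subgroup.eq_bot_iff_forall W).2 hc, Subgroup.card_bot] at hW4
      omega
    letI := Fintype.ofFinite X
    let S : X → Finset X := fun w => Finset.univ.filter fun x => x * x = w
    have hmap : ∀ w : X, (S (φ w)).card = (S w).card := by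
      intro w
      refine (Finset.card_bij (fun x _ => φ x) (fun x hx => ?_) (fun x _ y _ h => φ.injective h) fun y hy => ?_).symm
      · simp only [S, Finset.mem_filter, Finset.mem_univ, true_and] at hx ⊢
        rw [← map_mul, hx]
      · simp only [S, Finset.mem_filter, Finset.mem_univ, true_and] at hy
        refine ⟨φ.symm y, ?_, φ.apply_symm_apply y⟩
        simp only [S, Finset.mem_filter, Finset.mem_univ, true_and]
        rw [← map_mul, hy, φ.symm_apply_apply]
    have hWinv : ∀ w ∈ W, φ w ∈ W := by
      intro w hw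
      rw [← hcen] at hw ⊢
      exact center_inv (⊤ : Subgroup (MulAut X)) φ (mem_top φ) w hw
    letI := Fintype.ofFinite W
    have hW3 : (Finset.univ.filter fun x : X => x ∈ W ∧ x ≠ 1) = {w₁, φ w₁, φ (φ w₁)} := by
      refine (Finset.eq_of_subset_of_card_le (fun x hx => ?_) ?_).symm
      · simp only [Finset.mem_insert, Finset.mem_singleton] at hx
        simp only [Finset.mem_filter, Finset.mem_univ, true_and]
        rcases hx with rfl | rfl | rfl
        · exact ⟨hw₁, hw₁1⟩
        · exact ⟨hWinv _ hw₁, fun e => hw₁1 (φ.injective (e.trans (map_one φ).symm))⟩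
        · exact ⟨hWinv _ (hWinv _ hw₁), fun e => hw₁1 (φ.injective (φ.injective (e.trans (by rw [map_one, map_one]))))⟩
      · have hne1 : φ w₁ ≠ w₁ := hφ w₁ hw₁ hw₁1
        have hne2 : φ (φ w₁) ≠ φ w₁ := fun e => hne1 (φ.injective e)
        have hne3 : φ (φ w₁) ≠ w₁ := by
          intro e
          have h0 : φ (w₁ * φ w₁) = w₁ * φ w₁ := by
            rw [map_mul, e]
            exact (cen _ hw₁ (φ w₁))
          refine hφ _ (W.mul_mem hw₁ (hWinv _ hw₁)) (fun e' => hne1 ?_) h0
          rw [eq_inv_of_mul_eq_one_right e', inv_eq_of_mul_eq_one_right (hW2 w₁ hw₁)]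
        rw [Finset.card_insert_of_notMem (by simp [hne1.symm, hne3.symm]), Finset.card_pair hne2.symm]
        have hcard : (Finset.univ.filter fun x : X => x ∈ W ∧ x ≠ 1).card + 1 = 4 := by
          rw [← hW4, Nat.card_eq_fintype_card, Fintype.card_subtype,
            ← Finset.card_insert_of_notMem (a := (1 : X)) (by simp)]
          congr 1
          ext x
          by_cases hx : x = 1 <;> simp [hx, W.one_mem]
        omega
    have hsum : (Finset.univ.filter fun x : X => x ∉ W).card =
        ∑ w ∈ ({w₁, φ w₁, φ (φ w₁)} : Finset X), (S w).card := by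
      rw [← hW3, Finset.card_eq_sum_card_fiberwise (f := fun x => x * x)
        (t := Finset.univ.filter fun x : X => x ∈ W ∧ x ≠ 1)]
      · refine Finset.sum_congr rfl fun w hw => ?_
        simp only [Finset.mem_filter, Finset.mem_univ, true_and] at hw
        congr 1
        ext x
        simp only [S, Finset.mem_filter, Finset.mem_univ, true_and]
        exact ⟨fun h => h.2, fun h => ⟨fun hxW => hw.2 (h ▸ hW2 x hxW), h⟩⟩
      · intro x hx
        simp only [Finset.coe_filter, Finset.mem_univ, true_and, Set.mem_setOf_eq] at hx ⊢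
        exact ⟨hsq x, fun e => hx (hinv x e)⟩
    have hnot : (Finset.univ.filter fun x : X => x ∉ W).card = 28 := by
      rw [Finset.filter_not, Finset.card_sdiff_of_subset (Finset.filter_subset _ _), Finset.card_univ,
        ← Nat.card_eq_fintype_card, hq, ← Fintype.card_subtype, ← Nat.card_eq_fintype_card]
      exact congrArg (32 - ·) hW4
    have hne1 : φ w₁ ≠ w₁ := hφ w₁ hw₁ hw₁1
    have hne2 : φ (φ w₁) ≠ φ w₁ := fun e => hne1 (φ.injective e)
    by_cases hne3 : φ (φ w₁) = w₁
    · have h0 : φ (w₁ * φ w₁) = w₁ * φ w₁ := by rw [map_mul, hne3]; exact cen _ hw₁ (φ w₁)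
      refine hφ _ (W.mul_mem hw₁ (hWinv _ hw₁)) (fun e' => hne1 ?_) h0
      rw [eq_inv_of_mul_eq_one_right e', inv_eq_of_mul_eq_one_right (hW2 w₁ hw₁)]
    rw [hnot, Finset.sum_insert (by simp [hne1.symm, Ne.symm hne3]), Finset.sum_pair hne2.symm, hmap, hmap,
      hmap] at hsum
    omega
  · -- fixed centre: radicals modulo lines
    obtain ⟨w₁, hw₁, hw₁1⟩ : ∃ w ∈ W, w ≠ 1 := by
      by_contra hc; push Not at hc
      rw [(Subgroup.eq_bot_iff_forall W).2 hc, Subgroup.card_bot] at hW4
      omega
    set M := zpowers w₁ with hMdef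
    have hMW : M ≤ W := zpowers_le.2 hw₁
    have hMfix : ∀ ψ ∈ A, ∀ s ∈ M, ψ s = s := fun ψ hψ s hs => hfix ψ hψ s (hMW hs)
    let R : Subgroup X := ⨅ y : X, ker M y
    have memR : ∀ r, r ∈ R ↔ ∀ y, r * y * r⁻¹ * y⁻¹ ∈ M := fun r => Subgroup.mem_iInf
    have hWR : W ≤ R := le_iInf fun y => Wker M y
    have hRinv : Inv A R := by
      intro ψ hψ r hr
      refine (memR _).2 fun y => ?_
      obtain ⟨y, rfl⟩ := ψ.surjective y
      have h := (memR r).1 hr y
      rw [← map_inv, ← map_inv, ← map_mul, ← map_mul, ← map_mul, hMfix ψ hψ _ h]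
      exact h
    have hRtop : R ≠ ⊤ := by
      intro e
      have hle : commutator X ≤ M := by
        rw [_root_.commutator_def, commutator_le]
        exact fun s _ t _ => by rw [commutatorElement_def]; exact (memR s).1 (e ▸ mem_top s) t
      have h1 := Subgroup.card_le_of_le (hWX.trans hle)
      rw [hMdef, hW4, Nat.card_zpowers] at h1
      have h2 : orderOf w₁ ≤ 2 :=
        Nat.le_of_dvd two_pos (orderOf_dvd_of_pow_eq_one (by rw [pow_two]; exact hW2 w₁ hw₁))
      omega
    obtain ⟨k, hk, hRk⟩ : ∃ k ≤ 3, Nat.card R = 4 * 2 ^ k := by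
      obtain ⟨j, hj⟩ := IsPGroup.iff_card.1 (hX.to_subgroup R)
      have h1 := Subgroup.card_dvd_of_le hWR
      have h2 := R.card_subgroup_dvd_card
      rw [hW4, hj, show (4 : ℕ) = 2 ^ 2 from rfl, Nat.pow_dvd_pow_iff_le_right (by norm_num)] at h1
      rw [hq, hj, show (32 : ℕ) = 2 ^ 5 from rfl, Nat.pow_dvd_pow_iff_le_right (by norm_num)] at h2
      exact ⟨j - 2, by omega, by rw [hj, show (4 : ℕ) = 2 ^ 2 from rfl, ← pow_add]; congr 1; omega⟩
    interval_cases k
    · -- the form is non-degenerate on a space of odd dimension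
      have hRW : R = W := (Subgroup.eq_of_le_of_card_ge hWR (by rw [hW4, hRk]; norm_num)).symm
      have hidx : ∀ c, c ∉ R → (ker M c).index = 2 := by
        intro c hc
        have hne : ker M c ≠ ⊤ := fun e => hc ((memR c).2 fun y => csymm M y c (e.ge (mem_top y)))
        obtain ⟨a, ha⟩ : ∃ a, a ∉ ker M c := by
          by_contra h; push Not at h; exact hne (eq_top_iff.2 fun y _ => h y)
        refine Subgroup.index_eq_two_iff.2 ⟨a, fun y => ?_⟩
        have hout : ∀ y, y ∉ ker M c → y * a ∈ ker M c := by
          intro y hy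
          have e : (y * a) * c * (y * a)⁻¹ * c⁻¹ = (a * c * a⁻¹ * c⁻¹) * (y * c * y⁻¹ * c⁻¹) := by
            have hbW : a * c * a⁻¹ * c⁻¹ ∈ W := hcomm (mem_commutator_of a c)
            calc (y * a) * c * (y * a)⁻¹ * c⁻¹ = (y * (a * c * a⁻¹ * c⁻¹)) * (c * y⁻¹ * c⁻¹) := by group
              _ = _ := by rw [cen _ hbW y]; group
          show _ ∈ M
          rw [e]
          -- two elements of the four-group outside a line multiply into it
          set s := a * c * a⁻¹ * c⁻¹
          set t := y * c * y⁻¹ * c⁻¹
          have hsW : s ∈ W := hcomm (mem_commutator_of a c)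
          have htW : t ∈ W := hcomm (mem_commutator_of y c)
          have hidx2 : (M.subgroupOf W).index = 2 := by
            have h := Subgroup.card_mul_index (M.subgroupOf W)
            rw [Nat.card_congr (subgroupOfEquivOfLe hMW).toEquiv, hMdef, Nat.card_zpowers, hW4,
              orderOf_eq_prime (by rw [pow_two]; exact hW2 w₁ hw₁) hw₁1] at h
            rw [hMdef]
            omega
          have := (Subgroup.mul_mem_iff_of_index_two hidx2 (a := (⟨s, hsW⟩ : W)) (b := ⟨t, htW⟩)).2
            ⟨fun h' => absurd (mem_subgroupOf.1 h') ha, fun h' => absurd (mem_subgroupOf.1 h') hy⟩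
          exact mem_subgroupOf.1 this
        by_cases hy : y ∈ ker M c
        · exact Or.inr ⟨hy, fun h' => ha (((ker M c).mul_mem_cancel_left hy).1 h')⟩
        · exact Or.inl ⟨hout y hy, hy⟩
      obtain ⟨u, hu⟩ : ∃ u, u ∉ R := by
        by_contra h; push Not at h; exact hRtop (eq_top_iff.2 fun y _ => h y)
      have hDu : Nat.card (ker M u) = 16 := by
        have h := Subgroup.card_mul_index (ker M u)
        rw [hidx u hu, hq] at h
        omega
      have hself : ∀ c, c ∈ ker M c := fun c => by show c * c * c⁻¹ * c⁻¹ ∈ M; simp [M.one_mem]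
      obtain ⟨v, hvD, hvn⟩ : ∃ v ∈ ker M u, v ∉ R ⊔ zpowers u := by
        refine SetLike.exists_of_lt (lt_of_le_of_ne (sup_le ?_ (zpowers_le.2 (hself u))) fun e => ?_)
        · exact hRW ▸ Wker M u
        · have hle8 : Nat.card ↥(R ⊔ zpowers u) ≤ 8 := by
            let T : Subgroup X :=
              { carrier := {h | h ∈ W ∨ h * u ∈ W}
                one_mem' := Or.inl W.one_mem
                mul_mem' := by
                  rintro s t (hs | hs) (ht | ht)
                  · exact Or.inl (W.mul_mem hs ht)
                  · exact Or.inr (by rw [mul_assoc]; exact W.mul_mem hs ht)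
                  · exact Or.inr (by rw [mul_assoc, ← cen t ht u, ← mul_assoc]; exact W.mul_mem hs ht)
                  · left
                    have h2 : u * t = t * u := by
                      calc u * t = u * (t * u) * u⁻¹ := by group
                        _ = t * u * u * u⁻¹ := by rw [cen _ ht u]
                        _ = _ := by group
                    have h1 : s * t = s * u * (t * u) * (u * u)⁻¹ := by
                      calc s * t = s * (t * u) * u⁻¹ := by group
                        _ = s * (u * t) * u⁻¹ := by rw [h2]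
                        _ = _ := by group
                    rw [h1]; exact W.mul_mem (W.mul_mem hs ht) (W.inv_mem (hsq u))
                inv_mem' := by
                  rintro s (hs | hs)
                  · exact Or.inl (W.inv_mem hs)
                  · right
                    have h1 : s⁻¹ * u = u * (s * u)⁻¹ * u := by group
                    rw [h1, cen _ (W.inv_mem hs) u, mul_assoc]
                    exact W.mul_mem (W.inv_mem hs) (hsq u) }
            have hle : R ⊔ zpowers u ≤ T := sup_le (hRW ▸ fun h hh => Or.inl hh) (zpowers_le.2 (Or.inr (hsq u)))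
            refine (Subgroup.card_le_of_le hle).trans ?_
            have hsurj : Function.Surjective (fun p : Bool × W => (⟨if p.1 then (p.2 : X) * u⁻¹ else p.2, by
                obtain ⟨b, k⟩ := p
                cases b
                · exact Or.inl k.2
                · exact Or.inr (by simp)⟩ : T)) := by
              rintro ⟨h, hh | hh⟩
              · exact ⟨(false, ⟨h, hh⟩), rfl⟩
              · exact ⟨(true, ⟨h * u, hh⟩), Subtype.ext (by simp)⟩
            refine (Nat.card_le_card_of_surjective _ hsurj).trans ?_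
            rw [Nat.card_prod, hW4, Nat.card_eq_fintype_card, Fintype.card_bool]
          rw [e] at hle8
          omega
      have hvR : v ∉ R := fun h => hvn (mem_sup_left h)
      have hDv : ker M v = ker M u := by
        have hDvc : Nat.card (ker M v) = 16 := by
          have h := Subgroup.card_mul_index (ker M v)
          rw [hidx v hvR, hq] at h
          omega
        have huv : u ∈ ker M v := csymm M v u hvD
        set N := R ⊔ zpowers u ⊔ zpowers v
        have hN1 : N ≤ ker M u := sup_le (sup_le (hRW ▸ Wker M u) (zpowers_le.2 (hself u))) (zpowers_le.2 hvD)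
        have hN2 : N ≤ ker M v := sup_le (sup_le (hRW ▸ Wker M v) (zpowers_le.2 huv)) (zpowers_le.2 (hself v))
        have hN16 : 16 ≤ Nat.card N := by
          obtain ⟨i, hi⟩ := IsPGroup.iff_card.1 (hX.to_subgroup (R ⊔ zpowers u))
          obtain ⟨j, hj⟩ := IsPGroup.iff_card.1 (hX.to_subgroup N)
          have h4lt : Nat.card R < Nat.card ↥(R ⊔ zpowers u) := by
            by_contra hle
            exact hu ((Subgroup.eq_of_le_of_card_ge le_sup_left (not_lt.1 hle)).ge (mem_sup_right (mem_zpowers u)))
          have h8lt : Nat.card ↥(R ⊔ zpowers u) < Nat.card N := by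
            by_contra hle
            exact hvn ((Subgroup.eq_of_le_of_card_ge le_sup_left (not_lt.1 hle)).ge (mem_sup_right (mem_zpowers v)))
          rw [hRk, hi] at h4lt
          rw [hi, hj] at h8lt
          rw [hj]
          have hi3 : 3 ≤ i := (Nat.pow_lt_pow_iff_right (a := 2) (by norm_num)).1 (lt_of_le_of_lt (by norm_num) h4lt : 2 ^ 2 < 2 ^ i)
          have hji : i < j := (Nat.pow_lt_pow_iff_right (a := 2) (by norm_num)).1 h8lt
          calc (16 : ℕ) = 2 ^ 4 := by norm_num
            _ ≤ 2 ^ j := Nat.pow_le_pow_right two_pos (by omega)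
        rw [← Subgroup.eq_of_le_of_card_ge hN1 (by rw [hDu]; exact hN16),
          ← Subgroup.eq_of_le_of_card_ge hN2 (by rw [hDvc]; exact hN16)]
      have huvR : u * v ∈ R := by
        refine (memR _).2 fun y => ?_
        have hvW : v * y * v⁻¹ * y⁻¹ ∈ W := hcomm (mem_commutator_of v y)
        have huW : u * y * u⁻¹ * y⁻¹ ∈ W := hcomm (mem_commutator_of u y)
        by_cases hy : y ∈ ker M u
        · exact cmul M u v y (csymm M y u hy) (csymm M y v (hDv.ge hy))
        · have e : (u * v) * y * (u * v)⁻¹ * y⁻¹ = (v * y * v⁻¹ * y⁻¹) * (u * y * u⁻¹ * y⁻¹) := by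
            calc (u * v) * y * (u * v)⁻¹ * y⁻¹ = (u * (v * y * v⁻¹ * y⁻¹)) * (y * u⁻¹ * y⁻¹) := by group
              _ = _ := by rw [cen _ hvW u]; group
          rw [e]
          have hidx2 : (M.subgroupOf W).index = 2 := by
            have h := Subgroup.card_mul_index (M.subgroupOf W)
            rw [Nat.card_congr (subgroupOfEquivOfLe hMW).toEquiv, hMdef, Nat.card_zpowers, hW4,
              orderOf_eq_prime (by rw [pow_two]; exact hW2 w₁ hw₁) hw₁1] at h
            rw [hMdef]
            omega
          have := (Subgroup.mul_mem_iff_of_index_two hidx2 (a := (⟨_, hvW⟩ : W)) (b := ⟨_, huW⟩)).2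
            ⟨fun h' => absurd (hDv ▸ (csymm M v y (mem_subgroupOf.1 h') : y ∈ ker M v)) hy,
              fun h' => absurd (csymm M u y (mem_subgroupOf.1 h') : y ∈ ker M u) hy⟩
          exact mem_subgroupOf.1 this
      refine hvn ?_
      rw [show v = u⁻¹ * (u * v) by group]
      exact mul_mem (mem_sup_right (inv_mem (mem_zpowers u))) (mem_sup_left huvR)
    · -- a fixed point
      obtain ⟨r, hr, hrW⟩ : ∃ r ∈ R, r ∉ W := SetLike.exists_of_lt (lt_of_le_of_ne hWR fun e => by
        rw [← e, hW4] at hRk; norm_num at hRk)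
      refine hrW (mem_of_fixed hX hA hXA (fun ψ hψ w hw => (hfix ψ hψ w hw).symm ▸ hw)
        (fun a b => hcomm (mem_commutator_of a b)) fun ψ hψ => ?_)
      have hidxR : (W.subgroupOf R).index = 2 := by
        have h := Subgroup.card_mul_index (W.subgroupOf R)
        rw [Nat.card_congr (subgroupOfEquivOfLe hWR).toEquiv, hW4, hRk] at h
        omega
      have hψr : ψ r ∉ W := fun h => hrW (by
        have h1 := hfix ψ hψ _ h
        rw [← ψ.injective h1]; exact h)
      have := (Subgroup.mul_mem_iff_of_index_two hidxR (a := (⟨ψ r, hRinv ψ hψ r hr⟩ : R)) (b := ⟨r⁻¹, R.inv_mem hr⟩)).2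
        ⟨fun h' => absurd (mem_subgroupOf.1 h') hψr,
          fun h' => absurd (W.inv_mem_iff.1 (mem_subgroupOf.1 h')) hrW⟩
      exact mem_subgroupOf.1 this
    · -- index two: all commutators in the line
      have hidxR : R.index = 2 := by
        have h := Subgroup.card_mul_index R
        rw [hRk, hq] at h
        omega
      refine hRtop (eq_top_iff.2 fun x _ => (memR x).2 fun y => ?_)
      by_cases hx : x ∈ R
      · exact (memR x).1 hx y
      by_cases hy : y ∈ R
      · exact csymm M y x ((memR y).1 hy x)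
      have h : x⁻¹ * y ∈ R := (Subgroup.mul_mem_iff_of_index_two hidxR).2
        ⟨fun h => absurd (R.inv_mem_iff.1 h) hx, fun h => absurd h hy⟩
      rw [show y = x * (x⁻¹ * y) by group]
      exact csymm M _ x (cmul M x _ x (by simp [M.one_mem]) ((memR _).1 h x))
    · exact hRtop (Subgroup.eq_top_of_card_eq R (by rw [hRk, hq]; norm_num))

/-- The case of a centre of order two. -/
theorem final_two (hX : IsPGroup 2 X) {A : Subgroup (MulAut X)} (hA : Odd (Nat.card A)) (hXA : GenByTwist A)
    (hno : NoNormalEight X) {z : X} (hz : orderOf z = 2) (hcen : center X = zpowers z)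
    (hcomm : commutator X = center X) (hsq : ∀ x : X, x * x ∈ center X) :
    Nonempty (X ≃* QuaternionGroup 2) ∨
      (Cfsg.IsExtraspecial 2 X ∧ Nat.card X = 32 ∧ Nat.card {x : X // orderOf x = 2} = 11) := by
  classical
  haveI : Fact (Nat.Prime 2) := ⟨Nat.prime_two⟩
  have hzz : z * z = 1 := by
    have h := pow_orderOf_eq_one z
    rwa [hz, pow_two] at h
  have hz1 : z ≠ 1 := fun e => by rw [e, orderOf_one] at hz; omega
  have memZ : ∀ c, c ∈ center X ↔ c = 1 ∨ c = z := by
    intro c
    rw [hcen]
    constructor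
    · intro hc
      obtain ⟨j, rfl⟩ := mem_zpowers_iff.1 hc
      rw [← zpow_mod_orderOf, hz]
      have : j % ((2 : ℕ) : ℤ) = 0 ∨ j % ((2 : ℕ) : ℤ) = 1 := by omega
      rcases this with h | h <;> rw [h] <;> simp
    · rintro (rfl | rfl)
      · exact one_mem _
      · exact mem_zpowers c
  have hextra : Cfsg.IsExtraspecial 2 X := ⟨⟨hX, le_antisymm
    (CfsgLib.FrattiniLe.frattini_le_of_pow_of_commutator (fun x => by rw [pow_two]; exact hsq x) hcomm.le)
    (hcomm ▸ CfsgLib.Coprime.commutator_le_frattini hX), hcomm⟩, by rw [hcen, Nat.card_zpowers, hz]⟩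
  have hzc : ∀ g, g * z = z * g := fun g => mem_center_iff.1 ((memZ z).2 (Or.inr rfl)) g
  -- elementary subgroups are small
  have helem : ∀ B : Subgroup X, Cfsg.IsElementaryAbelian 2 B → Nat.card B ≤ 4 := by
    intro B hB
    set B' := closure ((B : Set X) ∪ {z}) with hB'
    have hc : ∀ a ∈ (B : Set X) ∪ {z}, ∀ b ∈ (B : Set X) ∪ {z}, a * b = b * a := by
      intro a ha b hb
      rcases ha with ha | ha <;> rcases hb with hb | hb
      · exact congrArg Subtype.val (hB.1.is_comm.comm (⟨a, ha⟩ : B) ⟨b, hb⟩)
      · rw [Set.mem_singleton_iff.1 hb, hzc]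
      · rw [Set.mem_singleton_iff.1 ha, hzc]
      · rw [Set.mem_singleton_iff.1 ha, Set.mem_singleton_iff.1 hb]
    haveI := Subgroup.isMulCommutative_closure hc
    have hBB : B ≤ B' := fun b hb => subset_closure (Or.inl hb)
    have hzB : z ∈ B' := subset_closure (Or.inr rfl)
    have hn : B'.Normal := ⟨fun n hn g => by
      have h1 : g * n * g⁻¹ * n⁻¹ ∈ center X := hcomm ▸ mem_commutator_of g n
      rw [show g * n * g⁻¹ = g * n * g⁻¹ * n⁻¹ * n by group]
      refine B'.mul_mem ?_ hn
      rcases (memZ _).1 h1 with e | e <;> rw [e]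
      · exact B'.one_mem
      · exact hzB⟩
    have hel : Cfsg.IsElementaryAbelian 2 B' := by
      refine ⟨inferInstance, fun a ha => ?_⟩
      induction ha using closure_induction with
      | mem a ha =>
        rcases ha with ha | ha
        · exact hB.2 a ha
        · rw [Set.mem_singleton_iff.1 ha, pow_two, hzz]
      | one => exact one_pow 2
      | mul a b ha hb iha ihb =>
        have hab : Commute a b := congrArg Subtype.val (mul_comm' (⟨a, ha⟩ : B') ⟨b, hb⟩)
        rw [hab.mul_pow, iha, ihb, one_mul]
      | inv a ha iha => rw [inv_pow, iha, inv_one]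
    exact (Subgroup.card_le_of_le hBB).trans (hno B' hn hel)
  have hrank : Cfsg.PRankLE 2 2 X := fun B hB hB2 => helem B ⟨hB, hB2⟩
  obtain ⟨hs, -⟩ := CfsgLib.PGroup.smallCenter_of_extraspecial hextra
  obtain ⟨n, hn1, hn⟩ := CfsgLib.PGroup.extraspecial_card hextra
  have hn2 : n ≤ 2 := by
    by_contra h
    have mono : ∀ k, 2 ≤ k → Cfsg.PRankLE 2 k X := fun k hk B hB hB2 =>
      (hrank B hB hB2).trans (Nat.pow_le_pow_right two_pos hk)
    rcases (Cfsg.Agent.S3763.result.{u, 0} hextra n hn).1 with ⟨-, h2⟩ | ⟨-, h2⟩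
    · exact h2 (mono _ (by omega))
    · exact h2 (mono _ (by omega))
  rcases (show n = 1 ∨ n = 2 by omega) with rfl | rfl
  · -- quaternion
    left
    have h8 : Nat.card X = 8 := by rw [hn]; norm_num
    have huni : ∀ e : X, e * e = 1 → e = 1 ∨ e = z := by
      intro e hee
      by_contra hne
      push Not at hne
      have heZ : e ∉ center X := fun h => ((memZ e).1 h).elim hne.1 hne.2
      obtain ⟨φ, hφ, hφe⟩ : ∃ φ ∈ A, φ e * e⁻¹ ∉ center X := by
        by_contra hc
        push Not at hc
        exact heZ (mem_of_fixed hX hA hXA (center_inv A) (fun a b => hcomm ▸ mem_commutator_of a b) hc)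
      set e₁ := φ e with he₁
      have he₁Z : e₁ ∉ center X := fun h => heZ (by
        have := center_inv A φ⁻¹ (A.inv_mem hφ) _ h
        rwa [he₁, MulAut.inv_apply_self] at this)
      have he₁e : e₁ * e₁ = 1 := by rw [he₁, ← map_mul, hee, map_one]
      set e₂ := φ e₁ with he₂
      have he₂e : e₂ * e₂ = 1 := by rw [he₂, ← map_mul, he₁e, map_one]
      have hncom : e * e₁ ≠ e₁ * e := by
        intro hc
        refine heZ (mem_center_iff.2 fun g => ?_)
        have hcc : ∀ a ∈ ({e, e₁, z} : Set X), ∀ b ∈ ({e, e₁, z} : Set X), a * b = b * a := by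
          intro a ha b hb
          simp only [Set.mem_insert_iff, Set.mem_singleton_iff] at ha hb
          rcases ha with rfl | rfl | rfl <;> rcases hb with rfl | rfl | rfl
          all_goals first | rfl | exact hc | exact hc.symm | exact hzc _ | exact (hzc _).symm
        haveI := Subgroup.isMulCommutative_closure hcc
        have hel : Cfsg.IsElementaryAbelian 2 (closure ({e, e₁, z} : Set X)) := by
          refine ⟨inferInstance, fun a ha => ?_⟩
          induction ha using closure_induction with
          | mem a ha =>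
            rcases ha with rfl | rfl | rfl <;> rw [pow_two] <;> assumption
          | one => exact one_pow 2
          | mul a b ha hb iha ihb =>
            have hab : Commute a b := congrArg Subtype.val
              (mul_comm' (⟨a, ha⟩ : closure ({e, e₁, z} : Set X)) ⟨b, hb⟩)
            rw [hab.mul_pow, iha, ihb, one_mul]
          | inv a ha iha => rw [inv_pow, iha, inv_one]
        have h4 := helem _ hel
        have hsub : ({1, z, e, e₁, e * z} : Finset X) ⊆ (Set.toFinite (closure ({e, e₁, z} : Set X) : Set X)).toFinset := by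
          intro s hs
          rw [Set.Finite.mem_toFinset]
          simp only [Finset.mem_insert, Finset.mem_singleton] at hs
          rcases hs with rfl | rfl | rfl | rfl | rfl
          · exact one_mem _
          · exact subset_closure (by simp)
          · exact subset_closure (by simp)
          · exact subset_closure (by simp)
          · exact mul_mem (subset_closure (by simp)) (subset_closure (by simp))
        have hcard := Finset.card_le_card hsub
        rw [← Set.ncard_eq_toFinset_card _, ← Nat.card_coe_set_eq] at hcard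
        have h5 : ({1, z, e, e₁, e * z} : Finset X).card = 5 := by
          have a1 : e₁ ≠ e := fun h => hφe (by rw [h, mul_inv_cancel]; exact one_mem _)
          have a2 : e₁ ≠ e * z := fun h => hφe (by
            rw [h, hzc e, mul_inv_cancel_right]; exact (memZ z).2 (Or.inr rfl))
          have a3 : e₁ ≠ 1 := fun h => he₁Z (h ▸ one_mem _)
          have a4 : e₁ ≠ z := fun h => he₁Z (h ▸ (memZ z).2 (Or.inr rfl))
          have a5 : e * z ≠ 1 := fun h => hne.2 (by
            rw [eq_inv_of_mul_eq_one_left h, inv_eq_of_mul_eq_one_right hzz])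
          have a6 : e * z ≠ z := fun h => hne.1 (mul_eq_right.1 h)
          have a7 : e * z ≠ e := fun h => hz1 (mul_eq_left.1 h)
          rw [Finset.card_insert_of_notMem, Finset.card_insert_of_notMem, Finset.card_insert_of_notMem,
            Finset.card_pair a2]
          · simp only [Finset.mem_insert, Finset.mem_singleton, not_or]; exact ⟨a1.symm, a7.symm⟩
          · simp only [Finset.mem_insert, Finset.mem_singleton, not_or]; exact ⟨hne.2.symm, a4.symm, a6.symm⟩
          · simp only [Finset.mem_insert, Finset.mem_singleton, not_or]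
            exact ⟨hz1.symm, hne.1.symm, a3.symm, a5.symm⟩
        have h4' : Nat.card ↥((closure ({e, e₁, z} : Set X) : Subgroup X) : Set X) ≤ 4 := h4
        omega
      -- the images
      have hprod : e * e₁ * (e * e₁) = z := by
        rcases (memZ _).1 (hsq (e * e₁)) with h | h
        · exfalso
          refine hncom ?_
          rw [eq_inv_of_mul_eq_one_left h, mul_inv_rev, inv_eq_of_mul_eq_one_right he₁e,
            inv_eq_of_mul_eq_one_right hee]
        · exact h
      -- modulo the centre there are four cosets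
      haveI : Fact (Nat.Prime 2) := ⟨Nat.prime_two⟩
      have hQ : Nat.card (X ⧸ center X) = 4 := by
        have h := Subgroup.card_eq_card_quotient_mul_card_subgroup (center X)
        rw [h8, hextra.2] at h
        omega
      letI := Fintype.ofFinite (X ⧸ center X)
      have b1 : (e : X ⧸ center X) ≠ 1 := fun h => heZ ((QuotientGroup.eq_one_iff e).1 h)
      have b2 : (e₁ : X ⧸ center X) ≠ 1 := fun h => he₁Z ((QuotientGroup.eq_one_iff e₁).1 h)
      have b3 : (e : X ⧸ center X) ≠ e₁ := fun h => hφe (by
        have h' := QuotientGroup.eq.1 h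
        rw [mem_center_iff] at h'
        have : φ e * e⁻¹ = e⁻¹ * e₁ := by
          calc φ e * e⁻¹ = e * (e⁻¹ * e₁) * e⁻¹ := by rw [← he₁]; group
            _ = _ := by rw [h' e, mul_inv_cancel_right]
        rw [this, mem_center_iff]; exact h')
      have b4 : (e : X ⧸ center X) * e₁ ≠ 1 := by
        intro h
        have h' : e * e₁ ∈ center X := (QuotientGroup.eq_one_iff _).1 h
        refine hncom ?_
        have := mem_center_iff.1 h' e
        rw [← mul_assoc, hee, one_mul] at this
        calc e * e₁ = e * e₁ * (e * e) := by rw [hee, mul_one]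
          _ = (e * e₁ * e) * e := by group
          _ = e₁ * e := by rw [← this]
      have huniv : ({1, (e : X ⧸ center X), (e₁ : X ⧸ center X), (e : X ⧸ center X) * e₁} : Finset (X ⧸ center X)) =
          Finset.univ := Finset.eq_univ_of_card _ (by
        rw [← Nat.card_eq_fintype_card, hQ, Finset.card_insert_of_notMem, Finset.card_insert_of_notMem,
          Finset.card_pair]
        · intro h; exact b1 (mul_eq_right.1 h.symm)
        · simp only [Finset.mem_insert, Finset.mem_singleton, not_or]
          exact ⟨b3, fun h => b2 (mul_eq_left.1 h.symm)⟩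
        · simp only [Finset.mem_insert, Finset.mem_singleton, not_or]
          exact ⟨b1.symm, b2.symm, b4.symm⟩)
      have hmem := huniv.ge (Finset.mem_univ (e₂ : X ⧸ center X))
      simp only [Finset.mem_insert, Finset.mem_singleton] at hmem
      have inj : ∀ s t : X, (φ s : X ⧸ center X) = φ t → (s : X ⧸ center X) = t := by
        intro s t h
        refine QuotientGroup.eq.2 ?_
        have h' := center_inv A φ⁻¹ (A.inv_mem hφ) _ (QuotientGroup.eq.1 h)
        rwa [map_mul, map_inv, MulAut.inv_apply_self, MulAut.inv_apply_self] at h'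
      rcases hmem with h | h | h | h
      · refine b2 (inj e₁ 1 ?_)
        rw [map_one]; exact h
      · -- period two
        have hfix : ∀ k : ℕ, (((φ ^ (2 * k)) e : X) : X ⧸ center X) = e := by
          intro k
          induction k with
          | zero => simp
          | succ k ih =>
            have h2 : ((φ (φ ((φ ^ (2 * k)) e)) : X) : X ⧸ center X) = (φ (φ e) : X) := by
              have hm := QuotientGroup.eq.1 ih
              refine QuotientGroup.eq.2 ?_
              rw [← map_inv, ← map_inv, ← map_mul, ← map_mul]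
              exact center_inv A φ hφ _ (center_inv A φ hφ _ hm)
            rw [show 2 * (k + 1) = 2 * k + 1 + 1 by ring, pow_succ', pow_succ', MulAut.mul_apply, MulAut.mul_apply]
            exact h2.trans h
        obtain ⟨j, hj⟩ := hA
        have hcard : φ ^ Nat.card A = 1 := orderOf_dvd_iff_pow_eq_one.1 (A.orderOf_dvd_natCard hφ)
        have h3 := hfix (j + 1)
        rw [show 2 * (j + 1) = Nat.card A + 1 by omega, pow_succ, hcard, one_mul] at h3
        exact b3 h3.symm
      · exact b3 (inj e e₁ h.symm)
      · have h' : (e₂ : X ⧸ center X) = ((e * e₁ : X) : X ⧸ center X) := h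
        have hm := QuotientGroup.eq.1 h'
        set c := e₂⁻¹ * (e * e₁) with hc
        have he : e * e₁ = e₂ * c := by rw [hc, mul_inv_cancel_left]
        have hcz := (memZ c).1 hm
        rw [he] at hprod
        rcases hcz with hc1 | hc1 <;> rw [hc1] at hprod
        · rw [mul_one, he₂e] at hprod; exact hz1 hprod.symm
        · rw [show e₂ * z * (e₂ * z) = e₂ * (z * e₂) * z by group, ← hzc e₂,
            show e₂ * (e₂ * z) * z = e₂ * e₂ * (z * z) by group, he₂e, hzz, mul_one] at hprod
          exact hz1 hprod.symm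
    have hu : CfsgLib.Coprime.UniqueOrderP 2 X := by
      intro x y hx hy hx1
      have hxz : x = z := (huni x (by rw [← pow_two]; exact hx)).resolve_left hx1
      rcases huni y (by rw [← pow_two]; exact hy) with rfl | rfl
      · exact one_mem _
      · rw [hxz]; exact mem_zpowers _
    rcases CfsgLib.Coprime.cyclic_or_quaternion_of_unique_two hX hu with hc | ⟨m, ⟨e⟩⟩
    · exfalso
      haveI := hc
      letI := IsCyclic.commGroup (α := X)
      have h1 : center X = ⊤ := eq_top_iff.2 fun g _ => mem_center_iff.2 fun h => mul_comm h g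
      have h2 := hextra.2
      rw [h1, Subgroup.card_top, h8] at h2
      omega
    · haveI : NeZero (2 ^ m) := ⟨pow_ne_zero m two_ne_zero⟩
      have hc := Nat.card_congr e.toEquiv
      rw [h8, Nat.card_eq_fintype_card, QuaternionGroup.card] at hc
      obtain rfl : m = 1 := Nat.pow_right_injective (le_refl 2) (show 2 ^ m = 2 ^ 1 by omega)
      exact ⟨e⟩
  · -- order 32
    right
    have h32 : Nat.card X = 32 := by rw [hn]; norm_num
    refine ⟨hextra, h32, ?_⟩
    obtain ⟨e, hee, heZ⟩ : ∃ e : X, e * e = 1 ∧ e ∉ center X := by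
      by_contra hc
      push Not at hc
      have h1 : Cfsg.PRankLE 2 1 X := fun B hB hB2 => by
        have hle : B ≤ center X := fun b hb => hc b (by rw [← pow_two]; exact hB2 b hb)
        exact (Subgroup.card_le_of_le hle).trans (le_of_eq hextra.2)
      rcases (Cfsg.Agent.S3763.result.{u, 0} hextra 2 hn).1 with ⟨-, h2⟩ | ⟨-, h2⟩
      · exact h2 h1
      · exact h2 fun B hB hB2 => (h1 B hB hB2).trans (by norm_num)
    set C := centralizer ({e} : Set X) with hC
    obtain ⟨a, ha⟩ : ∃ a, a ∉ C := by
      by_contra hc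
      push Not at hc
      exact heZ (mem_center_iff.2 fun g => mem_centralizer_singleton_iff.1 (hc g))
    have hcomz : ∀ g, g ∉ C → g * e * g⁻¹ = z * e := by
      intro g hg
      have h1 : g * e * g⁻¹ * e⁻¹ ∈ center X := hcomm ▸ mem_commutator_of g e
      rcases (memZ _).1 h1 with h | h
      · exact absurd (mem_centralizer_singleton_iff.2 (mul_inv_eq_iff_eq_mul.1 (mul_inv_eq_one.1 h))) hg
      · rw [← h]; group
    have hidx : C.index = 2 := by
      refine Subgroup.index_eq_two_iff.2 ⟨a, fun g => ?_⟩
      by_cases hg : g ∈ C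
      · exact Or.inr ⟨hg, fun h => ha ((C.mul_mem_cancel_left hg).1 h)⟩
      · refine Or.inl ⟨mem_centralizer_singleton_iff.2 (mul_inv_eq_iff_eq_mul.1 ?_), hg⟩
        calc g * a * e * (g * a)⁻¹ = g * (a * e * a⁻¹) * g⁻¹ := by group
          _ = g * (z * e) * g⁻¹ := by rw [hcomz a ha]
          _ = (g * z * g⁻¹) * (g * e * g⁻¹) := by group
          _ = e := by rw [hcomz g hg, hzc g, mul_inv_cancel_right, ← mul_assoc, hzz, one_mul]
    letI := Fintype.ofFinite X
    have hC16 : (Finset.univ.filter fun g : X => g ∈ C).card = 16 := by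
      have h := Subgroup.card_mul_index C
      rw [hidx, h32, Nat.card_eq_fintype_card, Fintype.card_subtype] at h
      omega
    have hout16 : (Finset.univ.filter fun g : X => g ∉ C).card = 16 := by
      rw [Finset.filter_not, Finset.card_sdiff_of_subset (Finset.filter_subset _ _), hC16, Finset.card_univ,
        ← Nat.card_eq_fintype_card, h32]
    have he1 : e ≠ 1 := fun h => heZ (h ▸ one_mem _)
    have hez : e ≠ z := fun h => heZ (h ▸ (memZ z).2 (Or.inr rfl))
    -- involutions centralizing `e`
    have hinC : (Finset.univ.filter fun g : X => g ∈ C ∧ g * g = 1) = {1, z, e, e * z} := by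
      refine Finset.Subset.antisymm (fun g hg => ?_) (fun g hg => ?_)
      · simp only [Finset.mem_filter, Finset.mem_univ, true_and] at hg
        obtain ⟨hgC, hgg⟩ := hg
        have hge : g * e = e * g := mem_centralizer_singleton_iff.1 hgC
        have hcc : ∀ a ∈ ({e, g, z} : Set X), ∀ b ∈ ({e, g, z} : Set X), a * b = b * a := by
          intro a ha b hb
          simp only [Set.mem_insert_iff, Set.mem_singleton_iff] at ha hb
          rcases ha with rfl | rfl | rfl <;> rcases hb with rfl | rfl | rfl
          all_goals first | rfl | exact hge | exact hge.symm | exact hzc _ | exact (hzc _).symm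
        haveI := Subgroup.isMulCommutative_closure hcc
        have hel : Cfsg.IsElementaryAbelian 2 (closure ({e, g, z} : Set X)) := by
          refine ⟨inferInstance, fun a ha => ?_⟩
          induction ha using closure_induction with
          | mem a ha =>
            rcases ha with rfl | rfl | rfl <;> rw [pow_two] <;> assumption
          | one => exact one_pow 2
          | mul a b ha hb iha ihb =>
            have hab : Commute a b := congrArg Subtype.val
              (mul_comm' (⟨a, ha⟩ : closure ({e, g, z} : Set X)) ⟨b, hb⟩)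
            rw [hab.mul_pow, iha, ihb, one_mul]
          | inv a ha iha => rw [inv_pow, iha, inv_one]
        have h4 := helem _ hel
        simp only [Finset.mem_insert, Finset.mem_singleton]
        by_contra hg4
        push Not at hg4
        obtain ⟨g1, g2, g3, g4⟩ := hg4
        have hsub : ({1, z, e, g, e * z} : Finset X) ⊆ (Set.toFinite (closure ({e, g, z} : Set X) : Set X)).toFinset := by
          intro s hs
          rw [Set.Finite.mem_toFinset]
          simp only [Finset.mem_insert, Finset.mem_singleton] at hs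
          rcases hs with rfl | rfl | rfl | rfl | rfl
          · exact one_mem _
          · exact subset_closure (by simp)
          · exact subset_closure (by simp)
          · exact subset_closure (by simp)
          · exact mul_mem (subset_closure (by simp)) (subset_closure (by simp))
        have hcard := Finset.card_le_card hsub
        rw [← Set.ncard_eq_toFinset_card _, ← Nat.card_coe_set_eq] at hcard
        have a5 : e * z ≠ 1 := fun h => hez (by
          rw [eq_inv_of_mul_eq_one_left h, inv_eq_of_mul_eq_one_right hzz])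
        have h5 : ({1, z, e, g, e * z} : Finset X).card = 5 := by
          rw [Finset.card_insert_of_notMem, Finset.card_insert_of_notMem, Finset.card_insert_of_notMem,
            Finset.card_pair g4]
          · simp only [Finset.mem_insert, Finset.mem_singleton, not_or]
            exact ⟨Ne.symm g3, fun h => hz1 (mul_eq_left.1 h.symm)⟩
          · simp only [Finset.mem_insert, Finset.mem_singleton, not_or]
            exact ⟨Ne.symm hez, Ne.symm g2, fun h => he1 (mul_eq_right.1 h.symm)⟩
          · simp only [Finset.mem_insert, Finset.mem_singleton, not_or]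
            exact ⟨hz1.symm, he1.symm, Ne.symm g1, a5.symm⟩
        have h4' : Nat.card ↥((closure ({e, g, z} : Set X) : Subgroup X) : Set X) ≤ 4 := h4
        omega
      · simp only [Finset.mem_insert, Finset.mem_singleton] at hg
        simp only [Finset.mem_filter, Finset.mem_univ, true_and]
        rcases hg with rfl | rfl | rfl | rfl
        · exact ⟨one_mem _, one_mul 1⟩
        · exact ⟨mem_centralizer_singleton_iff.2 (hzc e).symm, hzz⟩
        · exact ⟨mem_centralizer_singleton_iff.2 rfl, hee⟩
        · refine ⟨mem_centralizer_singleton_iff.2 (by rw [mul_assoc, ← hzc e]), ?_⟩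
          rw [show e * z * (e * z) = e * (z * e) * z by group, ← hzc e,
            show e * (e * z) * z = e * e * (z * z) by group, hee, hzz, one_mul]
    -- outside the centralizer
    have hswap : ∀ g, g ∉ C → g * e ∉ C ∧ g * e * (g * e) = z * (g * g) := by
      intro g hg
      refine ⟨fun h => hg ((C.mul_mem_cancel_right (mem_centralizer_singleton_iff.2 rfl)).1 h), ?_⟩
      have h := hcomz g hg
      have h2 : e * g = z * (g * e) := by
        rw [mul_inv_eq_iff_eq_mul] at h
        rw [h, ← mul_assoc, ← mul_assoc, hzz, one_mul]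
      calc g * e * (g * e) = g * (e * g) * e := by group
        _ = g * z * (g * e * e) := by rw [h2]; group
        _ = _ := by rw [hzc g, mul_assoc g e e, hee, mul_one, mul_assoc]
    have hhalf : (Finset.univ.filter fun g : X => g ∉ C ∧ g * g = 1).card =
        (Finset.univ.filter fun g : X => g ∉ C ∧ g * g = z).card := by
      refine Finset.card_bij (fun g _ => g * e) (fun g hg => ?_) (fun a _ b _ h => mul_right_cancel h)
        (fun g hg => ?_)
      · simp only [Finset.mem_filter, Finset.mem_univ, true_and] at hg ⊢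
        obtain ⟨h1, h2⟩ := hswap g hg.1
        exact ⟨h1, by rw [h2, hg.2, mul_one]⟩
      · simp only [Finset.mem_filter, Finset.mem_univ, true_and] at hg
        obtain ⟨h1, h2⟩ := hswap g hg.1
        refine ⟨g * e, ?_, by rw [mul_assoc, hee, mul_one]⟩
        simp only [Finset.mem_filter, Finset.mem_univ, true_and]
        exact ⟨h1, by rw [h2, hg.2, hzz]⟩
    have hsplit : (Finset.univ.filter fun g : X => g ∉ C ∧ g * g = 1).card +
        (Finset.univ.filter fun g : X => g ∉ C ∧ g * g = z).card = 16 := by
      rw [← hout16, ← Finset.card_union_of_disjoint]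
      · congr 1
        ext g
        simp only [Finset.mem_union, Finset.mem_filter, Finset.mem_univ, true_and]
        constructor
        · rintro (h | h) <;> exact h.1
        · intro hg
          rcases (memZ _).1 (hsq g) with h | h
          · exact Or.inl ⟨hg, h⟩
          · exact Or.inr ⟨hg, h⟩
      · rw [Finset.disjoint_filter]
        intro g _ h1 h2
        exact hz1 (h2.2.symm.trans h1.2)
    have h12 : (Finset.univ.filter fun g : X => g * g = 1).card = 12 := by
      have e : (Finset.univ.filter fun g : X => g * g = 1) =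
          (Finset.univ.filter fun g : X => g ∈ C ∧ g * g = 1) ∪ (Finset.univ.filter fun g : X => g ∉ C ∧ g * g = 1) := by
        ext g
        simp only [Finset.mem_union, Finset.mem_filter, Finset.mem_univ, true_and]
        tauto
      rw [e, Finset.card_union_of_disjoint (by rw [Finset.disjoint_filter]; intro g _ h1 h2; exact h2.1 h1.1),
        hinC, Finset.card_insert_of_notMem, Finset.card_insert_of_notMem, Finset.card_pair]
      · omega
      · exact fun h => hz1 (mul_eq_left.1 h.symm)
      · simp only [Finset.mem_insert, Finset.mem_singleton, not_or]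
        exact ⟨hez.symm, fun h => he1 (mul_eq_right.1 h.symm)⟩
      · simp only [Finset.mem_insert, Finset.mem_singleton, not_or]
        exact ⟨hz1.symm, he1.symm, fun h => hez (by
          rw [eq_inv_of_mul_eq_one_left h.symm, inv_eq_of_mul_eq_one_right hzz])⟩
    have e : (Finset.univ.filter fun g : X => g * g = 1) =
        insert 1 (Finset.univ.filter fun g : X => orderOf g = 2) := by
      ext g
      simp only [Finset.mem_insert, Finset.mem_filter, Finset.mem_univ, true_and, orderOf_eq_prime_iff, pow_two]
      constructor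
      · intro h; by_cases hg : g = 1
        · exact Or.inl hg
        · exact Or.inr ⟨h, hg⟩
      · rintro (rfl | h)
        · exact one_mul 1
        · exact h.1
    rw [e, Finset.card_insert_of_notMem (by simp)] at h12
    rw [Nat.card_eq_fintype_card, Fintype.card_subtype]
    omega

end CfsgLib.CFun.NoEight
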