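import Cfsg.Agent.Lib.CFun.NoEightFinal
import Mathlib

/-!
# Four-groups in 2-groups without normal elementary abelian subgroups of order 8

Automorphisms of odd order of a four-group, and the endgame for a central four-group containing all
squares.
-/

set_option autoImplicit false

open Subgroup
open scoped commutatorElement

universe u

namespace CfsgLib.CFun.NoEight

variable {X : Type u} [Group X] [Finite X]

theorem four_cases {W : Subgroup X} (hW4 : Nat.card W = 4) (hW2 : ∀ w ∈ W, w * w = 1) {a b : X} (ha : a ∈ W)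
    (hb : b ∈ W) (ha1 : a ≠ 1) (hb1 : b ≠ 1) (hab : a ≠ b) :
    ∀ w ∈ W, w = 1 ∨ w = a ∨ w = b ∨ w = a * b := by
  classical
  intro w hw
  have hne : a * b ≠ 1 := fun h => hab (mul_left_cancel ((hW2 a ha).trans h.symm))
  have h4 : ({1, a, b, a * b} : Finset X).card = 4 := by
    rw [Finset.card_insert_of_notMem, Finset.card_insert_of_notMem, Finset.card_pair]
    · exact fun h => ha1 (mul_eq_right.1 h.symm)
    · simp only [Finset.mem_insert, Finset.mem_singleton, not_or]
      exact ⟨hab, fun h => hb1 (mul_eq_left.1 h.symm)⟩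
    · simp only [Finset.mem_insert, Finset.mem_singleton, not_or]
      exact ⟨ha1.symm, hb1.symm, hne.symm⟩
  have hsub : ({1, a, b, a * b} : Finset X) ⊆ (Set.toFinite (W : Set X)).toFinset := by
    intro s hs
    rw [Set.Finite.mem_toFinset]
    simp only [Finset.mem_insert, Finset.mem_singleton] at hs
    rcases hs with rfl | rfl | rfl | rfl
    · exact W.one_mem
    · exact ha
    · exact hb
    · exact W.mul_mem ha hb
  have heq := Finset.eq_of_subset_of_card_le hsub (by
    rw [← Set.ncard_eq_toFinset_card _, ← Nat.card_coe_set_eq, h4]; exact hW4.le)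
  have h : w ∈ ({1, a, b, a * b} : Finset X) := by
    rw [heq, Set.Finite.mem_toFinset]; exact hw
  simpa only [Finset.mem_insert, Finset.mem_singleton] using h

/-- An automorphism of odd order fixing an involution of a four-group fixes the four-group. -/
theorem fix_all {A : Subgroup (MulAut X)} (hA : Odd (Nat.card A)) {W : Subgroup X} (hW4 : Nat.card W = 4)
    (hW2 : ∀ w ∈ W, w * w = 1) (hWi : Inv A W) {χ : MulAut X} (hχ : χ ∈ A) {c : X} (hc : c ∈ W) (hc1 : c ≠ 1)
    (hfc : χ c = c) : ∀ w ∈ W, χ w = w := by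
  intro d hd
  by_cases hd1 : d = 1
  · rw [hd1, map_one]
  by_cases hdc : d = c
  · rw [hdc, hfc]
  rcases four_cases hW4 hW2 hc hd hc1 hd1 (Ne.symm hdc) (χ d) (hWi χ hχ d hd) with h | h | h | h
  · exact absurd (χ.injective (h.trans (map_one χ).symm)) hd1
  · exact absurd (χ.injective (h.trans hfc.symm)) hdc
  · exact h
  · exfalso
    have hper : ∀ i : ℕ, (χ ^ (2 * i)) d = d := by
      intro i
      induction i with
      | zero => simp
      | succ i ih =>
        rw [show 2 * (i + 1) = 2 * i + 1 + 1 by ring, pow_succ', pow_succ', MulAut.mul_apply, MulAut.mul_apply, ih,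
          h, map_mul, hfc, h, ← mul_assoc, hW2 c hc, one_mul]
    obtain ⟨i, hi⟩ := hA
    have hcard : χ ^ Nat.card A = 1 := orderOf_dvd_iff_pow_eq_one.1 (A.orderOf_dvd_natCard hχ)
    rw [hi, pow_succ'] at hcard
    have h1 : χ ((χ ^ (2 * i)) d) = d := by rw [← MulAut.mul_apply, hcard, MulAut.one_apply]
    rw [hper i, h] at h1
    exact hc1 (mul_eq_right.1 h1)

/-- A four-group with an automorphism of odd order moving one of its involutions. -/
structure FourAct (A : Subgroup (MulAut X)) (W : Subgroup X) (φ : MulAut X) : Prop where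
  hA : Odd (Nat.card A)
  hW4 : Nat.card W = 4
  hW2 : ∀ w ∈ W, w * w = 1
  hWi : Inv A W
  hφ : φ ∈ A
  hfree : ∀ w ∈ W, φ w = w → w = 1

namespace FourAct

variable {A : Subgroup (MulAut X)} {W : Subgroup X} {φ : MulAut X}

theorem comm (F : FourAct A W φ) {a b : X} (ha : a ∈ W) (hb : b ∈ W) : a * b = b * a :=
  calc a * b = a * ((a * b) * (a * b)) * b := by rw [F.hW2 _ (W.mul_mem ha hb), mul_one]
    _ = (a * a) * (b * a) * (b * b) := by group
    _ = b * a := by rw [F.hW2 a ha, F.hW2 b hb, one_mul, mul_one]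

theorem phi_mem (F : FourAct A W φ) {w : X} (hw : w ∈ W) : φ w ∈ W := F.hWi φ F.hφ w hw

theorem phi2 (F : FourAct A W φ) {w : X} (hw : w ∈ W) : φ (φ w) = w * φ w := by
  by_cases hw1 : w = 1
  · simp [hw1]
  have h1 : φ w ≠ w := fun h => hw1 (F.hfree w hw h)
  have hφ1 : φ w ≠ 1 := fun h => hw1 (φ.injective (h.trans (map_one φ).symm))
  rcases four_cases F.hW4 F.hW2 hw (F.phi_mem hw) hw1 hφ1 (Ne.symm h1) _ (F.phi_mem (F.phi_mem hw)) with
    h | h | h | h
  · exact absurd (φ.injective (h.trans (map_one φ).symm)) hφ1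
  · exfalso
    have h0 : φ (w * φ w) = w * φ w := by rw [map_mul, h, F.comm (F.phi_mem hw) hw]
    have h2 := F.hfree _ (W.mul_mem hw (F.phi_mem hw)) h0
    exact h1 (mul_left_cancel ((h2.trans (F.hW2 w hw).symm)))
  · exact absurd (φ.injective h) h1
  · exact h

theorem phi3 (F : FourAct A W φ) {w : X} (hw : w ∈ W) : φ (φ (φ w)) = w := by
  rw [F.phi2 (F.phi_mem hw), F.phi2 hw, F.comm hw (F.phi_mem hw), ← mul_assoc, F.hW2 _ (F.phi_mem hw), one_mul]

theorem orbit (F : FourAct A W φ) {c : X} (hc : c ∈ W) (hc1 : c ≠ 1) :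
    ∀ w ∈ W, w = 1 ∨ w = c ∨ w = φ c ∨ w = φ (φ c) := by
  intro w hw
  rw [F.phi2 hc]
  exact four_cases F.hW4 F.hW2 hc (F.phi_mem hc) hc1 (fun h => hc1 (φ.injective (h.trans (map_one φ).symm)))
    (fun h => hc1 (F.hfree c hc h.symm)) w hw

theorem le_of_inv (F : FourAct A W φ) {N : Subgroup X} (hN : ∀ x ∈ N, φ x ∈ N) {c : X} (hc : c ∈ W) (hcN : c ∈ N)
    (hc1 : c ≠ 1) : W ≤ N := by
  intro w hw
  rcases F.orbit hc hc1 w hw with rfl | rfl | rfl | rfl
  · exact N.one_mem
  · exact hcN
  · exact hN _ hcN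
  · exact hN _ (hN _ hcN)

theorem exists_ne (F : FourAct A W φ) : ∃ c ∈ W, c ≠ 1 := by
  by_contra h
  push Not at h
  have h4 := F.hW4
  rw [(Subgroup.eq_bot_iff_forall W).2 h, Subgroup.card_bot] at h4
  omega

/-- Every member of `A` acts on the four-group as a power of `φ`. -/
theorem eq_pow_phi (F : FourAct A W φ) {ψ : MulAut X} (hψ : ψ ∈ A) :
    ∃ i : ℕ, ∀ w ∈ W, ψ w = (φ ^ i) w := by
  obtain ⟨c, hc, hc1⟩ := F.exists_ne
  have main : ∀ i : ℕ, ψ c = (φ ^ i) c → ∀ w ∈ W, ψ w = (φ ^ i) w := by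
    intro i hi w hw
    have h := fix_all F.hA F.hW4 F.hW2 F.hWi (A.mul_mem (A.inv_mem (A.pow_mem F.hφ i)) hψ) hc hc1
      (by rw [MulAut.mul_apply, hi, MulAut.inv_apply_self]) w hw
    rw [MulAut.mul_apply] at h
    calc ψ w = (φ ^ i) ((φ ^ i)⁻¹ (ψ w)) := by rw [MulAut.apply_inv_self]
      _ = _ := by rw [h]
  rcases F.orbit hc hc1 (ψ c) (F.hWi ψ hψ c hc) with h | h | h | h
  · exact absurd (ψ.injective (h.trans (map_one ψ).symm)) hc1
  · exact ⟨0, main 0 (by rw [h, pow_zero, MulAut.one_apply])⟩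
  · exact ⟨1, main 1 (by rw [h, pow_one])⟩
  · exact ⟨2, main 2 (by rw [h, pow_two, MulAut.mul_apply])⟩

end FourAct

/-- An involution centralizing a central four-group modulo it lies in it. -/
theorem mem_of_involution (hno : NoNormalEight X) {W : Subgroup X} (hW4 : Nat.card W = 4)
    (hW2 : ∀ w ∈ W, w * w = 1) (hWc : W ≤ center X) {t : X} (ht : t * t = 1)
    (hn : ∀ x : X, x * t * x⁻¹ * t⁻¹ ∈ W) : t ∈ W := by
  have cen : ∀ w ∈ W, ∀ g : X, g * w = w * g := fun w hw g => mem_center_iff.1 (hWc hw) g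
  have hti : t⁻¹ = t := inv_eq_of_mul_eq_one_right ht
  have hright : ∀ g, g * t ∈ W → t * g = g * t := by
    intro g hg
    calc t * g = t * ((g * t) * t) := by rw [mul_assoc g t t, ht, mul_one]
      _ = (t * (g * t)) * t := (mul_assoc _ _ _).symm
      _ = g * t * (t * t) := by rw [cen _ hg t, mul_assoc]
      _ = g * t := by rw [ht, mul_one]
  let E : Subgroup X :=
    { carrier := {g | g ∈ W ∨ g * t ∈ W}
      one_mem' := Or.inl W.one_mem
      mul_mem' := by
        rintro a b (ha | ha) (hb | hb)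
        · exact Or.inl (W.mul_mem ha hb)
        · exact Or.inr (by rw [mul_assoc]; exact W.mul_mem ha hb)
        · exact Or.inr (by rw [mul_assoc, ← cen b hb t, ← mul_assoc]; exact W.mul_mem ha hb)
        · left
          have h : a * b = (a * t) * (b * t) := by
            calc a * b = a * (b * (t * t)) := by rw [ht, mul_one]
              _ = a * ((b * t) * t) := by rw [← mul_assoc b t t]
              _ = a * (t * (b * t)) := by rw [cen _ hb t]
              _ = _ := (mul_assoc _ _ _).symm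
          rw [h]; exact W.mul_mem ha hb
      inv_mem' := by
        rintro a (ha | ha)
        · exact Or.inl (W.inv_mem ha)
        · right
          rw [show a⁻¹ * t = (t⁻¹ * a)⁻¹ by group, hti, hright a ha]
          exact W.inv_mem ha }
  have memE : ∀ g, g ∈ E ↔ g ∈ W ∨ g * t ∈ W := fun g => Iff.rfl
  haveI hEn : E.Normal := ⟨fun g hg x => by
    rcases hg with hg | hg
    · exact Or.inl (by rw [cen g hg x, mul_inv_cancel_right]; exact hg)
    · right
      have h : x * g * x⁻¹ * t = (g * t) * (x * t * x⁻¹ * t⁻¹) := by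
        calc x * g * x⁻¹ * t = (x * (g * t)) * (t⁻¹ * x⁻¹ * t) := by group
          _ = (g * t) * (x * t⁻¹ * x⁻¹ * t) := by rw [cen _ hg x]; group
          _ = (g * t) * (x * t * x⁻¹ * t⁻¹) := by rw [hti]
      rw [h]; exact W.mul_mem hg (hn x)⟩
  have hsq : ∀ g ∈ E, g * g = 1 := by
    intro g hg
    rcases hg with hg | hg
    · exact hW2 g hg
    · calc g * g = g * t * (t⁻¹ * g) := by group
        _ = 1 := by rw [hti, hright g hg]; exact hW2 _ hg
  have hel : Cfsg.IsElementaryAbelian 2 E := by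
    refine ⟨⟨⟨fun a b => Subtype.ext ?_⟩⟩, fun g hg => by rw [pow_two]; exact hsq g hg⟩
    show (a : X) * b = b * a
    calc (a : X) * b = ((a : X) * b)⁻¹ := (inv_eq_of_mul_eq_one_right (hsq _ (E.mul_mem a.2 b.2))).symm
      _ = _ := by
        rw [mul_inv_rev, inv_eq_of_mul_eq_one_right (hsq _ a.2), inv_eq_of_mul_eq_one_right (hsq _ b.2)]
  have hle : W ≤ E := fun w hw => (memE w).2 (Or.inl hw)
  have heq : W = E := Subgroup.eq_of_le_of_card_ge hle (by rw [hW4]; exact hno E hEn hel)
  rw [heq]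
  exact (memE t).2 (Or.inr (by rw [ht]; exact W.one_mem))

/-- The endgame for a central four-group containing all squares. -/
theorem finish_four (hX : IsPGroup 2 X) {A : Subgroup (MulAut X)} (hXA : GenByTwist A) (hno : NoNormalEight X)
    (hna : ¬ IsMulCommutative X) {W : Subgroup X} {φ : MulAut X} (F : FourAct A W φ) (hWc : W ≤ center X)
    (hsq : ∀ x : X, x * x ∈ W) :
    Cfsg.IsSpecial 2 X ∧ Nat.card X = 64 ∧ Nat.card {x : X // orderOf x = 2} = 3 ∧
      ∀ x : X, orderOf x = 2 → x ∈ center X := by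
  have hcomm := commutator_le_of_sq hsq
  have hinv : ∀ x : X, x * x = 1 → x ∈ W := fun t ht =>
    mem_of_involution hno F.hW4 F.hW2 hWc ht fun x => hcomm (mem_commutator_of x t)
  have hWX : W ≤ commutator X := by
    obtain ⟨c, hc, hc1⟩ : ∃ c ∈ commutator X, c ≠ 1 := by
      by_contra h
      push Not at h
      refine hna ⟨⟨fun a b => ?_⟩⟩
      have h1 := h _ (mem_commutator_of a b)
      rwa [mul_inv_eq_one, mul_inv_eq_iff_eq_mul] at h1
    exact F.le_of_inv (fun x hx => commutator_inv A φ F.hφ x hx) (hcomm hc) hc hc1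
  refine final_four hX F.hA hXA hna F.hW4 F.hW2 hsq hinv hWX (le_antisymm (fun u hu => ?_) hWc)
    (Or.inr ⟨φ, F.hφ, fun w hw hw1 h => hw1 (F.hfree w hw h)⟩)
  by_contra huW
  have hu1 : u * u ≠ 1 := fun h => huW (hinv u h)
  have hall : ∀ x : X, x ∈ center X := by
    intro x
    by_cases hx : x * x = 1
    · exact hWc (hinv x hx)
    obtain ⟨v, hv, hvx⟩ : ∃ v ∈ center X, v * v = x * x := by
      rcases F.orbit (hsq u) hu1 (x * x) (hsq x) with h | h | h | h
      · exact absurd h hx
      · exact ⟨u, hu, h.symm⟩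
      · exact ⟨φ u, center_inv A φ F.hφ u hu, by rw [h, map_mul]⟩
      · exact ⟨φ (φ u), center_inv A φ F.hφ _ (center_inv A φ F.hφ u hu), by rw [h, map_mul, map_mul]⟩
    have h2 : (x * v⁻¹) * (x * v⁻¹) = 1 := by
      calc (x * v⁻¹) * (x * v⁻¹) = x * (v⁻¹ * x) * v⁻¹ := by group
        _ = x * (x * v⁻¹) * v⁻¹ := by rw [mem_center_iff.1 ((center X).inv_mem hv) x]
        _ = (x * x) * (v * v)⁻¹ := by group
        _ = 1 := by rw [hvx, mul_inv_cancel]
    have h3 := (center X).mul_mem (hWc (hinv _ h2)) hv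
    rwa [inv_mul_cancel_right] at h3
  exact hna ⟨⟨fun a b => (mem_center_iff.1 (hall b) a)⟩⟩

end CfsgLib.CFun.NoEight
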