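import Cfsg.Agent.Lib.CFun.NoEightFour
import Mathlib

/-!
# A maximal invariant normal abelian subgroup of exponent at least 4

If a group of automorphisms of odd order moves a central involution of a maximal invariant normal
abelian subgroup `U` whose involutions form a four-group `W`, then either all squares lie in `W`, or
some normal elementary abelian subgroup of order 8 exists. The conjugation actions on `U` are
filtered by the orders of the elements `x u x⁻¹ u⁻¹`.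
-/

set_option autoImplicit false

open Subgroup

universe u

namespace CfsgLib.CFun.NoEight

variable {X : Type u} [Group X] [Finite X]

/-- Commutation with an element. -/
def brk (x u : X) : X := x * u * x⁻¹ * u⁻¹

/-- A normal abelian subgroup of exponent `2 ^ k` whose involutions form a central four-group. -/
structure Layer (A : Subgroup (MulAut X)) (U W : Subgroup X) (φ : MulAut X) (k : ℕ) : Prop where
  F : FourAct A W φ
  hUn : U.Normal
  hUi : Inv A U
  hUab : ∀ a ∈ U, ∀ b ∈ U, a * b = b * a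
  hWU : W ≤ U
  hWc : W ≤ center X
  hom1 : ∀ u ∈ U, u * u = 1 → u ∈ W
  hk : 2 ≤ k
  hexp : ∀ u ∈ U, u ^ 2 ^ k = 1
  hmin : ∃ u ∈ U, u ^ 2 ^ (k - 1) ≠ 1

/-- `x` is at level `j`. -/
def Lev (U : Subgroup X) (k j : ℕ) (x : X) : Prop := ∀ u ∈ U, brk x u ^ 2 ^ (k - j) = 1

/-- The linear map induced on `W` at level `j`. -/
def Rep (U : Subgroup X) (k j : ℕ) (x : X) (L : X → X) : Prop :=
  ∀ u ∈ U, brk x u ^ 2 ^ (k - 1 - j) = L (u ^ 2 ^ (k - 1))

/-- A homomorphism of `W` inverting the action of `φ`. -/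
structure Twist (W : Subgroup X) (φ : MulAut X) (L : X → X) : Prop where
  mem : ∀ w ∈ W, L w ∈ W
  mul : ∀ a ∈ W, ∀ b ∈ W, L (a * b) = L a * L b
  semi : ∀ w ∈ W, L (φ w) = φ (φ (L w))

theorem Twist.ker {A : Subgroup (MulAut X)} {W : Subgroup X} {φ : MulAut X} (F : FourAct A W φ) {L : X → X}
    (hL : Twist W φ L) {c : X} (hc : c ∈ W) (hLc : L c = 1) (hc1 : c ≠ 1) : ∀ w ∈ W, L w = 1 := by
  intro w hw
  have hone : L 1 = 1 := by
    have h := hL.mul 1 W.one_mem 1 W.one_mem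
    rw [one_mul] at h
    exact left_eq_mul.1 h
  have h1 : L (φ c) = 1 := by rw [hL.semi c hc, hLc, map_one, map_one]
  rcases F.orbit hc hc1 w hw with rfl | rfl | rfl | rfl
  · exact hone
  · exact hLc
  · exact h1
  · rw [hL.semi _ (F.phi_mem hc), h1, map_one, map_one]

namespace Layer

variable {A : Subgroup (MulAut X)} {U W : Subgroup X} {φ : MulAut X} {k : ℕ}

theorem cen (S : Layer A U W φ k) {w : X} (hw : w ∈ W) (g : X) : g * w = w * g := mem_center_iff.1 (S.hWc hw) g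

theorem pw (S : Layer A U W φ k) {a b : X} (ha : a ∈ U) (hb : b ∈ U) (n : ℕ) : (a * b) ^ n = a ^ n * b ^ n :=
  Commute.mul_pow (S.hUab a ha b hb) n

theorem theta_mem (S : Layer A U W φ k) {u : X} (hu : u ∈ U) : u ^ 2 ^ (k - 1) ∈ W := by
  refine S.hom1 _ (U.pow_mem hu _) ?_
  rw [← pow_two, ← pow_mul, ← pow_succ, show k - 1 + 1 = k from by have := S.hk; omega]
  exact S.hexp u hu

theorem theta_surj (S : Layer A U W φ k) {w : X} (hw : w ∈ W) : ∃ u ∈ U, u ^ 2 ^ (k - 1) = w := by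
  let N : Subgroup X :=
    { carrier := {w | ∃ u ∈ U, u ^ 2 ^ (k - 1) = w}
      one_mem' := ⟨1, U.one_mem, one_pow _⟩
      mul_mem' := by
        rintro _ _ ⟨a, ha, rfl⟩ ⟨b, hb, rfl⟩
        exact ⟨a * b, U.mul_mem ha hb, S.pw ha hb _⟩
      inv_mem' := by
        rintro _ ⟨a, ha, rfl⟩
        exact ⟨a⁻¹, U.inv_mem ha, inv_pow a _⟩ }
  obtain ⟨u, hu, hne⟩ := S.hmin
  have hle : W ≤ N := S.F.le_of_inv (fun x ⟨a, ha, e⟩ => ⟨φ a, S.hUi φ S.F.hφ a ha, by rw [← map_pow, e]⟩)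
    (S.theta_mem hu) ⟨u, hu, rfl⟩ hne
  exact hle hw

/-- Every element of order less than `2 ^ k` is a square. -/
theorem sqroot (S : Layer A U W φ k) (i : ℕ) : ∀ u ∈ U, u ^ 2 ^ i = 1 → i < k → ∃ v ∈ U, v * v = u := by
  induction i with
  | zero =>
    intro u _ h _
    rw [pow_zero, pow_one] at h
    exact ⟨1, U.one_mem, by rw [h, one_mul]⟩
  | succ i ih =>
    intro u hu h hik
    have hw : u ^ 2 ^ i ∈ W := S.hom1 _ (U.pow_mem hu _) (by rw [← pow_two, ← pow_mul, ← pow_succ]; exact h)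
    obtain ⟨q, hq, hqw⟩ := S.theta_surj hw
    set s := q ^ 2 ^ (k - 2 - i) with hs
    have hsU : s ∈ U := U.pow_mem hq _
    have hpow : (s * s) ^ 2 ^ i = u ^ 2 ^ i := by
      rw [← hqw, hs, ← pow_two, ← pow_mul, ← pow_mul, ← pow_succ', ← pow_add]
      congr 2
      omega
    obtain ⟨v, hv, hvv⟩ := ih (u * (s * s)⁻¹) (U.mul_mem hu (U.inv_mem (U.mul_mem hsU hsU)))
      (by rw [S.pw hu (U.inv_mem (U.mul_mem hsU hsU)), inv_pow, hpow, mul_inv_cancel]) (by omega)
    refine ⟨v * s, U.mul_mem hv hsU, ?_⟩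
    calc v * s * (v * s) = v * (s * v) * s := by group
      _ = v * (v * s) * s := by rw [S.hUab s hsU v hv]
      _ = (v * v) * (s * s) := by group
      _ = u := by rw [hvv, inv_mul_cancel_right]

/-- Roots of elements of small order. -/
theorem root (S : Layer A U W φ k) (j : ℕ) :
    ∀ i : ℕ, ∀ u ∈ U, u ^ 2 ^ i = 1 → i + j ≤ k → ∃ v ∈ U, v ^ 2 ^ j = u := by
  induction j with
  | zero => intro i u hu _ _; exact ⟨u, hu, by rw [pow_zero, pow_one]⟩
  | succ j ih =>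
    intro i u hu h hij
    obtain ⟨v, hv, hvv⟩ := S.sqroot i u hu h (by omega)
    obtain ⟨z, hz, hzv⟩ := ih (i + 1) v hv (by rw [pow_succ', pow_mul, pow_two, hvv]; exact h) (by omega)
    exact ⟨z, hz, by rw [pow_succ, pow_mul, hzv, pow_two, hvv]⟩

theorem brk_mem (S : Layer A U W φ k) (x : X) {u : X} (hu : u ∈ U) : brk x u ∈ U :=
  U.mul_mem (S.hUn.conj_mem u hu x) (U.inv_mem hu)

theorem brk_mul (S : Layer A U W φ k) (x : X) {u v : X} (hu : u ∈ U) (hv : v ∈ U) :
    brk x (u * v) = brk x u * brk x v := by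
  have h : (x * v * x⁻¹ * v⁻¹) * u⁻¹ = u⁻¹ * (x * v * x⁻¹ * v⁻¹) :=
    S.hUab _ (S.brk_mem x hv) _ (U.inv_mem hu)
  show x * (u * v) * x⁻¹ * (u * v)⁻¹ = x * u * x⁻¹ * u⁻¹ * (x * v * x⁻¹ * v⁻¹)
  calc x * (u * v) * x⁻¹ * (u * v)⁻¹ = x * u * x⁻¹ * ((x * v * x⁻¹ * v⁻¹) * u⁻¹) := by group
    _ = x * u * x⁻¹ * (u⁻¹ * (x * v * x⁻¹ * v⁻¹)) := by rw [h]
    _ = _ := by group

theorem brk_one (x : X) : brk x (1 : X) = 1 := by simp [brk]

theorem brk_pow (S : Layer A U W φ k) (x : X) {u : X} (hu : u ∈ U) (n : ℕ) : brk x (u ^ n) = brk x u ^ n := by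
  induction n with
  | zero => rw [pow_zero, pow_zero, brk_one]
  | succ n ih => rw [pow_succ, pow_succ, S.brk_mul x (U.pow_mem hu n) hu, ih]

theorem brk_center (S : Layer A U W φ k) (x : X) {w : X} (hw : w ∈ W) : brk x w = 1 := by
  show x * w * x⁻¹ * w⁻¹ = 1
  rw [S.cen hw x, mul_inv_cancel_right, mul_inv_cancel]

theorem brk_comp (S : Layer A U W φ k) (x y : X) {u : X} (hu : u ∈ U) :
    brk (x * y) u = brk x (brk y u) * brk x u * brk y u := by
  have hc : brk y u ∈ U := S.brk_mem y hu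
  have h : brk y u * brk x u = brk x u * brk y u := S.hUab _ hc _ (S.brk_mem x hu)
  calc brk (x * y) u = brk x (brk y u) * (brk y u * brk x u) := by simp only [brk]; group
    _ = _ := by rw [h, mul_assoc]

theorem brk_map (ψ : MulAut X) (x u : X) : brk (ψ x) (ψ u) = ψ (brk x u) := by
  simp only [brk, map_mul, map_inv]

theorem brk_pow_comp (S : Layer A U W φ k) (x y : X) {u : X} (hu : u ∈ U) (n : ℕ) :
    brk (x * y) u ^ n = brk x (brk y u ^ n) * brk x u ^ n * brk y u ^ n := by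
  have h1 := S.brk_mem y hu
  have h2 := S.brk_mem x hu
  have h3 := S.brk_mem x h1
  rw [S.brk_comp x y hu, S.pw (U.mul_mem h3 h2) h1, S.pw h3 h2, S.brk_pow x h1]

theorem gam_mem (S : Layer A U W φ k) {j : ℕ} (hj : j < k) {x : X} (hx : Lev U k j x) {u : X} (hu : u ∈ U) :
    brk x u ^ 2 ^ (k - 1 - j) ∈ W := by
  refine S.hom1 _ (U.pow_mem (S.brk_mem x hu) _) ?_
  rw [← pow_two, ← pow_mul, ← pow_succ, show k - 1 - j + 1 = k - j by omega]
  exact hx u hu

theorem lev_one (S : Layer A U W φ k) (x : X) : Lev U k 1 x := by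
  intro u hu
  rw [← S.brk_pow x hu]
  exact S.brk_center x (S.theta_mem hu)

theorem lev_mul (S : Layer A U W φ k) {j : ℕ} {x y : X} (hx : Lev U k j x) (hy : Lev U k j y) :
    Lev U k j (x * y) := by
  intro u hu
  rw [S.brk_pow_comp x y hu, hy u hu, brk_one, one_mul, mul_one, hx u hu]

theorem lev_map (S : Layer A U W φ k) {j : ℕ} {x : X} (hx : Lev U k j x) {ψ : MulAut X} (hψ : ψ ∈ A) :
    Lev U k j (ψ x) := by
  intro u hu
  have hu' : (ψ⁻¹ : MulAut X) u ∈ U := S.hUi _ (A.inv_mem hψ) u hu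
  rw [show u = ψ ((ψ⁻¹ : MulAut X) u) by rw [MulAut.apply_inv_self], brk_map, ← map_pow, hx _ hu', map_one]

theorem lev_sq (S : Layer A U W φ k) {j : ℕ} (hj : j < k) {x : X} (hx : Lev U k j x) :
    Lev U k (j + 1) (x * x) := by
  intro u hu
  rw [show k - (j + 1) = k - 1 - j by omega, S.brk_pow_comp x x hu, S.brk_center x (S.gam_mem hj hx hu), one_mul,
    ← pow_two, ← pow_mul, ← pow_succ, show k - 1 - j + 1 = k - j by omega]
  exact hx u hu

/-- Every level gives a map on `W`. -/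
theorem exists_rep (S : Layer A U W φ k) {j : ℕ} (hj : j < k) {x : X} (hx : Lev U k j x) :
    ∃ L : X → X, Rep U k j x L ∧ (∀ w ∈ W, L w ∈ W) ∧ ∀ a ∈ W, ∀ b ∈ W, L (a * b) = L a * L b := by
  classical
  have heq : ∀ u ∈ U, ∀ v ∈ U, u ^ 2 ^ (k - 1) = v ^ 2 ^ (k - 1) →
      brk x u ^ 2 ^ (k - 1 - j) = brk x v ^ 2 ^ (k - 1 - j) := by
    intro u hu v hv h
    have hq : (v⁻¹ * u) ∈ U := U.mul_mem (U.inv_mem hv) hu
    obtain ⟨s, hs, hss⟩ := S.sqroot (k - 1) _ hq
      (by rw [S.pw (U.inv_mem hv) hu, inv_pow, h, inv_mul_cancel]) (by have := S.hk; omega)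
    have hu' : u = v * (s * s) := by rw [hss, mul_inv_cancel_left]
    rw [hu', S.brk_mul x hv (U.mul_mem hs hs), S.brk_mul x hs hs,
      S.pw (S.brk_mem x hv) (U.mul_mem (S.brk_mem x hs) (S.brk_mem x hs)), S.pw (S.brk_mem x hs) (S.brk_mem x hs),
      S.F.hW2 _ (S.gam_mem hj hx hs), mul_one]
  let L : X → X := fun w =>
    if h : ∃ u, u ∈ U ∧ u ^ 2 ^ (k - 1) = w then brk x h.choose ^ 2 ^ (k - 1 - j) else 1
  have hrep : Rep U k j x L := by
    intro u hu
    have h : ∃ v, v ∈ U ∧ v ^ 2 ^ (k - 1) = u ^ 2 ^ (k - 1) := ⟨u, hu, rfl⟩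
    simp only [L]
    rw [dif_pos h]
    exact heq u hu _ h.choose_spec.1 h.choose_spec.2.symm
  refine ⟨L, hrep, fun w hw => ?_, fun a ha b hb => ?_⟩
  · obtain ⟨u, hu, rfl⟩ := S.theta_surj hw
    rw [← hrep u hu]
    exact S.gam_mem hj hx hu
  · obtain ⟨u, hu, rfl⟩ := S.theta_surj ha
    obtain ⟨v, hv, rfl⟩ := S.theta_surj hb
    rw [← S.pw hu hv, ← hrep _ (U.mul_mem hu hv), ← hrep u hu, ← hrep v hv, S.brk_mul x hu hv,
      S.pw (S.brk_mem x hu) (S.brk_mem x hv)]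

/-- At a common level every map is twisted by `φ`. -/
theorem exists_twist (S : Layer A U W φ k) (hX : IsPGroup 2 X) (hXA : GenByTwist A) {j : ℕ} (hj : j < k)
    (hall : ∀ x, Lev U k j x) (x : X) : ∃ L : X → X, Rep U k j x L ∧ Twist W φ L := by
  choose L hrep hmem hmul using fun y => S.exists_rep hj (hall y)
  have F := S.F
  have ext' : ∀ y z, (∀ u ∈ U, brk y u ^ 2 ^ (k - 1 - j) = brk z u ^ 2 ^ (k - 1 - j)) →
      ∀ w ∈ W, L y w = L z w := by
    intro y z h w hw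
    obtain ⟨u, hu, rfl⟩ := S.theta_surj hw
    rw [← hrep y u hu, ← hrep z u hu, h u hu]
  have mult : ∀ y z, ∀ w ∈ W, L (y * z) w = L y w * L z w := by
    intro y z w hw
    obtain ⟨u, hu, rfl⟩ := S.theta_surj hw
    rw [← hrep _ u hu, ← hrep y u hu, ← hrep z u hu, S.brk_pow_comp y z hu,
      S.brk_center y (S.gam_mem hj (hall z) hu), one_mul]
  have eqv : ∀ ψ ∈ A, ∀ y, ∀ w ∈ W, L (ψ y) (ψ w) = ψ (L y w) := by
    intro ψ hψ y w hw
    obtain ⟨u, hu, rfl⟩ := S.theta_surj hw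
    rw [map_pow, ← hrep _ _ (S.hUi ψ hψ u hu), ← hrep y u hu, brk_map, map_pow]
  have one : ∀ w ∈ W, L 1 w = 1 := fun w hw => by
    have h := mult 1 1 w hw
    rw [one_mul] at h
    exact left_eq_mul.1 h
  have inv : ∀ y, ∀ w ∈ W, L y⁻¹ w = L y w := fun y w hw => by
    have h := mult y⁻¹ y w hw
    rw [inv_mul_cancel, one w hw] at h
    rw [eq_inv_of_mul_eq_one_left h.symm, inv_eq_of_mul_eq_one_right (F.hW2 _ (hmem y w hw))]
  let K : Subgroup X :=
    { carrier := {y | ∀ w ∈ W, L y w = 1}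
      one_mem' := one
      mul_mem' := fun {a b} ha hb w hw => by rw [mult a b w hw, ha w hw, hb w hw, one_mul]
      inv_mem' := fun {a} ha w hw => by rw [inv a w hw, ha w hw] }
  have hKcomm : ∀ a b : X, a * b * a⁻¹ * b⁻¹ ∈ K := fun a b w hw => by
    rw [mult _ _ w hw, mult _ _ w hw, mult _ _ w hw, inv a w hw, inv b w hw,
      mul_assoc (L a w), F.comm (hmem b w hw) (hmem a w hw), ← mul_assoc (L a w), F.hW2 _ (hmem a w hw), one_mul,
      F.hW2 _ (hmem b w hw)]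
  haveI : K.Normal := ⟨fun n hn g => by
    rw [show g * n * g⁻¹ = g * n * g⁻¹ * n⁻¹ * n by group]; exact K.mul_mem (hKcomm g n) hn⟩
  have hKinv : Inv A K := fun ψ hψ y hy w hw => by
    have h := eqv ψ hψ y ((ψ⁻¹ : MulAut X) w) (F.hWi _ (A.inv_mem hψ) w hw)
    rw [MulAut.apply_inv_self, hy _ (F.hWi _ (A.inv_mem hψ) w hw), map_one] at h
    exact h
  have L1 : ∀ y, ∀ w ∈ W, L (φ y) w = φ (L y (φ (φ w))) := fun y w hw => by
    rw [← eqv φ F.hφ y _ (F.phi_mem (F.phi_mem hw)), F.phi3 hw]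
  have L2 : ∀ y, ∀ w ∈ W, L (φ (φ y)) w = φ (φ (L y (φ w))) := fun y w hw => by
    rw [L1 (φ y) w hw, L1 y _ (F.phi_mem (F.phi_mem hw)), F.phi3 (F.phi_mem hw)]
  set x' := x * φ x * φ (φ x) with hx'
  have hx'L : ∀ w ∈ W, L x' w = L x w * L (φ x) w * L (φ (φ x)) w := fun w hw => by
    rw [hx', mult _ _ w hw, mult _ _ w hw]
  have hcom : ∀ w ∈ W, L x' (φ w) = φ (L x' w) := by
    intro w hw
    rw [hx'L w hw, hx'L _ (F.phi_mem hw), eqv φ F.hφ x w hw, eqv φ F.hφ (φ x) w hw, map_mul, map_mul,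
      L2 x w hw, F.phi3 (hmem x _ (F.phi_mem hw)),
      F.comm (hmem x _ (F.phi_mem hw)) (F.phi_mem (hmem x w hw)),
      mul_assoc, mul_assoc, F.comm (hmem x _ (F.phi_mem hw)) (F.phi_mem (hmem (φ x) w hw))]
  have hpow : ∀ i : ℕ, ∀ w ∈ W, L x' ((φ ^ i) w) = (φ ^ i) (L x' w) := by
    intro i
    induction i with
    | zero => intro w _; simp
    | succ i ih =>
      intro w hw
      rw [pow_succ', MulAut.mul_apply, MulAut.mul_apply, hcom _ (F.hWi _ (A.pow_mem F.hφ i) w hw), ih w hw]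
  have hx'K : x' ∈ K := by
    refine mem_of_fixed hX F.hA hXA hKinv hKcomm fun ψ hψ w hw => ?_
    obtain ⟨i, hi⟩ := F.eq_pow_phi hψ
    have hw' : (ψ⁻¹ : MulAut X) w ∈ W := F.hWi _ (A.inv_mem hψ) w hw
    have h := eqv ψ hψ x' _ hw'
    rw [MulAut.apply_inv_self, hi _ (hmem x' _ hw'), ← hpow i _ hw', ← hi _ hw', MulAut.apply_inv_self] at h
    rw [mult _ _ w hw, inv x' w hw, h, F.hW2 _ (hmem x' w hw)]
  refine ⟨L x, hrep x, hmem x, hmul x, fun w hw => ?_⟩
  have h := hx'K w hw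
  rw [hx'L w hw, L1 x w hw, L2 x w hw, F.phi2 hw, hmul x w hw _ (F.phi_mem hw), map_mul,
    F.phi2 (hmem x _ (F.phi_mem hw))] at h
  set a := L x w with ha
  set b := L x (φ w) with hb
  have haW : a ∈ W := hmem x w hw
  have hbW : b ∈ W := hmem x _ (F.phi_mem hw)
  have e : a * (φ a * φ b) * (b * φ b) = a * φ a * b := by
    calc a * (φ a * φ b) * (b * φ b) = a * φ a * (φ b * b) * φ b := by group
      _ = a * φ a * (b * φ b) * φ b := by rw [F.comm (F.phi_mem hbW) hbW]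
      _ = a * φ a * b * (φ b * φ b) := by group
      _ = _ := by rw [F.hW2 _ (F.phi_mem hbW), mul_one]
  rw [e] at h
  rw [F.phi2 haW, eq_inv_of_mul_eq_one_right h,
    inv_eq_of_mul_eq_one_right (F.hW2 _ (W.mul_mem haW (F.phi_mem haW)))]

theorem exists_top_level (S : Layer A U W φ k) (hX : IsPGroup 2 X) (hXA : GenByTwist A)
    (hCU : ∀ x : X, (∀ u ∈ U, brk x u = 1) → x ∈ U) (hUtop : U ≠ ⊤) :
    ∃ t L, Lev U k (k - 1) t ∧ Rep U k (k - 1) t L ∧ Twist W φ L ∧ ∀ w ∈ W, L w = 1 → w = 1 := by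
  classical
  have F := S.F
  have hk := S.hk
  have hex : ∃ i, ∃ x, ¬ Lev U k i x := by
    refine ⟨k, ?_⟩
    by_contra h
    push Not at h
    refine hUtop (eq_top_iff.2 fun x _ => hCU x fun u hu => ?_)
    have := h x u hu
    rwa [Nat.sub_self, pow_zero, pow_one] at this
  have h2 : 2 ≤ Nat.find hex := by
    obtain ⟨x, hx⟩ := Nat.find_spec hex
    by_contra hlt
    rcases (show Nat.find hex = 0 ∨ Nat.find hex = 1 by omega) with e | e <;> rw [e] at hx
    · exact hx fun u hu => by rw [Nat.sub_zero]; exact S.hexp _ (S.brk_mem x hu)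
    · exact hx (S.lev_one x)
  have hle : Nat.find hex ≤ k := by
    refine Nat.find_min' hex ?_
    by_contra h
    push Not at h
    refine hUtop (eq_top_iff.2 fun x _ => hCU x fun u hu => ?_)
    have := h x u hu
    rwa [Nat.sub_self, pow_zero, pow_one] at this
  obtain ⟨j, hj⟩ : ∃ j, Nat.find hex = j + 1 := ⟨Nat.find hex - 1, by omega⟩
  obtain ⟨x, hx⟩ := Nat.find_spec hex
  rw [hj] at hx h2 hle
  have hall : ∀ y, Lev U k j y := fun y => by
    have := Nat.find_min hex (show j < Nat.find hex by omega)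
    push Not at this
    exact this y
  obtain ⟨L, hrep, hL⟩ := S.exists_twist hX hXA (by omega) hall x
  have hker : ∀ w ∈ W, L w = 1 → w = 1 := by
    intro c hc hLc
    by_contra hc1
    refine hx fun u hu => ?_
    rw [show k - (j + 1) = k - 1 - j by omega, hrep u hu]
    exact Twist.ker F hL hc hLc hc1 _ (S.theta_mem hu)
  suffices ∀ d, j + d ≤ k - 1 → ∃ t L, Lev U k (j + d) t ∧ Rep U k (j + d) t L ∧ Twist W φ L ∧
      ∀ w ∈ W, L w = 1 → w = 1 by
    obtain ⟨t, L, h⟩ := this (k - 1 - j) (by omega)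
    rw [show j + (k - 1 - j) = k - 1 by omega] at h
    exact ⟨t, L, h⟩
  intro d
  induction d with
  | zero => intro _; exact ⟨x, L, hall x, hrep, hL, hker⟩
  | succ d ih =>
    intro hd
    obtain ⟨t, M, hlev, hrepM, hM, hkerM⟩ := ih (by omega)
    obtain ⟨i, hi⟩ : ∃ i, j + d = i := ⟨_, rfl⟩
    rw [hi] at hlev hrepM
    rw [show j + (d + 1) = i + 1 by omega]
    have hlev2 := S.lev_sq (show i < k by omega) hlev
    have sq_rep : ∀ u ∈ U, ∃ v ∈ U, v ^ 2 ^ (k - 2) = brk t u ^ 2 ^ (k - 2 - i) ∧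
        brk (t * t) u ^ 2 ^ (k - 1 - (i + 1)) = brk t v ^ 2 ^ (k - 2) * M (u ^ 2 ^ (k - 1)) := by
      intro u hu
      obtain ⟨v, hv, hvv⟩ := S.root (k - 2) 2 (brk t u ^ 2 ^ (k - 2 - i)) (U.pow_mem (S.brk_mem t hu) _)
        (by rw [← pow_mul, ← pow_add, show k - 2 - i + 2 = k - i by omega]; exact hlev u hu) (by omega)
      refine ⟨v, hv, hvv, ?_⟩
      rw [show k - 1 - (i + 1) = k - 2 - i by omega, S.brk_pow_comp t t hu, ← hvv, S.brk_pow t hv, mul_assoc, hvv,
        ← pow_two, ← pow_mul, ← pow_succ, show k - 2 - i + 1 = k - 1 - i by omega, hrepM u hu]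
    by_cases hi2 : 2 ≤ i
    · refine ⟨t * t, M, hlev2, fun u hu => ?_, hM, hkerM⟩
      obtain ⟨v, hv, -, h⟩ := sq_rep u hu
      rw [h, show k - 2 = k - i + (i - 2) by omega, pow_add, pow_mul, hlev v hv, one_pow, one_mul]
    · obtain rfl : i = 1 := by omega
      have hM' : Rep U k 2 (t * t) (fun w => M (M w) * M w) := by
        intro u hu
        obtain ⟨v, hv, hvv, h⟩ := sq_rep u hu
        rw [h]
        show _ = M (M (u ^ 2 ^ (k - 1))) * M (u ^ 2 ^ (k - 1))
        congr 1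
        rw [show k - 2 = k - 1 - 1 by omega, hrepM v hv, ← hrepM u hu]
        congr 1
        calc v ^ 2 ^ (k - 1) = (v ^ 2 ^ (k - 2)) ^ 2 := by
              rw [← pow_mul, ← pow_succ, show k - 2 + 1 = k - 1 by omega]
          _ = _ := by
              rw [hvv, ← pow_mul, ← pow_succ]
              congr 2
              omega
      set z := t * t with hz
      refine ⟨z * φ z, fun w => φ (M w), S.lev_mul hlev2 (S.lev_map hlev2 F.hφ), fun u hu => ?_, ?_, ?_⟩
      · have hφz : Lev U k 2 (φ z) := S.lev_map hlev2 F.hφ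
        have hcW := S.gam_mem (show 2 < k by omega) hφz hu
        obtain ⟨u', hu', rfl⟩ : ∃ u' ∈ U, φ u' = u :=
          ⟨(φ⁻¹ : MulAut X) u, S.hUi _ (A.inv_mem F.hφ) u hu, MulAut.apply_inv_self _ _ _⟩
        set w := u' ^ 2 ^ (k - 1) with hw
        have hwW : w ∈ W := S.theta_mem hu'
        show brk (z * φ z) (φ u') ^ 2 ^ (k - 1 - 2) = φ (M ((φ u') ^ 2 ^ (k - 1)))
        rw [S.brk_pow_comp _ _ hu, S.brk_center z hcW, one_mul, hM' _ hu, brk_map, ← map_pow φ (brk z u'),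
          hM' u' hu', ← map_pow φ u', ← hw]
        show M (M (φ w)) * M (φ w) * φ (M (M w) * M w) = φ (M (φ w))
        rw [hM.semi w hwW, hM.semi _ (F.phi_mem (hM.mem w hwW)), hM.semi _ (hM.mem w hwW),
          F.phi3 (F.phi_mem (hM.mem _ (hM.mem w hwW))), map_mul, F.phi3 (hM.mem w hwW), F.phi2 (hM.mem w hwW)]
        set p := φ (M (M w)) with hp
        set q := M w with hq
        have hpW : p ∈ W := F.phi_mem (hM.mem _ (hM.mem w hwW))
        have hqW : q ∈ W := hM.mem w hwW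
        calc p * (q * φ q) * (p * φ q) = p * (q * φ q * p) * φ q := by group
          _ = p * (p * (q * φ q)) * φ q := by rw [F.comm (W.mul_mem hqW (F.phi_mem hqW)) hpW]
          _ = (p * p) * q * (φ q * φ q) := by group
          _ = q := by rw [F.hW2 p hpW, F.hW2 _ (F.phi_mem hqW), one_mul, mul_one]
      · refine ⟨fun w hw => F.phi_mem (hM.mem w hw), fun a ha b hb => ?_, fun w hw => ?_⟩
        · show φ (M (a * b)) = φ (M a) * φ (M b)
          rw [hM.mul a ha b hb, map_mul]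
        · show φ (M (φ w)) = φ (φ (φ (M w)))
          rw [hM.semi w hw]
      · intro w hw h
        exact hkerM w hw (φ.injective (h.trans (map_one φ).symm))

/-- Exponent four: all squares are in the four-group. -/
theorem sq_mem (S : Layer A U W φ k) (hX : IsPGroup 2 X) (hXA : GenByTwist A)
    (hCU : ∀ x : X, (∀ u ∈ U, brk x u = 1) → x ∈ U) (hk2 : k = 2) (x : X) : x * x ∈ W := by
  subst hk2
  have hmem : ∀ u ∈ U, brk x u ∈ W := fun u hu => by
    simpa using S.gam_mem (show 1 < 2 by omega) (S.lev_one x) hu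
  have hxx : x * x ∈ U := hCU _ fun u hu => by
    rw [S.brk_comp x x hu, S.brk_center x (hmem u hu), one_mul, S.F.hW2 _ (hmem u hu)]
  have h4 : ∀ u ∈ U, u * u ∈ W := fun u hu => by simpa [pow_two] using S.theta_mem hu
  by_cases hx : ∀ u ∈ U, brk x u = 1
  · exact h4 x (hCU x hx)
  push Not at hx
  obtain ⟨u, hu, hne⟩ := hx
  obtain ⟨L, hrep, hL⟩ := S.exists_twist hX hXA (show 1 < 2 by omega) S.lev_one x
  refine S.hom1 _ hxx ?_
  by_contra h1
  have h0 : L ((x * x) ^ 2 ^ (2 - 1)) = 1 := by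
    rw [← hrep _ hxx, show brk x (x * x) = 1 by simp only [brk]; group, one_pow]
  refine hne ?_
  have h := hrep u hu
  rw [Twist.ker S.F hL (S.theta_mem hxx) h0 (by simpa [pow_two] using h1) _ (S.theta_mem hu)] at h
  simpa using h

/-- Exponent at least eight is impossible. -/
theorem false_of_three_le (S : Layer A U W φ k) (hX : IsPGroup 2 X) (hXA : GenByTwist A) (hno : NoNormalEight X)
    (hCU : ∀ x : X, (∀ u ∈ U, brk x u = 1) → x ∈ U) (hUtop : U ≠ ⊤) (hk3 : 3 ≤ k) : False := by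
  obtain ⟨t, L, hlev, hrep, hL, hker⟩ := S.exists_top_level hX hXA hCU hUtop
  have F := S.F
  have dt : ∀ u ∈ U, brk t u = L (u ^ 2 ^ (k - 1)) := fun u hu => by
    have h := hrep u hu
    rwa [show k - 1 - (k - 1) = 0 by omega, pow_zero, pow_one] at h
  have dmem : ∀ u ∈ U, brk t u ∈ W := fun u hu => by rw [dt u hu]; exact hL.mem _ (S.theta_mem hu)
  have dsq : ∀ u ∈ U, brk t (u * u) = 1 := fun u hu => by
    rw [S.brk_mul t hu hu, F.hW2 _ (dmem u hu)]
  have htt : t * t ∈ U := hCU _ fun u hu => by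
    rw [S.brk_comp t t hu, S.brk_center t (dmem u hu), one_mul, F.hW2 _ (dmem u hu)]
  obtain ⟨v, hv, hvv⟩ := S.sqroot (k - 1) (t * t) htt (hker _ (S.theta_mem htt) (by
    rw [← dt _ htt]; simp only [brk]; group)) (by omega)
  obtain ⟨r, hr, hrr, hdr⟩ : ∃ r ∈ U, r * r = brk t v⁻¹ ∧ brk t r = 1 := by
    obtain ⟨r0, hr0, h⟩ := S.root 2 1 _ (U.mul_mem (S.hUn.conj_mem _ (U.inv_mem hv) t) (U.inv_mem (U.inv_mem hv)))
      (by rw [pow_one, pow_two]; exact F.hW2 _ (dmem _ (U.inv_mem hv))) (by omega)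
    refine ⟨r0 * r0, U.mul_mem hr0 hr0, ?_, dsq r0 hr0⟩
    rw [show r0 * r0 * (r0 * r0) = r0 ^ 2 ^ 2 by rw [show (2 : ℕ) ^ 2 = 2 + 2 by norm_num, pow_add, pow_two], h]
    rfl
  set u := v⁻¹ * r with hu_def
  have hu : u ∈ U := U.mul_mem (U.inv_mem hv) hr
  have hdu : brk t u = brk t v⁻¹ := by rw [hu_def, S.brk_mul t (U.inv_mem hv) hr, hdr, mul_one]
  set t' := t * u with ht'
  have ht'2 : t' * t' = 1 := by
    have hc : brk t v⁻¹ ∈ W := dmem _ (U.inv_mem hv)
    calc t' * t' = brk t u * (u * (t * t) * u) := by simp only [ht', brk]; group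
      _ = brk t v⁻¹ * ((t * t) * (u * u)) := by
        rw [hdu, S.hUab u hu _ htt, mul_assoc (t * t) u u]
      _ = brk t v⁻¹ * ((v * v) * ((v⁻¹ * v⁻¹) * (r * r))) := by
        have e : u * u = (v⁻¹ * v⁻¹) * (r * r) := by
          rw [← pow_two, ← pow_two, ← pow_two]
          exact S.pw (U.inv_mem hv) hr 2
        rw [e, hvv]
      _ = brk t v⁻¹ * (r * r) := by group
      _ = 1 := by rw [hrr, F.hW2 _ hc]
  have dt' : ∀ z ∈ U, brk t' z = brk t z := by
    intro z hz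
    have h : brk u z = 1 := by
      show u * z * u⁻¹ * z⁻¹ = 1
      rw [S.hUab u hu z hz, mul_inv_cancel_right, mul_inv_cancel]
    rw [ht', S.brk_comp t u hz, h, brk_one, one_mul, mul_one]
  have dsq' : ∀ z ∈ U, brk t' (z * z) = 1 := fun z hz => by rw [dt' _ (U.mul_mem hz hz)]; exact dsq z hz
  have hcomm : ∀ x : X, x * t' * x⁻¹ * t'⁻¹ ∈ W := by
    intro x
    set a := x * t' * x⁻¹ with ha
    have hconj : ∀ z ∈ U, a * z * a⁻¹ = t' * z * t'⁻¹ := by
      intro z hz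
      have hz' : x⁻¹ * z * x ∈ U := by simpa using S.hUn.conj_mem z hz x⁻¹
      have hθ : (x⁻¹ * z * x) ^ 2 ^ (k - 1) = z ^ 2 ^ (k - 1) := by
        have h := conj_pow (i := 2 ^ (k - 1)) (a := x⁻¹) (b := z)
        rw [inv_inv] at h
        rw [h, S.cen (S.theta_mem hz) x⁻¹, inv_mul_cancel_right]
      have h1 : brk t' (x⁻¹ * z * x) = brk t' z := by rw [dt' _ hz', dt' z hz, dt _ hz', dt z hz, hθ]
      have hc : brk t' z ∈ W := by rw [dt' z hz]; exact dmem z hz
      calc a * z * a⁻¹ = x * (brk t' (x⁻¹ * z * x) * (x⁻¹ * z * x)) * x⁻¹ := by simp only [ha, brk]; group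
        _ = x * brk t' z * x⁻¹ * z := by rw [h1]; group
        _ = brk t' z * z := by rw [S.cen hc x, mul_inv_cancel_right]
        _ = _ := by simp only [brk]; group
    set s := t'⁻¹ * a with hs
    have hsU : s ∈ U := hCU s fun z hz => by
      calc brk s z = t'⁻¹ * (a * z * a⁻¹) * t' * z⁻¹ := by simp only [hs, brk]; group
        _ = _ := by rw [hconj z hz]; group
    have hc : brk t' s ∈ W := by rw [dt' s hsU]; exact dmem s hsU
    have haa : a * a = 1 := by
      calc a * a = x * (t' * t') * x⁻¹ := by simp only [ha]; group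
        _ = 1 := by rw [ht'2]; group
    have h : brk t' s * (s * s) = 1 := by
      calc brk t' s * (s * s) = t' * s * t'⁻¹ * s := by simp only [brk]; group
        _ = a * t'⁻¹ * t'⁻¹ * a := by simp only [hs]; group
        _ = a * (t' * t')⁻¹ * a := by group
        _ = 1 := by rw [ht'2, inv_one, mul_one, haa]
    have hss : s * s ∈ W := by
      rw [eq_inv_of_mul_eq_one_right h]; exact W.inv_mem hc
    obtain ⟨q, hq, hqq⟩ := S.sqroot 2 s hsU
      (by rw [show (2 : ℕ) ^ 2 = 2 + 2 by norm_num, pow_add, pow_two]; exact F.hW2 _ hss) (by omega)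
    rw [← hqq, dsq' q hq, one_mul, hqq] at h
    have hsW : s ∈ W := S.hom1 s hsU h
    rw [show a * t'⁻¹ = t' * s * t'⁻¹ by simp only [hs]; group, S.cen hsW t', mul_inv_cancel_right]
    exact hsW
  have htW : t' ∈ W := mem_of_involution hno F.hW4 F.hW2 S.hWc ht'2 hcomm
  obtain ⟨c, hc, hc1⟩ := F.exists_ne
  obtain ⟨z, hz, rfl⟩ := S.theta_surj hc
  refine hc1 (hker _ hc ?_)
  rw [← dt z hz, ← dt' z hz]
  show t' * z * t'⁻¹ * z⁻¹ = 1
  rw [← S.cen htW z, mul_inv_cancel_right, mul_inv_cancel]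

end Layer

end CfsgLib.CFun.NoEight
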