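import Cfsg.Agent.Lib.CFun.OddSigma
import Cfsg.Agent.Lib.PGroup.QBaer

/-!
# The core `M_α` of a maximal subgroup
-/

set_option autoImplicit false
set_option linter.style.haveILetI false
set_option linter.unusedSectionVars false

open Subgroup
open scoped commutatorElement
open CfsgLib.Coprime (conjBy conjBy_eq_self_iff mem_conjBy conj_mem_conjBy)

namespace CfsgLib.CFun

universe u

variable {G : Type u} [Group G] [Finite G] {p : ℕ} [hp : Fact p.Prime] {M : Subgroup G}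

/-- The rank does not grow modulo a normal subgroup of order prime to `p`. -/
theorem pRankLE_quotient_of_not_dvd {K : Subgroup G} [K.Normal] (hK : ¬ p ∣ Nat.card K) {k : ℕ}
    (hr : Cfsg.PRankLE p k G) : Cfsg.PRankLE p k (G ⧸ K) := by
  intro E hEc hEe
  set π := QuotientGroup.mk' K with hπ
  have hEp : IsPGroup p E := fun a => ⟨1, Subtype.ext (by rw [pow_one]; exact hEe a a.2)⟩
  obtain ⟨U, hU, hUE⟩ := CfsgLib.Fusion.exists_pGroup_map_eq π E hEp
    (by rw [MonoidHom.range_eq_top.2 (QuotientGroup.mk'_surjective _)]; exact le_top)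
  have hinj : ∀ {x y : G}, x ∈ U → y ∈ U → π x = π y → x = y := fun {x y} hx hy h => by
    have h1 : x⁻¹ * y ∈ K := (QuotientGroup.eq).1 h
    obtain ⟨n, hn⟩ := hU ⟨_, mul_mem (inv_mem hx) hy⟩
    exact inv_mul_eq_one.1 (orderOf_eq_one_iff.1 (Nat.eq_one_of_dvd_coprimes
      ((hp.out.coprime_iff_not_dvd.2 hK).pow_left n)
      (orderOf_dvd_of_pow_eq_one (congrArg Subtype.val hn)) (Subgroup.orderOf_dvd_natCard _ h1)))
  have hmem : ∀ {x : G}, x ∈ U → π x ∈ E := fun hx => hUE ▸ mem_map_of_mem π hx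
  have h1 := hr U ⟨⟨fun a b => Subtype.ext (hinj (mul_mem a.2 b.2) (mul_mem b.2 a.2) (by
      rw [Subgroup.coe_mul, Subgroup.coe_mul, map_mul, map_mul]
      exact congrArg Subtype.val
        (hEc.is_comm.comm (⟨_, hmem a.2⟩ : E) ⟨_, hmem b.2⟩)))⟩⟩
    (fun a ha => hinj (pow_mem ha p) (one_mem U) (by rw [map_pow, map_one, hEe _ (hmem ha)]))
  refine le_trans (le_of_eq ?_) h1
  rw [← hUE]
  refine Nat.card_congr (Equiv.ofBijective
    (fun x : U => (⟨π x, mem_map_of_mem π x.2⟩ : U.map π)) ⟨fun a b h => ?_, ?_⟩).symm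
  · exact Subtype.ext (hinj a.2 b.2 (congrArg Subtype.val h))
  · rintro ⟨_, x, hx, rfl⟩; exact ⟨⟨x, hx⟩, rfl⟩

/-- The rank of a group of order prime to `p`. -/
theorem pRankLE_of_not_dvd (h : ¬ p ∣ Nat.card G) (k : ℕ) : Cfsg.PRankLE p k G := fun E _ hEe => by
  have h1 : E = ⊥ := (Subgroup.eq_bot_iff_forall E).2 fun x hx => orderOf_eq_one_iff.1
    (Nat.eq_one_of_dvd_coprimes ((hp.out.coprime_iff_not_dvd).2 h)
      (orderOf_dvd_of_pow_eq_one (hEe x hx)) (orderOf_dvd_natCard x))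
  rw [h1, card_bot]
  exact Nat.one_le_pow _ _ hp.out.pos

omit hp in
theorem pRankLE_subgroup {k : ℕ} (hr : Cfsg.PRankLE p k G) (H : Subgroup G) :
    Cfsg.PRankLE p k H := fun E hEc hEe => by
  have h1 := hr (E.map H.subtype) (by haveI := hEc; infer_instance)
    (by rintro _ ⟨a, ha, rfl⟩; rw [← map_pow, hEe a ha, map_one])
  rwa [card_map_of_injective H.subtype_injective] at h1

/-- Adjoining an element of order `p` to an elementary subgroup. -/
theorem elementary_sup_zpowers {A : Subgroup G} (hA : Cfsg.IsElementaryAbelian p A) {u : G}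
    (hu : u ^ p = 1) (huC : u ∈ centralizer (A : Set G)) (hn : u ∉ A) :
    Cfsg.IsElementaryAbelian p (A ⊔ zpowers u) ∧ Nat.card A < Nat.card ↥(A ⊔ zpowers u) := by
  refine ⟨?_, Set.Finite.card_lt_card (Set.toFinite _) (show A < A ⊔ zpowers u from
    lt_of_le_not_ge le_sup_left fun h => hn (h (mem_sup_right (mem_zpowers u))))⟩
  have huN : zpowers u ≤ normalizer (A : Set G) :=
    (zpowers_le.2 huC).trans (CfsgLib.Coprime.centralizer_le_normalizer_self A)
  have hmem : ∀ {w : G}, w ∈ A ⊔ zpowers u → ∃ a ∈ A, ∃ i : ℤ, a * u ^ i = w := fun {w} hw => by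
    rw [← SetLike.mem_coe, coe_mul_of_right_le_normalizer_left _ _ huN] at hw
    obtain ⟨a, ha, _, ⟨i, rfl⟩, rfl⟩ := hw
    exact ⟨a, ha, i, rfl⟩
  have hAA : ∀ {a b : G}, a ∈ A → b ∈ A → Commute a b := fun ha hb =>
    congrArg Subtype.val (hA.1.is_comm.comm (⟨_, ha⟩ : A) ⟨_, hb⟩)
  have hAu : ∀ {a : G}, a ∈ A → ∀ i : ℤ, Commute a (u ^ i) := fun ha i =>
    (show Commute _ u from mem_centralizer_iff.1 huC _ ha).zpow_right i
  refine ⟨⟨⟨fun x y => Subtype.ext ?_⟩⟩, fun w hw => ?_⟩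
  · obtain ⟨a, ha, i, e⟩ := hmem x.2
    obtain ⟨b, hb, j, e'⟩ := hmem y.2
    show (x : G) * y = y * x
    rw [← e, ← e']
    exact (((hAA ha hb).mul_right (hAu ha j)).mul_left
      ((hAu hb i).symm.mul_right (Commute.zpow_zpow_self u i j))).eq
  · obtain ⟨a, ha, i, rfl⟩ := hmem hw
    rw [(hAu ha i).mul_pow, hA.2 a ha, one_mul, ← zpow_natCast, ← zpow_mul, mul_comm, zpow_mul,
      zpow_natCast, hu, one_zpow]

/-- In a group of rank at least three the centralizer of a normal elementary subgroup of order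
`p²` has rank at least three. -/
theorem centralizer_normal_two_rank {Q E : Subgroup G} (hQ : IsPGroup p Q) (hEQ : E ≤ Q)
    (hQE : Q ≤ normalizer (E : Set G)) (hEe : Cfsg.IsElementaryAbelian p E)
    (hE2 : Nat.card E = p ^ 2) (hr : ¬ Cfsg.PRankLE p 2 Q) :
    ¬ Cfsg.PRankLE p 2 (centralizer (E : Set G)) := by
  intro hC
  obtain ⟨V, hVQ, hVe, hV3⟩ := exists_elementary_of_not_pRankLE hr
  set W := V ⊓ centralizer (E : Set G) with hW
  have hWe := isElementaryAbelian_of_le hVe (inf_le_left : W ≤ V)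
  have hWc : p ^ 2 ≤ Nat.card W := by
    have h := card_le_mul_inf_centralizer (hQ.to_le hVQ) (hVQ.trans hQE) hEe hE2
    rw [hV3, pow_succ'] at h
    exact Nat.le_of_mul_le_mul_left h hp.out.pos
  have hWE : W ≤ E := by
    intro u hu
    by_contra hn
    obtain ⟨he, hlt⟩ := elementary_sup_zpowers hEe (hVe.2 u hu.1) hu.2 hn
    exact not_pRankLE_of_elementary
      (sup_le (le_centralizer_of_comm hEe.1) (zpowers_le.2 hu.2)) he (hE2 ▸ hlt) hC
  have hEV : E ≤ V := (eq_of_le_of_card_ge hWE (hE2 ▸ hWc)) ▸ inf_le_left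
  have hVC : V ≤ W := le_inf le_rfl ((le_centralizer_of_comm hVe.1).trans (centralizer_le hEV))
  have h1 := card_le_of_le (hVC.trans hWE)
  rw [hV3, hE2] at h1
  exact absurd h1 (not_le.2 (Nat.pow_lt_pow_right hp.out.one_lt (by norm_num)))

variable (hG : Cfsg.IsMinSimpleOddOrder G)
include hG

omit hp in
/-- The quotient `M/M_α` has all cores of rank at most two. -/
theorem alpha_quotient_pCore (M : Subgroup G) (s : ℕ) (hs : s.Prime) :
    Cfsg.PRankLE s 2 ↥(Cfsg.pCore s (↥M ⧸ Cfsg.piCore (Cfsg.alpha M) ↥M)) ∧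
      (s ∈ Cfsg.alpha M → Cfsg.pCore s (↥M ⧸ Cfsg.piCore (Cfsg.alpha M) ↥M) = ⊥) := by
  haveI : Fact s.Prime := ⟨hs⟩
  haveI := CfsgLib.Coprime.pCore_normal' (G := ↥M ⧸ Cfsg.piCore (Cfsg.alpha M) ↥M) s
  by_cases hsa : s ∈ Cfsg.alpha M
  · have h1 : Cfsg.pCore s (↥M ⧸ Cfsg.piCore (Cfsg.alpha M) ↥M) = ⊥ := by
      rw [eq_bot_iff, ← CfsgLib.Coprime.piCore_quotient_eq_bot (Cfsg.alpha M)]
      exact CfsgLib.Coprime.le_piCore ((CfsgLib.Coprime.isPGroup_iff_isPiNum.1
        (CfsgLib.Coprime.pCore_isPGroup s)).mono (by rintro q rfl; exact hsa))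
    refine ⟨?_, fun _ => h1⟩
    rw [h1]
    exact pRankLE_of_not_dvd (by rw [card_bot, Nat.dvd_one]; exact hs.ne_one) _
  · refine ⟨pRankLE_subgroup (pRankLE_quotient_of_not_dvd
      (fun hd => hsa (CfsgLib.Coprime.piCore_isPiNum _ s hs hd)) ?_) _, fun h => absurd h hsa⟩
    by_contra h
    exact hsa ⟨hs, h⟩

omit hp in
/-- `(M/M_α)'` is nilpotent of order prime to `α(M)`. -/
theorem alpha_quotient_commutator (hM : IsCoatom M) :
    Group.IsNilpotent ↥(commutator (↥M ⧸ Cfsg.piCore (Cfsg.alpha M) ↥M)) ∧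
      ∀ s ∈ Cfsg.alpha M, ¬ s ∣ Nat.card ↥(commutator (↥M ⧸ Cfsg.piCore (Cfsg.alpha M) ↥M)) := by
  haveI : Group.IsSolvable M := ms_solvable hG hM.1
  haveI : Group.IsSolvable (↥M ⧸ Cfsg.piCore (Cfsg.alpha M) ↥M) :=
    Group.isSolvable_of_surjective (QuotientGroup.mk'_surjective _)
  have hodd : Odd (Nat.card (↥M ⧸ Cfsg.piCore (Cfsg.alpha M) ↥M)) :=
    (hG.1.of_dvd_nat (card_subgroup_dvd_card M)).of_dvd_nat (card_quotient_dvd_card _)
  refine ⟨commutator_isNilpotent_of_rank_two hodd fun s hs => (alpha_quotient_pCore hG M s hs).1,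
    fun s hs hd => ?_⟩
  haveI : Fact s.Prime := ⟨hs.1⟩
  obtain ⟨⟨x, hx⟩, hxo⟩ := exists_prime_orderOf_dvd_card' s hd
  rw [Subgroup.orderOf_mk] at hxo
  have hxF := commutator_le_fitting_of_rank_two hodd
    (fun s hs => (alpha_quotient_pCore hG M s hs).1) hx
  have hx' := CfsgLib.PGroup.QBaer.mem_pCore_of_mem_fitting (q := s) (k := 1)
    (by rw [pow_one, ← hxo]; exact pow_orderOf_eq_one x) hxF
  rw [(alpha_quotient_pCore hG M s hs.1).2 hs, mem_bot] at hx'
  rw [hx', orderOf_one] at hxo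
  exact hs.1.one_lt.ne hxo

omit hp in
theorem alpha_dvd_card {q : ℕ} (hq : q ∈ Cfsg.alpha M) : q ∣ Nat.card M := by
  by_contra h
  haveI : Fact q.Prime := ⟨hq.1⟩
  exact hq.2 (pRankLE_of_not_dvd h 2)

/-- A Sylow subgroup of `M` at a prime of `α(M)` lies in a unique maximal subgroup. -/
theorem alpha_sylow_unique (hp' : p ∈ Cfsg.alpha M) (hM : IsCoatom M) (P : Sylow p M) :
    Cfsg.InUniqueMaximal ((P : Subgroup M).map M.subtype) := by
  obtain ⟨V, hVM, hVe, hV3⟩ := exists_elementary_of_not_pRankLE (H := M) hp'.2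
  obtain ⟨P₀, hP₀⟩ := ((isPGroup_of_elementary hVe).of_equiv
    (subgroupOfEquivOfLe hVM).symm).exists_le_sylow
  obtain ⟨m, hm⟩ := MulAction.exists_smul_eq M P₀ P
  refine inUniqueMaximal_mono hG
    (inUniqueMaximal_conjBy hG (unique_elementary_three hG hVe hV3.ge) (m : G)) ?_
    (ne_top_of_le_ne_top hM.1 (map_subtype_le _))
  rw [← hm, Sylow.coe_subgroup_smul]
  rintro _ ⟨v, hv, rfl⟩
  exact ⟨m * ⟨v, hVM hv⟩ * m⁻¹, ⟨⟨v, hVM hv⟩, hP₀ hv, rfl⟩, rfl⟩

omit hp in
/-- `α(M) ⊆ σ(M)`. -/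
theorem alpha_subset_sigma (hM : IsCoatom M) : Cfsg.alpha M ⊆ Cfsg.sigma M := by
  intro q hq
  haveI : Fact q.Prime := ⟨hq.1⟩
  obtain ⟨P⟩ := (inferInstance : Nonempty (Sylow q M))
  have hU := alpha_sylow_unique hG hq hM P
  exact ⟨hq.1, alpha_dvd_card hG hq, P, le_of_unique hG hU hM (map_subtype_le _) le_normalizer
    (ms_normalizer_ne_top hG (ne_bot_of_unique hG hU)
      (ne_top_of_le_ne_top hM.1 (map_subtype_le _)))⟩

/-- The Sylow subgroups at primes of `α(M)` lie in `M'`. -/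
theorem alpha_sylow_le_commutator (hp' : p ∈ Cfsg.alpha M) (hM : IsCoatom M) (P : Sylow p M) :
    (P : Subgroup M) ≤ commutator M := by
  obtain ⟨-, S, hS⟩ := sigma_sylow hG hM (alpha_subset_sigma hG hM hp') P
  have hU : Cfsg.InUniqueMaximal (S : Subgroup G) := hS ▸ alpha_sylow_unique hG hp' hM P
  obtain ⟨hN, hle⟩ := le_commutator_transfer_local hG S (ne_bot_of_unique hG hU)
  set N := normalizer (Cfsg.centerThompsonOf p (S : Subgroup G) : Set G)
  have hSN : (S : Subgroup G) ≤ N :=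
    le_normalizer.trans (normalizer_le_normalizer_centerThompsonOf _)
  have hNM : N ≤ M := le_of_unique hG hU hM (hS.le.trans (map_subtype_le _)) hSN hN
  intro x hx
  have hxS : (x : G) ∈ (S : Subgroup G) := hS.ge (mem_map_of_mem M.subtype hx)
  have h1 : (x : G) ∈ (commutator M).map M.subtype := by
    rw [map_subtype_commutator]
    exact commutator_mono hNM hNM (hle hxS)
  obtain ⟨y, hy, e⟩ := h1
  rwa [← Subtype.ext e]

/-- Sylow subgroups at primes of `α(M)` lie in `M_α`. -/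
theorem alpha_sylow_le_piCore (hp' : p ∈ Cfsg.alpha M) (hM : IsCoatom M) (P : Sylow p M) :
    (P : Subgroup M) ≤ Cfsg.piCore (Cfsg.alpha M) ↥M := by
  set π := QuotientGroup.mk' (Cfsg.piCore (Cfsg.alpha M) ↥M)
  have h1 : (P : Subgroup M).map π ≤ commutator (↥M ⧸ Cfsg.piCore (Cfsg.alpha M) ↥M) := by
    refine (map_mono (alpha_sylow_le_commutator hG hp' hM P)).trans ?_
    rw [_root_.commutator_def, Subgroup.map_commutator, _root_.commutator_def]
    exact commutator_mono le_top le_top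
  have h2 : (P : Subgroup M).map π = ⊥ := by
    rw [← inf_eq_bot_of_isPGroup (P.2.map π) ((alpha_quotient_commutator hG hM).2 p hp')]
    exact (inf_eq_left.2 h1).symm
  rwa [Subgroup.map_eq_bot_iff, QuotientGroup.ker_mk'] at h2

omit hp in
/-- `M_α` is a Hall subgroup of `M` and of `G`. -/
theorem alphaCore_hall (hM : IsCoatom M) :
    Cfsg.IsPiHallOf (Cfsg.alpha M) (Cfsg.alphaCore M) M ∧
      Cfsg.IsPiHall (Cfsg.alpha M) (Cfsg.alphaCore M) := by
  have hle : Cfsg.alphaCore M ≤ M := map_subtype_le _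
  have hπ : ∀ q : ℕ, q.Prime → q ∣ Nat.card (Cfsg.alphaCore M) → q ∈ Cfsg.alpha M := by
    rw [Cfsg.alphaCore, card_map_of_injective M.subtype_injective]
    exact CfsgLib.Coprime.piCore_isPiNum _
  have hrel : ∀ q : ℕ, q.Prime → q ∈ Cfsg.alpha M →
      ¬ q ∣ (Cfsg.alphaCore M).relIndex M := by
    intro q hq hqa hd
    haveI : Fact q.Prime := ⟨hq⟩
    obtain ⟨P⟩ := (inferInstance : Nonempty (Sylow q M))
    refine P.not_dvd_index (hd.trans ?_)
    rw [Cfsg.alphaCore, Subgroup.relIndex, Subgroup.subgroupOf,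
      comap_map_eq_self_of_injective M.subtype_injective]
    exact index_dvd_of_le (alpha_sylow_le_piCore hG hqa hM P)
  refine ⟨⟨hle, hπ, hrel⟩, hπ, fun q hq hqa hd => ?_⟩
  haveI : Fact q.Prime := ⟨hq⟩
  rw [← relIndex_mul_index hle] at hd
  rcases hq.dvd_mul.1 hd with h | h
  · exact hrel q hq hqa h
  · obtain ⟨P⟩ := (inferInstance : Nonempty (Sylow q M))
    obtain ⟨-, S, hS⟩ := sigma_sylow hG hM (alpha_subset_sigma hG hM hqa) P
    exact S.not_dvd_index (h.trans (hS ▸ index_dvd_of_le (map_subtype_le _)))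

omit hp in
/-- `M_α ≤ M_σ`. -/
theorem alphaCore_le_sigmaCore (hM : IsCoatom M) : Cfsg.alphaCore M ≤ Cfsg.sigmaCore M :=
  map_mono (CfsgLib.Coprime.le_piCore
    ((CfsgLib.Coprime.piCore_isPiNum _).mono (alpha_subset_sigma hG hM)))

omit hp in
theorem alpha_quotient_rankLE (hM : IsCoatom M) :
    Cfsg.RankLE 2 (↥M ⧸ Cfsg.piCore (Cfsg.alpha M) ↥M) := by
  intro q hq
  haveI : Fact q.Prime := ⟨hq⟩
  by_cases hqa : q ∈ Cfsg.alpha M
  · refine pRankLE_of_not_dvd (fun hd => ?_) 2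
    obtain ⟨P⟩ := (inferInstance : Nonempty (Sylow q M))
    rw [← index_eq_card] at hd
    exact P.not_dvd_index (hd.trans (index_dvd_of_le (alpha_sylow_le_piCore hG hqa hM P)))
  · refine pRankLE_quotient_of_not_dvd
      (fun hd => hqa (CfsgLib.Coprime.piCore_isPiNum _ q hq hd)) ?_
    by_contra h
    exact hqa ⟨hq, h⟩

omit hp in
theorem alpha_elementary_le_alphaCore (hM : IsCoatom M) {q : ℕ} [Fact q.Prime]
    (hq : q ∈ Cfsg.alpha M) :
    ∃ V : Subgroup G, V ≤ Cfsg.alphaCore M ∧ Cfsg.IsElementaryAbelian q V ∧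
      Nat.card V = q ^ 3 := by
  obtain ⟨V, hVM, hVe, hV3⟩ := exists_elementary_of_not_pRankLE (H := M) hq.2
  obtain ⟨P, hP⟩ := ((isPGroup_of_elementary hVe).of_equiv
    (subgroupOfEquivOfLe hVM).symm).exists_le_sylow
  exact ⟨V, fun v hv => ⟨⟨v, hVM hv⟩, alpha_sylow_le_piCore hG hq hM P (hP hv), rfl⟩, hVe, hV3⟩

omit hp in
/-- Centralizers in `M` of `α(M)'`-subgroups with noncyclic fixed points on `M_α`. -/
theorem alpha_centralizer_unique (hM : IsCoatom M) {X : Subgroup G} (hXM : X ≤ M)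
    (hXα : ∀ q : ℕ, q.Prime → q ∣ Nat.card X → q ∉ Cfsg.alpha M)
    (hr : ¬ Cfsg.RankLE 1 ↥(Cfsg.alphaCore M ⊓ centralizer (X : Set G))) :
    Cfsg.InUniqueMaximal (M ⊓ centralizer (X : Set G)) := by
  simp only [Cfsg.RankLE, not_forall] at hr
  obtain ⟨q, hq, hr⟩ := hr
  haveI : Fact q.Prime := ⟨hq⟩
  obtain ⟨A₀, hA₀, hA₀e, hA₀2⟩ := exists_elementary_of_not_pRankLE hr
  obtain ⟨hA₀α, hA₀X⟩ := le_inf_iff.1 hA₀
  have hA₀p := isPGroup_of_elementary hA₀e
  have hαM : Cfsg.alphaCore M ≤ M := map_subtype_le _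
  have hπ : ∀ s : ℕ, s.Prime → s ∣ Nat.card (Cfsg.alphaCore M) → s ∈ Cfsg.alpha M :=
    (alphaCore_hall hG hM).1.2.1
  have hqd : q ∣ Nat.card A₀ := hA₀2 ▸ dvd_pow_self q (Nat.succ_ne_zero 1)
  have hqα : q ∈ Cfsg.alpha M := hπ q hq (hqd.trans (card_dvd_of_le hA₀α))
  have hq2 : q ≠ 2 := ms_ne_two hG (hqd.trans (card_subgroup_dvd_card A₀))
  have hne : M ⊓ centralizer (X : Set G) ≠ ⊤ := ne_top_of_le_ne_top hM.1 inf_le_left
  have hA₀C : A₀ ≤ M ⊓ centralizer (X : Set G) := le_inf (hA₀α.trans hαM) hA₀X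
  have hA₀ne : A₀ ≠ ⊤ := ne_top_of_le_ne_top hne hA₀C
  have hA₀r : ¬ Cfsg.RankLE 1 A₀ := fun h => not_pRankLE_of_elementary le_rfl hA₀e
    (by rw [hA₀2]; exact Nat.pow_lt_pow_right hq.one_lt (by norm_num)) (h q hq)
  by_cases hC3 : Cfsg.PRankLE q 2 (centralizer (A₀ : Set G))
  swap
  · exact inUniqueMaximal_mono hG
      (uniqueness_theorem hG hA₀ne hA₀r (Or.inr fun h => hC3 (h q hq))) hA₀C hne
  -- elements of order `q` centralizing `A₀` lie in it
  have key : ∀ {u : G}, u ^ q = 1 → u ∈ centralizer (A₀ : Set G) → u ∈ A₀ := by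
    intro u hu huC
    by_contra hn
    obtain ⟨hWe, hlt⟩ := elementary_sup_zpowers hA₀e hu huC hn
    refine not_pRankLE_of_elementary (sup_le (le_centralizer_of_comm hA₀e.1) (zpowers_le.2 huC))
      hWe ?_ hC3
    exact hA₀2 ▸ hlt
  have hXN : X ≤ normalizer (Cfsg.alphaCore M : Set G) :=
    hXM.trans ((normal_subgroupOf_iff_le_normalizer hαM).1 (by
      rw [Cfsg.alphaCore, Subgroup.subgroupOf, comap_map_eq_self_of_injective M.subtype_injective]
      infer_instance))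
  have hcop : (Nat.card X).Coprime (Nat.card (Cfsg.alphaCore M)) :=
    Nat.coprime_of_dvd fun s hs h1 h2 => hXα s hs h1 (hπ s hs h2)
  haveI : Group.IsSolvable M := ms_solvable hG hM.1
  obtain ⟨Q, hQ, hA₀Q, hXQ⟩ := CfsgLib.Coprime.le_invariant_sylow hXN hcop
    (Or.inr (CfsgLib.Coprime.isSolvable_of_le hαM inferInstance)) hA₀α hA₀p
    ((le_centralizer_iff.1 hA₀X).trans (CfsgLib.Coprime.centralizer_le_normalizer_self _))
  have hQp : IsPGroup q Q := hQ.isPGroup
  have hQ3 : ¬ Cfsg.PRankLE q 2 Q := by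
    intro h
    obtain ⟨V, hVα, hVe, hV3⟩ := alpha_elementary_le_alphaCore hG hM hqα
    refine not_pRankLE_of_elementary hVα hVe
      (k := 2) (by rw [hV3]; exact Nat.pow_lt_pow_right hq.one_lt (by norm_num))
      (pRankLE_of_sylow hQ.toSylow ?_)
    rwa [hQ.map_toSylow]
  have hcomm : ∀ {a : G}, a ∈ A₀ → ∀ x ∈ X, a * x = x * a := fun ha x hx =>
    (mem_centralizer_iff.1 (hA₀X ha) x hx).symm
  have hZA : centerSocle Q q ≤ A₀ := fun z hz => key hz.2.1
    (mem_centralizer_iff.2 fun a ha => ((hz.2.2 a (hA₀Q ha)).eq).symm)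
  -- `X` centralizes the upper socle
  have hUC : upperSocle hq hq2 Q ≤ centralizer (X : Set G) := by
    intro u hu
    refine mem_centralizer_iff.2 fun x hx => ?_
    have hxU := le_normalizer_upperSocle hq hq2 Q (hXQ hx)
    have hxu : x * u * x⁻¹ ∈ upperSocle hq hq2 Q := (mem_normalizer_iff.1 hxU u).1 hu
    set v := u⁻¹ * (x * u * x⁻¹) with hv
    have hvU : v ∈ upperSocle hq hq2 Q := mul_mem (inv_mem hu) hxu
    have hvA : v ∈ A₀ := key hvU.2.1 <| mem_centralizer_iff.2 fun a ha => by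
      have hc : ⁅u, a⁆ * x = x * ⁅u, a⁆ := hcomm (hZA (hu.2.2 a (hA₀Q ha))) x hx
      have h1 : x * u * x⁻¹ * a * (x * u * x⁻¹)⁻¹ = u * a * u⁻¹ := by
        calc x * u * x⁻¹ * a * (x * u * x⁻¹)⁻¹ = x * u * (x⁻¹ * (a * x)) * u⁻¹ * x⁻¹ := by group
          _ = x * (⁅u, a⁆ * a) * x⁻¹ := by
            rw [hcomm ha x hx, inv_mul_cancel_left, commutatorElement_def]; group
          _ = x * ⁅u, a⁆ * (a * x⁻¹) := by group
          _ = x * ⁅u, a⁆ * (x⁻¹ * a) := by
            rw [show a * x⁻¹ = x⁻¹ * a from hcomm ha x⁻¹ (inv_mem hx)]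
          _ = ⁅u, a⁆ * x * (x⁻¹ * a) := by rw [hc]
          _ = u * a * u⁻¹ := by rw [commutatorElement_def]; group
      have h2 : v * a * v⁻¹ = a := by
        calc v * a * v⁻¹ = u⁻¹ * (x * u * x⁻¹ * a * (x * u * x⁻¹)⁻¹) * u := by rw [hv]; group
          _ = a := by rw [h1]; group
      calc a * v = v * a * v⁻¹ * v := by rw [h2]
        _ = v * a := by group
    have hvx : v * x = x * v := hcomm hvA x hx
    have hpow : ∀ n : ℕ, x ^ n * u * (x ^ n)⁻¹ = u * v ^ n := by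
      intro n
      induction n with
      | zero => simp
      | succ n ih =>
        calc x ^ (n + 1) * u * (x ^ (n + 1))⁻¹ = x * (x ^ n * u * (x ^ n)⁻¹) * x⁻¹ := by
              rw [pow_succ']; group
          _ = x * u * (v ^ n * x⁻¹) := by rw [ih]; group
          _ = x * u * x⁻¹ * v ^ n := by
            rw [((show Commute v x from hvx).inv_right.pow_left n).eq]; group
          _ = u * v * v ^ n := by rw [hv]; group
          _ = u * v ^ (n + 1) := by rw [pow_succ', mul_assoc]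
    have h1 := hpow (orderOf x)
    rw [pow_orderOf_eq_one, one_mul, inv_one, mul_one] at h1
    have h2 : v ^ orderOf x = 1 := mul_left_cancel (h1.symm.trans (mul_one u).symm)
    have h3 : v = 1 := orderOf_eq_one_iff.1 (Nat.eq_one_of_dvd_coprimes
      ((hq.coprime_iff_not_dvd).2 fun hd => hXα q hq
        (hd.trans (Subgroup.orderOf_dvd_natCard X hx)) hqα)
      (orderOf_dvd_of_pow_eq_one (hA₀e.2 v hvA)) (orderOf_dvd_of_pow_eq_one h2))
    rw [hv, inv_mul_eq_one] at h3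
    exact mul_inv_eq_iff_eq_mul.1 h3.symm
  obtain ⟨E, hEQ, hQE, hEe, hE2⟩ := exists_normal_elementary_two hq2 hQp
    (fun hc => hQ3 (fun F hFc hFe => by
      haveI := hc
      obtain ⟨g, hg⟩ := IsCyclic.exists_generator (α := F)
      have h1 : Nat.card F ∣ q := by
        rw [← orderOf_eq_card_of_forall_mem_zpowers hg]
        exact orderOf_dvd_of_pow_eq_one (Subtype.ext (hFe g g.2))
      exact (Nat.le_of_dvd hq.pos h1).trans (Nat.le_self_pow (by norm_num) q)))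
  have hEU := le_upperSocle_of_normal_two hq2 hQp hEQ hQE hEe hE2
  have hEC : E ≤ M ⊓ centralizer (X : Set G) := le_inf ((hEQ.trans hQ.1).trans hαM) (hEU.trans hUC)
  refine inUniqueMaximal_mono hG (uniqueness_theorem hG (ne_top_of_le_ne_top hne hEC) ?_
    (Or.inr fun h => centralizer_normal_two_rank hQp hEQ hQE hEe hE2 hQ3 (h q hq))) hEC hne
  exact fun h => not_pRankLE_of_elementary le_rfl hEe
    (by rw [hE2]; exact Nat.pow_lt_pow_right hq.one_lt (by norm_num)) (h q hq)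

omit hG hp in
/-- Odd groups of rank one are Z-groups. -/
theorem isZGroup_of_rankLE_one {H : Subgroup G} (hodd : Odd (Nat.card H))
    (h : Cfsg.RankLE 1 H) : IsZGroup H := by
  refine ⟨fun q hq S => ?_⟩
  haveI : Fact q.Prime := ⟨hq⟩
  by_contra hnc
  by_cases hd : q ∣ Nat.card S
  · obtain ⟨E, -, hEe, hE2⟩ := Cfsg.Agent.S0126.result
      (fun e => (Nat.not_even_iff_odd.2 hodd) (even_iff_two_dvd.2
        (e ▸ hd.trans (card_subgroup_dvd_card _)))) S.2 hnc
    have h1 := pRankLE_subgroup (h q hq) (S : Subgroup H) E hEe.1 hEe.2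
    rw [hE2, pow_one] at h1
    exact absurd h1 (not_le.2 (lt_self_pow₀ hq.one_lt (by norm_num)))
  · refine hnc ?_
    haveI : Subsingleton S := (Nat.card_eq_one_iff_unique.1 (by
      obtain ⟨n, hn⟩ := IsPGroup.iff_card.1 S.2
      rcases n with _ | n
      · simpa using hn
      · exact absurd (hn ▸ dvd_pow_self q n.succ_ne_zero) hd)).1
    exact isCyclic_of_subsingleton

/-- A central element of order `p` whose centralizer is not uniquely in `M`. -/
theorem exists_central_not_unique (hM : IsCoatom M) (hpM : p ∣ Nat.card M)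
    (hp' : p ∉ Cfsg.sigma M) (P : Sylow p M) :
    ∃ x : G, x ∈ ((center ↥(P : Subgroup M)).map (P : Subgroup M).subtype).map M.subtype ∧
      orderOf x = p ∧ ¬ (centralizer ({x} : Set G) ≤ M ∧
        ∀ L : Subgroup G, IsCoatom L → centralizer ({x} : Set G) ≤ L → L = M) := by
  by_contra hcon
  push Not at hcon
  set T := (P : Subgroup M).map M.subtype with hT
  have hN : ¬ normalizer (T : Set G) ≤ M := fun h => hp' ⟨hp.out, hpM, P, h⟩
  obtain ⟨g, hg, hgM⟩ := SetLike.not_le_iff_exists.1 hN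
  have hPd : p ∣ Nat.card ↥(P : Subgroup M) := P.dvd_card_of_dvd_card hpM
  haveI : Nontrivial ↥(P : Subgroup M) := Finite.one_lt_card_iff_nontrivial.1
    (lt_of_lt_of_le hp.out.one_lt (Nat.le_of_dvd Nat.card_pos hPd))
  haveI := P.2.center_nontrivial
  have hZd : p ∣ Nat.card (center ↥(P : Subgroup M)) := by
    obtain ⟨n, hn⟩ := IsPGroup.iff_card.1 (P.2.to_subgroup (center ↥(P : Subgroup M)))
    rcases n with _ | n
    · exact absurd hn (by rw [pow_zero]; exact Finite.one_lt_card.ne')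
    · exact hn ▸ dvd_pow_self p n.succ_ne_zero
  obtain ⟨z, hz⟩ := exists_prime_orderOf_dvd_card' p hZd
  set f : ↥(P : Subgroup M) →* G := M.subtype.comp (P : Subgroup M).subtype with hf
  have hfi : Function.Injective f := M.subtype_injective.comp (P : Subgroup M).subtype_injective
  set x := f z with hx
  have hmem : ∀ y : G, y ∈ ((center ↥(P : Subgroup M)).map (P : Subgroup M).subtype).map M.subtype ↔
      y ∈ T ∧ ∀ w ∈ T, w * y = y * w := by
    intro y
    constructor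
    · rintro ⟨_, ⟨c, hc, rfl⟩, rfl⟩
      refine ⟨⟨_, c.2, rfl⟩, ?_⟩
      rintro _ ⟨w, hw, rfl⟩
      exact congrArg f (mem_center_iff.1 hc ⟨w, hw⟩)
    · rintro ⟨⟨c, hc, rfl⟩, hcomm⟩
      exact ⟨c, ⟨⟨c, hc⟩, mem_center_iff.2 fun w => hfi (hcomm (f w) ⟨w, w.2, rfl⟩), rfl⟩, rfl⟩
  have hxZ : x ∈ ((center ↥(P : Subgroup M)).map (P : Subgroup M).subtype).map M.subtype :=
    ⟨_, ⟨_, z.2, rfl⟩, rfl⟩
  have hxo : orderOf x = p := by rw [hx, orderOf_injective f hfi, Subgroup.orderOf_coe, hz]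
  obtain ⟨hxM, hxu⟩ := hcon x hxZ hxo
  obtain ⟨hxT, hxc⟩ := (hmem x).1 hxZ
  have hgx : g * x * g⁻¹ ∈ ((center ↥(P : Subgroup M)).map (P : Subgroup M).subtype).map
      M.subtype := by
    refine (hmem _).2 ⟨(mem_normalizer_iff.1 hg x).1 hxT, fun w hw => ?_⟩
    have hw' : g⁻¹ * w * g ∈ T := by
      have := (mem_normalizer_iff.1 (inv_mem hg) w).1 hw
      rwa [inv_inv] at this
    calc w * (g * x * g⁻¹) = g * (g⁻¹ * w * g * x) * g⁻¹ := by group
      _ = g * (x * (g⁻¹ * w * g)) * g⁻¹ := by rw [hxc _ hw']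
      _ = g * x * g⁻¹ * w := by group
  obtain ⟨-, hgu⟩ := hcon (g * x * g⁻¹) hgx ((by
    rw [← hxo]; exact orderOf_injective (MulAut.conj g).toMonoidHom (MulAut.conj g).injective x))
  refine hgM ?_
  rw [← ms_normalizer_self hG hM, ← conjBy_eq_self_iff]
  refine hgu _ ((OrderIso.isCoatom_iff (MulEquiv.mapSubgroup (MulAut.conj g)) M).2 hM) ?_
  intro c hc
  rw [mem_conjBy]
  refine hxM (mem_centralizer_singleton_iff.2 ?_)
  have h1 : c * (g * x * g⁻¹) = g * x * g⁻¹ * c := mem_centralizer_singleton_iff.1 hc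
  calc g⁻¹ * c * g * x = g⁻¹ * (c * (g * x * g⁻¹)) * g := by group
    _ = g⁻¹ * (g * x * g⁻¹ * c) * g := by rw [h1]
    _ = x * (g⁻¹ * c * g) := by group

omit hp in
/-- The fixed points on `M_α` of such an element form a Z-group. -/
theorem alpha_centralizer_zgroup (hM : IsCoatom M) {X : Subgroup G} (hXM : X ≤ M)
    (hXα : ∀ q : ℕ, q.Prime → q ∣ Nat.card X → q ∉ Cfsg.alpha M) (hX1 : X ≠ ⊥)
    (hbad : ¬ (centralizer (X : Set G) ≤ M ∧
      ∀ L : Subgroup G, IsCoatom L → centralizer (X : Set G) ≤ L → L = M)) :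
    IsZGroup ↥(Cfsg.alphaCore M ⊓ centralizer (X : Set G)) := by
  refine isZGroup_of_rankLE_one (hG.1.of_dvd_nat (card_subgroup_dvd_card _)) ?_
  by_contra hr
  refine hbad ?_
  have hU := alpha_centralizer_unique hG hM hXM hXα hr
  have hC : centralizer (X : Set G) ≠ ⊤ := by
    obtain ⟨⟨x, hx⟩, hx'⟩ := (Subgroup.ne_bot_iff_exists_ne_one).1 hX1
    have hx1 : x ≠ 1 := fun e => hx' (Subtype.ext e)
    exact ne_top_of_le_ne_top (ms_centralizer_singleton_ne_top hG hx1)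
      (centralizer_le (Set.singleton_subset_iff.2 hx))
  exact ⟨le_of_unique hG hU hM inf_le_left inf_le_right hC,
    fun L hL hCL => hU.unique ⟨hL, inf_le_right.trans hCL⟩ ⟨hM, inf_le_left⟩⟩

omit hG hp in
theorem pRankLE_two_of_not_alpha {q : ℕ} (hq : q.Prime) (h : q ∉ Cfsg.alpha M) :
    Cfsg.PRankLE q 2 M := by
  by_contra h2
  exact h ⟨hq, h2⟩

/-- Elementary subgroups of order `p²` of `M` are maximal elementary for `p ∉ σ(M)`. -/
theorem elementary_two_maximal (hM : IsCoatom M) (hr2 : Cfsg.PRankLE p 2 M) {A : Subgroup G}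
    (hAM : A ≤ M) (hAe : Cfsg.IsElementaryAbelian p A) (hA2 : Nat.card A = p ^ 2)
    {B : Subgroup G} (hBe : Cfsg.IsElementaryAbelian p B) (hAB : A ≤ B) : B = A := by
  by_contra hne
  have hlt : p ^ 2 < Nat.card B := hA2 ▸ Set.Finite.card_lt_card (Set.toFinite _)
    (show A < B from lt_of_le_of_ne hAB (Ne.symm hne))
  have hBC : B ≤ centralizer (A : Set G) :=
    (le_centralizer_of_comm hBe.1).trans (centralizer_le hAB)
  have hAU : Cfsg.InUniqueMaximal A := uniqueness_theorem hG (ne_top_of_le_ne_top hM.1 hAM)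
    (fun h => not_pRankLE_of_elementary le_rfl hAe
      (by rw [hA2]; exact Nat.pow_lt_pow_right hp.out.one_lt (by norm_num)) (h p hp.out))
    (Or.inr fun h => not_pRankLE_of_elementary hBC hBe hlt (h p hp.out))
  exact not_pRankLE_of_elementary
    (le_of_unique hG hAU hM hAM hAB (ms_isPGroup_ne_top hG (isPGroup_of_elementary hBe))) hBe hlt hr2

/-- Such primes are not ideal. -/
theorem not_ideal_of_rank_two (hM : IsCoatom M) (hr2 : Cfsg.PRankLE p 2 M)
    (hr1 : ¬ Cfsg.PRankLE p 1 M) : ¬ Cfsg.IsIdealPrime p G := by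
  rintro ⟨-, -, h⟩
  obtain ⟨A, hAM, hAe, hA2⟩ := exists_elementary_of_not_pRankLE hr1
  obtain ⟨S, hAS⟩ := (isPGroup_of_elementary hAe).exists_le_sylow
  obtain ⟨B, -, hBe, hlt⟩ := h S A hAS hAe hA2
  exact hlt.ne' (elementary_two_maximal hG hM hr2 hAM hAe hA2 hBe hlt.le)

/-- A subgroup of order `p` with normalizer in `M`, for `p ∉ σ(M)`. -/
theorem normalizer_prime_subgroup (hM : IsCoatom M) (hp' : p ∉ Cfsg.sigma M) {X : Subgroup G}
    (hX : Nat.card X = p) (hNX : normalizer (X : Set G) ≤ M) :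
    (Cfsg.PRankLE p 2 M ∧ ¬ Cfsg.PRankLE p 1 M) ∧
      ∃ A : Subgroup G, Cfsg.IsElementaryAbelian p A ∧ Nat.card A = p ^ 2 ∧ X ≤ A := by
  have hXM : X ≤ M := le_normalizer.trans hNX
  have hpM : p ∣ Nat.card M := hX ▸ card_dvd_of_le hXM
  have hr2 : Cfsg.PRankLE p 2 M :=
    pRankLE_two_of_not_alpha hp.out fun h => hp' (alpha_subset_sigma hG hM h)
  have hp2 : p ≠ 2 := ms_ne_two hG (hpM.trans (card_subgroup_dvd_card M))
  have hXc : IsCyclic X := isCyclic_of_prime_card hX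
  have hXe : Cfsg.IsElementaryAbelian p X := ⟨inferInstance, fun x hx => by
    rw [← orderOf_dvd_iff_pow_eq_one, ← hX]
    exact Subgroup.orderOf_dvd_natCard X hx⟩
  obtain ⟨P, hXP⟩ := ((isPGroup_of_elementary hXe).of_equiv
    (subgroupOfEquivOfLe hXM).symm).exists_le_sylow
  set T := (P : Subgroup M).map M.subtype with hT
  have hXT : X ≤ T := fun x hx => ⟨⟨x, hXM hx⟩, hXP hx, rfl⟩
  have hTp : IsPGroup p T := P.2.map _
  have hTnc : ¬ IsCyclic T := by
    intro hc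
    refine hp' ⟨hp.out, hpM, P, fun g hg => hNX (conjBy_eq_self_iff.1 ?_)⟩
    have hle : conjBy g X ≤ T := by
      rintro _ ⟨x, hx, rfl⟩
      exact (mem_normalizer_iff.1 hg x).1 (hXT hx)
    refine eq_of_le_of_card_ge ?_ (CfsgLib.Coprime.card_conjBy g X).ge
    intro w hw
    by_contra hwX
    have hwp : w ^ p = 1 := by
      obtain ⟨x, hx, rfl⟩ := hw
      rw [← map_pow, hXe.2 x hx, map_one]
    haveI := hc
    have hcomm : IsMulCommutative T := inferInstance
    obtain ⟨he, hlt⟩ := elementary_sup_zpowers hXe hwp (mem_centralizer_iff.2 fun x hx =>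
      congrArg Subtype.val (hcomm.is_comm.comm (⟨x, hXT hx⟩ : T) ⟨w, hle hw⟩)) hwX
    haveI : IsCyclic ↥(X ⊔ zpowers w) := isCyclic_of_injective
      (inclusion (sup_le hXT (zpowers_le.2 (hle hw)))) (inclusion_injective _)
    refine not_isCyclic_of_elementary he ?_ inferInstance
    obtain ⟨n, hn⟩ := IsPGroup.iff_card.1 (isPGroup_of_elementary he)
    rw [hn, hX] at hlt
    rw [hn]
    exact Nat.pow_le_pow_right hp.out.pos
      ((Nat.pow_lt_pow_iff_right hp.out.one_lt).1 (by rwa [pow_one]))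
  obtain ⟨E, hET, hTE, hEe, hE2⟩ := exists_normal_elementary_two hp2 hTp hTnc
  have hpp : p ^ 1 < p ^ 2 := Nat.pow_lt_pow_right hp.out.one_lt (by norm_num)
  refine ⟨⟨hr2, not_pRankLE_of_elementary (hET.trans (map_subtype_le _)) hEe (hE2 ▸ hpp)⟩, ?_⟩
  have hE1 : E ≠ ⊥ := fun h => by
    rw [h, card_bot] at hE2
    exact (Nat.one_lt_pow (by norm_num) hp.out.one_lt).ne hE2
  obtain ⟨z, ⟨hzE, hzT, hzp, hzc⟩, hz1⟩ := centerSocle_ne_bot hTp hET hTE hE1
  obtain ⟨w, hwp, hwC, hwX, hwM⟩ : ∃ w : G, w ^ p = 1 ∧ w ∈ centralizer (X : Set G) ∧ w ∉ X ∧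
      w ∈ M := by
    by_cases hzX : z ∈ X
    · have hlt : ¬ E ≤ X := fun h => by
        have := card_le_of_le h
        rw [hE2, hX] at this
        exact absurd this (not_le.2 (by rwa [pow_one] at hpp))
      obtain ⟨w, hwE, hwX⟩ := SetLike.not_le_iff_exists.1 hlt
      have hzX' : zpowers z = X := eq_of_le_of_card_ge (zpowers_le.2 hzX) (by
        rw [hX, Nat.card_zpowers, orderOf_eq_prime hzp hz1])
      refine ⟨w, hEe.2 w hwE, mem_centralizer_iff.2 fun x hx => ?_, hwX,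
        map_subtype_le _ (hET hwE)⟩
      rw [← hzX', SetLike.mem_coe] at hx
      obtain ⟨i, rfl⟩ := hx
      exact (((hzc w (hET hwE)).symm).zpow_right i).eq.symm
    · exact ⟨z, hzp, mem_centralizer_iff.2 fun x hx => ((hzc x (hXT hx)).eq).symm, hzX,
        map_subtype_le _ hzT⟩
  obtain ⟨hAe, hlt⟩ := elementary_sup_zpowers hXe hwp hwC hwX
  refine ⟨_, hAe, ?_, le_sup_left⟩
  obtain ⟨n, hn⟩ := IsPGroup.iff_card.1 (isPGroup_of_elementary hAe)
  have hle : p ^ n ≤ p ^ 2 := by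
    by_contra h
    exact not_pRankLE_of_elementary (sup_le hXM (zpowers_le.2 hwM)) hAe
      (by rw [hn]; exact not_le.1 h) hr2
  rw [hX, hn] at hlt
  have h1 : 1 < n := (Nat.pow_lt_pow_iff_right hp.out.one_lt).1 (by rwa [pow_one])
  rw [hn, le_antisymm ((Nat.pow_le_pow_iff_right hp.out.one_lt).1 hle) h1]

end CfsgLib.CFun
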