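import Cfsg.Agent.Lib.CFun.OddMetacyclicAction
import Cfsg.Agent.Lib.CFun.OddRankTwo
import Cfsg.Agent.Lib.CFun.OddAlpha
import Cfsg.Agent.Lib.Coprime.UniqueOrderP
import Cfsg.Agent.Lib.PGroup.NormalRankTwo

/-!
# Narrow `p`-groups

A `p`-group of rank at least three with a maximal elementary abelian subgroup of order `p^2` is
narrow; its coprime operators act through an abelian group of exponent dividing `p - 1`.
-/

set_option autoImplicit false
set_option linter.style.haveILetI false
set_option linter.unusedSectionVars false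

open Subgroup
open scoped commutatorElement

namespace CfsgLib.CFun.Narrow

universe u

variable {R : Type u} [Group R] [Finite R] {p : ℕ} [hp : Fact p.Prime]

/-- The elements of order dividing `p` in the second centre. -/
def omegaSecond (p : ℕ) (R : Type u) [Group R] : Subgroup R :=
  closure {x : R | x ∈ Subgroup.upperCentralSeries R 2 ∧ x ^ p = 1}

/-- The elements of order dividing `p` in the centre. -/
def omegaCenter (p : ℕ) (R : Type u) [Group R] : Subgroup R :=
  closure {x : R | x ∈ center R ∧ x ^ p = 1}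

theorem mem_second_iff {x : R} :
    x ∈ Subgroup.upperCentralSeries R 2 ↔ ∀ y : R, ⁅x, y⁆ ∈ center R := by
  rw [show (2 : ℕ) = 1 + 1 from rfl, Subgroup.mem_upperCentralSeries_succ_iff]
  refine forall_congr' fun y => ?_
  rw [Subgroup.upperCentralSeries_one, commutatorElement_def]

/-- The two omega subgroups consist of elements of order dividing `p`. -/
theorem pow_of_mem_omegaSecond (hp2 : p ≠ 2) {x : R} (hx : x ∈ omegaSecond p R) :
    x ∈ Subgroup.upperCentralSeries R 2 ∧ x ^ p = 1 := by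
  refine closure_induction (fun y hy => hy) ⟨one_mem _, one_pow p⟩ ?_ ?_ hx
  · rintro g b - - ⟨hg2, hgp⟩ ⟨hb2, hbp⟩
    refine ⟨mul_mem hg2 hb2, ?_⟩
    have hc : ∀ y : R, Commute ⁅b⁻¹, g⁻¹⁆ y := fun y =>
      (mem_center_iff.1 (mem_second_iff.1 (inv_mem hb2) g⁻¹) y).symm
    have hbg : b * g = g * b * ⁅b⁻¹, g⁻¹⁆ := by rw [commutatorElement_def]; group
    have hcp : ⁅b⁻¹, g⁻¹⁆ ^ p = 1 := by
      have hn : ∀ n : ℕ, ⁅b⁻¹ ^ n, g⁻¹⁆ = ⁅b⁻¹, g⁻¹⁆ ^ n := by
        intro n
        induction n with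
        | zero => rw [pow_zero, pow_zero, commutatorElement_one_left]
        | succ n ih =>
          rw [pow_succ', commutatorElement_mul_left_eq_conj_mul, ih,
            mem_center_iff.1 (pow_mem (mem_second_iff.1 (inv_mem hb2) g⁻¹) n) b⁻¹,
            mul_inv_cancel_right, ← pow_succ]
      rw [← hn, inv_pow, hbp, inv_one, commutatorElement_one_left]
    obtain ⟨q, hq⟩ := hp.out.dvd_choose_self (show (2 : ℕ) ≠ 0 by norm_num)
      (lt_of_le_of_ne hp.out.two_le (Ne.symm hp2))
    rw [CfsgLib.Coprime.mul_pow_of_central hc hbg, hgp, hbp, hq, pow_mul, hcp, one_pow, one_mul,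
      one_mul]
  · rintro g - ⟨hg2, hgp⟩
    exact ⟨inv_mem hg2, by rw [inv_pow, hgp, inv_one]⟩

theorem pow_of_mem_omegaCenter {x : R} (hx : x ∈ omegaCenter p R) : x ∈ center R ∧ x ^ p = 1 := by
  refine closure_induction (fun y hy => hy) ⟨one_mem _, one_pow p⟩ ?_ ?_ hx
  · rintro g b - - ⟨hg2, hgp⟩ ⟨hb2, hbp⟩
    exact ⟨mul_mem hg2 hb2, by rw [(show Commute g b from mem_center_iff.1 hb2 g).mul_pow, hgp, hbp,
      one_mul]⟩
  · rintro g - ⟨hg2, hgp⟩
    exact ⟨inv_mem hg2, by rw [inv_pow, hgp, inv_one]⟩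

theorem omegaSecond_characteristic : (omegaSecond p R).Characteristic := by
  refine characteristic_iff_map_le.2 fun φ => ?_
  rw [omegaSecond, MonoidHom.map_closure]
  refine closure_mono ?_
  rintro _ ⟨x, ⟨hx, hxp⟩, rfl⟩
  refine ⟨mem_second_iff.2 fun y => ?_, by rw [← map_pow, hxp, map_one]⟩
  obtain ⟨y, rfl⟩ := φ.surjective y
  rw [show ⁅φ.toMonoidHom x, φ y⁆ = φ ⁅x, y⁆ from (map_commutatorElement φ x y).symm]
  refine mem_center_iff.2 fun z => ?_
  obtain ⟨z, rfl⟩ := φ.surjective z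
  rw [← map_mul, ← map_mul, mem_center_iff.1 (mem_second_iff.1 hx y) z]

theorem centralizer_characteristic {W : Subgroup R} (hW : W.Characteristic) :
    (centralizer (W : Set R)).Characteristic := by
  refine characteristic_iff_map_le.2 fun φ => ?_
  rintro _ ⟨x, hx, rfl⟩
  refine mem_centralizer_iff.2 fun w hw => ?_
  have h1 : φ.symm w ∈ W := (characteristic_iff_map_le.1 hW φ.symm) (mem_map_of_mem _ hw)
  have h2 := congrArg φ (mem_centralizer_iff.1 hx _ h1)
  rwa [map_mul, map_mul, MulEquiv.apply_symm_apply] at h2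

variable (hp2 : p ≠ 2) (hR : IsPGroup p R) (hr : ¬ Cfsg.PRankLE p 2 R) {E : Subgroup R}
  (hE : Cfsg.IsElementaryAbelian p E) (hE2 : Nat.card E = p ^ 2)
  (hEmax : ∀ B : Subgroup R, Cfsg.IsElementaryAbelian p B → E ≤ B → B = E)

include hE hEmax in
theorem mem_of_centralizes {x : R} (hx : x ^ p = 1) (hxC : x ∈ centralizer (E : Set R)) : x ∈ E := by
  by_contra hn
  obtain ⟨he, -⟩ := elementary_sup_zpowers hE hx hxC hn
  exact hn (hEmax _ he le_sup_left ▸ mem_sup_right (mem_zpowers x))

include hE hEmax in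
theorem omegaCenter_le : omegaCenter p R ≤ E := fun x hx =>
  mem_of_centralizes hE hEmax (pow_of_mem_omegaCenter hx).2
    (center_le_centralizer _ (pow_of_mem_omegaCenter hx).1)

include hp2 hR hr hE hE2 hEmax

theorem maximal_two :
    ¬ E ≤ centralizer (omegaSecond p R : Set R) ∧
      Nat.card (omegaCenter p R) = p ∧
      (Cfsg.IsElementaryAbelian p (omegaSecond p R) ∧ Nat.card (omegaSecond p R) = p ^ 2) ∧
      (centralizer (omegaSecond p R : Set R)).index = p ∧
      E ⊓ centralizer (omegaSecond p R : Set R) = omegaCenter p R := by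
  classical
  set Z := omegaCenter p R with hZ
  set W := omegaSecond p R with hW
  have hZE : Z ≤ E := omegaCenter_le hE hEmax
  haveI : Nontrivial R := by
    by_contra hnt
    rw [not_nontrivial_iff_subsingleton] at hnt
    refine hr fun A _ _ => ?_
    rw [Nat.card_unique]
    exact Nat.one_le_pow _ _ hp.out.pos
  obtain ⟨z, hz⟩ : ∃ z : R, z ∈ center R ∧ orderOf z = p := by
    obtain ⟨k, hk⟩ := IsPGroup.iff_card.1 (hR.to_subgroup (center R))
    haveI := hR.center_nontrivial
    rcases k with _ | k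
    · have h1 : 1 < Nat.card (center R) := Finite.one_lt_card
      rw [hk, pow_zero] at h1
      omega
    obtain ⟨g, hg⟩ := exists_prime_orderOf_dvd_card' (G := center R) p (hk ▸ dvd_pow_self p k.succ_ne_zero)
    exact ⟨g, g.2, by rw [orderOf_coe, hg]⟩
  have hzZ : z ∈ Z := subset_closure ⟨hz.1, hz.2 ▸ pow_orderOf_eq_one z⟩
  obtain ⟨A, hAc, hAp, hA⟩ : ∃ A : Subgroup R, IsMulCommutative A ∧ (∀ a ∈ A, a ^ p = 1) ∧
      p ^ 2 < Nat.card A := by
    by_contra hcon
    push Not at hcon
    exact hr fun A hAc hAp => hcon A hAc hAp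
  -- `E` is not central
  have hEc : ¬ E ≤ center R := fun h => by
    have hle : A ≤ E := fun x hx => mem_of_centralizes hE hEmax (hAp x hx)
      (mem_centralizer_iff.2 fun y hy => (mem_center_iff.1 (h hy) x).symm)
    exact absurd ((card_le_of_le hle).trans hE2.le) (not_le.2 hA)
  have hZcard : Nat.card Z = p := by
    obtain ⟨k, hk⟩ := IsPGroup.iff_card.1 (hR.to_subgroup Z)
    have h1 : Nat.card Z ≤ p ^ 2 := hE2 ▸ card_le_of_le hZE
    have h2 : p ≤ Nat.card Z := by
      rw [← hz.2, ← Nat.card_zpowers]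
      exact card_le_of_le (zpowers_le.2 hzZ)
    rw [hk] at h1 h2 ⊢
    have hk2 := (Nat.pow_le_pow_iff_right hp.out.one_lt).1 h1
    have hk1 : 1 ≤ k := by
      rcases k with _ | k
      · rw [pow_zero] at h2; exact absurd h2 (not_le.2 hp.out.one_lt)
      · omega
    rcases Nat.lt_or_ge k 2 with hlt | hge
    · rw [show k = 1 by omega, pow_one]
    · refine absurd ?_ hEc
      have h3 : Z = E := eq_of_le_of_card_ge hZE (by rw [hE2, hk]; exact Nat.pow_le_pow_right hp.out.pos hge)
      exact h3 ▸ fun x hx => (pow_of_mem_omegaCenter hx).1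
  -- `E` is not normal
  have hEn : ¬ E.Normal := fun hn => by
    haveI := hn
    have hAe : Cfsg.IsElementaryAbelian p A := ⟨hAc, hAp⟩
    have hc := card_le_mul_inf_centralizer (hR.to_subgroup A)
      (show A ≤ normalizer (E : Set R) by rw [normalizer_eq_top]; exact le_top) hE hE2
    have hle : A ⊓ centralizer (E : Set R) ≤ E := fun x hx =>
      mem_of_centralizes hE hEmax (hAp x hx.1) hx.2
    obtain ⟨a, ha⟩ := IsPGroup.iff_card.1 (hR.to_subgroup A)
    rw [ha] at hA hc
    have ha3 := (Nat.pow_lt_pow_iff_right hp.out.one_lt).1 hA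
    have h4 : p ^ 3 ≤ p * Nat.card ↥(A ⊓ centralizer (E : Set R)) :=
      (Nat.pow_le_pow_right hp.out.pos ha3).trans hc
    rw [pow_succ'] at h4
    have h5 : A ⊓ centralizer (E : Set R) = E := eq_of_le_of_card_ge hle
      (hE2 ▸ Nat.le_of_mul_le_mul_left h4 hp.out.pos)
    have hEA : E ≤ A := h5 ▸ inf_le_left
    have h6 := hEmax A hAe hEA
    rw [← h6, ha] at hE2
    have := Nat.pow_right_injective hp.out.two_le hE2
    omega
  have hZW : Z ≤ W := closure_mono fun x hx =>
    ⟨mem_second_iff.2 fun y => by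
      rw [show ⁅x, y⁆ = 1 from commutatorElement_eq_one_iff_mul_comm.2 (mem_center_iff.1 hx.1 y).symm]
      exact one_mem _, hx.2⟩
  have hcomZ : ∀ x ∈ W, ∀ y : R, ⁅x, y⁆ ∈ Z := fun x hx y => by
    obtain ⟨hx2, hxp⟩ := pow_of_mem_omegaSecond hp2 hx
    have hc := mem_second_iff.1 hx2 y
    refine subset_closure ⟨hc, ?_⟩
    have hn : ∀ n : ℕ, ⁅x ^ n, y⁆ = ⁅x, y⁆ ^ n := by
      intro n
      induction n with
      | zero => rw [pow_zero, pow_zero, commutatorElement_one_left]
      | succ n ih =>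
        rw [pow_succ', commutatorElement_mul_left_eq_conj_mul, ih,
          mem_center_iff.1 (pow_mem hc n) x, mul_inv_cancel_right, ← pow_succ]
    rw [← hn, hxp, commutatorElement_one_left]
  have hWE : ¬ E ≤ W := fun h => hEn ⟨fun x hx g => by
    have h1 : ⁅x, g⁆⁻¹ * x ∈ E := mul_mem (inv_mem (hZE (hcomZ x (h hx) g))) hx
    rwa [commutatorElement_def, mul_inv_rev, mul_inv_rev, mul_inv_rev, inv_inv, inv_inv,
      show g * (x * (g⁻¹ * x⁻¹)) * x = g * x * g⁻¹ by group] at h1⟩
  -- an element of `E` outside `Z` generates `E` with it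
  obtain ⟨e, heE, heZ⟩ : ∃ e ∈ E, e ∉ Z := by
    refine SetLike.exists_of_lt (lt_of_le_of_ne hZE fun h => ?_)
    have h2 := hE2
    rw [← h, hZcard] at h2
    nth_rewrite 1 [← pow_one p] at h2
    exact absurd (Nat.pow_right_injective hp.out.two_le h2) (by norm_num)
  have hgen : zpowers e ⊔ Z = E := by
    refine eq_of_le_of_card_ge (sup_le (zpowers_le.2 heE) hZE) ?_
    obtain ⟨k, hk⟩ := IsPGroup.iff_card.1 (hR.to_subgroup (zpowers e ⊔ Z))
    have h1 : Nat.card Z < Nat.card ↥(zpowers e ⊔ Z) := Set.Finite.card_lt_card (Set.toFinite _)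
      (show Z < zpowers e ⊔ Z from lt_of_le_not_ge le_sup_right fun h =>
        heZ (h (mem_sup_left (mem_zpowers e))))
    rw [hZcard, hk] at h1
    nth_rewrite 1 [← pow_one p] at h1
    rw [hE2, hk]
    exact Nat.pow_le_pow_right hp.out.pos ((Nat.pow_lt_pow_iff_right hp.out.one_lt).1 h1)
  have hcent : ∀ x : R, Commute x e → x ∈ centralizer (E : Set R) := fun x hx => by
    refine le_centralizer_iff.1 (?_ : E ≤ centralizer (zpowers x : Set R)) (mem_zpowers x)
    rw [← hgen]
    refine sup_le (zpowers_le.2 (mem_centralizer_iff.2 fun y hy => ?_))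
      (fun w hw => center_le_centralizer _ (pow_of_mem_omegaCenter hw).1)
    obtain ⟨i, rfl⟩ := hy
    exact (hx.zpow_left i).eq
  have hWCE : W ⊓ centralizer (E : Set R) = Z := by
    refine le_antisymm ?_ (le_inf hZW fun x hx => center_le_centralizer _ (pow_of_mem_omegaCenter hx).1)
    have h1 : W ⊓ centralizer (E : Set R) ≤ E := fun x hx =>
      mem_of_centralizes hE hEmax (pow_of_mem_omegaSecond hp2 hx.1).2 hx.2
    by_contra hn
    obtain ⟨x, hx, hxZ⟩ := SetLike.not_le_iff_exists.1 hn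
    refine hWE ?_
    have hxE : x ∈ E := h1 hx
    have h2 : zpowers x ⊔ Z = E := by
      refine eq_of_le_of_card_ge (sup_le (zpowers_le.2 hxE) hZE) ?_
      obtain ⟨k, hk⟩ := IsPGroup.iff_card.1 (hR.to_subgroup (zpowers x ⊔ Z))
      have h3 : Nat.card Z < Nat.card ↥(zpowers x ⊔ Z) := Set.Finite.card_lt_card (Set.toFinite _)
        (show Z < zpowers x ⊔ Z from lt_of_le_not_ge le_sup_right fun h =>
          hxZ (h (mem_sup_left (mem_zpowers x))))
      rw [hZcard, hk] at h3
      nth_rewrite 1 [← pow_one p] at h3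
      rw [hE2, hk]
      exact Nat.pow_le_pow_right hp.out.pos ((Nat.pow_lt_pow_iff_right hp.out.one_lt).1 h3)
    exact h2 ▸ sup_le (zpowers_le.2 hx.1) hZW
  -- `W` has order at most `p^2`
  have hWle : Nat.card W ≤ p ^ 2 := by
    let f : W →* R := MonoidHom.mk' (fun w => ⁅(w : R), e⁆) fun a b => by
      show ⁅(a : R) * b, e⁆ = ⁅(a : R), e⁆ * ⁅(b : R), e⁆
      have hcb := (pow_of_mem_omegaCenter (hcomZ b b.2 e)).1
      rw [commutatorElement_mul_left_eq_conj_mul, mem_center_iff.1 hcb (a : R), mul_inv_cancel_right,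
        mem_center_iff.1 hcb ⁅(a : R), e⁆]
    have hk : f.ker.map W.subtype ≤ W ⊓ centralizer (E : Set R) := by
      rintro _ ⟨w, hw, rfl⟩
      exact ⟨w.2, hcent _ (commutatorElement_eq_one_iff_mul_comm.1 hw)⟩
    have hr' : f.range ≤ Z := by
      rintro _ ⟨w, rfl⟩
      exact hcomZ w w.2 e
    have h1 := card_le_of_le hk
    rw [card_map_of_injective W.subtype_injective, hWCE, hZcard] at h1
    have h2 := card_le_of_le hr'
    rw [hZcard] at h2
    rw [← f.ker.card_mul_index, index_ker, sq]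
    exact Nat.mul_le_mul h1 h2
  have hnc : ¬ IsCyclic R := fun hc => hr fun B _ hBp => by
    haveI := hc
    exact (CfsgLib.MetacyclicOmega.card_pow_eq_one_le (A := (⊤ : Subgroup R)) B le_top hBp).trans
      (Nat.le_self_pow (by norm_num) p)
  obtain ⟨B, -, hBn, hBe, hB2⟩ := CfsgLib.PGroup.exists_normal_rank_two hR hp2 ⊤ (fun hc => hnc
    ((Subgroup.topEquiv (G := R)).isCyclic.1 hc))
  have hBW : B ≤ W := by
    haveI := hBn
    haveI : Group.IsNilpotent R := hR.isNilpotent
    intro b hb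
    refine subset_closure ⟨mem_second_iff.2 fun y => ?_, hBe.2 b hb⟩
    -- `[B, R]` is central, having order at most `p`
    have hlt : ⁅B, (⊤ : Subgroup R)⁆ < B := by
      refine lt_of_le_of_ne (commutator_le_left B ⊤) fun h => ?_
      have hle : ∀ n, B ≤ (⊤ : Subgroup R).lowerCentralSeries n := by
        intro n
        induction n with
        | zero => rw [Subgroup.lowerCentralSeries_zero]; exact le_top
        | succ n ih =>
          rw [Subgroup.lowerCentralSeries_succ, ← h]
          exact commutator_mono ih le_rfl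
      obtain ⟨n, hn⟩ := (Subgroup.isNilpotent_iff_lowerCentralSeries ⊤).1
        (Group.isNilpotent_top.2 (inferInstance : Group.IsNilpotent R))
      rw [le_bot_iff.1 ((hle n).trans hn.le), card_bot] at hB2
      exact absurd hB2.symm (ne_of_gt (Nat.one_lt_pow (by norm_num) hp.out.one_lt))
    have h2 : Nat.card ↥⁅B, (⊤ : Subgroup R)⁆ ≤ p := by
      obtain ⟨k, hk⟩ := IsPGroup.iff_card.1 (hR.to_subgroup ⁅B, (⊤ : Subgroup R)⁆)
      have h3 := Set.Finite.card_lt_card (Set.toFinite _) hlt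
      rw [show Nat.card ((⁅B, (⊤ : Subgroup R)⁆ : Subgroup R) : Set R) = Nat.card ↥⁅B, (⊤ : Subgroup R)⁆ from rfl,
        show Nat.card (B : Set R) = Nat.card B from rfl, hk, hB2] at h3
      rw [hk]
      calc p ^ k ≤ p ^ 1 := Nat.pow_le_pow_right hp.out.pos
            (Nat.le_of_lt_succ ((Nat.pow_lt_pow_iff_right hp.out.one_lt).1 h3))
        _ = p := pow_one p
    exact CfsgLib.MetacyclicOmega.le_center_of_card_le hR _ h2
      (commutator_mem_commutator hb (mem_top y))
  have hWeq : B = W := eq_of_le_of_card_ge hBW (hB2 ▸ hWle)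
  have hWe : Cfsg.IsElementaryAbelian p W := hWeq ▸ hBe
  have hW2 : Nat.card W = p ^ 2 := hWeq ▸ hB2
  set T := centralizer (W : Set R)
  have hET : ¬ E ≤ T := fun h => by
    have h1 : W ≤ centralizer (E : Set R) := le_centralizer_iff.1 h
    rw [inf_eq_left.2 h1] at hWCE
    rw [hWCE, hZcard] at hW2
    nth_rewrite 1 [← pow_one p] at hW2
    exact absurd (Nat.pow_right_injective hp.out.two_le hW2) (by norm_num)
  haveI hWn : W.Normal := hWeq ▸ hBn
  have hidx : T.index = p := by
    have hc := card_le_mul_inf_centralizer (T := (⊤ : Subgroup R)) (hR.to_subgroup ⊤)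
      (show (⊤ : Subgroup R) ≤ normalizer (W : Set R) by rw [normalizer_eq_top]) hWe hW2
    rw [top_inf_eq, card_top, ← T.card_mul_index, mul_comm p] at hc
    have h1 : T.index ≤ p := Nat.le_of_mul_le_mul_left hc Nat.card_pos
    obtain ⟨k, hk⟩ := IsPGroup.iff_card.1 hR
    obtain ⟨j, -, hj⟩ := (Nat.dvd_prime_pow hp.out).1 (hk ▸ T.index_dvd_card)
    rcases j with _ | j
    · exact absurd (fun x _ => index_eq_one.1 (hj.trans (pow_zero p)) ▸ mem_top x) hET
    · rw [hj] at h1 ⊢
      exact le_antisymm h1 (Nat.le_self_pow j.succ_ne_zero p)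
  refine ⟨hET, hZcard, ⟨hWe, hW2⟩, hidx, ?_⟩
  symm
  refine eq_of_le_of_card_ge (le_inf hZE fun x hx => center_le_centralizer _ (pow_of_mem_omegaCenter hx).1) ?_
  obtain ⟨k, hk⟩ := IsPGroup.iff_card.1 (hR.to_subgroup (E ⊓ T))
  have h3 := Set.Finite.card_lt_card (Set.toFinite _)
    (show E ⊓ T < E from lt_of_le_not_ge inf_le_left fun h => hET (h.trans inf_le_right))
  rw [show Nat.card ((E ⊓ T : Subgroup R) : Set R) = Nat.card ↥(E ⊓ T) from rfl,
    show Nat.card (E : Set R) = Nat.card E from rfl, hk, hE2] at h3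
  rw [hk, hZcard]
  calc p ^ k ≤ p ^ 1 := Nat.pow_le_pow_right hp.out.pos
        (Nat.le_of_lt_succ ((Nat.pow_lt_pow_iff_right hp.out.one_lt).1 h3))
    _ = p := pow_one p

/-- An element of `E` outside `T` has a thin centralizer in `T`. -/
theorem exists_thin : ∃ e ∈ E, e ∉ centralizer (omegaSecond p R : Set R) ∧
    centralizer ({e} : Set R) = centralizer (E : Set R) ∧
    ∀ x ∈ centralizer (omegaSecond p R : Set R), Commute x e → x ^ p = 1 → x ∈ omegaCenter p R := by
  obtain ⟨hET, hZ, -, -, hinf⟩ := maximal_two hp2 hR hr hE hE2 hEmax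
  obtain ⟨e, heE, heT⟩ := SetLike.not_le_iff_exists.1 hET
  have hgen : zpowers e ⊔ omegaCenter p R = E := by
    refine eq_of_le_of_card_ge (sup_le (zpowers_le.2 heE) (omegaCenter_le hE hEmax)) ?_
    obtain ⟨k, hk⟩ := IsPGroup.iff_card.1 (hR.to_subgroup (zpowers e ⊔ omegaCenter p R))
    have h3 : Nat.card (omegaCenter p R) < Nat.card ↥(zpowers e ⊔ omegaCenter p R) :=
      Set.Finite.card_lt_card (Set.toFinite _)
        (show omegaCenter p R < zpowers e ⊔ omegaCenter p R from lt_of_le_not_ge le_sup_right fun h =>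
          heT ((hinf.ge (h (mem_sup_left (mem_zpowers e)))).2))
    rw [hZ, hk] at h3
    nth_rewrite 1 [← pow_one p] at h3
    rw [hE2, hk]
    exact Nat.pow_le_pow_right hp.out.pos ((Nat.pow_lt_pow_iff_right hp.out.one_lt).1 h3)
  have hce : centralizer ({e} : Set R) = centralizer (E : Set R) := by
    refine le_antisymm ?_ (centralizer_le (by simpa using heE))
    intro x hx
    refine le_centralizer_iff.1 (?_ : E ≤ centralizer (zpowers x : Set R)) (mem_zpowers x)
    rw [← hgen]
    refine sup_le (zpowers_le.2 (mem_centralizer_iff.2 fun y hy => ?_))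
      (fun w hw => center_le_centralizer _ (pow_of_mem_omegaCenter hw).1)
    obtain ⟨i, rfl⟩ := hy
    exact ((show Commute x e from mem_centralizer_singleton_iff.1 hx).zpow_left i).eq
  refine ⟨e, heE, heT, hce, fun x hxT hxe hxp => hinf ▸ ⟨mem_of_centralizes hE hEmax hxp ?_, hxT⟩⟩
  rw [← hce, mem_centralizer_singleton_iff]
  exact hxe

/-- Such a group is narrow. -/
theorem isNarrow : Cfsg.IsNarrow p R := by
  obtain ⟨hET, hZ, -, hidx, hinf⟩ := maximal_two hp2 hR hr hE hE2 hEmax
  obtain ⟨e, heE, heT, hce, hthin⟩ := exists_thin hp2 hR hr hE hE2 hEmax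
  set T := centralizer (omegaSecond p R : Set R)
  have he1 : e ≠ 1 := fun h => heT (h ▸ one_mem _)
  have heo : orderOf e = p := orderOf_eq_prime (hE.2 e heE) he1
  refine Or.inr ⟨zpowers e, T ⊓ centralizer ({e} : Set R), by rw [Nat.card_zpowers, heo], ?_, ?_, ?_, ?_⟩
  · refine CfsgLib.Coprime.isCyclic_of_unique_odd hp2 (hR.to_subgroup _)
      fun x y hx hy hx1 => ?_
    have hmem : ∀ {w : ↥(T ⊓ centralizer ({e} : Set R))}, w ^ p = 1 → (w : R) ∈ omegaCenter p R :=
      fun {w} hw => hthin w w.2.1 (mem_centralizer_singleton_iff.1 w.2.2) (congrArg Subtype.val hw)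
    have h1 : zpowers (x : R) = omegaCenter p R := eq_of_le_of_card_ge (zpowers_le.2 (hmem hx)) (by
      rw [hZ, Nat.card_zpowers, orderOf_coe, orderOf_eq_prime hx hx1])
    obtain ⟨i, hi⟩ := h1 ▸ hmem hy
    exact ⟨i, Subtype.ext (by rw [Subgroup.coe_zpow]; exact hi)⟩
  · refine le_bot_iff.1 fun x hx => ?_
    by_contra hx1
    have hxo : zpowers x = zpowers e := eq_of_le_of_card_ge (zpowers_le.2 hx.1) (by
      have h := card_dvd_of_le (zpowers_le.2 hx.1)
      rw [Nat.card_zpowers, Nat.card_zpowers, heo] at h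
      rw [Nat.card_zpowers, Nat.card_zpowers, heo]
      rcases (Nat.dvd_prime hp.out).1 h with h | h
      · exact absurd (mem_bot.2 (orderOf_eq_one_iff.1 h)) hx1
      · exact h.ge)
    exact heT ((zpowers_le.2 hx.2.1) (hxo.ge (mem_zpowers e)))
  · intro a ha b hb
    obtain ⟨i, rfl⟩ := ha
    exact ((show Commute b e from mem_centralizer_singleton_iff.1 hb.2).zpow_right i).symm.eq
  · have hC : centralizer (zpowers e : Set R) = centralizer ({e} : Set R) := by
      rw [zpowers_eq_closure, centralizer_closure]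
    rw [hC]
    refine le_antisymm (sup_le (zpowers_le.2 (mem_centralizer_singleton_iff.2 rfl)) inf_le_right)
      fun x hx => ?_
    -- `T` has index `p`
    have hTn : T.Normal := normal_of_characteristic T (h := centralizer_characteristic omegaSecond_characteristic)
    haveI := hTn
    haveI : IsCyclic (R ⧸ T) := isCyclic_of_prime_card (p := p) (by rw [← index_eq_card, hidx])
    have heq : (e : R ⧸ T) ≠ 1 := fun h => heT ((QuotientGroup.eq_one_iff e).1 h)
    have hgenq : zpowers (e : R ⧸ T) = ⊤ :=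
      zpowers_eq_top_of_prime_card (p := p) (by rw [← index_eq_card, hidx]) heq
    obtain ⟨i, hi⟩ := mem_zpowers_iff.1 (hgenq.ge (mem_top (x : R ⧸ T)))
    rw [← QuotientGroup.mk_zpow, QuotientGroup.eq] at hi
    rw [show x = e ^ i * ((e ^ i)⁻¹ * x) by group]
    refine mul_mem (mem_sup_left (zpow_mem (mem_zpowers e) i)) (mem_sup_right ⟨hi, ?_⟩)
    exact (centralizer ({e} : Set R)).mul_mem ((centralizer ({e} : Set R)).inv_mem
      ((centralizer ({e} : Set R)).zpow_mem (mem_centralizer_singleton_iff.2 rfl) i)) hx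

omit hE hE2 hEmax in
/-- A narrow group of rank at least three has a maximal elementary subgroup of order `p^2`. -/
theorem exists_maximal_of_isNarrow (hn : Cfsg.IsNarrow p R) :
    ∃ E : Subgroup R, Cfsg.IsElementaryAbelian p E ∧ Nat.card E = p ^ 2 ∧
      ∀ B : Subgroup R, Cfsg.IsElementaryAbelian p B → E ≤ B → B = E := by
  obtain ⟨R₀, R₁, hR₀, hR₁, hdisj, hcomm, hsup⟩ := hn.resolve_left hr
  haveI : IsCyclic R₀ := isCyclic_of_prime_card hR₀
  obtain ⟨g, hg⟩ := IsCyclic.exists_generator (α := R₀)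
  have hgo : orderOf (g : R) = p := by
    rw [orderOf_coe, orderOf_eq_card_of_forall_mem_zpowers hg, hR₀]
  have hgp : (g : R) ^ p = 1 := hgo ▸ pow_orderOf_eq_one _
  have hR₁1 : R₁ ≠ ⊥ := by
    intro h
    rw [h, sup_bot_eq] at hsup
    have hgc : (g : R) ∈ center R := by
      obtain ⟨z, hz⟩ : ∃ z : R, z ∈ center R ∧ z ≠ 1 := by
        haveI : Nontrivial R := ⟨⟨(g : R), 1, fun e => by rw [e, orderOf_one] at hgo; exact hp.out.one_lt.ne hgo⟩⟩
        haveI := hR.center_nontrivial
        obtain ⟨z, hz⟩ := exists_ne (1 : center R)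
        exact ⟨z, z.2, fun e => hz (Subtype.ext e)⟩
      have h2 : zpowers z = R₀ := eq_of_le_of_card_ge
        (zpowers_le.2 (hsup.ge (center_le_centralizer _ hz.1))) (by
          have h3 := card_dvd_of_le (zpowers_le.2 (hsup.ge (center_le_centralizer _ hz.1)) : zpowers z ≤ R₀)
          rw [hR₀] at h3 ⊢
          rcases (Nat.dvd_prime hp.out).1 h3 with h3 | h3
          · exact absurd (zpowers_eq_bot.1 (card_eq_one.1 h3)) hz.2
          · exact h3.ge)
      exact (zpowers_le.2 hz.1) (h2.ge g.2)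
    have hle : (⊤ : Subgroup R) ≤ R₀ := fun x _ => hsup.ge (mem_centralizer_iff.2 fun y hy => by
      obtain ⟨i, hi⟩ := hg ⟨y, hy⟩
      rw [show y = (g : R) ^ i from (congrArg Subtype.val hi).symm]
      exact ((show Commute x (g : R) from mem_center_iff.1 hgc x).zpow_right i).symm.eq)
    refine hr fun A _ _ => ?_
    calc Nat.card A ≤ Nat.card R₀ := card_le_of_le (le_top.trans hle)
      _ = p := hR₀
      _ ≤ p ^ 2 := Nat.le_self_pow (by norm_num) p
  obtain ⟨h, hh, hho⟩ : ∃ h ∈ R₁, orderOf h = p := by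
    obtain ⟨k, hk⟩ := IsPGroup.iff_card.1 (hR.to_subgroup R₁)
    rcases k with _ | k
    · exact absurd (card_eq_one.1 (hk.trans (pow_zero p))) hR₁1
    obtain ⟨h, hh⟩ := exists_prime_orderOf_dvd_card' (G := R₁) p (hk ▸ dvd_pow_self p k.succ_ne_zero)
    exact ⟨h, h.2, by rw [orderOf_coe, hh]⟩
  have hR₀e : Cfsg.IsElementaryAbelian p R₀ := ⟨⟨⟨fun a b => IsCyclic.commutative.is_comm.comm a b⟩⟩,
    fun a ha => hR₀ ▸ (congrArg Subtype.val (pow_card_eq_one' (x := (⟨a, ha⟩ : R₀))))⟩
  have hnh : h ∉ R₀ := fun hn => by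
    have h1 : h ∈ R₀ ⊓ R₁ := ⟨hn, hh⟩
    rw [hdisj, mem_bot] at h1
    rw [h1, orderOf_one] at hho
    exact hp.out.one_lt.ne hho
  obtain ⟨hEe, hEc⟩ := elementary_sup_zpowers hR₀e (hho ▸ pow_orderOf_eq_one h)
    (mem_centralizer_iff.2 fun a ha => hcomm a ha h hh) hnh
  set E' := R₀ ⊔ zpowers h
  have key : ∀ {x : R}, x ∈ centralizer (R₀ : Set R) → x ^ p = 1 → x ∈ E' := by
    intro x hx hxp
    have hR₁n : R₁ ≤ normalizer (R₀ : Set R) := fun b hb =>
      CfsgLib.Coprime.centralizer_le_normalizer_self R₀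
        (mem_centralizer_iff.2 fun a ha => hcomm a ha b hb)
    obtain ⟨a, ha, b, hb, rfl⟩ := CfsgLib.Coprime.mem_sup_exists hR₁n (hsup.ge hx)
    rw [(show Commute a b from hcomm a ha b hb).mul_pow, hR₀e.2 a ha, one_mul] at hxp
    refine mul_mem (mem_sup_left ha) (mem_sup_right ?_)
    have hW : Nat.card ↥(zpowers h ⊔ zpowers b) ≤ p := by
      haveI := hR₁
      refine CfsgLib.MetacyclicOmega.card_pow_eq_one_le (A := R₁) _
        (sup_le (zpowers_le.2 hh) (zpowers_le.2 hb)) fun w hw => ?_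
      have hcm : Commute h b := congrArg Subtype.val (IsCyclic.commutative.is_comm.comm (⟨h, hh⟩ : R₁) ⟨b, hb⟩)
      obtain ⟨_, ⟨i, rfl⟩, _, ⟨j, rfl⟩, rfl⟩ := CfsgLib.Coprime.mem_sup_exists
        ((zpowers_le.2 (mem_centralizer_iff.2 fun y hy => by
          obtain ⟨i, rfl⟩ := hy
          exact (hcm.zpow_left i).eq)).trans (CfsgLib.Coprime.centralizer_le_normalizer_self _)) hw
      show (h ^ i * b ^ j) ^ p = 1
      rw [(hcm.zpow_zpow i j).mul_pow, ← zpow_natCast, ← zpow_natCast, ← zpow_mul, ← zpow_mul,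
        mul_comm i, mul_comm j, zpow_mul, zpow_mul, zpow_natCast, zpow_natCast, hxp,
        show h ^ p = 1 from hho ▸ pow_orderOf_eq_one h, one_zpow, one_zpow, one_mul]
    exact (eq_of_le_of_card_ge le_sup_left (by rw [Nat.card_zpowers, hho]; exact hW) :
      zpowers h = zpowers h ⊔ zpowers b).ge (mem_sup_right (mem_zpowers b))
  refine ⟨E', hEe, le_antisymm ?_ ?_, fun B hB hle => le_antisymm (fun x hx => key
    ((le_centralizer_iff.1 ((le_sup_left.trans hle).trans (le_centralizer_of_comm hB.1))) hx)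
    (hB.2 x hx)) hle⟩
  · have hN : zpowers h ≤ normalizer (R₀ : Set R) :=
      (zpowers_le.2 (mem_centralizer_iff.2 fun a ha => hcomm a ha h hh)).trans
        (CfsgLib.Coprime.centralizer_le_normalizer_self _)
    have h4 := CfsgLib.EABasic.card_sup_mul_card_inf_of_le_normalizer (H := zpowers h) (N := R₀) hN
    rw [Nat.card_zpowers, hho, hR₀, ← sq, sup_comm] at h4
    exact (Nat.le_mul_of_pos_right _ Nat.card_pos).trans h4.le
  · obtain ⟨k, hk⟩ := IsPGroup.iff_card.1 (hR.to_subgroup E')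
    rw [hR₀, hk] at hEc
    nth_rewrite 1 [← pow_one p] at hEc
    rw [hk]
    exact Nat.pow_le_pow_right hp.out.pos ((Nat.pow_lt_pow_iff_right hp.out.one_lt).1 hEc)

end CfsgLib.CFun.Narrow
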