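import Cfsg.Agent.Lib.CFun.OddRankTwo
import Cfsg.Agent.S0640
import Cfsg.Agent.Lib.PGroup.PSolvable

/-!
# Solvable groups of odd order and `p`-rank at most two
-/

set_option autoImplicit false
set_option linter.style.haveILetI false
set_option linter.unusedSectionVars false

open Subgroup
open scoped commutatorElement

namespace CfsgLib.CFun

universe u

variable {G : Type u} [Group G] [Finite G] {p : ℕ} [hp : Fact p.Prime]

/-- A normal `p'`-subgroup with `p`-group quotient is a normal `p`-complement. -/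
theorem normalPComplement_of_quotient (N : Subgroup G) [N.Normal] (hN : ¬ p ∣ Nat.card N)
    (hq : IsPGroup p (G ⧸ N)) : Cfsg.HasNormalPComplement p G := by
  obtain ⟨P⟩ : Nonempty (Sylow p G) := inferInstance
  obtain ⟨a, ha⟩ := hq.exists_card_eq
  rw [← Subgroup.index_eq_card] at ha
  obtain ⟨b, hb⟩ := P.2.exists_card_eq
  have hG := N.card_mul_index
  rw [ha] at hG
  have hcopN : (Nat.card N).Coprime p := (hp.out.coprime_iff_not_dvd.2 hN).symm
  have hPG := (P : Subgroup G).card_mul_index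
  rw [hb, ← hG] at hPG
  have hcopP : (P : Subgroup G).index.Coprime p := (hp.out.coprime_iff_not_dvd.2 P.not_dvd_index).symm
  have h1 : p ^ b = p ^ a := Nat.dvd_antisymm
    (Nat.Coprime.dvd_of_dvd_mul_left (hcopN.pow_right b).symm (Dvd.intro _ hPG))
    (Nat.Coprime.dvd_of_dvd_mul_right (hcopP.pow_right a).symm (Dvd.intro_left _ hPG.symm))
  refine ⟨P, N, inferInstance, Subgroup.isComplement'_of_coprime ?_ ?_⟩
  · rw [hb, h1, hG]
  · rw [hb]; exact hcopN.pow_right b

/-- The rank does not grow modulo the `p'`-core. -/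
theorem pRankLE_quotient_pPrimeCore {k : ℕ} (hr : Cfsg.PRankLE p k G) :
    Cfsg.PRankLE p k (G ⧸ Cfsg.pPrimeCore p G) := by
  intro E hEc hEe
  set π := QuotientGroup.mk' (Cfsg.pPrimeCore p G) with hπ
  have hEp : IsPGroup p E := fun a => ⟨1, Subtype.ext (by rw [pow_one]; exact hEe a a.2)⟩
  obtain ⟨U, hU, hUE⟩ := CfsgLib.Fusion.exists_pGroup_map_eq π E hEp
    (by rw [MonoidHom.range_eq_top.2 (QuotientGroup.mk'_surjective _)]; exact le_top)
  have hinj : ∀ {x y : G}, x ∈ U → y ∈ U → π x = π y → x = y := fun {x y} hx hy h => by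
    have h1 : x⁻¹ * y ∈ Cfsg.pPrimeCore p G := (QuotientGroup.eq).1 h
    obtain ⟨k, hk⟩ := hU ⟨_, mul_mem (inv_mem hx) hy⟩
    exact inv_mul_eq_one.1 (orderOf_eq_one_iff.1 (Nat.eq_one_of_dvd_coprimes
      ((hp.out.coprime_iff_not_dvd.2 (CfsgLib.Coprime.pPrimeCore_not_dvd hp.out)).pow_left k)
      (orderOf_dvd_of_pow_eq_one (congrArg Subtype.val hk)) (Subgroup.orderOf_dvd_natCard _ h1)))
  have hmem : ∀ {x : G}, x ∈ U → π x ∈ E := fun hx => hUE ▸ mem_map_of_mem π hx
  have h1 := hr U ⟨⟨fun a b => Subtype.ext (hinj (mul_mem a.2 b.2) (mul_mem b.2 a.2) (by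
      rw [Subgroup.coe_mul, Subgroup.coe_mul, map_mul, map_mul]
      exact congrArg Subtype.val
        (hEc.is_comm.comm (⟨_, hmem a.2⟩ : E) ⟨_, hmem b.2⟩)))⟩⟩
    (fun a ha => hinj (pow_mem ha p) (one_mem U) (by rw [map_pow, map_one, hEe _ (hmem ha)]))
  refine le_trans (le_of_eq ?_) h1
  rw [← hUE]
  refine Nat.card_congr (Equiv.ofBijective
    (fun x : U => (⟨π x, mem_map_of_mem π x.2⟩ : U.map π)) ⟨fun a b h => ?_, ?_⟩).symm
  · exact Subtype.ext (hinj a.2 b.2 (congrArg Subtype.val h))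
  · rintro ⟨_, x, hx, rfl⟩; exact ⟨⟨x, hx⟩, rfl⟩

variable [Group.IsSolvable G]

theorem rankTwo_data (hp2 : p ≠ 2) (hodd : Odd (Nat.card G)) (hr : Cfsg.PRankLE p 2 G) :
    IsPGroup p (commutator (G ⧸ Cfsg.pPrimeCore p G)) ∧
      ∀ x : G ⧸ Cfsg.pPrimeCore p G, (orderOf x).Coprime p →
        x ∈ centralizer (Cfsg.pCore p (G ⧸ Cfsg.pPrimeCore p G) : Set (G ⧸ Cfsg.pPrimeCore p G)) →
        x = 1 := by
  set O := Cfsg.pPrimeCore p G with hO
  haveI : O.Normal := Subgroup.sSup_normal _ fun _ h => h.1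
  haveI := CfsgLib.Coprime.pCore_normal' (G := G ⧸ O) p
  set V := Cfsg.pCore p (G ⧸ O)
  have hVp : IsPGroup p V := CfsgLib.Coprime.pCore_isPGroup p
  have hc : centralizer (V : Set (G ⧸ O)) ≤ V :=
    CfsgLib.Coprime.centralizer_pCore_le (CfsgLib.Coprime.pPrimeCore_quotient_eq_bot hp.out)
  have hone : ∀ x : G ⧸ O, (orderOf x).Coprime p → x ∈ centralizer (V : Set (G ⧸ O)) → x = 1 := by
    intro x hx hxV
    obtain ⟨k, hk⟩ := hVp ⟨x, hc hxV⟩
    exact orderOf_eq_one_iff.1 (Nat.eq_one_of_dvd_coprimes (hx.pow_right k) dvd_rfl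
      (orderOf_dvd_of_pow_eq_one (congrArg Subtype.val hk)))
  refine ⟨isPGroup_of_no_coprime fun x hx hxp => hone x hxp ?_, hone⟩
  haveI : Group.IsSolvable (G ⧸ O) :=
    Group.isSolvable_of_surjective (QuotientGroup.mk'_surjective O)
  haveI : Group.IsSolvable (⊤ : Subgroup (G ⧸ O)) :=
    Group.isSolvable_of_surjective (f := (topEquiv (G := G ⧸ O)).symm.toMonoidHom)
      (topEquiv (G := G ⧸ O)).symm.surjective
  refine centralizes_rank_two hp2 hVp (fun E hEc hEe => ?_)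
    (show ⊤ ≤ normalizer (V : Set (G ⧸ O)) by rw [normalizer_eq_top])
    inferInstance ?_ (x := x) ?_ hxp
  · have h1 := pRankLE_quotient_pPrimeCore hr (E.map V.subtype) (by haveI := hEc; infer_instance)
      (by rintro _ ⟨a, ha, rfl⟩; rw [← map_pow, hEe a ha, map_one])
    rwa [card_map_of_injective V.subtype_injective] at h1
  · rw [card_top]; exact hodd.of_dvd_nat (card_quotient_dvd_card O)
  · rwa [← _root_.commutator_def]

/-- In `p`-rank at most two the derived group lies in `O_{p',p}` with index prime to `p`. -/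
theorem commutator_le_pPrimePCore (hp2 : p ≠ 2) (hodd : Odd (Nat.card G))
    (hr : Cfsg.PRankLE p 2 G) :
    commutator G ≤ Cfsg.pPrimePCore p G ∧
      ¬ p ∣ (Cfsg.pCore p (G ⧸ Cfsg.pPrimeCore p G)).index := by
  set O := Cfsg.pPrimeCore p G with hO
  haveI : O.Normal := Subgroup.sSup_normal _ fun _ h => h.1
  set π := QuotientGroup.mk' O
  obtain ⟨hcp, -⟩ := rankTwo_data hp2 hodd hr
  haveI := CfsgLib.Coprime.pCore_normal' (G := G ⧸ O) p
  have hcV : commutator (G ⧸ O) ≤ Cfsg.pCore p (G ⧸ O) := CfsgLib.Coprime.le_pCore hcp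
  constructor
  · intro x hx
    show π x ∈ Cfsg.pCore p (G ⧸ O)
    refine hcV ?_
    have h1 := mem_map_of_mem π hx
    rw [_root_.commutator_def, Subgroup.map_commutator] at h1
    rw [_root_.commutator_def]
    exact commutator_mono le_top le_top h1
  · obtain ⟨S⟩ : Nonempty (Sylow p (G ⧸ O)) := inferInstance
    have hVS : Cfsg.pCore p (G ⧸ O) ≤ (S : Subgroup (G ⧸ O)) := le_sup_left.trans
      (S.3 ((CfsgLib.Coprime.pCore_isPGroup p).to_sup_of_normal_left S.2) le_sup_right).le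
    haveI : (S : Subgroup (G ⧸ O)).Normal := ⟨fun s hs g => by
      have h1 : ⁅g, s⁆ ∈ (S : Subgroup (G ⧸ O)) :=
        hVS (hcV (commutator_mem_commutator (mem_top g) (mem_top s)))
      have := mul_mem h1 hs
      rwa [commutatorElement_def, inv_mul_cancel_right] at this⟩
    rw [le_antisymm hVS (CfsgLib.Coprime.le_pCore S.2)]
    exact S.not_dvd_index

theorem pLengthLE_one_of_rank_two (hp2 : p ≠ 2) (hodd : Odd (Nat.card G))
    (hr : Cfsg.PRankLE p 2 G) : Cfsg.PLengthLE p 1 G :=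
  CfsgLib.PGroup.pLengthLE_one_of_not_dvd (commutator_le_pPrimePCore hp2 hodd hr).2

/-- Prime divisors of `G / O_{p'}(G)` are at most `p`. -/
theorem le_of_dvd_index_pPrimeCore (hp2 : p ≠ 2) (hodd : Odd (Nat.card G))
    (hr : Cfsg.PRankLE p 2 G) {q : ℕ} (hq : q.Prime) (hd : q ∣ (Cfsg.pPrimeCore p G).index) :
    q ≤ p := by
  rcases eq_or_ne q p with e | hqp
  · exact e.le
  set O := Cfsg.pPrimeCore p G with hO
  haveI : O.Normal := Subgroup.sSup_normal _ fun _ h => h.1
  haveI := CfsgLib.Coprime.pCore_normal' (G := G ⧸ O) p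
  set V := Cfsg.pCore p (G ⧸ O)
  haveI : Fact q.Prime := ⟨hq⟩
  rw [Subgroup.index_eq_card] at hd
  obtain ⟨x, hx⟩ := exists_prime_orderOf_dvd_card' q hd
  have hxn : x ∈ normalizer (V : Set (G ⧸ O)) := by rw [normalizer_eq_top]; exact mem_top _
  have hrV : Cfsg.PRankLE p 2 V := fun E hEc hEe => by
    have h1 := pRankLE_quotient_pPrimeCore hr (E.map V.subtype) (by haveI := hEc; infer_instance)
      (by rintro _ ⟨a, ha, rfl⟩; rw [← map_pow, hEe a ha, map_one])
    rwa [card_map_of_injective V.subtype_injective] at h1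
  set θ : MulAut V := Subgroup.normalizerMonoidHom V ⟨x, hxn⟩ with hθ
  haveI : Finite (MulAut V) := Finite.of_injective _ MulEquiv.toEquiv_injective
  refine (Cfsg.Agent.S0640.result hp2 (CfsgLib.Coprime.pCore_isPGroup p) hrV q hq hqp ?_).2.le
  have hθ1 : θ ≠ 1 := by
    intro h
    have : x ∈ centralizer (V : Set (G ⧸ O)) := mem_centralizer_iff.2 fun y hy => by
      have h1 := congrArg (fun σ : MulAut V => ((σ ⟨y, hy⟩ : V) : G ⧸ O)) h
      exact (mul_inv_eq_iff_eq_mul.1 h1).symm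
    have hx1 := (rankTwo_data hp2 hodd hr).2 x
      (hx ▸ (Nat.coprime_primes hq hp.out).2 hqp) this
    rw [hx1, orderOf_one] at hx
    exact hq.ne_one hx.symm
  have h2 : orderOf θ ∣ q := hx ▸ ((orderOf_map_dvd _ _).trans (by rw [Subgroup.orderOf_mk]))
  rcases (Nat.dvd_prime hq).1 h2 with h | h
  · exact absurd (orderOf_eq_one_iff.1 h) hθ1
  · exact h ▸ orderOf_dvd_natCard θ

end CfsgLib.CFun
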