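import Cfsg.Agent.Lib.CFun.OddSCNUnique

/-!
# The primes `σ(M)` and fusion in a maximal subgroup
-/

set_option autoImplicit false
set_option linter.style.haveILetI false
set_option linter.unusedSectionVars false

open Subgroup
open scoped commutatorElement
open CfsgLib.Coprime (conjBy conjBy_conjBy conjBy_one conjBy_eq_self_iff mem_conjBy conj_mem_conjBy
  conj_mem_of_le_normalizer card_conjBy)

namespace CfsgLib.CFun

universe u

variable {G : Type u} [Group G] [Finite G] {p : ℕ} [hp : Fact p.Prime] {M : Subgroup G}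

variable (hG : Cfsg.IsMinSimpleOddOrder G)
include hG

theorem ms_coatom_ne_bot (hM : IsCoatom M) : M ≠ ⊥ := by
  rintro rfl
  refine ms_isSolvable_top hG ?_
  obtain ⟨g, hg⟩ : ∃ g : G, g ≠ 1 := by
    by_contra h
    push Not at h
    exact hM.1 (eq_top_iff.2 fun x _ => mem_bot.2 (h x))
  have h1 : zpowers g = ⊤ := hM.2 _ (bot_lt_iff_ne_bot.2 (zpowers_ne_bot.2 hg))
  rw [← h1]
  exact CfsgLib.Coprime.isSolvable_of_isMulCommutative inferInstance

theorem ms_normalizer_self (hM : IsCoatom M) : normalizer (M : Set G) = M :=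
  ms_normalizer_eq hG hM le_rfl (ms_coatom_ne_bot hG hM) le_normalizer

omit hG in
theorem sylow_map_max {H : Subgroup G} (P : Sylow p H) {U : Subgroup G} (hU : IsPGroup p U)
    (hUH : U ≤ H) (hle : (P : Subgroup H).map H.subtype ≤ U) : U = (P : Subgroup H).map H.subtype := by
  have := P.3 (hU.of_equiv (subgroupOfEquivOfLe hUH).symm) (fun x hx => hle ⟨x, hx, rfl⟩)
  rw [← this, map_subgroupOf_eq_of_le hUH]

/-- For `p ∈ σ(M)`, every Sylow subgroup of `M` is a Sylow subgroup of `G` with normalizer in `M`. -/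
theorem sigma_sylow (hM : IsCoatom M) (hp' : p ∈ Cfsg.sigma M) (P : Sylow p M) :
    normalizer (((P : Subgroup M).map M.subtype : Subgroup G) : Set G) ≤ M ∧
      ∃ S : Sylow p G, (S : Subgroup G) = (P : Subgroup M).map M.subtype := by
  obtain ⟨-, -, P₀, hP₀⟩ := hp'
  obtain ⟨m, hm⟩ := MulAction.exists_smul_eq M P₀ P
  have e : (P : Subgroup M).map M.subtype = conjBy (m : G) ((P₀ : Subgroup M).map M.subtype) := by
    rw [← hm, Sylow.coe_subgroup_smul]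
    ext x
    constructor
    · rintro ⟨_, ⟨y, hy, rfl⟩, rfl⟩
      exact conj_mem_conjBy (g := (m : G)) (show (y : G) ∈ (P₀ : Subgroup M).map M.subtype from ⟨y, hy, rfl⟩)
    · rintro ⟨_, ⟨y, hy, rfl⟩, rfl⟩
      exact ⟨m * y * m⁻¹, ⟨y, hy, rfl⟩, rfl⟩
  have hN : normalizer (((P : Subgroup M).map M.subtype : Subgroup G) : Set G) ≤ M := by
    rw [e]
    refine (le_of_eq (map_equiv_normalizer_eq _ (MulAut.conj (m : G))).symm).trans ?_
    exact conjBy_le_of_mem m.2 hP₀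
  refine ⟨hN, ⟨(P : Subgroup M).map M.subtype, P.2.map _, fun {U} hU hle => ?_⟩, rfl⟩
  by_contra hne
  refine CfsgLib.Invol.normalizer_grows hU hle (Ne.symm hne) ?_
  exact (sylow_map_max P (hU.to_le inf_le_right) (inf_le_left.trans hN)
    (le_inf le_normalizer hle)).le

omit hG in
/-- A Sylow subgroup of rank at most two of an odd solvable group factorizes it. -/
theorem factor_of_rank_two {H T : Subgroup G} [Group.IsSolvable H] (hodd : Odd (Nat.card H))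
    (hp2 : p ≠ 2) (hTH : T ≤ H) (hT : IsPGroup p T)
    (hmax : ∀ U : Subgroup G, IsPGroup p U → U ≤ H → T ≤ U → U = T) (hr : Cfsg.PRankLE p 2 T) :
    H ≤ coCore H p ⊔ (H ⊓ normalizer (T : Set G)) := by
  set S := sylowOfMax hT hTH hmax
  have hrH : Cfsg.PRankLE p 2 H := pRankLE_of_sylow S (by
    rw [coe_sylowOfMax, map_subgroupOf_eq_of_le hTH]; exact hr)
  haveI : (Cfsg.pPrimeCore p H).Normal := Subgroup.sSup_normal _ fun _ h => h.1
  haveI := CfsgLib.Coprime.pCore_normal' (G := ↥H ⧸ Cfsg.pPrimeCore p H) p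
  set π := QuotientGroup.mk' (Cfsg.pPrimeCore p H)
  set V := Cfsg.pCore p (↥H ⧸ Cfsg.pPrimeCore p H)
  set S' := S.mapSurjective (f := π) (QuotientGroup.mk'_surjective _)
  have hVS : V = (S' : Subgroup _) := by
    have h1 := ((CfsgLib.Coprime.pCore_isPGroup (G := ↥H ⧸ Cfsg.pPrimeCore p H) p).toSylow
      (commutator_le_pPrimePCore hp2 hodd hrH).2).3
      ((CfsgLib.Coprime.pCore_isPGroup p).to_sup_of_normal_left S'.2) le_sup_left
    exact le_antisymm (le_sup_left.trans (S'.3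
      ((CfsgLib.Coprime.pCore_isPGroup p).to_sup_of_normal_left S'.2) le_sup_right).le)
      (le_sup_right.trans h1.le)
  have hn : ((T.subgroupOf H).map π).Normal := by
    rw [show (T.subgroupOf H).map π = V from hVS.symm ▸ rfl]; infer_instance
  obtain ⟨-, hf⟩ := sup_normalizer_of_map_normal
    (hT.of_equiv (subgroupOfEquivOfLe hTH).symm) hn
  intro x hx
  have h1 := mem_map_of_mem H.subtype (hf.ge (mem_top (⟨x, hx⟩ : H)))
  rw [Subgroup.map_sup] at h1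
  refine (sup_le_sup_left (le_inf (map_subtype_le _) ?_) _) h1
  refine (le_normalizer_map H.subtype).trans (le_of_eq ?_)
  rw [map_subgroupOf_eq_of_le hTH]

/-- Conjugates inside `M` of a `p`-subgroup, `p ∈ σ(M)`, differ by `M` and the centralizer. -/
theorem sigma_fusion (hM : IsCoatom M) (hp' : p ∈ Cfsg.sigma M) {X : Subgroup G}
    (hXp : IsPGroup p X) (hX1 : X ≠ ⊥) (hXM : X ≤ M) {g : G} (hg : conjBy g X ≤ M) :
    ∃ m ∈ M, ∃ c ∈ centralizer (X : Set G), g = m * c := by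
  suffices key : ∀ (n : ℕ) (X : Subgroup G), Nat.card G - Nat.card X = n → IsPGroup p X → X ≠ ⊥ →
      X ≤ M → ∀ g : G, conjBy g X ≤ M → ∃ m ∈ M, ∃ c ∈ centralizer (X : Set G), g = m * c from
    key _ X rfl hXp hX1 hXM g hg
  intro n
  induction n using Nat.strongRecOn with
  | ind n ih =>
  intro X hn hXp hX1 hXM g hg
  have ih' : ∀ {Y : Subgroup G}, IsPGroup p Y → X < Y → Y ≤ M → ∀ h : G, conjBy h Y ≤ M →
      ∃ m ∈ M, ∃ c ∈ centralizer (X : Set G), h = m * c ∧ c ∈ centralizer (Y : Set G) := by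
    intro Y hY hlt hYM h hh
    have h1 : Nat.card X < Nat.card Y := Set.Finite.card_lt_card (Set.toFinite _) hlt
    have := card_le_card_group Y
    obtain ⟨m, hm, c, hc, e⟩ := ih _ (by omega) Y rfl hY (ne_bot_of_le_ne_bot hX1 hlt.le) hYM h hh
    exact ⟨m, hm, c, centralizer_le hlt.le hc, e, hc⟩
  obtain ⟨P, hXP⟩ := (hXp.of_equiv (subgroupOfEquivOfLe hXM).symm).exists_le_sylow
  obtain ⟨hNP, S, hS⟩ := sigma_sylow hG hM hp' P
  set T₀ := (P : Subgroup M).map M.subtype with hT₀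
  have hT₀M : T₀ ≤ M := map_subtype_le _
  have hXT₀ : X ≤ T₀ := fun x hx => ⟨⟨x, hXM hx⟩, hXP hx, rfl⟩
  -- move the conjugate into the Sylow subgroup
  obtain ⟨P', hP'⟩ := ((hXp.map (MulAut.conj g).toMonoidHom).of_equiv
    (subgroupOfEquivOfLe hg).symm).exists_le_sylow
  obtain ⟨m₀, hm₀⟩ := MulAction.exists_smul_eq M P' P
  have hg₁ : conjBy ((m₀ : G) * g) X ≤ T₀ := by
    rw [← conjBy_conjBy]
    rintro _ ⟨y, hy, rfl⟩
    refine ⟨m₀ * ⟨y, hg hy⟩ * m₀⁻¹, ?_, rfl⟩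
    rw [← hm₀, Sylow.coe_subgroup_smul]
    exact ⟨⟨y, hg hy⟩, hP' hy, rfl⟩
  set g₁ := (m₀ : G) * g with hg₁def
  suffices hgoal : ∃ m ∈ M, ∃ c ∈ centralizer (X : Set G), g₁ = m * c by
    obtain ⟨m, hm, c, hc, e⟩ := hgoal
    exact ⟨(m₀ : G)⁻¹ * m, mul_mem (inv_mem m₀.2) hm, c, hc, by
      rw [mul_assoc, ← e, hg₁def, inv_mul_cancel_left]⟩
  by_cases hXeq : X = T₀
  · refine ⟨g₁, hNP ?_, 1, one_mem _, (mul_one _).symm⟩
    subst hXeq
    exact conjBy_eq_self_iff.1 (eq_of_le_of_card_ge hg₁ (card_conjBy g₁ T₀).ge)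
  have hT₀p : IsPGroup p T₀ := P.2.map _
  set N := normalizer (X : Set G) with hN
  set Y₁ := N ⊓ T₀ with hY₁
  have hlt₁ : X < Y₁ := lt_of_le_not_ge (le_inf le_normalizer hXT₀)
    (CfsgLib.Invol.normalizer_grows hT₀p hXT₀ hXeq)
  have hT₀g : IsPGroup p (conjBy g₁⁻¹ T₀) := hT₀p.map _
  have hXg : X ≤ conjBy g₁⁻¹ T₀ := fun x hx => by
    rw [mem_conjBy, inv_inv]; exact hg₁ (conj_mem_conjBy hx)
  have hlt₂ : X < N ⊓ conjBy g₁⁻¹ T₀ := by
    refine lt_of_le_not_ge (le_inf le_normalizer hXg) (CfsgLib.Invol.normalizer_grows hT₀g hXg ?_)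
    intro e
    refine hXeq (eq_of_le_of_card_ge hXT₀ ?_)
    rw [← card_conjBy g₁⁻¹ T₀, ← e]
  -- a Sylow subgroup of the normalizer inside `M`
  obtain ⟨R₀, hR₀⟩ := ((hT₀p.to_le (inf_le_right : Y₁ ≤ T₀)).of_equiv
    (subgroupOfEquivOfLe (inf_le_left : Y₁ ≤ N)).symm).exists_le_sylow
  set T₁ := (R₀ : Subgroup N).map N.subtype with hT₁
  have hT₁p : IsPGroup p T₁ := R₀.2.map _
  have hY₁T₁ : Y₁ ≤ T₁ := fun y hy => ⟨⟨y, hy.1⟩, hR₀ hy, rfl⟩
  obtain ⟨S', hS'⟩ := hT₁p.exists_le_sylow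
  obtain ⟨h, hh⟩ := MulAction.exists_smul_eq G S' S
  have hhT₁ : conjBy h T₁ ≤ T₀ := by
    rw [← hS, ← hh]
    exact map_mono hS'
  obtain ⟨m₁, hm₁, c₁, hc₁, e₁, -⟩ := ih' (hT₀p.to_le inf_le_right) hlt₁
    (inf_le_right.trans hT₀M) h (((map_mono hY₁T₁).trans hhT₁).trans hT₀M)
  have hc₁N : c₁ ∈ N := CfsgLib.Coprime.centralizer_le_normalizer_self X hc₁
  set R := (⟨c₁, hc₁N⟩ : N) • R₀ with hR
  set T := (R : Subgroup N).map N.subtype with hTdef
  have hTeq : T = conjBy c₁ T₁ := by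
    rw [hTdef, hR, Sylow.coe_subgroup_smul]
    ext x
    constructor
    · rintro ⟨_, ⟨y, hy, rfl⟩, rfl⟩
      exact conj_mem_conjBy (g := c₁) (show (y : G) ∈ T₁ from ⟨y, hy, rfl⟩)
    · rintro ⟨_, ⟨y, hy, rfl⟩, rfl⟩
      exact ⟨⟨c₁, hc₁N⟩ * y * ⟨c₁, hc₁N⟩⁻¹, ⟨y, hy, rfl⟩, rfl⟩
  have hTM : T ≤ M := by
    rw [hTeq, show c₁ = m₁⁻¹ * h by rw [e₁, inv_mul_cancel_left], ← conjBy_conjBy]
    exact conjBy_le_of_mem (inv_mem hm₁) (hhT₁.trans hT₀M)
  have hTp : IsPGroup p T := R.2.map _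
  have hXT : X ≤ T := by
    rw [hTeq]
    conv_lhs => rw [← conjBy_eq_self_iff.2 hc₁N]
    exact map_mono (hlt₁.le.trans hY₁T₁)
  have hTN : T ≤ N := map_subtype_le _
  have hXT' : X < T := by
    refine lt_of_le_not_ge hXT fun hle => ?_
    have h1 : Nat.card Y₁ ≤ Nat.card X := by
      calc Nat.card Y₁ ≤ Nat.card T₁ := card_le_of_le hY₁T₁
        _ = Nat.card T := by rw [hTeq, card_conjBy]
        _ ≤ Nat.card X := card_le_of_le hle
    exact absurd (Set.Finite.card_lt_card (Set.toFinite _) hlt₁) (not_lt.2 h1)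
  have hNtop : N ≠ ⊤ := ms_normalizer_ne_top hG hX1 (ms_isPGroup_ne_top hG hXp)
  -- the normalizer factorizes
  have hCn : ∀ {k c : G}, k ∈ N → c ∈ centralizer (X : Set G) →
      k * c * k⁻¹ ∈ centralizer (X : Set G) := fun hk hc => conj_mem_of_le_normalizer
    (CfsgLib.Coprime.normalizer_le_normalizer_centralizer X) hk hc
  have hfac : ∀ k ∈ N, ∃ m ∈ M, ∃ c ∈ centralizer (X : Set G), k = m * c := by
    intro k hk
    by_cases hr : Cfsg.PRankLE p 2 T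
    swap
    · obtain ⟨V, hVT, hVe, hV3⟩ := exists_elementary_of_not_pRankLE hr
      exact ⟨k, le_of_unique hG (unique_elementary_three hG hVe hV3.ge) hM (hVT.trans hTM)
        (hVT.trans hTN) hNtop hk, 1, one_mem _, (mul_one k).symm⟩
    haveI : Group.IsSolvable N := ms_solvable hG hNtop
    have hpG : p ∣ Nat.card G := by
      obtain ⟨i, hi⟩ := IsPGroup.iff_card.1 hXp
      rcases i with _ | i
      · exact absurd (card_eq_one.1 (by rw [hi, pow_zero])) hX1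
      · exact (hi ▸ dvd_pow_self p i.succ_ne_zero).trans (card_subgroup_dvd_card X)
    have hf := factor_of_rank_two (hG.1.of_dvd_nat (card_subgroup_dvd_card N)) (ms_ne_two hG hpG)
      hTN hTp (fun U hU hUN hTU => sylow_map_max R hU hUN hTU) hr
    have hkk := hf hk
    rw [← SetLike.mem_coe, sup_comm, coe_mul_of_left_le_normalizer_right _ _
      (inf_le_left.trans le_normalizer_coCore)] at hkk
    obtain ⟨s, hs, o, ho, rfl⟩ := hkk
    have hoC : o ∈ centralizer (X : Set G) :=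
      le_centralizer_of_inf_eq_bot (coCore_le.trans le_rfl) (le_normalizer.trans le_normalizer_coCore)
        ((inf_comm _ _).trans (inf_eq_bot_of_isPGroup hXp not_dvd_coCore)) ho
    obtain ⟨m, hm, c, hc, e, -⟩ := ih' hTp hXT' hTM s (by rw [conjBy_eq_self_iff.2 hs.2]; exact hTM)
    exact ⟨m, hm, c * o, mul_mem hc hoC, by show s * o = m * (c * o); rw [e, mul_assoc]⟩
  -- the second normalizer
  obtain ⟨R₂, hR₂⟩ := ((hT₀g.to_le (inf_le_right : N ⊓ conjBy g₁⁻¹ T₀ ≤ _)).of_equiv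
    (subgroupOfEquivOfLe (inf_le_left : N ⊓ conjBy g₁⁻¹ T₀ ≤ N)).symm).exists_le_sylow
  obtain ⟨k, hk⟩ := MulAction.exists_smul_eq N R₂ R
  set Y₃ := conjBy (k : G) (N ⊓ conjBy g₁⁻¹ T₀) with hY₃
  have hY₃T : Y₃ ≤ T := by
    rintro _ ⟨y, hy, rfl⟩
    refine ⟨k * ⟨y, hy.1⟩ * k⁻¹, ?_, rfl⟩
    rw [← hk, Sylow.coe_subgroup_smul]
    exact ⟨⟨y, hy.1⟩, hR₂ hy, rfl⟩
  have hlt₃ : X < Y₃ := by
    refine lt_of_le_not_ge ?_ fun hle => ?_
    · conv_lhs => rw [← conjBy_eq_self_iff.2 k.2]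
      exact map_mono hlt₂.le
    · have h2 : Nat.card ↥(N ⊓ conjBy g₁⁻¹ T₀) ≤ Nat.card X := by
        rw [← card_conjBy (k : G)]; exact card_le_of_le hle
      exact absurd (Set.Finite.card_lt_card (Set.toFinite _) hlt₂) (not_lt.2 h2)
  obtain ⟨m₂, hm₂, c₂, hc₂, e₂, -⟩ := ih' (hTp.to_le hY₃T) hlt₃ (hY₃T.trans hTM) (g₁ * (k : G)⁻¹) (by
    rw [hY₃, conjBy_conjBy, inv_mul_cancel_right]
    refine le_trans (map_mono inf_le_right) ?_
    change conjBy g₁ (conjBy g₁⁻¹ T₀) ≤ M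
    rw [conjBy_conjBy, mul_inv_cancel, conjBy_one]
    exact hT₀M)
  obtain ⟨m₃, hm₃, c₃, hc₃, e₃⟩ := hfac k k.2
  have hm₃N : m₃ ∈ N := by
    rw [show m₃ = (k : G) * c₃⁻¹ by rw [e₃, mul_inv_cancel_right]]
    exact mul_mem k.2 (inv_mem (CfsgLib.Coprime.centralizer_le_normalizer_self X hc₃))
  refine ⟨m₂ * m₃, mul_mem hm₂ hm₃, (m₃⁻¹ * c₂ * m₃⁻¹⁻¹) * c₃,
    mul_mem (hCn (inv_mem hm₃N) hc₂) hc₃, ?_⟩
  calc g₁ = g₁ * (k : G)⁻¹ * (k : G) := by group
    _ = m₂ * c₂ * (m₃ * c₃) := by rw [e₂, e₃]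
    _ = _ := by group

/-- The normalizer of such a subgroup. -/
theorem sigma_normalizer (hM : IsCoatom M) (hp' : p ∈ Cfsg.sigma M) {X : Subgroup G}
    (hXp : IsPGroup p X) (hX1 : X ≠ ⊥) (hXM : X ≤ M) :
    normalizer (X : Set G) = (M ⊓ normalizer (X : Set G)) ⊔ centralizer (X : Set G) := by
  refine le_antisymm (fun g hg => ?_)
    (sup_le inf_le_right (CfsgLib.Coprime.centralizer_le_normalizer_self X))
  obtain ⟨m, hm, c, hc, e⟩ :=
    sigma_fusion hG hM hp' hXp hX1 hXM (g := g) (by rw [conjBy_eq_self_iff.2 hg]; exact hXM)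
  have hmN : m ∈ normalizer (X : Set G) := by
    rw [show m = g * c⁻¹ by rw [e, mul_inv_cancel_right]]
    exact mul_mem hg (inv_mem (CfsgLib.Coprime.centralizer_le_normalizer_self X hc))
  exact e ▸ mul_mem_sup (mem_inf.2 ⟨hm, hmN⟩) hc

end CfsgLib.CFun
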