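import Cfsg.Agent.Lib.CFun.OddZgroupLength
import Cfsg.Agent.Lib.CFun.OddPLengthOne
import Cfsg.Agent.Lib.CFun.OddAlpha
import Cfsg.Agent.Lib.CFun.OddSigma
import Cfsg.Agent.Lib.Fusion.Transfer

/-!
# Proper subgroups of a minimal simple group of odd order have `p`-length one
-/

set_option autoImplicit false
set_option linter.style.haveILetI false
set_option linter.unusedSectionVars false

open Subgroup
open scoped commutatorElement
open CfsgLib.Coprime (conj_mem_of_le_normalizer mem_sup_exists conjBy)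

namespace CfsgLib.CFun

universe u

section Complement

variable {G : Type u} [Group G] [Finite G]

/-- A normal Hall subgroup inside the derived group is moved onto itself by its complement. -/
theorem eq_commutator_of_le_derived [Group.IsSolvable G] {H K : Subgroup G} [H.Normal]
    (hcop : (Nat.card H).Coprime (Nat.card K)) (hsup : H ⊔ K = ⊤) (hH : H ≤ commutator G) :
    H = ⁅H, K⁆ := by
  set X := ⁅H, K⁆
  have hXn : X.Normal := by
    refine normalizer_eq_top_iff.1 (eq_top_iff.2 (hsup ▸ sup_le ?_ ?_))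
    · exact Subgroup.normalizer_commutator_ge_left H K
    · rw [show X = ⁅K, H⁆ from commutator_comm H K]; exact Subgroup.normalizer_commutator_ge_left K H
  have hXH : X ≤ H := commutator_le_left H K
  refine le_antisymm ?_ hXH
  set π := QuotientGroup.mk' X
  set A := H.map π
  set B := K.map π
  have hπ : Function.Surjective π := QuotientGroup.mk'_surjective X
  have hcomm : ∀ a ∈ A, ∀ b ∈ B, a * b = b * a := by
    rintro _ ⟨h, hh, rfl⟩ _ ⟨k, hk, rfl⟩
    refine commutatorElement_eq_one_iff_mul_comm.1 ?_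
    rw [← map_commutatorElement]
    exact (QuotientGroup.eq_one_iff _).2 (commutator_mem_commutator hh hk)
  have htop : A ⊔ B = ⊤ := by
    rw [← Subgroup.map_sup, hsup, map_top_of_surjective _ hπ]
  have hder : commutator (G ⧸ X) ≤ ⁅A, A⁆ ⊔ ⁅B, B⁆ := by
    rw [_root_.commutator_def, ← htop, commutator_le]
    intro u hu v hv
    obtain ⟨a, ha, b, hb, rfl⟩ := mem_sup_exists
      (show B ≤ normalizer (A : Set (G ⧸ X)) from by
        rw [normalizer_eq_top_iff.2 ((inferInstance : H.Normal).map π hπ)]; exact le_top) hu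
    obtain ⟨a', ha', b', hb', rfl⟩ := mem_sup_exists
      (show B ≤ normalizer (A : Set (G ⧸ X)) from by
        rw [normalizer_eq_top_iff.2 ((inferInstance : H.Normal).map π hπ)]; exact le_top) hv
    have e : ⁅a * b, a' * b'⁆ = ⁅a, a'⁆ * ⁅b, b'⁆ := by
      have h1 : Commute b a' := (hcomm a' ha' b hb).symm
      have h2 : Commute b' a := (hcomm a ha b' hb').symm
      have h3 : Commute (a * a' * a⁻¹) b := ((show Commute a b from hcomm a ha b hb).mul_left
        h1.symm).mul_left (show Commute a b from hcomm a ha b hb).inv_left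
      simp only [commutatorElement_def, mul_inv_rev]
      calc a * b * (a' * b') * (b⁻¹ * a⁻¹) * (b'⁻¹ * a'⁻¹)
          = a * (b * a') * (b' * b⁻¹) * (a⁻¹ * b'⁻¹) * a'⁻¹ := by group
        _ = a * (a' * b) * (b' * b⁻¹) * (b'⁻¹ * a⁻¹) * a'⁻¹ := by
            rw [h1.eq, (h2.inv_inv).eq.symm]
        _ = (a * a') * (b * b' * b⁻¹ * b'⁻¹) * (a⁻¹ * a'⁻¹) := by group
        _ = (b * b' * b⁻¹ * b'⁻¹) * (a * a') * (a⁻¹ * a'⁻¹) := by
            rw [hcomm _ (mul_mem ha ha') _
              (mul_mem (mul_mem (mul_mem hb hb') (inv_mem hb)) (inv_mem hb'))]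
        _ = (a * a' * a⁻¹ * a'⁻¹) * (b * b' * b⁻¹ * b'⁻¹) := by
            rw [mul_assoc, hcomm _ (mul_mem (mul_mem (mul_mem ha ha') (inv_mem ha)) (inv_mem ha')) _
              (mul_mem (mul_mem (mul_mem hb hb') (inv_mem hb)) (inv_mem hb'))]
            group
    rw [e]
    exact mul_mem (mem_sup_left (commutator_mem_commutator ha ha'))
      (mem_sup_right (commutator_mem_commutator hb hb'))
  have hAB : A ⊓ B = ⊥ := CfsgLib.Coprime.disjoint_of_coprime_card
    ((hcop.coprime_dvd_left (card_map_dvd _ _)).coprime_dvd_right (card_map_dvd _ _))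
  have hAA : A ≤ ⁅A, A⁆ := by
    intro a ha
    have h1 : a ∈ commutator (G ⧸ X) := by
      obtain ⟨h, hh, rfl⟩ := ha
      have := mem_map_of_mem π (hH hh)
      rw [_root_.commutator_def, map_commutator, map_top_of_surjective _ hπ] at this
      rwa [_root_.commutator_def]
    obtain ⟨y, hy, z, hz, e⟩ := mem_sup_exists (N := ⁅A, A⁆) (H := ⁅B, B⁆) (fun b hb => by
      refine centralizer_le_normalizer _ (mem_centralizer_iff.2 fun c hc => ?_)
      exact hcomm c (commutator_le_self A hc) b (commutator_le_self B hb)) (hder h1)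
    have h2 : z ∈ A ⊓ B := mem_inf.2 ⟨by
      rw [show z = y⁻¹ * a by rw [← e]; group]
      exact mul_mem (inv_mem (commutator_le_self A hy)) ha, commutator_le_self B hz⟩
    rw [hAB, mem_bot] at h2
    rwa [← e, h2, mul_one]
  have hA : A = ⊥ := by
    by_contra hne
    haveI : Nontrivial A := (nontrivial_iff_ne_bot A).2 hne
    haveI : Group.IsSolvable (G ⧸ X) := Group.isSolvable_of_surjective hπ
    refine (Group.IsSolvable.commutator_lt_top_of_nontrivial (G := A)).ne ?_
    refine map_injective A.subtype_injective ?_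
    rw [_root_.commutator_def, map_commutator, ← MonoidHom.range_eq_map, range_subtype]
    exact le_antisymm (commutator_le_self A) hAA
  exact fun h hh => (QuotientGroup.eq_one_iff h).1 (mem_bot.1 (hA ▸ mem_map_of_mem π hh))

end Complement

variable {G : Type u} [Group G] [Finite G] {p : ℕ} [hp : Fact p.Prime]

/-- `p`-length one passes to subgroups. -/
theorem ZLen.POne.mono {M H : Subgroup G} (hM : ZLen.POne p M) (hH : H ≤ M) : ZLen.POne p H := by
  obtain ⟨W, hWM, hMW, hWi, hWk⟩ := hM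
  refine ⟨W ⊓ H, inf_le_right, CfsgLib.Coprime.inf_le_normalizer (hH.trans hMW) le_normalizer,
    fun hd => hWi ?_, fun m hm => ?_⟩
  · rw [inf_relIndex_right] at hd
    refine hd.trans ?_
    haveI : (W.subgroupOf M).Normal := normal_subgroupOf_of_le_normalizer hMW
    rw [← relIndex_subgroupOf hH]
    exact relIndex_dvd_index_of_normal _ _
  · obtain ⟨k, hk⟩ := hWk m (mem_inf.1 hm).1
    refine ⟨k, le_coCore (inf_le_right : coCore M p ⊓ H ≤ H)
      (CfsgLib.Coprime.inf_le_normalizer (hH.trans le_normalizer_coCore) le_normalizer)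
      (fun hd => not_dvd_coCore (hd.trans (card_dvd_of_le inf_le_left)))
      (mem_inf.2 ⟨hk, pow_mem (mem_inf.1 hm).2 _⟩)⟩

/-- `p`-length one passes up to overgroups of index prime to `p`. -/
theorem ZLen.POne.of_normal {M A : Subgroup G} (hA : ZLen.POne p A) (hAM : A ≤ M)
    (hMA : M ≤ normalizer (A : Set G)) (hi : ¬ p ∣ A.relIndex M) : ZLen.POne p M := by
  obtain ⟨W, hWA, hAW, hWi, hWk⟩ := hA
  set W' := Subgroup.closure {y : G | y ∈ M ∧ ∃ k : ℕ, y ^ p ^ k = 1}
  have hle : W' ≤ W := (closure_le _).2 fun y ⟨hy, k, hk⟩ =>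
    ZLen.mem_of_pow hWA hAW hWi (ZLen.mem_of_pow hAM hMA hi hy hk) hk
  refine ⟨W', (closure_le _).2 fun y hy => hy.1, fun g hg => ?_, fun hd => ?_, fun m hm => ?_⟩
  · refine le_normalizer_closure_iff.mpr ?_ (mem_zpowers g)
    rintro a ha y ⟨hy, k, hk⟩
    have ha' : a ∈ M := zpowers_le.2 hg ha
    exact subset_closure ⟨mul_mem (mul_mem ha' hy) (inv_mem ha'), k, by rw [conj_pow, hk]; group⟩
  · obtain ⟨P⟩ := (inferInstance : Nonempty (Sylow p M))
    refine P.not_dvd_index (hd.trans (index_dvd_of_le fun y hy => subset_closure ⟨y.2, ?_⟩))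
    obtain ⟨k, hk⟩ := P.2 ⟨y, hy⟩
    exact ⟨k, congrArg (fun z : (P : Subgroup M) => ((z : M) : G)) hk⟩
  · obtain ⟨k, hk⟩ := hWk m (hle hm)
    exact ⟨k, le_coCore (coCore_le.trans hAM)
      (hMA.trans (ZLen.normalizer_le_normalizer_coCore A p)) not_dvd_coCore hk⟩

section MinSimple

variable (hG : Cfsg.IsMinSimpleOddOrder G) {M : Subgroup G}
include hG

/-- The Sylow subgroups at primes of `σ(M)` lie in `M'`. -/
theorem sigma_sylow_le_commutator (hM : IsCoatom M) (hp' : p ∈ Cfsg.sigma M) (P : Sylow p M) :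
    (P : Subgroup M).map M.subtype ≤ ⁅M, M⁆ := by
  obtain ⟨-, S, hS⟩ := sigma_sylow hG hM hp' P
  have hSM : (S : Subgroup G) ≤ M := hS.le.trans (map_subtype_le _)
  have htop : commutator G = ⊤ := by
    haveI := hG.2.1
    refine (IsSimpleGroup.eq_bot_or_eq_top_of_normal (commutator G) inferInstance).resolve_left
      fun e => hG.2.2.1 ⟨⟨fun a b => ?_⟩⟩
    have h1 : ⁅a, b⁆ ∈ commutator G := by
      rw [_root_.commutator_def]; exact commutator_mem_commutator (mem_top a) (mem_top b)
    rw [e, mem_bot, commutatorElement_eq_one_iff_commute] at h1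
    exact h1.eq
  have hf := CfsgLib.Fusion.commutator_inf_eq_focal (CfsgLib.Fusion.coprime_card_focalQuotient S)
  rw [htop, top_inf_eq] at hf
  rw [← hS]
  conv_lhs => rw [hf]
  refine (CfsgLib.Fusion.focalSubgroup_le_of_control fun x hx g hgx => ?_).trans
    (commutator_mono hSM le_rfl)
  by_cases hx1 : x = 1
  · exact ⟨1, one_mem M, by simp [hx1]⟩
  have hz : zpowers x ≤ M := zpowers_le.2 (hSM hx)
  obtain ⟨m, hm, c, hc, rfl⟩ := sigma_fusion hG hM hp' (S.2.to_le (zpowers_le.2 hx))
    (fun e => hx1 (zpowers_eq_bot.1 e)) hz (g := g) (by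
      rw [CfsgLib.Coprime.conjBy, MonoidHom.map_zpowers, zpowers_le]
      exact hSM hgx)
  refine ⟨m, hm, ?_⟩
  have h1 : x * c = c * x := mem_centralizer_iff.1 hc x (mem_zpowers x)
  calc m * x * m⁻¹ = m * (x * c) * c⁻¹ * m⁻¹ := by group
    _ = m * (c * x) * c⁻¹ * m⁻¹ := by rw [h1]
    _ = m * c * x * (m * c)⁻¹ := by group

/-- Some prime divisor of `|M|` lies outside `σ(M)`. -/
theorem exists_not_sigma (hM : IsCoatom M) :
    ∃ q : ℕ, q.Prime ∧ q ∣ Nat.card M ∧ q ∉ Cfsg.sigma M := by
  by_contra hcon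
  push Not at hcon
  haveI := ms_solvable hG hM.1
  haveI : Nontrivial M := (nontrivial_iff_ne_bot M).2 (ms_coatom_ne_bot hG hM)
  refine (Group.IsSolvable.commutator_lt_top_of_nontrivial (G := M)).ne (top_le_iff.1 ?_)
  refine CfsgLib.Fusion.le_of_forall_prime_pow fun q hq x _ hx => ?_
  haveI : Fact q.Prime := ⟨hq⟩
  by_cases hd : q ∣ Nat.card M
  · obtain ⟨k, hk⟩ := hx
    obtain ⟨P, hP⟩ := (IsPGroup.of_card (p := q) (n := (orderOf x).factorization q)
      (G := zpowers x) (by
        rw [Nat.card_zpowers]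
        obtain ⟨j, -, hj⟩ := (Nat.dvd_prime_pow hq).1 (orderOf_dvd_of_pow_eq_one hk)
        rw [hj, hq.factorization_pow, Finsupp.single_eq_same])).exists_le_sylow
    obtain ⟨y, hy, e⟩ : (x : G) ∈ (commutator M).map M.subtype := by
      rw [map_subtype_commutator]
      exact sigma_sylow_le_commutator hG hM (hcon q hq hd) P
        (mem_map_of_mem _ (hP (mem_zpowers x)))
    rwa [← Subtype.ext e]
  · obtain ⟨k, hk⟩ := hx
    have : x = 1 := orderOf_eq_one_iff.1 (Nat.eq_one_of_dvd_coprimes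
      ((hq.coprime_iff_not_dvd.2 hd).pow_left k) (orderOf_dvd_of_pow_eq_one hk)
      (_root_.orderOf_dvd_natCard x))
    exact this ▸ one_mem _

omit hp in
/-- The derived group of `M` contains `M_α`. -/
theorem alphaCore_le_commutator (hM : IsCoatom M) :
    Cfsg.piCore (Cfsg.alpha M) ↥M ≤ commutator M := by
  refine CfsgLib.Fusion.le_of_forall_prime_pow fun q hq x hx ⟨k, hk⟩ => ?_
  haveI : Fact q.Prime := ⟨hq⟩
  rcases k with _ | k
  · rw [pow_zero, pow_one] at hk; exact hk ▸ one_mem _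
  by_cases hx1 : x = 1
  · exact hx1 ▸ one_mem _
  obtain ⟨j, -, hj⟩ := (Nat.dvd_prime_pow hq).1 (orderOf_dvd_of_pow_eq_one hk)
  obtain ⟨P, hP⟩ := (IsPGroup.of_card (p := q) (n := j) (G := zpowers x)
    (by rw [Nat.card_zpowers, hj])).exists_le_sylow
  refine alpha_sylow_le_commutator hG ?_ hM P (hP (mem_zpowers x))
  refine CfsgLib.Coprime.piCore_isPiNum _ q hq (Dvd.dvd.trans ?_ (Subgroup.orderOf_dvd_natCard _ hx))
  rcases j with _ | j
  · exact absurd (orderOf_eq_one_iff.1 (hj.trans (pow_zero q))) hx1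
  · exact hj ▸ dvd_pow_self q j.succ_ne_zero

/-- Maximal subgroups have `p`-length one at primes of `α(M)`. -/
theorem pOne_of_alpha (hM : IsCoatom M) (hp' : p ∈ Cfsg.alpha M) : ZLen.POne p M := by
  obtain ⟨q, hq, hqM, hqσ⟩ := exists_not_sigma hG hM
  haveI : Fact q.Prime := ⟨hq⟩
  have hqα : q ∉ Cfsg.alpha M := fun h => hqσ (alpha_subset_sigma hG hM h)
  obtain ⟨P⟩ := (inferInstance : Nonempty (Sylow q M))
  obtain ⟨x, hxZ, hxo, hxu⟩ := exists_central_not_unique hG hM hqM hqσ P
  have hxM : x ∈ M := by obtain ⟨y, -, rfl⟩ := hxZ; exact y.2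
  set A := Cfsg.alphaCore M
  have hAM : A ≤ M := map_subtype_le _
  have hMA : M ≤ normalizer (A : Set G) := by
    haveI : (Cfsg.piCore (Cfsg.alpha M) M).Normal := Subgroup.sSup_normal _ fun _ h => h.1
    intro g hg
    exact le_normalizer_map M.subtype ⟨⟨g, hg⟩,
      (normalizer_eq_top (Cfsg.piCore (Cfsg.alpha M) M)).symm ▸ mem_top _, rfl⟩
  obtain ⟨⟨-, hAπ, hArel⟩, -⟩ := alphaCore_hall hG hM
  have hsol := ms_solvable hG hM.1
  have hxz : ∀ t : ℕ, t.Prime → t ∣ Nat.card (zpowers x) → t ∉ Cfsg.alpha M := fun t ht hd => by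
    rw [Nat.card_zpowers, hxo, Nat.prime_dvd_prime_iff_eq ht hq] at hd
    exact hd ▸ hqα
  obtain ⟨R, hR, hxR⟩ := CfsgLib.Coprime.IsHallIn.exists_ge (π := (Cfsg.alpha M)ᶜ) hsol
    (zpowers_le.2 hxM) hxz
  have hcop : (Nat.card A).Coprime (Nat.card R) := Nat.coprime_of_dvd fun t ht h1 h2 =>
    hR.2.1 t ht h2 (hAπ t ht h1)
  have hsup : A ⊔ R = M := by
    refine eq_of_le_of_card_ge (sup_le hAM hR.1) ?_
    refine Nat.le_of_dvd Nat.card_pos (dvd_trans ?_ (hcop.mul_dvd_of_dvd_of_dvd
      (card_dvd_of_le le_sup_left) (card_dvd_of_le le_sup_right)))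
    rw [← CfsgLib.Coprime.card_mul_relIndex hAM]
    refine mul_dvd_mul_left _ (Nat.Coprime.dvd_of_dvd_mul_right (n := R.relIndex M) ?_
      (Dvd.intro_left _ ((CfsgLib.Coprime.card_mul_relIndex hAM).trans
        (CfsgLib.Coprime.card_mul_relIndex hR.1).symm)))
    exact Nat.coprime_of_dvd fun t ht h1 h2 =>
      hR.2.2 t ht h2 (fun h3 => hArel t ht h3 h1)
  have heq : ⁅A, R⁆ = A := by
    haveI : (Cfsg.piCore (Cfsg.alpha M) M).Normal := Subgroup.sSup_normal _ fun _ h => h.1
    have hA' : A.subgroupOf M = Cfsg.piCore (Cfsg.alpha M) M :=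
      comap_map_eq_self_of_injective M.subtype_injective _
    haveI : (A.subgroupOf M).Normal := hA' ▸ inferInstance
    have h1 := eq_commutator_of_le_derived (G := M) (H := A.subgroupOf M) (K := R.subgroupOf M)
      (by rw [Nat.card_congr (subgroupOfEquivOfLe hAM).toEquiv,
        Nat.card_congr (subgroupOfEquivOfLe hR.1).toEquiv]; exact hcop)
      (by rw [← subgroupOf_sup hAM hR.1, hsup, subgroupOf_self])
      (hA'.le.trans (alphaCore_le_commutator hG hM))
    have h2 := congrArg (Subgroup.map M.subtype) h1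
    rwa [map_commutator, map_subgroupOf_eq_of_le hAM, map_subgroupOf_eq_of_le hR.1, eq_comm] at h2
  have hZ : ZLen.ZHyp q x A R :=
    { rP := hq
      mem := hxR (mem_zpowers x)
      ord := hxo
      norm := hR.1.trans hMA
      cop := hcop.symm
      sol := CfsgLib.Coprime.isSolvable_of_le hAM hsol
      oddH := hG.1.of_dvd_nat (card_subgroup_dvd_card A)
      oddR := hG.1.of_dvd_nat (card_subgroup_dvd_card R)
      zg := ZLen.isZGroup_of_le (inf_le_inf_left A (fun g hg => by
          rw [zpowers_eq_closure, centralizer_closure]; exact hg))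
        (alpha_centralizer_zgroup hG hM (zpowers_le.2 hxM) hxz
          (fun e => hq.one_lt.ne (by rw [← hxo, zpowers_eq_bot.1 e, orderOf_one]))
          (by rw [zpowers_eq_closure, centralizer_closure]; exact hxu))
      eqH := heq }
  exact (ZLen.pOne_of_zhyp _ hZ le_rfl).of_normal hAM hMA (hArel p hp.out hp')

/-- Every proper subgroup has `p`-length at most one. -/
theorem ms_pLengthLE_one {H : Subgroup G} (hH : H ≠ ⊤) : Cfsg.PLengthLE p 1 H := by
  by_cases hd : p ∣ Nat.card H
  swap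
  · refine CfsgLib.PGroup.pLengthLE_one_of_not_dvd fun h => hd ?_
    exact h.trans ((index_dvd_card _).trans (card_quotient_dvd_card _))
  obtain ⟨M, hM, hHM⟩ := ((IsCoatomic.eq_top_or_exists_le_coatom H).resolve_left hH)
  haveI := ms_solvable hG hH
  by_cases hr : Cfsg.PRankLE p 2 H
  · exact pLengthLE_one_of_rank_two (ms_ne_two hG (hd.trans (card_subgroup_dvd_card H)))
      (hG.1.of_dvd_nat (card_subgroup_dvd_card H)) hr
  · refine ((pOne_of_alpha hG hM ⟨hp.out, fun h => hr ?_⟩).mono hHM).pLengthLE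
    intro E hEc hEe
    have h1 := h (E.map (inclusion hHM)) (by haveI := hEc; infer_instance)
      (by rintro _ ⟨a, ha, rfl⟩; rw [← map_pow, hEe a ha, map_one])
    rwa [card_map_of_injective (inclusion_injective hHM)] at h1

end MinSimple

end CfsgLib.CFun
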