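import Cfsg.Agent.Lib.CFun.OddAlpha
import Cfsg.Agent.Lib.CFun.OddPLengthProper

/-!
# `M_σ` is a Hall subgroup
-/

set_option autoImplicit false
set_option linter.style.haveILetI false
set_option linter.unusedSectionVars false

open Subgroup

namespace CfsgLib.CFun

universe u

variable {G : Type u} [Group G] [Finite G] {p : ℕ} [hp : Fact p.Prime] {M : Subgroup G}
variable (hG : Cfsg.IsMinSimpleOddOrder G)
include hG

theorem sigma_sylow_le_piCore (hM : IsCoatom M) (hp' : p ∈ Cfsg.sigma M) (P : Sylow p M) :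
    (P : Subgroup M) ≤ Cfsg.piCore (Cfsg.sigma M) ↥M := by
  set Oa := Cfsg.piCore (Cfsg.alpha M) ↥M with hOa
  have hπs : Function.Surjective (QuotientGroup.mk' Oa) := QuotientGroup.mk'_surjective Oa
  set Pb := P.mapSurjective hπs
  have hPc : (P : Subgroup M) ≤ commutator ↥M := by
    have h := sigma_sylow_le_commutator hG hM hp' P
    intro x hx
    have h2 : (x : G) ∈ ⁅M, M⁆ := h (mem_map_of_mem _ hx)
    have e : (commutator ↥M).map M.subtype = ⁅M, M⁆ := by
      rw [_root_.commutator_def, Subgroup.map_commutator, ← MonoidHom.range_eq_map, M.range_subtype]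
    rw [← e] at h2
    obtain ⟨y, hy, hxy⟩ := h2
    exact M.subtype_injective hxy ▸ hy
  set D := commutator (↥M ⧸ Oa) with hD
  have hPD : (Pb : Subgroup (↥M ⧸ Oa)) ≤ D := by
    rw [Sylow.coe_mapSurjective]
    refine (map_mono hPc).trans ?_
    rw [hD, _root_.commutator_def, Subgroup.map_commutator, _root_.commutator_def]
    exact commutator_mono le_top le_top
  haveI : Group.IsNilpotent D := (alpha_quotient_commutator hG hM).1
  let PD : Sylow p D := Pb.subtype hPD
  haveI hPDn : (PD : Subgroup D).Normal :=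
    PD.normal_of_normalizerCondition Group.normalizerCondition_of_isNilpotent
  haveI hPDc : (PD : Subgroup D).Characteristic := PD.characteristic_of_normal hPDn
  haveI : D.Normal := inferInstance
  have hPn : ((Pb : Subgroup (↥M ⧸ Oa))).Normal := by
    have h : ((PD : Subgroup D).map D.subtype).Normal := inferInstance
    rwa [show (PD : Subgroup D) = (Pb : Subgroup (↥M ⧸ Oa)).subgroupOf D from Pb.coe_subtype hPD,
      map_subgroupOf_eq_of_le hPD] at h
  set N := (Pb : Subgroup (↥M ⧸ Oa)).comap (QuotientGroup.mk' Oa) with hN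
  have hON : Oa ≤ N := fun x hx => by
    show QuotientGroup.mk' Oa x ∈ (Pb : Subgroup (↥M ⧸ Oa))
    rw [show QuotientGroup.mk' Oa x = 1 from (QuotientGroup.eq_one_iff x).2 hx]
    exact one_mem _
  have hPN : (P : Subgroup M) ≤ N := fun x hx => by
    show QuotientGroup.mk' Oa x ∈ (Pb : Subgroup (↥M ⧸ Oa))
    rw [Sylow.coe_mapSurjective]
    exact mem_map_of_mem _ hx
  refine hPN.trans (CfsgLib.Coprime.le_piCore fun q hq hqd => ?_)
  rw [CfsgLib.Coprime.card_eq_card_mul_card_map_mk' Oa hON, hN,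
    map_comap_eq_self_of_surjective hπs] at hqd
  rcases hq.dvd_mul.1 hqd with h | h
  · exact alpha_subset_sigma hG hM (CfsgLib.Coprime.piCore_isPiNum _ q hq h)
  · obtain ⟨k, hk⟩ := Pb.2.exists_card_eq
    rw [hk] at h
    exact ((Nat.prime_dvd_prime_iff_eq hq hp.out).1 (hq.dvd_of_dvd_pow h)).symm ▸ hp'

omit hp in
theorem sigmaCore_hall (hM : IsCoatom M) :
    Cfsg.IsPiHallOf (Cfsg.sigma M) (Cfsg.sigmaCore M) M ∧
      Cfsg.IsPiHall (Cfsg.sigma M) (Cfsg.sigmaCore M) := by
  have hle : Cfsg.sigmaCore M ≤ M := map_subtype_le _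
  have hπ : ∀ q : ℕ, q.Prime → q ∣ Nat.card (Cfsg.sigmaCore M) → q ∈ Cfsg.sigma M := by
    rw [Cfsg.sigmaCore, card_map_of_injective M.subtype_injective]
    exact CfsgLib.Coprime.piCore_isPiNum _
  have hrel : ∀ q : ℕ, q.Prime → q ∈ Cfsg.sigma M →
      ¬ q ∣ (Cfsg.sigmaCore M).relIndex M := by
    intro q hq hqa hd
    haveI : Fact q.Prime := ⟨hq⟩
    obtain ⟨P⟩ := (inferInstance : Nonempty (Sylow q M))
    refine P.not_dvd_index (hd.trans ?_)
    rw [Cfsg.sigmaCore, Subgroup.relIndex, Subgroup.subgroupOf,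
      comap_map_eq_self_of_injective M.subtype_injective]
    exact index_dvd_of_le (sigma_sylow_le_piCore hG hM hqa P)
  refine ⟨⟨hle, hπ, hrel⟩, hπ, fun q hq hqa hd => ?_⟩
  haveI : Fact q.Prime := ⟨hq⟩
  rw [← relIndex_mul_index hle] at hd
  rcases hq.dvd_mul.1 hd with h | h
  · exact hrel q hq hqa h
  · obtain ⟨P⟩ := (inferInstance : Nonempty (Sylow q M))
    obtain ⟨-, S, hS⟩ := sigma_sylow hG hM hqa P
    exact S.not_dvd_index (h.trans (hS ▸ index_dvd_of_le (map_subtype_le _)))

end CfsgLib.CFun
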