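import Cfsg.Agent.S1455
import Cfsg.Agent.Lib.CFun.OddPLengthProper
import Cfsg.Agent.Lib.CFun.OddSigmaHall
import Cfsg.Agent.Lib.CFun.OddNarrow
import Cfsg.Agent.Lib.Coprime.Hall
import Cfsg.Agent.Lib.Fusion.Residual

/-!
# The primes `β(M)`
-/

set_option autoImplicit false
set_option linter.style.haveILetI false
set_option linter.unusedSectionVars false

open Subgroup
open scoped commutatorElement

namespace CfsgLib.CFun

universe u

variable {G : Type u} [Group G] [Finite G]

/-- The rank of a group is attained in a Sylow subgroup. -/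
theorem pRankLE_of_sylow_top {p k : ℕ} [Fact p.Prime] (S : Sylow p G)
    (hr : Cfsg.PRankLE p k ↥(S : Subgroup G)) : Cfsg.PRankLE p k G := fun A hAc hAp => by
  obtain ⟨P, hP⟩ := (show IsPGroup p A from fun a => ⟨1, Subtype.ext (by
    rw [pow_one]; exact hAp a a.2)⟩).exists_le_sylow
  haveI := hAc
  set e := P.equiv S
  haveI : IsMulCommutative (A.subgroupOf (P : Subgroup G)) :=
    ⟨⟨fun a b => Subtype.ext (Subtype.ext (show ((a : (P : Subgroup G)) : G) * (b : (P : Subgroup G))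
      = (b : (P : Subgroup G)) * (a : (P : Subgroup G)) from
        congrArg Subtype.val (hAc.is_comm.comm (⟨_, a.2⟩ : A) ⟨_, b.2⟩)))⟩⟩
  have h1 := hr ((A.subgroupOf (P : Subgroup G)).map e.toMonoidHom) inferInstance
    (by rintro _ ⟨a, ha, rfl⟩; rw [← map_pow, show a ^ p = 1 from Subtype.ext (hAp _ ha), map_one])
  rwa [Subgroup.card_map_of_injective e.injective,
    Nat.card_congr (Subgroup.subgroupOfEquivOfLe hP).toEquiv] at h1

private theorem pResidual_char {q : ℕ} {K : Type u} [Group K] :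
    (Cfsg.pResidual q K).Characteristic := by
  refine characteristic_iff_map_le.2 fun φ => ?_
  unfold Cfsg.pResidual
  rw [MonoidHom.map_closure]
  refine closure_mono ?_
  rintro _ ⟨x, hx, rfl⟩
  show Nat.Coprime _ _
  rw [orderOf_injective φ.toMonoidHom φ.injective]
  exact hx

/-- A group with a normal complement for each prime is nilpotent. -/
theorem isNilpotent_of_forall_complement {K : Type u} [Group K] [Finite K]
    (h : ∀ p : ℕ, p.Prime → p ∣ Nat.card K → Cfsg.HasNormalPComplement p K) :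
    Group.IsNilpotent K := by
  refine isNilpotent_of_prime_powers_commute fun r s hr hs hrs x y hx hy => ?_
  refine commutatorElement_eq_one_iff_commute.1 ?_
  by_contra hne
  obtain ⟨t, ht, htd⟩ := Nat.exists_prime_and_dvd (fun h1 => hne (orderOf_eq_one_iff.1 h1))
  haveI : Fact t.Prime := ⟨ht⟩
  have hnd := CfsgLib.Fusion.hasNormalPComplement_iff_not_dvd.1
    (h t ht (htd.trans (orderOf_dvd_natCard _)))
  haveI := CfsgLib.Fusion.pResidual_normal (G := K) (p := t)
  refine hnd (htd.trans (Subgroup.orderOf_dvd_natCard _ ?_))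
  have hmem : ∀ {q : ℕ}, q.Prime → q ≠ t → ∀ {z : K}, (∃ a, z ^ q ^ a = 1) →
      z ∈ Cfsg.pResidual t K := by
    intro q hq hqt z hz
    obtain ⟨a, ha⟩ := hz
    exact CfsgLib.Fusion.mem_pResidual (((Nat.coprime_primes hq ht).2 hqt).pow_left a
      |>.coprime_dvd_left (orderOf_dvd_of_pow_eq_one ha))
  rcases eq_or_ne r t with e | hrt
  · have hy' := hmem hs.out (fun e' => hrs (e.trans e'.symm)) hy
    rw [commutatorElement_def]
    exact mul_mem ((inferInstance : (Cfsg.pResidual t K).Normal).conj_mem _ hy' x) (inv_mem hy')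
  · have hx' := hmem hr.out hrt hx
    rw [commutatorElement_def, show x * y * x⁻¹ * y⁻¹ = x * (y * x⁻¹ * y⁻¹) by group]
    exact mul_mem hx' ((inferInstance : (Cfsg.pResidual t K).Normal).conj_mem _ (inv_mem hx') y)

variable (hG : Cfsg.IsMinSimpleOddOrder G) {M : Subgroup G} {p : ℕ} [hp : Fact p.Prime]
include hG

/-- Outside `β(M)` the Sylow subgroups of `M` are narrow. -/
theorem isNarrow_of_not_beta (hM : IsCoatom M) (hpM : p ∣ Nat.card M) (hb : p ∉ Cfsg.beta M)
    (P : Sylow p M) : Cfsg.IsNarrow p ↥(P : Subgroup M) := by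
  by_cases hα : p ∈ Cfsg.alpha M
  swap
  · exact Or.inl (pRankLE_subgroup (pRankLE_two_of_not_alpha hp.out hα) _)
  have hp2 : p ≠ 2 := ms_ne_two hG (hpM.trans (card_subgroup_dvd_card M))
  obtain ⟨-, S, hS⟩ := sigma_sylow hG hM (alpha_subset_sigma hG hM hα) P
  have hrG : ¬ Cfsg.PRankLE p 2 G := fun h => hα.2 (pRankLE_subgroup h M)
  have hni : ¬ ∀ (P : Sylow p G) (A : Subgroup G), A ≤ (P : Subgroup G) →
      Cfsg.IsElementaryAbelian p A → Nat.card A = p ^ 2 →
        ∃ B : Subgroup G, B ≤ (P : Subgroup G) ∧ Cfsg.IsElementaryAbelian p B ∧ A < B :=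
    fun h => hb ⟨hα, hp.out, hrG, h⟩
  push Not at hni
  obtain ⟨Q, A, hAQ, hA, hA2, hmax⟩ := hni
  have hQ : Cfsg.IsNarrow p ↥(Q : Subgroup G) := by
    refine Narrow.isNarrow hp2 Q.2 (fun h => hrG (pRankLE_of_sylow_top Q h)) (E := A.subgroupOf Q)
      ⟨?_, fun a ha => Subtype.ext (hA.2 _ ha)⟩
      (by rw [Nat.card_congr (subgroupOfEquivOfLe hAQ).toEquiv, hA2]) fun B hB hle => ?_
    · exact ⟨⟨fun a b => Subtype.ext (Subtype.ext (show ((a : (Q : Subgroup G)) : G) * (b : (Q : Subgroup G))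
        = (b : (Q : Subgroup G)) * (a : (Q : Subgroup G)) from
          congrArg Subtype.val (hA.1.is_comm.comm (⟨_, a.2⟩ : A) ⟨_, b.2⟩)))⟩⟩
    · have hle' : A ≤ B.map (Q : Subgroup G).subtype := by
        rw [← map_subgroupOf_eq_of_le hAQ]
        exact map_mono hle
      haveI := hB.1
      have h2 := hmax (B.map (Q : Subgroup G).subtype) (map_subtype_le B) ⟨inferInstance, by
        rintro _ ⟨b, hb, rfl⟩; rw [← map_pow, hB.2 b hb, map_one]⟩
      have h3 : A = B.map (Q : Subgroup G).subtype := by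
        by_contra hne
        exact h2 (lt_of_le_of_ne hle' hne)
      rw [h3, subgroupOf, comap_map_eq_self_of_injective (Q : Subgroup G).subtype_injective]
  refine Narrow.isNarrow_of_equiv ((Q.equiv S).trans ((MulEquiv.subgroupCongr hS).trans
    ((P : Subgroup M).equivMapOfInjective M.subtype M.subtype_injective).symm)) hQ

/-- The structure of `M` at a prime outside `β(M)`. -/
theorem not_beta_data (hM : IsCoatom M) (hpM : p ∣ Nat.card M) (hb : p ∉ Cfsg.beta M) :
    (∀ q : ℕ, q.Prime → q ∣ (Cfsg.pPrimeCore p ↥M).index → q ≤ p) ∧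
      Cfsg.HasNormalPComplement p ↥(commutator M) := by
  haveI : Group.IsSolvable M := ms_solvable hG hM.1
  obtain ⟨P⟩ := (inferInstance : Nonempty (Sylow p M))
  obtain ⟨h1, -, h3, -⟩ := Cfsg.Agent.S1455.result (hG.1.of_dvd_nat (card_subgroup_dvd_card M)) p
    hpM P (isNarrow_of_not_beta hG hM hpM hb P) fun _ => ms_pLengthLE_one hG hM.1
  exact ⟨h1, h3⟩

/-- Every subgroup of `M'` has a normal complement outside `β(M)`. -/
theorem complement_of_le_derived (hM : IsCoatom M) (hb : p ∉ Cfsg.beta M) {X : Subgroup G}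
    (hX : X ≤ ⁅M, M⁆) (hpX : p ∣ Nat.card X) : Cfsg.HasNormalPComplement p ↥X := by
  have hXM : X ≤ M := hX.trans (commutator_le_self M)
  have h2 : ⁅M, M⁆ = (commutator M).map M.subtype := by
    rw [_root_.commutator_def, map_commutator, ← MonoidHom.range_eq_map, range_subtype]
  have hle : X.subgroupOf M ≤ commutator M := fun x hx => by
    obtain ⟨y, hy, e⟩ := h2.le (hX hx)
    rwa [show x = y from Subtype.ext e.symm]
  exact (CfsgLib.Fusion.hasNormalPComplement_congr (subgroupOfEquivOfLe hXM)).1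
    (CfsgLib.Fusion.hasNormalPComplement_of_le hle
      (not_beta_data hG hM (hpX.trans (card_dvd_of_le hXM)) hb).2)

omit hp in
/-- `M'` and its subgroups have nilpotent Hall `β(M)'`-subgroups. -/
theorem exists_nilpotent_hall (hM : IsCoatom M) {L : Subgroup G} (hL : L ≤ ⁅M, M⁆) :
    ∃ H : Subgroup G, Cfsg.IsPiHallOf {q | q.Prime ∧ q ∉ Cfsg.beta M} H L ∧ Group.IsNilpotent H := by
  have hLM : L ≤ M := hL.trans (commutator_le_self M)
  haveI : Group.IsSolvable M := ms_solvable hG hM.1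
  have hsol : Group.IsSolvable L :=
    Group.isSolvable_of_isSolvable_injective (inclusion_injective hLM)
  obtain ⟨H, hHL, hπ, hπ'⟩ :=
    CfsgLib.Coprime.exists_hallIn (G := G) {q | q.Prime ∧ q ∉ Cfsg.beta M} hsol
  refine ⟨H, ⟨hHL, fun q hq hd => hπ q hq hd, fun q hq hqπ hd => hπ' q hq hd hqπ⟩, ?_⟩
  refine isNilpotent_of_forall_complement fun q hq hd => ?_
  haveI : Fact q.Prime := ⟨hq⟩
  exact complement_of_le_derived hG hM (hπ q hq hd).2 (hHL.trans hL) hd

omit hp in
/-- `M_β` is a Hall subgroup of `M` and of `G`. -/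
theorem betaCore_hall (hM : IsCoatom M) :
    Cfsg.IsPiHallOf (Cfsg.beta M) (Cfsg.piCoreOf (Cfsg.beta M) M) M ∧
      Cfsg.IsPiHall (Cfsg.beta M) (Cfsg.piCoreOf (Cfsg.beta M) M) := by
  have hle : Cfsg.piCoreOf (Cfsg.beta M) M ≤ M := map_subtype_le _
  have hπ : ∀ q : ℕ, q.Prime → q ∣ Nat.card (Cfsg.piCoreOf (Cfsg.beta M) M) → q ∈ Cfsg.beta M := by
    rw [Cfsg.piCoreOf, card_map_of_injective M.subtype_injective]
    exact CfsgLib.Coprime.piCore_isPiNum _
  -- the intersection of the normal complements inside `M_α`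
  set A : Subgroup M := Cfsg.piCore (Cfsg.alpha M) M with hA
  have hAd : A ≤ commutator M := alphaCore_le_commutator hG hM
  set X : Subgroup M := A ⊓ ⨅ (q : ℕ) (_ : q.Prime ∧ q ∉ Cfsg.beta M),
    (Cfsg.pResidual q ↥(commutator M)).map (commutator M).subtype with hX
  haveI hXn : X.Normal := by
    refine @Subgroup.normal_inf_normal M _ _ _ inferInstance ?_
    refine ⟨fun n hn g => mem_iInf.2 fun q => mem_iInf.2 fun hq => ?_⟩
    have h1 := mem_iInf.1 (mem_iInf.1 hn q) hq
    haveI : (Cfsg.pResidual q ↥(commutator M)).Characteristic :=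
      pResidual_char
    haveI : ((Cfsg.pResidual q ↥(commutator M)).map (commutator M).subtype).Normal :=
      ConjAct.normal_of_characteristic_of_normal
    exact (inferInstance : ((Cfsg.pResidual q ↥(commutator M)).map
      (commutator M).subtype).Normal).conj_mem n h1 g
  have hXπ : CfsgLib.Coprime.IsPiNum (Cfsg.beta M) (Nat.card X) := by
    intro q hq hd
    by_contra hqb
    haveI : Fact q.Prime := ⟨hq⟩
    have h1 : X ≤ (Cfsg.pResidual q ↥(commutator M)).map (commutator M).subtype :=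
      inf_le_right.trans ((iInf_le _ q).trans (iInf_le _ ⟨hq, hqb⟩))
    have hqM : q ∣ Nat.card M := hd.trans (card_subgroup_dvd_card X)
    refine CfsgLib.Fusion.hasNormalPComplement_iff_not_dvd.1 (not_beta_data hG hM hqM hqb).2
      ((hd.trans (card_dvd_of_le h1)).trans (card_map_dvd _ _))
  have hPX : ∀ (q : ℕ) [Fact q.Prime], q ∈ Cfsg.beta M → ∀ P : Sylow q M,
      (P : Subgroup M) ≤ Cfsg.piCore (Cfsg.beta M) M := by
    intro q _ hq P
    refine le_trans ?_ (CfsgLib.Coprime.le_piCore (N := X) hXπ)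
    refine le_inf (alpha_sylow_le_piCore hG hq.1 hM P) (le_iInf fun r => le_iInf fun hr => ?_)
    intro x hx
    haveI : Fact r.Prime := ⟨hr.1⟩
    refine ⟨⟨x, alpha_sylow_le_commutator hG hq.1 hM P hx⟩, CfsgLib.Fusion.mem_pResidual ?_, rfl⟩
    obtain ⟨k, hk⟩ := IsPGroup.iff_orderOf.1 P.2 ⟨x, hx⟩
    rw [Subgroup.orderOf_mk] at hk
    rw [Subgroup.orderOf_mk, hk]
    exact ((Nat.coprime_primes Fact.out hr.1).2 fun e => hr.2 (e ▸ hq)).pow_left k
  have hrel : ∀ q : ℕ, q.Prime → q ∈ Cfsg.beta M →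
      ¬ q ∣ (Cfsg.piCoreOf (Cfsg.beta M) M).relIndex M := by
    intro q hq hqb hd
    haveI : Fact q.Prime := ⟨hq⟩
    obtain ⟨P⟩ := (inferInstance : Nonempty (Sylow q M))
    refine P.not_dvd_index (hd.trans ?_)
    rw [Cfsg.piCoreOf, Subgroup.relIndex, Subgroup.subgroupOf,
      comap_map_eq_self_of_injective M.subtype_injective]
    exact index_dvd_of_le (hPX q hqb P)
  refine ⟨⟨hle, hπ, hrel⟩, hπ, fun q hq hqb hd => ?_⟩
  haveI : Fact q.Prime := ⟨hq⟩
  rw [← relIndex_mul_index hle] at hd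
  rcases hq.dvd_mul.1 hd with h | h
  · exact hrel q hq hqb h
  · obtain ⟨P⟩ := (inferInstance : Nonempty (Sylow q M))
    obtain ⟨-, S, hS⟩ := sigma_sylow hG hM (alpha_subset_sigma hG hM hqb.1) P
    exact S.not_dvd_index (h.trans (hS ▸ index_dvd_of_le (map_subtype_le _)))

omit hp in
/-- `M_σ ≤ M'`. -/
theorem sigmaCore_le_derived (hM : IsCoatom M) : Cfsg.sigmaCore M ≤ ⁅M, M⁆ := by
  intro x hx
  refine CfsgLib.Fusion.le_of_forall_prime_pow (H := Cfsg.sigmaCore M) ?_ hx
  intro q hq y hy ⟨k, hk⟩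
  haveI : Fact q.Prime := ⟨hq⟩
  have hyM : y ∈ M := map_subtype_le _ hy
  by_cases hqs : q ∈ Cfsg.sigma M
  · obtain ⟨m, -, hm⟩ := (Nat.dvd_prime_pow hq).1 (orderOf_dvd_of_pow_eq_one hk)
    have hpg : IsPGroup q (zpowers (⟨y, hyM⟩ : M)) := IsPGroup.of_card (n := m)
      (by rw [Nat.card_zpowers, Subgroup.orderOf_mk, hm])
    obtain ⟨P, hP⟩ := hpg.exists_le_sylow
    exact sigma_sylow_le_commutator hG hM hqs P ⟨⟨y, hyM⟩, hP (mem_zpowers _), rfl⟩
  · by_cases hy1 : y = 1
    · rw [hy1]; exact one_mem _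
    · exfalso
      obtain ⟨m, -, hm⟩ := (Nat.dvd_prime_pow hq).1 (orderOf_dvd_of_pow_eq_one hk)
      have hm0 : m ≠ 0 := fun e => hy1 (orderOf_eq_one_iff.1 (by rw [hm, e, pow_zero]))
      exact hqs ((sigmaCore_hall hG hM).1.2.1 q hq
        ((dvd_pow_self q hm0).trans (hm ▸ Subgroup.orderOf_dvd_natCard _ hy)))

end CfsgLib.CFun
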