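import Cfsg.Agent.Lib.CFun.OddTauTwoMain
import Mathlib.GroupTheory.SpecificGroups.ZGroup

/-!
# Complements to `M_σ`
-/

set_option autoImplicit false
set_option linter.style.haveILetI false
set_option linter.unusedSectionVars false

open Subgroup
open scoped commutatorElement
open CfsgLib.Coprime (conjBy conjBy_conjBy conjBy_one mem_conjBy conj_mem_conjBy)

namespace CfsgLib.CFun.Compl

universe u

variable {G : Type u} [Group G] [Finite G] {p : ℕ} [hp : Fact p.Prime]

/-- An odd `p`-group of rank one is cyclic. -/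
theorem isCyclic_of_rank_one (hp2 : p ≠ 2) {T : Subgroup G} (hT : IsPGroup p T)
    (hr : Cfsg.PRankLE p 1 T) : IsCyclic T := by
  by_contra hnc
  obtain ⟨E, hE, -, hEe, hE2⟩ := exists_normal_elementary_two hp2 hT hnc
  exact not_pRankLE_of_elementary hE hEe
    (by rw [hE2]; exact Nat.pow_lt_pow_right hp.out.one_lt one_lt_two) hr

variable (hG : Cfsg.IsMinSimpleOddOrder G) {M E : Subgroup G} (hM : IsCoatom M)
  (hE : Cfsg.IsComplIn E (Cfsg.sigmaCore M) M)
include hG hM hE

theorem compl_le : E ≤ M := hE.1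

theorem compl_inf : Cfsg.sigmaCore M ⊓ E = ⊥ := by rw [inf_comm]; exact hE.2.2.1

theorem compl_not_sigma (h : p ∣ Nat.card E) : p ∉ Cfsg.sigma M := by
  intro hσ
  obtain ⟨x, hx⟩ := exists_prime_orderOf_dvd_card' (G := E) p h
  have hxp : (x : G) ^ p = 1 :=
    (congrArg Subtype.val (show x ^ p = 1 by rw [← hx, pow_orderOf_eq_one]) :)
  have hpg : IsPGroup p (zpowers (x : G)) := IsPGroup.of_card (n := 1) (by
    rw [Nat.card_zpowers, pow_one]; exact (orderOf_injective E.subtype E.subtype_injective x).trans hx)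
  have h1 : (x : G) ∈ Cfsg.sigmaCore M ⊓ E := ⟨TauTwo.isPGroup_le_sigmaCore hG hM hσ hpg
    (zpowers_le.2 (hE.1 x.2)) (mem_zpowers _), x.2⟩
  rw [compl_inf hG hM hE, mem_bot] at h1
  rw [Subtype.ext h1 (a2 := (1 : E)), orderOf_one] at hx
  exact hp.out.one_lt.ne hx

omit hp in
theorem compl_rank (s : ℕ) (hs : s.Prime) : Cfsg.PRankLE s 2 E := by
  haveI : Fact s.Prime := ⟨hs⟩
  by_cases h : s ∣ Nat.card E
  · exact RankTwoTower.pRankLE_of_injective (f := inclusion hE.1) (inclusion_injective hE.1)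
      (pRankLE_two_of_not_alpha hs fun hα =>
        compl_not_sigma hG hM hE h (alpha_subset_sigma hG hM hα))
  · exact pRankLE_of_not_dvd h 2

omit hp in
theorem compl_solvable : Group.IsSolvable E := by
  haveI := ms_solvable hG hM.1
  exact CfsgLib.Coprime.isSolvable_of_le hE.1 inferInstance

omit hp in
theorem derived_nilpotent_compl : Group.IsNilpotent ↥(commutator ↥E) := by
  haveI := compl_solvable hG hM hE
  exact commutator_isNilpotent_of_rank_two (G := ↥E) (hG.1.of_dvd_nat (card_subgroup_dvd_card E))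
    fun s hs => haveI : Fact s.Prime := ⟨hs⟩
      pRankLE_subgroup (compl_rank hG hM hE s hs) _

omit hp in
theorem derived_le_sup : ⁅M, M⁆ ≤ Cfsg.sigmaCore M ⊔ ⁅E, E⁆ := by
  have hK := TauTwo.sigmaCore_normal hG M
  have hKM : Cfsg.sigmaCore M ≤ M := map_subtype_le _
  haveI : ((Cfsg.sigmaCore M).subgroupOf M).Normal := (normal_subgroupOf_iff_le_normalizer hKM).2 hK
  set π := QuotientGroup.mk' ((Cfsg.sigmaCore M).subgroupOf M)
  intro x hx
  have hmap : (E.subgroupOf M).map π = ⊤ := by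
    refine eq_top_iff.2 fun y _ => ?_
    obtain ⟨m, rfl⟩ := QuotientGroup.mk'_surjective _ y
    obtain ⟨e, he, k, hk, hek⟩ := hE.2.2.2 m m.2
    refine ⟨⟨e, hE.1 he⟩, he, ?_⟩
    refine QuotientGroup.eq.2 ?_
    show (e : G)⁻¹ * (m : G) ∈ Cfsg.sigmaCore M
    rw [hek, inv_mul_cancel_left]
    exact hk
  rw [TauTwo.map_commutator_self] at hx
  obtain ⟨x', hx', rfl⟩ := hx
  have h1 : π x' ∈ (⁅E.subgroupOf M, E.subgroupOf M⁆ : Subgroup M).map π := by
    rw [map_commutator, hmap]
    rw [_root_.commutator_def] at hx'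
    exact ((map_commutator _ _ π).le.trans (commutator_mono le_top le_top)) (mem_map_of_mem π hx')
  obtain ⟨d, hd, hdx⟩ := h1
  have h2 : (d : G)⁻¹ * x' ∈ Cfsg.sigmaCore M :=
    (QuotientGroup.eq (s := (Cfsg.sigmaCore M).subgroupOf M)).1
      (show (d : M ⧸ (Cfsg.sigmaCore M).subgroupOf M) = x' from hdx)
  have h3 : (d : G) ∈ ⁅E, E⁆ := by
    have h4 := mem_map_of_mem M.subtype hd
    rw [map_commutator, map_subgroupOf_eq_of_le hE.1] at h4
    exact h4
  show (x' : G) ∈ _
  rw [show (x' : G) = (d : G) * ((d : G)⁻¹ * x') by group]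
  exact mul_mem (mem_sup_right h3) (mem_sup_left h2)

/-- The primes of `τ₃(M)` divide only the derived subgroup of a complement. -/
theorem mem_derived_of_tau3 (hp3 : p ∈ Cfsg.tau3 M) {x : G} (hx : x ∈ E) {n : ℕ}
    (hxp : x ^ p ^ n = 1) : x ∈ ⁅E, E⁆ := by
  obtain ⟨-, hpσ, hpd, hr1⟩ := hp3
  have hK := TauTwo.sigmaCore_normal hG M
  have hdd : p ∣ Nat.card ↥(commutator ↥E) := by
    have h1 : p ∣ Nat.card ↥(Cfsg.sigmaCore M ⊔ ⁅E, E⁆ : Subgroup G) :=
      hpd.trans (card_dvd_of_le (derived_le_sup hG hM hE))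
    rw [sup_comm] at h1
    rcases hp.out.dvd_mul.1 (h1.trans (CfsgLib.Coprime.card_sup_dvd_of_le_normalizer
      ((commutator_le_self E).trans (hE.1.trans hK)))) with h | h
    · rwa [TauTwo.map_commutator_self, card_map_of_injective E.subtype_injective] at h
    · exact absurd h (TauTwo.not_dvd_sigmaCore hG hM hpσ)
  have hp2 : p ≠ 2 := ms_ne_two hG (hpd.trans (card_subgroup_dvd_card _))
  obtain ⟨P₀, hP₀⟩ := (IsPGroup.of_card (p := p) (G := (⊥ : Subgroup E)) (n := 0)
    (by rw [card_bot, pow_zero])).exists_le_sylow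
  haveI : IsCyclic (P₀ : Subgroup E) := by
    haveI := isCyclic_of_rank_one (G := G) hp2 (P₀.2.map E.subtype)
      (RankTwoTower.pRankLE_of_injective
        (f := inclusion ((map_subtype_le _).trans hE.1)) (inclusion_injective _) hr1)
    exact isCyclic_of_injective ((P₀ : Subgroup E).equivMapOfInjective E.subtype E.subtype_injective).toMonoidHom
      (MulEquiv.injective _)
  haveI : Group.IsSolvable E := compl_solvable hG hM hE
  have hidx := (Sylow.not_dvd_card_commutator_or_not_dvd_index_commutator P₀).resolve_left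
    (fun h => h hdd)
  have hmem : (⟨x, hx⟩ : E) ∈ commutator ↥E := by
    have hle : zpowers (⟨x, hx⟩ : E) ≤ commutator ↥E := by
      refine le_normal_of_coprime_index ?_
      rw [Nat.card_zpowers, Subgroup.orderOf_mk]
      obtain ⟨j, -, hj⟩ := (Nat.dvd_prime_pow hp.out).1 (orderOf_dvd_of_pow_eq_one hxp)
      rw [hj]
      exact (hp.out.coprime_iff_not_dvd.2 hidx).pow_left j
    exact hle (mem_zpowers _)
  rw [TauTwo.map_commutator_self]
  exact ⟨_, hmem, rfl⟩

omit hp in
/-- The Hall subgroups at `τ₃(M)`. -/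
theorem tau3_hall {E₃ : Subgroup G} (h : Cfsg.IsPiHallOf (Cfsg.tau3 M) E₃ E) :
    IsCyclic E₃ ∧ E₃ ≤ ⁅E, E⁆ ∧ E ≤ normalizer (E₃ : Set G) := by
  have hle : E₃ ≤ ⁅E, E⁆ := CfsgLib.Fusion.le_of_forall_prime_pow fun q hq y hy ⟨k, hk⟩ => by
    haveI : Fact q.Prime := ⟨hq⟩
    by_cases hy1 : y = 1
    · rw [hy1]; exact one_mem _
    · refine mem_derived_of_tau3 hG hM hE (p := q) (h.2.1 q hq ?_) (h.1 hy) hk
      obtain ⟨j, -, hj⟩ := (Nat.dvd_prime_pow hq).1 (orderOf_dvd_of_pow_eq_one hk)
      rcases j with _ | j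
      · exact absurd (orderOf_eq_one_iff.1 (hj.trans (pow_zero q))) hy1
      · exact (hj ▸ dvd_pow_self q j.succ_ne_zero : q ∣ orderOf y).trans
          (Subgroup.orderOf_dvd_natCard E₃ hy)
  have hnd : Group.IsNilpotent ↥(⁅E, E⁆ : Subgroup G) := by
    rw [TauTwo.map_commutator_self]
    haveI := derived_nilpotent_compl hG hM hE
    exact Group.nilpotent_of_mulEquiv
      ((commutator ↥E).equivMapOfInjective E.subtype E.subtype_injective)
  haveI := hnd
  haveI : Group.IsNilpotent E₃ := CfsgLib.Coprime.isNilpotent_of_le hle hnd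
  haveI : IsZGroup E₃ := ⟨fun q hq S => by
    haveI : Fact q.Prime := ⟨hq⟩
    by_cases hd : q ∣ Nat.card E₃
    · haveI := isCyclic_of_rank_one (G := G) (ms_ne_two hG (hd.trans (card_subgroup_dvd_card E₃)))
        (S.2.map E₃.subtype) (RankTwoTower.pRankLE_of_injective
          (f := inclusion ((map_subtype_le _).trans (h.1.trans hE.1))) (inclusion_injective _)
          (h.2.1 q hq hd).2.2.2)
      exact isCyclic_of_injective ((S : Subgroup E₃).equivMapOfInjective E₃.subtype E₃.subtype_injective).toMonoidHom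
        (MulEquiv.injective _)
    · haveI : Subsingleton S := by
        obtain ⟨k, hk⟩ := IsPGroup.iff_card.1 S.2
        rcases k with _ | k
        · exact (Nat.card_eq_one_iff_unique.1 (hk.trans (pow_zero q))).1
        · exact absurd ((hk ▸ dvd_pow_self q k.succ_ne_zero : q ∣ Nat.card S).trans
            (card_subgroup_dvd_card _)) hd
      infer_instance⟩
  refine ⟨inferInstance, hle, fun e he => ?_⟩
  refine CfsgLib.Coprime.conjBy_eq_self_iff.1 (eq_of_le_of_card_ge ?_
    (CfsgLib.Coprime.card_conjBy e E₃).ge)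
  refine CfsgLib.Fusion.le_of_forall_prime_pow fun q hq y hy ⟨k, hk⟩ => ?_
  haveI : Fact q.Prime := ⟨hq⟩
  by_cases hy1 : y = 1
  · rw [hy1]; exact one_mem _
  obtain ⟨z, hz, rfl⟩ := hy
  set D : Subgroup G := ⁅E, E⁆ with hD
  have hzD : e * z * e⁻¹ ∈ D :=
    (mem_normalizer_iff.1 (PGroup.le_normalizer_commutator le_normalizer le_normalizer he) z).1 (hle hz)
  have hqd : q ∣ Nat.card E₃ := by
    have hk' : z ^ q ^ k = 1 := (MulAut.conj e).injective (by rw [map_pow, map_one]; exact hk)
    obtain ⟨j, -, hj⟩ := (Nat.dvd_prime_pow hq).1 (orderOf_dvd_of_pow_eq_one hk')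
    rcases j with _ | j
    · exact absurd (by rw [orderOf_eq_one_iff.1 (hj.trans (pow_zero q))]; exact map_one _) hy1
    · exact (hj ▸ dvd_pow_self q j.succ_ne_zero : q ∣ orderOf z).trans
        (Subgroup.orderOf_dvd_natCard E₃ hz)
  obtain ⟨S⟩ := (inferInstance : Nonempty (Sylow q E₃))
  set T : Subgroup D := ((S : Subgroup E₃).map (inclusion hle)) with hT
  have hTp : IsPGroup q T := S.2.map _
  have hTi : ¬ q ∣ T.index := by
    have h1 := card_mul_index T
    have h2 : Nat.card T = Nat.card (S : Subgroup E₃) := card_map_of_injective (inclusion_injective hle)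
    intro hd
    have hb := card_mul_index (S : Subgroup E₃)
    have hc : Nat.card E₃ * E₃.relIndex D = Nat.card D := by
      rw [← card_mul_index (E₃.subgroupOf D), Nat.card_congr (subgroupOfEquivOfLe hle).toEquiv]
      rfl
    rw [← hb, h2.symm, mul_assoc] at hc
    have h3 : (S : Subgroup E₃).index * E₃.relIndex D = T.index :=
      Nat.eq_of_mul_eq_mul_left Nat.card_pos (hc.trans h1.symm)
    rcases hq.dvd_mul.1 (h3 ▸ hd) with hd' | hd'
    · exact S.not_dvd_index hd'
    · refine h.2.2 q hq (h.2.1 q hq hqd) (hd'.trans ?_)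
      exact Dvd.intro _ (relIndex_mul_relIndex E₃ D E hle (commutator_le_self E))
  haveI : (hTp.toSylow hTi : Subgroup D).Normal :=
    Sylow.normal_of_normalizerCondition Group.normalizerCondition_of_isNilpotent _
  have h1 := RankTwoTower.mem_sylow_of_normal (hTp.toSylow hTi) (y := ⟨e * z * e⁻¹, hzD⟩)
    ⟨k, Subtype.ext hk⟩
  obtain ⟨w, -, hw⟩ := h1
  show e * z * e⁻¹ ∈ E₃
  rw [show e * z * e⁻¹ = (w : G) from (congrArg Subtype.val hw).symm]
  exact w.2

omit hp in
/-- The Hall subgroups at `τ₁(M)`. -/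
theorem tau1_hall {E₁ : Subgroup G} (h : Cfsg.IsPiHallOf (Cfsg.tau1 M) E₁ E) : IsCyclic E₁ := by
  have hab : ∀ a ∈ E₁, ∀ b ∈ E₁, a * b = b * a := fun a ha b hb => by
    have h1 : ⁅a, b⁆ = 1 := by
      by_contra hne
      obtain ⟨q, hq, hqd⟩ := Nat.exists_prime_and_dvd fun h1 => hne (orderOf_eq_one_iff.1 h1)
      exact (h.2.1 q hq (hqd.trans (Subgroup.orderOf_dvd_natCard E₁
        (mul_mem (mul_mem (mul_mem ha hb) (inv_mem ha)) (inv_mem hb))))).2.2.2.1
        (hqd.trans (Subgroup.orderOf_dvd_natCard _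
          (commutator_mono (h.1.trans hE.1) (h.1.trans hE.1) (commutator_mem_commutator ha hb))))
    exact commutatorElement_eq_one_iff_mul_comm.1 h1
  haveI : IsMulCommutative E₁ := ⟨⟨fun a b => Subtype.ext (hab a a.2 b b.2)⟩⟩
  haveI : IsZGroup E₁ := ⟨fun q hq S => by
    haveI : Fact q.Prime := ⟨hq⟩
    by_cases hd : q ∣ Nat.card E₁
    · haveI := isCyclic_of_rank_one (G := G) (ms_ne_two hG (hd.trans (card_subgroup_dvd_card E₁)))
        (S.2.map E₁.subtype) (RankTwoTower.pRankLE_of_injective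
          (f := inclusion ((map_subtype_le _).trans (h.1.trans hE.1))) (inclusion_injective _)
          (h.2.1 q hq hd).2.2.2.2)
      exact isCyclic_of_injective ((S : Subgroup E₁).equivMapOfInjective E₁.subtype E₁.subtype_injective).toMonoidHom
        (MulEquiv.injective _)
    · haveI : Subsingleton S := by
        obtain ⟨k, hk⟩ := IsPGroup.iff_card.1 S.2
        rcases k with _ | k
        · exact (Nat.card_eq_one_iff_unique.1 (hk.trans (pow_zero q))).1
        · exact absurd ((hk ▸ dvd_pow_self q k.succ_ne_zero : q ∣ Nat.card S).trans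
            (card_subgroup_dvd_card _)) hd
      infer_instance⟩
  haveI : Group.IsNilpotent E₁ := by
    letI : CommGroup E₁ := { (inferInstance : Group E₁) with mul_comm := IsMulCommutative.is_comm.comm }
    infer_instance
  infer_instance

end CfsgLib.CFun.Compl
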