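import Cfsg.Agent.Lib.Invol.SignalizerTransitivity
import Cfsg.Prelude.Def_OddOrderLocal
import Cfsg.Prelude.Def_OddOrder

/-!
# The transitivity theorem under the transitivity hypothesis
-/

set_option autoImplicit false
set_option linter.style.haveILetI false
set_option linter.unusedSectionVars false

open Subgroup
open CfsgLib.Coprime (conjBy conjBy_conjBy conjBy_one conjBy_eq_self_iff conj_mem_of_le_normalizer
  IsSylowIn mem_conjBy conj_mem_conjBy)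

namespace CfsgLib.CFun

universe u

variable {G : Type u} [Group G] [Finite G] {A : Subgroup G} {q : ℕ} [hq : Fact q.Prime]

/-- The primes outside the order of `A`. -/
local notation "ρ'" => Cfsg.primesNotDvd (Nat.card A)
/-- The group of conjugating elements. -/
local notation "Θ" => Cfsg.piCoreOf (Cfsg.primesNotDvd (Nat.card A)) (centralizer (A : Set G))

/-- A maximal invariant `q`-subgroup. -/
def IsMaxInv (A : Subgroup G) (q : ℕ) (Q : Subgroup G) : Prop :=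
  IsPGroup q Q ∧ A ≤ normalizer (Q : Set G) ∧
    ∀ R : Subgroup G, IsPGroup q R → A ≤ normalizer (R : Set G) → Q ≤ R → R = Q

theorem isMaxInv_iff {Q : Subgroup G} :
    Q ∈ Cfsg.maxInvSubgroups ⊤ A {q} ↔ IsMaxInv A q Q := by
  constructor
  · rintro ⟨⟨-, hQ, hAQ⟩, hmx⟩
    exact ⟨CfsgLib.Coprime.isPGroup_iff_isPiNum.2 hQ, hAQ, fun R hR hAR hle =>
      hmx R ⟨le_top, CfsgLib.Coprime.isPGroup_iff_isPiNum.1 hR, hAR⟩ hle⟩
  · rintro ⟨hQ, hAQ, hmx⟩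
    exact ⟨⟨le_top, CfsgLib.Coprime.isPGroup_iff_isPiNum.1 hQ, hAQ⟩, fun R ⟨_, hR, hAR⟩ hle =>
      hmx R (CfsgLib.Coprime.isPGroup_iff_isPiNum.2 hR) hAR hle⟩

theorem exists_isMaxInv_ge {U : Subgroup G} (hU : IsPGroup q U) (hAU : A ≤ normalizer (U : Set G)) :
    ∃ Q : Subgroup G, IsMaxInv A q Q ∧ U ≤ Q := by
  obtain ⟨Q, hUQ, hQ⟩ := exists_maximal_ge_of_wellFoundedGT
    (fun W : Subgroup G => IsPGroup q W ∧ A ≤ normalizer (W : Set G)) U ⟨hU, hAU⟩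
  exact ⟨Q, ⟨hQ.prop.1, hQ.prop.2, fun R h1 h2 h3 => (hQ.eq_of_le ⟨h1, h2⟩ h3).symm⟩, hUQ⟩

theorem le_normalizer_conjBy {c : G} (hc : c ∈ centralizer (A : Set G)) {R : Subgroup G}
    (hR : A ≤ normalizer (R : Set G)) : A ≤ normalizer (conjBy c R : Set G) := fun e he => by
  refine conjBy_eq_self_iff.1 ?_
  rw [conjBy_conjBy, mem_centralizer_iff.1 hc e he, ← conjBy_conjBy, conjBy_eq_self_iff.2 (hR he)]

theorem IsMaxInv.conj {c : G} (hc : c ∈ centralizer (A : Set G)) {Q : Subgroup G}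
    (h : IsMaxInv A q Q) : IsMaxInv A q (conjBy c Q) := by
  refine ⟨h.1.map _, le_normalizer_conjBy hc h.2.1, fun R hR hAR hle => ?_⟩
  have h1 : Q ≤ conjBy c⁻¹ R := by
    intro x hx
    rw [mem_conjBy, inv_inv]
    exact hle (conj_mem_conjBy hx)
  have h2 := h.2.2 _ (hR.map _) (le_normalizer_conjBy (inv_mem hc) hAR) h1
  rw [← h2, conjBy_conjBy, mul_inv_cancel, conjBy_one]

theorem coprime_of_isPiNum {n : ℕ} (h : CfsgLib.Coprime.IsPiNum ρ' n) :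
    (Nat.card A).Coprime n :=
  Nat.coprime_of_dvd fun r hr hrA hrn => (h r hr hrn).2 hrA

theorem isPiNum_of_isPGroup (hqA : ¬ q ∣ Nat.card A) {U : Subgroup G} (hU : IsPGroup q U) :
    CfsgLib.Coprime.IsPiNum ρ' (Nat.card U) := fun r hr hd => by
  obtain ⟨k, hk⟩ := IsPGroup.iff_card.1 hU
  rw [hk] at hd
  rw [(Nat.prime_dvd_prime_iff_eq hr hq.out).1 (hr.dvd_of_dvd_pow hd)]
  exact ⟨hq.out, hqA⟩

theorem isPiNum_piCoreOf {π : Set ℕ} (X : Subgroup G) :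
    CfsgLib.Coprime.IsPiNum π (Nat.card (Cfsg.piCoreOf π X)) := by
  rw [Cfsg.piCoreOf, card_map_of_injective X.subtype_injective]
  exact CfsgLib.Coprime.piCore_isPiNum π

theorem piCoreOf_le {π : Set ℕ} (X : Subgroup G) : Cfsg.piCoreOf π X ≤ X := map_subtype_le _

theorem le_normalizer_piCoreOf {π : Set ℕ} {X : Subgroup G} (hX : A ≤ X) :
    A ≤ normalizer (Cfsg.piCoreOf π X : Set G) := fun a ha =>
  le_normalizer_map X.subtype ⟨⟨a, hX ha⟩, (normalizer_eq_top (Cfsg.piCore π X)).symm ▸ mem_top _, rfl⟩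

/-- The data: the transitivity hypothesis in a simple group with solvable proper subgroups. -/
structure TransData (A : Subgroup G) (q : ℕ) : Prop where
  hyp : Cfsg.TransitivityHypothesis A
  simple : IsSimpleGroup G
  nonab : ¬ IsMulCommutative G
  solv : ∀ H : Subgroup G, H ≠ ⊤ → Group.IsSolvable H
  notDvd : ¬ q ∣ Nat.card A

variable (hd : TransData A q)
include hd

theorem TransData.le_core {X U : Subgroup G} (hX : X ≠ ⊤) (hAX : A ≤ X) (hUX : U ≤ X)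
    (hU : CfsgLib.Coprime.IsPiNum ρ' (Nat.card U)) (hAU : A ≤ normalizer (U : Set G)) :
    U ≤ Cfsg.piCoreOf ρ' X := by
  rw [← hd.hyp.2.2 X hX hAX]
  exact le_sSup ⟨hUX, hU, hAU⟩

theorem TransData.normalizer_ne_top {D : Subgroup G} (hD : D ≠ ⊥) (hD' : D ≠ ⊤) :
    normalizer (D : Set G) ≠ ⊤ := fun h => by
  haveI := hd.simple
  haveI : D.Normal := normalizer_eq_top_iff.1 h
  exact (IsSimpleGroup.eq_bot_or_eq_top_of_normal D inferInstance).elim hD hD'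

theorem TransData.ne_top_of_isPGroup {D : Subgroup G} (hD : IsPGroup q D) : D ≠ ⊤ := by
  rintro rfl
  haveI := hd.simple
  haveI := (hD.of_equiv Subgroup.topEquiv).center_nontrivial
  have hc : center G = ⊤ :=
    (IsSimpleGroup.eq_bot_or_eq_top_of_normal (center G) inferInstance).resolve_left fun h =>
      (Subgroup.nontrivial_iff_ne_bot (center G)).1 inferInstance h
  exact hd.nonab ⟨⟨fun a b => ((mem_center_iff.1 (hc ▸ mem_top b : b ∈ center G)) a)⟩⟩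

theorem TransData.centralizer_ne_top {a : G} (ha : a ≠ 1) : centralizer ({a} : Set G) ≠ ⊤ := fun h => by
  haveI := hd.simple
  have hac : a ∈ center G := mem_center_iff.2 fun g =>
    (mem_centralizer_singleton_iff.1 (h.symm ▸ mem_top g))
  rcases IsSimpleGroup.eq_bot_or_eq_top_of_normal (center G) inferInstance with hb | ht
  · exact ha (mem_bot.1 (hb ▸ hac))
  · exact hd.nonab ⟨⟨fun x y => ((mem_center_iff.1 (ht ▸ mem_top y : y ∈ center G)) x)⟩⟩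

/-- Elements of a core centralizing `A` lie in `Θ`. -/
theorem TransData.mem_theta {c : G} {X : Subgroup G}
    (hc : c ∈ Cfsg.piCoreOf ρ' X) (hcA : c ∈ centralizer (A : Set G)) : c ∈ Θ := by
  set N := normalizer (A : Set G) with hN
  have hNne : N ≠ ⊤ := hd.normalizer_ne_top hd.hyp.1 hd.hyp.2.1
  have hCN : centralizer (A : Set G) ≤ N := CfsgLib.Coprime.centralizer_le_normalizer_self A
  set U := zpowers c
  have hU : CfsgLib.Coprime.IsPiNum ρ' (Nat.card U) :=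
    (isPiNum_piCoreOf X).of_dvd (card_dvd_of_le (zpowers_le.2 hc))
  have hAU : A ≤ normalizer (U : Set G) := fun a ha => by
    refine conjBy_eq_self_iff.1 ?_
    show U.map (MulAut.conj a).toMonoidHom = U
    rw [MonoidHom.map_zpowers]
    congr 1
    show a * c * a⁻¹ = c
    rw [mem_centralizer_iff.1 hcA a ha, mul_inv_cancel_right]
  have h1 := hd.le_core hNne le_normalizer (zpowers_le.2 (hCN hcA)) hU hAU (mem_zpowers c)
  set W := Cfsg.piCoreOf ρ' N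
  set C := centralizer (A : Set G)
  haveI : ((W ⊓ C).subgroupOf C).Normal := by
    refine normal_subgroupOf_of_le_normalizer (CfsgLib.Coprime.inf_le_normalizer ?_ le_normalizer)
    exact hCN.trans fun x hx =>
      le_normalizer_map N.subtype ⟨⟨x, hx⟩, (normalizer_eq_top (Cfsg.piCore ρ' N)).symm ▸ mem_top _, rfl⟩
  have h2 : (W ⊓ C).subgroupOf C ≤ Cfsg.piCore ρ' C := CfsgLib.Coprime.le_piCore (by
    rw [Nat.card_congr (subgroupOfEquivOfLe inf_le_right).toEquiv]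
    exact (isPiNum_piCoreOf N).of_dvd (card_dvd_of_le inf_le_left))
  exact ⟨⟨c, hcA⟩, h2 (show c ∈ W ⊓ C from ⟨h1, hcA⟩), rfl⟩

theorem TransData.theta_le : Θ ≤ centralizer (A : Set G) := piCoreOf_le _

/-- Two invariant `q`-subgroups in a core can be moved into intersecting maximal ones. -/
theorem TransData.bridge {X C₁ C₂ : Subgroup G} (hX : X ≠ ⊤) (hAX : A ≤ X)
    (h₁ : C₁ ≤ X) (h₁q : IsPGroup q C₁) (h₁A : A ≤ normalizer (C₁ : Set G))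
    (h₂ : C₂ ≤ X) (h₂q : IsPGroup q C₂) (h₂A : A ≤ normalizer (C₂ : Set G)) :
    ∃ P₁ P₂ : Subgroup G, ∃ c ∈ Θ, C₁ ≤ P₁ ∧ C₂ ≤ P₂ ∧ conjBy c P₁ = P₂ ∧
      IsPGroup q P₁ ∧ IsPGroup q P₂ ∧ A ≤ normalizer (P₁ : Set G) ∧ A ≤ normalizer (P₂ : Set G) ∧
      P₁ ≤ X ∧ P₂ ≤ X ∧ c ∈ X := by
  set W := Cfsg.piCoreOf ρ' X
  have hWA : A ≤ normalizer (W : Set G) := le_normalizer_piCoreOf hAX
  have hcop := coprime_of_isPiNum (A := A) (isPiNum_piCoreOf X)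
  have hsolv : Group.IsSolvable A ∨ Group.IsSolvable W := Or.inl (hd.solv A hd.hyp.2.1)
  have hi := fun {U : Subgroup G} (hU : U ≤ X) (hUq : IsPGroup q U) (hUA : A ≤ normalizer (U : Set G)) =>
    hd.le_core hX hAX hU (isPiNum_of_isPGroup hd.notDvd hUq) hUA
  obtain ⟨P₁, hP₁, hC₁, hP₁A⟩ :=
    CfsgLib.Coprime.le_invariant_sylow hWA hcop hsolv (hi h₁ h₁q h₁A) h₁q h₁A
  obtain ⟨P₂, hP₂, hC₂, hP₂A⟩ :=
    CfsgLib.Coprime.le_invariant_sylow hWA hcop hsolv (hi h₂ h₂q h₂A) h₂q h₂A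
  obtain ⟨c, hc, e⟩ := CfsgLib.Coprime.invariant_sylow_conj hWA hcop hsolv hP₁ hP₂ hP₁A hP₂A
  obtain ⟨hcW, hcA⟩ := mem_inf.1 hc
  exact ⟨P₁, P₂, c, hd.mem_theta hcW hcA, hC₁, hC₂, e, hP₁.isPGroup, hP₂.isPGroup, hP₁A, hP₂A,
    hP₁.1.trans (piCoreOf_le X), hP₂.1.trans (piCoreOf_le X), piCoreOf_le X hcW⟩

theorem TransData.conj_self {Q₁ Q₂ : Subgroup G} (h₁ : IsMaxInv A q Q₁) (h₂ : IsMaxInv A q Q₂)
    (h : Q₁ ⊓ Q₂ = Q₁ ∨ Q₁ ⊓ Q₂ = Q₂) : ∃ c ∈ Θ, Q₂ = conjBy c Q₁ := by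
  refine ⟨1, one_mem _, ?_⟩
  rw [conjBy_one]
  rcases h with h | h
  · exact h₁.2.2 Q₂ h₂.1 h₂.2.1 (inf_eq_left.1 h)
  · exact (h₂.2.2 Q₁ h₁.1 h₁.2.1 (inf_eq_right.1 h)).symm

/-- Intersecting maximal invariant `q`-subgroups are conjugate. -/
theorem TransData.conj_of_inf_ne_bot : ∀ (n : ℕ) (Q₁ Q₂ : Subgroup G),
    IsMaxInv A q Q₁ → IsMaxInv A q Q₂ → Q₁ ⊓ Q₂ ≠ ⊥ → Nat.card G - Nat.card ↥(Q₁ ⊓ Q₂) = n →
      ∃ c ∈ Θ, Q₂ = conjBy c Q₁ := by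
  intro n
  induction n using Nat.strongRecOn with
  | ind n ih =>
  intro Q₁ Q₂ h₁ h₂ hne hn
  by_cases hD₁ : Q₁ ⊓ Q₂ = Q₁
  · exact hd.conj_self h₁ h₂ (Or.inl hD₁)
  by_cases hD₂ : Q₁ ⊓ Q₂ = Q₂
  · exact hd.conj_self h₁ h₂ (Or.inr hD₂)
  set D := Q₁ ⊓ Q₂ with hD
  have hDp : IsPGroup q D := h₁.1.to_le inf_le_left
  have hAD : A ≤ normalizer (D : Set G) := CfsgLib.Coprime.inf_le_normalizer h₁.2.1 h₂.2.1
  set X := normalizer (D : Set G) with hXdef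
  have hinv : ∀ {Q : Subgroup G}, IsMaxInv A q Q → A ≤ normalizer ((X ⊓ Q : Subgroup G) : Set G) :=
    fun hQ => CfsgLib.Coprime.inf_le_normalizer (hAD.trans le_normalizer) hQ.2.1
  obtain ⟨P₁, P₂, c, hc, hC₁, hC₂, e, hP₁q, hP₂q, hP₁A, hP₂A, hP₁X, hP₂X, hcX⟩ := hd.bridge
    (hd.normalizer_ne_top hne (hd.ne_top_of_isPGroup hDp)) hAD
    (inf_le_left : X ⊓ Q₁ ≤ X) (h₁.1.to_le inf_le_right) (hinv h₁)
    (inf_le_left : X ⊓ Q₂ ≤ X) (h₂.1.to_le inf_le_right) (hinv h₂)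
  obtain ⟨S₁, hS₁, hPS₁⟩ := exists_isMaxInv_ge hP₁q hP₁A
  obtain ⟨S₂, hS₂, hPS₂⟩ := exists_isMaxInv_ge hP₂q hP₂A
  have hDX : ∀ {Q : Subgroup G}, D ≤ Q → D ≤ X ⊓ Q := fun h => le_inf le_normalizer h
  have hgrow : ∀ {Q U : Subgroup G}, IsPGroup q Q → D ≤ Q → D ≠ Q → X ⊓ Q ≤ U →
      Nat.card D < Nat.card U := fun hQ hDQ hne' hU =>
    CfsgLib.Invol.card_lt_of_not_le ((hDX hDQ).trans hU) hU
      (CfsgLib.Invol.normalizer_grows hQ hDQ hne')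
  have step : ∀ {T₁ T₂ : Subgroup G}, IsMaxInv A q T₁ → IsMaxInv A q T₂ →
      Nat.card D < Nat.card ↥(T₁ ⊓ T₂) → ∃ c ∈ Θ, T₂ = conjBy c T₁ := by
    intro T₁ T₂ hT₁ hT₂ hlt
    refine ih _ ?_ T₁ T₂ hT₁ hT₂ (fun h => ?_) rfl
    · have := card_le_card_group (T₁ ⊓ T₂)
      omega
    · rw [h, card_bot] at hlt
      have := Nat.card_pos (α := D)
      omega
  have hcA : c ∈ centralizer (A : Set G) := hd.theta_le hc
  have hS₁' := hS₁.conj hcA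
  have hP₂S : P₂ ≤ conjBy c S₁ := by rw [← e]; exact map_mono hPS₁
  obtain ⟨c₁, hc₁, e₁⟩ := step h₁ hS₁
    (hgrow h₁.1 inf_le_left (Ne.symm fun h => hD₁ (hD.trans h.symm).symm.symm) (le_inf inf_le_right (hC₁.trans hPS₁)))
  obtain ⟨c₂, hc₂, e₂⟩ := step hS₁' hS₂
    (hgrow h₂.1 inf_le_right (fun h => hD₂ h) (le_inf (hC₂.trans hP₂S) (hC₂.trans hPS₂)))
  obtain ⟨c₃, hc₃, e₃⟩ := step hS₂ h₂
    (hgrow h₂.1 inf_le_right (fun h => hD₂ h) (le_inf (hC₂.trans hPS₂) inf_le_right))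
  refine ⟨c₃ * (c₂ * (c * c₁)), mul_mem hc₃ (mul_mem hc₂ (mul_mem hc hc₁)), ?_⟩
  rw [← conjBy_conjBy, ← conjBy_conjBy, ← conjBy_conjBy, ← e₁, ← e₂, ← e₃]

/-- Two maximal invariant subgroups with nontrivial subgroups in a common proper overgroup. -/
theorem TransData.conj_of_meet {X : Subgroup G} (hX : X ≠ ⊤) (hAX : A ≤ X) {Q₁ Q₂ : Subgroup G}
    (h₁ : IsMaxInv A q Q₁) (h₂ : IsMaxInv A q Q₂) (hm₁ : X ⊓ Q₁ ≠ ⊥) (hm₂ : X ⊓ Q₂ ≠ ⊥) :
    ∃ c ∈ Θ, Q₂ = conjBy c Q₁ := by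
  obtain ⟨P₁, P₂, c, hc, hC₁, hC₂, e, hP₁q, hP₂q, hP₁A, hP₂A, -, -, -⟩ := hd.bridge hX hAX
    (inf_le_left : X ⊓ Q₁ ≤ X) (h₁.1.to_le inf_le_right)
    (CfsgLib.Coprime.inf_le_normalizer (hAX.trans le_normalizer) h₁.2.1)
    (inf_le_left : X ⊓ Q₂ ≤ X) (h₂.1.to_le inf_le_right)
    (CfsgLib.Coprime.inf_le_normalizer (hAX.trans le_normalizer) h₂.2.1)
  obtain ⟨S₁, hS₁, hPS₁⟩ := exists_isMaxInv_ge hP₁q hP₁A
  obtain ⟨S₂, hS₂, hPS₂⟩ := exists_isMaxInv_ge hP₂q hP₂A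
  have hS₁' := hS₁.conj (hd.theta_le hc)
  have hP₂S : P₂ ≤ conjBy c S₁ := by rw [← e]; exact map_mono hPS₁
  obtain ⟨c₁, hc₁, e₁⟩ := hd.conj_of_inf_ne_bot _ Q₁ S₁ h₁ hS₁
    (ne_bot_of_le_ne_bot hm₁ (le_inf inf_le_right (hC₁.trans hPS₁))) rfl
  obtain ⟨c₂, hc₂, e₂⟩ := hd.conj_of_inf_ne_bot _ _ S₂ hS₁' hS₂
    (ne_bot_of_le_ne_bot hm₂ (le_inf (hC₂.trans hP₂S) (hC₂.trans hPS₂))) rfl
  obtain ⟨c₃, hc₃, e₃⟩ := hd.conj_of_inf_ne_bot _ S₂ Q₂ hS₂ h₂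
    (ne_bot_of_le_ne_bot hm₂ (le_inf (hC₂.trans hPS₂) inf_le_right)) rfl
  refine ⟨c₃ * (c₂ * (c * c₁)), mul_mem hc₃ (mul_mem hc₂ (mul_mem hc hc₁)), ?_⟩
  rw [← conjBy_conjBy, ← conjBy_conjBy, ← conjBy_conjBy, ← e₁, ← e₂, ← e₃]

theorem TransData.le_centralizer_singleton {E : Subgroup G} (hE : E ≤ A ⊓ centralizer (A : Set G))
    {a : G} (ha : a ∈ E) : A ≤ centralizer ({a} : Set G) := fun x hx =>
  mem_centralizer_singleton_iff.2 (mem_centralizer_iff.1 (hE ha).2 x hx)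

/-- Transitivity from an elementary central subgroup of rank three. -/
theorem TransData.transitive_three {p : ℕ} [Fact p.Prime] {E : Subgroup G}
    (hE : E ≤ A ⊓ centralizer (A : Set G)) (hEA : Cfsg.IsElementaryAbelian p E)
    (hE3 : p ^ 3 ≤ Nat.card E) (hqp : q ≠ p) {Q₁ Q₂ : Subgroup G}
    (h₁ : IsMaxInv A q Q₁) (h₂ : IsMaxInv A q Q₂) : ∃ c ∈ Θ, Q₂ = conjBy c Q₁ := by
  by_cases hD₁ : Q₁ ⊓ Q₂ = Q₁
  · exact hd.conj_self h₁ h₂ (Or.inl hD₁)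
  by_cases hD₂ : Q₁ ⊓ Q₂ = Q₂
  · exact hd.conj_self h₁ h₂ (Or.inr hD₂)
  by_cases hne : Q₁ ⊓ Q₂ ≠ ⊥
  · exact hd.conj_of_inf_ne_bot _ Q₁ Q₂ h₁ h₂ hne rfl
  push Not at hne
  obtain ⟨a, haE, ha1, hC₁, hC₂⟩ := CfsgLib.Invol.exists_common_fixing hEA hE3 hqp h₁.1 h₂.1
    ((hE.trans inf_le_left).trans h₁.2.1) ((hE.trans inf_le_left).trans h₂.2.1) hD₁ hD₂
  have hm : ∀ {Q : Subgroup G},
      ¬ (normalizer ((Q₁ ⊓ Q₂ : Subgroup G) : Set G) ⊓ Q ⊓ centralizer {a} ≤ Q₁ ⊓ Q₂) →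
      centralizer ({a} : Set G) ⊓ Q ≠ ⊥ := fun {Q} h h' => h fun x hx => by
    rw [mem_bot.1 (h'.le ⟨hx.2, hx.1.2⟩)]
    exact one_mem _
  exact hd.conj_of_meet (hd.centralizer_ne_top ha1) (hd.le_centralizer_singleton hE haE) h₁ h₂
    (hm hC₁) (hm hC₂)

/-- Transitivity from an elementary central subgroup of rank two when `q` divides `|C(A)|`. -/
theorem TransData.transitive_two {p : ℕ} [Fact p.Prime] {E : Subgroup G}
    (hE : E ≤ A ⊓ centralizer (A : Set G)) (hEA : Cfsg.IsElementaryAbelian p E)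
    (hE2 : p ^ 2 ≤ Nat.card E) (hqp : q ≠ p) (hqC : q ∣ Nat.card ↥(centralizer (A : Set G)))
    {Q₁ Q₂ : Subgroup G}
    (h₁ : IsMaxInv A q Q₁) (h₂ : IsMaxInv A q Q₂) : ∃ c ∈ Θ, Q₂ = conjBy c Q₁ := by
  obtain ⟨x, hx⟩ := exists_prime_orderOf_dvd_card' q hqC
  set U := zpowers (x : G) with hU
  have hUq : IsPGroup q U := IsPGroup.of_card (n := 1) (by
    rw [Nat.card_zpowers, Subgroup.orderOf_coe, hx, pow_one])
  have hUne : U ≠ ⊥ := by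
    rw [hU, Ne, zpowers_eq_bot]
    intro h
    rw [← Subgroup.orderOf_coe, h, orderOf_one] at hx
    exact hq.out.ne_one hx.symm
  have hUC : U ≤ centralizer (A : Set G) := zpowers_le.2 x.2
  have hUA : A ≤ normalizer (U : Set G) :=
    (le_centralizer_iff.1 hUC).trans (CfsgLib.Coprime.centralizer_le_normalizer_self U)
  obtain ⟨S, hS, hUS⟩ := exists_isMaxInv_ge hUq hUA
  suffices key : ∀ {Q : Subgroup G}, IsMaxInv A q Q → ∃ c ∈ Θ, S = conjBy c Q by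
    obtain ⟨c₁, hc₁, e₁⟩ := key h₁
    obtain ⟨c₂, hc₂, e₂⟩ := key h₂
    refine ⟨c₂⁻¹ * c₁, mul_mem (inv_mem hc₂) hc₁, ?_⟩
    rw [← conjBy_conjBy, ← e₁, e₂, conjBy_conjBy, inv_mul_cancel, conjBy_one]
  intro Q hQ
  by_cases hQb : Q = ⊥
  · exact hd.conj_self hQ hS (Or.inl (by rw [hQb, bot_inf_eq]))
  obtain ⟨B, hBE, hBQ, hBcard⟩ := CfsgLib.Invol.exists_large_fixing hEA (R := Q) (D := ⊥) (by
      intro hdvd
      obtain ⟨k, hk⟩ := IsPGroup.iff_card.1 hQ.1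
      rw [hk] at hdvd
      exact hqp ((Nat.prime_dvd_prime_iff_eq Fact.out hq.out).1 (Nat.Prime.dvd_of_dvd_pow Fact.out hdvd)).symm)
    ((hE.trans inf_le_left).trans hQ.2.1) (fun h => hQb (le_bot_iff.1 h))
  have hB1 : B ≠ ⊥ := by
    rintro rfl
    rw [card_bot, mul_one] at hBcard
    have : p < p ^ 2 := by
      rw [sq]; exact lt_mul_of_one_lt_right (Fact.out : p.Prime).pos (Fact.out : p.Prime).one_lt
    omega
  obtain ⟨a, haB, ha1⟩ := (bot_or_exists_ne_one B).resolve_left hB1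
  have hAa := hd.le_centralizer_singleton hE (hBE haB)
  refine hd.conj_of_meet (hd.centralizer_ne_top ha1) hAa hQ hS (fun h => hBQ ?_) (fun h => hUne ?_)
  · intro y hy
    exact h.le ⟨centralizer_le (Set.singleton_subset_iff.2 haB) hy.2, hy.1⟩
  · refine le_bot_iff.1 (fun y hy => h.le ⟨?_, hUS hy⟩)
    exact centralizer_le (Set.singleton_subset_iff.2 (hE (hBE haB)).1) (hUC hy)

end CfsgLib.CFun
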