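import Cfsg.Agent.Lib.CFun.StableQuotient
import Cfsg.Agent.Lib.Fusion.System.QdConstrained
import Cfsg.Agent.Lib.Fusion.System.ControlNormal
import Cfsg.Agent.Lib.Fusion.System.SeriesNormal

/-!
# The fusion system of a stable group is constrained
-/

set_option autoImplicit false
set_option linter.style.haveILetI false

open Subgroup
open scoped commutatorElement

namespace CfsgLib.CFun

open Cfsg (FusionSystem groupFusionSystem)
open CfsgLib.Fusion (IsMap isMap_group_iff)

universe u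

variable {p : ℕ} [Fact p.Prime]

/-- A Sylow subgroup of `G` meets a normal subgroup of a subgroup containing it in a Sylow subgroup. -/
theorem not_dvd_relIndex_inf_of_normalizes {G : Type u} [Group G] [Finite G] (P : Sylow p G)
    {N C : Subgroup G} (hPN : (P : Subgroup G) ≤ N) (hCN : C ≤ N)
    (hn : N ≤ Subgroup.normalizer (C : Set G)) : ¬ p ∣ ((P : Subgroup G) ⊓ C).relIndex C := by
  haveI : (C.subgroupOf N).Normal := normal_subgroupOf_of_le_normalizer hn
  have := CfsgLib.Fusion.not_dvd_relIndex_inf_of_normal (P.subtype hPN) (C.subgroupOf N)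
  rwa [← Subgroup.relIndex_map_map_of_injective _ _ N.subtype_injective,
    Subgroup.map_inf _ _ _ N.subtype_injective, map_subgroupOf_eq_of_le hCN, Sylow.coe_subtype,
    map_subgroupOf_eq_of_le hPN] at this

/-- In a stable group, at an odd prime, the fusion system is constrained. -/
theorem isConstrained_of_stablePair {G : Type u} [Group G] [Finite G] (hp : p ≠ 2)
    (hst : StablePair p G) (P : Sylow p G) :
    (groupFusionSystem (P : Subgroup G)).IsConstrained p := by
  classical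
  set S0 : Subgroup G := (P : Subgroup G) with hS0
  set F := groupFusionSystem S0 with hF
  have hFs : F.IsSaturated p := CfsgLib.Fusion.isSaturated_group P
  refine ⟨hFs, F.core, CfsgLib.Fusion.isNormal_core, ?_⟩
  set Q := F.core with hQdef
  have hQ : F.IsNormal Q := CfsgLib.Fusion.isNormal_core
  refine CfsgLib.Fusion.isCentric_of_fullyCentralized
    (CfsgLib.Fusion.IsSaturated.isFullyCentralized P.2 hFs
      (CfsgLib.Fusion.isFullyNormalized_of_isNormal hQ)) ?_
  by_contra hnc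
  have hQS : Q ≤ S0 := hQ.1
  set N := Subgroup.normalizer (Q : Set G) with hN
  have hSN : S0 ≤ N := fun s hs => (CfsgLib.Fusion.le_normalizerIn_of_stronglyClosed
    (CfsgLib.Fusion.stronglyClosed_of_isNormal hQ) hs).2
  set H := Subgroup.centralizer (Q : Set G) with hH
  have hNH : N ≤ Subgroup.normalizer (H : Set G) := le_normalizer_centralizer le_rfl
  have hHN : H ≤ N := fun c hc => Subgroup.mem_normalizer_iff.2 fun q => by
    constructor
    · intro hq
      rw [← Subgroup.mem_centralizer_iff.1 hc q hq, mul_inv_cancel_right]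
      exact hq
    · intro hq
      have h := Subgroup.mem_centralizer_iff.1 hc _ hq
      rw [show q = c * q * c⁻¹ from mul_left_cancel (a := c) (h.symm.trans (by group)).symm]
      exact hq
  set T := S0 ⊓ H with hT
  set Z := Q ⊓ H with hZ
  have hTi : ¬ p ∣ T.relIndex H := not_dvd_relIndex_inf_of_normalizes P hSN hHN hNH
  have hTH : T ≤ H := inf_le_right
  have hTp : IsPGroup p T := P.2.to_le inf_le_left
  have hZT : Z ≤ T := inf_le_inf_right _ hQS
  have hZH : Z ≤ H := inf_le_right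
  have hcen : Z.subgroupOf H ≤ Subgroup.center H := fun z hz => Subgroup.mem_center_iff.2 fun h =>
    Subtype.ext (Subgroup.mem_centralizer_iff.1 h.2 z (Subgroup.mem_inf.1 hz).1).symm
  haveI hZn : (Z.subgroupOf H).Normal := ⟨fun z hz g => by
    rw [Subgroup.mem_center_iff.1 (hcen hz) g, mul_inv_cancel_right]; exact hz⟩
  have hZp : IsPGroup p (Z.subgroupOf H) :=
    ((P.2.to_le (hZT.trans inf_le_left)).of_equiv (Subgroup.subgroupOfEquivOfLe hZH).symm)
  have hX : StablePair p (↥H ⧸ Z.subgroupOf H) :=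
    (hst.of_injective H.subtype H.subtype_injective).quotient_central hp _ hZp hcen
  set π := QuotientGroup.mk' (Z.subgroupOf H) with hπdef
  have hπ := QuotientGroup.mk'_surjective (Z.subgroupOf H)
  let TH : Sylow p H := (hTp.of_equiv (Subgroup.subgroupOfEquivOfLe hTH).symm).toSylow hTi
  set Tb := TH.mapSurjective hπ with hTb
  have hTbeq : (Tb : Subgroup (↥H ⧸ Z.subgroupOf H)) = (T.subgroupOf H).map π := rfl
  have hTbne : (Tb : Subgroup (↥H ⧸ Z.subgroupOf H)) ≠ ⊥ := by
    intro e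
    refine hnc fun x hx => ?_
    have h1 : π ⟨x, hx.2⟩ ∈ (Tb : Subgroup (↥H ⧸ Z.subgroupOf H)) :=
      Subgroup.mem_map_of_mem π (show (⟨x, hx.2⟩ : H) ∈ T.subgroupOf H from ⟨hx.1, hx.2⟩)
    rw [e, Subgroup.mem_bot] at h1
    exact ((QuotientGroup.eq_one_iff (N := Z.subgroupOf H) _).1 h1).1
  have hW : Cfsg.IsCharPFunctor.{u} p
      (CfsgLib.Fusion.zjFun : ∀ (A : Type u) [Group A], Subgroup A) :=
    ⟨(CfsgLib.Fusion.qdFunctor_zjFun hp).nontrivial, (CfsgLib.Fusion.qdFunctor_zjFun hp).natural⟩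
  have hz : ∀ {X : Type u} [Group X] [Finite X] (S : Subgroup X),
      Cfsg.inducedFunctor CfsgLib.Fusion.zjFun S = Cfsg.centerThompsonAOf S :=
    fun S => CfsgLib.Fusion.wSub_zjFun S
  set W := Cfsg.inducedFunctor CfsgLib.Fusion.zjFun (Tb : Subgroup (↥H ⧸ Z.subgroupOf H)) with hWdef
  have hWT : W ≤ Tb := induced_le _ _
  have hWne : W ≠ ⊥ := induced_ne_bot hW Tb.2 hTbne
  have hWab : ∀ a ∈ W, ∀ b ∈ W, a * b = b * a := fun a ha b hb => by
    rw [hWdef, hz] at ha hb
    exact Subgroup.mem_centralizer_iff.1 hb.2 a ha.1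
  set Y := (W.comap π).map H.subtype with hY
  have hmemY : ∀ y : H, (y : G) ∈ Y ↔ π y ∈ W := fun y =>
    Subgroup.mem_map_iff_mem H.subtype_injective
  have hYH : Y ≤ H := Subgroup.map_subtype_le _
  have hYT : Y ≤ T := by
    rintro _ ⟨y, hy, rfl⟩
    obtain ⟨t, ht, hte⟩ := hWT hy
    have h1 : ((t⁻¹ * y : H) : G) ∈ T :=
      hZT ((QuotientGroup.eq (s := Z.subgroupOf H)).1 hte)
    have h2 := mul_mem (show (t : G) ∈ T from ht) h1
    simpa using h2
  have hZY : Z ≤ Y := fun z hz => (hmemY ⟨z, hZH hz⟩).2 (by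
    rw [show π ⟨z, hZH hz⟩ = 1 from (QuotientGroup.eq_one_iff _).2 hz]
    exact one_mem _)
  -- elements of `N(T)` normalize `Y`
  have hinv : ∀ n ∈ N, n ∈ Subgroup.normalizer (T : Set G) → ∀ y ∈ Y, n * y * n⁻¹ ∈ Y := by
    intro n hn hnT y hy
    have hnH : ∀ h ∈ H, n * h * n⁻¹ ∈ H := fun h hh =>
      (Subgroup.mem_normalizer_iff.1 (hNH hn) h).1 hh
    let φ : H →* H := MonoidHom.mk' (fun h => ⟨n * h * n⁻¹, hnH h h.2⟩) fun a b =>
      Subtype.ext (show n * ((a : G) * b) * n⁻¹ = n * a * n⁻¹ * (n * b * n⁻¹) by group)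
    have hφZ : ∀ h : H, h ∈ Z.subgroupOf H ↔ φ h ∈ Z.subgroupOf H := fun h => by
      show (h : G) ∈ Z ↔ n * (h : G) * n⁻¹ ∈ Z
      rw [hZ, Subgroup.mem_inf, Subgroup.mem_inf]
      exact and_congr (Subgroup.mem_normalizer_iff.1 hn _) (Subgroup.mem_normalizer_iff.1 (hNH hn) _)
    let φb : (↥H ⧸ Z.subgroupOf H) →* ↥H ⧸ Z.subgroupOf H :=
      QuotientGroup.map _ _ φ fun h hh => (hφZ h).1 hh
    have hφb : Function.Injective φb := (injective_iff_map_eq_one φb).2 fun q hq => by
      obtain ⟨h, rfl⟩ := hπ q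
      exact (QuotientGroup.eq_one_iff h).2 ((hφZ h).2 ((QuotientGroup.eq_one_iff (φ h)).1 hq))
    have hTim : (Tb : Subgroup (↥H ⧸ Z.subgroupOf H)).map φb = Tb := by
      refine Subgroup.eq_of_le_of_card_ge ?_ (Subgroup.card_map_of_injective hφb).ge
      rintro _ ⟨_, ⟨t, ht, rfl⟩, rfl⟩
      exact ⟨φ t, (Subgroup.mem_normalizer_iff.1 hnT _).1 ht, rfl⟩
    have hWim : W.map φb = W := by
      rw [hWdef, ← induced_map hW Tb.2 φb hφb, hTim]
    have h1 := hWim.le (Subgroup.mem_map_of_mem φb ((hmemY ⟨y, hYH hy⟩).1 hy))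
    exact (hmemY (φ ⟨y, hYH hy⟩)).2 h1
  have hYsc : F.StronglyClosed Y := by
    refine CfsgLib.Fusion.stronglyClosed_iff.2 ⟨hYT.trans inf_le_left, fun R f hR hf x hx => ?_⟩
    obtain ⟨-, g, hg⟩ := isMap_group_iff.1 hf
    obtain ⟨hgS, hgf⟩ := hg x hx
    rw [hgf]
    have hxY := hR hx
    obtain ⟨n, hn, hne⟩ := (CfsgLib.Fusion.controlsStrongFusionOf_of_isNormal P hQ {x}
      (Set.singleton_subset_iff.2 ((hYT hxY).1))).2 g (by
        rintro _ ⟨a, ha, rfl⟩
        rw [Set.mem_singleton_iff.1 ha]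
        exact hgS)
    have hne' := hne x rfl
    rw [hne'] at hgS ⊢
    -- Frattini argument
    haveI : (H.subgroupOf N).Normal := normal_subgroupOf_of_le_normalizer hNH
    let eH := Subgroup.subgroupOfEquivOfLe hHN
    let T' : Sylow p (H.subgroupOf N) := TH.comapOfInjective eH.toMonoidHom eH.injective
      (fun z _ => ⟨eH.symm z, eH.apply_symm_apply z⟩)
    have htop := Sylow.normalizer_sup_eq_top T'
    have hnM : (⟨n, hn⟩ : N) ∈ Subgroup.normalizer
        (((T' : Subgroup (H.subgroupOf N)).map (H.subgroupOf N).subtype : Subgroup N) : Set N) ⊔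
          H.subgroupOf N := htop.symm ▸ Subgroup.mem_top _
    obtain ⟨m, hm1, c, hc, e⟩ := Subgroup.mem_sup_of_normal_right.1 hnM
    have himg : ((T' : Subgroup (H.subgroupOf N)).map (H.subgroupOf N).subtype).map N.subtype = T := by
      ext z
      constructor
      · rintro ⟨_, ⟨w, hw, rfl⟩, rfl⟩
        exact (show ((eH w : H) : G) ∈ T from hw)
      · intro hzT
        exact ⟨_, ⟨eH.symm ⟨z, hzT.2⟩, show eH (eH.symm ⟨z, hzT.2⟩) ∈ T.subgroupOf H by
          rw [eH.apply_symm_apply]; exact hzT, rfl⟩, rfl⟩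
    have hmT : (m : G) ∈ Subgroup.normalizer (T : Set G) :=
      himg ▸ Subgroup.le_normalizer_map N.subtype ⟨m, hm1, rfl⟩
    have e' : n = (m : G) * (c : G) := (congrArg Subtype.val e).symm
    have hcH : (c : G) ∈ H := hc
    set x' := (c : G) * x * (c : G)⁻¹ with hx'
    have hx'T : x' ∈ T := by
      have h1 : n * x * n⁻¹ ∈ T :=
        ⟨hgS, (Subgroup.mem_normalizer_iff.1 (hNH hn) x).1 (hYH hxY)⟩
      rw [e', show (m : G) * (c : G) * x * ((m : G) * (c : G))⁻¹ = (m : G) * x' * (m : G)⁻¹ by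
        rw [hx']; group] at h1
      exact (Subgroup.mem_normalizer_iff.1 hmT x').2 h1
    have hx'Y : x' ∈ Y := by
      set xh : H := ⟨x, hYH hxY⟩
      set ch : H := ⟨c, hcH⟩
      have hctl : StrongCtrl p CfsgLib.Fusion.zjFun (↥H ⧸ Z.subgroupOf H) :=
        strongCtrl_of_stablePair hp hW (fun X _ _ hc' hX' T'' => by
          rw [hz]
          exact CfsgLib.Fusion.centerThompsonAOf_normal hp hc' hX' T'' le_rfl
            (fun Q' hQ' g' hg' y hy => hQ' ((Subgroup.mem_normalizer_iff.1 hg' y).1 hy.2))) _ _ rfl hX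
      obtain ⟨w, hw, hwe⟩ := strongAt_of_ctrl hW hctl Tb {π xh} (π ch)
        (by rintro a rfl; exact hWT ((hmemY xh).1 hxY))
        (by
          rintro a rfl
          rw [← map_inv, ← map_mul, ← map_mul]
          exact Subgroup.mem_map_of_mem π (show ch * xh * ch⁻¹ ∈ T.subgroupOf H from hx'T))
      refine (hmemY (ch * xh * ch⁻¹)).2 ?_
      rw [map_mul, map_mul, map_inv, ← hwe (π xh) rfl]
      exact (Subgroup.mem_normalizer_iff.1 hw _).1 ((hmemY xh).1 hxY)
    have h3 := hinv m m.2 hmT x' hx'Y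
    rw [e', show (m : G) * (c : G) * x * ((m : G) * (c : G))⁻¹ = (m : G) * x' * (m : G)⁻¹ by
      rw [hx']; group]
    exact h3
  have hZsc : F.StronglyClosed Z := by
    refine CfsgLib.Fusion.stronglyClosed_iff.2 ⟨inf_le_left.trans hQS, fun R f hR hf x hx => ?_⟩
    obtain ⟨-, g, hg⟩ := isMap_group_iff.1 hf
    obtain ⟨hgS, hgf⟩ := hg x hx
    obtain ⟨n, hn, hne⟩ := (CfsgLib.Fusion.controlsStrongFusionOf_of_isNormal P hQ {x}
      (Set.singleton_subset_iff.2 (hQS (hR hx).1))).2 g (by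
        rintro _ ⟨a, ha, rfl⟩
        rw [Set.mem_singleton_iff.1 ha]
        exact hgS)
    rw [hgf, hne x rfl]
    exact ⟨(Subgroup.mem_normalizer_iff.1 hn x).1 (hR hx).1,
      (Subgroup.mem_normalizer_iff.1 (hNH hn) x).1 (hR hx).2⟩
  have hYn : F.IsNormal Y := by
    refine CfsgLib.Fusion.isNormal_of_weaklyClosed_series P.2 hFs hYsc (n := 2)
      (C := ![⊥, Z, Y]) rfl rfl ?_ ?_ ?_
    · refine Fin.monotone_iff_le_succ.2 fun i => ?_
      fin_cases i
      · exact bot_le
      · exact hZY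
    · intro i
      fin_cases i
      · show ⁅Z, Y⁆ ≤ ⊥
        rw [le_bot_iff, Subgroup.commutator_eq_bot_iff_le_centralizer]
        exact fun z hz' => Subgroup.mem_centralizer_iff.2 fun y hy =>
          (Subgroup.mem_centralizer_iff.1 (hYH hy) z hz'.1).symm
      · show ⁅Y, Y⁆ ≤ Z
        rw [Subgroup.commutator_le]
        intro a ha b hb
        have h1 : π ⁅(⟨a, hYH ha⟩ : H), ⟨b, hYH hb⟩⁆ = 1 := by
          rw [map_commutatorElement, commutatorElement_eq_one_iff_mul_comm]
          exact hWab _ ((hmemY _).1 ha) _ ((hmemY _).1 hb)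
        exact (QuotientGroup.eq_one_iff (N := Z.subgroupOf H) _).1 h1
    · intro i
      fin_cases i
      · exact CfsgLib.Fusion.weaklyClosed_of_stronglyClosed CfsgLib.Fusion.stronglyClosed_bot
      · exact CfsgLib.Fusion.weaklyClosed_of_stronglyClosed hZsc
  refine hWne (eq_bot_iff.2 fun w hw => ?_)
  obtain ⟨y, rfl⟩ := hπ w
  exact Subgroup.mem_bot.2 ((QuotientGroup.eq_one_iff y).2
    ⟨CfsgLib.Fusion.le_core hYn ((hmemY y).2 hw), y.2⟩)

end CfsgLib.CFun
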