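import Cfsg.Agent.Lib.CFun.Transitivity
import Cfsg.Agent.Lib.CFun.OddTransitivity
import Cfsg.Agent.Lib.CFun.StableConstrained
import Cfsg.Agent.Lib.Coprime.Solvable
import Cfsg.Agent.Lib.PGroup.OmegaOdd
import Cfsg.Agent.Lib.PGroup.UpperPSeriesShift

/-!
# Criteria for the transitivity hypothesis
-/

set_option autoImplicit false
set_option linter.style.haveILetI false
set_option linter.unusedSectionVars false

open Subgroup
open scoped commutatorElement
open CfsgLib.Coprime (conj_mem_of_le_normalizer)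

namespace CfsgLib.CFun

universe u

variable {p : ℕ} [hp : Fact p.Prime]

/-- If the `p`-length is at most one, `O_p` of `G / O_{p'}(G)` has index prime to `p`. -/
theorem not_dvd_index_of_pLengthLE_one {H : Type u} [Group H] [Finite H]
    (h : Cfsg.PLengthLE p 1 H) :
    ¬ p ∣ (Cfsg.pCore p (H ⧸ Cfsg.pPrimeCore p H)).index := by
  change (Cfsg.upperPSeries p H 3).1 = ⊤ at h
  rw [Cfsg.upperPSeries, if_pos (by decide)] at h
  have key : ∀ U : {K : Subgroup H // K.Normal},
      (haveI := U.2; (Cfsg.pPrimeCore p (H ⧸ U.1)).comap (QuotientGroup.mk' U.1) = ⊤) →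
      ¬ p ∣ U.1.index := by
    rintro ⟨U, hU⟩ he hd
    haveI := hU
    have he' : Cfsg.pPrimeCore p (H ⧸ U) = ⊤ :=
      comap_injective (QuotientGroup.mk'_surjective U) (he.trans (comap_top _).symm)
    refine CfsgLib.Coprime.pPrimeCore_not_dvd (G := H ⧸ U) hp.out ?_
    rw [he', Nat.card_congr topEquiv.toEquiv, ← index_eq_card]
    exact hd
  have h3 := key _ h
  have key2 : ∀ U : {K : Subgroup H // K.Normal}, U.1 = Cfsg.pPrimeCore p H →
      (haveI := U.2; ¬ p ∣ ((Cfsg.pCore p (H ⧸ U.1)).comap (QuotientGroup.mk' U.1)).index) →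
      ¬ p ∣ (Cfsg.pCore p (H ⧸ Cfsg.pPrimeCore p H)).index := by
    rintro ⟨U, hU⟩ (rfl : U = _) hne
    rwa [index_comap_of_surjective _ (QuotientGroup.mk'_surjective _)] at hne
  refine key2 (Cfsg.upperPSeries p H 1) CfsgLib.PGroup.pPrimeCore_eq_term_one ?_
  rwa [Cfsg.upperPSeries, if_neg (by decide)] at h3

/-- A solvable group is `p`-constrained. -/
theorem pCons_of_isSolvable {H : Type u} [Group H] [Finite H] [Group.IsSolvable H] :
    CfsgLib.Invol.PCons p H :=
  CfsgLib.Invol.pClean_of_centralizer_le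
    (CfsgLib.Coprime.centralizer_pCore_le (CfsgLib.Coprime.pPrimeCore_quotient_eq_bot hp.out))

/-- `p`-length one: invariant `p'`-subgroups of an abelian `p`-group containing the elements of
order `p` of its centralizer lie in the `p'`-core. -/
theorem le_pPrimeCore_of_pLength_one {H : Type u} [Group H] [Finite H] (hp2 : p ≠ 2)
    (hlen : ¬ p ∣ (Cfsg.pCore p (H ⧸ Cfsg.pPrimeCore p H)).index)
    (hc : CfsgLib.Invol.PCons p H) {A : Subgroup H} (hA : IsPGroup p A)
    (hom : ∀ x ∈ centralizer (A : Set H), x ^ p = 1 → x ∈ A)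
    {K : Subgroup H} (hK : (Nat.card K).Coprime p) (hAK : A ≤ normalizer (K : Set H)) :
    K ≤ Cfsg.pPrimeCore p H := by
  set O := Cfsg.pPrimeCore p H with hO
  haveI : O.Normal := Subgroup.sSup_normal _ fun _ h => h.1
  have hOc : ¬ p ∣ Nat.card O := CfsgLib.Coprime.pPrimeCore_not_dvd hp.out
  set π := QuotientGroup.mk' O with hπ
  have hπs := QuotientGroup.mk'_surjective O
  haveI := CfsgLib.Coprime.pCore_normal' (G := H ⧸ O) p
  set P₀ := Cfsg.pCore p (H ⧸ O) with hP₀
  have hP : IsPGroup p P₀ := CfsgLib.Coprime.pCore_isPGroup p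
  have hKb : (Nat.card (K.map π)).Coprime p :=
    Nat.Coprime.coprime_dvd_left (card_map_dvd K π) hK
  have hAb : IsPGroup p (A.map π) := hA.map π
  have hAKb : A.map π ≤ normalizer (K.map π : Set (H ⧸ O)) :=
    (Subgroup.map_mono hAK).trans (le_normalizer_map π)
  have hKPb : K.map π ≤ normalizer (P₀ : Set (H ⧸ O)) := by rw [normalizer_eq_top]; exact le_top
  have hAP : A.map π ≤ P₀ := by
    have hT : IsPGroup p ↥(P₀ ⊔ A.map π) := hP.to_sup_of_normal_left hAb
    obtain ⟨S, hS⟩ := hT.exists_le_sylow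
    have hPS : P₀ = (S : Subgroup (H ⧸ O)) :=
      (hP.toSylow hlen).3 S.2 (le_sup_left.trans hS) |>.symm
    exact hPS ▸ (le_sup_right.trans hS)
  have hKA : K.map π ≤ centralizer (A.map π : Set (H ⧸ O)) := by
    refine commutator_eq_bot_iff_le_centralizer.1 (le_bot_iff.1 ?_)
    rw [← CfsgLib.Coprime.pPrime_inf_pGroup_eq_bot hKb hP]
    refine le_inf ?_ ?_
    · rw [commutator_comm]
      exact le_normalizer_iff_commutator_le_right.1 hAKb
    · exact (commutator_mono le_rfl hAP).trans (le_normalizer_iff_commutator_le_right.1 hKPb)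
  have hfix : P₀ ⊓ centralizer (A.map π : Set (H ⧸ O)) ≤ centralizer (K.map π : Set (H ⧸ O)) := by
    intro x hx
    rw [mem_centralizer_iff]
    intro k hk
    refine (CfsgLib.PGroup.commute_of_fix_omega_odd hp2 (hP.to_le inf_le_left) ?_ ?_ ?_ x hx).eq
    · exact CfsgLib.Coprime.inf_le_normalizer hKPb
        (hKA.trans le_normalizer |>.trans (le_refl _)) hk
    · exact fun hd => hp.out.coprime_iff_not_dvd.1
        (Nat.Coprime.coprime_dvd_left (Subgroup.orderOf_dvd_natCard _ hk) hKb).symm hd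
    · rintro z ⟨-, hzA⟩ hzp
      obtain ⟨c, hc', rfl⟩ := CfsgLib.Fusion.centralizer_map_le O hOc hA hzA
      obtain ⟨l, m, hm, hlm⟩ := Nat.exists_eq_pow_mul_and_not_dvd (orderOf_pos c).ne' p hp.out.ne_one
      obtain ⟨i, hi⟩ := exists_pow_eq_self_of_coprime (n := m) (x := π c)
        (Nat.Coprime.coprime_dvd_right (orderOf_dvd_of_pow_eq_one hzp)
          ((hp.out.coprime_iff_not_dvd.2 hm).symm))
      set c' := (c ^ m) ^ i with hc''
      have he : π c' = π c := by rw [hc'', map_pow, map_pow, hi]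
      have h1 : c' ^ p ^ l = 1 := by
        rw [hc'', ← pow_mul, mul_comm i, pow_mul, ← pow_mul c, mul_comm m, ← hlm, pow_orderOf_eq_one,
          one_pow]
      have h2 : c' ^ p = 1 := by
        have hmem : c' ^ p ∈ O := by
          rw [← QuotientGroup.eq_one_iff]
          show π (c' ^ p) = 1
          rw [map_pow, he, hzp]
        have hd1 : orderOf (c' ^ p) ∣ p ^ l :=
          orderOf_dvd_of_pow_eq_one (by rw [← pow_mul, mul_comm, pow_mul, h1, one_pow])
        have hd2 : orderOf (c' ^ p) ∣ Nat.card O := Subgroup.orderOf_dvd_natCard _ hmem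
        exact orderOf_eq_one_iff.1 (Nat.eq_one_of_dvd_coprimes
          ((hp.out.coprime_iff_not_dvd.2 hOc).pow_left l) hd1 hd2)
      have hmem : π c' ∈ A.map π := mem_map_of_mem π (hom c' (pow_mem (pow_mem hc' _) _) h2)
      rw [← he]
      exact (mem_centralizer_iff.1 (hKA hk) _ hmem).symm
  have hle : K.map π ≤ centralizer (P₀ : Set (H ⧸ O)) :=
    CfsgLib.Coprime.pq_lemma hAb hKb hP (le_centralizer_iff.1 hKA)
      (by rw [normalizer_eq_top]; exact le_top) hKPb hfix
  intro x hx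
  refine (QuotientGroup.eq_one_iff x).1 (hc (π x) ?_ (hle (mem_map_of_mem π hx)))
  exact Nat.Coprime.coprime_dvd_left
    (Subgroup.orderOf_dvd_natCard _ (mem_map_of_mem π hx)) hKb

variable {G : Type u} [Group G] [Finite G]

/-- The transitivity hypothesis for an abelian `p`-group from a local criterion. -/
theorem transitivityHypothesis_of_local {A : Subgroup G} (hA : IsPGroup p A) (hA1 : A ≠ ⊥)
    (hA2 : A ≠ ⊤)
    (h : ∀ X : Subgroup G, X ≠ ⊤ → ∀ hAX : A ≤ X, ∀ K : Subgroup X, (Nat.card K).Coprime p →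
      A.subgroupOf X ≤ normalizer (K : Set X) → K ≤ Cfsg.pPrimeCore p X) :
    Cfsg.TransitivityHypothesis A := by
  refine ⟨hA1, hA2, fun X hX hAX => ?_⟩
  set π := Cfsg.primesNotDvd (Nat.card A) with hπ
  obtain ⟨n, hn⟩ := IsPGroup.iff_card.1 hA
  have hn0 : n ≠ 0 := fun h0 => hA1 (card_eq_one.1 (by rw [hn, h0, pow_zero]))
  have hpi : ∀ {m : ℕ}, ¬ p ∣ m → CfsgLib.Coprime.IsPiNum π m := fun {m} hm r hr hd =>
    ⟨hr, fun hrA => hm ((Nat.prime_dvd_prime_iff_eq hr hp.out).1 (hr.dvd_of_dvd_pow (hn ▸ hrA)) ▸ hd)⟩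
  refine le_antisymm (sSup_le ?_) (le_sSup ⟨piCoreOf_le X, isPiNum_piCoreOf X,
    le_normalizer_piCoreOf hAX⟩)
  rintro Y ⟨hYX, hY, hAY⟩
  have hcop : (Nat.card (Y.subgroupOf X)).Coprime p := by
    rw [Nat.card_congr (subgroupOfEquivOfLe hYX).toEquiv]
    refine (hp.out.coprime_iff_not_dvd.2 fun hd => (hY p hp.out hd).2 ?_).symm
    rw [hn]; exact dvd_pow_self p hn0
  have hnorm : A.subgroupOf X ≤ normalizer (Y.subgroupOf X : Set X) := by
    intro a ha
    rw [mem_normalizer_iff]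
    intro y
    exact mem_normalizer_iff.1 (hAY ha) (y : G)
  have hle := h X hX hAX _ hcop hnorm
  intro y hy
  refine ⟨⟨y, hYX hy⟩, ?_, rfl⟩
  haveI : (Cfsg.pPrimeCore p X).Normal := Subgroup.sSup_normal _ fun _ h => h.1
  exact CfsgLib.Coprime.le_piCore (hpi (CfsgLib.Coprime.pPrimeCore_not_dvd hp.out))
    (hle (show (⟨y, hYX hy⟩ : X) ∈ Y.subgroupOf X from hy))

/-- The `p`-elements centralizing a self-centralizing normal subgroup of a Sylow subgroup lie in it. -/
theorem scn_full (P : Sylow p G) {B : Subgroup G} (hB : Cfsg.IsSCN (P : Subgroup G) B) :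
    ∀ x ∈ centralizer (B : Set G), IsPGroup p (zpowers x) → x ∈ B := by
  obtain ⟨hBP, hPB, hBc⟩ := hB
  have hBC : B ≤ centralizer (B : Set G) := (le_of_eq hBc.symm).trans inf_le_right
  have hi := not_dvd_relIndex_inf_of_normalizes P hPB
    (CfsgLib.Coprime.centralizer_le_normalizer_self B) (le_normalizer_centralizer le_rfl)
  rw [hBc] at hi
  intro x hx hxp
  obtain ⟨c, hc, hle⟩ := CfsgLib.Fusion.exists_conj_le_of_not_dvd_relIndex (P.2.to_le hBP) hBC hi
    hxp (zpowers_le.2 hx)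
  have h1 : c * x * c⁻¹ ∈ B := CfsgLib.Fusion.conjBy_le_iff.1 hle x (mem_zpowers x)
  have h2 : c * (c * x * c⁻¹) = c * x * c⁻¹ * c := (mem_centralizer_iff.1 hc _ h1).symm
  rw [inv_mul_cancel_right] at h2
  rwa [mul_left_cancel h2] at h1

end CfsgLib.CFun
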