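import Cfsg.Agent.Lib.CFun.OddTauTwoStructure
import Cfsg.Agent.Lib.CFun.OddComplementBase

/-!
# Nilpotent `σ(M)'`-subgroups and `τ₂(M)`-elements
-/

set_option autoImplicit false
set_option linter.style.haveILetI false
set_option linter.unusedSectionVars false

open Subgroup
open CfsgLib.Coprime (conjBy conjBy_conjBy conjBy_one mem_conjBy conj_mem_conjBy IsSylowIn)

namespace CfsgLib.CFun.TauTwo

universe u

variable {G : Type u} [Group G] [Finite G] {p : ℕ} [hp : Fact p.Prime]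
  (hG : Cfsg.IsMinSimpleOddOrder G) {M : Subgroup G} (hM : IsCoatom M)
include hG hM

/-- `p`-subgroups of `M` outside `σ(M)` are abelian. -/
theorem isMulCommutative_of_not_sigma (hpσ : p ∉ Cfsg.sigma M) {T : Subgroup G} (hT : IsPGroup p T)
    (hTM : T ≤ M) : IsMulCommutative T := by
  by_cases hT1 : T = ⊥
  · subst hT1; infer_instance
  have hpd := mem_of_isPGroup hT hT1 hTM
  have hp2 : p ≠ 2 := ms_ne_two hG (hpd.trans (card_subgroup_dvd_card M))
  by_cases hr : Cfsg.PRankLE p 1 M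
  · haveI := Compl.isCyclic_of_rank_one hp2 hT
      (RankTwoTower.pRankLE_of_injective (f := inclusion hTM) (inclusion_injective hTM) hr)
    infer_instance
  obtain ⟨P, hP⟩ := (hT.of_equiv (subgroupOfEquivOfLe hTM).symm).exists_le_sylow
  set S := (P : Subgroup M).map M.subtype with hS
  have hSr : ¬ Cfsg.PRankLE p 1 S := fun h => hr (pRankLE_of_sylow P h)
  obtain ⟨A, hAS, hAe, hA2⟩ := exists_elementary_of_not_pRankLE hSr
  have hpt : p ∈ Cfsg.tau2 M := mem_tau_iff.2 ⟨hpσ,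
    pRankLE_two_of_not_alpha hp.out fun h => hpσ (alpha_subset_sigma hG hM h), hr⟩
  obtain ⟨hab, -⟩ := tau_sylow_abelian hG hM hpt (hAS.trans (map_subtype_le _)) hAe hA2
    (P.2.map M.subtype) (map_subtype_le _) hAS fun U hU hUM hle => sylow_map_max P hU hUM hle
  haveI := hab
  exact ⟨⟨fun a b => Subtype.ext (congrArg Subtype.val (IsMulCommutative.is_comm.comm
    (⟨a, ⟨⟨a, hTM a.2⟩, hP a.2, rfl⟩⟩ : S) ⟨b, ⟨⟨b, hTM b.2⟩, hP b.2, rfl⟩⟩) :)⟩⟩

omit hp in
/-- Nilpotent `σ(M)'`-subgroups of `M` are abelian. -/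
theorem isMulCommutative_of_nilpotent {N : Subgroup G} (hNM : N ≤ M) (hN : Group.IsNilpotent N)
    (hσ : ∀ r : ℕ, r.Prime → r ∣ Nat.card N → r ∉ Cfsg.sigma M) : IsMulCommutative N := by
  haveI := hN
  have key : ∀ r : ℕ, r.Prime → ∀ a : N, (∃ i, a ^ r ^ i = 1) → ∀ s : ℕ, s.Prime →
      ∀ b : N, (∃ j, b ^ s ^ j = 1) → Commute a b := by
    intro r hr a ha s hs b hb
    haveI : Fact r.Prime := ⟨hr⟩
    haveI : Fact s.Prime := ⟨hs⟩
    rcases eq_or_ne r s with rfl | hne
    swap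
    · exact RankTwoTower.commute_of_coprime hne ha hb
    by_cases hrd : r ∣ Nat.card N
    swap
    · obtain ⟨i, hi⟩ := ha
      have h1 : orderOf a = 1 := Nat.eq_one_of_dvd_coprimes
        ((hr.coprime_iff_not_dvd.2 hrd).pow_left i) (orderOf_dvd_of_pow_eq_one hi) (orderOf_dvd_natCard a)
      rw [orderOf_eq_one_iff.1 h1]; exact Commute.one_left b
    obtain ⟨T⟩ := (inferInstance : Nonempty (Sylow r N))
    haveI : (T : Subgroup N).Normal :=
      Sylow.normal_of_normalizerCondition Group.normalizerCondition_of_isNilpotent T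
    haveI := isMulCommutative_of_not_sigma hG hM (hσ r hr hrd) (T.2.map N.subtype)
      ((map_subtype_le _).trans hNM)
    exact Subtype.ext (congrArg Subtype.val (IsMulCommutative.is_comm.comm
      (⟨a, mem_map_of_mem _ (RankTwoTower.mem_sylow_of_normal T ha)⟩ : (T : Subgroup N).map N.subtype)
      ⟨b, mem_map_of_mem _ (RankTwoTower.mem_sylow_of_normal T hb)⟩) :)
  have h1 : (⊤ : Subgroup N) ≤ centralizer ((⊤ : Subgroup N) : Set N) :=
    CfsgLib.Fusion.le_of_forall_prime_pow fun r hr a _ ⟨i, hi⟩ => by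
      refine le_centralizer_iff.1 (?_ : (⊤ : Subgroup N) ≤ centralizer (zpowers a : Set N))
        (mem_zpowers a)
      rw [centralizer_zpowers]
      exact CfsgLib.Fusion.le_of_forall_prime_pow fun s hs b _ hb =>
        mem_centralizer_singleton_iff.2 (key r hr a ⟨i, hi⟩ s hs b hb).eq.symm
  exact ⟨⟨fun a b => mem_centralizer_iff.1 (h1 (mem_top b)) a (mem_top a)⟩⟩

/-- Elements at primes of `τ₂(M)` with fixed points on `M_σ`. -/
theorem centralizer_tau2_element {x : G} (hxM : x ∈ M) (hx1 : x ≠ 1)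
    (hx : ∀ r : ℕ, r.Prime → r ∣ orderOf x → p ≤ r ∧ r ∈ Cfsg.tau2 M) (hpx : p ∣ orderOf x)
    {y : G} (hy : y ∈ Cfsg.sigmaCore M) (hy1 : y ≠ 1) (hxy : Commute x y) :
    centralizer ({x} : Set G) ≤ M ∧
      ∀ L : Subgroup G, IsCoatom L → centralizer ({x} : Set G) ≤ L → L = M := by
  suffices hA : ∃ A : Subgroup G, A ≤ M ∧ Cfsg.IsElementaryAbelian p A ∧ Nat.card A = p ^ 2 ∧
      A ≤ centralizer ({x} : Set G) by
    obtain ⟨A, hAM, hAe, hA2, hAx⟩ := hA
    have hall : ∀ L : Subgroup G, IsCoatom L → centralizer ({x} : Set G) ≤ L → L = M := by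
      intro L hL hCL
      by_contra hne
      have h1 : y ∈ Cfsg.sigmaCore M ⊓ L := ⟨hy, hCL (mem_centralizer_singleton_iff.2 hxy.eq.symm)⟩
      rw [tau_inf_eq_bot hG hM (hx p hp.out hpx).2 hAM hAe hA2 hL hne (hAx.trans hCL), mem_bot] at h1
      exact hy1 h1
    obtain ⟨L, hL, hCL⟩ := (eq_top_or_exists_le_coatom _).resolve_left
      (ms_centralizer_singleton_ne_top hG hx1)
    exact ⟨hall L hL hCL ▸ hCL, hall⟩
  haveI := ms_solvable hG hM.1
  have hpt := (hx p hp.out hpx).2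
  obtain ⟨k, m, hpm, hxo⟩ :=
    Nat.exists_eq_pow_mul_and_not_dvd (orderOf_pos x).ne' p hp.out.ne_one
  have hm0 : m ≠ 0 := fun e => hpm (e ▸ dvd_zero p)
  set v := x ^ m with hv
  set u := x ^ p ^ k with hu
  have hvp : v ^ p ^ k = 1 := by rw [hv, ← pow_mul, mul_comm, ← hxo, pow_orderOf_eq_one]
  have hum : u ^ m = 1 := by rw [hu, ← pow_mul, ← hxo, pow_orderOf_eq_one]
  obtain ⟨a, b, hab⟩ := Nat.isCoprime_iff_coprime.2
    (((hp.out.coprime_iff_not_dvd.2 hpm).pow_left k).symm : Nat.Coprime m (p ^ k))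
  have hxuv : x = v ^ a * u ^ b := by
    rw [hv, hu, ← zpow_natCast, ← zpow_mul, ← zpow_natCast x (p ^ k), ← zpow_mul, ← zpow_add,
      mul_comm (m : ℤ), mul_comm ((p ^ k : ℕ) : ℤ), hab, zpow_one]
  have hvM : v ∈ M := pow_mem hxM m
  have huM : u ∈ M := pow_mem hxM _
  -- a maximal `p`-subgroup over `v`
  obtain ⟨P, hP⟩ := ((IsPGroup.of_card (p := p) (G := zpowers v)
    (n := ((Nat.dvd_prime_pow hp.out).1 (orderOf_dvd_of_pow_eq_one hvp)).choose)
    ((Nat.card_zpowers v).trans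
      ((Nat.dvd_prime_pow hp.out).1 (orderOf_dvd_of_pow_eq_one hvp)).choose_spec.2)).of_equiv
    (subgroupOfEquivOfLe (zpowers_le.2 hvM)).symm).exists_le_sylow
  set T := (P : Subgroup M).map M.subtype with hT
  obtain ⟨A, hAT, hAe, hA2⟩ := exists_elementary_of_not_pRankLE (H := T) (k := 1)
    fun h => hpt.2.2.2 (pRankLE_of_sylow P h)
  have hAM : A ≤ M := hAT.trans (map_subtype_le _)
  obtain ⟨hab', -⟩ := tau_sylow_abelian hG hM hpt hAM hAe hA2 (P.2.map M.subtype) (map_subtype_le _)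
    hAT fun U hU hUM hle => sylow_map_max P hU hUM hle
  have hvT : v ∈ T := ⟨⟨v, hvM⟩, hP (mem_zpowers v), rfl⟩
  haveI := hab'
  have hAv : A ≤ centralizer ({v} : Set G) := fun c hc => mem_centralizer_singleton_iff.2
    (congrArg Subtype.val (IsMulCommutative.is_comm.comm (⟨c, hAT hc⟩ : T) ⟨v, hvT⟩) :)
  -- an invariant conjugate of `A`
  set K := Cfsg.sigmaCore M with hK
  set H := (K ⊔ A) ⊓ centralizer ({v} : Set G) with hH
  have hAK : A ≤ normalizer (K : Set G) := hAM.trans (sigmaCore_normal hG M)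
  have hAp := isPGroup_of_elementary hAe
  have hKAM : K ⊔ A ≤ M := sup_le (map_subtype_le _) hAM
  have hsylow : IsSylowIn p A (K ⊔ A) := by
    refine ⟨le_sup_right, ?_⟩
    obtain ⟨j, hj⟩ := IsPGroup.iff_card.1 hAp
    rw [hj]
    congr 1
    refine le_antisymm ((hp.out.pow_dvd_iff_le_factorization Nat.card_pos.ne').1
      (hj ▸ card_dvd_of_le le_sup_right)) ?_
    have h1 : Nat.card ↥(K ⊔ A) ∣ p ^ j * Nat.card K := by
      rw [← hj, sup_comm]
      exact CfsgLib.Coprime.card_sup_dvd_of_le_normalizer hAK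
    refine ((Nat.factorization_le_iff_dvd Nat.card_pos.ne'
      (mul_ne_zero (pow_ne_zero _ hp.out.ne_zero) Nat.card_pos.ne')).2 h1 p).trans ?_
    rw [Nat.factorization_mul (pow_ne_zero _ hp.out.ne_zero) Nat.card_pos.ne', Finsupp.add_apply,
      hp.out.factorization_pow, Finsupp.single_eq_same,
      Nat.factorization_eq_zero_of_not_dvd (not_dvd_sigmaCore hG hM hpt.2.1), add_zero]
  have hAH : IsSylowIn p A H := by
    refine ⟨le_inf le_sup_right hAv, ?_⟩
    obtain ⟨j, hj⟩ := IsPGroup.iff_card.1 hAp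
    rw [hj]
    congr 1
    refine le_antisymm ((hp.out.pow_dvd_iff_le_factorization Nat.card_pos.ne').1
      (hj ▸ card_dvd_of_le (le_inf le_sup_right hAv))) ?_
    have h2 : j = (Nat.card ↥(K ⊔ A)).factorization p :=
      Nat.pow_right_injective hp.out.two_le (hj.symm.trans hsylow.2)
    rw [h2]
    exact (Nat.factorization_le_iff_dvd Nat.card_pos.ne' Nat.card_pos.ne').2
      (card_dvd_of_le inf_le_left) p
  have huH : zpowers u ≤ normalizer (H : Set G) := by
    refine zpowers_le.2 (CfsgLib.Coprime.inf_le_normalizer (A := M ⊓ centralizer ({v} : Set G))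
      (inf_le_left.trans (tau_normal_sup hG hM hpt hAM hAe hA2)) (inf_le_right.trans le_normalizer)
      ⟨huM, ?_⟩)
    exact mem_centralizer_singleton_iff.2 (by rw [hu, hv, ← pow_add, ← pow_add, add_comm])
  have hcop : (Nat.card (zpowers u)).Coprime (Nat.card H) := by
    rw [Nat.card_zpowers]
    refine Nat.coprime_of_dvd fun r hr hru hrH => ?_
    have hrm : r ∣ m := hru.trans (orderOf_dvd_of_pow_eq_one hum)
    have hrx : r ∣ orderOf x := hxo ▸ dvd_mul_of_dvd_right hrm _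
    have h1 : r ∣ p ^ 2 * Nat.card K := by
      rw [← hA2]
      refine (hrH.trans (card_dvd_of_le inf_le_left)).trans ?_
      rw [sup_comm]
      exact CfsgLib.Coprime.card_sup_dvd_of_le_normalizer hAK
    rcases hr.dvd_mul.1 h1 with h | h
    · rw [(Nat.prime_dvd_prime_iff_eq hr hp.out).1 (hr.dvd_of_dvd_pow h)] at hrm
      exact hpm hrm
    · exact (hx r hr hrx).2.2.1 ((sigmaCore_hall hG hM).1.2.1 r hr h)
  have hsolv : Group.IsSolvable H :=
    CfsgLib.Coprime.isSolvable_of_le (inf_le_left.trans hKAM) inferInstance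
  obtain ⟨A', hA', huA'⟩ := CfsgLib.Coprime.exists_invariant_sylow huH hcop (Or.inr hsolv) p
  obtain ⟨g, hg, hgA⟩ := hAH.exists_conj hA'
  have hA'e : Cfsg.IsElementaryAbelian p A' := by
    rw [← hgA]
    haveI := hAe.1
    exact ⟨inferInstanceAs (IsMulCommutative ↥(A.map (MulAut.conj g).toMonoidHom)),
      by rintro _ ⟨c, hc, rfl⟩; rw [← map_pow, hAe.2 c hc, map_one]⟩
  have hA'2 : Nat.card A' = p ^ 2 := by rw [← hgA, CfsgLib.Coprime.card_conjBy, hA2]
  have hA'M : A' ≤ M := hA'.1.trans (inf_le_left.trans hKAM)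
  have hA'v : A' ≤ centralizer ({v} : Set G) := hA'.1.trans inf_le_right
  refine ⟨A', hA'M, hA'e, hA'2, fun c hc => ?_⟩
  -- `u` centralizes `A'`
  have huC : u ∈ centralizer (A' : Set G) := by
    have hpd : p ∣ Nat.card M :=
      (hA2 ▸ dvd_pow_self p two_ne_zero : p ∣ Nat.card A).trans (card_dvd_of_le hAM)
    have hidx := ((Cfsg.Agent.S1414.result hG M hM).2.2.2.2 p hp.out hpd
      (fun h => hpt.2.1 (alpha_subset_sigma hG hM h.1))).2.2
    have huD : u ∈ coCore M p := by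
      have hle : zpowers (⟨u, huM⟩ : M) ≤ Cfsg.pPrimeCore p ↥M := by
        haveI := CfsgLib.Coprime.pPrimeCore_characteristic (G := ↥M) p
        refine le_normal_of_coprime_index (Nat.coprime_of_dvd fun r hr hr1 hr2 => ?_)
        rw [Nat.card_zpowers, Subgroup.orderOf_mk] at hr1
        have hrm : r ∣ m := hr1.trans (orderOf_dvd_of_pow_eq_one hum)
        have h3 := (hx r hr (hxo ▸ dvd_mul_of_dvd_right hrm _)).1
        exact hpm (le_antisymm h3 (hidx r hr hr2) ▸ hrm)
      exact ⟨_, hle (mem_zpowers _), rfl⟩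
    have hD : coCore M p ≤ K ⊔ centralizer (A' : Set G) := by
      refine le_of_invariant_sylows (hA'M.trans le_normalizer_coCore) (by
        rw [hA'2]; exact (hp.out.coprime_iff_not_dvd.2 not_dvd_coCore).pow_left 2)
        (Or.inl (CfsgLib.Coprime.isSolvable_of_isMulCommutative hA'e.1))
        fun r hr hrd R hR hRr hAR => ?_
      haveI : Fact r.Prime := ⟨hr⟩
      by_cases hrσ : r ∈ Cfsg.sigma M
      · exact (isPGroup_le_sigmaCore hG hM hrσ hRr (hR.trans coCore_le)).trans le_sup_left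
      · refine (tau_centralizes_not_sigma hG hM hpt hA'M hA'e hA'2 hrσ ?_ hRr (hR.trans coCore_le)
          hAR).trans le_sup_right
        rintro rfl
        exact not_dvd_coCore hrd
    have hA'K : A' ⊓ K = ⊥ :=
      inf_eq_bot_of_isPGroup (isPGroup_of_elementary hA'e) (not_dvd_sigmaCore hG hM hpt.2.1)
    obtain ⟨k', hk', w, hw, hkw⟩ := CfsgLib.Coprime.mem_sup_exists
      ((tau_centralizer_le hG hM hpt hA'M hA'e hA'2).trans (sigmaCore_normal hG M)) (hD huD)
    refine mem_centralizer_iff.2 fun d hd => ?_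
    have h1 : u * d * u⁻¹ * d⁻¹ ∈ A' ⊓ K := by
      refine mem_inf.2 ⟨mul_mem ((mem_normalizer_iff.1 (huA' (mem_zpowers u)) d).1 hd) (inv_mem hd), ?_⟩
      have h2 : u * d * u⁻¹ * d⁻¹ = k' * (d * k'⁻¹ * d⁻¹) := by
        have h3 : w * d * w⁻¹ = d := by rw [← mem_centralizer_iff.1 hw d hd, mul_inv_cancel_right]
        calc u * d * u⁻¹ * d⁻¹ = k' * (w * d * w⁻¹) * k'⁻¹ * d⁻¹ := by rw [← hkw]; group
          _ = k' * (d * k'⁻¹ * d⁻¹) := by rw [h3]; group
      rw [h2]
      exact mul_mem hk' ((mem_normalizer_iff.1 (sigmaCore_normal hG M (hA'M hd)) _).1 (inv_mem hk'))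
    rw [hA'K, mem_bot, mul_inv_eq_one, mul_inv_eq_iff_eq_mul] at h1
    exact h1.symm
  refine mem_centralizer_singleton_iff.2 ?_
  rw [hxuv]
  exact (((show Commute c v from mem_centralizer_singleton_iff.1 (hA'v hc)).zpow_right a).mul_right
    ((show Commute c u from mem_centralizer_iff.1 huC c hc).zpow_right b)).eq

end CfsgLib.CFun.TauTwo
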