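import Cfsg.Agent.Lib.CFun.OddSigmaDisjoint
import Cfsg.Agent.S1420

/-!
# Centralizers of elements of `M_σ`

A prime outside `σ(M)` of rank one with fixed points on `M_σ` is in `σ` of every maximal subgroup
over the normalizer of its line. Consequently an element of `M_σ` whose centralizer is not in `M`
has a unique maximal subgroup `N` over its centralizer, and `N = N_σ (M ∩ N)`.
-/

set_option autoImplicit false
set_option linter.style.haveILetI false
set_option linter.unusedSectionVars false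

open Subgroup
open scoped commutatorElement
open CfsgLib.Coprime (conjBy conjBy_conjBy conjBy_one mem_conjBy conj_mem_conjBy IsSylowIn IsHallIn)

namespace CfsgLib.CFun.ElemCent

open CfsgLib.CFun.TauTwo CfsgLib.CFun.TauOne CfsgLib.CFun.Disjoint

universe u

variable {G : Type u} [Group G] [Finite G] {p q : ℕ} [hp : Fact p.Prime] [hq : Fact q.Prime]
variable (hG : Cfsg.IsMinSimpleOddOrder G) {M N L : Subgroup G}
include hG

omit hq in
/-- `σ` is invariant under conjugation. -/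
theorem mem_sigma_conjBy (hM : IsCoatom M) {g : G} (h : p ∈ Cfsg.sigma (conjBy g M)) :
    p ∈ Cfsg.sigma M := by
  obtain ⟨S, -, hS⟩ :=
    exists_sylow_of_sigma hG (isCoatom_conjBy g hM) h (IsPGroup.of_bot (p := p)) bot_le
  obtain ⟨S', -⟩ : ∃ S' : Sylow p G, True := ⟨g⁻¹ • S, trivial⟩
  have hN := sylow_normalizer_le hG (isCoatom_conjBy g hM) h S hS
  have hT : IsPGroup p ↥(conjBy g⁻¹ (S : Subgroup G)) := S.2.map _
  have hTS : Nat.card ↥(conjBy g⁻¹ (S : Subgroup G)) = Nat.card ↥(S : Subgroup G) :=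
    CfsgLib.Coprime.card_conjBy _ _
  obtain ⟨T, hTT⟩ := hT.exists_le_sylow
  have hTeq : conjBy g⁻¹ (S : Subgroup G) = T :=
    eq_of_le_of_card_ge hTT (by rw [hTS, card_sylow_eq T S])
  have hback : conjBy g⁻¹ (conjBy g M) = M := by
    rw [conjBy_conjBy, inv_mul_cancel, conjBy_one]
  refine sigma_of_sylow hG hM T ?_ ?_ ?_
  · rw [← hTeq, ← hback]; exact map_mono hS
  · rw [← hTeq, normalizer_conjBy, ← hback]; exact map_mono hN
  · have := h.2.1
    rwa [CfsgLib.Coprime.card_conjBy] at this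

/-- A maximal subgroup other than `M` over the normalizer of a line of `M_σ` has its prime in
`τ₂`. -/
theorem tau_of_other (hM : IsCoatom M) (hqM : q ∈ Cfsg.sigma M) {X : Subgroup G}
    (hX : Nat.card X = q) (hXM : X ≤ M) (hL : IsCoatom L) (hne : L ≠ M)
    (hNX : normalizer (X : Set G) ≤ L) : q ∈ Cfsg.tau2 L ∧ NotConj M L := by
  have hnc : NotConj M L := fun g e => other_not_conj hG hM hqM
    (IsPGroup.of_card (n := 1) (by rw [hX, pow_one])) (line_ne_bot hX) hXM hL hne hNX g e.symm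
  exact ⟨(normalizer_sigma_or_tau hG hL hX hNX).resolve_left
    (not_sigma hG hM hL hnc hqM), hnc⟩

/-- A prime outside `σ(M)` of rank one with fixed points on `M_σ` lies in `σ` of every maximal
subgroup over the normalizer of its line. -/
theorem normalizer_sigma_of_fixed (hM : IsCoatom M) (hpσ : p ∉ Cfsg.sigma M)
    (hr1 : Cfsg.PRankLE p 1 M) {P : Subgroup G} (hPM : P ≤ M) (hPc : Nat.card P = p)
    {X : Subgroup G} (hX : Nat.card X = q) (hXσ : X ≤ Cfsg.sigmaCore M ⊓ centralizer (P : Set G))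
    (hL : IsCoatom L) (hNP : normalizer (P : Set G) ≤ L) : p ∈ Cfsg.sigma L := by
  rcases normalizer_sigma_or_tau hG hL hPc hNP with h | hτ
  · exact h
  exfalso
  have hPp : IsPGroup p P := IsPGroup.of_card (n := 1) (by rw [hPc, pow_one])
  have hXp : IsPGroup q X := IsPGroup.of_card (n := 1) (by rw [hX, pow_one])
  have hqM : q ∈ Cfsg.sigma M := (sigmaCore_hall hG hM).1.2.1 q hq.out
    (hX ▸ card_dvd_of_le (hXσ.trans inf_le_left))
  have hXM : X ≤ M := (hXσ.trans inf_le_left).trans (map_subtype_le _)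
  have hXP : X ≤ centralizer (P : Set G) := hXσ.trans inf_le_right
  have hqp : q ≠ p := fun e => hpσ (e ▸ hqM)
  have hnc := rank_one_not_conj hG hM hpσ hr1 hPc hNP
  have hqL : q ∉ Cfsg.sigma L := not_sigma hG hM hL hnc hqM
  obtain ⟨hpσL, hpr2, hpr1⟩ := mem_tau_iff.1 hτ
  have hXL : X ≤ L :=
    hXP.trans ((CfsgLib.Coprime.centralizer_le_normalizer_self _).trans hNP)
  obtain ⟨E, hE, hKE⟩ := exists_complement hG hL (sup_le hXL (le_normalizer.trans hNP))
    fun s hs hsd => by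
      have h1 := hsd.trans (CfsgLib.Coprime.card_sup_dvd_of_le_normalizer
        (hXP.trans (CfsgLib.Coprime.centralizer_le_normalizer_self _)))
      rw [hX, hPc] at h1
      rcases hs.dvd_mul.1 h1 with h | h
      · rw [(Nat.prime_dvd_prime_iff_eq hs hq.out).1 h]; exact hqL
      · rw [(Nat.prime_dvd_prime_iff_eq hs hp.out).1 h]; exact hpσL
  obtain ⟨A, hAE, hAe, hA2⟩ := Compl.exists_elementary_compl hG hL hE hτ
  obtain ⟨⟨hEA, hsub⟩, -, -⟩ := Cfsg.Agent.S1418.result hG L hL E hE p hτ A ⟨hAE, hAe, hA2⟩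
  have hPA : P ≤ A := hsub P (le_sup_right.trans hKE) hPc
  have hXA : X ≤ normalizer (A : Set G) := (le_sup_left.trans hKE).trans hEA
  have hid := not_ideal_of_rank_two hG hL hpr2 hpr1
  have hAX : ¬ A ≤ centralizer (X : Set G) := fun h =>
    no_rank_two_centralizer hG hM hqM hX hXM hAe hA2 h hr1 hid
      (fun e => line_ne_bot hPc (le_bot_iff.1 (e ▸ le_inf hPA hPM))) hqp.symm
  have hAp := isPGroup_of_elementary hAe
  obtain ⟨L₂, hL₂, hNA⟩ := exists_coatom_normalizer hG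
    (fun e => line_ne_bot hPc (le_bot_iff.1 (hPA.trans e.le))) (ms_isPGroup_ne_top hG hAp)
  have hpσ₂ : p ∈ Cfsg.sigma L₂ :=
    tau_sigma_of_normalizer hG hL hτ (hAE.trans hE.1) hAe hA2 hL₂ hNA
  have hnc₂ : NotConj M L₂ := fun g e => hpσ (mem_sigma_conjBy hG hM (g := g) (e ▸ hpσ₂))
  have hqσ₂ := not_sigma hG hM hL₂ hnc₂ hqM
  have hXL₂ : X ≤ L₂ := hXA.trans hNA
  have hPL₂ : P ≤ L₂ := hPA.trans (le_normalizer.trans hNA)
  have hPσ₂ : P ≤ Cfsg.sigmaCore L₂ := isPGroup_le_sigmaCore hG hL₂ hpσ₂ hPp hPL₂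
  have hPfix : P ≤ Cfsg.sigmaCore L₂ ⊓ centralizer (X : Set G) :=
    le_inf hPσ₂ (le_centralizer_iff.1 hXP)
  obtain ⟨F, hF, hXF⟩ := exists_complement hG hL₂ hXL₂ fun s hs hsd => by
    rw [hX] at hsd; rw [(Nat.prime_dvd_prime_iff_eq hs hq.out).1 hsd]; exact hqσ₂
  rcases tau_or_rank_one hG hL₂ hq.out hqσ₂ with hqt | hqr1
  · obtain ⟨B, hBF, hBe, hB2⟩ := Compl.exists_elementary_compl hG hL₂ hF hqt
    obtain ⟨⟨-, hsub₂⟩, -, huniq⟩ :=
      Cfsg.Agent.S1418.result hG L₂ hL₂ F hF q hqt B ⟨hBF, hBe, hB2⟩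
    have hXB : X ≤ B := hsub₂ X hXF hX
    have hCX := (huniq X hXB hX fun e => line_ne_bot hPc (le_bot_iff.1 (e ▸ hPfix))).1
    have hq2 : q ≠ 2 := ms_ne_two hG ((dvd_of_eq hX.symm).trans (card_subgroup_dvd_card X))
    obtain ⟨S, hXS, hSM⟩ := exists_sylow_of_sigma hG hM hqM hXp hXM
    by_cases hc : IsCyclic (S : Subgroup G)
    · obtain ⟨S', hBS'⟩ := (isPGroup_of_elementary hBe).exists_le_sylow
      obtain ⟨g, hg⟩ := exists_conjBy_sylow S' S
      have h1 := card_le_of_cyclic (q := q) hc ((map_mono hBS').trans hg.ge : conjBy g B ≤ S)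
        (fun y hy => by obtain ⟨b, hb, rfl⟩ := hy; rw [← map_pow, hBe.2 b hb, map_one])
      rw [CfsgLib.Coprime.card_conjBy, hB2] at h1
      exact absurd h1 (not_le.2 (lt_self_pow₀ hq.out.one_lt (by norm_num)))
    · obtain ⟨B', hXB', hB'S, hB'e, hB'2⟩ := exists_elementary_over hq2 S.2 hc hXS hX
      have hinf := tau_inf_eq_bot hG hL₂ hqt
        ((le_centralizer_line hB'e hXB').trans hCX) hB'e hB'2 hM hnc₂.ne.symm (hB'S.trans hSM)
      exact line_ne_bot hPc (le_bot_iff.1 (hinf ▸ le_inf hPσ₂ hPM))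
  · by_cases hqd : q ∣ Nat.card ↥(⁅L₂, L₂⁆ : Subgroup G)
    · refine hAX (le_centralizer_iff.1 fun x hx => ?_)
      have hxq : x ^ q ^ 1 = 1 := by
        rw [pow_one]; exact orderOf_dvd_iff_pow_eq_one.1 (hX ▸ orderOf_dvd_natCard X hx)
      exact derived_centralizes_non_beta hG hL₂ (fun hb => hid hb.2) (le_normalizer.trans hNA) hAp
        (commutator_mono hF.1 hF.1 (Compl.mem_derived_of_tau3 hG hL₂ hF
          ⟨hq.out, hqσ₂, hqd, hqr1⟩ (hXF hx) hxq))
        (Nat.Coprime.coprime_dvd_left (orderOf_dvd_of_pow_eq_one hxq)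
          (((Nat.coprime_primes hq.out hp.out).2 hqp).pow_left 1))
        (hXA hx)
    · have h1 := unique_of_fixed hG hL₂
        ⟨hq.out, hqσ₂, hX ▸ card_dvd_of_le hXL₂, hqd, hqr1⟩ hXL₂ hX hPc hPfix
      exact hpσL (h1.2 L hL ((CfsgLib.Coprime.centralizer_le_normalizer_self _).trans hNP) ▸ hpσ₂)

/-- The normalizer of a nonregular line of rank one lies in the maximal subgroup having its prime
in `σ`. -/
theorem normalizer_le_of_fixed (hM : IsCoatom M) (hpσ : p ∉ Cfsg.sigma M)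
    (hr1 : Cfsg.PRankLE p 1 M) {P : Subgroup G} (hPM : P ≤ M) (hPc : Nat.card P = p)
    {X : Subgroup G} (hX : Nat.card X = q) (hXσ : X ≤ Cfsg.sigmaCore M ⊓ centralizer (P : Set G))
    (hN : IsCoatom N) (hPN : P ≤ N) (hpN : p ∈ Cfsg.sigma N) :
    normalizer (P : Set G) ≤ N := by
  obtain ⟨L, hL, hNP⟩ := exists_coatom_normalizer hG (line_ne_bot hPc)
    (ms_isPGroup_ne_top hG (IsPGroup.of_card (n := 1) (by rw [hPc, pow_one])))
  have hpL := normalizer_sigma_of_fixed hG hM hpσ hr1 hPM hPc hX hXσ hL hNP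
  by_contra h
  exact (mem_tau_iff.1 (tau_of_other hG hN hpN hPc hPN hL (fun e => h (e ▸ hNP)) hNP).1).1 hpL

omit hp hq in
/-- Centralizers in `N = N_σ D` of elements of `D` split. -/
theorem centralizer_compl {D : Subgroup G} (hD : Cfsg.IsComplIn D (Cfsg.sigmaCore N) N) {x : G}
    (hxD : x ∈ D) (hxN : centralizer ({x} : Set G) ≤ N) :
    Cfsg.IsComplIn (D ⊓ centralizer ({x} : Set G)) (Cfsg.sigmaCore N ⊓ centralizer ({x} : Set G))
      (centralizer ({x} : Set G)) := by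
  obtain ⟨hDN, hσN, hDσ, hprod⟩ := hD
  refine ⟨inf_le_right, inf_le_right, le_bot_iff.1 ((inf_le_inf inf_le_left inf_le_left).trans
    hDσ.le), fun c hc => ?_⟩
  obtain ⟨a, ha, b, hb, rfl⟩ := hprod c (hxN hc)
  have hcx : a * b * x = x * (a * b) := mem_centralizer_singleton_iff.1 hc
  have hb' : x * b * x⁻¹ ∈ Cfsg.sigmaCore N :=
    (mem_normalizer_iff.1 (sigmaCore_normal hG N (hDN hxD)) b).1 hb
  have h1 : a⁻¹ * (x * a * x⁻¹) = b * (x * b * x⁻¹)⁻¹ := by
    rw [eq_mul_inv_iff_mul_eq, mul_assoc, inv_mul_eq_iff_eq_mul,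
      show x * a * x⁻¹ * (x * b * x⁻¹) = x * (a * b) * x⁻¹ by group, ← hcx, mul_inv_cancel_right]
  have h2 : a⁻¹ * (x * a * x⁻¹) = 1 := by
    rw [← mem_bot, ← hDσ]
    exact mem_inf.2 ⟨mul_mem (inv_mem ha) (mul_mem (mul_mem hxD ha) (inv_mem hxD)),
      h1 ▸ mul_mem hb (inv_mem hb')⟩
  have hax : a * x = x * a := by
    rw [inv_mul_eq_one] at h2
    exact (eq_mul_inv_iff_mul_eq.1 h2)
  refine ⟨a, mem_inf.2 ⟨ha, mem_centralizer_singleton_iff.2 hax⟩, b,
    mem_inf.2 ⟨hb, mem_centralizer_singleton_iff.2 ?_⟩, rfl⟩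
  have h3 : a * (b * x) = a * (x * b) := by rw [← mul_assoc, hcx, ← mul_assoc x, ← hax, mul_assoc]
  exact mul_left_cancel h3

omit hp hq in
/-- An element of `M_σ` with centralizer outside `M` has a unique maximal subgroup over its
centralizer, split by `M`. -/
theorem exists_data (hM : IsCoatom M) {x : G} (hx : x ∈ Cfsg.sigmaCore M) (hx1 : x ≠ 1)
    (hxM : ¬ centralizer ({x} : Set G) ≤ M) :
    ∃ N : Subgroup G, IsCoatom N ∧ centralizer ({x} : Set G) ≤ N ∧
      (∀ L : Subgroup G, IsCoatom L → centralizer ({x} : Set G) ≤ L → L = N) ∧ NotConj M N ∧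
      (∀ r : ℕ, r.Prime → r ∣ orderOf x → r ∈ Cfsg.tau2 N) ∧
      Cfsg.IsComplIn (M ⊓ N) (Cfsg.sigmaCore N) N ∧ Group.IsNilpotent (Cfsg.sigmaCore N) := by
  have hxM' : x ∈ M := map_subtype_le _ hx
  obtain ⟨q, hqp, hqd⟩ := Nat.exists_prime_and_dvd fun e => hx1 (orderOf_eq_one_iff.1 e)
  haveI : Fact q.Prime := ⟨hqp⟩
  have hpow : ∀ s : ℕ, s.Prime → s ∣ orderOf x → ∃ Z : Subgroup G,
      Nat.card Z = s ∧ Z ≤ zpowers x ∧ Z ≤ M ∧ s ∈ Cfsg.sigma M ∧
      centralizer ({x} : Set G) ≤ centralizer (Z : Set G) := by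
    intro s hs hsd
    haveI : Fact s.Prime := ⟨hs⟩
    obtain ⟨z, hz⟩ := exists_prime_orderOf_dvd_card' (G := zpowers x) s
      (by rwa [Nat.card_zpowers])
    refine ⟨zpowers (z : G), by rw [Nat.card_zpowers, orderOf_coe, hz], zpowers_le.2 z.2,
      (zpowers_le.2 z.2).trans (zpowers_le.2 hxM'), (sigmaCore_hall hG hM).1.2.1 s hs
        (hsd.trans ?_), ?_⟩
    · rw [← Nat.card_zpowers]; exact card_dvd_of_le (zpowers_le.2 hx)
    · rw [← centralizer_zpowers x]; exact centralizer_le (zpowers_le.2 z.2)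
  obtain ⟨Z, hZc, -, hZM, hqM, hxZ⟩ := hpow q hqp hqd
  have hZp : IsPGroup q Z := IsPGroup.of_card (n := 1) (by rw [hZc, pow_one])
  have hZ1 := line_ne_bot hZc
  obtain ⟨H, hH, hNZ⟩ := exists_coatom_normalizer hG hZ1 (ms_isPGroup_ne_top hG hZp)
  have hxH : centralizer ({x} : Set G) ≤ H :=
    hxZ.trans ((CfsgLib.Coprime.centralizer_le_normalizer_self _).trans hNZ)
  have hne : H ≠ M := fun e => hxM (e ▸ hxH)
  obtain ⟨hqt, hnc⟩ := tau_of_other hG hM hqM hZc hZM hH hne hNZ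
  have hq2 : q ≠ 2 := ms_ne_two hG ((dvd_of_eq hZc.symm).trans (card_subgroup_dvd_card Z))
  obtain ⟨U₀, hU₀⟩ := (hZp.of_equiv
    (subgroupOfEquivOfLe (le_inf hZM (le_normalizer.trans hNZ))).symm).exists_le_sylow
  set U := (U₀ : Subgroup ↥(M ⊓ H)).map (M ⊓ H).subtype with hU
  have hUp : IsPGroup q U := U₀.2.map _
  have hUMH : U ≤ M ⊓ H := map_subtype_le _
  have hUH : U ≤ H := hUMH.trans inf_le_right
  have hZU : Z ≤ U := fun z hz =>
    ⟨⟨z, le_inf hZM (le_normalizer.trans hNZ) hz⟩, hU₀ hz, rfl⟩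
  have hUy := fun V => other_sylow hG hM hqM hZp hZ1 hZM hH hne hNZ hUp hUMH hZU
    (fun V h1 h2 h3 => sylow_map_max U₀ h1 h2 h3) (U := V)
  obtain ⟨hqσH, -, hqrH⟩ := mem_tau_iff.1 hqt
  have hUnc : ¬ IsCyclic U := fun hc => hqrH (pRankLE_of_sylow (sylowOfMax hUp hUH hUy) (by
    rw [coe_sylowOfMax, map_subgroupOf_eq_of_le hUH]
    intro V hVc hVe
    haveI := hc
    exact (card_le_of_cyclic (C := V) inferInstance le_rfl fun y hy => hVe y hy).trans
      (le_of_eq (pow_one q).symm)))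
  obtain ⟨B, hBU, -, hBe, hB2⟩ := exists_normal_elementary_two hq2 hUp hUnc
  have hBM : B ≤ M := hBU.trans (hUMH.trans inf_le_left)
  have hBnc : ¬ IsCyclic B := fun hc => by
    have h1 := card_le_of_cyclic (q := q) hc (le_refl B) hBe.2
    rw [hB2] at h1
    exact absurd h1 (not_le.2 (lt_self_pow₀ hqp.one_lt (by norm_num)))
  obtain ⟨E₀, hE₀, -⟩ := exists_complement hG hM (bot_le : (⊥ : Subgroup G) ≤ M)
    (fun s hs hsd => by rw [card_bot] at hsd; exact absurd hsd hs.not_dvd_one)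
  have hNB := (Cfsg.Agent.S1420.result hG M hM E₀ hE₀).2.2.1 q B hqM
    (isPGroup_of_elementary hBe) hBM hBnc
  obtain ⟨F, hF, hBF⟩ := exists_complement hG hH (hBU.trans hUH) fun s hs hsd => by
    rw [hB2] at hsd
    rw [(Nat.prime_dvd_prime_iff_eq hs hqp).1 (hs.dvd_of_dvd_pow hsd)]
    exact hqσH
  have hFM : F ≤ M :=
    (Cfsg.Agent.S1418.result hG H hH F hF q hqt B ⟨hBF, hBe, hB2⟩).1.1.trans hNB
  have hinf := tau_inf_eq_bot hG hH hqt (hBU.trans hUH) hBe hB2 hM hne.symm hBM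
  have hFeq : F = M ⊓ H := by
    refine le_antisymm (le_inf hFM hF.1) fun m hm => ?_
    obtain ⟨a, ha, b, hb, rfl⟩ := hF.2.2.2 m hm.2
    have h1 : b ∈ Cfsg.sigmaCore H ⊓ M :=
      mem_inf.2 ⟨hb, by simpa using mul_mem (inv_mem (hFM ha)) hm.1⟩
    rw [hinf, mem_bot] at h1
    rw [h1, mul_one]; exact ha
  have hcompl : Cfsg.IsComplIn (M ⊓ H) (Cfsg.sigmaCore H) H := hFeq ▸ hF
  have hxD : x ∈ M ⊓ H := mem_inf.2 ⟨hxM', hxH (mem_centralizer_singleton_iff.2 rfl)⟩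
  have hR : Cfsg.sigmaCore H ⊓ centralizer ({x} : Set G) ≠ ⊥ := fun e => by
    refine hxM fun c hc => ?_
    obtain ⟨a, ha, b, hb, rfl⟩ := (centralizer_compl hG hcompl hxD hxH).2.2.2 c hc
    rw [e, mem_bot] at hb
    rw [hb, mul_one]; exact ha.1.1
  have hnil := tau_nilpotent hG hH hqt (hBU.trans hUH) hBe hB2
  have htau : ∀ r : ℕ, r.Prime → r ∣ orderOf x → r ∈ Cfsg.tau2 H := by
    intro s hs hsd
    haveI : Fact s.Prime := ⟨hs⟩
    obtain ⟨Y, hYc, hYx, hYM, hsM, hxY⟩ := hpow s hs hsd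
    have hsσH : s ∉ Cfsg.sigma H := not_sigma hG hM hH hnc hsM
    rcases tau_or_rank_one hG hH hs hsσH with h | hs1
    · exact h
    exfalso
    obtain ⟨r, hr, hrd⟩ := Nat.exists_prime_and_dvd fun e => hR (card_eq_one.1 e)
    haveI : Fact r.Prime := ⟨hr⟩
    obtain ⟨w, hw⟩ := exists_prime_orderOf_dvd_card' r hrd
    have hYH : Y ≤ H := hYx.trans (zpowers_le.2 hxD.2)
    exact hxM (hxY.trans ((CfsgLib.Coprime.centralizer_le_normalizer_self _).trans
      (normalizer_le_of_fixed hG hH hsσH hs1 hYH hYc (X := zpowers (w : G))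
        (by rw [Nat.card_zpowers, orderOf_coe, hw])
        ((zpowers_le.2 w.2).trans (inf_le_inf_left _ hxY)) hM hYM hsM)))
  refine ⟨H, hH, hxH, ?_, hnc, htau, hcompl, hnil⟩
  obtain ⟨w, hw, hw1⟩ := (bot_or_exists_ne_one _).resolve_left hR
  exact ((Cfsg.Agent.S1420.result hG H hH F hF).2.2.2 x hxD.2 hx1 htau
    ⟨hxD.2, w, hw.1, hw1, (mem_centralizer_singleton_iff.1 hw.2).symm⟩).2

end CfsgLib.CFun.ElemCent
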