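import Cfsg.Agent.S1450
import Cfsg.Agent.Lib.CFun.OddDerivedFitting
import Cfsg.Agent.Lib.CFun.OddAlpha
import Cfsg.Agent.Lib.LocalStructure.FStar
import Cfsg.Agent.Lib.Fusion.Transfer

/-!
# Sylow towers of odd solvable groups with a Fitting subgroup of rank two
-/

set_option autoImplicit false
set_option linter.style.haveILetI false
set_option linter.unusedSectionVars false

open Subgroup
open scoped commutatorElement

namespace CfsgLib.CFun.RankTwoTower

universe u

variable {G : Type u} [Group G] [Finite G]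

/-- The rank passes to groups embedded in the given one. -/
theorem pRankLE_of_injective {A : Type u} [Group A] {p k : ℕ} {f : A →* G}
    (hf : Function.Injective f) (h : Cfsg.PRankLE p k G) : Cfsg.PRankLE p k A := fun E hEc hEe => by
  haveI := hEc
  have h1 := h (E.map f) inferInstance
    (by rintro _ ⟨a, ha, rfl⟩; rw [← map_pow, hEe a ha, map_one])
  rwa [card_map_of_injective hf] at h1

variable [Group.IsSolvable G]

/-- An element of prime power order for a larger prime centralizes a group of rank two. -/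
theorem centralizes_of_lt {r q : ℕ} [hr : Fact r.Prime] (hq : q.Prime) (hlt : r < q)
    (hodd : Odd (Nat.card G)) {R : Subgroup G} (hR : IsPGroup r R) (hrk : Cfsg.PRankLE r 2 R)
    {x : G} (hxN : x ∈ normalizer (R : Set G)) {n : ℕ} (hx : x ^ q ^ n = 1) :
    x ∈ centralizer (R : Set G) := by
  haveI : Fact q.Prime := ⟨hq⟩
  by_cases hR1 : R = ⊥
  · subst hR1
    exact mem_centralizer_iff.2 fun y hy => by rw [mem_bot.1 hy, one_mul, mul_one]
  set X := R ⊔ zpowers x with hX
  have hcx : Nat.Coprime (orderOf x) r :=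
    ((Nat.coprime_primes hq hr.out).2 hlt.ne').pow_left n |>.coprime_dvd_left
      (orderOf_dvd_of_pow_eq_one hx)
  haveI hRn : (R.subgroupOf X).Normal :=
    normal_subgroupOf_iff_le_normalizer le_sup_left |>.2
      (sup_le le_normalizer (zpowers_le.2 hxN))
  haveI : Group.IsSolvable X := inferInstance
  have hRX : IsPGroup r (R.subgroupOf X) := hR.of_equiv (subgroupOfEquivOfLe le_sup_left).symm
  have hidx : ¬ r ∣ (R.subgroupOf X).index := by
    intro hd
    have h1 : R.relIndex X ∣ orderOf x := by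
      have h2 := CfsgLib.Coprime.card_sup_dvd_of_le_normalizer (zpowers_le.2 hxN : zpowers x ≤ _)
      rw [sup_comm, Nat.card_zpowers, ← hX, ← CfsgLib.Coprime.card_mul_relIndex
        (show R ≤ X from le_sup_left), mul_comm (orderOf x)] at h2
      exact Nat.dvd_of_mul_dvd_mul_left Nat.card_pos h2
    exact hr.out.not_dvd_one ((Nat.eq_one_of_dvd_coprimes hcx (hd.trans h1) dvd_rfl) ▸ dvd_rfl)
  have hrX : Cfsg.PRankLE r 2 ↥X := by
    intro E hEc hEe
    have hle : E ≤ R.subgroupOf X := fun e he => by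
      rw [← QuotientGroup.eq_one_iff, ← orderOf_eq_one_iff]
      refine Nat.eq_one_of_dvd_coprimes (hr.out.coprime_iff_not_dvd.2 hidx)
        (orderOf_dvd_of_pow_eq_one ?_) (index_eq_card (R.subgroupOf X) ▸ orderOf_dvd_natCard _)
      rw [← QuotientGroup.mk_pow, hEe e he]; rfl
    haveI := hEc
    have h1 := hrk ((E.map X.subtype).subgroupOf R) (by
        refine ⟨⟨fun a b => Subtype.ext (Subtype.ext ?_)⟩⟩
        obtain ⟨a', ha, ea⟩ := a.2
        obtain ⟨b', hb, eb⟩ := b.2
        show ((a : R) : G) * ((b : R) : G) = ((b : R) : G) * ((a : R) : G)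
        have : ((a : R) : G) = (a' : G) := ea.symm
        rw [this, show ((b : R) : G) = (b' : G) from eb.symm]
        exact congrArg (fun u : E => ((u : X) : G)) (hEc.is_comm.comm ⟨a', ha⟩ ⟨b', hb⟩))
      (by rintro ⟨_, hy⟩ ⟨e, he, rfl⟩; exact Subtype.ext (congrArg Subtype.val (hEe e he) :))
    rwa [Nat.card_congr (subgroupOfEquivOfLe (by
        rintro _ ⟨e, he, rfl⟩; exact hle he)).toEquiv,
      card_map_of_injective X.subtype_injective] at h1
  obtain ⟨c, hc⟩ : r ∣ Nat.card X := by
    obtain ⟨k, hk⟩ := IsPGroup.iff_card.1 hR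
    rcases k with _ | k
    · exact absurd (card_eq_one.1 (hk.trans (pow_zero r))) hR1
    · exact ((dvd_pow_self r k.succ_ne_zero).trans (hk ▸ dvd_rfl)).trans
        (card_dvd_of_le le_sup_left)
  have hle := (Cfsg.Agent.S1450.result (hodd.of_dvd_nat (card_subgroup_dvd_card X)) r ⟨c, hc⟩ hrX).1
  have hxO : (⟨x, mem_sup_right (mem_zpowers x)⟩ : X) ∈ Cfsg.pPrimeCore r ↥X := by
    set x' : X := ⟨x, mem_sup_right (mem_zpowers x)⟩
    have hx1 : (QuotientGroup.mk x' : X ⧸ Cfsg.pPrimeCore r ↥X) ^ q ^ n = 1 := by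
      rw [← QuotientGroup.mk_pow, show x' ^ q ^ n = 1 from Subtype.ext hx]; rfl
    rw [← QuotientGroup.eq_one_iff, ← orderOf_eq_one_iff]
    by_contra hne
    obtain ⟨m, -, hm⟩ := (Nat.dvd_prime_pow hq).1 (orderOf_dvd_of_pow_eq_one hx1)
    rcases m with _ | m
    · exact hne (hm.trans (pow_zero q))
    · exact absurd (hle q hq ((dvd_pow_self q m.succ_ne_zero).trans
        (hm ▸ (index_eq_card (Cfsg.pPrimeCore r ↥X)) ▸ orderOf_dvd_natCard _))) hlt.not_ge
  refine mem_centralizer_iff.2 fun y hy => ?_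
  have hdis : Disjoint (R.subgroupOf X) (Cfsg.pPrimeCore r ↥X) := by
    rw [disjoint_iff]
    refine inf_eq_bot_of_coprime ?_
    obtain ⟨k, hk⟩ := IsPGroup.iff_card.1 hRX
    rw [hk]
    exact ((CfsgLib.Coprime.pPrimeCore_coprime hr.out).symm).pow_left k
  exact congrArg Subtype.val (commute_of_normal_of_disjoint _ _ hRn inferInstance hdis
    ⟨y, mem_sup_left hy⟩ ⟨x, mem_sup_right (mem_zpowers x)⟩ (mem_subgroupOf.2 hy) hxO).eq

/-- The cores are of rank two. -/
theorem pRankLE_pCore (hr : Cfsg.RankLE 2 G ∨ Cfsg.RankLE 2 (Cfsg.fittingSubgroup G)) (s : ℕ)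
    (hs : s.Prime) : Cfsg.PRankLE s 2 ↥(Cfsg.pCore s G) := by
  haveI : Fact s.Prime := ⟨hs⟩
  rcases hr with h | h
  · exact pRankLE_of_injective (Cfsg.pCore s G).subtype_injective (h s hs)
  · exact pRankLE_of_injective (inclusion_injective (CfsgLib.Coprime.pCore_le_fitting s)) (h s hs)

omit [Finite G] [Group.IsSolvable G] in
theorem normal_of_commutator_le_top {N : Subgroup G} (h : commutator G ≤ N) : N.Normal :=
  ⟨fun n hn g => by
    have : g * n * g⁻¹ = ⁅g, n⁆ * n := by group
    rw [this]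
    exact mul_mem (h (commutator_mem_commutator (mem_top g) (mem_top n))) hn⟩

theorem mem_sylow_of_normal {K : Type u} [Group K] [Finite K] {r : ℕ} [Fact r.Prime]
    (P : Sylow r K) [(P : Subgroup K).Normal] {y : K} (hy : ∃ j, y ^ r ^ j = 1) :
    y ∈ (P : Subgroup K) := by
  obtain ⟨j, hj⟩ := hy
  obtain ⟨m, -, hm⟩ := (Nat.dvd_prime_pow Fact.out).1 (orderOf_dvd_of_pow_eq_one hj)
  obtain ⟨S, hS⟩ := (show IsPGroup r (zpowers y) from
    IsPGroup.of_card (n := m) (by rw [Nat.card_zpowers, hm])).exists_le_sylow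
  haveI := Sylow.unique_of_normal P inferInstance
  exact Subsingleton.elim S P ▸ hS (mem_zpowers y)

omit [Group.IsSolvable G] in
/-- Prime power elements for different primes commute in a nilpotent group. -/
theorem commute_of_coprime {K : Type u} [Group K] [Finite K] [Group.IsNilpotent K] {r s : ℕ}
    [Fact r.Prime] [Fact s.Prime] (hrs : r ≠ s) {a b : K} (ha : ∃ i, a ^ r ^ i = 1)
    (hb : ∃ j, b ^ s ^ j = 1) : Commute a b := by
  obtain ⟨R⟩ := (inferInstance : Nonempty (Sylow r K))
  obtain ⟨S⟩ := (inferInstance : Nonempty (Sylow s K))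
  have hR := Sylow.normal_of_normalizerCondition Group.normalizerCondition_of_isNilpotent R
  have hS := Sylow.normal_of_normalizerCondition Group.normalizerCondition_of_isNilpotent S
  refine commute_of_normal_of_disjoint _ _ hR hS (IsPGroup.disjoint_of_ne r s hrs _ _ R.2 S.2) a b
    ?_ ?_
  · exact mem_sylow_of_normal R ha
  · exact mem_sylow_of_normal S hb

variable (hodd : Odd (Nat.card G)) (hr : ∀ s : ℕ, s.Prime → Cfsg.PRankLE s 2 ↥(Cfsg.pCore s G))
include hodd hr

/-- A characteristic subgroup inside the derived group of a Sylow subgroup is normal. -/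
theorem normal_of_characteristic {q : ℕ} [Fact q.Prime] (S : Sylow q G)
    (T : Subgroup ↥(S : Subgroup G)) (hT : T.Characteristic)
    (hTS : T.map (S : Subgroup G).subtype ≤ ⁅(S : Subgroup G), (S : Subgroup G)⁆) :
    (T.map (S : Subgroup G).subtype).Normal := by
  set K := commutator G with hK
  have hKn := commutator_isNilpotent_of_rank_two hodd hr
  set T' := T.map (S : Subgroup G).subtype
  have hTK : T' ≤ K := hTS.trans (commutator_mono le_top le_top)
  have hNS : normalizer ((S : Subgroup G) : Set G) ≤ normalizer (T' : Set G) :=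
    by haveI := hT; exact CfsgLib.LS.normalizer_le_normalizer_map_char T
  -- the Sylow subgroup of the derived group
  haveI := hKn
  obtain ⟨Q⟩ := (inferInstance : Nonempty (Sylow q K))
  haveI hQn : (Q : Subgroup K).Normal := Sylow.normal_of_normalizerCondition Group.normalizerCondition_of_isNilpotent Q
  haveI : (Q : Subgroup K).Characteristic := Q.characteristic_of_normal hQn
  have hfr : K ⊔ normalizer ((S : Subgroup G) : Set G) = ⊤ := by
    haveI : (K ⊔ (S : Subgroup G)).Normal := CfsgLib.CFun.RankTwoTower.normal_of_commutator_le_top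
      le_sup_left
    have h1 := Sylow.normalizer_sup_eq_top' S (N := K ⊔ (S : Subgroup G)) le_sup_right
    rw [eq_top_iff, ← h1]
    exact sup_le le_sup_right (sup_le le_sup_left (le_normalizer.trans le_sup_right))
  have hKT : K ≤ normalizer (T' : Set G) := by
    intro k hk
    refine CfsgLib.Fusion.le_of_forall_prime_pow (H := K) ?_ hk
    intro r hr' y hy ⟨j, hj⟩
    haveI : Fact r.Prime := ⟨hr'⟩
    rcases eq_or_ne r q with rfl | hne
    · have hyQ : y ∈ ((Q : Subgroup K).map K.subtype) := by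
        refine ⟨⟨y, hy⟩, ?_, rfl⟩
        exact mem_sylow_of_normal Q (y := ⟨y, hy⟩) ⟨j, Subtype.ext hj⟩
      haveI : ((Q : Subgroup K).map K.subtype).Normal :=
        CfsgLib.Coprime.map_subtype_normal_of_characteristic K Q
      exact hNS (le_normalizer ((CfsgLib.Coprime.le_pCore (Q.2.map K.subtype)).trans
        (CfsgLib.PGroup.pCore_le_sylow S) hyQ))
    · refine CfsgLib.Coprime.centralizer_le_normalizer_self T'
        (mem_centralizer_iff.2 fun t ht => ?_)
      obtain ⟨i, hi⟩ := (S.2.to_subgroup T).map (S : Subgroup G).subtype ⟨t, ht⟩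
      exact congrArg Subtype.val (CfsgLib.CFun.RankTwoTower.commute_of_coprime hne.symm
        (a := (⟨t, hTK ht⟩ : K)) (b := ⟨y, hy⟩) ⟨i, Subtype.ext (congrArg Subtype.val hi :)⟩ ⟨j, Subtype.ext hj⟩).eq
  exact normalizer_eq_top_iff.1 (eq_top_iff.2 (hfr.ge.trans (sup_le hKT hNS)))

/-- The primes above a bound give a characteristic Hall subgroup. -/
theorem tower_hall (p : ℕ) :
    Cfsg.IsPiHall {q | q.Prime ∧ p < q} (Cfsg.piCore {q | q.Prime ∧ p < q} G) := by
  set π : Set ℕ := {q | q.Prime ∧ p < q} with hπ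
  refine ⟨CfsgLib.Coprime.piCore_isPiNum π, fun q hq hqπ hd => ?_⟩
  haveI : Fact q.Prime := ⟨hq⟩
  obtain ⟨S⟩ := (inferInstance : Nonempty (Sylow q G))
  refine S.not_dvd_index (hd.trans (index_dvd_of_le ?_))
  intro x hx
  set P := Cfsg.piCore π G
  obtain ⟨n, hn⟩ := S.2 ⟨x, hx⟩
  have hn' : x ^ q ^ n = 1 := congrArg Subtype.val hn
  set f := QuotientGroup.mk' P
  have hF : (Cfsg.fittingSubgroup G).map f ≤ Cfsg.piCore πᶜ (G ⧸ P) ⊓
      centralizer ({f x} : Set (G ⧸ P)) := by
    rw [CfsgLib.Coprime.fitting_eq_iSup_pCore, Subgroup.map_iSup]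
    refine iSup_le fun r => ?_
    haveI : Fact (r : ℕ).Prime := ⟨r.2⟩
    haveI := CfsgLib.Coprime.pCore_normal' (G := G) r.1
    by_cases hrπ : (r : ℕ) ∈ π
    · rw [(Subgroup.map_eq_bot_iff _).2 ?_]
      · exact bot_le
      · rw [QuotientGroup.ker_mk']
        refine CfsgLib.Coprime.le_piCore fun t ht htd => ?_
        obtain ⟨k, hk⟩ := IsPGroup.iff_card.1 (CfsgLib.Coprime.pCore_isPGroup (G := G) r.1)
        rwa [(Nat.prime_dvd_prime_iff_eq ht r.2).1 (ht.dvd_of_dvd_pow (hk ▸ htd))]
    haveI : ((Cfsg.pCore (r : ℕ) G).map f).Normal :=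
      Subgroup.Normal.map inferInstance f (QuotientGroup.mk'_surjective P)
    refine le_inf (CfsgLib.Coprime.le_piCore fun t ht htd => ?_) ?_
    · obtain ⟨k, hk⟩ := IsPGroup.iff_card.1 (CfsgLib.Coprime.pCore_isPGroup (G := G) r.1)
      have := (Nat.prime_dvd_prime_iff_eq ht r.2).1
        (ht.dvd_of_dvd_pow (hk ▸ htd.trans (card_map_dvd _ _)))
      rw [this]; exact hrπ
    · rintro _ ⟨y, hy, rfl⟩
      refine mem_centralizer_iff.2 ?_
      rintro _ rfl
      have hlt : (r : ℕ) < q := lt_of_le_of_lt (not_lt.1 fun h => hrπ ⟨r.2, h⟩) hqπ.2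
      have h1 := centralizes_of_lt hq hlt hodd (CfsgLib.Coprime.pCore_isPGroup r.1) (hr r r.2)
        (show x ∈ normalizer (Cfsg.pCore (r : ℕ) G : Set G) by
          rw [normalizer_eq_top]; exact mem_top x) hn'
      rw [← map_mul, ← map_mul, mem_centralizer_iff.1 h1 y hy]
  have hcen : f x ∈ center (G ⧸ P) := by
    refine mem_center_iff.2 fun b => ?_
    obtain ⟨g, rfl⟩ := QuotientGroup.mk'_surjective P b
    have hc := hF (mem_map_of_mem f (commutator_le_fitting_of_rank_two hodd hr
      (commutator_mem_commutator (mem_top g) (mem_top x))))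
    rw [map_commutatorElement, mem_inf] at hc
    set c := ⁅f g, f x⁆ with hcdef
    have hcm : Commute c (f x) := (mem_centralizer_iff.1 hc.2 _ rfl).symm
    have he : f g * f x * (f g)⁻¹ = c * f x := by rw [hcdef]; group
    have hcq : c ^ q ^ n = 1 := by
      have h1 : (f g * f x * (f g)⁻¹) ^ q ^ n = 1 := by
        rw [conj_pow, ← map_pow, hn', map_one, mul_one, mul_inv_cancel]
      rwa [he, hcm.mul_pow, ← map_pow f x, hn', map_one, mul_one] at h1
    have hc1 : c = 1 := by
      rw [← orderOf_eq_one_iff]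
      refine Nat.eq_one_of_dvd_coprimes ?_ dvd_rfl dvd_rfl
      refine Nat.Coprime.of_dvd (orderOf_dvd_of_pow_eq_one hcq)
        (Subgroup.orderOf_dvd_natCard _ hc.1) ?_
      exact CfsgLib.Coprime.isPiNum_coprime
        (π := π) (fun t ht htd => by
          rw [(Nat.prime_dvd_prime_iff_eq ht hq).1 (ht.dvd_of_dvd_pow htd)]; exact hqπ)
        (CfsgLib.Coprime.piCore_isPiNum _)
    exact commutatorElement_eq_one_iff_mul_comm.1 hc1
  have hbot : zpowers (f x) ≤ Cfsg.piCore π (G ⧸ P) := by
    haveI : (zpowers (f x)).Normal := ⟨fun z hz g => by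
      rwa [mem_center_iff.1 ((zpowers_le.2 hcen) hz) g, mul_inv_cancel_right]⟩
    refine CfsgLib.Coprime.le_piCore fun t ht htd => ?_
    rw [Nat.card_zpowers] at htd
    have h1 : orderOf (f x) ∣ q ^ n := orderOf_dvd_of_pow_eq_one (by rw [← map_pow, hn', map_one])
    rw [(Nat.prime_dvd_prime_iff_eq ht hq).1 (ht.dvd_of_dvd_pow (htd.trans h1))]
    exact hqπ
  rw [CfsgLib.Coprime.piCore_quotient_eq_bot] at hbot
  exact (QuotientGroup.eq_one_iff x).1 (mem_bot.1 (hbot (mem_zpowers _)))

end CfsgLib.CFun.RankTwoTower
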