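import Cfsg.Agent.Lib.CFun.OddFrobeniusFixed
import Cfsg.Agent.Lib.Char.FrobeniusFormula
import Cfsg.Agent.Lib.Coprime.FpfAction
import Cfsg.Agent.Lib.Coprime.Hall
import Cfsg.Agent.Lib.Fusion.Transfer
import Cfsg.Agent.Lib.CFun.OddRankTwoTower

/-!
# A Frobenius group acting on a nilpotent group with prime action (BG 3.10)
-/

set_option autoImplicit false
set_option linter.style.haveILetI false
set_option linter.unusedSectionVars false

open Subgroup
open scoped commutatorElement
open CfsgLib.Coprime (conj_mem_of_le_normalizer)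

namespace CfsgLib.CFun.FrobFix

universe u

variable {Γ : Type u} [Group Γ] [Finite Γ]

/-- `[K, K]` centralizes a `l`-group with Frattini quotient of order at most `l ^ p`. -/
theorem derived_le_centralizer {l p : ℕ} [hl : Fact l.Prime] [hp : Fact p.Prime] {P K : Subgroup Γ}
    (hP : IsPGroup l P) (hidx : (frattini P).index ≤ l ^ p) {a : Γ} (hap : a ^ p = 1)
    (haP : a ∈ normalizer (P : Set Γ)) (haK : a ∈ normalizer (K : Set Γ))
    (hKP : K ≤ normalizer (P : Set Γ)) (hpK : ¬ p ∣ Nat.card K) (hlK : ¬ l ∣ Nat.card K)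
    (hfpf : ∀ y ∈ K, a * y = y * a → y = 1) : ⁅K, K⁆ ≤ centralizer (P : Set Γ) := by
  classical
  set N := normalizer (P : Set Γ) with hN
  haveI hFn : (frattini P).Normal := inferInstance
  let W : Type u := P ⧸ frattini P
  letI : CommGroup W :=
    { QuotientGroup.Quotient.group (frattini P) with
      mul_comm := fun s t => by
        obtain ⟨x, rfl⟩ := QuotientGroup.mk_surjective s
        obtain ⟨y, rfl⟩ := QuotientGroup.mk_surjective t
        refine (QuotientGroup.eq (s := frattini P)).2 ?_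
        rw [show (x * y)⁻¹ * (y * x) = ⁅y⁻¹, x⁻¹⁆ by group]
        exact CfsgLib.Coprime.commutator_le_frattini hP
          (commutator_mem_commutator (mem_top _) (mem_top _)) }
  haveI : Finite W := Quotient.finite _
  have hW : ∀ w : W, w ^ l = 1 := by
    intro w
    obtain ⟨x, rfl⟩ := QuotientGroup.mk_surjective w
    exact (QuotientGroup.eq_one_iff (x ^ l)).2 (CfsgLib.Coprime.pow_mem_frattini hP x)
  let c : N →* MulAut W :=
    MonoidHom.mk' (fun g => QuotientGroup.congr _ _ (normalizerMonoidHom P g)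
        (FpfComm.frattini_map_eq _))
      fun g h => MulEquiv.ext fun m => by
        obtain ⟨x, rfl⟩ := QuotientGroup.mk_surjective m
        show QuotientGroup.mk (normalizerMonoidHom P (g * h) x) =
          QuotientGroup.mk (normalizerMonoidHom P g (normalizerMonoidHom P h x))
        rw [map_mul]; rfl
  set α : N := ⟨a, haP⟩
  set K' := K.subgroupOf N
  have hKcard : Nat.card K' = Nat.card K := Nat.card_congr (subgroupOfEquivOfLe hKP).toEquiv
  have hαK : α ∈ normalizer (K' : Set N) :=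
    mem_normalizer_iff.2 fun z => mem_normalizer_iff.1 haK (z : Γ)
  have hαp : α ^ p = 1 := Subtype.ext hap
  have hcomm := commute_of_card_le hW (l := l) (p := p)
    (by rw [← Subgroup.index_eq_card]; exact hidx) (K := K'.map c)
    (fun h => hlK (hKcard ▸ h.trans (card_map_dvd _ _))) (a := c α)
    (by rw [← map_pow, hαp, map_one]) (le_normalizer_map c ⟨α, hαK, rfl⟩) ?_
  · have hcle : ⁅K, K⁆ ≤ K := commutator_le_self K
    refine CfsgLib.Coprime.le_centralizer_of_trivial_on_frattini_quotient (hcle.trans hKP) ?_ ?_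
    · obtain ⟨j, hj⟩ := IsPGroup.iff_card.1 (hP.to_subgroup (frattini P))
      rw [hj]
      refine Nat.Coprime.pow_right j ?_
      exact ((hl.out.coprime_iff_not_dvd.2 hlK).coprime_dvd_right (card_dvd_of_le hcle)).symm
    · intro b hb v hv
      have hker : ⁅K, K⁆ ≤ c.ker.map N.subtype := by
        rw [commutator_le]
        intro x hx y hy
        refine ⟨⁅(⟨x, hKP hx⟩ : N), ⟨y, hKP hy⟩⁆, ?_, ?_⟩
        · rw [SetLike.mem_coe, MonoidHom.mem_ker, map_commutatorElement,
            commutatorElement_eq_one_iff_commute]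
          exact hcomm _ ⟨⟨x, hKP hx⟩, hx, rfl⟩ _ ⟨⟨y, hKP hy⟩, hy, rfl⟩
        · rw [map_commutatorElement]; rfl
      obtain ⟨b', hb', rfl⟩ := hker hb
      have h1 : c b' (QuotientGroup.mk (⟨v, hv⟩ : P) : W) = QuotientGroup.mk (⟨v, hv⟩ : P) := by
        rw [MonoidHom.mem_ker.1 hb']; rfl
      change (QuotientGroup.mk (normalizerMonoidHom P b' ⟨v, hv⟩) : W) = _ at h1
      rw [QuotientGroup.eq] at h1
      have hvM : v ∈ normalizer (((frattini P).map P.subtype : Subgroup Γ) : Set Γ) :=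
        PGroup.normalizer_le_normalizer_frattini P (le_normalizer hv)
      have e : ((b' : Γ) * v * (b' : Γ)⁻¹)⁻¹ * v ∈ (frattini P).map P.subtype := ⟨_, h1, rfl⟩
      have e2 := inv_mem ((mem_normalizer_iff.1 hvM _).1 e)
      rwa [show (v * (((b' : Γ) * v * (b' : Γ)⁻¹)⁻¹ * v) * v⁻¹)⁻¹ =
        (b' : Γ) * v * (b' : Γ)⁻¹ * v⁻¹ by group] at e2
  · rintro _ ⟨k, hk, rfl⟩ hcm
    set L := K' ⊓ c.ker with hL
    have hker : normalizer (K' : Set N) ≤ normalizer (L : Set N) := by
      exact CfsgLib.Coprime.inf_le_normalizer (H := K') (K := c.ker) le_rfl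
        ((normalizer_eq_top (H := c.ker)).symm ▸ le_top)
    have hA : zpowers α ≤ normalizer (L : Set N) := zpowers_le.2 (hker hαK)
    have hkL : k ∈ normalizer (L : Set N) := hker (le_normalizer hk)
    have h2 : ∀ b ∈ zpowers α, b * k * b⁻¹ * k⁻¹ ∈ L := by
      rintro _ ⟨i, rfl⟩
      refine mem_inf.2 ⟨mul_mem ((mem_normalizer_iff.1 (zpow_mem hαK i) k).1 hk) (inv_mem hk), ?_⟩
      rw [← commutatorElement_def, MonoidHom.mem_ker, map_commutatorElement,
        commutatorElement_eq_one_iff_commute, map_zpow]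
      exact (show Commute (c α) (c k) from hcm).zpow_left i
    obtain ⟨n, hn, hnC⟩ := CfsgLib.Coprime.exists_fixed_in_coset hA (by
        rw [Nat.card_zpowers]
        exact ((hp.out.coprime_iff_not_dvd.2 (hKcard ▸ hpK)).coprime_dvd_right
          (card_dvd_of_le inf_le_left)).coprime_dvd_left (orderOf_dvd_of_pow_eq_one hαp))
      (Or.inl (CfsgLib.Coprime.isSolvable_of_isMulCommutative inferInstance)) hkL h2
    have hkn : k * n = 1 := Subtype.ext (hfpf _ (mul_mem hk (mem_inf.1 hn).1)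
      (congrArg Subtype.val (mem_centralizer_iff.1 hnC α (mem_zpowers α)) :))
    rw [eq_inv_of_mul_eq_one_left hkn, map_inv, MonoidHom.mem_ker.1 (mem_inf.1 hn).2, inv_one]

omit [Finite Γ] in
/-- A subgroup of a cyclic group containing all `l`-th powers has index at most `l`. -/
theorem relIndex_le_of_pow_mem {l : ℕ} (hl : 0 < l) {D C : Subgroup Γ} [IsCyclic C]
    (h : ∀ x ∈ C, x ^ l ∈ D) : D.relIndex C ≤ l := by
  letI : CommGroup C := IsCyclic.commGroup
  haveI : IsCyclic (C ⧸ D.subgroupOf C) :=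
    isCyclic_of_surjective (QuotientGroup.mk' _) (QuotientGroup.mk'_surjective _)
  obtain ⟨g, hg⟩ := IsCyclic.exists_generator (α := C ⧸ D.subgroupOf C)
  show (D.subgroupOf C).index ≤ l
  rw [Subgroup.index_eq_card, ← orderOf_eq_card_of_forall_mem_zpowers hg]
  obtain ⟨x, rfl⟩ := QuotientGroup.mk_surjective g
  refine orderOf_le_of_pow_eq_one hl ?_
  rw [← QuotientGroup.mk_pow, QuotientGroup.eq_one_iff]
  exact h x x.2

variable {K R M : Subgroup Γ}

/-- BG 3.10. -/
theorem frobenius_prime_action (hK1 : K ≠ ⊥) (hR1 : R ≠ ⊥) (hKR : K ⊓ R = ⊥)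
    (hRK : R ≤ normalizer (K : Set Γ))
    (hfrob : ∀ r ∈ R, r ≠ 1 → K ⊓ centralizer ({r} : Set Γ) = ⊥)
    (hM1 : M ≠ ⊥) (hMn : Group.IsNilpotent M) (hKM : K ≤ normalizer (M : Set Γ))
    (hRM : R ≤ normalizer (M : Set Γ)) (hcop : (Nat.card ↥(K ⊔ R)).Coprime (Nat.card M))
    (hCK : M ⊓ centralizer (K : Set Γ) = ⊥)
    (hpr : ∀ x ∈ R, x ≠ 1 → M ⊓ centralizer ({x} : Set Γ) = M ⊓ centralizer (R : Set Γ)) :
    (Nat.card R).Prime ∧ Nat.card M = Nat.card ↥(M ⊓ centralizer (R : Set Γ)) ^ Nat.card R ∧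
      (IsCyclic ↥(M ⊓ centralizer (R : Set Γ)) → ⁅K, K⁆ ≤ centralizer (M : Set Γ)) := by
  have hform : ∀ {E Y : Subgroup Γ}, E ≤ R → Y ≤ M → E ≤ normalizer (Y : Set Γ) →
      K ≤ normalizer (Y : Set Γ) →
      Nat.card Y = Nat.card ↥(Y ⊓ centralizer (E : Set Γ)) ^ Nat.card E := by
    intro E Y hE hY hEY hKY
    have h0 : Y ⊓ centralizer (K : Set Γ) = ⊥ := le_bot_iff.1 ((inf_le_inf_right _ hY).trans hCK.le)
    have h := CfsgLib.Char.frobenius_fixed_formula K E Y
      (le_bot_iff.1 ((inf_le_inf_left K hE).trans hKR.le))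
      (fun e he u hu => conj_mem_of_le_normalizer hRK (hE he) hu)
      (fun e he he1 u hu hc => by
        have : u ∈ K ⊓ centralizer ({e} : Set Γ) :=
          ⟨hu, mem_centralizer_singleton_iff.2 hc.symm⟩
        rwa [hfrob e (hE he) he1, mem_bot] at this)
      (fun x hx h hh => conj_mem_of_le_normalizer (sup_le hKY hEY) hx hh)
      (CfsgLib.Coprime.isSolvable_of_isNilpotent (CfsgLib.Coprime.isNilpotent_of_le hY hMn))
      ((hcop.coprime_dvd_left (card_dvd_of_le (sup_le_sup_left hE K))).coprime_dvd_right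
        (card_dvd_of_le hY)).symm
    rw [h0, card_bot, mul_one,
      show Y ⊓ centralizer ((K ⊔ E : Subgroup Γ) : Set Γ) = ⊥ from le_bot_iff.1
        ((inf_le_inf_left _ (centralizer_le (le_sup_left (b := E)))).trans h0.le),
      card_bot, one_pow, one_mul] at h
    exact h
  have hM := hform le_rfl le_rfl hRM hKM
  set C := M ⊓ centralizer (R : Set Γ) with hC
  obtain ⟨r, hr, hd⟩ := Nat.exists_prime_and_dvd (fun e : Nat.card R = 1 => hR1 (card_eq_one.1 e))
  haveI : Fact r.Prime := ⟨hr⟩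
  obtain ⟨x, hx⟩ := exists_prime_orderOf_dvd_card' r hd
  have hxo : orderOf (x : Γ) = r := by rw [Subgroup.orderOf_coe, hx]
  have hx1 : (x : Γ) ≠ 1 := fun e => hr.ne_one (by rw [← hxo, e, orderOf_one])
  have hxR : zpowers (x : Γ) ≤ R := zpowers_le.2 x.2
  have hMx := hform hxR le_rfl (hxR.trans hRM) hKM
  have hCx : M ⊓ centralizer (zpowers (x : Γ) : Set Γ) = C := by
    refine le_antisymm ?_ (inf_le_inf_left _ (centralizer_le hxR))
    rw [← hpr _ x.2 hx1]
    exact inf_le_inf_left _ (centralizer_le (Set.singleton_subset_iff.2 (mem_zpowers (x : Γ))))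
  rw [hCx, Nat.card_zpowers, hxo, hM] at hMx
  have hC1 : 1 < Nat.card C := by
    by_contra h
    have h1 : Nat.card C = 1 := le_antisymm (not_lt.1 h) Nat.card_pos
    exact hM1 (card_eq_one.1 (by rw [hM, h1, one_pow]))
  have hRr : Nat.card R = r := (Nat.pow_right_injective hC1) hMx
  refine ⟨hRr ▸ hr, hM, fun hcyc => le_centralizer_iff.1 fun y hy => ?_⟩
  -- reduce to the Sylow subgroups of `M`
  haveI := hMn
  refine CfsgLib.Fusion.le_of_forall_prime_pow (H := M) ?_ hy
  intro l hl z hz ⟨j, hj⟩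
  haveI : Fact l.Prime := ⟨hl⟩
  by_cases hlM : l ∣ Nat.card M
  swap
  · have h1 : z = 1 := orderOf_eq_one_iff.1 (Nat.eq_one_of_dvd_coprimes
      ((hl.coprime_iff_not_dvd.2 hlM).pow_left j) (orderOf_dvd_of_pow_eq_one hj)
      (Subgroup.orderOf_dvd_natCard _ hz))
    rw [h1]; exact one_mem _
  have hlKR : ¬ l ∣ Nat.card ↥(K ⊔ R) := fun h =>
    hl.not_dvd_one ((Nat.eq_one_of_dvd_coprimes hcop h hlM) ▸ dvd_rfl)
  obtain ⟨S⟩ := (inferInstance : Nonempty (Sylow l M))
  haveI hSn : (S : Subgroup M).Normal :=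
    Sylow.normal_of_normalizerCondition Group.normalizerCondition_of_isNilpotent S
  haveI := S.characteristic_of_normal hSn
  set P := (S : Subgroup M).map M.subtype with hP
  have hPM : P ≤ M := map_subtype_le _
  have hNP : normalizer (M : Set Γ) ≤ normalizer (P : Set Γ) :=
    CfsgLib.PGroup.normalizer_le_normalizer_map_char M (S : Subgroup M)
  have hPl : IsPGroup l P := S.2.map _
  have hzP : z ∈ P := ⟨⟨z, hz⟩, RankTwoTower.mem_sylow_of_normal S ⟨j, Subtype.ext hj⟩, rfl⟩
  set Φ := (frattini P).map P.subtype with hΦ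
  have hΦP : Φ ≤ P := map_subtype_le _
  have hNΦ := PGroup.normalizer_le_normalizer_frattini P
  have h1 := hform le_rfl hPM (hRM.trans hNP) (hKM.trans hNP)
  have h2 := hform le_rfl (hΦP.trans hPM) ((hRM.trans hNP).trans hNΦ) ((hKM.trans hNP).trans hNΦ)
  set cP := P ⊓ centralizer (R : Set Γ)
  set cΦ := Φ ⊓ centralizer (R : Set Γ)
  haveI : IsCyclic cP := by
    haveI := hcyc
    exact isCyclic_of_injective (inclusion (inf_le_inf_right _ hPM)) (inclusion_injective _)
  have hd : cΦ.relIndex cP ≤ l := relIndex_le_of_pow_mem hl.pos fun u hu =>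
    ⟨⟨⟨u, hu.1⟩ ^ l, CfsgLib.Coprime.pow_mem_frattini hPl ⟨u, hu.1⟩, rfl⟩, pow_mem hu.2 l⟩
  have hidx : (frattini P).index ≤ l ^ r := by
    have e1 : Nat.card P = Nat.card Φ * (frattini P).index := by
      rw [hΦ, card_map_of_injective P.subtype_injective]
      exact (Subgroup.card_mul_index _).symm
    have e2 : Nat.card cP = Nat.card cΦ * cΦ.relIndex cP :=
      (CfsgLib.Coprime.card_mul_relIndex (inf_le_inf_right _ hΦP)).symm
    rw [h1, hRr, e2, mul_pow, h2, hRr] at e1
    rw [← Nat.eq_of_mul_eq_mul_left (pow_pos Nat.card_pos r) e1]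
    exact Nat.pow_le_pow_left hd r
  have hfix : ∀ y ∈ K, (x : Γ) * y = y * x → y = 1 := fun y hy hc => by
    have : y ∈ K ⊓ centralizer ({(x : Γ)} : Set Γ) := ⟨hy, mem_centralizer_singleton_iff.2 hc.symm⟩
    rwa [hfrob _ x.2 hx1, mem_bot] at this
  have hrK : ¬ r ∣ Nat.card K := fun h => hr.not_dvd_one
    ((Nat.eq_one_of_dvd_coprimes (CfsgLib.Coprime.IsFpfOn.coprime (A := R) (V := K) hRK hfrob)
      (hRr.symm.dvd) h) ▸ dvd_rfl)
  have hfin := derived_le_centralizer hPl hidx (a := (x : Γ)) (hxo ▸ pow_orderOf_eq_one _)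
    ((hRM.trans hNP) x.2) (hRK x.2) (hKM.trans hNP) hrK
    (fun h => hlKR (h.trans (card_dvd_of_le le_sup_left))) hfix
  exact le_centralizer_iff.1 hfin hzP

end CfsgLib.CFun.FrobFix
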