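import Cfsg.Agent.Lib.CFun.OddKappaNormFpf
import Cfsg.Agent.Lib.CFun.OddFrobeniusAction
import Cfsg.Agent.Lib.CFun.OddZgroupLength
import Cfsg.Agent.Lib.PGroup.CoprimeHall

/-!
# Fixed-point-free and Frobenius actions on sections
-/

set_option autoImplicit false
set_option linter.style.haveILetI false
set_option linter.unusedSectionVars false

open Subgroup
open scoped commutatorElement
open CfsgLib.Coprime (exists_fixed_in_coset conj_mem_of_le_normalizer)

namespace CfsgLib.CFun.Sect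

universe u

variable {G : Type u} [Group G] [Finite G]

/-- Image of a subgroup in `N_G(V) / V`. -/
def img (V S : Subgroup G) :
    Subgroup (↥(normalizer (V : Set G)) ⧸ V.subgroupOf (normalizer (V : Set G))) :=
  (S.subgroupOf (normalizer (V : Set G))).map (QuotientGroup.mk' _)

variable {V S A : Subgroup G}

theorem mem_img {y : ↥(normalizer (V : Set G)) ⧸ V.subgroupOf (normalizer (V : Set G))} :
    y ∈ img V S ↔ ∃ x : normalizer (V : Set G), (x : G) ∈ S ∧
      QuotientGroup.mk' (V.subgroupOf (normalizer (V : Set G))) x = y := Iff.rfl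

theorem mk_eq_one {x : normalizer (V : Set G)} :
    QuotientGroup.mk' (V.subgroupOf (normalizer (V : Set G))) x = 1 ↔ (x : G) ∈ V :=
  (QuotientGroup.eq_one_iff x).trans mem_subgroupOf

theorem mk_commute {x y : normalizer (V : Set G)} :
    Commute (QuotientGroup.mk' (V.subgroupOf (normalizer (V : Set G))) x)
      (QuotientGroup.mk' (V.subgroupOf (normalizer (V : Set G))) y) ↔
      (x : G) * y * (x : G)⁻¹ * (y : G)⁻¹ ∈ V := by
  rw [commute_iff_eq, ← commutatorElement_eq_one_iff_mul_comm, ← map_commutatorElement, mk_eq_one]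
  rfl

theorem img_normalizer (hS : A ≤ normalizer (S : Set G)) {a : normalizer (V : Set G)}
    (ha : (a : G) ∈ A) :
    QuotientGroup.mk' (V.subgroupOf (normalizer (V : Set G))) a ∈
      normalizer (img V S : Set _) := by
  refine le_normalizer_map _ ⟨a, ?_, rfl⟩
  refine mem_normalizer_iff.2 fun w => ?_
  exact mem_normalizer_iff.1 (hS ha) (w : G)

theorem img_le_normalizer (hS : A ≤ normalizer (S : Set G)) :
    img V A ≤ normalizer (img V S : Set _) := by
  rintro _ ⟨a, ha, rfl⟩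
  exact img_normalizer hS ha

theorem card_img_of_inf (hS : S ≤ normalizer (V : Set G)) (h : S ⊓ V = ⊥) :
    Nat.card (img V S) = Nat.card S := by
  rw [img, CfsgLib.PGroup.card_map_mk'_of_inf_eq_bot _ ?_,
    Nat.card_congr (subgroupOfEquivOfLe hS).toEquiv]
  refine (eq_bot_iff_forall _).2 fun x hx => Subtype.ext ?_
  have : (x : G) ∈ S ⊓ V := mem_inf.2 ⟨hx.1, hx.2⟩
  rw [h, mem_bot] at this
  exact this

theorem card_img_mul (hVS : V ≤ S) (hS : S ≤ normalizer (V : Set G)) :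
    Nat.card V * Nat.card (img V S) = Nat.card S := by
  have h := card_eq_card_quotient_mul_card_subgroup
    ((V.subgroupOf (normalizer (V : Set G))).subgroupOf (S.subgroupOf (normalizer (V : Set G))))
  have e : ((QuotientGroup.mk' (V.subgroupOf (normalizer (V : Set G)))).subgroupMap
      (S.subgroupOf (normalizer (V : Set G)))).ker =
      (V.subgroupOf (normalizer (V : Set G))).subgroupOf (S.subgroupOf (normalizer (V : Set G))) := by
    ext x
    rw [MonoidHom.mem_ker, mem_subgroupOf]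
    exact (Subtype.ext_iff).trans ((mk_eq_one (x := (x : normalizer (V : Set G)))).trans
      mem_subgroupOf.symm)
  rw [← e, Nat.card_congr (QuotientGroup.quotientKerEquivOfSurjective _
    (MonoidHom.subgroupMap_surjective _ _)).toEquiv,
    Nat.card_congr (subgroupOfEquivOfLe hS).toEquiv] at h
  rw [h, mul_comm, img]
  congr 1
  rw [e, Nat.card_congr (subgroupOfEquivOfLe (fun x hx => mem_subgroupOf.2 (hVS hx) :
    V.subgroupOf (normalizer (V : Set G)) ≤ S.subgroupOf (normalizer (V : Set G)))).toEquiv,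
    Nat.card_congr (subgroupOfEquivOfLe (le_normalizer (H := V))).toEquiv]

/-- A coset of `V` fixed by a coprime operand group contains a fixed point. -/
theorem exists_fixed (hA : A ≤ normalizer (V : Set G))
    (hcop : (Nat.card A).Coprime (Nat.card V)) (hsol : Group.IsSolvable V)
    {x : normalizer (V : Set G)}
    (hc : ∀ a : normalizer (V : Set G), (a : G) ∈ A →
      Commute (QuotientGroup.mk' (V.subgroupOf (normalizer (V : Set G))) a)
        (QuotientGroup.mk' (V.subgroupOf (normalizer (V : Set G))) x)) :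
    ∃ n ∈ V, (x : G) * n ∈ centralizer (A : Set G) :=
  exists_fixed_in_coset hA hcop (Or.inr hsol) x.2 fun a ha =>
    mk_commute.1 (hc ⟨a, hA ha⟩ ha)

/-- A fixed-point-free action of prime order on a section: coprime elements commute modulo `V`. -/
theorem commute_mod {p : ℕ} [hp : Fact p.Prime] {H : Subgroup G} {a : G} (hap : a ^ p = 1)
    (haH : a ∈ normalizer (H : Set G)) (haV : a ∈ normalizer (V : Set G)) (hVH : V ≤ H)
    (hHV : H ≤ normalizer (V : Set G)) (hsol : Group.IsSolvable V)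
    (hcop : p.Coprime (Nat.card V)) (hfix : H ⊓ centralizer ({a} : Set G) ≤ V) {x y : G}
    (hx : x ∈ H) (hy : y ∈ H) (h : (orderOf x).Coprime (orderOf y)) :
    x * y * x⁻¹ * y⁻¹ ∈ V := by
  set f := QuotientGroup.mk' (V.subgroupOf (normalizer (V : Set G))) with hf
  have hfa : f ⟨a, haV⟩ ^ p = 1 := by
    rw [← map_pow, show (⟨a, haV⟩ : normalizer (V : Set G)) ^ p = 1 from Subtype.ext hap, map_one]
  have hfn : f ⟨a, haV⟩ ∈ normalizer (img V H : Set _) :=
    img_normalizer (A := zpowers a) (zpowers_le.2 haH) (mem_zpowers a)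
  have hfix' : img V H ⊓ centralizer ({f ⟨a, haV⟩} : Set _) = ⊥ := by
    refine (eq_bot_iff_forall _).2 fun y hy => ?_
    obtain ⟨hy1, hy2⟩ := mem_inf.1 hy
    obtain ⟨w, hw, rfl⟩ := mem_img.1 hy1
    have hcomm : ∀ b : normalizer (V : Set G), (b : G) ∈ zpowers a → Commute (f b) (f w) := by
      intro b hb
      obtain ⟨i, hi⟩ := mem_zpowers_iff.1 hb
      rw [show b = ⟨a, haV⟩ ^ i from Subtype.ext hi.symm, map_zpow]
      exact Commute.zpow_left (mem_centralizer_singleton_iff.1 hy2).symm i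
    obtain ⟨n, hn, hwn⟩ := exists_fixed (A := zpowers a) (zpowers_le.2 haV) (by
      rw [Nat.card_zpowers]
      exact hcop.coprime_dvd_left (orderOf_dvd_of_pow_eq_one hap)) hsol hcomm
    have h1 : (w : G) * n ∈ V := hfix (mem_inf.2 ⟨mul_mem hw (hVH hn),
      centralizer_le (Set.singleton_subset_iff.2 (mem_zpowers a)) hwn⟩)
    exact mk_eq_one.2 ((mul_mem_cancel_right hn).1 h1)
  exact mk_commute.1 (NormFpf.commute hfa hfn hfix' (x := f ⟨x, hHV hx⟩) (y := f ⟨y, hHV hy⟩)
    ⟨_, hx, rfl⟩ ⟨_, hy, rfl⟩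
    ((h.coprime_dvd_left ((orderOf_map_dvd f _).trans (orderOf_mk x (hHV hx)).dvd)).coprime_dvd_right
      ((orderOf_map_dvd f _).trans (orderOf_mk y (hHV hy)).dvd)))

/-- A Frobenius group `D R` acting on a section `Q / V` with prime behaviour. -/
theorem frobenius_section {Q D R : Subgroup G} (hD1 : D ≠ ⊥) (hR1 : R ≠ ⊥)
    (hDR : D ⊓ R = ⊥) (hRD : R ≤ normalizer (D : Set G))
    (hfrob : ∀ r ∈ R, r ≠ 1 → D ⊓ centralizer ({r} : Set G) = ⊥)
    (hVQ : V < Q) (hQn : Group.IsNilpotent Q) (hQV : Q ≤ normalizer (V : Set G))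
    (hDV : D ≤ normalizer (V : Set G)) (hRV : R ≤ normalizer (V : Set G))
    (hDQ : D ≤ normalizer (Q : Set G)) (hRQ : R ≤ normalizer (Q : Set G))
    (hcD : (Nat.card D).Coprime (Nat.card Q)) (hcR : (Nat.card R).Coprime (Nat.card Q))
    (hCD : Q ⊓ centralizer (D : Set G) ≤ V)
    (hpr : ∀ x ∈ R, x ≠ 1 → Q ⊓ centralizer ({x} : Set G) ≤ centralizer (R : Set G))
    (hfixV : V ⊓ centralizer (R : Set G) = ⊥) :
    (Nat.card R).Prime ∧
      Nat.card Q = Nat.card V * Nat.card ↥(Q ⊓ centralizer (R : Set G)) ^ Nat.card R ∧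
      (IsCyclic ↥(Q ⊓ centralizer (R : Set G)) →
        ∀ e ∈ ⁅D, D⁆, ∀ x ∈ Q, e * x * e⁻¹ * x⁻¹ ∈ V) := by
  set f := QuotientGroup.mk' (V.subgroupOf (normalizer (V : Set G))) with hf
  have hVs : Group.IsSolvable V :=
    CfsgLib.Coprime.isSolvable_of_isNilpotent (CfsgLib.Coprime.isNilpotent_of_le hVQ.le hQn)
  have hcDV := hcD.coprime_dvd_right (card_dvd_of_le hVQ.le)
  have hcRV := hcR.coprime_dvd_right (card_dvd_of_le hVQ.le)
  have hDV0 : D ⊓ V = ⊥ := CfsgLib.Coprime.disjoint_of_coprime_card hcDV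
  have hRV0 : R ⊓ V = ⊥ := CfsgLib.Coprime.disjoint_of_coprime_card hcRV
  have hcardD := card_img_of_inf hDV hDV0
  have hcardR := card_img_of_inf hRV hRV0
  have hcR' : (Nat.card D).Coprime (Nat.card R) :=
    (CfsgLib.Coprime.IsFpfOn.coprime (A := R) (V := D) hRD hfrob).symm
  have hD1' : img V D ≠ ⊥ := fun e => by
    rw [e, card_bot] at hcardD; exact hD1 (card_eq_one.1 hcardD.symm)
  have hR1' : img V R ≠ ⊥ := fun e => by
    rw [e, card_bot] at hcardR; exact hR1 (card_eq_one.1 hcardR.symm)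
  have hQ1 : img V Q ≠ ⊥ := fun e => hVQ.not_ge fun x hx => by
    have : f ⟨x, hQV hx⟩ ∈ img V Q := ⟨_, hx, rfl⟩
    rw [e, mem_bot] at this
    exact mk_eq_one.1 this
  have hDR' : img V D ⊓ img V R = ⊥ := CfsgLib.Coprime.disjoint_of_coprime_card (by
    rwa [hcardD, hcardR])
  have hRD' : img V R ≤ normalizer (img V D : Set _) := img_le_normalizer hRD
  have hfrob' : ∀ r ∈ img V R, r ≠ 1 → img V D ⊓ centralizer ({r} : Set _) = ⊥ := by
    rintro _ ⟨r, hr, rfl⟩ hr1
    refine (eq_bot_iff_forall _).2 fun y hy => ?_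
    obtain ⟨d, hd, rfl⟩ := mem_img.1 (mem_inf.1 hy).1
    have h1 := mk_commute.1 (show Commute (f r) (f d) from
      (mem_centralizer_singleton_iff.1 (mem_inf.1 hy).2).symm)
    have h2 : (r : G) * d * (r : G)⁻¹ * (d : G)⁻¹ ∈ D ⊓ V :=
      mem_inf.2 ⟨mul_mem (conj_mem_of_le_normalizer hRD hr hd) (inv_mem hd), h1⟩
    rw [hDV0, mem_bot, mul_inv_eq_one, mul_inv_eq_iff_eq_mul] at h2
    have h3 : (d : G) ∈ D ⊓ centralizer ({(r : G)} : Set G) :=
      mem_inf.2 ⟨hd, mem_centralizer_singleton_iff.2 h2.symm⟩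
    rw [hfrob r hr (fun e => hr1 (by rw [show r = 1 from Subtype.ext e, map_one])), mem_bot] at h3
    rw [show d = 1 from Subtype.ext h3, map_one]
  have hQn' : Group.IsNilpotent (img V Q) := by
    haveI := hQn
    haveI : Group.IsNilpotent ↥(Q.subgroupOf (normalizer (V : Set G))) :=
      Group.nilpotent_of_mulEquiv (subgroupOfEquivOfLe hQV).symm
    exact Group.nilpotent_of_surjective _
      (f.subgroupMap_surjective (Q.subgroupOf (normalizer (V : Set G))))
  have hcop : (Nat.card ↥(img V D ⊔ img V R)).Coprime (Nat.card (img V Q)) := by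
    rw [CfsgLib.CFun.ZLen.card_sup_eq hRD' hDR', hcardD, hcardR]
    have h := card_img_mul hVQ.le hQV
    exact (Nat.Coprime.mul_left hcD hcR).coprime_dvd_right ⟨_, by rw [mul_comm]; exact h.symm⟩
  have hCD' : img V Q ⊓ centralizer (img V D : Set _) = ⊥ := by
    refine (eq_bot_iff_forall _).2 fun y hy => ?_
    obtain ⟨x, hx, rfl⟩ := mem_img.1 (mem_inf.1 hy).1
    obtain ⟨n, hn, hxn⟩ := exists_fixed hDV hcDV hVs fun a ha =>
      mem_centralizer_iff.1 (mem_inf.1 hy).2 (f a) ⟨a, ha, rfl⟩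
    exact mk_eq_one.2 ((mul_mem_cancel_right hn).1
      (hCD (mem_inf.2 ⟨mul_mem hx (hVQ.le hn), hxn⟩)))
  have hfixQ : ∀ r ∈ R, r ≠ 1 → ∀ x : normalizer (V : Set G), (x : G) ∈ Q →
      (∀ a : normalizer (V : Set G), (a : G) ∈ zpowers r → Commute (f a) (f x)) →
      ∃ z ∈ Q ⊓ centralizer (R : Set G), ∃ hz : z ∈ normalizer (V : Set G), f ⟨z, hz⟩ = f x := by
    intro r hr hr1 x hx hcomm
    obtain ⟨n, hn, hxn⟩ := exists_fixed (A := zpowers r) ((zpowers_le.2 hr).trans hRV)
      (hcRV.coprime_dvd_left (card_dvd_of_le (zpowers_le.2 hr))) hVs hcomm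
    have hxQ : (x : G) * n ∈ Q := mul_mem hx (hVQ.le hn)
    have hxR := hpr r hr hr1 (mem_inf.2 ⟨hxQ,
      centralizer_le (Set.singleton_subset_iff.2 (mem_zpowers r)) hxn⟩)
    refine ⟨_, mem_inf.2 ⟨hxQ, hxR⟩, hQV hxQ, ?_⟩
    rw [show (⟨_, hQV hxQ⟩ : normalizer (V : Set G)) = x * ⟨n, le_normalizer hn⟩ from rfl, map_mul,
      show f ⟨n, le_normalizer hn⟩ = 1 from mk_eq_one.2 hn, mul_one]
  have himgC : img V Q ⊓ centralizer (img V R : Set _) = img V (Q ⊓ centralizer (R : Set G)) := by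
    refine le_antisymm (fun y hy => ?_) ?_
    · obtain ⟨x, hx, rfl⟩ := mem_img.1 (mem_inf.1 hy).1
      obtain ⟨r, hr, hr1⟩ := (bot_or_exists_ne_one R).resolve_left hR1
      obtain ⟨z, hz, hzN, e⟩ := hfixQ r hr hr1 x hx fun a ha =>
        mem_centralizer_iff.1 (mem_inf.1 hy).2 (f a) ⟨a, zpowers_le.2 hr ha, rfl⟩
      exact e ▸ ⟨⟨z, hzN⟩, hz, rfl⟩
    · rintro _ ⟨z, hz, rfl⟩
      refine mem_inf.2 ⟨⟨z, (mem_inf.1 hz).1, rfl⟩, mem_centralizer_iff.2 ?_⟩
      rintro _ ⟨a, ha, rfl⟩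
      rw [← map_mul, ← map_mul]
      exact congrArg f (Subtype.ext (mem_centralizer_iff.1 (mem_inf.1 hz).2 (a : G) ha))
  have hpr' : ∀ y ∈ img V R, y ≠ 1 →
      img V Q ⊓ centralizer ({y} : Set _) = img V Q ⊓ centralizer (img V R : Set _) := by
    rintro _ ⟨r, hr, rfl⟩ hr1
    refine le_antisymm (fun y hy => ?_)
      (inf_le_inf_left _ (centralizer_le (Set.singleton_subset_iff.2 ⟨r, hr, rfl⟩)))
    obtain ⟨x, hx, rfl⟩ := mem_img.1 (mem_inf.1 hy).1
    obtain ⟨z, hz, hzN, e⟩ := hfixQ r hr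
      (fun e => hr1 (by rw [show r = 1 from Subtype.ext e, map_one])) x hx fun a ha => by
        obtain ⟨i, hi⟩ := mem_zpowers_iff.1 ha
        rw [show a = r ^ i from Subtype.ext (by rw [← hi]; rfl), map_zpow]
        exact Commute.zpow_left (mem_centralizer_singleton_iff.1 (mem_inf.1 hy).2).symm i
    rw [himgC]
    exact e ▸ ⟨⟨z, hzN⟩, hz, rfl⟩
  obtain ⟨hp, hcard, hder⟩ := FrobFix.frobenius_prime_action hD1' hR1' hDR' hRD' hfrob' hQ1 hQn'
    (img_le_normalizer hDQ) (img_le_normalizer hRQ) hcop hCD' hpr'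
  have hCV : Q ⊓ centralizer (R : Set G) ⊓ V = ⊥ := le_bot_iff.1 (le_trans
    (le_inf inf_le_right (inf_le_left.trans inf_le_right)) hfixV.le)
  have hCN : Q ⊓ centralizer (R : Set G) ≤ normalizer (V : Set G) := inf_le_left.trans hQV
  rw [hcardR] at hp hcard
  rw [himgC, card_img_of_inf hCN hCV] at hcard
  refine ⟨hp, by rw [← card_img_mul hVQ.le hQV, hcard], fun hcyc e he x hx => ?_⟩
  have hcyc' : IsCyclic ↥(img V Q ⊓ centralizer (img V R : Set _)) := by
    rw [himgC]
    haveI := hcyc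
    haveI : IsCyclic ↥((Q ⊓ centralizer (R : Set G)).subgroupOf (normalizer (V : Set G))) :=
      isCyclic_of_surjective (subgroupOfEquivOfLe hCN).symm.toMonoidHom
        (subgroupOfEquivOfLe hCN).symm.surjective
    exact isCyclic_of_surjective _ (f.subgroupMap_surjective _)
  have heD : e ∈ D := commutator_le_self D he
  have hcom : f ⟨e, hDV heD⟩ ∈ (⁅img V D, img V D⁆ : Subgroup _) := by
    rw [img, ← map_commutator]
    refine ⟨_, ?_, rfl⟩
    have h1 : (⁅D.subgroupOf (normalizer (V : Set G)), D.subgroupOf (normalizer (V : Set G))⁆).map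
        (normalizer (V : Set G)).subtype = ⁅D, D⁆ := by
      rw [map_commutator, map_subgroupOf_eq_of_le hDV]
    rw [← h1] at he
    obtain ⟨w, hw, e'⟩ := he
    exact (show w = ⟨e, hDV heD⟩ from Subtype.ext e') ▸ hw
  exact mk_commute.1 ((mem_centralizer_iff.1 (hder hcyc' hcom) (f ⟨x, hQV hx⟩) ⟨_, hx, rfl⟩).symm)

end CfsgLib.CFun.Sect
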