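import Cfsg.Agent.Lib.CFun.OddSigmaTilde

/-!
# Counting conjugates around a common intersection

A family of at least two nonconjugate maximal subgroups `N = N_σ D` over a common subgroup `D`
is impossible when all centralizers of elements of `D ∩ N_σ` lie in `N`.
-/

set_option autoImplicit false
set_option linter.style.haveILetI false
set_option linter.unusedSectionVars false

open Subgroup
open scoped commutatorElement
open CfsgLib.Coprime (conjBy conjBy_conjBy conjBy_one mem_conjBy conj_mem_conjBy IsSylowIn IsHallIn)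

namespace CfsgLib.CFun.Star

open CfsgLib.CFun.TauTwo CfsgLib.CFun.Disjoint CfsgLib.CFun.ElemCent CfsgLib.CFun.Cosets
open CfsgLib.CFun.Tilde

universe u

variable {G : Type u} [Group G] [Finite G]

/-- Conjugates of a `D`-invariant set with transporters in `D`. -/
theorem ncard_orbit (D : Subgroup G) (S : Set G) (hinv : ∀ d ∈ D, ∀ z ∈ S, d * z * d⁻¹ ∈ S)
    (htrans : ∀ g : G, ∀ z ∈ S, g * z * g⁻¹ ∈ S → g ∈ D) :
    Set.ncard {a : G | ∃ g : G, ∃ z ∈ S, a = g * z * g⁻¹} * Nat.card D =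
      Nat.card G * S.ncard := by
  classical
  set T := {a : G | ∃ g : G, ∃ z ∈ S, a = g * z * g⁻¹} with hT
  choose g z hz he using fun t : T => t.2
  rw [← Nat.card_coe_set_eq, ← Nat.card_coe_set_eq, ← Nat.card_prod, ← Nat.card_prod]
  refine Nat.card_eq_of_bijective (fun p : T × D =>
    ((g p.1 * (p.2 : G)), (⟨(p.2 : G)⁻¹ * z p.1 * p.2, ?_⟩ : S))) ⟨?_, ?_⟩
  · simpa using hinv _ (inv_mem p.2.2) _ (hz p.1)
  · rintro ⟨t, d⟩ ⟨t', d'⟩ e
    have e1 : g t * (d : G) = g t' * d' := congrArg Prod.fst e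
    have e2 : (d : G)⁻¹ * z t * d = (d' : G)⁻¹ * z t' * d' :=
      congrArg (fun q : G × S => (q.2 : G)) e
    have ht : t = t' := Subtype.ext (by
      calc (t : G) = g t * z t * (g t)⁻¹ := he t
        _ = (g t * d) * ((d : G)⁻¹ * z t * d) * (g t * d)⁻¹ := by group
        _ = (g t' * d') * ((d' : G)⁻¹ * z t' * d') * (g t' * d')⁻¹ := by rw [e1, e2]
        _ = g t' * z t' * (g t')⁻¹ := by group
        _ = t' := (he t').symm)
    subst ht
    exact Prod.ext rfl (Subtype.ext (mul_left_cancel e1))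
  · rintro ⟨h, w, hw⟩
    set t : T := ⟨h * w * h⁻¹, h, w, hw, rfl⟩ with htdef
    have e : (h : G)⁻¹ * g t * z t * ((h : G)⁻¹ * g t)⁻¹ = w := by
      calc _ = h⁻¹ * (g t * z t * (g t)⁻¹) * h := by group
        _ = h⁻¹ * (h * w * h⁻¹) * h := by rw [← he t]
        _ = w := by group
    have hd : (h : G)⁻¹ * g t ∈ D := htrans _ _ (hz t) (by rw [e]; exact hw)
    refine ⟨(t, ⟨(g t)⁻¹ * h, by simpa using inv_mem hd⟩), Prod.ext (mul_inv_cancel_left _ _)
      (Subtype.ext ?_)⟩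
    show ((g t)⁻¹ * h)⁻¹ * z t * ((g t)⁻¹ * h) = w
    rw [← e]
    group

/-- Parts of an element at a set of primes. -/
theorem exists_part (π : Set ℕ) (z : G) : ∃ a b : G, a ∈ zpowers z ∧ b ∈ zpowers z ∧ z = a * b ∧
    (∀ p : ℕ, p.Prime → p ∣ orderOf a → p ∈ π) ∧ ∀ p : ℕ, p.Prime → p ∣ orderOf b → p ∉ π := by
  obtain ⟨m, n, hmn, hm, hn⟩ := CfsgLib.Coprime.exists_pi_split π (orderOf_pos z).ne'
  have hcop : (n : ℤ).gcd m = 1 := by
    rw [Int.gcd_natCast_natCast]
    exact (CfsgLib.Coprime.isPiNum_coprime hm hn).symm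
  have hbz : (1 : ℤ) = n * Int.gcdA n m + m * Int.gcdB n m := by
    rw [← Int.gcd_eq_gcd_ab, hcop]; rfl
  refine ⟨z ^ ((n : ℤ) * Int.gcdA n m), z ^ ((m : ℤ) * Int.gcdB n m),
    zpow_mem (mem_zpowers z) _, zpow_mem (mem_zpowers z) _, by rw [← zpow_add, ← hbz, zpow_one],
    fun p hp hd => hm p hp (hd.trans (orderOf_dvd_of_pow_eq_one ?_)),
    fun p hp hd => hn p hp (hd.trans (orderOf_dvd_of_pow_eq_one ?_))⟩
  · rw [← zpow_natCast, ← zpow_mul,
      show (n : ℤ) * Int.gcdA n m * m = (orderOf z : ℤ) * Int.gcdA n m by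
        rw [hmn]; push_cast; ring, zpow_mul, zpow_natCast, pow_orderOf_eq_one, one_zpow]
  · rw [← zpow_natCast, ← zpow_mul,
      show (m : ℤ) * Int.gcdB n m * n = (orderOf z : ℤ) * Int.gcdB n m by
        rw [hmn]; push_cast; ring, zpow_mul, zpow_natCast, pow_orderOf_eq_one, one_zpow]

/-- The product formula for `N = D N_σ`. -/
theorem card_split {N K D : Subgroup G} (hDN : D ≤ N) (hKN : K ≤ N)
    (hN : N ≤ normalizer (K : Set G)) (h : ∀ n ∈ N, ∃ d ∈ D, ∃ k ∈ K, n = d * k) :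
    Nat.card N * Nat.card ↥(D ⊓ K) = Nat.card D * Nat.card K := by
  have hsup : D ⊔ K = N := le_antisymm (sup_le hDN hKN) fun n hn => by
    obtain ⟨d, hd, k, hk, rfl⟩ := h n hn
    exact mul_mem (mem_sup_left hd) (mem_sup_right hk)
  have h1 := CfsgLib.EABasic.card_sup_mul_card_inf_of_le_normalizer (H := D) (N := K)
    (hDN.trans hN)
  rw [hsup] at h1
  exact h1

variable (hG : Cfsg.IsMinSimpleOddOrder G)
include hG

/-- No family of nonconjugate maximal subgroups around `D`. -/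
theorem star_false (D : Subgroup G) (F : Finset (Subgroup G)) (h2 : 1 < F.card)
    (hcoatom : ∀ N ∈ F, IsCoatom N) (hDN : ∀ N ∈ F, D ≤ N)
    (hsplit : ∀ N ∈ F, ∀ n ∈ N, ∃ d ∈ D, ∃ k ∈ Cfsg.sigmaCore N, n = d * k)
    (hcent : ∀ N ∈ F, ∀ z ∈ D ⊓ Cfsg.sigmaCore N, z ≠ 1 → centralizer ({z} : Set G) ≤ N)
    (hcov : ∀ w : ℕ, w.Prime → w ∣ Nat.card D → ∃ N ∈ F, w ∈ Cfsg.sigma N)
    (hnc : ∀ N ∈ F, ∀ N' ∈ F, N ≠ N' → NotConj N N') : False := by
  classical
  haveI := Fintype.ofFinite G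
  have hσ : ∀ N ∈ F, ∀ z ∈ D, (∀ p : ℕ, p.Prime → p ∣ orderOf z → p ∈ Cfsg.sigma N) →
      z ∈ Cfsg.sigmaCore N := by
    intro N hN z hz hp
    refine le_sigmaCore_of_isPiNum hG (hcoatom N hN) (zpowers_le.2 (hDN N hN hz))
      (fun p hp' hd => hp p hp' ?_) (mem_zpowers z)
    rwa [Nat.card_zpowers] at hd
  -- elements lying in no `D ∩ N_σ`
  set S : Set G := {z | z ∈ D ∧ ∀ N ∈ F, z ∉ Cfsg.sigmaCore N} with hS
  have hne1 : ∀ z ∈ S, z ≠ 1 := fun z hz e => by
    obtain ⟨N, hN⟩ := Finset.card_pos.1 (show 0 < F.card by omega)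
    exact hz.2 N hN (e ▸ one_mem _)
  have hpart : ∀ N ∈ F, ∀ z ∈ D, ∀ a ∈ zpowers z,
      (∀ p : ℕ, p.Prime → p ∣ orderOf a → p ∈ Cfsg.sigma N) → a ∈ D ⊓ Cfsg.sigmaCore N :=
    fun N hN z hz a ha hp =>
      mem_inf.2 ⟨zpowers_le.2 hz ha, hσ N hN a (zpowers_le.2 hz ha) hp⟩
  -- two groups in the family meet a mixed element
  have htwo : ∀ z ∈ S, ∃ N₁ ∈ F, ∃ N₂ ∈ F, N₁ ≠ N₂ ∧
      ∀ N : Subgroup G, N = N₁ ∨ N = N₂ → ∃ a ∈ zpowers z, a ≠ 1 ∧ a ∈ D ⊓ Cfsg.sigmaCore N := by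
    intro z hz
    have hget : ∀ w : ℕ, w.Prime → w ∣ orderOf z → ∃ N ∈ F, w ∈ Cfsg.sigma N ∧
        ∃ a ∈ zpowers z, a ≠ 1 ∧ a ∈ D ⊓ Cfsg.sigmaCore N := by
      intro w hw hwd
      obtain ⟨N, hN, hwN⟩ := hcov w hw (hwd.trans (orderOf_dvd_natCard _ hz.1))
      haveI : Fact w.Prime := ⟨hw⟩
      obtain ⟨y, hy⟩ := exists_prime_orderOf_dvd_card' (G := zpowers z) w
        (by rwa [Nat.card_zpowers])
      refine ⟨N, hN, hwN, y, y.2, fun e => hw.ne_one
        (hy.symm.trans (orderOf_eq_one_iff.2 (Subtype.ext e))), hpart N hN z hz.1 y y.2 ?_⟩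
      intro p hp hpd
      rw [orderOf_coe, hy] at hpd
      rw [(Nat.prime_dvd_prime_iff_eq hp hw).1 hpd]; exact hwN
    obtain ⟨w, hw, hwd⟩ := Nat.exists_prime_and_dvd fun e => hne1 z hz (orderOf_eq_one_iff.1 e)
    obtain ⟨N₁, hN₁, -, hd₁⟩ := hget w hw hwd
    obtain ⟨w', hw', hw'd, hw'N⟩ : ∃ w' : ℕ, w'.Prime ∧ w' ∣ orderOf z ∧ w' ∉ Cfsg.sigma N₁ := by
      by_contra h
      simp only [not_exists, not_and, not_not] at h
      exact hz.2 N₁ hN₁ (hσ N₁ hN₁ z hz.1 h)
    obtain ⟨N₂, hN₂, hw'2, hd₂⟩ := hget w' hw' hw'd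
    exact ⟨N₁, hN₁, N₂, hN₂, fun e => hw'N (e ▸ hw'2),
      fun N h => h.elim (fun e => e ▸ hd₁) (fun e => e ▸ hd₂)⟩
  -- pairwise intersections are `D`
  have hinter : ∀ N ∈ F, ∀ N' ∈ F, N ≠ N' → N ⊓ N' ≤ D := by
    intro N hN N' hN' hne
    refine (eq_of_le_of_card_ge (le_inf (hDN N hN) (hDN N' hN')) (Nat.le_of_dvd Nat.card_pos ?_)).ge
    refine (Nat.dvd_iff_prime_pow_dvd_dvd _ _).2 fun t k ht hk => ?_
    haveI : Fact t.Prime := ⟨ht⟩
    have key : ∀ N₀ ∈ F, t ∉ Cfsg.sigma N₀ → t ^ k ∣ Nat.card N₀ → t ^ k ∣ Nat.card D := by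
      intro N₀ hN₀ htσ hd
      have h1 := card_split (hDN N₀ hN₀) (map_subtype_le _) (sigmaCore_normal hG N₀) (hsplit N₀ hN₀)
      have h2 : (t ^ k).Coprime (Nat.card (Cfsg.sigmaCore N₀)) :=
        (ht.coprime_iff_not_dvd.2 (not_dvd_sigmaCore hG (hcoatom N₀ hN₀) htσ)).pow_left k
      exact h2.dvd_of_dvd_mul_right ((hd.mul_right _).trans h1.dvd)
    by_cases htN : t ∈ Cfsg.sigma N
    · exact key N' hN' (not_sigma hG (hcoatom N hN) (hcoatom N' hN') (hnc N hN N' hN' hne) htN)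
        (hk.trans (card_dvd_of_le inf_le_right))
    · exact key N hN htN (hk.trans (card_dvd_of_le inf_le_left))
  have hinv : ∀ d ∈ D, ∀ z ∈ S, d * z * d⁻¹ ∈ S := fun d hd z hz =>
    ⟨mul_mem (mul_mem hd hz.1) (inv_mem hd), fun N hN h =>
      hz.2 N hN ((mem_normalizer_iff.1 (sigmaCore_normal hG N (hDN N hN hd)) z).2 h)⟩
  have htrans : ∀ g : G, ∀ z ∈ S, g * z * g⁻¹ ∈ S → g ∈ D := by
    intro g z hz hgz
    obtain ⟨N₁, hN₁, N₂, hN₂, hne, hd⟩ := htwo z hz
    suffices h : ∀ N ∈ F, N = N₁ ∨ N = N₂ → g ∈ N from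
      hinter N₁ hN₁ N₂ hN₂ hne (mem_inf.2 ⟨h N₁ hN₁ (Or.inl rfl), h N₂ hN₂ (Or.inr rfl)⟩)
    intro N hN hN12
    obtain ⟨a, ha, ha1, haN⟩ := hd N hN12
    have hgD : g * a * g⁻¹ ∈ D := by
      obtain ⟨i, rfl⟩ := mem_zpowers_iff.1 ha
      rw [← conj_zpow]
      exact zpow_mem hgz.1 i
    obtain ⟨m, hm, c, hc, rfl⟩ := fusion hG (hcoatom N hN) haN.2 ha1 (g := g) (hDN N hN hgD)
    exact mul_mem hm (hcent N hN a haN ha1 hc)
  set T := {a : G | ∃ g : G, ∃ z ∈ S, a = g * z * g⁻¹} with hT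
  have horb := ncard_orbit D S hinv htrans
  rw [← hT] at horb
  -- the orbit avoids the conjugates of the cosets
  set W : Subgroup G → Set G := fun N =>
    Cfsg.tildeOf N ((Cfsg.sigmaCore N : Set G) \ {1}) with hW
  have havoid : ∀ N ∈ F, Disjoint T (W N) := by
    intro N hN
    refine Set.disjoint_left.2 ?_
    rintro _ ⟨g, z, hz, rfl⟩ ⟨a, ⟨ha, ha1⟩, r, hr, y, e⟩
    have ha1' : a ≠ 1 := by simpa using ha1
    obtain ⟨har, hrσ⟩ := support_order hG (hcoatom N hN) ha ha1' hr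
    set u := g⁻¹ * y with hu
    have e1 : z = u * a * u⁻¹ * (u * r * u⁻¹) := by
      calc z = g⁻¹ * (g * z * g⁻¹) * g := by group
        _ = g⁻¹ * (y * (a * r) * y⁻¹) * g := by rw [e]
        _ = _ := by rw [hu]; group
    obtain ⟨z₁, z₂, hz₁, hz₂, hz12, hz₁p, hz₂p⟩ := exists_part (Cfsg.sigma N) z
    have hord : ∀ x : G, orderOf (u * x * u⁻¹) = orderOf x := fun x =>
      orderOf_injective (MulAut.conj u).toMonoidHom (MulEquiv.injective _) x
    have hcu : Commute (u * a * u⁻¹) (u * r * u⁻¹) := by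
      show _ = _
      rw [show u * a * u⁻¹ * (u * r * u⁻¹) = u * (a * r) * u⁻¹ by group, har.eq]
      group
    have hpu : u * a * u⁻¹ = z₁ := part_unique (π := Cfsg.sigma N) hcu
      (by
        obtain ⟨i, rfl⟩ := mem_zpowers_iff.1 hz₁
        obtain ⟨j, rfl⟩ := mem_zpowers_iff.1 hz₂
        exact (Commute.refl z).zpow_zpow i j)
      (fun p hp h => sigma_of_mem hG (hcoatom N hN) ha hp (by rwa [hord] at h))
      (fun p hp h => hrσ p hp (by rwa [hord] at h)) hz₁p hz₂p (by rw [← e1, ← hz12])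
    have hz₁D := hpart N hN z hz.1 z₁ hz₁ hz₁p
    have hz₁1 : z₁ ≠ 1 := fun e2 => ha1' (by simpa [e2] using hpu)
    obtain ⟨m, hm, c, hc, huc⟩ := fusion hG (hcoatom N hN) ha ha1' (g := u)
      (hpu.symm ▸ hDN N hN hz₁D.1)
    have hcN : centralizer ({a} : Set G) ≤ N := by
      intro x hx
      have h1 : u * x * u⁻¹ ∈ N := hcent N hN z₁ hz₁D hz₁1 (by
        rw [← hpu, ← conjBy_centralizer]
        exact conj_mem_conjBy hx)
      have h2 : c * x * c⁻¹ ∈ N := by
        have h3 := mul_mem (mul_mem (inv_mem hm) h1) hm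
        rwa [huc, show m⁻¹ * (m * c * x * (m * c)⁻¹) * m = c * x * c⁻¹ by group] at h3
      have hcN' : c ∈ N := by
        have h4 : c ∈ centralizer ({a} : Set G) := hc
        have h5 : u * c * u⁻¹ ∈ N := hcent N hN z₁ hz₁D hz₁1 (by
          rw [← hpu, ← conjBy_centralizer]
          exact conj_mem_conjBy h4)
        rw [huc, show m * c * c * (m * c)⁻¹ = m * c * m⁻¹ by group] at h5
        simpa [mul_assoc] using mul_mem (mul_mem (inv_mem hm) h5) hm
      simpa [mul_assoc] using mul_mem (mul_mem (inv_mem hcN') h2) hcN'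
    have hr1 : r = 1 := by
      rw [Cfsg.supportR, dif_neg (fun h => h.1 hcN)] at hr
      exact mem_bot.1 hr
    rw [hr1, mul_one, mul_inv_cancel, mul_one, hpu] at e1
    exact hz.2 N hN (e1 ▸ hz₁D.2)
  -- counting
  have hWcard : ∀ N ∈ F, (W N).ncard = (Nat.card (Cfsg.sigmaCore N) - 1) * N.index :=
    fun N hN => ncard_tilde hG (hcoatom N hN)
  have hW1 : ∀ N ∈ F, (1 : G) ∉ W N := by
    rintro N hN ⟨a, ⟨ha, ha1⟩, r, hr, y, e⟩
    obtain ⟨har, hrσ⟩ := support_order hG (hcoatom N hN) ha (by simpa using ha1) hr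
    have e' : a * r = 1 := (conj_eq_one_iff).1 e.symm
    refine ha1 (Set.mem_singleton_iff.2 (part_unique (π := Cfsg.sigma N) har (Commute.refl 1)
      (fun p hp h => sigma_of_mem hG (hcoatom N hN) ha hp h) hrσ
      (fun p hp h => absurd (orderOf_one (G := G) ▸ h) hp.not_dvd_one)
      (fun p hp h => absurd (orderOf_one (G := G) ▸ h) hp.not_dvd_one) (by rw [e', mul_one])))
  have hT1 : (1 : G) ∉ T := by
    rintro ⟨g, z, hz, e⟩
    exact hne1 z hz (conj_eq_one_iff.1 e.symm)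
  have hbound : T.ncard + ∑ N ∈ F, (Nat.card (Cfsg.sigmaCore N) - 1) * N.index < Nat.card G := by
    have h1 : (F.biUnion fun N => (W N).toFinset).card = ∑ N ∈ F, (W N).ncard := by
      rw [Finset.card_biUnion]
      · exact Finset.sum_congr rfl fun N _ => (Set.ncard_eq_toFinset_card' _).symm
      · intro N hN N' hN' hne
        simp only [Function.onFun]
        rw [Set.disjoint_toFinset, Set.disjoint_iff_inter_eq_empty]
        exact tilde_disjoint hG (hcoatom N hN) (hcoatom N' hN') (hnc N hN N' hN' hne)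
    have h2 : Disjoint T.toFinset (F.biUnion fun N => (W N).toFinset) := by
      rw [Finset.disjoint_biUnion_right]
      exact fun N hN => Set.disjoint_toFinset.2 (havoid N hN)
    have h3 : (1 : G) ∉ T.toFinset ∪ F.biUnion fun N => (W N).toFinset := by
      simp only [Finset.mem_union, Finset.mem_biUnion, Set.mem_toFinset, not_or, not_exists,
        not_and]
      exact ⟨hT1, hW1⟩
    have h4 := Finset.card_lt_univ_of_notMem h3
    rw [Finset.card_union_of_disjoint h2, h1, ← Set.ncard_eq_toFinset_card',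
      ← Nat.card_eq_fintype_card, Finset.sum_congr rfl hWcard] at h4
    exact h4
  -- the parts of `D`
  set P : Subgroup G → Finset G := fun N =>
    (((D ⊓ Cfsg.sigmaCore N : Subgroup G) : Set G) \ {1}).toFinset with hP
  have hPcard : ∀ N, (P N).card = Nat.card ↥(D ⊓ Cfsg.sigmaCore N) - 1 := fun N => by
    rw [hP, ← Set.ncard_eq_toFinset_card',
      Set.ncard_diff_singleton_of_mem (SetLike.mem_coe.2 (one_mem _)), ← Nat.card_coe_set_eq]
    rfl
  have hDcard : S.ncard + ∑ N ∈ F, (Nat.card ↥(D ⊓ Cfsg.sigmaCore N) - 1) + 1 = Nat.card D := by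
    have hdis : (F : Set (Subgroup G)).PairwiseDisjoint P := by
      intro N hN N' hN' hne
      simp only [Function.onFun, hP, Finset.disjoint_left, Set.mem_toFinset]
      rintro x ⟨hx, hx1⟩ ⟨hx', -⟩
      obtain ⟨p, hp, hpd⟩ := Nat.exists_prime_and_dvd fun e =>
        hx1 (Set.mem_singleton_iff.2 (orderOf_eq_one_iff.1 e))
      haveI : Fact p.Prime := ⟨hp⟩
      exact not_sigma hG (hcoatom N hN) (hcoatom N' hN') (hnc N hN N' hN' hne)
        (sigma_of_mem hG (hcoatom N hN) (mem_inf.1 hx).2 hp hpd)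
        (sigma_of_mem hG (hcoatom N' hN') (mem_inf.1 hx').2 hp hpd)
    have hdis2 : Disjoint S.toFinset (F.biUnion P) := by
      rw [Finset.disjoint_biUnion_right]
      intro N hN
      simp only [Finset.disjoint_left, hP, Set.mem_toFinset]
      exact fun x hx h => hx.2 N hN (mem_inf.1 h.1).2
    have h1 : (1 : G) ∉ S.toFinset ∪ F.biUnion P := by
      simp only [Finset.mem_union, Finset.mem_biUnion, hP, Set.mem_toFinset, not_or, not_exists,
        not_and]
      exact ⟨fun h => hne1 1 h rfl, fun N _ h => h.2 rfl⟩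
    have h2 : insert 1 (S.toFinset ∪ F.biUnion P) = (D : Set G).toFinset := by
      ext x
      simp only [Finset.mem_insert, Finset.mem_union, Finset.mem_biUnion, hP, Set.mem_toFinset,
        SetLike.mem_coe]
      constructor
      · rintro (rfl | h | ⟨N, -, h⟩)
        exacts [one_mem D, h.1, (mem_inf.1 h.1).1]
      · intro hx
        by_cases hx1 : x = 1
        · exact Or.inl hx1
        by_cases hxS : ∀ N ∈ F, x ∉ Cfsg.sigmaCore N
        · exact Or.inr (Or.inl ⟨hx, hxS⟩)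
        · simp only [not_forall, not_not] at hxS
          obtain ⟨N, hN, hxN⟩ := hxS
          exact Or.inr (Or.inr ⟨N, hN, mem_inf.2 ⟨hx, hxN⟩, hx1⟩)
    have h3 := congrArg Finset.card h2
    rw [Finset.card_insert_of_notMem h1, Finset.card_union_of_disjoint hdis2,
      Finset.card_biUnion hdis, ← Set.ncard_eq_toFinset_card', ← Set.ncard_eq_toFinset_card',
      ← Nat.card_coe_set_eq, Finset.sum_congr rfl fun N _ => hPcard N] at h3
    exact h3
  -- each term
  set d := Nat.card D with hd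
  set g := Nat.card G with hg
  have hg0 : 0 < g := Nat.card_pos
  have hd0 : 0 < d := Nat.card_pos
  have hidx : D.index * d = g := D.index_mul_card
  have hterm : ∀ N ∈ F, (Nat.card (Cfsg.sigmaCore N) - 1) * N.index + N.index =
      D.index * (Nat.card ↥(D ⊓ Cfsg.sigmaCore N) - 1) + D.index ∧ 3 * N.index ≤ D.index := by
    intro N hN
    have h1 := card_split (K := Cfsg.sigmaCore N) (hDN N hN) (map_subtype_le _)
      (sigmaCore_normal hG N) (hsplit N hN)
    have hNg : N.index * Nat.card N = g := N.index_mul_card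
    have hk : 0 < Nat.card (Cfsg.sigmaCore N) := Nat.card_pos
    have hi : 0 < Nat.card ↥(D ⊓ Cfsg.sigmaCore N) := Nat.card_pos
    refine ⟨?_, ?_⟩
    · rw [← Nat.succ_mul, ← Nat.mul_succ, Nat.succ_eq_add_one, Nat.succ_eq_add_one,
        Nat.sub_add_cancel hk, Nat.sub_add_cancel hi]
      refine Nat.eq_of_mul_eq_mul_left hd0 ?_
      calc d * (Nat.card (Cfsg.sigmaCore N) * N.index)
          = N.index * (d * Nat.card (Cfsg.sigmaCore N)) := by ring
        _ = (N.index * Nat.card N) * Nat.card ↥(D ⊓ Cfsg.sigmaCore N) := by rw [← h1]; ring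
        _ = (D.index * d) * Nat.card ↥(D ⊓ Cfsg.sigmaCore N) := by rw [hNg, hidx]
        _ = _ := by ring
    · have h3 : D.index = D.relIndex N * N.index :=
        (relIndex_mul_index (hDN N hN)).symm
      have h4 : D.relIndex N * d = Nat.card N := by
        rw [hd, mul_comm]; exact CfsgLib.Coprime.card_mul_relIndex (hDN N hN)
      have hodd : Odd (D.relIndex N) := (hG.1.of_dvd_nat (card_subgroup_dvd_card N)).of_dvd_nat
        ⟨d, h4.symm⟩
      have hne1' : D.relIndex N ≠ 1 := by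
        intro e
        have hND : D = N := eq_of_le_of_card_ge (hDN N hN) (by rw [← h4, e, one_mul])
        obtain ⟨N', hN', hne⟩ := Finset.exists_mem_ne h2 N
        exact hne (((hcoatom N hN).le_iff.1 (hND ▸ hDN N' hN')).resolve_left (hcoatom N' hN').1)
      rw [h3]
      refine Nat.mul_le_mul_right _ ?_
      obtain ⟨j, hj⟩ := hodd
      omega
  have hsum : ∑ N ∈ F, (Nat.card (Cfsg.sigmaCore N) - 1) * N.index + ∑ N ∈ F, N.index =
      D.index * (∑ N ∈ F, (Nat.card ↥(D ⊓ Cfsg.sigmaCore N) - 1)) + F.card * D.index := by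
    rw [← Finset.sum_add_distrib, Finset.sum_congr rfl fun N hN => (hterm N hN).1,
      Finset.sum_add_distrib, Finset.mul_sum, Finset.sum_const, smul_eq_mul]
  have hle : 3 * ∑ N ∈ F, N.index ≤ F.card * D.index := by
    rw [Finset.mul_sum, ← smul_eq_mul F.card, ← Finset.sum_const]
    exact Finset.sum_le_sum fun N hN => (hterm N hN).2
  have hTeq : T.ncard = D.index * S.ncard := by
    refine Nat.eq_of_mul_eq_mul_right hd0 ?_
    rw [horb, ← hidx]; ring
  have hk : 2 * D.index ≤ F.card * D.index := Nat.mul_le_mul_right _ h2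
  have hg' : D.index * S.ncard +
      D.index * (∑ N ∈ F, (Nat.card ↥(D ⊓ Cfsg.sigmaCore N) - 1)) + D.index = g := by
    rw [← hidx, ← hDcard]; ring
  rw [hTeq] at hbound
  omega

end CfsgLib.CFun.Star
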