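import Cfsg.Agent.Lib.CFun.OddTauThreeMover
import Cfsg.Agent.Lib.CFun.OddStarCount
import Cfsg.Agent.Lib.CFun.OddTypePBasic
import Cfsg.Agent.Lib.PGroup.FixedPointFree

/-!
# `τ₃`-elements act regularly on `M_σ`

If a line at a prime of `τ₃(M)` had fixed points on `M_σ`, then all lines of `D = M ∩ L` would be
normal in `D`, and the maximal subgroups over their normalizers would form a family of the kind
excluded by counting.
-/

set_option autoImplicit false
set_option linter.style.haveILetI false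
set_option linter.unusedSectionVars false

open Subgroup
open scoped commutatorElement
open CfsgLib.Coprime (conjBy conjBy_conjBy conjBy_one mem_conjBy conj_mem_conjBy IsSylowIn IsHallIn)

namespace CfsgLib.CFun.TauThree

open CfsgLib.CFun.TauTwo CfsgLib.CFun.TauOne CfsgLib.CFun.Disjoint CfsgLib.CFun.ElemCent
open CfsgLib.CFun.Lines

universe u

variable {G : Type u} [Group G] [Finite G]

/-- Subgroups normalizing each other with trivial intersection commute. -/
theorem le_centralizer_of_normalize {X W : Subgroup G} (hXW : X ≤ normalizer (W : Set G))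
    (hWX : W ≤ normalizer (X : Set G)) (hinf : X ⊓ W = ⊥) : X ≤ centralizer (W : Set G) :=
  commutator_eq_bot_iff_le_centralizer.1 (le_bot_iff.1 (hinf ▸ le_inf
    (le_normalizer_iff_commutator_le_left.1 hWX)
    (commutator_comm X W ▸ le_normalizer_iff_commutator_le_left.1 hXW)))

/-- Lines of different orders meet trivially. -/
theorem line_inf_line {q w : ℕ} [hq : Fact q.Prime] [hw : Fact w.Prime] {X W : Subgroup G}
    (hX : Nat.card X = q) (hW : Nat.card W = w) (hne : q ≠ w) : X ⊓ W = ⊥ :=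
  inf_eq_bot_of_coprime (by rw [hX, hW]; exact (Nat.coprime_primes hq.out hw.out).2 hne)

variable (hG : Cfsg.IsMinSimpleOddOrder G)
include hG

/-- A maximal subgroup over the normalizer of a line with its prime in `σ` is determined. -/
theorem eq_of_over {N N' : Subgroup G} (hN : IsCoatom N) (hN' : IsCoatom N') {w : ℕ}
    [hw : Fact w.Prime] {W : Subgroup G} (hWN : W ≤ N) (hWc : Nat.card W = w)
    (hwN : w ∈ Cfsg.sigma N) (hNW : normalizer (W : Set G) ≤ N') (hwN' : w ∈ Cfsg.sigma N') :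
    N' = N := by
  by_contra hne
  exact (mem_tau_iff.1 (tau_of_other hG hN hwN hWc hWN hN' hne hNW).1).1 hwN'

/-- Lines of a complement all with fixed points on `M_σ` are normal in it, when `τ₂(M)` is
empty. -/
theorem lines_normal {M E : Subgroup G} (hM : IsCoatom M)
    (hE : Cfsg.IsComplIn E (Cfsg.sigmaCore M) M) (hτ : ∀ t : ℕ, t ∉ Cfsg.tau2 M)
    (hreg : ∀ (w : ℕ) (W : Subgroup G), w.Prime → W ≤ E → Nat.card W = w →
      Cfsg.sigmaCore M ⊓ centralizer (W : Set G) ≠ ⊥)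
    {w : ℕ} [hw : Fact w.Prime] {W : Subgroup G} (hWE : W ≤ E) (hWc : Nat.card W = w) :
    E ≤ normalizer (W : Set G) := by
  have hrank : ∀ s : ℕ, s.Prime → s ∉ Cfsg.sigma M → Cfsg.PRankLE s 1 M := fun s hs hsσ =>
    (tau_or_rank_one hG hM hs hsσ).resolve_left (hτ s)
  have hwE : w ∣ Nat.card E := hWc ▸ card_dvd_of_le hWE
  have hwσ : w ∉ Cfsg.sigma M := Compl.compl_not_sigma hG hM hE hwE
  by_cases hwd : w ∣ Nat.card ↥(⁅M, M⁆ : Subgroup G)
  · exact (tau3_line hG hM hE ⟨hw.out, hwσ, hwd, hrank w hw.out hwσ⟩ hWE hWc).2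
  set V : Subgroup G := ⁅E, E⁆ with hV
  have hVM : V ≤ ⁅M, M⁆ := commutator_mono hE.1 hE.1
  have hWV : W ≤ normalizer (V : Set G) :=
    hWE.trans (le_normalizer.trans (FixLine.normalizer_le_normalizer_derived E))
  have hcop : (Nat.card W).Coprime (Nat.card V) := by
    rw [hWc]
    exact hw.out.coprime_iff_not_dvd.2 fun h => hwd (h.trans (card_dvd_of_le hVM))
  have hVab : IsMulCommutative V := (Cfsg.Agent.S1420.result hG M hM E hE).2.1
  have hWC : W ≤ centralizer (V : Set G) := by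
    by_contra h
    obtain ⟨s, S, hs, hSV, hSc⟩ := exists_prime_line (H := (⁅V, W⁆ : Subgroup G))
      fun e => h (le_centralizer_iff.1 (commutator_eq_bot_iff_le_centralizer.1 e))
    haveI : Fact s.Prime := ⟨hs⟩
    have hSV' : S ≤ V := hSV.trans (le_normalizer_iff_commutator_le_left.1 hWV)
    have hsσ : s ∉ Cfsg.sigma M := Compl.compl_not_sigma hG hM hE
      (hSc ▸ card_dvd_of_le (hSV'.trans (commutator_le_self E)))
    have hs3 : s ∈ Cfsg.tau3 M := ⟨hs, hsσ, hSc ▸ card_dvd_of_le (hSV'.trans hVM), hrank s hs hsσ⟩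
    obtain ⟨L, hL, hNS⟩ := exists_coatom_normalizer hG (line_ne_bot hSc)
      (ms_isPGroup_ne_top hG (IsPGroup.of_card (p := s) (n := 1) (by rw [hSc, pow_one])))
    have hSE : S ≤ E := hSV'.trans (commutator_le_self E)
    have h1 := (Setup.mk hM hL hs3 hSc (hSE.trans hE.1) (hreg s S hs hSE hSc) hNS).no_prime_mover
      hG hE hSE hWE hWc
    refine line_ne_bot hSc (le_bot_iff.1 ?_)
    rw [← CfsgLib.Coprime.centralizer_inf_commutator_eq_bot hVab hWV hcop]
    exact le_inf (le_inf hSV' (le_centralizer_iff.1 h1)) hSV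
  intro e he
  refine CfsgLib.Coprime.centralizer_le_normalizer_self W (mem_centralizer_iff.2 fun a ha => ?_)
  set c := ⁅e, a⁆ with hc
  have hcV : c ∈ V := commutator_mem_commutator he (hWE ha)
  have hca : Commute c a := (mem_centralizer_iff.1 (hWC ha) c hcV)
  have haw : a ^ w = 1 := orderOf_dvd_iff_pow_eq_one.1 (hWc ▸ orderOf_dvd_natCard W ha)
  have hcw : c ^ w = 1 := by
    have h1 : (e * a * e⁻¹) ^ w = 1 := by rw [conj_pow, haw, mul_one, mul_inv_cancel]
    rw [show e * a * e⁻¹ = c * a by rw [hc, commutatorElement_def]; group, hca.mul_pow, haw,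
      mul_one] at h1
    exact h1
  have hc1 : c = 1 := orderOf_eq_one_iff.1 (Nat.eq_one_of_dvd_coprimes hcop
    (by rw [hWc]; exact orderOf_dvd_of_pow_eq_one hcw) (orderOf_dvd_natCard _ hcV))
  exact ((commutatorElement_eq_one_iff_mul_comm.1 (hc.symm.trans hc1)).symm)

/-- Lines outside `σ(L)` have fixed points on a nonnilpotent `L_σ`. -/
theorem fixed_ne_bot_of_not_nilpotent {L : Subgroup G} (hL : IsCoatom L)
    (hnil : ¬ Group.IsNilpotent (Cfsg.sigmaCore L)) {w : ℕ} [hw : Fact w.Prime] {W : Subgroup G}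
    (hWL : W ≤ L) (hWc : Nat.card W = w) :
    Cfsg.sigmaCore L ⊓ centralizer (W : Set G) ≠ ⊥ := by
  intro e
  obtain ⟨a, ha, -, haw, haW⟩ := exists_gen hWc
  set K := Cfsg.sigmaCore L with hK
  have han : a ∈ normalizer (K : Set G) := sigmaCore_normal hG L (hWL ha)
  let φ : K ≃* K :=
    { toFun := fun x => ⟨a * x * a⁻¹, (mem_normalizer_iff.1 han x).1 x.2⟩
      invFun := fun x => ⟨a⁻¹ * x * a, (mem_normalizer_iff''.1 han x).1 x.2⟩
      left_inv := fun x => Subtype.ext (by group)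
      right_inv := fun x => Subtype.ext (by group)
      map_mul' := fun x y => Subtype.ext (by push_cast; group) }
  have hiter : ∀ (j : ℕ) (x : K), ((φ^[j] x : K) : G) = a ^ j * x * (a ^ j)⁻¹ := by
    intro j
    induction j with
    | zero => simp
    | succ j ih =>
      intro x
      rw [Function.iterate_succ_apply']
      show a * ((φ^[j] x : K) : G) * a⁻¹ = _
      rw [ih, pow_succ']
      group
  refine hnil (CfsgLib.PGroup.isNilpotent_of_fixedPointFree hw.out K φ (fun x hx => ?_)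
    fun x => Subtype.ext (by rw [hiter, haw]; simp))
  have h1 : a * (x : G) * a⁻¹ = x := congrArg Subtype.val hx
  have h2 : (x : G) ∈ K ⊓ centralizer (W : Set G) := by
    refine mem_inf.2 ⟨x.2, ?_⟩
    rw [← haW, centralizer_zpowers]
    exact mem_centralizer_singleton_iff.2 (mul_inv_eq_iff_eq_mul.1 h1).symm
  rw [e, mem_bot] at h2
  exact Subtype.ext h2

variable {M L R : Subgroup G} {r : ℕ} [hr : Fact r.Prime]

/-- `L_σ` is not nilpotent. -/
theorem Setup.not_nilpotent (h : Setup M L R r) : ¬ Group.IsNilpotent (Cfsg.sigmaCore L) := by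
  intro hnil
  have hM := h.coatom
  have hL := h.coatomL
  have hnc := h.nconj hG
  obtain ⟨E, hE, hRE⟩ := exists_complement hG hM h.leR fun s hs hsd => by
    rw [h.cardR] at hsd; rw [(Nat.prime_dvd_prime_iff_eq hs hr.out).1 hsd]; exact h.tau.2.1
  have hEL := h.compl_le hG hE hRE
  obtain ⟨hRd, hER⟩ := tau3_line hG hM hE h.tau hRE h.cardR
  refine tau3_line_not_central hG hM hE h.tau hRE h.cardR
    (TauOne.le_of_prime_power_elements fun w hw v hv hvn => ?_)
  haveI : Fact w.Prime := ⟨hw⟩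
  by_contra hmove
  have hv1 : v ≠ 1 := fun e => hmove (e ▸ one_mem _)
  obtain ⟨hvp, hwv, Ω, hΩv, hΩc⟩ := exists_line_pow hvn hv1
  have hΩE : Ω ≤ E := hΩv.trans (zpowers_le.2 hv)
  have hΩR := h.no_prime_mover hG hE hRE hΩE hΩc
  have hwσ : w ∉ Cfsg.sigma M :=
    Compl.compl_not_sigma hG hM hE (hwv.trans (orderOf_dvd_natCard _ hv))
  have hw1 := h.rank_one hG hw hwσ
  obtain ⟨n, hn⟩ := id hvn
  have hwτ : w ∈ Cfsg.tau1 M := ⟨hw, hwσ,
    hwv.trans ((orderOf_dvd_natCard _ (hE.1 hv))), fun hd => hmove (mem_centralizer_iff.2 fun y hy =>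
      derived_commute_compl hG hM hE (hRd hy)
        (Compl.mem_derived_of_tau3 hG hM hE ⟨hw, hwσ, hd, hw1⟩ hv hn)), hw1⟩
  have hwr : w ≠ r := fun e => hwτ.2.2.2.1 (e ▸ h.tau.2.2.1)
  have hΩL : Ω ≤ L := hΩE.trans hEL
  -- `w ∈ σ(L)`
  have hwL : w ∈ Cfsg.sigma L := by
    by_contra hwL
    have hRΩ : R ≤ Cfsg.sigmaCore L ⊓ centralizer (Ω : Set G) :=
      le_inf (h.le_sigmaCore hG) (le_centralizer_iff.1 hΩR)
    rcases tau_or_rank_one hG hL hw hwL with hwt | hw1L
    swap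
    · exact hmove ((le_centralizer_iff.1 (hRΩ.trans (fixed_of_line hG hL hwL hw1L hΩc hvp
        (zpowers_le.2 (hEL hv)) hΩv))) (mem_zpowers v))
    set C := Cfsg.sigmaCore M ⊓ L with hC
    have hΩC : Ω ≤ normalizer (C : Set G) := CfsgLib.Coprime.inf_le_normalizer
      ((hΩE.trans hE.1).trans (sigmaCore_normal hG M)) (hΩL.trans le_normalizer)
    obtain ⟨F, hF, hKF⟩ := exists_complement hG hL (sup_le hΩL (inf_le_right : C ≤ L))
      fun s hs hsd => by
        rcases hs.dvd_mul.1 (hsd.trans (CfsgLib.Coprime.card_sup_dvd_of_le_normalizer hΩC)) with h1 | h1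
        · rw [hΩc] at h1; rw [(Nat.prime_dvd_prime_iff_eq hs hw).1 h1]; exact hwL
        · haveI : Fact s.Prime := ⟨hs⟩
          exact not_sigma hG hM hL hnc
            ((sigmaCore_hall hG hM).1.2.1 s hs (h1.trans (card_dvd_of_le inf_le_left)))
    have hΩF : Ω ≤ F := le_sup_left.trans hKF
    obtain ⟨B, hBF, hBe, hB2⟩ := Compl.exists_elementary_compl hG hL hF hwt
    obtain ⟨⟨hFB, hsub⟩, -, huniq⟩ := Cfsg.Agent.S1418.result hG L hL F hF w hwt B ⟨hBF, hBe, hB2⟩
    have hΩB : Ω ≤ B := hsub Ω hΩF hΩc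
    have hCΩ : C ≤ centralizer (Ω : Set G) := by
      refine commutator_eq_bot_iff_le_centralizer.1 (le_bot_iff.1 ?_)
      have hBC : B ⊓ C = ⊥ := inf_eq_bot_of_isPGroup (isPGroup_of_elementary hBe) fun hd =>
        not_dvd_sigmaCore hG hM hwσ (hd.trans (card_dvd_of_le inf_le_left))
      rw [← hBC]
      refine le_inf ?_ (le_normalizer_iff_commutator_le_left.1 hΩC)
      rw [commutator_comm]
      exact (commutator_mono hΩB le_rfl).trans
        (le_normalizer_iff_commutator_le_left.1 ((le_sup_right.trans hKF).trans hFB))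
    obtain ⟨q, X, hq, hXC, hXc⟩ := exists_prime_line (H := C) fun e =>
      h.fixed ((h.inter_eq hG).symm.trans e)
    haveI : Fact q.Prime := ⟨hq⟩
    obtain ⟨N, hN, hNΩ⟩ := exists_coatom_normalizer hG (line_ne_bot hΩc)
      (ms_isPGroup_ne_top hG (IsPGroup.of_card (p := w) (n := 1) (by rw [hΩc, pow_one])))
    have hwN := normalizer_sigma_of_fixed hG hM hwσ hw1 (hΩE.trans hE.1) hΩc hXc
      (le_inf (hXC.trans inf_le_left) (hXC.trans hCΩ)) hN hNΩ
    have hNL := (huniq Ω hΩB hΩc fun e => line_ne_bot h.cardR (le_bot_iff.1 (e ▸ hRΩ))).2 N hN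
      ((CfsgLib.Coprime.centralizer_le_normalizer_self _).trans hNΩ)
    exact hwL (hNL ▸ hwN)
  have hvσ : v ∈ Cfsg.sigmaCore L :=
    isPGroup_le_sigmaCore hG hL hwL hvp (zpowers_le.2 (hEL hv)) (mem_zpowers v)
  refine hmove (mem_centralizer_iff.2 fun y hy => ?_)
  haveI := hnil
  exact (congrArg Subtype.val (CfsgLib.CFun.commute_of_coprime_order
    (x := (⟨y, h.le_sigmaCore hG hy⟩ : ↥(Cfsg.sigmaCore L))) (y := ⟨v, hvσ⟩) (by
      rw [Subgroup.orderOf_mk, Subgroup.orderOf_mk]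
      exact Nat.Coprime.coprime_dvd_left (h.cardR ▸ orderOf_dvd_natCard R hy)
        (Nat.Coprime.coprime_dvd_right (orderOf_dvd_of_pow_eq_one hn)
          (((Nat.coprime_primes hr.out hw).2 hwr.symm).pow_right n)))).eq :)

/-- All lines of complements of `L_σ` are normal. -/
theorem Setup.lines_L (h : Setup M L R r) {F : Subgroup G}
    (hF : Cfsg.IsComplIn F (Cfsg.sigmaCore L) L) {w : ℕ} [hw : Fact w.Prime] {W : Subgroup G}
    (hWF : W ≤ F) (hWc : Nat.card W = w) : F ≤ normalizer (W : Set G) := by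
  have hnil := h.not_nilpotent hG
  refine lines_normal hG h.coatomL hF (fun t ht => ?_) (fun s S hs hSF hSc => ?_) hWF hWc
  · haveI : Fact t.Prime := ⟨ht.1⟩
    obtain ⟨A, hAL, hAe, hA2⟩ := exists_elementary_of_not_pRankLE (mem_tau_iff.1 ht).2.2
    exact hnil (tau_nilpotent hG h.coatomL ht hAL hAe hA2)
  · haveI : Fact s.Prime := ⟨hs⟩
    exact fixed_ne_bot_of_not_nilpotent hG h.coatomL hnil (hSF.trans hF.1) hSc

/-- A complement of `L_σ` over `M_σ ∩ L`, inside `M`. -/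
theorem Setup.exists_compl_L (h : Setup M L R r) :
    ∃ F : Subgroup G, Cfsg.IsComplIn F (Cfsg.sigmaCore L) L ∧ Cfsg.sigmaCore M ⊓ L ≤ F ∧ F ≤ M := by
  obtain ⟨F, hF, hCF⟩ := exists_complement hG h.coatomL (inf_le_right : Cfsg.sigmaCore M ⊓ L ≤ L)
    fun s hs hsd => by
      haveI : Fact s.Prime := ⟨hs⟩
      exact not_sigma hG h.coatom h.coatomL (h.nconj hG)
        ((sigmaCore_hall hG h.coatom).1.2.1 s hs (hsd.trans (card_dvd_of_le inf_le_left)))
  obtain ⟨q, X, hq, hX, hXc⟩ := exists_prime_line (H := Cfsg.sigmaCore M ⊓ L) fun e =>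
    h.fixed ((h.inter_eq hG).symm.trans e)
  haveI : Fact q.Prime := ⟨hq⟩
  exact ⟨F, hF, hCF, (h.lines_L hG hF (hX.trans hCF) hXc).trans (h.line hG hXc hX).2.2.2⟩

/-- `L_σ ∩ M` centralizes `M_σ ∩ L`. -/
theorem Setup.parts_commute (h : Setup M L R r) :
    Cfsg.sigmaCore L ⊓ M ≤ centralizer ((Cfsg.sigmaCore M ⊓ L : Subgroup G) : Set G) := by
  refine le_centralizer_of_normalize ?_ ?_ (inf_eq_bot_of_coprime (Nat.coprime_of_dvd
    fun s hs h1 h2 => ?_))
  · exact CfsgLib.Coprime.inf_le_normalizer (inf_le_right.trans (sigmaCore_normal hG M))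
      ((inf_le_left.trans (map_subtype_le _)).trans le_normalizer)
  · exact CfsgLib.Coprime.inf_le_normalizer (inf_le_right.trans (sigmaCore_normal hG L))
      ((inf_le_left.trans (map_subtype_le _)).trans le_normalizer)
  · haveI : Fact s.Prime := ⟨hs⟩
    exact not_sigma hG h.coatom h.coatomL (h.nconj hG)
      ((sigmaCore_hall hG h.coatom).1.2.1 s hs (h2.trans (card_dvd_of_le inf_le_left)))
      ((sigmaCore_hall hG h.coatomL).1.2.1 s hs (h1.trans (card_dvd_of_le inf_le_left)))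

/-- Lines of `M ∩ L` outside `σ(M)` are normalized and have fixed points. -/
theorem Setup.line_fixed (h : Setup M L R r) {w : ℕ} [hw : Fact w.Prime] {W : Subgroup G}
    (hW : W ≤ M ⊓ L) (hWc : Nat.card W = w) (hwM : w ∉ Cfsg.sigma M) :
    Cfsg.sigmaCore M ⊓ L ≤ normalizer (W : Set G) ∧
      Cfsg.sigmaCore M ⊓ centralizer (W : Set G) ≠ ⊥ := by
  set C := Cfsg.sigmaCore M ⊓ L with hC
  obtain ⟨q, X, hq, hX, hXc⟩ := exists_prime_line (H := C) fun e =>
    h.fixed ((h.inter_eq hG).symm.trans e)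
  haveI : Fact q.Prime := ⟨hq⟩
  have hfix : C ≤ normalizer (W : Set G) → X ≤ centralizer (W : Set G) →
      C ≤ normalizer (W : Set G) ∧ Cfsg.sigmaCore M ⊓ centralizer (W : Set G) ≠ ⊥ :=
    fun h1 h2 => ⟨h1, fun e => line_ne_bot hXc (le_bot_iff.1 (e ▸ le_inf (hX.trans inf_le_left) h2))⟩
  by_cases hwL : w ∈ Cfsg.sigma L
  · have hWσ : W ≤ Cfsg.sigmaCore L ⊓ M := le_inf (isPGroup_le_sigmaCore hG h.coatomL hwL
      (IsPGroup.of_card (n := 1) (by rw [hWc, pow_one])) (hW.trans inf_le_right))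
      (hW.trans inf_le_left)
    have h1 : C ≤ centralizer (W : Set G) :=
      (le_centralizer_iff.1 (h.parts_commute hG)).trans (centralizer_le hWσ)
    exact hfix (h1.trans (CfsgLib.Coprime.centralizer_le_normalizer_self _)) (hX.trans h1)
  · have hWC : W ≤ normalizer (C : Set G) := CfsgLib.Coprime.inf_le_normalizer
      ((hW.trans inf_le_left).trans (sigmaCore_normal hG M))
      ((hW.trans inf_le_right).trans le_normalizer)
    obtain ⟨F, hF, hKF⟩ := exists_complement hG h.coatomL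
      (sup_le (hW.trans inf_le_right) (inf_le_right : C ≤ L)) fun s hs hsd => by
        rcases hs.dvd_mul.1 (hsd.trans (CfsgLib.Coprime.card_sup_dvd_of_le_normalizer hWC)) with h1 | h1
        · rw [hWc] at h1; rw [(Nat.prime_dvd_prime_iff_eq hs hw.out).1 h1]; exact hwL
        · haveI : Fact s.Prime := ⟨hs⟩
          exact not_sigma hG h.coatom h.coatomL (h.nconj hG)
            ((sigmaCore_hall hG h.coatom).1.2.1 s hs (h1.trans (card_dvd_of_le inf_le_left)))
    have hWF : W ≤ F := le_sup_left.trans hKF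
    have hCF : C ≤ F := le_sup_right.trans hKF
    have hFW := h.lines_L hG hF hWF hWc
    exact hfix (hCF.trans hFW) (le_centralizer_of_normalize ((hX.trans hCF).trans hFW)
      (hWF.trans (h.lines_L hG hF (hX.trans hCF) hXc))
      (line_inf_line hXc hWc fun e => hwM (e ▸ (h.line hG hXc hX).1)))

/-- All lines of `M ∩ L` are normal in it. -/
theorem Setup.lines_inter (h : Setup M L R r) {w : ℕ} [hw : Fact w.Prime] {W : Subgroup G}
    (hW : W ≤ M ⊓ L) (hWc : Nat.card W = w) : M ⊓ L ≤ normalizer (W : Set G) := by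
  have hM := h.coatom
  have hL := h.coatomL
  by_cases hwM : w ∈ Cfsg.sigma M
  · obtain ⟨F, hF, hCF, hFM⟩ := h.exists_compl_L hG
    have hWC : W ≤ Cfsg.sigmaCore M ⊓ L := le_inf (isPGroup_le_sigmaCore hG hM hwM
      (IsPGroup.of_card (n := 1) (by rw [hWc, pow_one])) (hW.trans inf_le_left))
      (hW.trans inf_le_right)
    intro m hm
    obtain ⟨f, hf, k, hk, rfl⟩ := hF.2.2.2 m hm.2
    have hkM : k ∈ M := by simpa using mul_mem (inv_mem (hFM hf)) hm.1
    exact mul_mem (h.lines_L hG hF (hWC.trans hCF) hWc hf)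
      (CfsgLib.Coprime.centralizer_le_normalizer_self _
        (centralizer_le hWC (h.parts_commute hG (mem_inf.2 ⟨hk, hkM⟩))))
  obtain ⟨E₀, hE₀, hRE₀⟩ := exists_complement hG hM h.leR fun s hs hsd => by
    rw [h.cardR] at hsd; rw [(Nat.prime_dvd_prime_iff_eq hs hr.out).1 hsd]; exact h.tau.2.1
  have hE₀L := h.compl_le hG hE₀ hRE₀
  have hDR : M ⊓ L ≤ normalizer (R : Set G) := by
    intro m hm
    obtain ⟨e, he, k, hk, rfl⟩ := hE₀.2.2.2 m hm.1
    have hkL : k ∈ L := by simpa using mul_mem (inv_mem (hE₀L he)) hm.2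
    exact mul_mem ((tau3_line hG hM hE₀ h.tau hRE₀ h.cardR).2 he)
      (CfsgLib.Coprime.centralizer_le_normalizer_self _
        ((h.inter_eq hG).le (mem_inf.2 ⟨hk, hkL⟩)).2)
  obtain ⟨E, hE, hKE⟩ := exists_complement hG hM (sup_le (hW.trans inf_le_left) h.leR)
    fun s hs hsd => by
      rcases hs.dvd_mul.1 (hsd.trans
        (CfsgLib.Coprime.card_sup_dvd_of_le_normalizer (hW.trans hDR))) with h1 | h1
      · rw [hWc] at h1; rw [(Nat.prime_dvd_prime_iff_eq hs hw.out).1 h1]; exact hwM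
      · rw [h.cardR] at h1; rw [(Nat.prime_dvd_prime_iff_eq hs hr.out).1 h1]; exact h.tau.2.1
  have hEL := h.compl_le hG hE (le_sup_right.trans hKE)
  have hEW : E ≤ normalizer (W : Set G) := by
    refine lines_normal hG hM hE (fun t ht => h.not_tau2 hG ht) (fun s S hs hSE hSc => ?_)
      (le_sup_left.trans hKE) hWc
    haveI : Fact s.Prime := ⟨hs⟩
    exact (h.line_fixed hG (hSE.trans (le_inf hE.1 hEL)) hSc
      (Compl.compl_not_sigma hG hM hE (hSc ▸ card_dvd_of_le hSE))).2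
  intro m hm
  obtain ⟨e, he, k, hk, rfl⟩ := hE.2.2.2 m hm.1
  have hkL : k ∈ L := by simpa using mul_mem (inv_mem (hEL he)) hm.2
  exact mul_mem (hEW he) ((h.line_fixed hG hW hWc hwM).1 (mem_inf.2 ⟨hk, hkL⟩))

/-- Over each line of `M ∩ L` lies a maximal subgroup with its prime in `σ`. -/
theorem Setup.exists_member (h : Setup M L R r) {w : ℕ} [hw : Fact w.Prime] {W : Subgroup G}
    (hW : W ≤ M ⊓ L) (hWc : Nat.card W = w) :
    ∃ N : Subgroup G, IsCoatom N ∧ w ∈ Cfsg.sigma N ∧ normalizer (W : Set G) ≤ N := by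
  have hM := h.coatom
  by_cases hwM : w ∈ Cfsg.sigma M
  · exact ⟨M, hM, hwM, (h.line hG hWc (le_inf (isPGroup_le_sigmaCore hG hM hwM
      (IsPGroup.of_card (n := 1) (by rw [hWc, pow_one])) (hW.trans inf_le_left))
      (hW.trans inf_le_right))).2.2.2⟩
  obtain ⟨q, X, hq, hX, hXc⟩ := exists_prime_line (h.line_fixed hG hW hWc hwM).2
  haveI : Fact q.Prime := ⟨hq⟩
  obtain ⟨N, hN, hNW⟩ := exists_coatom_normalizer hG (line_ne_bot hWc)
    (ms_isPGroup_ne_top hG (IsPGroup.of_card (p := w) (n := 1) (by rw [hWc, pow_one])))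
  exact ⟨N, hN, normalizer_sigma_of_fixed hG hM hwM (h.rank_one hG hw.out hwM)
    (hW.trans inf_le_left) hWc hXc hX hN hNW, hNW⟩

/-- Such a maximal subgroup is `N = (M ∩ L) N_σ`. -/
theorem Setup.member_split (h : Setup M L R r) {w : ℕ} [hw : Fact w.Prime] {W : Subgroup G}
    (hW : W ≤ M ⊓ L) (hWc : Nat.card W = w) {N : Subgroup G} (hN : IsCoatom N)
    (hwN : w ∈ Cfsg.sigma N) (hNW : normalizer (W : Set G) ≤ N) :
    ∀ n ∈ N, ∃ d ∈ M ⊓ L, ∃ k ∈ Cfsg.sigmaCore N, n = d * k := by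
  have hM := h.coatom
  have hL := h.coatomL
  have hDN : M ⊓ L ≤ N := (h.lines_inter hG hW hWc).trans hNW
  obtain ⟨E, hE, hRE⟩ := exists_complement hG hM h.leR fun s hs hsd => by
    rw [h.cardR] at hsd; rw [(Nat.prime_dvd_prime_iff_eq hs hr.out).1 hsd]; exact h.tau.2.1
  have hEL := h.compl_le hG hE hRE
  have hED : E ≤ M ⊓ L := le_inf hE.1 hEL
  by_cases hwM : w ∈ Cfsg.sigma M
  · have hNM : N = M := eq_of_over hG hM hN (hW.trans inf_le_left) hWc hwM hNW hwN
    subst hNM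
    intro n hn
    obtain ⟨e, he, k, hk, rfl⟩ := hE.2.2.2 n hn
    exact ⟨e, hED he, k, hk, rfl⟩
  by_cases hwL : w ∈ Cfsg.sigma L
  · have hNL : N = L := eq_of_over hG hL hN (hW.trans inf_le_right) hWc hwL hNW hwN
    subst hNL
    obtain ⟨F, hF, -, hFM⟩ := h.exists_compl_L hG
    intro n hn
    obtain ⟨e, he, k, hk, rfl⟩ := hF.2.2.2 n hn
    exact ⟨e, mem_inf.2 ⟨hFM he, hF.1 he⟩, k, hk, rfl⟩
  have hRD : R ≤ M ⊓ L := hRE.trans hED
  have hWσ : W ≤ Cfsg.sigmaCore N := isPGroup_le_sigmaCore hG hN hwN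
    (IsPGroup.of_card (n := 1) (by rw [hWc, pow_one])) (hW.trans hDN)
  have hrN : r ∉ Cfsg.sigma N := fun hrN => by
    have hLN : L = N := eq_of_over hG hN hL (hRD.trans hDN) h.cardR hrN h.normR (h.sigma_L hG)
    exact hwL (hLN ▸ hwN)
  obtain ⟨EN, hEN, hREN⟩ := exists_complement hG hN (hRD.trans hDN) fun s hs hsd => by
    rw [h.cardR] at hsd; rw [(Nat.prime_dvd_prime_iff_eq hs hr.out).1 hsd]; exact hrN
  have hrN1 : Cfsg.PRankLE r 1 N := by
    rcases tau_or_rank_one hG hN hr.out hrN with hrt | h1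
    swap
    · exact h1
    exfalso
    obtain ⟨A, hAE, hAe, hA2⟩ := Compl.exists_elementary_compl hG hN hEN hrt
    have hRA := (Cfsg.Agent.S1418.result hG N hN EN hEN r hrt A ⟨hAE, hAe, hA2⟩).1.2 R hREN h.cardR
    have hAL : A ≤ L := (le_centralizer_line hAe hRA).trans
      ((CfsgLib.Coprime.centralizer_le_normalizer_self _).trans h.normR)
    exact line_ne_bot hWc (le_bot_iff.1 (tau_inf_eq_bot hG hN hrt (hAE.trans hEN.1) hAe hA2 hL
      (fun e => hwL (e.symm ▸ hwN)) hAL ▸ le_inf hWσ (hW.trans inf_le_right)))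
  have hrd : r ∣ Nat.card ↥(⁅N, N⁆ : Subgroup G) :=
    h.cardR ▸ card_dvd_of_le ((tau3_line hG hM hE h.tau hRE h.cardR).1.trans
      (commutator_mono (hED.trans hDN) (hED.trans hDN)))
  have hWR : W ≤ centralizer (R : Set G) := le_centralizer_of_normalize
    (hW.trans (h.lines_inter hG hRD h.cardR)) (hRD.trans (h.lines_inter hG hW hWc))
    (line_inf_line hWc h.cardR fun e => hwL (e ▸ h.sigma_L hG))
  have h' : Setup N L R r := ⟨hN, hL, ⟨hr.out, hrN, hrd, hrN1⟩, h.cardR, hRD.trans hDN,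
    fun e => line_ne_bot hWc (le_bot_iff.1 (e ▸ le_inf hWσ hWR)), h.normR⟩
  obtain ⟨q, X, hq, hX, hXc⟩ := exists_prime_line (H := Cfsg.sigmaCore M ⊓ L) fun e =>
    h.fixed ((h.inter_eq hG).symm.trans e)
  haveI : Fact q.Prime := ⟨hq⟩
  have hXD : X ≤ M ⊓ L := le_inf ((hX.trans inf_le_left).trans (map_subtype_le _))
    (hX.trans inf_le_right)
  have hNLM : N ⊓ L ≤ M := (h'.lines_inter hG (le_inf (hXD.trans hDN) (hX.trans inf_le_right)) hXc).trans
    (h.line hG hXc hX).2.2.2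
  have hENL := h'.compl_le hG hEN hREN
  intro n hn
  obtain ⟨e, he, k, hk, rfl⟩ := hEN.2.2.2 n hn
  exact ⟨e, mem_inf.2 ⟨hNLM (mem_inf.2 ⟨hEN.1 he, hENL he⟩), hENL he⟩, k, hk, rfl⟩

omit hr in
/-- Lines at primes of `τ₃(M)` act regularly on `M_σ`. -/
theorem tau3_line_regular {M : Subgroup G} (hM : IsCoatom M) {r : ℕ} (hr3 : r ∈ Cfsg.tau3 M)
    {R : Subgroup G} (hRM : R ≤ M) (hRc : Nat.card R = r) :
    Cfsg.sigmaCore M ⊓ centralizer (R : Set G) = ⊥ := by
  classical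
  haveI : Fact r.Prime := ⟨hr3.1⟩
  haveI := Fintype.ofFinite (Subgroup G)
  by_contra hne
  obtain ⟨L, hL, hNR⟩ := exists_coatom_normalizer hG (line_ne_bot hRc)
    (ms_isPGroup_ne_top hG (IsPGroup.of_card (p := r) (n := 1) (by rw [hRc, pow_one])))
  have h : Setup M L R r := ⟨hM, hL, hr3, hRc, hRM, hne, hNR⟩
  set D := M ⊓ L with hD
  set F : Finset (Subgroup G) := Finset.univ.filter fun N => IsCoatom N ∧
    ∃ (w : ℕ) (W : Subgroup G), w.Prime ∧ W ≤ D ∧ Nat.card W = w ∧ w ∈ Cfsg.sigma N ∧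
      normalizer (W : Set G) ≤ N with hF
  have hmem : ∀ N, N ∈ F ↔ IsCoatom N ∧
      ∃ (w : ℕ) (W : Subgroup G), w.Prime ∧ W ≤ D ∧ Nat.card W = w ∧ w ∈ Cfsg.sigma N ∧
        normalizer (W : Set G) ≤ N := fun N => by simp [hF]
  refine Star.star_false hG D F ?_ (fun N hN => ((hmem N).1 hN).1) (fun N hN => ?_) (fun N hN => ?_)
    (fun N hN z hz hz1 => ?_) (fun w hw hwd => ?_) fun N hN N' hN' hne' g e => ?_
  · refine Finset.one_lt_card.2 ⟨M, ?_, L, ?_, (h.nconj hG).ne.symm⟩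
    · obtain ⟨q, X, hq, hX, hXc⟩ := exists_prime_line (H := Cfsg.sigmaCore M ⊓ L) fun e =>
        h.fixed ((h.inter_eq hG).symm.trans e)
      haveI : Fact q.Prime := ⟨hq⟩
      obtain ⟨hqM, -, -, hNX⟩ := h.line hG hXc hX
      exact (hmem M).2 ⟨hM, q, X, hq, le_inf ((hX.trans inf_le_left).trans (map_subtype_le _))
        (hX.trans inf_le_right), hXc, hqM, hNX⟩
    · exact (hmem L).2 ⟨hL, r, R, hr3.1, le_inf hRM (le_normalizer.trans hNR), hRc, h.sigma_L hG, hNR⟩
  · obtain ⟨hNc, w, W, hw, hW, hWc, hwN, hNW⟩ := (hmem N).1 hN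
    haveI : Fact w.Prime := ⟨hw⟩
    exact (h.lines_inter hG hW hWc).trans hNW
  · obtain ⟨hNc, w, W, hw, hW, hWc, hwN, hNW⟩ := (hmem N).1 hN
    haveI : Fact w.Prime := ⟨hw⟩
    exact h.member_split hG hW hWc hNc hwN hNW
  · obtain ⟨hNc, w, W, hw, hW, hWc, hwN, hNW⟩ := (hmem N).1 hN
    haveI : Fact w.Prime := ⟨hw⟩
    obtain ⟨s, hs, hsd⟩ := Nat.exists_prime_and_dvd fun e => hz1 (orderOf_eq_one_iff.1 e)
    haveI : Fact s.Prime := ⟨hs⟩
    obtain ⟨Z, hZz, hZc⟩ := exists_line_of_dvd (H := zpowers z) (t := s) (by rwa [Nat.card_zpowers])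
    have hZD : Z ≤ D := hZz.trans (zpowers_le.2 hz.1)
    obtain ⟨N', hN', hsN', hN'Z⟩ := h.exists_member hG hZD hZc
    have hN'N : N' = N := eq_of_over hG hNc hN' ((hZD.trans (h.lines_inter hG hW hWc)).trans hNW)
      hZc (Cosets.sigma_of_mem hG hNc hz.2 hs hsd) hN'Z hsN'
    rw [← centralizer_zpowers, ← hN'N]
    exact (centralizer_le hZz).trans
      ((CfsgLib.Coprime.centralizer_le_normalizer_self _).trans hN'Z)
  · haveI : Fact w.Prime := ⟨hw⟩
    obtain ⟨W, hW, hWc⟩ := exists_line_of_dvd hwd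
    obtain ⟨N, hN, hwN, hNW⟩ := h.exists_member hG hW hWc
    exact ⟨N, (hmem N).2 ⟨hN, w, W, hw, hW, hWc, hwN, hNW⟩, hwN⟩
  · obtain ⟨hNc, v, V, hv, hV, hVc, hvN, hNV⟩ := (hmem N).1 hN
    obtain ⟨hN'c, w, W, hw, hW, hWc, hwN, hNW⟩ := (hmem N').1 hN'
    haveI : Fact w.Prime := ⟨hw⟩
    haveI : Fact v.Prime := ⟨hv⟩
    have hwN2 : w ∈ Cfsg.sigma N := ElemCent.mem_sigma_conjBy hG hNc (g := g) (e.symm ▸ hwN)
    exact hne' (eq_of_over hG hNc hN'c ((hW.trans (h.lines_inter hG hV hVc)).trans hNV) hWc hwN2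
      hNW hwN).symm

omit hr in
/-- Elements at primes of `τ₃(M)` act regularly on `M_σ`. -/
theorem tau3_regular {M : Subgroup G} (hM : IsCoatom M) {x : G} (hx : x ∈ M) {r : ℕ}
    (hr3 : r ∈ Cfsg.tau3 M) (hrd : r ∣ orderOf x) :
    Cfsg.sigmaCore M ⊓ centralizer ({x} : Set G) = ⊥ := by
  haveI : Fact r.Prime := ⟨hr3.1⟩
  obtain ⟨R, hRx, hRc⟩ := exists_line_of_dvd (H := zpowers x) (t := r) (by rwa [Nat.card_zpowers])
  refine le_bot_iff.1 (le_trans (inf_le_inf_left _ ?_)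
    (tau3_line_regular hG hM hr3 (hRx.trans (zpowers_le.2 hx)) hRc).le)
  rw [← centralizer_zpowers]
  exact centralizer_le hRx

end CfsgLib.CFun.TauThree
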