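import Cfsg.Agent.Lib.CFun.OddKappaDerived
import Cfsg.Agent.Lib.CFun.OddSectionAction
import Cfsg.Agent.Lib.CFun.OddBeta
import Cfsg.Agent.Lib.CFun.OddTauThreeRegular
import Cfsg.Agent.Lib.Coprime.PGroupFrattini

/-!
# The structure of a non-nilpotent `M_σ` (BG 15.2)
-/

set_option autoImplicit false
set_option linter.style.haveILetI false
set_option linter.unusedSectionVars false

open Subgroup
open scoped commutatorElement
open CfsgLib.Coprime (conjBy IsSylowIn IsHallIn IsPiNum conj_mem_of_le_normalizer)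

namespace CfsgLib.CFun.FifteenTwo

open CfsgLib.CFun.TauTwo CfsgLib.CFun.Lines CfsgLib.CFun.Kappa CfsgLib.CFun.Partner

universe u

variable {G : Type u} [Group G] [Finite G]

/-- A product of two commuting nilpotent subgroups is nilpotent. -/
theorem isNilpotent_of_commute {A B H : Subgroup G} (hA : Group.IsNilpotent A)
    (hB : Group.IsNilpotent B) (hc : B ≤ centralizer (A : Set G)) (hAH : A ≤ H) (hBH : B ≤ H)
    (hgen : ∀ h ∈ H, ∃ a ∈ A, ∃ b ∈ B, h = a * b) : Group.IsNilpotent H := by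
  haveI := hA
  haveI := hB
  let φ : A × B →* H :=
    { toFun := fun z => ⟨(z.1 : G) * z.2, mul_mem (hAH z.1.2) (hBH z.2.2)⟩
      map_one' := Subtype.ext (mul_one (1 : G))
      map_mul' := fun z w => Subtype.ext (by
        have h1 : (w.1 : G) * z.2 = (z.2 : G) * w.1 := mem_centralizer_iff.1 (hc z.2.2) _ w.1.2
        show (z.1 : G) * w.1 * (z.2 * w.2) = z.1 * z.2 * (w.1 * w.2)
        rw [mul_assoc, ← mul_assoc (w.1 : G), h1]; group) }
  refine Group.nilpotent_of_surjective φ fun h => ?_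
  obtain ⟨a, ha, b, hb, e⟩ := hgen h h.2
  exact ⟨(⟨a, ha⟩, ⟨b, hb⟩), Subtype.ext e.symm⟩

/-- `M' < M`. -/
theorem derived_lt (hG : Cfsg.IsMinSimpleOddOrder G) {M : Subgroup G} (hM : IsCoatom M) :
    ⁅M, M⁆ < M := by
  refine lt_of_le_of_ne (commutator_le_self M) fun e => ?_
  haveI : Group.IsSolvable M := ms_solvable hG hM.1
  haveI : Nontrivial M := by
    rw [nontrivial_iff_ne_bot]
    exact fun e0 => sigmaCore_ne_bot hG hM (le_bot_iff.1 ((map_subtype_le _).trans e0.le))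
  refine (Group.IsSolvable.commutator_lt_top_of_nontrivial M).ne (map_injective M.subtype_injective ?_)
  rw [_root_.commutator_def, map_commutator, ← MonoidHom.range_eq_map, range_subtype]
  exact e

/-- The data of BG 15.2. -/
structure Split (M K Q D : Subgroup G) : Prop where
  prime : (Nat.card ↥(Cfsg.sigmaCore M ⊓ centralizer (K : Set G))).Prime
  ne : Cfsg.fittingHallOf M ≠ Cfsg.sigmaCore M
  sylow : IsSylowIn (Nat.card ↥(Cfsg.sigmaCore M ⊓ centralizer (K : Set G))) Q (Cfsg.sigmaCore M)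
  normal : M ≤ normalizer (Q : Set G)
  fix_le : Cfsg.sigmaCore M ⊓ centralizer (K : Set G) ≤ Q
  compl : Cfsg.IsComplIn Q D (Cfsg.sigmaCore M)
  invariant : K ≤ normalizer (D : Set G)
  cop : (Nat.card D).Coprime (Nat.card Q)

variable (hG : Cfsg.IsMinSimpleOddOrder G) {M K U : Subgroup G} (hM : IsCoatom M)
  (d : Cfsg.IsSigmaDecomposition M K U)
include hG hM d

theorem bot_of_ne (hne : Cfsg.fittingHallOf M ≠ Cfsg.sigmaCore M) : U = ⊥ ∧ K ≠ ⊥ := by
  have hU : U = ⊥ := by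
    by_contra h
    exact hne (Cosets.fittingHallOf_eq hG hM (nilpotent_of_U_ne_bot hG hM d h).1)
  refine ⟨hU, fun hK => (derived_lt hG hM).ne (le_antisymm (commutator_le_self M) ?_)⟩
  refine le_trans ?_ (CfsgLib.CFun.sigmaCore_le_derived hG hM)
  intro m hm
  obtain ⟨u, hu, b, hb, rfl⟩ := d.compl.2.2.2 m hm
  rw [hU, mem_bot] at hu
  rw [hK, bot_sup_eq] at hb
  rwa [hu, one_mul]

theorem exists_split (hne : Cfsg.fittingHallOf M ≠ Cfsg.sigmaCore M) :
    ∃ Q D : Subgroup G, Split M K Q D := by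
  obtain ⟨hU, hK1⟩ := bot_of_ne hG hM d hne
  obtain ⟨hq, Q, hQ, hMQ, hKQ, -⟩ := KappaDerived.exists_sylow_of_bot hG hM d hK1 hU
  set q := Nat.card ↥(Cfsg.sigmaCore M ⊓ centralizer (K : Set G))
  haveI : Fact q.Prime := ⟨hq⟩
  have hKσ : K ≤ normalizer (Cfsg.sigmaCore M : Set G) :=
    d.hall.1.trans (TauTwo.sigmaCore_normal hG M)
  have hE := Decomp.compl hG hM d
  rw [hU, sup_bot_eq] at hE
  obtain ⟨D, ⟨hDσ, hD, hD'⟩, hKD⟩ := CfsgLib.PGroup.exists_invariant_hall hKσ
    (compl_coprime hG hM hE) (sigmaCore_solvable hG hM) ({q}ᶜ : Set ℕ)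
  obtain ⟨j, hj⟩ := IsPGroup.iff_card.1 hQ.isPGroup
  have hqD : ¬ q ∣ Nat.card D := fun h => hD q hq h rfl
  have hcop : (Nat.card D).Coprime (Nat.card Q) := by
    rw [hj]
    exact ((hq.coprime_iff_not_dvd.2 hqD).pow_left j).symm
  have hσc := CfsgLib.Coprime.card_mul_relIndex hDσ
  have hQd : Nat.card Q ∣ D.relIndex (Cfsg.sigmaCore M) :=
    hcop.symm.dvd_of_dvd_mul_left (hσc ▸ card_dvd_of_le hQ.1)
  have hσQ := CfsgLib.Coprime.card_mul_relIndex hQ.1
  have hDd : D.relIndex (Cfsg.sigmaCore M) ∣ Nat.card Q := by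
    refine Nat.Coprime.dvd_of_dvd_mul_right ?_ (hσQ ▸ Dvd.intro_left _ hσc)
    refine Nat.coprime_of_dvd fun r hr h1 h2 => ?_
    have hrq : r = q := by
      by_contra h
      exact hD' r hr h1 h
    exact (show ¬ q ∣ _ from hQ.toSylow.not_dvd_index) (hrq ▸ h2)
  have hidx := Nat.dvd_antisymm hDd hQd
  refine ⟨Q, D, hq, hne, hQ, hMQ, hKQ, ⟨hQ.1, hDσ, ?_, fun x hx => ?_⟩, hKD, hcop⟩
  · exact CfsgLib.Coprime.disjoint_of_coprime_card hcop.symm
  · have h1 : Q ⊔ D = Cfsg.sigmaCore M := by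
      refine eq_of_le_of_card_ge (sup_le hQ.1 hDσ) ?_
      rw [ZLen.card_sup_eq (hDσ.trans ((map_subtype_le _).trans hMQ))
        (CfsgLib.Coprime.disjoint_of_coprime_card hcop.symm), ← hσc, hidx, mul_comm]
    obtain ⟨a, ha, b, hb, e⟩ :=
      CfsgLib.Coprime.mem_sup_exists (hDσ.trans ((map_subtype_le _).trans hMQ)) (h1.ge hx)
    exact ⟨a, ha, b, hb, e.symm⟩

variable {Q D : Subgroup G} (h : Split M K Q D)
include h

theorem Split.bot : U = ⊥ ∧ K ≠ ⊥ := bot_of_ne hG hM d h.ne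

theorem Split.le_M : Q ≤ M ∧ D ≤ M :=
  ⟨h.compl.1.trans (map_subtype_le _), h.compl.2.1.trans (map_subtype_le _)⟩

theorem Split.coprime_K : (Nat.card K).Coprime (Nat.card (Cfsg.sigmaCore M)) := by
  have hE := Decomp.compl hG hM d
  rw [(Split.bot hG hM d h).1, sup_bot_eq] at hE
  exact compl_coprime hG hM hE

/-- `M` is generated by `K`, `Q` and `D`. -/
theorem Split.M_le {X : Subgroup G} (hK : K ≤ X) (hQ : Q ≤ X) (hD : D ≤ X) : M ≤ X := by
  intro m hm
  obtain ⟨u, hu, b, hb, rfl⟩ := d.compl.2.2.2 m hm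
  rw [(Split.bot hG hM d h).1, mem_bot] at hu
  rw [hu, one_mul]
  refine sup_le hK ?_ hb
  intro z hz
  obtain ⟨a, ha, c, hc, rfl⟩ := h.compl.2.2.2 z hz
  exact mul_mem (hQ ha) (hD hc)

/-- `K` acts fixed-point-freely on `D`. -/
theorem Split.fpf {k : G} (hk : k ∈ K) (hk1 : k ≠ 1) : D ⊓ centralizer ({k} : Set G) = ⊥ := by
  refine le_bot_iff.1 (le_trans (le_inf ?_ inf_le_left) h.compl.2.2.1.le)
  refine le_trans ?_ h.fix_le
  rw [← fixed_eq hG hM d.hall hk hk1]
  exact inf_le_inf_right _ h.compl.2.1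

theorem Split.exists_elt : ∃ (p : ℕ) (a : G), p.Prime ∧ a ∈ K ∧ a ≠ 1 ∧ a ^ p = 1 ∧
    p.Coprime (Nat.card (Cfsg.sigmaCore M)) := by
  obtain ⟨r, W, hr, hWK, hWc⟩ := exists_prime_line (Split.bot hG hM d h).2
  haveI : Fact r.Prime := ⟨hr⟩
  obtain ⟨x, hx, hx1, hxr, -⟩ := exists_gen hWc
  exact ⟨r, x, hr, hWK hx, hx1, hxr,
    (Split.coprime_K hG hM d h).coprime_dvd_left (hWc ▸ card_dvd_of_le hWK)⟩

theorem Split.nilpotent_D : Group.IsNilpotent D := by
  obtain ⟨p, a, hp, ha, ha1, hap, -⟩ := Split.exists_elt hG hM d h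
  exact Decomp.isNilpotent_of_fpf hp hap (h.invariant ha) (Split.fpf hG hM d h ha ha1)

theorem Split.not_centralize : ¬ D ≤ centralizer (Q : Set G) := by
  intro hc
  haveI : Fact (Nat.card ↥(Cfsg.sigmaCore M ⊓ centralizer (K : Set G))).Prime := ⟨h.prime⟩
  exact h.ne (Cosets.fittingHallOf_eq hG hM (isNilpotent_of_commute h.sylow.isPGroup.isNilpotent
    (Split.nilpotent_D hG hM d h) hc h.compl.1 h.compl.2.1 h.compl.2.2.2))

/-- An invariant subgroup of `Q` missing `M_σ ∩ C(K)` centralizes `D`. -/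
theorem Split.le_centralizer {V : Subgroup G} (hVQ : V ≤ Q) (hKV : K ≤ normalizer (V : Set G))
    (hDV : D ≤ normalizer (V : Set G))
    (hfix : ¬ Cfsg.sigmaCore M ⊓ centralizer (K : Set G) ≤ V) :
    V ≤ centralizer (D : Set G) := by
  obtain ⟨p, a, hp, ha, ha1, hap, -⟩ := Split.exists_elt hG hM d h
  haveI : Fact p.Prime := ⟨hp⟩
  haveI : Fact (Nat.card ↥(Cfsg.sigmaCore M ⊓ centralizer (K : Set G))).Prime := ⟨h.prime⟩
  have hW : (V ⊔ D) ⊓ centralizer ({a} : Set G) = ⊥ := by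
    refine (eq_bot_iff_forall _).2 fun y hy => ?_
    have hyK : y ∈ Cfsg.sigmaCore M ⊓ centralizer (K : Set G) := by
      rw [← fixed_eq hG hM d.hall ha ha1]
      exact mem_inf.2 ⟨sup_le (hVQ.trans h.compl.1) h.compl.2.1 (mem_inf.1 hy).1, (mem_inf.1 hy).2⟩
    obtain ⟨v, hv, c, hc, e⟩ := CfsgLib.Coprime.mem_sup_exists hDV (mem_inf.1 hy).1
    have hcQ : c ∈ Q ⊓ D := mem_inf.2 ⟨by
      rw [show c = v⁻¹ * y by rw [← e]; group]
      exact mul_mem (inv_mem (hVQ hv)) (h.fix_le hyK), hc⟩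
    rw [h.compl.2.2.1, mem_bot] at hcQ
    have hyV : y ∈ V := by rw [← e, hcQ, mul_one]; exact hv
    by_contra hy1
    refine hfix ?_
    have hz : zpowers y = Cfsg.sigmaCore M ⊓ centralizer (K : Set G) :=
      eq_of_le_of_card_ge (zpowers_le.2 hyK) (le_of_eq (by
        rw [Nat.card_zpowers]
        exact (((h.prime.eq_one_or_self_of_dvd _ (orderOf_dvd_natCard _ hyK))).resolve_left
          fun e' => hy1 (orderOf_eq_one_iff.1 e')).symm))
    exact hz ▸ zpowers_le.2 hyV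
  have hnW : a ∈ normalizer ((V ⊔ D : Subgroup G) : Set G) :=
    CfsgLib.Coprime.sup_le_normalizer hKV h.invariant ha
  refine fun v hv => mem_centralizer_iff.2 fun c hc => ?_
  exact (NormFpf.commute hap hnW hW (mem_sup_left hv) (mem_sup_right hc)
    ((h.cop.coprime_dvd_left (orderOf_dvd_natCard _ hc)).coprime_dvd_right
      (orderOf_dvd_natCard _ (hVQ hv))).symm).eq.symm

/-- `[D, Q]` lies in each normal subgroup of `Q` containing `M_σ ∩ C(K)`. -/
theorem Split.commutator_mem {V : Subgroup G} (hVQ : V ≤ Q) (hMV : M ≤ normalizer (V : Set G))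
    (hfix : Cfsg.sigmaCore M ⊓ centralizer (K : Set G) ≤ V) {x c : G} (hx : x ∈ Q) (hc : c ∈ D) :
    c * x * c⁻¹ * x⁻¹ ∈ V := by
  obtain ⟨p, a, hp, ha, ha1, hap, hpc⟩ := Split.exists_elt hG hM d h
  haveI : Fact p.Prime := ⟨hp⟩
  exact Sect.commute_mod (H := Cfsg.sigmaCore M) hap (TauTwo.sigmaCore_normal hG M (d.hall.1 ha))
    (hMV (d.hall.1 ha)) (hVQ.trans h.compl.1) ((map_subtype_le _).trans hMV)
    (CfsgLib.Coprime.isSolvable_of_le (hVQ.trans h.compl.1) (sigmaCore_solvable hG hM))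
    (hpc.coprime_dvd_right (card_dvd_of_le (hVQ.trans h.compl.1)))
    ((fixed_eq hG hM d.hall ha ha1).le.trans hfix) (h.compl.2.1 hc) (h.compl.1 hx)
    ((h.cop.coprime_dvd_left (orderOf_dvd_natCard _ hc)).coprime_dvd_right
      (orderOf_dvd_natCard _ hx))

theorem Split.frattini_le : (frattini Q).map Q.subtype ≤ Q ⊓ centralizer (D : Set G) := by
  haveI : Fact (Nat.card ↥(Cfsg.sigmaCore M ⊓ centralizer (K : Set G))).Prime := ⟨h.prime⟩
  have hMΦ : M ≤ normalizer (((frattini Q).map Q.subtype : Subgroup G) : Set G) :=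
    h.normal.trans (CfsgLib.PGroup.normalizer_le_normalizer_map_char Q (frattini Q))
  refine le_inf (map_subtype_le _) (Split.le_centralizer hG hM d h (map_subtype_le _)
    (d.hall.1.trans hMΦ) ((Split.le_M hG hM d h).2.trans hMΦ) fun hfix => ?_)
  refine Split.not_centralize hG hM d h
    (CfsgLib.Coprime.le_centralizer_of_trivial_on_frattini_quotient
      ((Split.le_M hG hM d h).2.trans h.normal)
      (h.cop.coprime_dvd_right (card_subgroup_dvd_card _)) fun c hc x hx => ?_)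
  exact Split.commutator_mem hG hM d h (map_subtype_le _) hMΦ hfix hx hc

theorem Split.pow_and_commutator_mem {a b : G} (ha : a ∈ Q) (hb : b ∈ Q) :
    a ^ Nat.card ↥(Cfsg.sigmaCore M ⊓ centralizer (K : Set G)) ∈
        Q ⊓ centralizer (D : Set G) ∧
      a * b * a⁻¹ * b⁻¹ ∈ Q ⊓ centralizer (D : Set G) := by
  haveI : Fact (Nat.card ↥(Cfsg.sigmaCore M ⊓ centralizer (K : Set G))).Prime := ⟨h.prime⟩
  refine ⟨Split.frattini_le hG hM d h ⟨(⟨a, ha⟩ : Q) ^ _,
    CfsgLib.Coprime.pow_mem_frattini h.sylow.isPGroup _, rfl⟩,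
    Split.frattini_le hG hM d h ⟨⁅(⟨a, ha⟩ : Q), ⟨b, hb⟩⁆,
      CfsgLib.Coprime.commutator_le_frattini h.sylow.isPGroup
        (commutator_mem_commutator (mem_top _) (mem_top _)), rfl⟩⟩

theorem Split.normal_fixed :
    M ≤ normalizer ((Q ⊓ centralizer (D : Set G) : Subgroup G) : Set G) := by
  refine Split.M_le hG hM d h ?_ ?_ ?_
  · exact CfsgLib.Coprime.inf_le_normalizer (d.hall.1.trans h.normal)
      (h.invariant.trans (CfsgLib.Coprime.normalizer_le_normalizer_centralizer D))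
  · have hinv : ∀ y ∈ Q, ∀ x ∈ Q ⊓ centralizer (D : Set G),
        y * x * y⁻¹ ∈ Q ⊓ centralizer (D : Set G) := fun y hy x hx => by
      rw [show y * x * y⁻¹ = (y * x * y⁻¹ * x⁻¹) * x by group]
      exact mul_mem (Split.pow_and_commutator_mem hG hM d h hy (mem_inf.1 hx).1).2 hx
    intro y hy
    refine mem_normalizer_iff.2 fun x => ⟨hinv y hy x, fun hx => ?_⟩
    have := hinv y⁻¹ (inv_mem hy) _ hx
    rwa [show y⁻¹ * (y * x * y⁻¹) * y⁻¹⁻¹ = x by group] at this
  · exact CfsgLib.Coprime.inf_le_normalizer ((Split.le_M hG hM d h).2.trans h.normal)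
      (le_normalizer.trans (CfsgLib.Coprime.normalizer_le_normalizer_centralizer D))

/-- `Q = [Q, D] C_Q(D)`: a normal subgroup containing `[Q,D]` and `C_Q(D)` is `Q`. -/
theorem Split.eq_of_commutator_mem {V : Subgroup G} (hVQ : V ≤ Q)
    (hQ0 : Q ⊓ centralizer (D : Set G) ≤ V)
    (hcom : ∀ c ∈ D, ∀ x ∈ Q, c * x * c⁻¹ * x⁻¹ ∈ V) : V = Q := by
  have hDQ : D ≤ normalizer (Q : Set G) := (Split.le_M hG hM d h).2.trans h.normal
  haveI : Fact (Nat.card ↥(Cfsg.sigmaCore M ⊓ centralizer (K : Set G))).Prime := ⟨h.prime⟩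
  refine le_antisymm hVQ ?_
  rw [← CfsgLib.Coprime.commutator_sup_centralizer hDQ h.cop
    (Or.inl (CfsgLib.Coprime.isSolvable_of_isNilpotent (Split.nilpotent_D hG hM d h)))]
  refine sup_le (commutator_le.2 fun x hx c hc => ?_) hQ0
  rw [commutatorElement_def, show x * c * x⁻¹ * c⁻¹ = (c * x * c⁻¹ * x⁻¹)⁻¹ by group]
  exact inv_mem (hcom c hc x hx)

theorem Split.fixed_not_le :
    ¬ Cfsg.sigmaCore M ⊓ centralizer (K : Set G) ≤ Q ⊓ centralizer (D : Set G) := by
  intro hfix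
  refine Split.not_centralize hG hM d h (le_centralizer_iff.1 ?_)
  have := Split.eq_of_commutator_mem hG hM d h inf_le_left le_rfl fun c hc x hx =>
    Split.commutator_mem hG hM d h inf_le_left (Split.normal_fixed hG hM d h) hfix hx hc
  exact this.ge.trans inf_le_right

theorem Split.fixed_inf :
    Cfsg.sigmaCore M ⊓ centralizer (K : Set G) ⊓ (Q ⊓ centralizer (D : Set G)) = ⊥ := by
  refine (eq_bot_iff_forall _).2 fun y hy => ?_
  by_contra hy1
  refine Split.fixed_not_le hG hM d h ?_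
  have hz : zpowers y = Cfsg.sigmaCore M ⊓ centralizer (K : Set G) :=
    eq_of_le_of_card_ge (zpowers_le.2 (mem_inf.1 hy).1) (le_of_eq (by
      rw [Nat.card_zpowers]
      exact (((h.prime.eq_one_or_self_of_dvd _ (orderOf_dvd_natCard _ (mem_inf.1 hy).1))).resolve_left
        fun e' => hy1 (orderOf_eq_one_iff.1 e')).symm))
  exact hz ▸ zpowers_le.2 (mem_inf.1 hy).2

/-- `|K|` is prime, `|Q : C_Q(D)| = q ^ |K|` and `D'` centralizes `Q`. -/
theorem Split.frobenius : (Nat.card K).Prime ∧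
    Nat.card Q = Nat.card ↥(Q ⊓ centralizer (D : Set G)) *
      Nat.card ↥(Cfsg.sigmaCore M ⊓ centralizer (K : Set G)) ^ Nat.card K ∧
    ⁅D, D⁆ ≤ centralizer (Q : Set G) := by
  obtain ⟨-, hK1⟩ := Split.bot hG hM d h
  haveI : Fact (Nat.card ↥(Cfsg.sigmaCore M ⊓ centralizer (K : Set G))).Prime := ⟨h.prime⟩
  obtain ⟨hQM, hDM⟩ := Split.le_M hG hM d h
  have hcK := Split.coprime_K hG hM d h
  have hQK : Q ⊓ centralizer (K : Set G) = Cfsg.sigmaCore M ⊓ centralizer (K : Set G) :=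
    le_antisymm (inf_le_inf_right _ h.compl.1) (le_inf h.fix_le inf_le_right)
  have hD1 : D ≠ ⊥ := fun e => Split.not_centralize hG hM d h (e ▸ bot_le)
  have hlt : Q ⊓ centralizer (D : Set G) < Q := lt_of_le_of_ne inf_le_left fun e =>
    Split.not_centralize hG hM d h (le_centralizer_iff.1 (e.ge.trans inf_le_right))
  obtain ⟨hp, hcard, hder⟩ := Sect.frobenius_section (V := Q ⊓ centralizer (D : Set G)) (Q := Q)
    hD1 hK1 (CfsgLib.Coprime.disjoint_of_coprime_card
      ((hcK.coprime_dvd_right (card_dvd_of_le h.compl.2.1)).symm))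
    h.invariant (fun r hr hr1 => Split.fpf hG hM d h hr hr1) hlt h.sylow.isPGroup.isNilpotent
    (hQM.trans (Split.normal_fixed hG hM d h)) (hDM.trans (Split.normal_fixed hG hM d h))
    (d.hall.1.trans (Split.normal_fixed hG hM d h)) (hDM.trans h.normal)
    (d.hall.1.trans h.normal) h.cop (hcK.coprime_dvd_right (card_dvd_of_le h.compl.1)) le_rfl
    (fun x hx hx1 => (inf_le_inf_right _ h.compl.1).trans
      ((fixed_eq hG hM d.hall hx hx1).le.trans inf_le_right))
    (le_bot_iff.1 ((le_inf (le_inf (inf_le_left.trans (inf_le_left.trans h.compl.1)) inf_le_right)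
      inf_le_left).trans (Split.fixed_inf hG hM d h).le))
  rw [hQK] at hcard hder
  refine ⟨hp, hcard, le_centralizer_iff.1 fun x hx => ?_⟩
  have hcyc : IsCyclic ↥(Cfsg.sigmaCore M ⊓ centralizer (K : Set G)) := isCyclic_of_prime_card rfl
  have hDD : ⁅D, D⁆ ≤ D := commutator_le_self D
  obtain ⟨n, hn, hxn⟩ := CfsgLib.Coprime.exists_fixed_in_coset (A := ⁅D, D⁆)
    (hDD.trans (hDM.trans (Split.normal_fixed hG hM d h)))
    ((h.cop.coprime_dvd_left (card_dvd_of_le hDD)).coprime_dvd_right (card_dvd_of_le inf_le_left))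
    (Or.inl (CfsgLib.Coprime.isSolvable_of_le hDD
      (CfsgLib.Coprime.isSolvable_of_isNilpotent (Split.nilpotent_D hG hM d h))))
    ((hQM.trans (Split.normal_fixed hG hM d h)) hx) (fun e he => hder hcyc e he x hx)
  exact (mul_mem_cancel_right (centralizer_le hDD (mem_inf.1 hn).2)).1 hxn

/-- `Q / C_Q(D)` is a chief factor of `M`. -/
theorem Split.minimal {N : Subgroup G} (h1 : Q ⊓ centralizer (D : Set G) < N) (h2 : N < Q) :
    ¬ M ≤ normalizer (N : Set G) := by
  intro hMN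
  by_cases hfix : Cfsg.sigmaCore M ⊓ centralizer (K : Set G) ≤ N
  · exact h2.ne (Split.eq_of_commutator_mem hG hM d h h2.le h1.le fun c hc x hx =>
      Split.commutator_mem hG hM d h h2.le hMN hfix hx hc)
  · exact h1.not_ge (le_inf h2.le (Split.le_centralizer hG hM d h h2.le (d.hall.1.trans hMN)
      ((Split.le_M hG hM d h).2.trans hMN) hfix))

theorem Split.le_fittingHall : Q ≤ Cfsg.fittingHallOf M := by
  haveI : Fact (Nat.card ↥(Cfsg.sigmaCore M ⊓ centralizer (K : Set G))).Prime := ⟨h.prime⟩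
  have hQM := (Split.le_M hG hM d h).1
  have hle : Q.subgroupOf M ≤ Cfsg.fittingHall M := by
    refine le_sSup ⟨normal_subgroupOf_of_le_normalizer h.normal, ?_, ?_⟩
    · exact (h.sylow.isPGroup.of_equiv (subgroupOfEquivOfLe hQM).symm).isNilpotent
    · rw [Nat.card_congr (subgroupOfEquivOfLe hQM).toEquiv]
      obtain ⟨j, hj⟩ := IsPGroup.iff_card.1 h.sylow.isPGroup
      rw [hj]
      refine (h.prime.coprime_iff_not_dvd.2 ?_).pow_left j
      show ¬ _ ∣ Q.relIndex M
      rw [← relIndex_mul_relIndex Q (Cfsg.sigmaCore M) M h.compl.1 (map_subtype_le _)]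
      exact fun hd => (h.prime.dvd_mul.1 hd).elim (show ¬ _ from h.sylow.toSylow.not_dvd_index)
        ((sigmaCore_hall hG hM).1.2.2 _ h.prime
          ((sigmaCore_hall hG hM).1.2.1 _ h.prime (card_dvd_of_le inf_le_left)))
  exact fun z hz => ⟨⟨z, hQM hz⟩, hle (mem_subgroupOf.2 hz), rfl⟩

theorem Split.mem_beta :
    Nat.card ↥(Cfsg.sigmaCore M ⊓ centralizer (K : Set G)) ∈ Cfsg.beta M := by
  by_contra hb
  set q := Nat.card ↥(Cfsg.sigmaCore M ⊓ centralizer (K : Set G)) with hq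
  haveI : Fact q.Prime := ⟨h.prime⟩
  obtain ⟨P, N, hN, hc⟩ := CfsgLib.CFun.complement_of_le_derived hG hM hb
    (CfsgLib.CFun.sigmaCore_le_derived hG hM) (card_dvd_of_le inf_le_left)
  have hcardσ := Kappa.card_of_compl h.compl
  have hPc : Nat.card (P : Subgroup ↥(Cfsg.sigmaCore M)) = Nat.card Q := by
    rw [← Nat.card_congr (subgroupOfEquivOfLe h.compl.1).toEquiv]
    exact (Sylow.equiv P h.sylow.toSylow).toEquiv |> Nat.card_congr
  have hNc : Nat.card N = Nat.card D := by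
    have e := hc.card_mul
    rw [hPc, hcardσ, mul_comm] at e
    exact Nat.eq_of_mul_eq_mul_left Nat.card_pos e
  have hDN : D.subgroupOf (Cfsg.sigmaCore M) ≤ N := by
    intro x hx
    rw [← QuotientGroup.eq_one_iff, ← orderOf_eq_one_iff]
    refine Nat.eq_one_of_dvd_coprimes h.cop
      ((orderOf_map_dvd (QuotientGroup.mk' N) x).trans
        ((orderOf_coe x).symm.dvd.trans (orderOf_dvd_natCard _ hx))) ?_
    refine (_root_.orderOf_dvd_natCard _).trans ?_
    rw [← index, hc.symm.index_eq_card, hPc]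
  have e : D.subgroupOf (Cfsg.sigmaCore M) = N := eq_of_le_of_card_ge hDN (by
    rw [hNc, Nat.card_congr (subgroupOfEquivOfLe h.compl.2.1).toEquiv])
  have hσD : Cfsg.sigmaCore M ≤ normalizer (D : Set G) :=
    normal_subgroupOf_iff_le_normalizer h.compl.2.1 |>.1 (e ▸ hN)
  exact Split.not_centralize hG hM d h (TauThree.le_centralizer_of_normalize
    (h.compl.2.1.trans ((map_subtype_le _).trans h.normal)) (h.compl.1.trans hσD)
    (inf_comm Q D ▸ h.compl.2.2.1))

/-- All complements of `Q` are conjugate under `Q` to `D`. -/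
theorem Split.compl_conj {D' : Subgroup G} (hD' : Cfsg.IsComplIn Q D' (Cfsg.sigmaCore M)) :
    ∃ x ∈ Q, conjBy x D' = D := by
  have hcD : Nat.card D' = Nat.card D := Nat.eq_of_mul_eq_mul_left Nat.card_pos
    ((Kappa.card_of_compl hD').symm.trans (Kappa.card_of_compl h.compl))
  refine CfsgLib.Coprime.sz_conj_in ((Split.le_M hG hM d h).2.trans h.normal) h.cop.symm ?_ hcD
    (Or.inl (CfsgLib.Coprime.isSolvable_of_isNilpotent (Split.nilpotent_D hG hM d h)))
  intro x hx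
  obtain ⟨a, ha, b, hb, rfl⟩ := h.compl.2.2.2 x (hD'.2.1 hx)
  exact mul_mem (mem_sup_right ha) (mem_sup_left hb)

theorem Split.compl_spec {D' : Subgroup G} (hD' : Cfsg.IsComplIn Q D' (Cfsg.sigmaCore M)) :
    Group.IsNilpotent D' ∧ Q ⊓ centralizer (D' : Set G) = Q ⊓ centralizer (D : Set G) := by
  obtain ⟨x, hx, e⟩ := Split.compl_conj hG hM d h hD'
  refine ⟨?_, ?_⟩
  · have hnil := Split.nilpotent_D hG hM d h
    rw [← e] at hnil
    haveI : Group.IsNilpotent ↥(D'.map (MulAut.conj x).toMonoidHom) := hnil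
    exact Group.nilpotent_of_mulEquiv
      (D'.equivMapOfInjective (MulAut.conj x).toMonoidHom (MulAut.conj x).injective).symm
  · have hxN : x ∈ normalizer ((Q ⊓ centralizer (D : Set G) : Subgroup G) : Set G) :=
      Split.normal_fixed hG hM d h ((Split.le_M hG hM d h).1 hx)
    ext z
    have key : z ∈ centralizer (D' : Set G) ↔ x * z * x⁻¹ ∈ centralizer (D : Set G) := by
      rw [mem_centralizer_iff, mem_centralizer_iff, ← e]
      constructor
      · rintro h' _ ⟨c, hc, rfl⟩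
        show x * c * x⁻¹ * (x * z * x⁻¹) = x * z * x⁻¹ * (x * c * x⁻¹)
        calc x * c * x⁻¹ * (x * z * x⁻¹) = x * (c * z) * x⁻¹ := by group
          _ = _ := by rw [h' c hc]; group
      · intro h' c hc
        have h1 := h' _ (CfsgLib.Coprime.conj_mem_conjBy (g := x) hc)
        calc c * z = x⁻¹ * ((x * c * x⁻¹) * (x * z * x⁻¹)) * x := by group
          _ = _ := by rw [h1]; group
    have hQiff : z ∈ Q ↔ x * z * x⁻¹ ∈ Q := mem_normalizer_iff.1 (le_normalizer hx) z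
    rw [mem_inf, key, hQiff, ← mem_inf, ← mem_normalizer_iff.1 hxN z]

end CfsgLib.CFun.FifteenTwo
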