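import Cfsg.Agent.Lib.CFun.OddTransitivity

/-!
# Transitivity passes to subnormal overgroups
-/

set_option autoImplicit false
set_option linter.style.haveILetI false
set_option linter.unusedSectionVars false

open Subgroup
open scoped commutatorElement
open CfsgLib.Coprime (conjBy conjBy_conjBy conjBy_one conjBy_eq_self_iff conj_mem_of_le_normalizer
  IsSylowIn mem_conjBy conj_mem_conjBy)

namespace CfsgLib.CFun

universe u

variable {G : Type u} [Group G] [Finite G] {A B : Subgroup G} {q : ℕ} [hq : Fact q.Prime]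

local notation "ρ'" => Cfsg.primesNotDvd (Nat.card A)
local notation "Θ" => Cfsg.piCoreOf (Cfsg.primesNotDvd (Nat.card A)) (centralizer (A : Set G))

/-- Transitivity of `Θ` on maximal invariant `q`-subgroups. -/
def IsTrans (A : Subgroup G) (q : ℕ) : Prop :=
  ∀ Q₁ Q₂ : Subgroup G, IsMaxInv A q Q₁ → IsMaxInv A q Q₂ →
    ∃ c ∈ Cfsg.piCoreOf (Cfsg.primesNotDvd (Nat.card A)) (centralizer (A : Set G)), Q₂ = conjBy c Q₁

theorem le_normalizer_piCoreOf_of_le {π : Set ℕ} (X : Subgroup G) :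
    normalizer (X : Set G) ≤ normalizer (Cfsg.piCoreOf π X : Set G) := by
  intro g hg
  let f : X ≃* X :=
    { toFun := fun x => ⟨g * x * g⁻¹, (mem_normalizer_iff.1 hg x).1 x.2⟩
      invFun := fun x => ⟨g⁻¹ * x * g, (mem_normalizer_iff''.1 hg x).1 x.2⟩
      left_inv := fun x => Subtype.ext (by simp [mul_assoc])
      right_inv := fun x => Subtype.ext (by simp [mul_assoc])
      map_mul' := fun x y => Subtype.ext (by simp [mul_assoc]) }
  rw [← conjBy_eq_self_iff, CfsgLib.Coprime.conjBy]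
  show ((Cfsg.piCore π X).map X.subtype).map (MulAut.conj g).toMonoidHom = (Cfsg.piCore π X).map X.subtype
  conv_rhs => rw [← CfsgLib.Coprime.map_piCore_equiv f π]
  rw [map_map, map_map]
  rfl

theorem primesNotDvd_eq (hAB : A ≤ B)
    (h : ∀ r : ℕ, r.Prime → r ∣ Nat.card B → r ∣ Nat.card A) :
    Cfsg.primesNotDvd (Nat.card B) = Cfsg.primesNotDvd (Nat.card A) := by
  ext r
  exact ⟨fun hr => ⟨hr.1, fun hd => hr.2 (hd.trans (card_dvd_of_le hAB))⟩,
    fun hr => ⟨hr.1, fun hd => hr.2 (h r hr.1 hd)⟩⟩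

/-- The data pass to an overgroup with the same primes. -/
theorem TransData.overgroup (hd : TransData A q) (hAB : A ≤ B) (hB : B ≠ ⊤)
    (h : ∀ r : ℕ, r.Prime → r ∣ Nat.card B → r ∣ Nat.card A) : TransData B q := by
  refine ⟨⟨fun e => hd.hyp.1 (le_bot_iff.1 (e ▸ hAB)), hB, fun X hX hBX => ?_⟩, hd.simple, hd.nonab,
    hd.solv, fun hd' => hd.notDvd (h q hq.out hd')⟩
  rw [primesNotDvd_eq hAB h]
  refine le_antisymm (sSup_le ?_) (le_sSup ⟨piCoreOf_le X, isPiNum_piCoreOf X,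
    fun b hb => le_normalizer_piCoreOf_of_le X (le_normalizer (hBX hb))⟩)
  rintro Y ⟨hYX, hY, hBY⟩
  exact hd.le_core hX (hAB.trans hBX) hYX hY (hAB.trans hBY)

variable (hd : TransData A q)
include hd

/-- `π(A)'`-subgroups of `C(A)` normalized by `A` lie in `Θ`. -/
theorem TransData.le_theta {U : Subgroup G} (hU : CfsgLib.Coprime.IsPiNum ρ' (Nat.card U))
    (hUA : U ≤ centralizer (A : Set G)) : U ≤ Θ := fun u hu =>
  hd.mem_theta (hd.le_core (hd.normalizer_ne_top hd.hyp.1 hd.hyp.2.1) le_normalizer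
    (hUA.trans (CfsgLib.Coprime.centralizer_le_normalizer_self A)) hU
    ((le_centralizer_iff.1 hUA).trans (CfsgLib.Coprime.centralizer_le_normalizer_self U)) hu) (hUA hu)

/-- Part one: `Θ ∩ C(P)` is the `π(A)'`-core of `C(P)`. -/
theorem TransData.theta_inf {P : Subgroup G} (hAP : A ≤ P) :
    Θ ⊓ centralizer (P : Set G) = Cfsg.piCoreOf ρ' (centralizer (P : Set G)) := by
  set C := centralizer (P : Set G)
  refine le_antisymm ?_ (le_inf (hd.le_theta (isPiNum_piCoreOf C)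
    ((piCoreOf_le C).trans (centralizer_le hAP))) (piCoreOf_le C))
  haveI : ((Θ ⊓ C).subgroupOf C).Normal :=
    normal_subgroupOf_of_le_normalizer (CfsgLib.Coprime.inf_le_normalizer
      (((centralizer_le hAP).trans le_normalizer).trans (le_normalizer_piCoreOf_of_le _)) le_normalizer)
  have h2 : (Θ ⊓ C).subgroupOf C ≤ Cfsg.piCore ρ' C := CfsgLib.Coprime.le_piCore (by
    rw [Nat.card_congr (subgroupOfEquivOfLe inf_le_right).toEquiv]
    exact (isPiNum_piCoreOf _).of_dvd (card_dvd_of_le inf_le_left))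
  exact fun x hx => ⟨⟨x, hx.2⟩, h2 hx, rfl⟩

/-- The normal step. -/
theorem TransData.step (htr : IsTrans A q) (hAB : A ≤ B) (hn : B ≤ normalizer (A : Set G))
    (hB : B ≠ ⊤) (h : ∀ r : ℕ, r.Prime → r ∣ Nat.card B → r ∣ Nat.card A) :
    IsTrans B q ∧ ∀ Q : Subgroup G, IsMaxInv B q Q → IsMaxInv A q Q := by
  have hpi := primesNotDvd_eq hAB h
  have hdB := hd.overgroup hAB hB h
  have hBΘ : B ≤ normalizer (Θ : Set G) :=
    (hn.trans (CfsgLib.Coprime.normalizer_le_normalizer_centralizer A)).trans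
      (le_normalizer_piCoreOf_of_le _)
  have hcop : ∀ {W : Subgroup G}, CfsgLib.Coprime.IsPiNum ρ' (Nat.card W) →
      (Nat.card B).Coprime (Nat.card W) := fun hW =>
    coprime_of_isPiNum (A := B) (by rw [hpi]; exact hW)
  have hsolv : ∀ W : Subgroup G, Group.IsSolvable B ∨ Group.IsSolvable W :=
    fun _ => Or.inl (hd.solv B hB)
  have hperm : ∀ {Q : Subgroup G}, IsMaxInv A q Q → ∀ b ∈ B, IsMaxInv A q (conjBy b Q) := by
    intro Q hQ b hb
    have hA : ∀ {g : G}, g ∈ normalizer (A : Set G) → ∀ {R : Subgroup G},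
        A ≤ normalizer (R : Set G) → A ≤ normalizer (conjBy g R : Set G) := by
      intro g hg R hR a ha
      refine conjBy_eq_self_iff.1 ?_
      have h1 := conjBy_eq_self_iff.2 (hR ((mem_normalizer_iff''.1 hg a).1 ha))
      conv_rhs => rw [← h1]
      rw [conjBy_conjBy, conjBy_conjBy]
      congr 1
      group
    refine ⟨hQ.1.map _, hA (hn hb) hQ.2.1, fun R hR hAR hle => ?_⟩
    have h1 : Q ≤ conjBy b⁻¹ R := fun x hx => by
      rw [mem_conjBy, inv_inv]; exact hle (conj_mem_conjBy hx)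
    have h2 := hQ.2.2 _ (hR.map _) (hA (inv_mem (hn hb)) hAR) h1
    rw [← h2, conjBy_conjBy, mul_inv_cancel, conjBy_one]
  have hsub : ∀ Q : Subgroup G, IsMaxInv B q Q → IsMaxInv A q Q := by
    intro Q hQ
    by_cases hQ1 : Q = ⊥
    · obtain ⟨S, hS, -⟩ := exists_isMaxInv_ge (q := q) hQ.1 (hAB.trans hQ.2.1)
      obtain ⟨x, hx, hxB⟩ := CfsgLib.Coprime.exists_invariant_conj hBΘ
        (hcop (isPiNum_piCoreOf _)) (hsolv _) (S := S) fun b hb => by
          obtain ⟨c, hc, e⟩ := htr S _ hS (hperm hS b hb)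
          exact ⟨c, hc, e⟩
      have h1 : conjBy x S = ⊥ := (hQ.2.2 _ (hS.1.map _) hxB (hQ1 ▸ bot_le)).trans hQ1
      have := hS.conj (hd.theta_le hx)
      rw [h1] at this
      rw [hQ1]; exact this
    obtain ⟨S, hS, hQS⟩ := exists_isMaxInv_ge (q := q) hQ.1 (hAB.trans hQ.2.1)
    rcases eq_or_ne S Q with e | hne
    · exact e ▸ hS
    exfalso
    set N := normalizer (Q : Set G) with hN
    have hNtop : N ≠ ⊤ := hd.normalizer_ne_top hQ1 (hd.ne_top_of_isPGroup hQ.1)
    have hBN : B ≤ N := hQ.2.1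
    set W := Cfsg.piCoreOf ρ' N
    have hWB : B ≤ normalizer (W : Set G) :=
      (hBN.trans le_normalizer).trans (le_normalizer_piCoreOf_of_le N)
    have hin : ∀ {U : Subgroup G}, U ≤ N → IsPGroup q U → A ≤ normalizer (U : Set G) → U ≤ W :=
      fun hU hUq hUA => hd.le_core hNtop (hAB.trans hBN) hU (isPiNum_of_isPGroup hd.notDvd hUq) hUA
    obtain ⟨P, hP, hQP, hPB⟩ := CfsgLib.Coprime.le_invariant_sylow hWB (hcop (isPiNum_piCoreOf N))
      (hsolv _) (hin le_normalizer hQ.1 (hAB.trans hQ.2.1)) hQ.1 hQ.2.1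
    have hPQ : P = Q := hQ.2.2 P hP.isPGroup hPB hQP
    set R := N ⊓ S
    have hQR : Q ≤ R := le_inf le_normalizer hQS
    have hRW : R ≤ W := hin inf_le_left (hS.1.to_le inf_le_right)
      (CfsgLib.Coprime.inf_le_normalizer ((hAB.trans hBN).trans le_normalizer) hS.2.1)
    have hlt : Nat.card Q < Nat.card R := CfsgLib.Invol.card_lt_of_not_le hQR le_rfl
      (CfsgLib.Invol.normalizer_grows hS.1 hQS hne.symm)
    have hle : Nat.card R ≤ Nat.card Q := by
      obtain ⟨k, hk⟩ := IsPGroup.iff_card.1 (hS.1.to_le (inf_le_right : R ≤ S))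
      have := card_dvd_of_le hRW
      rw [hk] at this
      rw [← hPQ, hP.2, hk]
      exact Nat.pow_le_pow_right hq.out.pos
        ((hq.out.pow_dvd_iff_le_factorization Nat.card_pos.ne').1 this)
    omega
  refine ⟨fun Q₁ Q₂ h₁ h₂ => ?_, hsub⟩
  obtain ⟨k, hk, e⟩ := htr Q₁ Q₂ (hsub Q₁ h₁) (hsub Q₂ h₂)
  obtain ⟨c, hc, e'⟩ := CfsgLib.Coprime.invariant_conj_unique hBΘ (hcop (isPiNum_piCoreOf _))
    (hsolv _) h₁.2.1 h₂.2.1 hk e.symm
  refine ⟨c, ?_, e'.symm⟩
  rw [hpi, ← hd.theta_inf hAB]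
  exact hc

/-- Subnormal overgroups. -/
theorem TransData.subnormal (htr : IsTrans A q) {P : Subgroup G} (hP : P ≠ ⊤) (hAP : A ≤ P)
    (h : ∀ r : ℕ, r.Prime → r ∣ Nat.card P → r ∣ Nat.card A)
    (hsn : (A.subgroupOf P).IsSubnormal) :
    IsTrans P q ∧ ∀ Q : Subgroup G, IsMaxInv P q Q → IsMaxInv A q Q := by
  suffices key : ∀ H : Subgroup P, H.IsSubnormal → A ≤ H.map P.subtype →
      IsTrans (H.map P.subtype) q →
      IsTrans P q ∧ ∀ Q : Subgroup G, IsMaxInv P q Q → IsMaxInv (H.map P.subtype) q Q by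
    have := key _ hsn (by rw [map_subgroupOf_eq_of_le hAP]) (by rwa [map_subgroupOf_eq_of_le hAP])
    rwa [map_subgroupOf_eq_of_le hAP] at this
  intro H hH
  induction hH with
  | top =>
    intro hA ht
    rw [← MonoidHom.range_eq_map, P.range_subtype] at ht ⊢
    exact ⟨ht, fun Q hQ => hQ⟩
  | step H K hHK hK hN ih =>
    intro hA ht
    set H' := H.map P.subtype with hH'
    set K' := K.map P.subtype with hK'
    have hHK' : H' ≤ K' := map_mono hHK
    have hKP : K' ≤ P := map_subtype_le K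
    have hdH : TransData H' q := hd.overgroup hA (fun e => hP (top_le_iff.1 (e ▸ map_subtype_le H)))
      fun r hr hd' => h r hr (hd'.trans (card_dvd_of_le (map_subtype_le H)))
    have hn : K' ≤ normalizer (H' : Set G) :=
      (map_mono ((normal_subgroupOf_iff_le_normalizer hHK).1 hN)).trans (le_normalizer_map P.subtype)
    obtain ⟨ht', hsub⟩ := hdH.step ht hHK' hn (fun e => hP (top_le_iff.1 (e ▸ hKP)))
      fun r hr hd' => (h r hr (hd'.trans (card_dvd_of_le hKP))).trans (card_dvd_of_le hA)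
    obtain ⟨ht'', hsub'⟩ := ih (hA.trans hHK') ht'
    exact ⟨ht'', fun Q hQ => hsub Q (hsub' Q hQ)⟩

end CfsgLib.CFun
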