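import Cfsg.Agent.Lib.CFun.OddCores
import Cfsg.Agent.Lib.CFun.OddOvergroup

/-!
# The Fitting subgroup of a maximal subgroup
-/

set_option autoImplicit false
set_option linter.style.haveILetI false
set_option linter.unusedSectionVars false

open Subgroup
open scoped commutatorElement
open CfsgLib.Coprime (conj_mem_of_le_normalizer)

namespace CfsgLib.CFun

universe u

variable {G : Type u} [Group G] [Finite G] {H : Subgroup G}

/-- The centre of `O_s(H)` inside the ambient group. -/
def zCore (H : Subgroup G) (s : ℕ) : Subgroup G := core H s ⊓ centralizer (core H s : Set G)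

theorem zCore_le {s : ℕ} : zCore H s ≤ core H s := inf_le_left

theorem le_normalizer_zCore {s : ℕ} : H ≤ normalizer (zCore H s : Set G) :=
  CfsgLib.Coprime.inf_le_normalizer le_normalizer_core
    (le_normalizer_core.trans (CfsgLib.Coprime.normalizer_le_normalizer_centralizer _))

theorem zCore_ne_bot {s : ℕ} [Fact s.Prime] (h : core H s ≠ ⊥) : zCore H s ≠ ⊥ := by
  haveI : Nontrivial (core H s) := (nontrivial_iff_ne_bot _).2 h
  haveI := (isPGroup_core (H := H) (s := s)).center_nontrivial
  obtain ⟨z, hz⟩ := exists_ne (1 : center (core H s))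
  intro hb
  have : ((z : core H s) : G) ∈ zCore H s := ⟨z.1.2, mem_centralizer_iff.2 fun a ha =>
    congrArg Subtype.val (mem_center_iff.1 z.2 ⟨a, ha⟩)⟩
  rw [hb, mem_bot] at this
  exact hz (Subtype.ext (Subtype.ext this))

theorem zCore_le_center {s : ℕ} [Fact s.Prime] :
    zCore H s ≤ Cfsg.fittingOf H ⊓ centralizer (Cfsg.fittingOf H : Set G) := by
  refine le_inf (zCore_le.trans core_le_fittingOf) (le_centralizer_iff.1 ?_)
  refine fittingOf_le_of_cores fun t ht => ?_
  haveI : Fact t.Prime := ⟨ht⟩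
  rcases eq_or_ne t s with rfl | hne
  · exact le_centralizer_iff.1 inf_le_right
  · exact (le_centralizer_of_inf_eq_bot (core_le.trans le_normalizer_core)
      (core_le.trans le_normalizer_core) (inf_eq_bot_of_isPGroup isPGroup_core
        (not_dvd_of_isPGroup hne.symm isPGroup_core))).trans (centralizer_le zCore_le)

variable (hG : Cfsg.IsMinSimpleOddOrder G) (hH : IsCoatom H)
include hG hH

theorem centralizer_zCore_le {s : ℕ} [Fact s.Prime] (h : core H s ≠ ⊥) :
    centralizer (zCore H s : Set G) ≤ H :=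
  ms_centralizer_le hG hH (zCore_le.trans core_le) (zCore_ne_bot h) le_normalizer_zCore

theorem zCore_le_coCore {L A : Subgroup G} (hL : L ≠ ⊤) (hAL : A ≤ L) {r q : ℕ} [Fact r.Prime]
    [Fact q.Prime] (hrq : q ≠ r) (hr : core H r ≠ ⊥) (hZr : zCore H r ≤ A) (hZq : zCore H q ≤ A) :
    zCore H q ≤ coCore L r := by
  haveI : Group.IsSolvable L := ms_solvable hG hL
  refine le_coCore_of_centralizer (isPGroup_core.to_le zCore_le) (zCore_ne_bot hr) (hZr.trans hAL)
    (hZq.trans hAL) (not_dvd_of_isPGroup hrq (isPGroup_core.to_le zCore_le)) ?_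
    (inf_le_right.trans ((centralizer_zCore_le hG hH hr).trans le_normalizer_zCore))
  exact zCore_le_center.trans (inf_le_right.trans
    (centralizer_le (zCore_le.trans core_le_fittingOf)))

/-- A subgroup containing the centre of the Fitting subgroup and normalizing no `π'`-subgroup lies
in only one maximal subgroup. -/
theorem unique_of_inv (h2 : 2 ≤ (Nat.card (Cfsg.fittingOf H)).primeFactors.card) {A : Subgroup G}
    (hAH : A ≤ H)
    (hZ : ∀ s : ℕ, s.Prime → zCore H s ≤ A)
    (hinv : ∀ Y : Subgroup G, A ≤ normalizer (Y : Set G) →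
      (∀ s ∈ (Nat.card (Cfsg.fittingOf H)).primeFactors, ¬ s ∣ Nat.card Y) → Y = ⊥)
    {L : Subgroup G} (hL : IsCoatom L) (hAL : A ≤ L) : L = H := by
  set S := (Nat.card (Cfsg.fittingOf H)).primeFactors with hS
  have hfact : ∀ {t : ℕ}, t ∈ S → Fact t.Prime := fun ht => ⟨Nat.prime_of_mem_primeFactors ht⟩
  haveI : Group.IsSolvable L := ms_solvable hG hL.1
  have hne : ∀ s ∈ S, core H s ≠ ⊥ := fun s hs => by
    haveI := hfact hs
    exact core_ne_bot_of_dvd (Nat.dvd_of_mem_primeFactors hs)
  have hbotL : ∀ Y : Subgroup G, Y ≤ L → L ≤ normalizer (Y : Set G) →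
      (∀ s ∈ S, ¬ s ∣ Nat.card Y) → Y = ⊥ := fun Y _ hn hY => hinv Y (hAL.trans hn) hY
  have hneL : ∀ s ∈ S, core L s ≠ ⊥ := by
    intro r hr hb
    haveI := hfact hr
    set W := coLayer L S r with hW
    have hZW : zCore H r ≤ W := le_coLayer ((hZ r Fact.out).trans hAL) fun s hs hsr => by
      haveI := hfact hs
      exact zCore_le_coCore hG hH hL.1 hAL hsr.symm (hne s hs) (hZ s Fact.out) (hZ r Fact.out)
    have hWF : W ≤ Cfsg.fittingOf L := by
      refine le_trans (le_inf coLayer_le (le_centralizer_iff.1 (fittingOf_le_of_cores fun t ht => ?_)))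
        centralizer_fittingOf_le
      haveI : Fact t.Prime := ⟨ht⟩
      by_cases htS : t ∈ S
      · rcases eq_or_ne t r with rfl | htr
        · rw [hb]; exact bot_le
        · exact le_centralizer_of_inf_eq_bot (core_le.trans le_normalizer_coLayer)
            (coLayer_le.trans le_normalizer_core) (inf_eq_bot_of_isPGroup isPGroup_core
              fun hd => not_dvd_coCore (hd.trans (card_dvd_of_le (coLayer_le_coCore htS htr))))
      · rw [hbotL (core L t) core_le le_normalizer_core fun s hs hd => htS (by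
          haveI := hfact hs
          by_contra htS'
          exact not_dvd_of_isPGroup (fun e : t = s => htS' (e ▸ hs)) isPGroup_core hd)]
        exact bot_le
    have hrF : ¬ r ∣ Nat.card (Cfsg.fittingOf L) := fun hd => core_ne_bot_of_dvd hd hb
    exact zCore_ne_bot (hne r hr) (le_bot_iff.1
      ((inf_eq_bot_of_isPGroup (isPGroup_core.to_le zCore_le) hrF) ▸
        le_inf le_rfl (hZW.trans hWF)))
  have hLH : ∀ r ∈ S, core L r ≤ H := by
    intro r hr
    haveI := hfact hr
    obtain ⟨q, hq, hqr⟩ := Finset.exists_mem_ne (by omega : 1 < S.card) r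
    haveI := hfact hq
    refine le_trans ?_ (centralizer_zCore_le hG hH (hne q hq))
    have hle := zCore_le_coCore hG hH hL.1 hAL hqr (hne r hr) (hZ r Fact.out) (hZ q Fact.out)
    refine (le_centralizer_of_inf_eq_bot (core_le.trans le_normalizer_coCore)
      (coCore_le.trans le_normalizer_core)
      (inf_eq_bot_of_isPGroup isPGroup_core not_dvd_coCore)).trans (centralizer_le hle)
  have hbotH : ∀ Y : Subgroup G, Y ≤ H → H ≤ normalizer (Y : Set G) →
      (∀ s ∈ S, ¬ s ∣ Nat.card Y) → Y = ⊥ :=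
    fun Y _ hn hY => hinv Y (hAH.trans hn) hY
  haveI : Group.IsSolvable H := ms_solvable hG hH.1
  refine (CorePair.eq hG (H := H) (L := L) (S := S) ⟨fun s hs => Nat.prime_of_mem_primeFactors hs,
    by omega, hH, hL, hne, hneL, ?_, hLH, hbotH, hbotL⟩).symm
  intro r hr
  haveI := hfact hr
  obtain ⟨q, hq, hqr⟩ := Finset.exists_mem_ne (by omega : 1 < S.card) r
  haveI := hfact hq
  refine le_trans ?_ (ms_centralizer_le hG hL core_le (hneL q hq) le_normalizer_core)
  have hle : core L q ≤ coCore H r := by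
    refine le_coCore_of_centralizer isPGroup_core (hneL r hr) (hLH r hr) (hLH q hq)
      (not_dvd_of_isPGroup hqr isPGroup_core) ?_
      (inf_le_right.trans ((ms_centralizer_le hG hL core_le (hneL r hr) le_normalizer_core).trans
        le_normalizer_core))
    exact le_centralizer_of_inf_eq_bot (core_le.trans le_normalizer_core)
      (core_le.trans le_normalizer_core) (inf_eq_bot_of_isPGroup isPGroup_core
        (not_dvd_of_isPGroup hqr.symm isPGroup_core))
  exact (le_centralizer_of_inf_eq_bot (core_le.trans le_normalizer_coCore)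
    (coCore_le.trans le_normalizer_core)
    (inf_eq_bot_of_isPGroup isPGroup_core not_dvd_coCore)).trans (centralizer_le hle)

section Invariant

variable {A : Subgroup G} (hA : A ≤ Cfsg.fittingOf H)
  (hC : ∀ s : ℕ, s.Prime → core H s ⊓ centralizer ((A ⊓ core H s : Subgroup G) : Set G) ≤ A)
  (hZ : ∀ s : ℕ, s.Prime → zCore H s ≤ A)
include hA hC hZ

theorem dvd_of_dvd_fittingOf {s : ℕ} [Fact s.Prime] (hd : s ∣ Nat.card (Cfsg.fittingOf H)) :
    s ∣ Nat.card A := by
  by_contra h
  refine zCore_ne_bot (core_ne_bot_of_dvd hd) (le_bot_iff.1 ?_)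
  rw [← inf_eq_bot_of_isPGroup (isPGroup_core.to_le zCore_le) h]
  exact le_inf le_rfl (hZ s Fact.out)

theorem eq_bot_of_centralizes {Y : Subgroup G} (hYH : Y ≤ H) (hY : Y ≤ centralizer (A : Set G))
    (hcop : ∀ s : ℕ, s.Prime → s ∣ Nat.card (Cfsg.fittingOf H) → ¬ s ∣ Nat.card Y) : Y = ⊥ := by
  haveI : Group.IsSolvable H := ms_solvable hG hH.1
  have hYF : Y ≤ Cfsg.fittingOf H := by
    refine (le_inf hYH (le_centralizer_iff.1 (fittingOf_le_of_cores fun t ht => ?_))).trans
      centralizer_fittingOf_le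
    haveI : Fact t.Prime := ⟨ht⟩
    by_cases hne : core H t = ⊥
    · rw [hne]; exact bot_le
    refine le_centralizer_iff.1 (CfsgLib.Coprime.pq_lemma (p := t) (P := A ⊓ core H t)
      (isPGroup_core.to_le inf_le_right)
      ((Nat.coprime_comm).1 ((Fact.out : t.Prime).coprime_iff_not_dvd.2
        (hcop t ht (dvd_of_core_ne_bot hne))))
      isPGroup_core (le_centralizer_iff.1 (hY.trans (centralizer_le inf_le_left)))
      (inf_le_right.trans le_normalizer) (hYH.trans le_normalizer_core) ?_)
    exact (hC t ht).trans (le_centralizer_iff.1 hY)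
  rw [← card_eq_one, Nat.eq_one_iff_not_exists_prime_dvd]
  intro s hs hd
  exact hcop s hs (hd.trans (card_dvd_of_le hYF)) hd

theorem eq_bot_of_invariant_le {Y : Subgroup G} (hYH : Y ≤ H) (hAY : A ≤ normalizer (Y : Set G))
    (hcop : ∀ s : ℕ, s.Prime → s ∣ Nat.card (Cfsg.fittingOf H) → ¬ s ∣ Nat.card Y) : Y = ⊥ := by
  refine eq_bot_of_centralizes hG hH hA hC hZ hYH ?_ hcop
  refine commutator_eq_bot_iff_le_centralizer.1 (card_eq_one.1 ?_)
  rw [Nat.eq_one_iff_not_exists_prime_dvd]
  intro s hs hd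
  refine hcop s hs (hd.trans (card_dvd_of_le ?_))
    (hd.trans (card_dvd_of_le (le_normalizer_iff_commutator_le_left.1 hAY)))
  exact (commutator_mono le_rfl hA).trans
    (le_normalizer_iff_commutator_le_right.1 (hYH.trans le_normalizer_fittingOf))

theorem primesNotDvd_fitting :
    Cfsg.primesNotDvd (Nat.card A) = Cfsg.primesNotDvd (Nat.card (Cfsg.fittingOf H)) := by
  ext s
  refine ⟨fun h => ⟨h.1, fun hd => h.2 ?_⟩, fun h => ⟨h.1, fun hd => h.2 (hd.trans (card_dvd_of_le hA))⟩⟩
  haveI : Fact s.Prime := ⟨h.1⟩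
  exact dvd_of_dvd_fittingOf hG hH hA hC hZ hd

theorem transitivityHypothesis_fitting
    (h2 : 2 ≤ (Nat.card (Cfsg.fittingOf H)).primeFactors.card) :
    Cfsg.TransitivityHypothesis A := by
  set S := (Nat.card (Cfsg.fittingOf H)).primeFactors with hS
  have hfact : ∀ {t : ℕ}, t ∈ S → Fact t.Prime := fun ht => ⟨Nat.prime_of_mem_primeFactors ht⟩
  have hne : ∀ s ∈ S, core H s ≠ ⊥ := fun s hs => by
    haveI := hfact hs
    exact core_ne_bot_of_dvd (Nat.dvd_of_mem_primeFactors hs)
  refine ⟨fun hb => ?_, fun ht => hH.1 (top_le_iff.1 (ht ▸ hA.trans fittingOf_le)),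
    fun X hX hAX => ?_⟩
  · obtain ⟨r, hr⟩ := Finset.card_pos.1 (show 0 < S.card by omega)
    haveI := hfact hr
    exact zCore_ne_bot (hne r hr) (le_bot_iff.1 (hb ▸ hZ r Fact.out))
  refine le_antisymm (sSup_le ?_) (le_sSup ⟨piCoreOf_le X, isPiNum_piCoreOf X,
    le_normalizer_piCoreOf hAX⟩)
  rintro Y ⟨hYX, hY, hAY⟩
  haveI : Group.IsSolvable X := ms_solvable hG hX
  have hY' : ∀ s : ℕ, s.Prime → s ∣ Nat.card (Cfsg.fittingOf H) → ¬ s ∣ Nat.card Y := fun s hs hd hdY => by
    haveI : Fact s.Prime := ⟨hs⟩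
    exact (hY s hs hdY).2 (dvd_of_dvd_fittingOf hG hH hA hC hZ hd)
  have hYr : ∀ r ∈ S, Y ≤ coCore X r := by
    intro r hr
    haveI := hfact hr
    obtain ⟨q, hq, hqr⟩ := Finset.exists_mem_ne (show 1 < S.card by omega) r
    haveI := hfact hq
    have hqY : zCore H q ≤ normalizer (Y : Set G) := (hZ q Fact.out).trans hAY
    have hcop : (Nat.card (zCore H q)).Coprime (Nat.card Y) := by
      obtain ⟨k, hk⟩ := IsPGroup.iff_card.1 (isPGroup_core.to_le (zCore_le (H := H) (s := q)))
      rw [hk]
      exact (((Fact.out : q.Prime).coprime_iff_not_dvd).2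
        (hY' q Fact.out (Nat.dvd_of_mem_primeFactors hq))).pow_left k
    have hfix : Y ⊓ centralizer (zCore H q : Set G) = ⊥ := by
      refine eq_bot_of_invariant_le hG hH hA hC hZ
        (inf_le_right.trans (centralizer_zCore_le hG hH (hne q hq)))
        (CfsgLib.Coprime.inf_le_normalizer hAY (((hA.trans fittingOf_le).trans le_normalizer_zCore).trans
          (CfsgLib.Coprime.normalizer_le_normalizer_centralizer _))) fun s hs hd hd' =>
        hY' s hs hd (hd'.trans (card_dvd_of_le inf_le_left))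
    have h1 := CfsgLib.Coprime.commutator_sup_centralizer hqY hcop
      (Or.inl (CfsgLib.Coprime.isSolvable_of_isNilpotent
        (isPGroup_core.to_le (zCore_le (H := H) (s := q))).isNilpotent))
    rw [hfix, sup_bot_eq] at h1
    rw [← h1]
    exact (commutator_mono le_rfl (zCore_le_coCore hG hH hX hAX hqr (hne r hr)
      (hZ r Fact.out) (hZ q Fact.out))).trans
      (le_normalizer_iff_commutator_le_right.1 (hYX.trans le_normalizer_coCore))
  set J := X ⊓ ⨅ r ∈ S, coCore X r with hJ
  have hJn : X ≤ normalizer (J : Set G) := by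
    refine CfsgLib.Coprime.inf_le_normalizer le_normalizer fun g hg => ?_
    rw [mem_normalizer_iff]
    intro x
    simp only [mem_iInf, SetLike.mem_coe]
    exact ⟨fun h s hs => (mem_normalizer_iff.1 (le_normalizer_coCore (s := s) hg) x).1 (h s hs),
      fun h s hs => (mem_normalizer_iff.1 (le_normalizer_coCore (s := s) hg) x).2 (h s hs)⟩
  haveI : (J.subgroupOf X).Normal := normal_subgroupOf_of_le_normalizer hJn
  have h2' : J.subgroupOf X ≤ Cfsg.piCore (Cfsg.primesNotDvd (Nat.card A)) X := by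
    refine CfsgLib.Coprime.le_piCore fun s hs hd => ⟨hs, fun hdA => ?_⟩
    rw [Nat.card_congr (subgroupOfEquivOfLe (inf_le_left : J ≤ X)).toEquiv] at hd
    have hsS : s ∈ S := Nat.mem_primeFactors.2
      ⟨hs, hdA.trans (card_dvd_of_le hA), Nat.card_pos.ne'⟩
    haveI := hfact hsS
    exact not_dvd_coCore (hd.trans (card_dvd_of_le (inf_le_right.trans (iInf₂_le s hsS))))
  exact fun y hy => ⟨⟨y, hYX hy⟩,
    h2' (show y ∈ J from ⟨hYX hy, (le_iInf₂ hYr) hy⟩), rfl⟩

end Invariant

end CfsgLib.CFun
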