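import Cfsg.Agent.Lib.CFun.OddKappaDecomp
import Cfsg.Agent.Lib.CFun.OddTypePBasic

/-!
# Fixed-point-free automorphisms of prime order on subgroups
-/

set_option autoImplicit false
set_option linter.style.haveILetI false
set_option linter.unusedSectionVars false

open Subgroup
open scoped commutatorElement

namespace CfsgLib.CFun.NormFpf

universe u

variable {G : Type u} [Group G] [Finite G]

/-- Fixed-point-free action of prime order `p`: `p` does not divide the order. -/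
theorem not_dvd {p : ℕ} [hp : Fact p.Prime] {V : Subgroup G} {a : G} (hap : a ^ p = 1)
    (haV : a ∈ normalizer (V : Set G)) (hfix : V ⊓ centralizer ({a} : Set G) = ⊥) :
    ¬ p ∣ Nat.card V := by
  intro hd
  obtain ⟨f, hf⟩ := exists_prime_orderOf_dvd_card' (G := V) p hd
  set Y := zpowers a ⊔ V with hY
  have hVY : V ≤ Y := le_sup_right
  have hYN : Y ≤ normalizer (V : Set G) := sup_le (zpowers_le.2 haV) le_normalizer
  haveI : (V.subgroupOf Y).Normal := normal_subgroupOf_of_le_normalizer hYN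
  obtain ⟨P, hP⟩ := (IsPGroup.of_card (p := p) (n := 1) (G := ↥((zpowers f : Subgroup V).map
      (inclusion hVY))) (by rw [card_map_of_injective (inclusion_injective _), Nat.card_zpowers,
        hf, pow_one])).exists_le_sylow
  have ha : (⟨a, mem_sup_left (mem_zpowers a)⟩ : Y) ^ p = 1 := Subtype.ext hap
  have ha1 : (⟨a, mem_sup_left (mem_zpowers a)⟩ : Y) ≠ 1 := fun e => by
    have e' : a = 1 := congrArg Subtype.val e
    rw [e'] at hfix
    have : V = ⊥ := le_bot_iff.1 (le_trans (le_inf le_rfl fun x _ =>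
      mem_centralizer_singleton_iff.2 (by rw [mul_one, one_mul])) hfix.le)
    rw [this, card_bot] at hd
    exact hp.out.ne_one (Nat.dvd_one.1 hd)
  obtain ⟨Q, hQ⟩ := (IsPGroup.of_card (p := p) (n := 1) (G := ↥(zpowers
      (⟨a, mem_sup_left (mem_zpowers a)⟩ : Y))) (by
        rw [Nat.card_zpowers, orderOf_eq_prime ha ha1, pow_one])).exists_le_sylow
  obtain ⟨c, hc⟩ := MulAction.exists_smul_eq Y P Q
  have hfP : inclusion hVY f ∈ (P : Subgroup Y) := hP (mem_map_of_mem _ (mem_zpowers f))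
  have hcQ : c * inclusion hVY f * c⁻¹ ∈ (Q : Subgroup Y) := by
    rw [← hc]
    exact ⟨_, hfP, rfl⟩
  have hN : ((V.subgroupOf Y).subgroupOf (Q : Subgroup Y)).Normal := inferInstance
  have hne : (V.subgroupOf Y).subgroupOf (Q : Subgroup Y) ≠ ⊥ := by
    intro e
    have hm : c * inclusion hVY f * c⁻¹ ∈ V.subgroupOf Y :=
      Normal.conj_mem inferInstance (inclusion hVY f) (mem_subgroupOf.2 f.2) c
    have h : (⟨_, hcQ⟩ : (Q : Subgroup Y)) ∈ (V.subgroupOf Y).subgroupOf (Q : Subgroup Y) := hm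
    rw [e, mem_bot] at h
    have h' : f = 1 := inclusion_injective hVY (conj_eq_one_iff.1 (congrArg Subtype.val h))
    rw [h', orderOf_one] at hf
    exact hp.out.ne_one hf.symm
  obtain ⟨z, hz, hzc, hz1⟩ : ∃ z : (Q : Subgroup Y),
      z ∈ (V.subgroupOf Y).subgroupOf (Q : Subgroup Y) ∧ z ∈ center (Q : Subgroup Y) ∧ z ≠ 1 := by
    obtain ⟨z, hz, hz1⟩ := (bot_or_exists_ne_one _).resolve_left
      ((haveI := Q.isPGroup'.isNilpotent; CfsgLib.Coprime.nilpotent_inf_center_ne_bot _ hne))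
    exact ⟨z, (mem_inf.1 hz).1, (mem_inf.1 hz).2, hz1⟩
  have h : ((z : Y) : G) ∈ V ⊓ centralizer ({a} : Set G) := mem_inf.2 ⟨hz,
    mem_centralizer_singleton_iff.2 (congrArg (fun w : (Q : Subgroup Y) => ((w : Y) : G))
      (mem_center_iff.1 hzc ⟨_, hQ (mem_zpowers _)⟩)).symm⟩
  rw [hfix, mem_bot] at h
  exact hz1 (Subtype.ext (Subtype.ext h))

/-- Fixed-point-freeness extends from `R` and an abelian `V` normalizing `R` to `R V`. -/
theorem fixed_sup_eq_bot {a : G} {R V : Subgroup G} (haR : a ∈ normalizer (R : Set G))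
    (haV : a ∈ normalizer (V : Set G)) (hVc : IsMulCommutative V) (hVR : V ≤ normalizer (R : Set G))
    (hR : R ⊓ centralizer ({a} : Set G) = ⊥) (hV : V ⊓ centralizer ({a} : Set G) = ⊥) :
    (R ⊔ V) ⊓ centralizer ({a} : Set G) = ⊥ := by
  refine (eq_bot_iff_forall _).2 fun y hy => ?_
  obtain ⟨hy1, hy2⟩ := mem_inf.1 hy
  rw [← SetLike.mem_coe, ← sup_comm V R, coe_mul_of_left_le_normalizer_right V R hVR] at hy1
  obtain ⟨v, hv, r, hr, rfl⟩ := hy1
  have hya := mem_centralizer_singleton_iff.1 hy2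
  have hconjV : ∀ w ∈ V, a * w * a⁻¹ ∈ V := fun w hw => (mem_normalizer_iff.1 haV w).1 hw
  have hconjR : ∀ w ∈ R, a * w * a⁻¹ ∈ R := fun w hw => (mem_normalizer_iff.1 haR w).1 hw
  have hcommV : ∀ x ∈ V, ∀ w ∈ V, x * w = w * x := fun x hx w hw =>
    (congrArg Subtype.val (hVc.is_comm.comm ⟨x, hx⟩ ⟨w, hw⟩) :)
  let f : ↥(R ⊓ V) → ↥(R ⊓ V) := fun w => ⟨(w : G)⁻¹ * (a * w * a⁻¹),
    mem_inf.2 ⟨mul_mem (inv_mem (mem_inf.1 w.2).1) (hconjR _ (mem_inf.1 w.2).1),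
      mul_mem (inv_mem (mem_inf.1 w.2).2) (hconjV _ (mem_inf.1 w.2).2)⟩⟩
  have hinj : Function.Injective f := fun w₁ w₂ e => by
    have e' : (w₁ : G)⁻¹ * (a * w₁ * a⁻¹) = (w₂ : G)⁻¹ * (a * w₂ * a⁻¹) := congrArg Subtype.val e
    have h1 := (mem_inf.1 w₁.2).2
    have h2 := (mem_inf.1 w₂.2).2
    have h3 : (w₁ : G) * (w₂ : G)⁻¹ ∈ V ⊓ centralizer ({a} : Set G) := by
      refine mem_inf.2 ⟨mul_mem h1 (inv_mem h2), mem_centralizer_singleton_iff.2 ?_⟩
      have h4 : a * ((w₁ : G) * (w₂ : G)⁻¹) * a⁻¹ = (w₁ : G) * (w₂ : G)⁻¹ := by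
        have e1 : a * (w₁ : G) * a⁻¹ = (w₁ : G) * ((w₂ : G)⁻¹ * (a * w₂ * a⁻¹)) := by
          rw [← e']; group
        calc a * ((w₁ : G) * (w₂ : G)⁻¹) * a⁻¹
            = (a * (w₁ : G) * a⁻¹) * (a * (w₂ : G) * a⁻¹)⁻¹ := by group
          _ = _ := by rw [e1]; group
      exact (mul_inv_eq_iff_eq_mul.1 h4).symm
    rw [hV, mem_bot, mul_inv_eq_one] at h3
    exact Subtype.ext h3
  have hd : v⁻¹ * (a * v * a⁻¹) ∈ R ⊓ V := by
    refine mem_inf.2 ⟨?_, mul_mem (inv_mem hv) (hconjV v hv)⟩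
    have e : a * (v * r) * a⁻¹ = v * r := by rw [← hya, mul_inv_cancel_right]
    have e2 : v⁻¹ * (a * v * a⁻¹) = r * (a * r * a⁻¹)⁻¹ := by
      rw [eq_mul_inv_iff_mul_eq]
      calc v⁻¹ * (a * v * a⁻¹) * (a * r * a⁻¹) = v⁻¹ * (a * (v * r) * a⁻¹) := by group
        _ = r := by rw [e, inv_mul_cancel_left]
    rw [e2]
    exact mul_mem hr (inv_mem (hconjR r hr))
  obtain ⟨w, hw⟩ := Finite.injective_iff_surjective.1 hinj ⟨_, hd⟩
  have hw' : (w : G)⁻¹ * (a * w * a⁻¹) = v⁻¹ * (a * v * a⁻¹) := congrArg Subtype.val hw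
  have h5 : v * (w : G)⁻¹ ∈ V ⊓ centralizer ({a} : Set G) := by
    refine mem_inf.2 ⟨mul_mem hv (inv_mem (mem_inf.1 w.2).2), mem_centralizer_singleton_iff.2 ?_⟩
    have e1 : a * v * a⁻¹ = v * ((w : G)⁻¹ * (a * w * a⁻¹)) := by rw [hw']; group
    have h4 : a * (v * (w : G)⁻¹) * a⁻¹ = v * (w : G)⁻¹ := by
      calc a * (v * (w : G)⁻¹) * a⁻¹ = (a * v * a⁻¹) * (a * (w : G) * a⁻¹)⁻¹ := by group
        _ = _ := by rw [e1]; group
    exact (mul_inv_eq_iff_eq_mul.1 h4).symm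
  rw [hV, mem_bot, mul_inv_eq_one] at h5
  have h6 : v * r ∈ R ⊓ centralizer ({a} : Set G) :=
    mem_inf.2 ⟨mul_mem (h5 ▸ (mem_inf.1 w.2).1) hr, hy2⟩
  rwa [hR, mem_bot] at h6

/-- Coprime elements of a fixed-point-free group commute. -/
theorem commute {p : ℕ} [hp : Fact p.Prime] {V : Subgroup G} {a : G} (hap : a ^ p = 1)
    (haV : a ∈ normalizer (V : Set G)) (hfix : V ⊓ centralizer ({a} : Set G) = ⊥) {x y : G}
    (hx : x ∈ V) (hy : y ∈ V) (h : (orderOf x).Coprime (orderOf y)) : Commute x y := by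
  haveI := Decomp.isNilpotent_of_fpf hp.out hap haV hfix
  exact congrArg Subtype.val (CfsgLib.CFun.commute_of_coprime_order (F := V)
    (x := ⟨x, hx⟩) (y := ⟨y, hy⟩) (by rwa [orderOf_mk, orderOf_mk]))

end CfsgLib.CFun.NormFpf
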