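import Mathlib.GroupTheory.OrderOfElement
import Mathlib.GroupTheory.PGroup
import Mathlib.NumberTheory.Basic
import Mathlib.FieldTheory.Finite.Basic
import Cfsg.Agent.Lib.Coprime.Action

/-!
# Lifting an invariant line to an invariant cyclic subgroup

A `p'`-group `K` acting on an abelian group `T` of exponent dividing `p ^ (m + 1)` and normalizing
the line spanned by a `p ^ m`-th power `b` normalizes a cyclic subgroup of order `p ^ (m + 1)` over
it: average `t` against the Teichmüller lift of the character of `K` on the line.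
-/

set_option autoImplicit false

open Subgroup

namespace CfsgLib.CFun.PowerProj

universe u

variable {G : Type u} [Group G] [Finite G] {p : ℕ} [hp : Fact p.Prime]

theorem exists_cyclic_invariant {T K : Subgroup G} (hT : IsMulCommutative T)
    (hKT : K ≤ normalizer (T : Set G)) (hK : ¬ p ∣ Nat.card K) {m : ℕ}
    (hexp : ∀ x ∈ T, x ^ p ^ (m + 1) = 1) {t b : G} (ht : t ∈ T) (htb : t ^ p ^ m = b) (hb1 : b ≠ 1)
    (hKb : K ≤ normalizer ((zpowers b : Subgroup G) : Set G)) :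
    ∃ d ∈ T, d ^ p ^ m ∈ zpowers b ∧ d ^ p ^ m ≠ 1 ∧
      K ≤ normalizer ((zpowers d : Subgroup G) : Set G) := by
  classical
  haveI := hT
  haveI := Fintype.ofFinite K
  open scoped IsMulCommutative in
  have hbp : b ^ p = 1 := by rw [← htb, ← pow_mul, ← pow_succ]; exact hexp t ht
  have hob : orderOf b = p := orderOf_eq_prime hbp hb1
  have hchar : ∀ h : K, ∃ a : ℕ, (h : G) * b * (h : G)⁻¹ = b ^ a := fun h => by
    obtain ⟨a, ha⟩ := (mem_zpowers_iff_mem_range_orderOf.1
      ((mem_normalizer_iff.1 (hKb h.2) b).1 (mem_zpowers b))) |> Finset.mem_image.1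
    exact ⟨a, ha.2.symm⟩
  choose a ha using hchar
  have hmul : ∀ g h : K, (a (g * h) : ZMod p) = a g * a h := by
    intro g h
    have e : b ^ a (g * h) = b ^ (a g * a h) := by
      rw [← ha, pow_mul, ← ha g, conj_pow, ← ha h, Subgroup.coe_mul]
      group
    rw [pow_eq_pow_iff_modEq, hob, ← ZMod.natCast_eq_natCast_iff] at e
    rw [e, Nat.cast_mul]
  let χ : K → ℕ := fun h => a h ^ p ^ m
  have hχ : ∀ g h : K, χ (g * h) ≡ χ g * χ h [MOD p ^ (m + 1)] := by
    intro g h
    have h1 : ((p : ℕ) : ℤ) ∣ (a (g * h) : ℤ) - (a g * a h : ℕ) := by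
      rw [← Int.modEq_iff_dvd, ← ZMod.intCast_eq_intCast_iff]
      simpa using (hmul g h).symm
    have h2 := dvd_sub_pow_of_dvd_sub h1 m
    refine (Nat.modEq_iff_dvd.2 ?_).symm
    simp only [χ, Nat.cast_pow, Nat.cast_mul, ← mul_pow] at h2 ⊢
    exact h2
  have hpow : ∀ (x : T) {i j : ℕ}, i ≡ j [MOD p ^ (m + 1)] → x ^ i = x ^ j := fun x i j h =>
    pow_eq_pow_iff_modEq.2 (h.of_dvd (orderOf_dvd_of_pow_eq_one (Subtype.ext (hexp x x.2))))
  let c : K → T →* T := fun g =>
    { toFun := fun x => ⟨(g : G) * x * (g : G)⁻¹, (mem_normalizer_iff.1 (hKT g.2) _).1 x.2⟩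
      map_one' := Subtype.ext (by simp)
      map_mul' := fun x y => Subtype.ext (by simp [mul_assoc]) }
  have hcc : ∀ (g h : K) (x : T), c g (c h x) = c (g * h) x := fun g h x => Subtype.ext (by
    show (g : G) * ((h : G) * x * (h : G)⁻¹) * (g : G)⁻¹ = _ * x * _
    simp only [Subgroup.coe_mul, mul_inv_rev, mul_assoc])
  open scoped IsMulCommutative in
  let f : K → T := fun h => c h ⟨t, ht⟩ ^ χ h⁻¹
  open scoped IsMulCommutative in
  let d : T := ∏ h : K, f h
  have hd : ∀ g : K, c g d = d ^ χ g := by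
    open scoped IsMulCommutative in
    intro g
    simp only [d]
    rw [map_prod, ← Finset.prod_pow]
    refine Fintype.prod_equiv (Equiv.mulLeft g) _ _ fun h => ?_
    simp only [f, Equiv.coe_mulLeft, map_pow, hcc, ← pow_mul]
    refine hpow _ (Nat.ModEq.symm ?_)
    have h1 := (hχ (g * h)⁻¹ g).symm
    rw [mul_inv_rev, inv_mul_cancel_right] at h1
    rwa [mul_inv_rev]
  have hv : ∀ h : K, ((f h : T) : G) ^ p ^ m = b := by
    intro h
    show (((h : G) * t * (h : G)⁻¹) ^ χ h⁻¹) ^ p ^ m = b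
    rw [← pow_mul, mul_comm, pow_mul, conj_pow, htb, ha h, ← pow_mul]
    nth_rw 2 [← pow_one b]
    rw [pow_eq_pow_iff_modEq, hob, ← ZMod.natCast_eq_natCast_iff, Nat.cast_mul, Nat.cast_one]
    simp only [χ, Nat.cast_pow, ZMod.pow_card_pow]
    rw [← hmul, mul_inv_cancel]
    have h1 : b ^ a 1 = b ^ 1 := by rw [← ha, pow_one]; simp
    rw [pow_eq_pow_iff_modEq, hob, ← ZMod.natCast_eq_natCast_iff, Nat.cast_one] at h1
    exact h1
  have hdb : ((d : T) : G) ^ p ^ m = b ^ Nat.card K := by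
    open scoped IsMulCommutative in
    have h0 : d ^ p ^ m = ∏ h : K, f h ^ p ^ m := (Finset.prod_pow _ _ _).symm
    have hbT : b ∈ T := htb ▸ pow_mem ht _
    have h1 : d ^ p ^ m = (⟨b, hbT⟩ : T) ^ Nat.card K := by
      rw [h0, Finset.prod_congr rfl (fun h _ => Subtype.ext (hv h) : ∀ h ∈ Finset.univ,
        f h ^ p ^ m = (⟨b, hbT⟩ : T)), Finset.prod_const, Finset.card_univ, Nat.card_eq_fintype_card]
    exact congrArg Subtype.val h1
  refine ⟨d, d.2, hdb ▸ pow_mem (mem_zpowers b) _, fun e => ?_, fun g hg => ?_⟩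
  · rw [hdb] at e
    exact hK (hob ▸ orderOf_dvd_of_pow_eq_one e)
  · refine CfsgLib.Coprime.conjBy_eq_self_iff.1 (eq_of_le_of_card_ge ?_
      (CfsgLib.Coprime.card_conjBy g _).ge)
    rintro _ ⟨x, hx, rfl⟩
    obtain ⟨i, rfl⟩ := mem_zpowers_iff.1 hx
    show g * (d : G) ^ i * g⁻¹ ∈ zpowers (d : G)
    rw [← conj_zpow, show g * (d : G) * g⁻¹ = (d : G) ^ χ ⟨g, hg⟩ from congrArg Subtype.val (hd ⟨g, hg⟩)]
    exact zpow_mem (pow_mem (mem_zpowers _) _) _

end CfsgLib.CFun.PowerProj
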