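import Cfsg.Agent.Lib.CFun.OddTauTwoNonabelian
import Cfsg.Agent.Lib.CFun.OddComplementBase

/-!
# Elementary subgroups in complements to `M_σ`
-/

set_option autoImplicit false
set_option linter.style.haveILetI false
set_option linter.unusedSectionVars false

open Subgroup
open CfsgLib.Coprime (conjBy conjBy_conjBy conjBy_one mem_conjBy conj_mem_conjBy IsSylowIn)

namespace CfsgLib.CFun.Compl

universe u

variable {G : Type u} [Group G] [Finite G] {q : ℕ} [hq : Fact q.Prime]

/-- Normal `q`-subgroups lie in the `q`-core. -/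
theorem le_core_of_normal {M X : Subgroup G} (hXM : X ≤ M) (hn : M ≤ normalizer (X : Set G))
    (hX : IsPGroup q X) : X ≤ core M q := by
  haveI : (X.subgroupOf M).Normal := normal_subgroupOf_of_le_normalizer hn
  exact (map_subgroupOf_eq_of_le hXM).ge.trans
    (map_mono (CfsgLib.Coprime.le_pCore (hX.of_equiv (subgroupOfEquivOfLe hXM).symm)))

variable (hG : Cfsg.IsMinSimpleOddOrder G) {M E : Subgroup G} (hM : IsCoatom M)
  (hE : Cfsg.IsComplIn E (Cfsg.sigmaCore M) M)
include hG hM hE

omit hq in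
theorem sup_compl : E ⊔ Cfsg.sigmaCore M = M := by
  refine le_antisymm (sup_le hE.1 hE.2.1) fun m hm => ?_
  obtain ⟨e, he, k, hk, rfl⟩ := hE.2.2.2 m hm
  exact mul_mem (mem_sup_left he) (mem_sup_right hk)

theorem compl_not_dvd (hqσ : q ∉ Cfsg.sigma M) : ¬ q ∣ E.relIndex M := by
  intro hd
  have h1 : Nat.card M = Nat.card E * E.relIndex M := by
    rw [← card_mul_index (E.subgroupOf M), Nat.card_congr (subgroupOfEquivOfLe hE.1).toEquiv]
    rfl
  have h2 : Nat.card M ∣ Nat.card E * Nat.card (Cfsg.sigmaCore M) := by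
    conv_lhs => rw [← sup_compl hG hM hE]
    exact CfsgLib.Coprime.card_sup_dvd_of_le_normalizer
      (hE.1.trans (TauTwo.sigmaCore_normal hG M))
  rw [h1] at h2
  exact TauTwo.not_dvd_sigmaCore hG hM hqσ
    (hd.trans (Nat.dvd_of_mul_dvd_mul_left Nat.card_pos h2))

/-- Elementary subgroups of rank two in a complement. -/
theorem exists_elementary_compl (hqt : q ∈ Cfsg.tau2 M) :
    ∃ B : Subgroup G, B ≤ E ∧ Cfsg.IsElementaryAbelian q B ∧ Nat.card B = q ^ 2 := by
  obtain ⟨S⟩ := (inferInstance : Nonempty (Sylow q E))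
  have hS := TauTwo.isSylowIn_of_relIndex (CfsgLib.Coprime.isSylowIn_map S) hE.1
    (compl_not_dvd hG hM hE hqt.2.1)
  obtain ⟨B, hB, hBe, hB2⟩ := exists_elementary_of_not_pRankLE
    (H := (S : Subgroup E).map E.subtype) (k := 1) fun h => hqt.2.2.2 (pRankLE_of_sylow hS.toSylow
      (by rw [hS.map_toSylow]; exact h))
  exact ⟨B, hB.trans (map_subtype_le _), hBe, hB2⟩

end CfsgLib.CFun.Compl
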