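import Cfsg.Agent.Lib.CFun.OddTauTwoAbelian
import Cfsg.Agent.Lib.PGroup.FixedPointFree
import Cfsg.Agent.S1414

/-!
# The structure of a maximal subgroup at a prime of `τ₂(M)`
-/

set_option autoImplicit false
set_option linter.style.haveILetI false
set_option linter.unusedSectionVars false

open Subgroup
open scoped commutatorElement
open CfsgLib.Coprime (conjBy conjBy_conjBy conjBy_one mem_conjBy conj_mem_conjBy IsSylowIn)

namespace CfsgLib.CFun.TauTwo

universe u

variable {G : Type u} [Group G] [Finite G] {p : ℕ} [hp : Fact p.Prime]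

omit hp in
/-- Sylow subgroups of subgroups of index prime to `r` are Sylow subgroups. -/
theorem isSylowIn_of_relIndex {r : ℕ} [hr : Fact r.Prime] {R D M : Subgroup G}
    (hR : IsSylowIn r R D) (hDM : D ≤ M) (h : ¬ r ∣ D.relIndex M) : IsSylowIn r R M := by
  refine ⟨hR.1.trans hDM, ?_⟩
  rw [hR.2]
  congr 1
  have h1 : Nat.card M = Nat.card D * D.relIndex M := by
    rw [← card_mul_index (D.subgroupOf M), Nat.card_congr (subgroupOfEquivOfLe hDM).toEquiv]
    rfl
  rw [h1, Nat.factorization_mul Nat.card_pos.ne' (show D.relIndex M ≠ 0 from index_ne_zero_of_finite),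
    Finsupp.add_apply, Nat.factorization_eq_zero_of_not_dvd h, add_zero]

omit hp in
theorem max_of_isSylowIn {r : ℕ} [hr : Fact r.Prime] {R M : Subgroup G} (hR : IsSylowIn r R M)
    {U : Subgroup G} (hU : IsPGroup r U) (hUM : U ≤ M) (hRU : R ≤ U) : U = R := by
  refine (eq_of_le_of_card_ge hRU ?_).symm
  obtain ⟨k, hk⟩ := IsPGroup.iff_card.1 hU
  rw [hk, hR.2]
  exact Nat.pow_le_pow_right hr.out.pos
    ((hr.out.pow_dvd_iff_le_factorization Nat.card_pos.ne').1 (hk ▸ card_dvd_of_le hUM))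

section MinSimple

variable (hG : Cfsg.IsMinSimpleOddOrder G) {M : Subgroup G}
include hG

variable {A : Subgroup G} (hM : IsCoatom M) (hpt : p ∈ Cfsg.tau2 M) (hAM : A ≤ M)
  (hAe : Cfsg.IsElementaryAbelian p A) (hA2 : Nat.card A = p ^ 2)
include hM hpt hAM hAe hA2

theorem tau_fixed_eq_bot : Cfsg.sigmaCore M ⊓ centralizer (A : Set G) = ⊥ := by
  by_contra hne
  obtain ⟨r, hr, hrd⟩ := Nat.exists_prime_and_dvd fun e => hne (card_eq_one.1 e)
  haveI : Fact r.Prime := ⟨hr⟩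
  exact hpt.2.1 (mem_sigma_of_fixed hG hAe hA2 (fun _ => tau_max hG hM hpt hAM hAe hA2) hM hAM
    ((sigmaCore_hall hG hM).1.2.1 r hr (hrd.trans (card_dvd_of_le inf_le_left))) hrd
    (Or.inl (tau_centralizer_le hG hM hpt hAM hAe hA2)))

theorem tau_sylow_data : ∃ T : Subgroup G, IsPGroup p T ∧ T ≤ M ∧ A ≤ T ∧
    (∀ U : Subgroup G, IsPGroup p U → U ≤ M → T ≤ U → U = T) ∧ IsMulCommutative T ∧
      T ≤ centralizer (A : Set G) ∧ normalizer (T : Set G) ≤ normalizer (A : Set G) ∧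
        ¬ normalizer (T : Set G) ≤ M := by
  obtain ⟨P, hP⟩ := ((isPGroup_of_elementary hAe).of_equiv
    (subgroupOfEquivOfLe hAM).symm).exists_le_sylow
  have hmax : ∀ U : Subgroup G, IsPGroup p U → U ≤ M →
      (P : Subgroup M).map M.subtype ≤ U → U = (P : Subgroup M).map M.subtype :=
    fun U hU hUM hle => sylow_map_max P hU hUM hle
  have hAT : A ≤ (P : Subgroup M).map M.subtype := fun a ha => ⟨⟨a, hAM ha⟩, hP ha, rfl⟩
  have h := tau_sylow_abelian hG hM hpt hAM hAe hA2 (P.2.map _) (map_subtype_le _) hAT hmax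
  exact ⟨_, P.2.map _, map_subtype_le _, hAT, hmax, h⟩

theorem tau_not_normalizer_le : ¬ normalizer (A : Set G) ≤ M := fun h => by
  obtain ⟨T, -, -, -, -, -, -, hN, hN'⟩ := tau_sylow_data hG hM hpt hAM hAe hA2
  exact hN' (hN.trans h)

/-- Every maximal subgroup containing `N(A)` has `p` in `σ`. -/
theorem tau_sigma_of_normalizer {L : Subgroup G} (hL : IsCoatom L)
    (hNA : normalizer (A : Set G) ≤ L) : p ∈ Cfsg.sigma L := by
  by_contra hpL
  have hAmax : ∀ B : Subgroup G, Cfsg.IsElementaryAbelian p B → A ≤ B → B = A :=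
    fun B => tau_max hG hM hpt hAM hAe hA2
  have hAL : A ≤ L := le_normalizer.trans hNA
  have hpL2 : p ∈ Cfsg.tau2 L := mem_tau_iff.2 ⟨hpL,
    pRankLE_two_of_not_alpha hp.out fun h => hpL (alpha_subset_sigma hG hL h),
    not_pRankLE_of_elementary hAL hAe (by rw [hA2]; exact Nat.pow_lt_pow_right hp.out.one_lt one_lt_two)⟩
  obtain ⟨S, hAS⟩ := (isPGroup_of_elementary hAe).exists_le_sylow
  by_cases hSC : (S : Subgroup G) ≤ centralizer (A : Set G)
  · have hNS := normalizer_le_normalizer_of_omega hAe hA2 hAmax hAS hSC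
    exact hpL (sigma_of_sylow hG hL S ((hSC.trans (CfsgLib.Coprime.centralizer_le_normalizer_self A)).trans hNA)
      (hNS.trans hNA) ((hA2 ▸ dvd_pow_self p two_ne_zero : p ∣ Nat.card A).trans (card_dvd_of_le hAL)))
  obtain ⟨g, hg, hgn, hgC⟩ := CfsgLib.Coprime.ControlLift.exists_normalizer_not_mem S.2
    (inf_le_left : (S : Subgroup G) ⊓ centralizer (A : Set G) ≤ S) (fun h => hSC (h.trans inf_le_right))
  have hgA : g ∈ normalizer (A : Set G) := by
    refine CfsgLib.Coprime.conjBy_eq_self_iff.1 (eq_of_le_of_card_ge ?_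
      (CfsgLib.Coprime.card_conjBy g A).ge)
    rintro _ ⟨a, ha, rfl⟩
    exact mem_of_pow hAe hA2 hAmax (by rw [← map_pow, hAe.2 a ha, map_one])
      ((mem_normalizer_iff.1 hgn a).1 ⟨hAS ha, le_centralizer_of_comm hAe.1 ha⟩).2
  have hUL : A ⊔ zpowers g ≤ L := sup_le hAL (zpowers_le.2 (hNA hgA))
  obtain ⟨P, hP⟩ := ((S.2.to_le (sup_le hAS (zpowers_le.2 hg))).of_equiv
    (subgroupOfEquivOfLe hUL).symm).exists_le_sylow
  obtain ⟨hab, -⟩ := tau_sylow_abelian hG hL hpL2 hAL hAe hA2 (P.2.map _) (map_subtype_le _)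
    (fun a ha => ⟨⟨a, hAL ha⟩, hP (mem_sup_left ha), rfl⟩)
    fun U hU hUM hle => sylow_map_max P hU hUM hle
  refine hgC ⟨hg, mem_centralizer_iff.2 fun a ha => ?_⟩
  exact (congrArg Subtype.val (hab.is_comm.comm
    (⟨a, ⟨⟨a, hAL ha⟩, hP (mem_sup_left ha), rfl⟩⟩ : ↥((P : Subgroup L).map L.subtype))
    ⟨g, ⟨⟨g, hNA hgA⟩, hP (mem_sup_right (mem_zpowers g)), rfl⟩⟩) :)

/-- A line fixes only the identity of `M_σ`. -/
theorem tau_fixed_point_free : ∃ D : Subgroup G, D ≤ A ∧ Nat.card D = p ∧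
    Cfsg.sigmaCore M ⊓ centralizer (D : Set G) = ⊥ := by
  have hAmax : ∀ B : Subgroup G, Cfsg.IsElementaryAbelian p B → A ≤ B → B = A :=
    fun B => tau_max hG hM hpt hAM hAe hA2
  obtain ⟨n, hn, hnM⟩ := SetLike.not_le_iff_exists.1 (tau_not_normalizer_le hG hM hpt hAM hAe hA2)
  obtain ⟨A₀, hA₀, hA₀c, hNA₀, -⟩ := tau_line hG hM hpt hAM hAe hA2
  have hDA : conjBy n A₀ ≤ A := by
    rintro _ ⟨a, ha, rfl⟩
    exact (mem_normalizer_iff.1 hn a).1 (hA₀ ha)
  refine ⟨conjBy n A₀, hDA, by rw [CfsgLib.Coprime.card_conjBy, hA₀c], ?_⟩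
  by_contra hne
  set K := Cfsg.sigmaCore M with hK
  set Y := K ⊓ centralizer ((conjBy n A₀ : Subgroup G) : Set G) with hY
  have hYM' : Y ≤ conjBy n M := inf_le_right.trans
    ((CfsgLib.Coprime.centralizer_le_normalizer_self _).trans
      ((normalizer_conjBy n A₀).le.trans (map_mono hNA₀)))
  have hAY : A ≤ normalizer (Y : Set G) :=
    le_inf_centralizer_line hAe hDA (hAM.trans (sigmaCore_normal hG M))
  haveI := sigmaCore_solvable hG hM
  have hcop : (Nat.card A).Coprime (Nat.card K) := by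
    rw [hA2]
    exact (hp.out.coprime_iff_not_dvd.2 (not_dvd_sigmaCore hG hM hpt.2.1)).pow_left 2
  obtain ⟨s, hs, hsd⟩ := Nat.exists_prime_and_dvd fun e => hne (card_eq_one.1 e)
  haveI : Fact s.Prime := ⟨hs⟩
  have hsσ := (sigmaCore_hall hG hM).1.2.1 s hs (hsd.trans (card_dvd_of_le inf_le_left))
  have hsolA : Group.IsSolvable A := CfsgLib.Coprime.isSolvable_of_isMulCommutative hAe.1
  obtain ⟨U, hU, hAU⟩ := CfsgLib.Coprime.exists_invariant_sylow hAY
    (hcop.coprime_dvd_right (card_dvd_of_le inf_le_left)) (Or.inl hsolA) s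
  have hU1 : U ≠ ⊥ := fun e => by
    have h1 := hU.2
    rw [e, card_bot] at h1
    exact absurd h1.symm (Nat.one_lt_pow
      (hs.factorization_pos_of_dvd Nat.card_pos.ne' hsd).ne' hs.one_lt).ne'
  have hUK : U ≤ K := hU.1.trans inf_le_left
  have hU'M : conjBy n⁻¹ U ≤ M := by
    intro x hx
    rw [mem_conjBy, inv_inv] at hx
    have h := hYM' (hU.1 hx)
    rw [mem_conjBy] at h
    rwa [show n⁻¹ * (n * x * n⁻¹) * n = x by group] at h
  have hU'K : conjBy n⁻¹ U ≤ K := isPGroup_le_sigmaCore hG hM hsσ (hU.isPGroup.map _) hU'M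
  have hinvA : ∀ {m : G}, m ∈ normalizer (A : Set G) → ∀ {X : Subgroup G},
      A ≤ normalizer (X : Set G) → A ≤ normalizer ((conjBy m X : Subgroup G) : Set G) := by
    intro m hm X hX a ha
    rw [normalizer_conjBy, mem_conjBy]
    refine hX ?_
    have h := (mem_normalizer_iff.1 (inv_mem hm) a).1 ha
    simpa using h
  obtain ⟨T, hT, hUT, hAT⟩ := CfsgLib.Coprime.le_invariant_sylow
    (hAM.trans (sigmaCore_normal hG M)) hcop (Or.inl hsolA) hUK hU.isPGroup hAU
  obtain ⟨T₁, hT₁, hUT₁, hAT₁⟩ := CfsgLib.Coprime.le_invariant_sylow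
    (hAM.trans (sigmaCore_normal hG M)) hcop (Or.inl hsolA) hU'K (hU.isPGroup.map _)
    (hinvA (inv_mem hn) hAU)
  obtain ⟨S, rfl⟩ := sylow_of_hall (sigmaCore_hall hG hM).2 hsσ hT
  have hSM : (S : Subgroup G) ≤ M := hT.1.trans (map_subtype_le _)
  obtain ⟨k, hk, hkT⟩ := hT.exists_conj hT₁
  have hkM : k ∈ M := map_subtype_le _ hk
  have hUT' : U ≤ conjBy n T₁ := by
    intro x hx
    rw [mem_conjBy]
    exact hUT₁ (by simpa using conj_mem_conjBy (g := n⁻¹) hx)
  have e : conjBy n T₁ = conjBy (n * k) (S : Subgroup G) := by rw [← hkT, conjBy_conjBy]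
  have hd : TransData A s := ⟨transitivityHypothesis hG hAe hA2 hAmax, hG.2.1, hG.2.2.1,
    hG.2.2.2, fun h => hpt.2.1 ((Nat.prime_dvd_prime_iff_eq hs hp.out).1
      (hs.dvd_of_dvd_pow (hA2 ▸ h)) ▸ hsσ)⟩
  obtain ⟨c, hc, hcS⟩ := hd.conj_of_inf_ne_bot _ (S : Subgroup G) (conjBy n T₁)
    ⟨S.2, hAT, fun R hR _ hle => S.3 hR hle⟩
    ⟨hT₁.isPGroup.map _, hinvA hn hAT₁, fun R hR _ hle => by
      have hle' : conjBy (n * k) (S : Subgroup G) ≤ R := e ▸ hle
      have h1 := (((n * k) • S : Sylow s G)).3 hR hle'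
      rw [h1, e]
      rfl⟩
    (fun h => hU1 (le_bot_iff.1 ((le_inf hUT hUT').trans h.le))) rfl
  have hcM : c ∈ M := tau_centralizer_le hG hM hpt hAM hAe hA2 (piCoreOf_le _ hc)
  have hnk : c⁻¹ * (n * k) ∈ normalizer ((S : Subgroup G) : Set G) := by
    refine CfsgLib.Coprime.conjBy_eq_self_iff.1 ?_
    rw [← conjBy_conjBy, ← e, hcS, conjBy_conjBy, inv_mul_cancel, conjBy_one]
  have h1 := mul_mem (mul_mem hcM (sylow_normalizer_le hG hM hsσ S hSM hnk)) (inv_mem hkM)
  rw [show c * (c⁻¹ * (n * k)) * k⁻¹ = n by group] at h1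
  exact hnM h1

/-- `M_σ` is nilpotent. -/
theorem tau_nilpotent : Group.IsNilpotent (Cfsg.sigmaCore M) := by
  obtain ⟨D, hDA, hDc, hfix⟩ := tau_fixed_point_free hG hM hpt hAM hAe hA2
  obtain ⟨a, ha, ha1⟩ := (bot_or_exists_ne_one D).resolve_left (line_ne_bot hDc)
  have haD : zpowers a = D := eq_of_le_of_card_ge (zpowers_le.2 ha)
    (by rw [hDc, zpowers_card hAe (hDA ha) ha1])
  have han : a ∈ normalizer (Cfsg.sigmaCore M : Set G) := sigmaCore_normal hG M (hAM (hDA ha))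
  let φ : ↥(Cfsg.sigmaCore M) ≃* ↥(Cfsg.sigmaCore M) :=
    { toFun := fun k => ⟨a * k * a⁻¹, (mem_normalizer_iff.1 han _).1 k.2⟩
      invFun := fun k => ⟨a⁻¹ * k * a, (mem_normalizer_iff''.1 han _).1 k.2⟩
      left_inv := fun k => Subtype.ext (show a⁻¹ * (a * k * a⁻¹) * a = k by group)
      right_inv := fun k => Subtype.ext (show a * (a⁻¹ * k * a) * a⁻¹ = k by group)
      map_mul' := fun k l => Subtype.ext (show a * (k * l : G) * a⁻¹ = a * k * a⁻¹ * (a * l * a⁻¹) by group) }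
  refine CfsgLib.PGroup.isNilpotent_of_fixedPointFree hp.out _ φ (fun k hk => Subtype.ext ?_)
    fun k => Subtype.ext ?_
  · have h1 : a * k * a⁻¹ = (k : G) := congrArg Subtype.val hk
    have h2 : (k : G) ∈ Cfsg.sigmaCore M ⊓ centralizer (D : Set G) := ⟨k.2, by
      rw [← haD, centralizer_zpowers]
      exact mem_centralizer_singleton_iff.2 (mul_inv_eq_iff_eq_mul.1 h1).symm⟩
    rwa [hfix, mem_bot] at h2
  · have key : ∀ (j : ℕ) (k : ↥(Cfsg.sigmaCore M)),
        ((φ^[j] k : ↥(Cfsg.sigmaCore M)) : G) = a ^ j * k * (a ^ j)⁻¹ := by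
      intro j
      induction j with
      | zero => intro k; simp
      | succ j ih =>
        intro k
        rw [Function.iterate_succ_apply', pow_succ']
        show a * ((φ^[j] k : ↥(Cfsg.sigmaCore M)) : G) * a⁻¹ = _
        rw [ih]; group
    rw [key, hAe.2 a (hDA ha), one_mul, inv_one, mul_one]

/-- `p'`-subgroups outside `σ(M)` normalized by `A` are centralized by it. -/
theorem tau_centralizes_not_sigma {r : ℕ} [hr : Fact r.Prime] (hrσ : r ∉ Cfsg.sigma M)
    (hrp : r ≠ p) {Y : Subgroup G} (hY : IsPGroup r Y) (hYM : Y ≤ M)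
    (hAY : A ≤ normalizer (Y : Set G)) : Y ≤ centralizer (A : Set G) := by
  have hAmax : ∀ B : Subgroup G, Cfsg.IsElementaryAbelian p B → A ≤ B → B = A :=
    fun B => tau_max hG hM hpt hAM hAe hA2
  have hAp := isPGroup_of_elementary hAe
  have hsolA : Group.IsSolvable A := CfsgLib.Coprime.isSolvable_of_isMulCommutative hAe.1
  obtain ⟨A₀, hA₀, hA₀c, hNA₀, -⟩ := tau_line hG hM hpt hAM hAe hA2
  have hnA := tau_not_normalizer_le hG hM hpt hAM hAe hA2
  -- moved pieces lie in the cyclic core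
  have hcore : ∀ {U : Subgroup G}, IsPGroup r U → U ≤ M → A ≤ normalizer (U : Set G) →
      ∀ B : Subgroup G, B ≤ A → Nat.card B = p →
        (⁅U ⊓ centralizer (B : Set G), A⁆ : Subgroup G) ≤ core M r := by
    intro U hU hUM hAU B hB hBc
    have hn := le_inf_centralizer_line hAe hB hAU
    set X : Subgroup G := ⁅U ⊓ centralizer (B : Set G), A⁆ with hX
    have hXU : X ≤ U ⊓ centralizer (B : Set G) := le_normalizer_iff_commutator_le_left.1 hn
    have hXA : (⁅X, A⁆ : Subgroup G) = X := CfsgLib.Coprime.commutator_commutator_eq hn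
      (coprime_of_primes hrp hAp (hU.to_le inf_le_left)) (Or.inl hsolA)
    have hXM : X ≤ M := hXU.trans (inf_le_left.trans hUM)
    have hXr : IsPGroup r X := hU.to_le (hXU.trans inf_le_left)
    exact le_core_of_centralizes hG hM hrσ hXr (hXA.ge.trans (commutator_mono hXM hAM))
      (sigmaCore_le_centralizer hG hAe hA2 hAmax hM hAM hA₀ hA₀c hNA₀ hXM hXr hrp hrσ
        (PGroup.le_normalizer_commutator hn le_normalizer) hXA hB hBc (hXU.trans inf_le_right)
        fun h => absurd h hnA)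
  by_contra hYC
  obtain ⟨B, hB, hBc, hBY⟩ := exists_line_not_le hAe hA2 hAY (coprime_of_primes hrp hAp hY) hYC
  set X : Subgroup G := ⁅Y ⊓ centralizer (B : Set G), A⁆ with hX
  have hX1 : X ≠ ⊥ := fun e => hBY (commutator_eq_bot_iff_le_centralizer.1 e)
  have hXc : X ≤ core M r := hcore hY hYM hAY B hB hBc
  have hn := le_inf_centralizer_line hAe hB hAY
  have hXA : (⁅X, A⁆ : Subgroup G) = X := CfsgLib.Coprime.commutator_commutator_eq hn
    (coprime_of_primes hrp hAp (hY.to_le inf_le_left)) (Or.inl hsolA)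
  have hAX : A ≤ normalizer (X : Set G) := PGroup.le_normalizer_commutator hn le_normalizer
  have hXr : IsPGroup r X := isPGroup_core.to_le hXc
  have hcyc := core_cyclic hG hM hrσ
  haveI := hcyc
  have hXab : IsMulCommutative X := ⟨⟨fun a b => Subtype.ext (congrArg Subtype.val
    (IsMulCommutative.is_comm.comm (⟨a, hXc a.2⟩ : core M r) ⟨b, hXc b.2⟩) :)⟩⟩
  have hfix : X ⊓ centralizer (A : Set G) = ⊥ := by
    have h := CfsgLib.Coprime.centralizer_inf_commutator_eq_bot hXab hAX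
      (coprime_of_primes hrp hAp hXr)
    rwa [hXA, inf_assoc, inf_comm (centralizer (A : Set G)) X, ← inf_assoc, inf_idem] at h
  -- the subgroup of order `r`
  obtain ⟨x, hxX, hxo⟩ : ∃ x ∈ X, orderOf x = r := by
    obtain ⟨k, hk⟩ := IsPGroup.iff_card.1 hXr
    rcases k with _ | k
    · exact absurd (card_eq_one.1 (hk.trans (pow_zero r))) hX1
    obtain ⟨⟨x, hx⟩, hxo⟩ := exists_prime_orderOf_dvd_card' (G := X) r
      (hk ▸ dvd_pow_self r k.succ_ne_zero)
    exact ⟨x, hx, (orderOf_injective X.subtype X.subtype_injective ⟨x, hx⟩).trans hxo⟩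
  set X₁ := zpowers x with hX₁
  have hX₁c : Nat.card X₁ = r := by rw [hX₁, Nat.card_zpowers, hxo]
  have hX₁X : X₁ ≤ X := zpowers_le.2 hxX
  have hX₁e : ∀ y ∈ X₁, y ^ r = 1 := fun y hy => by
    have h := pow_card_eq_one' (x := (⟨y, hy⟩ : X₁))
    rw [hX₁c] at h
    exact congrArg Subtype.val h
  have hX₁1 : X₁ ≠ ⊥ := fun e => by
    rw [e, card_bot] at hX₁c
    exact hr.out.one_lt.ne hX₁c
  have hX₁r : IsPGroup r X₁ := hXr.to_le hX₁X
  have hNX₁ := normalizer_eq_of_le_core hG hM hrσ (hX₁X.trans hXc) hX₁e hX₁1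
  have hAX₁ : A ≤ normalizer (X₁ : Set G) := hAM.trans hNX₁.ge
  have hX₁A : ¬ A ≤ centralizer (X₁ : Set G) := fun h => hX₁1 (le_bot_iff.1 ((le_inf hX₁X
    (le_centralizer_iff.1 h)).trans hfix.le))
  -- `r` exceeds `p`
  haveI := ms_solvable hG hM.1
  have hlt : p < r := by
    by_contra hle
    have hrlt : r < p := lt_of_le_of_ne (not_lt.1 hle) hrp
    refine hX₁A fun a ha => mem_centralizer_iff.2 fun y hy => ?_
    have hR : Cfsg.PRankLE r 2 ↥(X₁.subgroupOf M) := fun F _ _ =>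
      (card_le_card_group F).trans ((Nat.card_congr
        (subgroupOfEquivOfLe (hX₁X.trans (hXc.trans core_le))).toEquiv).trans hX₁c |>.le.trans
          (Nat.le_self_pow two_ne_zero r))
    have h := RankTwoTower.centralizes_of_lt (G := ↥M) (n := 1) hp.out hrlt
      (hG.1.of_dvd_nat (card_subgroup_dvd_card M))
      (hX₁r.of_equiv (subgroupOfEquivOfLe (hX₁X.trans (hXc.trans core_le))).symm) hR
      (x := ⟨a, hAM ha⟩) (mem_normalizer_iff.2 fun z => by
        simp only [SetLike.mem_coe, mem_subgroupOf]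
        exact mem_normalizer_iff.1 (hAX₁ ha) z)
      (Subtype.ext (by rw [pow_one]; exact hAe.2 a ha))
    exact (congrArg Subtype.val (mem_centralizer_iff.1 h
      ⟨y, core_le (hXc (hX₁X hy))⟩ (mem_subgroupOf.2 hy)) :)
  -- an invariant Sylow `r`-subgroup of `M`
  have hpd : p ∣ Nat.card M :=
    (hA2 ▸ dvd_pow_self p two_ne_zero : p ∣ Nat.card A).trans (card_dvd_of_le hAM)
  have hpb : p ∉ Cfsg.beta M := fun h => hpt.2.1 (alpha_subset_sigma hG hM h.1)
  have hidx : ¬ r ∣ (coCore M p).relIndex M := by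
    intro h
    rw [Subgroup.relIndex, coCore, Subgroup.subgroupOf,
      comap_map_eq_self_of_injective M.subtype_injective] at h
    exact absurd (((Cfsg.Agent.S1414.result hG M hM).2.2.2.2 p hp.out hpd hpb).2.2 r hr.out h)
      (not_le.2 hlt)
  have hX₁D : X₁ ≤ coCore M p :=
    (hX₁X.trans hXc).trans (core_le_coCore hrp)
  obtain ⟨R, hR, hX₁R, hAR⟩ := CfsgLib.Coprime.le_invariant_sylow
    (hAM.trans le_normalizer_coCore) (by
      rw [hA2]; exact (hp.out.coprime_iff_not_dvd.2 not_dvd_coCore).pow_left 2)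
    (Or.inl hsolA) hX₁D hX₁r hAX₁
  have hRM := isSylowIn_of_relIndex hR coCore_le hidx
  have hRp : IsPGroup r R := hRM.isPGroup
  have hRmax : ∀ U : Subgroup G, IsPGroup r U → U ≤ M → R ≤ U → U = R :=
    fun U hU hUM hle => max_of_isSylowIn hRM hU hUM hle
  have hrd : r ∣ Nat.card M := (hX₁c.symm.dvd.trans (card_dvd_of_le (hX₁R.trans hRM.1)))
  have hRnc : ¬ IsCyclic R := by
    intro hc
    refine hrσ ⟨hr.out, hrd, sylowOfMax hRp hRM.1 hRmax, ?_⟩
    rw [coe_sylowOfMax, map_subgroupOf_eq_of_le hRM.1, ← hNX₁]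
    intro g hg
    refine CfsgLib.Coprime.conjBy_eq_self_iff.1 (eq_of_le_of_card_ge ?_
      (CfsgLib.Coprime.card_conjBy g X₁).ge)
    refine eq_of_cyclic hc hX₁R ?_ hX₁e ?_ hX₁1
    · rintro _ ⟨y, hy, rfl⟩
      exact (mem_normalizer_iff.1 hg y).1 (hX₁R hy)
    · rintro _ ⟨y, hy, rfl⟩
      rw [← map_pow, hX₁e y hy, map_one]
  obtain ⟨E, hER, -, hEe, hE2⟩ := exists_normal_elementary_two
    (ms_ne_two hG (hrd.trans (card_subgroup_dvd_card M))) hRp hRnc
  have hEM : E ≤ M := hER.trans hRM.1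
  have hrt : r ∈ Cfsg.tau2 M := mem_tau_iff.2 ⟨hrσ,
    pRankLE_two_of_not_alpha hr.out fun h => hrσ (alpha_subset_sigma hG hM h),
    not_pRankLE_of_elementary hEM hEe (by rw [hE2]; exact Nat.pow_lt_pow_right hr.out.one_lt one_lt_two)⟩
  obtain ⟨-, hRE, -, -⟩ := tau_sylow_abelian hG hM hrt hEM hEe hE2 hRp hRM.1 hER hRmax
  have hEmax : ∀ F : Subgroup G, Cfsg.IsElementaryAbelian r F → E ≤ F → F = E :=
    fun F => tau_max hG hM hrt hEM hEe hE2
  have hAE : A ≤ normalizer (E : Set G) := hAR.trans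
    (normalizer_le_normalizer_of_omega hEe hE2 hEmax hER hRE)
  have hX₁E : X₁ ≤ E := fun y hy =>
    mem_of_pow hEe hE2 hEmax (hX₁e y hy) (hRE (hX₁R hy))
  -- a fixed point in `E`
  have hEC : E ⊓ centralizer (A : Set G) ≠ ⊥ := by
    intro h0
    refine not_isCyclic_of_elementary hEe hE2.ge ?_
    have hle : E ≤ core M r := le_of_lines hAe hA2 hAE
      (coprime_of_primes hrp hAp (isPGroup_of_elementary hEe)) fun B' hB' hB'c => by
        have hn' := le_inf_centralizer_line hAe hB' hAE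
        have h1 := CfsgLib.Coprime.commutator_sup_centralizer hn'
          (coprime_of_primes hrp hAp ((isPGroup_of_elementary hEe).to_le inf_le_left))
          (Or.inl hsolA)
        rw [show E ⊓ centralizer (B' : Set G) ⊓ centralizer (A : Set G) = ⊥ from le_bot_iff.1
          ((inf_le_inf_right _ inf_le_left).trans h0.le), sup_bot_eq] at h1
        exact h1.ge.trans (hcore (isPGroup_of_elementary hEe) hEM hAE B' hB' hB'c)
    exact isCyclic_of_injective (inclusion hle) (inclusion_injective hle)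
  obtain ⟨L, hL, hNE⟩ := (eq_top_or_exists_le_coatom _).resolve_left
    (ms_normalizer_ne_top hG (fun e => by rw [e, card_bot] at hE2
                                          exact (Nat.one_lt_pow two_ne_zero hr.out.one_lt).ne hE2)
      (ms_isPGroup_ne_top hG (isPGroup_of_elementary hEe)))
  have hrL := tau_sigma_of_normalizer hG hM hrt hEM hEe hE2 hL hNE
  have hAL : A ≤ L := hAE.trans hNE
  have hEL : E ≤ L := le_normalizer.trans hNE
  have hrC : r ∣ Nat.card ↥(Cfsg.sigmaCore L ⊓ centralizer (A : Set G)) :=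
    (mem_of_isPGroup ((isPGroup_of_elementary hEe).to_le inf_le_left) hEC le_rfl).trans
      (card_dvd_of_le (le_inf (inf_le_left.trans (isPGroup_le_sigmaCore hG hL hrL
        (isPGroup_of_elementary hEe) hEL)) inf_le_right))
  have hpL : p ∈ Cfsg.sigma L := mem_sigma_of_fixed hG hAe hA2 hAmax hL hAL hrL hrC
    (Or.inl (Cfsg.Agent.S1416.result hG L hL p A ⟨hAL, hAe, hA2⟩).1)
  have hAd : A ≤ ⁅L, L⁆ := (isPGroup_le_sigmaCore hG hL hpL hAp hAL).trans
    (sigmaCore_le_derived hG hL)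
  have hx1 : x ≠ 1 := fun e => hr.out.one_lt.ne (by rw [← hxo, e, orderOf_one])
  by_cases hrb : r ∈ Cfsg.beta L
  · obtain ⟨-, huniq⟩ := beta_centralizer hG hL hrb (hEL (hX₁E (mem_zpowers x)))
      (hX₁e x (mem_zpowers x)) hx1
    refine hrσ ((huniq M hM ?_) ▸ hrL)
    rw [← centralizer_zpowers]
    exact (CfsgLib.Coprime.centralizer_le_normalizer_self _).trans hNX₁.le
  · exact hX₁A fun a ha => derived_centralizes_non_beta hG hL hrb (hX₁E.trans hEL) hX₁r (hAd ha)
      (Nat.Coprime.coprime_dvd_left (orderOf_dvd_of_pow_eq_one (hAe.2 a ha))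
        ((Nat.coprime_primes hp.out hr.out).2 hrp.symm))
      (hAX₁ ha)

/-- `M` normalizes `M_σ A`. -/
theorem tau_normal_sup : M ≤ normalizer ((Cfsg.sigmaCore M ⊔ A : Subgroup G) : Set G) := by
  obtain ⟨T, hTp, hTM, hAT, hmax, -, -, hNT, -⟩ := tau_sylow_data hG hM hpt hAM hAe hA2
  have hCA := tau_centralizer_le hG hM hpt hAM hAe hA2
  have hK := sigmaCore_normal hG M
  haveI := ms_solvable hG hM.1
  have hD : coCore M p ≤ Cfsg.sigmaCore M ⊔ centralizer (A : Set G) := by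
    refine le_of_invariant_sylows (hAM.trans le_normalizer_coCore) (by
      rw [hA2]; exact (hp.out.coprime_iff_not_dvd.2 not_dvd_coCore).pow_left 2)
      (Or.inl (CfsgLib.Coprime.isSolvable_of_isMulCommutative hAe.1))
      fun r hr hrd R hR hRr hAR => ?_
    haveI : Fact r.Prime := ⟨hr⟩
    have hRM : R ≤ M := hR.trans coCore_le
    by_cases hrσ : r ∈ Cfsg.sigma M
    · exact (isPGroup_le_sigmaCore hG hM hrσ hRr hRM).trans le_sup_left
    · refine (tau_centralizes_not_sigma hG hM hpt hAM hAe hA2 hrσ ?_ hRr hRM hAR).trans le_sup_right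
      rintro rfl
      exact not_dvd_coCore hrd
  have h2 : Cfsg.sigmaCore M ⊔ centralizer (A : Set G) ≤
      normalizer ((Cfsg.sigmaCore M ⊔ A : Subgroup G) : Set G) :=
    sup_le (le_sup_left.trans le_normalizer)
      (CfsgLib.Coprime.sup_le_normalizer (hCA.trans hK) (CfsgLib.Coprime.centralizer_le_normalizer_self A))
  have hr2 : Cfsg.PRankLE p 2 T := RankTwoTower.pRankLE_of_injective
    (f := inclusion hTM) (inclusion_injective hTM) hpt.2.2.1
  refine (factor_of_rank_two (hG.1.of_dvd_nat (card_subgroup_dvd_card M))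
    (ms_ne_two hG (dvd_card hG hAe hA2)) hTM hTp hmax hr2).trans (sup_le (hD.trans h2) ?_)
  exact CfsgLib.Coprime.sup_le_normalizer (inf_le_left.trans hK) (inf_le_right.trans hNT)

/-- `M_σ` meets other maximal subgroups containing `A` trivially. -/
theorem tau_inf_eq_bot {L : Subgroup G} (hL : IsCoatom L) (hLM : L ≠ M) (hAL : A ≤ L) :
    Cfsg.sigmaCore M ⊓ L = ⊥ := by
  by_contra hne
  have hAmax : ∀ B : Subgroup G, Cfsg.IsElementaryAbelian p B → A ≤ B → B = A :=
    fun B => tau_max hG hM hpt hAM hAe hA2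
  have hAp := isPGroup_of_elementary hAe
  have hsolA : Group.IsSolvable A := CfsgLib.Coprime.isSolvable_of_isMulCommutative hAe.1
  obtain ⟨s, hs, hsd⟩ := Nat.exists_prime_and_dvd fun e => hne (card_eq_one.1 e)
  haveI : Fact s.Prime := ⟨hs⟩
  have hsσ := (sigmaCore_hall hG hM).1.2.1 s hs (hsd.trans (card_dvd_of_le inf_le_left))
  have hsp : s ≠ p := fun e => hpt.2.1 (e ▸ hsσ)
  have hcop : (Nat.card A).Coprime (Nat.card (Cfsg.sigmaCore M)) := by
    rw [hA2]
    exact (hp.out.coprime_iff_not_dvd.2 (not_dvd_sigmaCore hG hM hpt.2.1)).pow_left 2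
  have hAK : A ≤ normalizer (Cfsg.sigmaCore M : Set G) := hAM.trans (sigmaCore_normal hG M)
  obtain ⟨U, hU, hAU⟩ := CfsgLib.Coprime.exists_invariant_sylow
    (CfsgLib.Coprime.inf_le_normalizer hAK (hAL.trans le_normalizer))
    (hcop.coprime_dvd_right (card_dvd_of_le inf_le_left)) (Or.inl hsolA) s
  have hUp : IsPGroup s U := hU.isPGroup
  have hU1 : U ≠ ⊥ := fun e => by
    have h1 := hU.2
    rw [e, card_bot] at h1
    exact absurd h1.symm (Nat.one_lt_pow
      (hs.factorization_pos_of_dvd Nat.card_pos.ne' hsd).ne' hs.one_lt).ne'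
  have hUL : U ≤ L := hU.1.trans inf_le_right
  have hUK : U ≤ Cfsg.sigmaCore M := hU.1.trans inf_le_left
  have hUA : ¬ A ≤ centralizer (U : Set G) := fun h => hU1 (le_bot_iff.1
    ((le_inf hUK (le_centralizer_iff.1 h)).trans (tau_fixed_eq_bot hG hM hpt hAM hAe hA2).le))
  have hsM : s ∈ Cfsg.beta L → False := by
    intro hsb
    obtain ⟨k, hk⟩ := IsPGroup.iff_card.1 hUp
    rcases k with _ | k
    · exact hU1 (card_eq_one.1 (hk.trans (pow_zero s)))
    obtain ⟨⟨x, hx⟩, hxo⟩ := exists_prime_orderOf_dvd_card' (G := U) s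
      (hk ▸ dvd_pow_self s k.succ_ne_zero)
    have hxo' : orderOf x = s := (orderOf_injective U.subtype U.subtype_injective ⟨x, hx⟩).trans hxo
    have hxs : x ^ s = 1 := by rw [← hxo', pow_orderOf_eq_one]
    have hx1 : x ≠ 1 := fun e => hs.one_lt.ne (by rw [← hxo', e, orderOf_one])
    obtain ⟨S, -, hSM⟩ := exists_sylow_of_sigma hG hM hsσ hUp (hUK.trans (map_subtype_le _))
    have hsMα : s ∈ Cfsg.alpha M := ⟨hs, fun h => hsb.2.2.1 (pRankLE_of_sylow_top S
      (RankTwoTower.pRankLE_of_injective (f := inclusion hSM) (inclusion_injective hSM) h))⟩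
    obtain ⟨hle, -⟩ := beta_centralizer hG hL hsb (hUL hx) hxs hx1
    obtain ⟨-, huniq⟩ := beta_centralizer hG hM (r := s) ⟨hsMα, hsb.2⟩
      (map_subtype_le _ (hUK hx)) hxs hx1
    exact hLM (huniq L hL hle)
  by_cases hpL : p ∈ Cfsg.sigma L
  · have hAd : A ≤ ⁅L, L⁆ := (isPGroup_le_sigmaCore hG hL hpL hAp hAL).trans
      (sigmaCore_le_derived hG hL)
    exact hUA fun a ha => derived_centralizes_non_beta hG hL (fun h => hsM h) hUL hUp (hAd ha)
      (Nat.Coprime.coprime_dvd_left (orderOf_dvd_of_pow_eq_one (hAe.2 a ha))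
        ((Nat.coprime_primes hp.out hs).2 hsp.symm))
      (hAU ha)
  have hpL2 : p ∈ Cfsg.tau2 L := mem_tau_iff.2 ⟨hpL,
    pRankLE_two_of_not_alpha hp.out fun h => hpL (alpha_subset_sigma hG hL h),
    not_pRankLE_of_elementary hAL hAe (by rw [hA2]; exact Nat.pow_lt_pow_right hp.out.one_lt one_lt_two)⟩
  by_cases hsL : s ∈ Cfsg.sigma L
  swap
  · exact hUA (le_centralizer_iff.1
      (tau_centralizes_not_sigma hG hL hpL2 hAL hAe hA2 hsL hsp hUp hUL hAU))
  obtain ⟨T, hT, hUT, hAT⟩ := CfsgLib.Coprime.le_invariant_sylow hAK hcop (Or.inl hsolA) hUK hUp hAU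
  have hcopL : (Nat.card A).Coprime (Nat.card (Cfsg.sigmaCore L)) := by
    rw [hA2]
    exact (hp.out.coprime_iff_not_dvd.2 (not_dvd_sigmaCore hG hL hpL)).pow_left 2
  obtain ⟨T', hT', hUT', hAT'⟩ := CfsgLib.Coprime.le_invariant_sylow
    (hAL.trans (sigmaCore_normal hG L)) hcopL (Or.inl hsolA)
    (isPGroup_le_sigmaCore hG hL hsL hUp hUL) hUp hAU
  obtain ⟨S, rfl⟩ := sylow_of_hall (sigmaCore_hall hG hM).2 hsσ hT
  obtain ⟨S', rfl⟩ := sylow_of_hall (sigmaCore_hall hG hL).2 hsL hT'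
  have hnorm : ∀ {N : Subgroup G}, IsCoatom N → Group.IsNilpotent (Cfsg.sigmaCore N) →
      ∀ Q : Sylow s G, (Q : Subgroup G) ≤ Cfsg.sigmaCore N → (Q : Subgroup G) ≠ ⊥ →
        normalizer ((Q : Subgroup G) : Set G) = N := by
    intro N hN hnil Q hQ hQ1
    refine ms_normalizer_eq hG hN (hQ.trans (map_subtype_le _)) hQ1 fun g hg => ?_
    haveI := hnil
    haveI : ((Q.subtype hQ : Sylow s ↥(Cfsg.sigmaCore N)) : Subgroup ↥(Cfsg.sigmaCore N)).Normal :=
      Sylow.normal_of_normalizerCondition Group.normalizerCondition_of_isNilpotent (Q.subtype hQ)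
    refine CfsgLib.Coprime.conjBy_eq_self_iff.1 (eq_of_le_of_card_ge ?_
      (CfsgLib.Coprime.card_conjBy g _).ge)
    rintro _ ⟨y, hy, rfl⟩
    obtain ⟨k, hk⟩ := Q.2 ⟨y, hy⟩
    have h1 := RankTwoTower.mem_sylow_of_normal (Q.subtype hQ : Sylow s ↥(Cfsg.sigmaCore N))
      (y := ⟨g * y * g⁻¹, (mem_normalizer_iff.1 (sigmaCore_normal hG N hg) y).1 (hQ hy)⟩)
      ⟨k, Subtype.ext (by
        show (g * y * g⁻¹) ^ s ^ k = 1
        rw [conj_pow, show y ^ s ^ k = 1 from congrArg Subtype.val hk, mul_one, mul_inv_cancel])⟩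
    exact (mem_subgroupOf.1 h1 :)
  have hS1 : (S : Subgroup G) ≠ ⊥ := fun e => hU1 (le_bot_iff.1 (hUT.trans e.le))
  have hS'1 : (S' : Subgroup G) ≠ ⊥ := fun e => hU1 (le_bot_iff.1 (hUT'.trans e.le))
  have hd : TransData A s := ⟨transitivityHypothesis hG hAe hA2 hAmax, hG.2.1, hG.2.2.1,
    hG.2.2.2, not_dvd_of_prime_pow hsp hAp⟩
  obtain ⟨c, hc, hcS⟩ := hd.conj_of_inf_ne_bot _ (S : Subgroup G) (S' : Subgroup G)
    ⟨S.2, hAT, fun R hR _ hle => S.3 hR hle⟩ ⟨S'.2, hAT', fun R hR _ hle => S'.3 hR hle⟩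
    (fun h => hU1 (le_bot_iff.1 ((le_inf hUT hUT').trans h.le))) rfl
  have hcM : c ∈ M := tau_centralizer_le hG hM hpt hAM hAe hA2 (piCoreOf_le _ hc)
  apply hLM
  rw [← hnorm hL (tau_nilpotent hG hL hpL2 hAL hAe hA2) S' hT'.1 hS'1, hcS, normalizer_conjBy,
    hnorm hM (tau_nilpotent hG hM hpt hAM hAe hA2) S hT.1 hS1,
    CfsgLib.Coprime.conjBy_eq_self_iff.2 (le_normalizer hcM)]

end MinSimple

end CfsgLib.CFun.TauTwo
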