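import Cfsg.Agent.Lib.CFun.OddTauTwoLines
import Cfsg.Agent.Lib.CFun.OddPowerProjection
import Cfsg.Agent.Lib.Coprime.Gaschutz
import Cfsg.Agent.S1419

/-!
# The complement of `M_σ` when `τ₁ ∪ τ₃` acts regularly

`E` has an abelian normal subgroup containing every `C_E(x)`, `x ∈ M_σ` nontrivial, and a subgroup
of the same exponent acting without fixed points.
-/

set_option autoImplicit false
set_option linter.style.haveILetI false
set_option linter.unusedSectionVars false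

open Subgroup
open scoped commutatorElement
open CfsgLib.Coprime (conjBy conjBy_conjBy conjBy_one mem_conjBy IsSylowIn IsHallIn)

namespace CfsgLib.CFun.TauTwo

universe u

variable {G : Type u} [Group G] [Finite G] {p : ℕ} [hp : Fact p.Prime]
  (hG : Cfsg.IsMinSimpleOddOrder G) {M E : Subgroup G} (hM : IsCoatom M)
  (hE : Cfsg.IsComplIn E (Cfsg.sigmaCore M) M)
include hG hM hE

theorem compl_tau_cases (hpE : p ∣ Nat.card E) :
    p ∈ Cfsg.tau1 M ∪ Cfsg.tau3 M ∨ p ∈ Cfsg.tau2 M := by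
  have hpM : p ∣ Nat.card M := hpE.trans (card_dvd_of_le hE.1)
  have hpσ : p ∉ Cfsg.sigma M := Compl.compl_not_sigma hG hM hE hpE
  have hr2 : Cfsg.PRankLE p 2 M :=
    pRankLE_two_of_not_alpha hp.out fun ha => hpσ (alpha_subset_sigma hG hM ha)
  by_cases hr : Cfsg.PRankLE p 1 M
  · by_cases hd : p ∣ Nat.card ↥(⁅M, M⁆ : Subgroup G)
    · exact Or.inl (Or.inr ⟨hp.out, hpσ, hd, hr⟩)
    · exact Or.inl (Or.inl ⟨hp.out, hpσ, hpM, hd, hr⟩)
  · exact Or.inr (mem_tau_iff.2 ⟨hpσ, hr2, hr⟩)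

/-- Nontrivial prime-power elements of `E` with fixed points belong to `τ₂(M)`. -/
theorem fixed_prime_tau_two (hreg : RegularTauOneThree M E) {z : G} (hzE : z ∈ E) (hz1 : z ≠ 1)
    {n : ℕ} (hzn : z ^ p ^ n = 1) (hfix : Cfsg.sigmaCore M ⊓ centralizer ({z} : Set G) ≠ ⊥) :
    p ∈ Cfsg.tau2 M := by
  obtain ⟨j, -, hj⟩ := (Nat.dvd_prime_pow hp.out).1 (orderOf_dvd_of_pow_eq_one hzn)
  have hj0 : j ≠ 0 := by
    rintro rfl; exact hz1 (orderOf_eq_one_iff.1 (by rw [hj, pow_zero]))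
  refine (compl_tau_cases hG hM hE (((dvd_pow_self p hj0).trans hj.symm.dvd).trans
    (Subgroup.orderOf_dvd_natCard E hzE))).resolve_left fun h => hfix (hreg z hzE hz1 fun r hr hrd => ?_)
  rw [hj] at hrd
  rwa [(Nat.prime_dvd_prime_iff_eq hr hp.out).1 (hr.dvd_of_dvd_pow hrd)]

omit hG hM hE in
theorem fixed_mono {z w : G} (hw : w ∈ zpowers z) :
    Cfsg.sigmaCore M ⊓ centralizer ({z} : Set G) ≤
      Cfsg.sigmaCore M ⊓ centralizer ({w} : Set G) := by
  rw [← centralizer_zpowers z, ← centralizer_zpowers w]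
  exact inf_le_inf_left _ (centralizer_le (zpowers_le.2 hw))

/-- The torus at a prime of `τ₂(M)` with abelian Sylow subgroups. -/
theorem torus_data (hreg : RegularTauOneThree M E) (hpt : p ∈ Cfsg.tau2 M)
    (hab : ∃ S : Sylow p G, IsMulCommutative (S : Subgroup G)) :
    ∃ S : Subgroup G, IsMulCommutative S ∧ IsPGroup p S ∧ S ≤ E ∧ E ≤ normalizer (S : Set G) ∧
      (∀ e ∈ E, ∀ n : ℕ, e ^ p ^ n = 1 → e ∈ S) ∧
      ∃ d ∈ S, E ≤ normalizer ((zpowers d : Subgroup G) : Set G) ∧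
        (∀ x ∈ S, x ^ orderOf d = 1) ∧
        ∀ z ∈ zpowers d, z ^ p = 1 → z ≠ 1 →
          Cfsg.sigmaCore M ⊓ centralizer ({z} : Set G) = ⊥ := by
  obtain ⟨A, hAE, hAe, hA2⟩ := Compl.exists_elementary_compl hG hM hE hpt
  obtain ⟨S, hAS⟩ := (isPGroup_of_elementary hAe).exists_le_sylow
  have hab' : IsMulCommutative (S : Subgroup G) := by
    obtain ⟨S₀, hS₀⟩ := hab
    obtain ⟨g, hg⟩ := exists_conjBy_sylow S₀ S
    rw [hg]
    haveI := hS₀
    exact Subgroup.map_isMulCommutative _ _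
  have hNS := torus_normalizer_eq hG hM hE hpt hAE hAe hA2 S hAS hab'
  have hEN : E ≤ normalizer ((S : Subgroup G) : Set G) :=
    (compl_le_normalizer hG hM hE hpt hAE hAe hA2).trans hNS.ge
  have hSE := torus_le_compl hG hM hE hpt hAE hAe hA2 S hAS hab'
  have hmem := fun x => torus_mem hG hM hE hpt hAE hAe hA2 S hAS hab' (x := x)
  refine ⟨S, hab', S.2, hSE, hEN,
    fun e he n hn => sylow_compl_mem hG hM hE hpt hAE hAe hA2 S hAS hab' he hn, ?_⟩
  haveI := hab'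
  obtain ⟨k, hk⟩ : ∃ k, Monoid.exponent (S : Subgroup G) = p ^ k := by
    obtain ⟨j, hj⟩ := IsPGroup.iff_card.1 S.2
    obtain ⟨i, -, hi⟩ := (Nat.dvd_prime_pow hp.out).1
      (hj ▸ Group.exponent_dvd_nat_card (G := (S : Subgroup G)))
    exact ⟨i, hi⟩
  have hA1 : A ≠ ⊥ := fun e => by
    rw [e, card_bot] at hA2
    exact (Nat.one_lt_pow two_ne_zero hp.out.one_lt).ne hA2
  obtain ⟨m, rfl⟩ : ∃ m, k = m + 1 := by
    refine ⟨k - 1, (Nat.succ_pred_eq_of_ne_zero fun h0 => hA1 (eq_bot_iff.2 fun a ha => ?_)).symm⟩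
    rw [h0, pow_zero] at hk
    have h := Monoid.pow_exponent_eq_one (⟨a, hAS ha⟩ : (S : Subgroup G))
    rw [hk, pow_one] at h
    exact mem_bot.2 (congrArg Subtype.val h)
  have hexp : ∀ x ∈ (S : Subgroup G), x ^ p ^ (m + 1) = 1 := fun x hx => by
    have h := Monoid.pow_exponent_eq_one (⟨x, hx⟩ : (S : Subgroup G))
    rw [hk] at h
    exact congrArg Subtype.val h
  -- an invariant line of `p ^ m`-th powers without fixed points
  obtain ⟨L, hLc, hEL, hLfix, hLroot⟩ : ∃ L : Subgroup G, Nat.card L = p ∧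
      E ≤ normalizer (L : Set G) ∧ Cfsg.sigmaCore M ⊓ centralizer (L : Set G) = ⊥ ∧
      ∀ x ∈ L, ∃ t ∈ (S : Subgroup G), t ^ p ^ m = x := by
    let V : Subgroup G :=
      { carrier := {x | ∃ t ∈ (S : Subgroup G), t ^ p ^ m = x}
        one_mem' := ⟨1, one_mem _, one_pow _⟩
        mul_mem' := fun {a b} ⟨s, hs, hsa⟩ ⟨t, ht, htb⟩ => ⟨s * t, mul_mem hs ht, by
          have hc : Commute s t := congrArg Subtype.val (hab'.1.1 ⟨s, hs⟩ ⟨t, ht⟩)
          rw [hc.mul_pow, hsa, htb]⟩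
        inv_mem' := fun {a} ⟨s, hs, hsa⟩ => ⟨s⁻¹, inv_mem hs, by rw [inv_pow, hsa]⟩ }
    have hVA : V ≤ A := by
      rintro _ ⟨t, ht, rfl⟩
      exact hmem _ (pow_mem ht _) (by rw [← pow_mul, ← pow_succ]; exact hexp t ht)
    by_cases hall : A ≤ V
    · obtain ⟨L, hL, hLc, hEL, hLfix⟩ :=
        exists_invariant_fpf_line hG hM hE hpt hAE hAe hA2 S hAS hab' hreg
      exact ⟨L, hLc, hEL, hLfix, fun x hx => hall (hL hx)⟩
    have hV1 : V ≠ ⊥ := by
      intro e1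
      have h0 : Monoid.exponent (S : Subgroup G) ∣ p ^ m :=
        Monoid.exponent_dvd_of_forall_pow_eq_one fun x => Subtype.ext
          (mem_bot.1 (e1 ▸ (⟨x, x.2, rfl⟩ : ((x : G) ^ p ^ m) ∈ V)))
      rw [hk, Nat.pow_dvd_pow_iff_le_right hp.out.one_lt] at h0
      omega
    have hVc : Nat.card V = p :=
      ((card_pSq_cases hA2 hVA).resolve_left hV1).resolve_right fun e1 => hall e1.ge
    have hNV : normalizer ((S : Subgroup G) : Set G) ≤ normalizer (V : Set G) := by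
      intro n hn
      refine CfsgLib.Coprime.conjBy_eq_self_iff.1 (eq_of_le_of_card_ge ?_
        (CfsgLib.Coprime.card_conjBy n _).ge)
      rintro _ ⟨_, ⟨t, ht, rfl⟩, rfl⟩
      exact ⟨n * t * n⁻¹, (mem_normalizer_iff.1 hn t).1 ht, by rw [conj_pow]; rfl⟩
    refine ⟨V, hVc, hEN.trans hNV, ?_, fun x hx => hx⟩
    by_contra hfix
    obtain ⟨-, ⟨-, -, hNnot⟩, huniq⟩ := Cfsg.Agent.S1418.result hG M hM E hE p hpt A ⟨hAE, hAe, hA2⟩
    obtain ⟨hCL, hCu⟩ := huniq V hVA hVc hfix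
    refine hNnot (fun y hy => ?_)
    have hy' : y ∈ normalizer (V : Set G) := hNV (hNS.ge hy)
    rw [← ms_normalizer_self hG hM]
    refine CfsgLib.Coprime.conjBy_eq_self_iff.1 (hCu _ (isCoatom_conjBy y hM) ?_)
    refine le_trans (le_of_eq ?_) (map_mono hCL)
    exact (CfsgLib.Coprime.conjBy_eq_self_iff.2
      (CfsgLib.Coprime.normalizer_le_normalizer_centralizer V hy')).symm
  obtain ⟨b, hb, hb1⟩ := (bot_or_exists_ne_one L).resolve_left fun e1 => line_ne_bot hLc e1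
  have hbL : zpowers b = L := eq_of_le_of_card_ge (zpowers_le.2 hb)
    (le_of_eq (by rw [hLc, zpowers_card (isElementaryAbelian_line hLc) hb hb1]))
  obtain ⟨t, ht, htb⟩ := hLroot b hb
  obtain ⟨K, hKE, hKπ, hKidx⟩ := CfsgLib.Coprime.exists_hallIn {r | r ≠ p}
    (Compl.compl_solvable hG hM hE)
  have hpK : ¬ p ∣ Nat.card K := fun hd => hKπ p hp.out hd rfl
  obtain ⟨d, hd, hdb, hd1, hKd⟩ := PowerProj.exists_cyclic_invariant hab' (hKE.trans hEN) hpK hexp
    ht htb hb1 ((hKE.trans hEL).trans (le_of_eq (by rw [hbL])))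
  have hod : orderOf d = p ^ (m + 1) := orderOf_eq_prime_pow hd1 (hexp d hd)
  have hSK : E ≤ (S : Subgroup G) ⊔ K := by
    rw [← relIndex_eq_one]
    by_contra hne
    obtain ⟨r, hr, hrd⟩ := Nat.exists_prime_and_dvd hne
    have h1 : r ∣ K.relIndex E := hrd.trans (relIndex_dvd_of_le_left E le_sup_right)
    have hrp : r = p := by
      by_contra hne'
      exact hKidx r hr h1 hne'
    subst hrp
    refine S.not_dvd_index ((hrd.trans (relIndex_dvd_of_le_left E le_sup_left)).trans ?_)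
    rw [← relIndex_mul_index hSE]
    exact dvd_mul_right _ _
  refine ⟨d, hd, hSK.trans (sup_le (fun s hs => ?_) hKd), fun x hx => hod ▸ hexp x hx, fun z hz hzp hz1 => ?_⟩
  · refine CfsgLib.Coprime.centralizer_le_normalizer_self _ ((centralizer_zpowers d).ge ?_)
    exact mem_centralizer_singleton_iff.2 (congrArg Subtype.val (hab'.1.1 ⟨s, hs⟩ ⟨d, hd⟩))
  · obtain ⟨i, rfl⟩ := mem_zpowers_iff.1 hz
    have hdi : ((p ^ m : ℕ) : ℤ) ∣ i := by
      rw [← zpow_natCast, ← zpow_mul, ← orderOf_dvd_iff_zpow_eq_one, hod, pow_succ,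
        Nat.cast_mul] at hzp
      exact (mul_dvd_mul_iff_right (by exact_mod_cast hp.out.ne_zero)).1 hzp
    obtain ⟨j, rfl⟩ := hdi
    have hzL : d ^ ((p ^ m : ℕ) * j : ℤ) ∈ L := by
      rw [zpow_mul, zpow_natCast, ← hbL]
      exact zpow_mem hdb _
    have hzeq : zpowers (d ^ ((p ^ m : ℕ) * j : ℤ)) = L := eq_of_le_of_card_ge (zpowers_le.2 hzL)
      (le_of_eq (by rw [hLc, zpowers_card (isElementaryAbelian_line hLc) hzL hz1]))
    rw [← centralizer_zpowers, hzeq]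
    exact hLfix

omit hG hM hE in
theorem not_abelian_all (h : ¬ ∃ S : Sylow p G, IsMulCommutative (S : Subgroup G)) :
    ∀ S : Sylow p G, ¬ IsMulCommutative (S : Subgroup G) := fun S hS => h ⟨S, hS⟩

/-- In the nonabelian case, fixed `p`-elements lie in `A ∩ C(M_σ)`. -/
theorem nonab_fixed_mem (hpt : p ∈ Cfsg.tau2 M)
    (hS : ∀ S : Sylow p G, ¬ IsMulCommutative (S : Subgroup G)) {A : Subgroup G} (hAE : A ≤ E)
    (hAe : Cfsg.IsElementaryAbelian p A) (hA2 : Nat.card A = p ^ 2) {e : G} (he : e ∈ E) {n : ℕ}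
    (hen : e ^ p ^ n = 1) (hfix : Cfsg.sigmaCore M ⊓ centralizer ({e} : Set G) ≠ ⊥) :
    e ∈ A ⊓ centralizer (Cfsg.sigmaCore M : Set G) := by
  obtain ⟨-, ⟨hA₀c, -⟩, hothers⟩ := Cfsg.Agent.S1419.result hG M hM E hE p hpt hS A ⟨hAE, hAe, hA2⟩
  have hAM : A ≤ M := hAE.trans hE.1
  set A₀ := A ⊓ centralizer (Cfsg.sigmaCore M : Set G) with hA₀
  obtain ⟨j, -, hj⟩ := (Nat.dvd_prime_pow hp.out).1 (orderOf_dvd_of_pow_eq_one hen)
  rcases j with _ | _ | j
  · rw [orderOf_eq_one_iff.1 (hj.trans (pow_zero p))]; exact one_mem _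
  · by_contra hmem
    have hc : Nat.card (zpowers e) = p := by rw [Nat.card_zpowers, hj, pow_one]
    refine hfix ?_
    rw [← centralizer_zpowers e]
    exact (hothers (zpowers e) (zpowers_le.2 he) hc fun e1 => hmem (e1 ▸ mem_zpowers e)).1
  exfalso
  set y := e ^ p ^ j with hy
  have hye : y ^ p ^ 2 = 1 := by
    rw [hy, ← pow_mul, ← pow_add, show j + 2 = j + 1 + 1 from rfl, ← hj, pow_orderOf_eq_one]
  have hy1 : y ^ p ≠ 1 := fun e1 => by
    rw [hy, ← pow_mul, ← pow_succ] at e1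
    have h := orderOf_dvd_of_pow_eq_one e1
    rw [hj, Nat.pow_dvd_pow_iff_le_right hp.out.one_lt] at h
    omega
  have hEN : E ≤ normalizer (A : Set G) := compl_le_normalizer hG hM hE hpt hAE hAe hA2
  have hU : IsPGroup p ↥(A ⊔ zpowers e) :=
    IsPGroup.to_sup_of_normal_left' (isPGroup_of_elementary hAe)
      (IsPGroup.of_card (n := j + 1 + 1) ((Nat.card_zpowers e).trans hj)) ((zpowers_le.2 he).trans hEN)
  have heC : e ∈ centralizer (A : Set G) :=
    tau_le_centralizer hG hM hpt hAM hAe hA2 hU (sup_le hAM (zpowers_le.2 (hE.1 he)))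
      (sup_le le_normalizer ((zpowers_le.2 he).trans hEN)) (mem_sup_right (mem_zpowers e))
  obtain ⟨S, hUS⟩ := hU.exists_le_sylow
  have hAS : A ≤ (S : Subgroup G) := le_sup_left.trans hUS
  have hyS : y ∈ (S : Subgroup G) := hUS (mem_sup_right (pow_mem (mem_zpowers e) _))
  have hyp : (y ^ p) ^ p = 1 := by rw [← pow_mul, ← sq]; exact hye
  have hyc : y ^ p ∈ centerSocle (S : Subgroup G) p := mem_centerSocle.2 ⟨pow_mem hyS _, hyp,
    pow_central_of_centralizes hG hAe hA2 (fun _ => tau_max hG hM hpt hAM hAe hA2) S hAS hyS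
      (pow_mem heC _) hye⟩
  obtain ⟨-, hcc, hnot⟩ := nonab_center_line hG hM hpt hAM hAe hA2 hS S hAS
  have hzeq : zpowers (y ^ p) = centerSocle (S : Subgroup G) p :=
    eq_of_le_of_card_ge (zpowers_le.2 hyc)
      (le_of_eq (by rw [hcc, zpowers_card (isElementaryAbelian_line hcc) hyc hy1]))
  have hfix' : Cfsg.sigmaCore M ⊓ centralizer (zpowers (y ^ p) : Set G) ≠ ⊥ := fun e1 => hfix
    (le_bot_iff.1 (e1 ▸ centralizer_zpowers (y ^ p) ▸
      fixed_mono (pow_mem (pow_mem (mem_zpowers e) _) _)))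
  have hyA : y ^ p ∈ A := mem_of_pow hAe hA2 (fun _ => tau_max hG hM hpt hAM hAe hA2) hyp
    (pow_mem (pow_mem heC _) _)
  have hcard : Nat.card (zpowers (y ^ p)) = p := by rw [hzeq, hcc]
  exact hnot (hzeq ▸ ((Cfsg.Agent.S1418.result hG M hM E hE p hpt A ⟨hAE, hAe, hA2⟩).2.2 _
    (zpowers_le.2 hyA) hcard hfix').1)

variable (hreg : RegularTauOneThree M E)
include hreg

omit hp in
/-- The abelian normal subgroup. -/
theorem exists_abelian_normal :
    ∃ A₀ : Subgroup G, A₀ ≤ E ∧ E ≤ normalizer (A₀ : Set G) ∧ IsMulCommutative A₀ ∧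
      ∀ x ∈ Cfsg.sigmaCore M, x ≠ 1 → E ⊓ centralizer ({x} : Set G) ≤ A₀ := by
  set s : Set G := {e | e ∈ E ∧ (∃ q ∈ Cfsg.tau2 M, ∃ n, e ^ q ^ n = 1) ∧
    Cfsg.sigmaCore M ⊓ centralizer ({e} : Set G) ≠ ⊥} with hs
  refine ⟨closure s, (closure_le E).2 fun e he => he.1, fun a ha => ?_, ?_, fun x hx hx1 => ?_⟩
  · refine CfsgLib.Coprime.conjBy_eq_self_iff.1 (eq_of_le_of_card_ge ?_
      (CfsgLib.Coprime.card_conjBy a _).ge)
    refine (MonoidHom.map_closure _ s).trans_le (closure_mono ?_)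
    rintro _ ⟨e, ⟨heE, ⟨q, hq, n, hn⟩, hfix⟩, rfl⟩
    refine ⟨mul_mem (mul_mem ha heE) (inv_mem ha), ⟨q, hq, n, ?_⟩, fun e1 => hfix ?_⟩
    · show (a * e * a⁻¹) ^ q ^ n = 1
      rw [conj_pow, hn, mul_one, mul_inv_cancel]
    · rw [eq_bot_iff]
      rintro y ⟨hyK, hyC⟩
      have hK : a * y * a⁻¹ ∈ Cfsg.sigmaCore M :=
        (mem_normalizer_iff.1 (sigmaCore_normal hG M (hE.1 ha)) y).1 hyK
      have hC : a * y * a⁻¹ ∈ centralizer ({a * e * a⁻¹} : Set G) := by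
        refine mem_centralizer_singleton_iff.2 ?_
        rw [conj_mul, conj_mul, mem_centralizer_singleton_iff.1 hyC]
      have h1 := e1.le (mem_inf.2 ⟨hK, hC⟩)
      rw [mem_bot, mul_inv_eq_one, mul_eq_left] at h1
      exact mem_bot.2 h1
  · refine isMulCommutative_closure fun e he f hf => ?_
    obtain ⟨heE, ⟨q, hq, i, hi⟩, hefix⟩ := he
    obtain ⟨hfE, ⟨r, hr, j, hj⟩, hffix⟩ := hf
    haveI : Fact q.Prime := ⟨hq.1⟩
    haveI : Fact r.Prime := ⟨hr.1⟩
    obtain ⟨A, hAE, hAe, hA2⟩ := Compl.exists_elementary_compl hG hM hE hq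
    by_cases hqab : ∃ S : Sylow q G, IsMulCommutative (S : Subgroup G)
    swap
    · have hS := not_abelian_all hqab
      have hsing := (Cfsg.Agent.S1419.result hG M hM E hE q hq hS A ⟨hAE, hAe, hA2⟩).1
      obtain rfl : r = q := by rw [hsing] at hr; exact hr
      exact (commute_of_mem hAe (nonab_fixed_mem hG hM hE hq hS hAE hAe hA2 heE hi hefix).1
        (nonab_fixed_mem hG hM hE hq hS hAE hAe hA2 hfE hj hffix).1).eq
    obtain ⟨Sq, habq, hSqp, hSqE, hENq, hmemq, -⟩ := torus_data hG hM hE hreg hq hqab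
    rcases eq_or_ne r q with rfl | hrq
    · exact congrArg Subtype.val (habq.1.1 ⟨e, hmemq e heE i hi⟩ ⟨f, hmemq f hfE j hj⟩)
    have hrab : ∃ S : Sylow r G, IsMulCommutative (S : Subgroup G) := by
      by_contra hrab
      obtain ⟨B, hBE, hBe, hB2⟩ := Compl.exists_elementary_compl hG hM hE hr
      have hsing := (Cfsg.Agent.S1419.result hG M hM E hE r hr (not_abelian_all hrab) B
        ⟨hBE, hBe, hB2⟩).1
      rw [hsing] at hq
      exact hrq hq.symm
    obtain ⟨Sr, -, hSrp, hSrE, hENr, hmemr, -⟩ := torus_data hG hM hE hreg hr hrab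
    have hc : Sr ≤ centralizer (Sq : Set G) := le_centralizer_of_inf_eq_bot (hSrE.trans hENq)
      (hSqE.trans hENr) (inf_eq_bot_of_isPGroup hSrp (not_dvd_of_prime_pow hrq hSqp))
    exact mem_centralizer_iff.1 (hc (hmemr f hfE j hj)) e (hmemq e heE i hi)
  · rintro c ⟨hcE, hcx⟩
    refine (CfsgLib.Fusion.le_of_forall_prime_pow (H := zpowers c) fun q hq z hz ⟨n, hn⟩ => ?_)
      (mem_zpowers c)
    by_cases hz1 : z = 1
    · rw [hz1]; exact one_mem _
    haveI : Fact q.Prime := ⟨hq⟩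
    have hzfix : Cfsg.sigmaCore M ⊓ centralizer ({z} : Set G) ≠ ⊥ := fun e1 => hx1 (by
      have h := (fixed_mono hz).trans e1.le (mem_inf.2 ⟨hx,
        mem_centralizer_singleton_iff.2 (mem_centralizer_singleton_iff.1 hcx).symm⟩)
      exact mem_bot.1 h)
    have hzE : z ∈ E := zpowers_le.2 hcE hz
    exact subset_closure ⟨hzE,
      ⟨q, fixed_prime_tau_two hG hM hE hreg hzE hz1 hn hzfix, n, hn⟩, hzfix⟩

omit hp hreg in
theorem regular_of_prime_order {E₀ : Subgroup G}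
    (h : ∀ z ∈ E₀, ∀ q : ℕ, q.Prime → orderOf z = q →
      Cfsg.sigmaCore M ⊓ centralizer ({z} : Set G) = ⊥) :
    ∀ e ∈ E₀, e ≠ 1 → Cfsg.sigmaCore M ⊓ centralizer ({e} : Set G) = ⊥ := by
  intro e he he1
  obtain ⟨q, hq, hqd⟩ := Nat.exists_prime_and_dvd fun h1 => he1 (orderOf_eq_one_iff.1 h1)
  refine le_bot_iff.1 ((fixed_mono (pow_mem (mem_zpowers e) _)).trans
    (h (e ^ (orderOf e / q)) (pow_mem he _) q hq ?_).le)
  exact orderOf_pow_orderOf_div (orderOf_pos e).ne' hqd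

omit hp hG hM hE hreg in
theorem exponent_eq_of_orders {E₀ : Subgroup G} (hle : E₀ ≤ E)
    (h : ∀ r : ℕ, r.Prime → ∀ g ∈ E, ∀ n : ℕ, g ^ r ^ n = 1 → ∃ d ∈ E₀, g ^ orderOf d = 1) :
    Monoid.exponent E₀ = Monoid.exponent E := by
  refine Nat.dvd_antisymm (Monoid.exponent_dvd_of_monoidHom _ (inclusion_injective hle))
    (Monoid.exponent_dvd_of_forall_pow_eq_one fun g => orderOf_dvd_iff_pow_eq_one.1 ?_)
  rw [Nat.dvd_iff_prime_pow_dvd_dvd]
  intro r j hr hd
  rw [← orderOf_coe] at hd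
  have ho := orderOf_pow_orderOf_div (orderOf_pos (g : G)).ne' hd
  obtain ⟨d, hd₀, hpow⟩ := h r hr ((g : G) ^ (orderOf (g : G) / r ^ j)) (pow_mem g.2 _) j
    (orderOf_dvd_iff_pow_eq_one.1 ho.dvd)
  have h1 : r ^ j ∣ orderOf d := ho ▸ orderOf_dvd_of_pow_eq_one hpow
  exact h1.trans ((orderOf_coe (⟨d, hd₀⟩ : E₀)).dvd.trans (Monoid.order_dvd_exponent _))

/-- The subgroup of full exponent: a nonabelian prime. -/
theorem exists_exponent_nonab (hpt : p ∈ Cfsg.tau2 M)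
    (hS : ∀ S : Sylow p G, ¬ IsMulCommutative (S : Subgroup G)) :
    ∃ E₀ : Subgroup G, E₀ ≤ E ∧ Monoid.exponent E₀ = Monoid.exponent E ∧
      ∀ e ∈ E₀, e ≠ 1 → Cfsg.sigmaCore M ⊓ centralizer ({e} : Set G) = ⊥ := by
  obtain ⟨A, hAE, hAe, hA2⟩ := Compl.exists_elementary_compl hG hM hE hpt
  have hAM : A ≤ M := hAE.trans hE.1
  obtain ⟨hsing, ⟨hA₀c, -⟩, hothers⟩ := Cfsg.Agent.S1419.result hG M hM E hE p hpt hS A ⟨hAE, hAe, hA2⟩
  have hEN : E ≤ normalizer (A : Set G) := compl_le_normalizer hG hM hE hpt hAE hAe hA2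
  set A₀ := A ⊓ centralizer (Cfsg.sigmaCore M : Set G) with hA₀
  have hA₀E : A₀ ≤ E := inf_le_left.trans hAE
  have hEA₀ : E ≤ normalizer (A₀ : Set G) := CfsgLib.Coprime.inf_le_normalizer hEN
    ((hE.1.trans (sigmaCore_normal hG M)).trans (CfsgLib.Coprime.normalizer_le_normalizer_centralizer _))
  have hA₀p : IsPGroup p A₀ := IsPGroup.of_card (hA₀c.trans (pow_one p).symm)
  obtain ⟨P, hP⟩ :=
    ((isPGroup_of_elementary hAe).of_equiv (subgroupOfEquivOfLe hAE).symm).exists_le_sylow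
  set T := (P : Subgroup E).map E.subtype with hT
  have hTp : IsPGroup p T := P.2.map _
  have hTE : T ≤ E := map_subtype_le _
  have hAT : A ≤ T := fun a ha => ⟨⟨a, hAE ha⟩, hP ha, rfl⟩
  haveI hTab : IsMulCommutative T :=
    isMulCommutative_of_not_sigma hG hM hpt.2.1 hTp (hTE.trans hE.1)
  have hcomm : ∀ x ∈ T, ∀ y ∈ T, Commute x y := fun x hx y hy =>
    congrArg Subtype.val (hTab.1.1 ⟨x, hx⟩ ⟨y, hy⟩)
  have hTA : T ≤ centralizer (A : Set G) := fun x hx => mem_centralizer_iff.2 fun a ha =>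
    (hcomm a (hAT ha) x hx).eq
  have hord : ∀ x ∈ T, x ^ p = 1 → x ∈ A := fun x hx hxp =>
    mem_of_pow hAe hA2 (fun _ => tau_max hG hM hpt hAM hAe hA2) hxp (hTA hx)
  -- a complement `⟨y⟩` to `A₀` in `T`
  obtain ⟨y, hyT, hy, hexp, hTy⟩ : ∃ y ∈ T, (zpowers y ⊓ A₀ = ⊥) ∧
      (∀ x ∈ T, x ^ orderOf y = 1) ∧ T ≤ A₀ ⊔ zpowers y := by
    have hA₀A : A₀ ≤ A := inf_le_left
    by_cases hall : ∀ x ∈ T, x ^ p = 1
    · obtain ⟨B, hBA, hBc, hBne⟩ := exists_line_ne hAe hA2 hA₀c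
      obtain ⟨b, hb, hb1⟩ := (bot_or_exists_ne_one B).resolve_left fun e1 => line_ne_bot hBc e1
      have hbB : zpowers b = B := eq_of_le_of_card_ge (zpowers_le.2 hb)
        (le_of_eq (by rw [hBc, zpowers_card (isElementaryAbelian_line hBc) hb hb1]))
      have hob : orderOf b = p := orderOf_eq_prime (hAe.2 b (hBA hb)) hb1
      refine ⟨b, hAT (hBA hb), le_bot_iff.1 fun x ⟨hx, hx'⟩ => mem_bot.2 ?_,
        fun x hx => by rw [hob]; exact hall x hx, fun x hx => ?_⟩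
      · by_contra hx1
        refine hBne (eq_of_le_of_card_ge ?_ (hA₀c.trans hBc.symm).le)
        have h1 : zpowers x = B := eq_of_le_of_card_ge (zpowers_le.2 (hbB.le hx))
          (le_of_eq (by rw [hBc, zpowers_card (isElementaryAbelian_line hBc) (hbB.le hx) hx1]))
        exact h1 ▸ zpowers_le.2 hx'
      · rw [hbB, sup_lines hA2 hA₀A hBA hA₀c hBc hBne]
        exact hord x hx (hall x hx)
    push Not at hall
    obtain ⟨x₀, hx₀, hx₀p⟩ := hall
    obtain ⟨⟨y, hy⟩, hye⟩ : ∃ y : T, orderOf y = Monoid.exponent T := by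
      open scoped IsMulCommutative in
      exact Monoid.exists_orderOf_eq_exponent Monoid.ExponentExists.of_finite
    rw [← orderOf_coe] at hye
    have hexp : ∀ x ∈ T, x ^ orderOf y = 1 := fun x hx => by
      rw [show orderOf y = Monoid.exponent T from hye]
      exact congrArg Subtype.val (Monoid.pow_exponent_eq_one (⟨x, hx⟩ : T))
    obtain ⟨i, hi⟩ := hTp ⟨y, hy⟩
    obtain ⟨n, -, hn⟩ := (Nat.dvd_prime_pow hp.out).1
      (orderOf_dvd_of_pow_eq_one (congrArg Subtype.val hi : y ^ p ^ i = 1))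
    obtain ⟨m, rfl⟩ : ∃ m, n = m + 2 := by
      refine ⟨n - 2, ?_⟩
      by_contra hne
      refine hx₀p (orderOf_dvd_iff_pow_eq_one.1 ((orderOf_dvd_of_pow_eq_one (hexp x₀ hx₀)).trans ?_))
      rw [hn]
      exact (pow_dvd_pow p (show n ≤ 1 by omega)).trans (pow_one p).dvd
    -- `p`-th powers of order `p` avoid `A₀`
    have avoid : ∀ z ∈ T, z ^ p ∈ A₀ → z ^ p = 1 := by
      intro z hz hz0
      by_contra hne
      have hzE : z ∈ E := hTE hz
      have hfix : Cfsg.sigmaCore M ⊓ centralizer ({z ^ p} : Set G) ≠ ⊥ := fun e1 => by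
        refine sigmaCore_ne_bot hG hM (le_bot_iff.1 (le_trans ?_ e1.le))
        exact le_inf le_rfl fun k hk =>
          mem_centralizer_singleton_iff.2 (mem_centralizer_iff.1 (mem_inf.1 hz0).2 k hk)
      set w := z ^ p with hw
      have hwp : w ^ p = 1 := hAe.2 w (hA₀A hz0)
      obtain ⟨S, hUS⟩ := (IsPGroup.to_le hTp (sup_le hAT (zpowers_le.2 hz) :
        A ⊔ zpowers z ≤ T)).exists_le_sylow
      have hAS : A ≤ (S : Subgroup G) := le_sup_left.trans hUS
      have hzS : z ∈ (S : Subgroup G) := hUS (mem_sup_right (mem_zpowers z))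
      have hc : w ∈ centerSocle (S : Subgroup G) p := mem_centerSocle.2 ⟨pow_mem hzS _, hwp,
        pow_central_of_centralizes hG hAe hA2 (fun _ => tau_max hG hM hpt hAM hAe hA2) S hAS hzS
          (hTA hz) (by rw [sq, pow_mul]; exact hwp)⟩
      obtain ⟨-, hcc, hnot⟩ := nonab_center_line hG hM hpt hAM hAe hA2 hS S hAS
      have hzeq : zpowers w = centerSocle (S : Subgroup G) p :=
        eq_of_le_of_card_ge (zpowers_le.2 hc)
          (le_of_eq (by rw [hcc, zpowers_card (isElementaryAbelian_line hcc) hc hne]))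
      exact hnot (hzeq ▸ ((Cfsg.Agent.S1418.result hG M hM E hE p hpt A ⟨hAE, hAe, hA2⟩).2.2 _
        (zpowers_le.2 (hA₀A hz0)) (by rw [hzeq, hcc])
        (by rw [centralizer_zpowers]; exact hfix)).1)
    set c := y ^ p ^ (m + 1) with hc
    have hcp : c ^ p = 1 := by rw [hc, ← pow_mul, ← pow_succ, ← hn, pow_orderOf_eq_one]
    have hc1 : c ≠ 1 := fun e1 => by
      have h := orderOf_dvd_of_pow_eq_one (e1 : y ^ p ^ (m + 1) = 1)
      rw [hn, Nat.pow_dvd_pow_iff_le_right hp.out.one_lt] at h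
      omega
    have hcA : c ∈ A := hord c (pow_mem hy _) hcp
    have hcA₀ : c ∉ A₀ := fun h => hc1 (by
      have e : c = (y ^ p ^ m) ^ p := by rw [hc, pow_succ, pow_mul]
      rw [e] at h ⊢
      exact avoid _ (pow_mem hy _) h)
    have hcline : Nat.card (zpowers c) = p := zpowers_card hAe hcA hc1
    have hAsup : A₀ ⊔ zpowers c = A := sup_lines hA2 hA₀A (zpowers_le.2 hcA) hA₀c hcline
      fun e1 => hcA₀ (e1 ▸ mem_zpowers c)
    -- every `p`-th power of order `p` is a power of `c`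
    have hroot : ∀ z ∈ T, (z ^ p) ^ p = 1 → z ^ p ∈ zpowers c := by
      intro z hz hzp
      obtain ⟨a, ha, b, hb, hab⟩ := CfsgLib.Coprime.mem_sup_exists
        (((zpowers_le.2 hcA).trans (le_centralizer_line hAe hA₀A)).trans
          (CfsgLib.Coprime.centralizer_le_normalizer_self _))
        (hAsup.ge (hord _ (pow_mem hz _) hzp))
      obtain ⟨k, rfl⟩ := mem_zpowers_iff.1 hb
      have hz' : z * (y ^ p ^ m) ^ (-k) ∈ T := mul_mem hz (zpow_mem (pow_mem hy _) _)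
      have he : (z * (y ^ p ^ m) ^ (-k)) ^ p = a := by
        have e2 : ((y ^ p ^ m) ^ (-k)) ^ p = c ^ (-k) := by
          rw [← zpow_natCast, ← zpow_mul, mul_comm, zpow_mul, zpow_natCast, hc, ← pow_mul, ← pow_succ]
        rw [(hcomm z hz _ (zpow_mem (pow_mem hy _) _)).mul_pow, e2, ← hab, zpow_neg,
          mul_inv_cancel_right]
      have h1 := avoid _ hz' (he ▸ ha)
      rw [he] at h1
      rw [← hab, h1, one_mul]
      exact zpow_mem (mem_zpowers c) _
    refine ⟨y, hy, ?_, hexp, ?_⟩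
    · refine le_bot_iff.1 fun x ⟨hx, hx'⟩ => mem_bot.2 ?_
      by_contra hx1
      have hxp : x ^ p = 1 := hAe.2 x (hA₀A hx')
      obtain ⟨l, rfl⟩ := mem_zpowers_iff.1 hx
      have hdl : ((p ^ (m + 1) : ℕ) : ℤ) ∣ l := by
        rw [← zpow_natCast, ← zpow_mul, ← orderOf_dvd_iff_zpow_eq_one, hn, pow_succ,
          Nat.cast_mul] at hxp
        exact (mul_dvd_mul_iff_right (by exact_mod_cast hp.out.ne_zero)).1 hxp
      obtain ⟨l', rfl⟩ := hdl
      have hxc : y ^ (((p ^ (m + 1) : ℕ) : ℤ) * l') ∈ zpowers c := by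
        rw [zpow_mul, zpow_natCast]; exact zpow_mem (mem_zpowers c) _
      refine hcA₀ ((eq_of_le_of_card_ge (zpowers_le.2 hxc) (le_of_eq ?_)).ge.trans
        (zpowers_le.2 hx') (mem_zpowers c))
      rw [hcline, zpowers_card (isElementaryAbelian_line hcline) hxc hx1]
    · have key : ∀ k : ℕ, ∀ x ∈ T, x ^ p ^ k = 1 → x ∈ A₀ ⊔ zpowers y := by
        intro k
        induction k with
        | zero =>
          intro x _ hx
          rw [pow_zero, pow_one] at hx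
          rw [hx]; exact one_mem _
        | succ k ih =>
          intro x hx hxk
          by_cases hk : k = 0
          · subst hk
            rw [zero_add, pow_one] at hxk
            refine (hAsup.ge.trans (sup_le_sup_left (zpowers_le.2 (pow_mem (mem_zpowers y) _)) _))
              (hord x hx hxk)
          by_cases hxk1 : x ^ p ^ k = 1
          · exact ih x hx hxk1
          obtain ⟨k', rfl⟩ : ∃ k', k = k' + 1 := ⟨k - 1, by omega⟩
          have hkm : k' + 1 ≤ m + 1 := by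
            have h := orderOf_dvd_of_pow_eq_one (hexp x hx)
            obtain ⟨o, -, ho⟩ := (Nat.dvd_prime_pow hp.out).1 (orderOf_dvd_of_pow_eq_one hxk)
            rw [ho, hn, Nat.pow_dvd_pow_iff_le_right hp.out.one_lt] at h
            by_contra hlt
            refine hxk1 (orderOf_dvd_iff_pow_eq_one.1 ?_)
            rw [ho]; exact pow_dvd_pow p (by omega)
          obtain ⟨l, hl⟩ := mem_zpowers_iff.1 (hroot (x ^ p ^ k') (pow_mem hx _)
            (by rw [← pow_mul, ← pow_mul, ← mul_assoc, ← pow_succ, ← pow_succ]; exact hxk))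
          set w := y ^ ((p ^ (m + 1 - (k' + 1)) : ℕ) * l : ℤ) with hw
          have hwT : w ∈ T := zpow_mem hy _
          have hwk : w ^ p ^ (k' + 1) = x ^ p ^ (k' + 1) := by
            have e1 : x ^ p ^ (k' + 1) = c ^ l := by rw [hl, pow_succ, pow_mul]
            rw [e1, hw, hc, ← zpow_natCast, ← zpow_mul, ← zpow_natCast y, ← zpow_mul]
            congr 1
            rw [mul_right_comm, ← Nat.cast_mul, ← pow_add]
            congr 3
            omega
          have h1 : x * w⁻¹ ∈ A₀ ⊔ zpowers y := ih _ (mul_mem hx (inv_mem hwT)) (by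
            rw [(hcomm x hx _ (inv_mem hwT)).mul_pow, inv_pow, hwk, mul_inv_cancel])
          have h2 := mul_mem h1 (mem_sup_right (show w ∈ zpowers y from zpow_mem (mem_zpowers y) _))
          rwa [inv_mul_cancel_right] at h2
      intro x hx
      obtain ⟨k, hk⟩ := hTp ⟨x, hx⟩
      exact key k x hx (congrArg Subtype.val hk)
  -- Gaschütz
  set K' := A₀.subgroupOf E with hK'
  haveI : K'.Normal := normal_subgroupOf_of_le_normalizer hEA₀
  haveI : IsMulCommutative K' := ⟨⟨fun a b => Subtype.ext (Subtype.ext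
    (commute_of_mem hAe (mem_inf.1 (mem_subgroupOf.1 a.2)).1 (mem_inf.1 (mem_subgroupOf.1 b.2)).1).eq)⟩⟩
  have hyE : y ∈ E := hTE hyT
  have hD : CfsgLib.Coprime.GzData K' (P : Subgroup E) (zpowers (⟨y, hyE⟩ : E)) := by
    refine ⟨zpowers_le.2 ?_, le_bot_iff.1 ?_, le_antisymm (sup_le ?_ (zpowers_le.2 ?_)) ?_⟩
    · obtain ⟨y', hy', e⟩ := hyT
      rwa [show (⟨y, hyE⟩ : E) = y' from Subtype.ext e.symm]
    · rintro x ⟨hx, hx'⟩
      obtain ⟨l, rfl⟩ := mem_zpowers_iff.1 hx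
      exact mem_bot.2 (Subtype.ext (mem_bot.1 (hy.le (mem_inf.2
        ⟨zpow_mem (mem_zpowers y) l, mem_subgroupOf.1 hx'⟩))))
    · intro x hx
      obtain ⟨x', hx', e⟩ := hAT (mem_inf.1 (mem_subgroupOf.1 hx)).1
      rwa [show x = x' from Subtype.ext e.symm]
    · obtain ⟨y', hy', e⟩ := hyT
      rwa [show (⟨y, hyE⟩ : E) = y' from Subtype.ext e.symm]
    · intro x hx
      have h1 := hTy (mem_map_of_mem E.subtype hx)
      obtain ⟨a, ha, b, hb, hab⟩ := CfsgLib.Coprime.mem_sup_exists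
        ((zpowers_le.2 hyE).trans hEA₀) h1
      obtain ⟨l, rfl⟩ := mem_zpowers_iff.1 hb
      rw [show x = (⟨a, hA₀E ha⟩ : E) * (⟨y, hyE⟩ : E) ^ l from Subtype.ext hab.symm]
      exact mul_mem (mem_sup_left (mem_subgroupOf.2 ha)) (mem_sup_right (zpow_mem (mem_zpowers _) l))
  obtain ⟨H, hH⟩ := CfsgLib.Coprime.gaschutz_exists hD (by
    rw [Nat.card_congr (subgroupOfEquivOfLe hA₀E).toEquiv, hA₀c]
    exact hp.out.coprime_iff_not_dvd.2 P.not_dvd_index)
  have hinf : ∀ g : G, g ∈ H.map E.subtype → g ∈ A₀ → g = 1 := by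
    rintro _ ⟨g', hg', rfl⟩ hg0
    exact congrArg Subtype.val (mem_bot.1 (hH.disjoint.le_bot (mem_inf.2 ⟨mem_subgroupOf.2 hg0, hg'⟩)))
  refine ⟨H.map E.subtype, map_subtype_le _, exponent_eq_of_orders (map_subtype_le _) ?_,
    regular_of_prime_order hG hM hE fun z hz q hq hzq => ?_⟩
  · -- every prime-power element has an image of the same order in the complement
    have proj : ∀ g ∈ E, (∀ k : ℕ, g ^ k ∈ A₀ → g ^ k = 1) →
        ∃ d ∈ H.map E.subtype, g ^ orderOf d = 1 := by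
      intro g hg hmeet
      obtain ⟨⟨⟨a, ha⟩, ⟨d, hd⟩⟩, had⟩ := hH.2 ⟨g, hg⟩
      refine ⟨d, mem_map_of_mem _ hd, hmeet _ ?_⟩
      haveI : (A₀.subgroupOf E).Normal := normal_subgroupOf_of_le_normalizer hEA₀
      have h1 : ((⟨g, hg⟩ : E) : E ⧸ K') = (d : E ⧸ K') := by
        rw [show (⟨g, hg⟩ : E) = a * d from had.symm, QuotientGroup.mk_mul,
          (QuotientGroup.eq_one_iff a).2 ha, one_mul]
      have h2 : (((⟨g, hg⟩ : E) ^ orderOf (d : G) : E) : E ⧸ K') = 1 := by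
        rw [QuotientGroup.mk_pow, h1, ← QuotientGroup.mk_pow]
        refine (QuotientGroup.eq_one_iff _).2 ?_
        rw [orderOf_coe, pow_orderOf_eq_one]; exact one_mem _
      exact mem_subgroupOf.1 ((QuotientGroup.eq_one_iff _).1 h2)
    intro r hr g hg i hgi
    rcases eq_or_ne r p with rfl | hrp
    · -- `p`-elements: use `y`
      obtain ⟨P₂, hP₂⟩ : ∃ P₂ : Sylow r E, (⟨g, hg⟩ : E) ∈ (P₂ : Subgroup E) := by
        obtain ⟨o, -, ho⟩ := (Nat.dvd_prime_pow hp.out).1 (orderOf_dvd_of_pow_eq_one hgi)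
        have hgp : IsPGroup r (zpowers (⟨g, hg⟩ : E)) := IsPGroup.of_card (n := o) (by
          rw [Nat.card_zpowers, ← orderOf_coe]; exact ho)
        obtain ⟨P₂, hP₂⟩ := hgp.exists_le_sylow
        exact ⟨P₂, hP₂ (mem_zpowers _)⟩
      obtain ⟨⟨x, hx⟩, hxP⟩ := MulAction.exists_smul_eq E P₂ P
      have hgT : x * g * x⁻¹ ∈ T := by
        refine ⟨⟨x * g * x⁻¹, mul_mem (mul_mem hx hg) (inv_mem hx)⟩, ?_, rfl⟩
        rw [← hxP]
        exact ⟨⟨g, hg⟩, hP₂, rfl⟩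
      obtain ⟨d, hd, hdy⟩ := proj y hyE fun k hk => mem_bot.1 (hy.le (mem_inf.2
        ⟨pow_mem (mem_zpowers y) k, hk⟩))
      refine ⟨d, hd, ?_⟩
      have h1 := hexp _ hgT
      rw [conj_pow, mul_inv_eq_one, mul_eq_left] at h1
      exact orderOf_dvd_iff_pow_eq_one.1 ((orderOf_dvd_of_pow_eq_one h1).trans
        (orderOf_dvd_of_pow_eq_one hdy))
    · refine proj g hg fun k hk => ?_
      have h1 : orderOf (g ^ k) ∣ r ^ i := (orderOf_pow_dvd k).trans (orderOf_dvd_of_pow_eq_one hgi)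
      have h2 : orderOf (g ^ k) ∣ p := hA₀c ▸ Subgroup.orderOf_dvd_natCard A₀ hk
      exact orderOf_eq_one_iff.1 (Nat.eq_one_of_dvd_coprimes
        (((Nat.coprime_primes hr hp.out).2 hrp).pow_left i) h1 h2)
  · haveI : Fact q.Prime := ⟨hq⟩
    have hzE : z ∈ E := map_subtype_le H hz
    have hz1 : z ≠ 1 := fun e1 => hq.ne_one (by rw [← hzq, e1, orderOf_one])
    by_contra hfix
    have hqp : q = p := by
      have h := fixed_prime_tau_two (p := q) hG hM hE hreg hzE hz1 (n := 1)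
        (by rw [pow_one, ← hzq, pow_orderOf_eq_one]) hfix
      rwa [hsing] at h
    subst hqp
    exact hz1 (hinf z hz (nonab_fixed_mem hG hM hE hpt hS hAE hAe hA2 hzE (n := 1)
      (by rw [pow_one, ← hzq, pow_orderOf_eq_one]) hfix))

omit hp in
/-- The subgroup of full exponent acting without fixed points. -/
theorem exists_exponent_regular :
    ∃ E₀ : Subgroup G, E₀ ≤ E ∧ Monoid.exponent E₀ = Monoid.exponent E ∧
      ∀ e ∈ E₀, e ≠ 1 → Cfsg.sigmaCore M ⊓ centralizer ({e} : Set G) = ⊥ := by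
  by_cases hall : ∀ q : ℕ, q ∈ Cfsg.tau2 M → ∀ [Fact q.Prime],
      ∃ S : Sylow q G, IsMulCommutative (S : Subgroup G)
  swap
  · simp only [not_forall] at hall
    obtain ⟨q, hq, hq', hS⟩ := hall
    exact exists_exponent_nonab hG hM hE hreg hq (not_abelian_all hS)
  have hdata : ∀ q : {q : ℕ // q ∈ Cfsg.tau2 M}, ∃ S : Subgroup G, IsMulCommutative S ∧
      IsPGroup q.1 S ∧ S ≤ E ∧ E ≤ normalizer (S : Set G) ∧
      (∀ e ∈ E, ∀ n : ℕ, e ^ q.1 ^ n = 1 → e ∈ S) ∧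
      ∃ d ∈ S, E ≤ normalizer ((zpowers d : Subgroup G) : Set G) ∧
        (∀ x ∈ S, x ^ orderOf d = 1) ∧
        ∀ z ∈ zpowers d, z ^ q.1 = 1 → z ≠ 1 →
          Cfsg.sigmaCore M ⊓ centralizer ({z} : Set G) = ⊥ := fun q => by
    haveI : Fact q.1.Prime := ⟨q.2.1⟩
    exact torus_data hG hM hE hreg q.2 (hall q.1 q.2)
  choose S hSab hSp hSE hSN hSmem d hd hdN hdexp hdfix using hdata
  have hsol := Compl.compl_solvable hG hM hE
  obtain ⟨K₀, hK₀⟩ := CfsgLib.Coprime.exists_hallIn {r | r ∉ Cfsg.tau2 M} hsol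
  have hex : ∀ q : {q : ℕ // q ∈ Cfsg.tau2 M}, ∃ K, IsHallIn {r | r ≠ q.1} K E ∧ K₀ ≤ K := fun q =>
    CfsgLib.Coprime.IsHallIn.exists_ge hsol hK₀.1
      fun r hr hrd e => hK₀.2.1 r hr hrd (e ▸ q.2)
  choose K hK hK₀K using hex
  set E₀ := E ⊓ ⨅ q : {q : ℕ // q ∈ Cfsg.tau2 M}, (zpowers (d q) ⊔ K q) with hE₀
  -- full tori at the other primes
  have hother : ∀ q r : {q : ℕ // q ∈ Cfsg.tau2 M}, r ≠ q → S r ≤ K q := by
    intro q r hrq
    haveI : Fact r.1.Prime := ⟨r.2.1⟩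
    obtain ⟨x, hxE, hx⟩ := (hK q).exists_conj_le hsol (hSE r) fun s hs hsd e => by
      obtain ⟨j, hj⟩ := IsPGroup.iff_card.1 (hSp r)
      rw [hj] at hsd
      exact hrq (Subtype.ext (((Nat.prime_dvd_prime_iff_eq hs r.2.1).1
        (hs.dvd_of_dvd_pow hsd)).symm.trans e))
    rwa [CfsgLib.Coprime.conjBy_eq_self_iff.2 (hSN r hxE)] at hx
  refine ⟨E₀, inf_le_left, exponent_eq_of_orders inf_le_left fun r hr g hg n hgn => ?_,
    regular_of_prime_order hG hM hE fun z hz q hq hzq => ?_⟩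
  · haveI : Fact r.Prime := ⟨hr⟩
    by_cases hrt : r ∈ Cfsg.tau2 M
    · refine ⟨d ⟨r, hrt⟩, mem_inf.2 ⟨hSE _ (hd _), mem_iInf.2 fun q => ?_⟩,
        hdexp _ _ (hSmem ⟨r, hrt⟩ g hg n hgn)⟩
      by_cases hq : (⟨r, hrt⟩ : {q : ℕ // q ∈ Cfsg.tau2 M}) = q
      · subst hq; exact mem_sup_left (mem_zpowers _)
      · exact mem_sup_right (hother q _ hq (hd _))
    · obtain ⟨o, -, ho⟩ := (Nat.dvd_prime_pow hr).1 (orderOf_dvd_of_pow_eq_one hgn)
      obtain ⟨x, hxE, hx⟩ := hK₀.exists_conj_le hsol (zpowers_le.2 hg) fun s hs hsd => by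
        rw [Nat.card_zpowers, ho] at hsd
        rw [(Nat.prime_dvd_prime_iff_eq hs hr).1 (hs.dvd_of_dvd_pow hsd)]
        exact hrt
      have hxg : x * g * x⁻¹ ∈ K₀ := hx (mem_map_of_mem _ (mem_zpowers g))
      refine ⟨x * g * x⁻¹, mem_inf.2 ⟨hK₀.1 hxg, mem_iInf.2 fun q => mem_sup_right (hK₀K q hxg)⟩,
        orderOf_dvd_iff_pow_eq_one.1 (dvd_of_eq ?_)⟩
      exact (MulEquiv.orderOf_eq (MulAut.conj x) g).symm
  · haveI : Fact q.Prime := ⟨hq⟩
    obtain ⟨hzE, hzI⟩ := mem_inf.1 hz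
    have hz1 : z ≠ 1 := fun e1 => hq.ne_one (by rw [← hzq, e1, orderOf_one])
    have hzp : z ^ q = 1 := by rw [← hzq, pow_orderOf_eq_one]
    by_contra hfix
    have hqt := fixed_prime_tau_two hG hM hE hreg hzE hz1 (n := 1) (by rwa [pow_one]) hfix
    set q' : {q : ℕ // q ∈ Cfsg.tau2 M} := ⟨q, hqt⟩
    refine hfix (hdfix q' z ?_ hzp hz1)
    obtain ⟨a, ha, k, hk, hak⟩ := CfsgLib.Coprime.mem_sup_exists ((hK q').1.trans (hdN q'))
      (mem_iInf.1 hzI q')
    have hkS : k ∈ S q' := by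
      rw [show k = a⁻¹ * z by rw [← hak, inv_mul_cancel_left]]
      exact mul_mem (inv_mem (zpowers_le.2 (hd q') ha)) (hSmem q' z hzE 1 (by
        show z ^ q ^ 1 = 1; rwa [pow_one]))
    have hkbot : S q' ⊓ K q' = ⊥ := inf_eq_bot_of_isPGroup (hSp q') fun h => (hK q').2.1 q hq h rfl
    have hk1 : k = 1 := mem_bot.1 (hkbot.le (mem_inf.2 ⟨hkS, hk⟩))
    rwa [← hak, hk1, mul_one]

end CfsgLib.CFun.TauTwo
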