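import Cfsg.Agent.Lib.CFun.OddKappaPair
import Cfsg.Agent.Lib.CFun.OddKappaNormFpf
import Cfsg.Agent.Lib.CFun.OddTypeFComplement

/-!
# The normalizer of the complement `U` is not contained in `M`
-/

set_option autoImplicit false
set_option linter.style.haveILetI false
set_option linter.unusedSectionVars false

open Subgroup
open scoped commutatorElement
open CfsgLib.Coprime (conjBy mem_conjBy conj_mem_conjBy IsHallIn)

namespace CfsgLib.CFun.NormU

open CfsgLib.CFun.TauTwo CfsgLib.CFun.Lines CfsgLib.CFun.Disjoint CfsgLib.CFun.ElemCent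
open CfsgLib.CFun.Kappa CfsgLib.CFun.Partner CfsgLib.CFun.Inter

universe u

variable {G : Type u} [Group G] [Finite G]

variable (hG : Cfsg.IsMinSimpleOddOrder G) {M K U : Subgroup G} (hM : IsCoatom M)
  (d : Cfsg.IsSigmaDecomposition M K U) (hK1 : K ≠ ⊥)
include hG hM d hK1

/-- The centralizer of an elementary `τ₂` subgroup is `U`. -/
theorem not_normalizer_le_of_tau2 {p : ℕ} [hp : Fact p.Prime] (hpU : p ∣ Nat.card U)
    (hpt : p ∈ Cfsg.tau2 M) : ¬ normalizer (U : Set G) ≤ M := by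
  intro hN
  have hE := Decomp.compl hG hM d
  obtain ⟨A, hAE, hAe, hA2⟩ := Compl.exists_elementary_compl hG hM hE hpt
  obtain ⟨hpσ, hpκ⟩ := Decomp.primes hG hM d hp.out hpU
  have hpK : ¬ p ∣ Nat.card K := fun h => hpκ (d.hall.2.1 p hp.out h)
  have hUM : U ≤ M := d.compl.1
  have hAU : A ≤ U := by
    intro a ha
    have h1 : a ∈ (↑(K ⊔ U) : Set G) := hAE ha
    rw [coe_mul_of_left_le_normalizer_right K U d.normal] at h1
    obtain ⟨k, hk, u, hu, rfl⟩ := h1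
    have key : ∀ n : ℕ, (k ^ n)⁻¹ * (k * u) ^ n ∈ U := by
      intro n
      induction n with
      | zero => simp
      | succ n ih =>
        have e : (k ^ (n + 1))⁻¹ * (k * u) ^ (n + 1)
            = k⁻¹ * ((k ^ n)⁻¹ * (k * u) ^ n) * k * u := by
          rw [pow_succ, pow_succ]; group
        rw [e]
        exact mul_mem ((mem_normalizer_iff''.1 (d.normal hk) _).1 ih) hu
    have h2 := key p
    have h3 : (k * u) ^ p = 1 := hAe.2 _ ha
    rw [h3, mul_one, inv_mem_iff] at h2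
    have h4 : k ^ p = 1 := mem_bot.1 (le_of_eq d.compl.2.2.1
      (mem_inf.2 ⟨h2, mem_sup_left (pow_mem hk p)⟩))
    by_cases hk1 : k = 1
    · show k * u ∈ U
      rwa [hk1, one_mul]
    · exact absurd ((orderOf_eq_prime h4 hk1) ▸ orderOf_dvd_natCard _ hk) hpK
  haveI := Decomp.isMulCommutative hG hM d hK1
  have hUC : U ≤ centralizer (A : Set G) := fun u hu => mem_centralizer_iff.2 fun a ha =>
    (congrArg Subtype.val (mul_comm' (⟨a, hAU ha⟩ : U) ⟨u, hu⟩) :)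
  have hCM : centralizer (A : Set G) ≤ M := tau_centralizer_le hG hM hpt (hAU.trans hUM) hAe hA2
  have hdvd : Nat.card ↥(centralizer (A : Set G)) ∣ Nat.card U := by
    refine Nat.Coprime.dvd_of_dvd_mul_right (Nat.coprime_of_dvd fun s hs hs1 hs2 => ?_)
      ((card_dvd_of_le hCM).trans (dvd_of_eq (CfsgLib.Coprime.card_mul_relIndex hUM).symm))
    haveI : Fact s.Prime := ⟨hs⟩
    obtain ⟨R, hRC, hRc⟩ := exists_line_of_dvd hs1
    have hsσ : s ∉ Cfsg.sigma M := fun hsσ => by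
      have h := isPGroup_le_sigmaCore hG hM hsσ (IsPGroup.of_card (n := 1) (by rw [hRc, pow_one]))
        (hRC.trans hCM)
      have h' : R ≤ Cfsg.sigmaCore M ⊓ centralizer (A : Set G) := le_inf h hRC
      rw [tau_fixed_eq_bot hG hM hpt (hAU.trans hUM) hAe hA2, le_bot_iff] at h'
      exact TauTwo.line_ne_bot hRc h'
    by_cases hsκ : s ∈ Cfsg.kappa M
    · obtain ⟨B, hBA, hBc⟩ := exists_line_of_dvd (t := p) (H := A) (by rw [hA2]; exact dvd_pow_self p two_ne_zero)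
      exact hpκ (commute_kappa hG hM (kappa_tau1 hG hM hsκ) (hRC.trans hCM) hRc
        (kappa_fixed hG hM hsκ (hRC.trans hCM) hRc) (hBA.trans (hAU.trans hUM)) hBc
        (hBA.trans (le_centralizer_iff.1 hRC)) hpσ)
    · exact (Decomp.hall_U hG hM d).2.2 s hs ⟨hs, hsκ, hsσ⟩ hs2
  have hCU : centralizer (A : Set G) = U :=
    (eq_of_le_of_card_ge hUC (Nat.le_of_dvd Nat.card_pos hdvd)).symm
  refine tau_not_normalizer_le hG hM hpt (hAU.trans hUM) hAe hA2 ?_
  calc normalizer (A : Set G) ≤ normalizer (centralizer (A : Set G) : Set G) :=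
        CfsgLib.Coprime.normalizer_le_normalizer_centralizer A
    _ ≤ M := by rw [hCU]; exact hN

section Lines

variable {t : ℕ} [ht : Fact t.Prime] (hr1 : Cfsg.PRankLE t 1 M) {W : Subgroup G} (hWU : W ≤ U)
  (hWc : Nat.card W = t)
include hr1 hWU hWc

theorem line_unique {V : Subgroup G} (hVU : V ≤ U) (hVc : Nat.card V = t) : V = W := by
  haveI := Decomp.isMulCommutative hG hM d hK1
  have hUc : ∀ x ∈ U, ∀ y ∈ U, x * y = y * x := fun x hx y hy =>
    (congrArg Subtype.val (mul_comm' (⟨x, hx⟩ : U) ⟨y, hy⟩) :)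
  have hle : W ⊔ V ≤ U := sup_le hWU hVU
  have hexp : ∀ x ∈ W ⊔ V, x ^ t = 1 := by
    intro x hx
    rw [← SetLike.mem_coe, coe_mul_of_left_le_normalizer_right W V (fun w hw =>
      CfsgLib.Coprime.centralizer_le_normalizer_self V (mem_centralizer_iff.2 fun v hv =>
        hUc v (hVU hv) w (hWU hw)))] at hx
    obtain ⟨w, hw, v, hv, rfl⟩ := hx
    show (w * v) ^ t = 1
    rw [(show Commute w v from hUc w (hWU hw) v (hVU hv)).mul_pow,
      orderOf_dvd_iff_pow_eq_one.1 (hWc ▸ orderOf_dvd_natCard W hw),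
      orderOf_dvd_iff_pow_eq_one.1 (hVc ▸ orderOf_dvd_natCard V hv), one_mul]
  have hcard : Nat.card ↥(W ⊔ V) ≤ t := by
    have h := hr1 ((W ⊔ V).subgroupOf M)
      ⟨⟨fun x y => Subtype.ext (Subtype.ext (hUc _ (hle x.2) _ (hle y.2)))⟩⟩
      (fun x hx => Subtype.ext (hexp x hx))
    rwa [pow_one, Nat.card_congr (subgroupOfEquivOfLe (hle.trans d.compl.1)).toEquiv] at h
  exact (eq_of_le_of_card_ge le_sup_right (hVc.symm ▸ hcard)).trans
    (eq_of_le_of_card_ge le_sup_left (hWc.symm ▸ hcard)).symm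

theorem line_normal {g : G} (hg : g ∈ normalizer (U : Set G)) : g ∈ normalizer (W : Set G) := by
  refine CfsgLib.Coprime.conjBy_eq_self_iff.1 (line_unique hG hM d hK1 hr1 hWU hWc ?_ ?_)
  · exact (Subgroup.map_mono hWU).trans (CfsgLib.Coprime.conjBy_eq_self_iff.2 hg).le
  · rw [CfsgLib.Coprime.card_conjBy, hWc]

variable (hreg : Cfsg.sigmaCore M ⊓ centralizer (W : Set G) = ⊥)
include hreg

theorem inf_normalizer : M ⊓ normalizer (W : Set G) ≤ K ⊔ U := by
  intro m hm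
  obtain ⟨hmM, hmW⟩ := mem_inf.1 hm
  obtain ⟨-, -, -, hprod⟩ := Decomp.compl hG hM d
  obtain ⟨e, he, s, hs, rfl⟩ := hprod m hmM
  have heW : e ∈ normalizer (W : Set G) :=
    line_normal hG hM d hK1 hr1 hWU hWc (Decomp.le_normalizer_U hG hM d he)
  have hsW : s ∈ normalizer (W : Set G) := (mul_mem_cancel_left heW).1 hmW
  have hsC : s ∈ Cfsg.sigmaCore M ⊓ centralizer (W : Set G) := by
    refine mem_inf.2 ⟨hs, mem_centralizer_iff.2 fun w hw => ?_⟩
    have h1 : s * w * s⁻¹ * w⁻¹ ∈ W := mul_mem ((mem_normalizer_iff.1 hsW w).1 hw) (inv_mem hw)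
    have h2 : s * w * s⁻¹ * w⁻¹ ∈ Cfsg.sigmaCore M := by
      have h3 : w * s⁻¹ * w⁻¹ ∈ Cfsg.sigmaCore M :=
        (mem_normalizer_iff.1 (sigmaCore_normal hG M (d.compl.1 (hWU hw))) _).1 (inv_mem hs)
      simpa [mul_assoc] using mul_mem hs h3
    have h4 : (K ⊔ U) ⊓ Cfsg.sigmaCore M = ⊥ := (Decomp.compl hG hM d).2.2.1
    have h5 : s * w * s⁻¹ * w⁻¹ = 1 :=
      mem_bot.1 (h4.le (mem_inf.2 ⟨mem_sup_right (hWU h1), h2⟩))
    exact (mul_inv_eq_iff_eq_mul.1 (mul_inv_eq_one.1 h5)).symm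
  rw [hreg, mem_bot] at hsC
  rw [hsC, mul_one]
  exact he

theorem inf_centralizer : M ⊓ centralizer (W : Set G) ≤ U := by
  intro m hm
  obtain ⟨hmM, hmC⟩ := mem_inf.1 hm
  have h := inf_normalizer hG hM d hK1 hr1 hWU hWc hreg
    (mem_inf.2 ⟨hmM, CfsgLib.Coprime.centralizer_le_normalizer_self _ hmC⟩)
  rw [← SetLike.mem_coe, coe_mul_of_left_le_normalizer_right K U d.normal] at h
  obtain ⟨k, hk, u, hu, rfl⟩ := h
  obtain ⟨w, hw, hw1, -, -⟩ := exists_gen hWc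
  by_cases hk1 : k = 1
  · show k * u ∈ U
    rwa [hk1, one_mul]
  · exfalso
    haveI := Decomp.isMulCommutative hG hM d hK1
    have e1 : w * (k * u) = k * u * w := mem_centralizer_iff.1 hmC w hw
    have e2 : u * w = w * u := (congrArg Subtype.val (mul_comm' (⟨u, hu⟩ : U) ⟨w, hWU hw⟩) :)
    rw [mul_assoc k u w, e2, ← mul_assoc w k u, ← mul_assoc k w u] at e1
    exact hw1 (mem_bot.1 ((Decomp.fpf hG hM d hk hk1).le (mem_inf.2 ⟨hWU hw,
      mem_centralizer_singleton_iff.2 (mul_right_cancel e1)⟩)))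

/-- If `N(U) ≤ M` then `U` is contained in no larger nilpotent group of order prime to `|K|`. -/
theorem self_normalizing (hN : normalizer (U : Set G) ≤ M) {P : Subgroup G}
    (hP : Group.IsNilpotent P) (hUP : U ≤ P) (hcop : ∀ r : ℕ, r.Prime → r ∣ Nat.card K →
      ¬ r ∣ Nat.card P) : P = U := by
  by_contra hne
  haveI := hP
  have hlt : U.subgroupOf P < ⊤ := lt_top_iff_ne_top.2 fun e =>
    hne (le_antisymm (subgroupOf_eq_top.1 e) hUP)
  obtain ⟨n, hn, hnU⟩ :=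
    SetLike.exists_of_lt (Group.normalizerCondition_of_isNilpotent (U.subgroupOf P) hlt)
  have hnN : (n : G) ∈ normalizer (U : Set G) := by
    refine mem_normalizer_iff.2 fun x => ⟨fun hx => ?_, fun hx => ?_⟩
    · exact mem_subgroupOf.1 ((mem_normalizer_iff.1 hn ⟨x, hUP hx⟩).1 hx)
    · have hxP : x ∈ P := by
        have := mul_mem (mul_mem (inv_mem n.2) (hUP hx)) n.2
        simpa [mul_assoc] using this
      exact mem_subgroupOf.1 ((mem_normalizer_iff.1 hn ⟨x, hxP⟩).2 hx)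
  have h := inf_normalizer hG hM d hK1 hr1 hWU hWc hreg
    (mem_inf.2 ⟨hN hnN, line_normal hG hM d hK1 hr1 hWU hWc hnN⟩)
  rw [← SetLike.mem_coe, coe_mul_of_left_le_normalizer_right K U d.normal] at h
  obtain ⟨k, hk, u, hu, hku⟩ := h
  refine hnU (mem_subgroupOf.2 ?_)
  have hku' : k * u = n := hku
  have hkP : k ∈ P := by
    rw [show k = (n : G) * u⁻¹ by rw [← hku']; group]
    exact mul_mem n.2 (inv_mem (hUP hu))
  by_cases hk1 : k = 1
  · rw [← hku', hk1, one_mul]; exact hu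
  · obtain ⟨r, hr, hrd⟩ := Nat.exists_prime_and_dvd fun e => hk1 (orderOf_eq_one_iff.1 e)
    exact (hcop r hr (hrd.trans (orderOf_dvd_natCard K hk))
      (hrd.trans (orderOf_dvd_natCard P hkP))).elim

end Lines

section Regular

variable {q : ℕ} [hq : Fact q.Prime] (hKc : Nat.card K = q)
  (hτ : ∀ t : ℕ, t.Prime → t ∣ Nat.card U → t ∈ Cfsg.tau3 M)
  {Mstar : Subgroup G} (hMs : IsCoatom Mstar)
  (hKst : K = Cfsg.sigmaCore Mstar ⊓
    centralizer ((Cfsg.sigmaCore M ⊓ centralizer (K : Set G)) : Set G))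
  (hKstH : Cfsg.IsPiHallOf (Cfsg.kappa Mstar) (Cfsg.sigmaCore M ⊓ centralizer (K : Set G)) Mstar)
  {a : G} (haK : zpowers a = K) (haq : a ^ q = 1) (ha1 : a ≠ 1)
include hKc hτ hMs hKst hKstH haK haq ha1

theorem gen_facts : a ∈ K ∧ a ∈ Cfsg.sigmaCore Mstar ∧ q ∈ Cfsg.sigma Mstar ∧
    centralizer ({a} : Set G) ≤ Mstar := by
  obtain ⟨hKst', -, h2, -⟩ := of_hyp hG hM d.hall hK1 hMs hKst hKstH
  have ha : a ∈ K := haK ▸ mem_zpowers a
  have hKσ : K ≤ Cfsg.sigmaCore Mstar := hKst'.le.trans inf_le_left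
  have hqσ : q ∈ Cfsg.sigma Mstar :=
    (sigmaCore_hall hG hMs).1.2.1 q hq.out (hKc ▸ card_dvd_of_le hKσ)
  refine ⟨ha, hKσ ha, hqσ, ?_⟩
  have h := (h2.unique hG le_sup_left hKc hqσ).1
  rwa [← haK, TauTwo.centralizer_zpowers] at h

/-- No maximal subgroup other than `M*` containing `a` shares a `σ`-prime with `M*`. -/
theorem eq_star {H : Subgroup G} (hH : IsCoatom H) (haH : a ∈ H) {r : ℕ} (hr : r.Prime)
    (hrH : r ∈ Cfsg.sigma H) (hrS : r ∈ Cfsg.sigma Mstar) : H = Mstar := by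
  haveI : Fact r.Prime := ⟨hr⟩
  obtain ⟨hKst', -, -, -⟩ := of_hyp hG hM d.hall hK1 hMs hKst hKstH
  obtain ⟨g, rfl⟩ := exists_conj_of_sigma hG hMs hH hrS hrH
  have ha : a ∈ K := haK ▸ mem_zpowers a
  exact CfsgLib.Coprime.conjBy_eq_self_iff.2 (le_normalizer (eq_of_fixed_mem hG hMs hKstH
    (fixed_ne_bot hG hM d.hall) (hKst'.le ha) ha1 haH).1)

section Line

variable {t : ℕ} [ht : Fact t.Prime] {W : Subgroup G} (hWU : W ≤ U) (hWc : Nat.card W = t)
include hWU hWc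

theorem line_facts : Cfsg.PRankLE t 1 M ∧ t ∉ Cfsg.sigma M ∧
    Cfsg.sigmaCore M ⊓ centralizer (W : Set G) = ⊥ ∧ ¬ W ≤ Mstar ∧
    a ∈ normalizer (W : Set G) ∧ W ⊓ centralizer ({a} : Set G) = ⊥ := by
  have htd : t ∣ Nat.card U := hWc ▸ card_dvd_of_le hWU
  obtain ⟨htσ, htκ⟩ := Decomp.primes hG hM d ht.out htd
  have h3 := hτ t ht.out htd
  have hWM : W ≤ M := hWU.trans d.compl.1
  have ha : a ∈ K := haK ▸ mem_zpowers a
  refine ⟨h3.2.2.2, htσ, TauThree.tau3_line_regular hG hM h3 hWM hWc, fun h => ?_,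
    line_normal hG hM d hK1 h3.2.2.2 hWU hWc (d.normal ha),
    le_bot_iff.1 ((inf_le_inf_right _ hWU).trans (Decomp.fpf hG hM d ha ha1).le)⟩
  obtain ⟨w, hw, hw1, hwt, -⟩ := exists_gen hWc
  have hwZ : w ∈ M ⊓ Mstar := mem_inf.2 ⟨hWM hw, h hw⟩
  rw [inter_eq hG hM d.hall hK1 hMs hKst hKstH] at hwZ
  have hwK := (split_mem hG hM d.hall ht.out hwZ ⟨1, by rwa [pow_one]⟩).2 htσ
  exact hw1 (mem_bot.1 (d.compl.2.2.1.le (mem_inf.2 ⟨hWU hw, mem_sup_left hwK⟩)))

theorem mem_sigma_star {r : ℕ} [hr : Fact r.Prime] {z : G} (hz1 : z ≠ 1) (hzr : z ^ r = 1)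
    (hza : z ∈ centralizer ({a} : Set G)) (hzW : z ∈ centralizer (W : Set G)) :
    r ∈ Cfsg.sigma Mstar ∧ z ∈ Cfsg.sigmaCore Mstar := by
  obtain ⟨-, haσ, -, hCa⟩ :=
    gen_facts hG hM d hK1 hKc hτ hMs hKst hKstH haK haq ha1
  obtain ⟨hr1W, htσ, hregW, hWS, -, -⟩ :=
    line_facts hG hM d hK1 hKc hτ hMs hKst hKstH haK haq ha1 hWU hWc
  have hord : orderOf z = r := orderOf_eq_prime hzr hz1
  have hzc : Nat.card (zpowers z) = r := by rw [Nat.card_zpowers, hord]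
  have hzS : zpowers z ≤ Mstar := zpowers_le.2 (hCa hza)
  have hzp : IsPGroup r (zpowers z) := IsPGroup.of_card (n := 1) (by rw [hzc, pow_one])
  suffices h : r ∈ Cfsg.sigma Mstar from
    ⟨h, isPGroup_le_sigmaCore hG hMs h hzp hzS (mem_zpowers z)⟩
  by_contra hrσ
  have hafix : a ∈ Cfsg.sigmaCore Mstar ⊓ centralizer (zpowers z : Set G) := mem_inf.2 ⟨haσ, by
    rw [TauTwo.centralizer_zpowers]
    exact mem_centralizer_singleton_iff.2 (mem_centralizer_singleton_iff.1 hza).symm⟩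
  by_cases hrκ : r ∈ Cfsg.kappa Mstar
  · have hH : IsHallIn (Cfsg.kappa Mstar) (Cfsg.sigmaCore M ⊓ centralizer (K : Set G)) Mstar :=
      ⟨hKstH.1, hKstH.2.1, fun p hp hd hpκ => hKstH.2.2 p hp hpκ hd⟩
    obtain ⟨m, -, hm⟩ := hH.exists_conj_le (ms_solvable hG hMs.1) hzS
      fun p hp hd => by rwa [(Nat.prime_dvd_prime_iff_eq hp hr.out).1 (hzc ▸ hd)]
    have hb : m * z * m⁻¹ ∈ Cfsg.sigmaCore M ⊓ centralizer (K : Set G) :=
      hm (conj_mem_conjBy (mem_zpowers z))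
    have hb1 : m * z * m⁻¹ ≠ 1 := fun e => hz1 (conj_eq_one_iff.1 e)
    have hCb := (eq_of_fixed_mem hG hM d.hall hK1 hb hb1 (g := 1)
      (by rw [CfsgLib.Coprime.conjBy_one]; exact map_subtype_le _ (mem_inf.1 hb).1)).2
    have hWb : ∀ w ∈ conjBy m W, Commute w (m * z * m⁻¹) := by
      intro w hw
      obtain ⟨v, hv, rfl⟩ := Subgroup.mem_map.1 hw
      show (m * v * m⁻¹) * (m * z * m⁻¹) = (m * z * m⁻¹) * (m * v * m⁻¹)
      simp only [mul_assoc, inv_mul_cancel_left]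
      rw [← mul_assoc v z, mem_centralizer_iff.1 hzW v hv, mul_assoc]
    have hWM : conjBy m W ≤ M := fun w hw =>
      hCb (mem_centralizer_singleton_iff.2 (hWb w hw).eq)
    have h3 := hτ t ht.out (hWc ▸ card_dvd_of_le hWU)
    have hreg := TauThree.tau3_line_regular hG hM h3 hWM
      ((CfsgLib.Coprime.card_conjBy m W).trans hWc)
    exact hb1 (mem_bot.1 (hreg.le (mem_inf.2 ⟨(mem_inf.1 hb).1,
      mem_centralizer_iff.2 fun w hw => (hWb w hw).eq⟩)))
  by_cases hr1 : Cfsg.PRankLE r 1 Mstar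
  · exact ha1 (mem_bot.1 ((line_regular hG hMs hzS hzc hrσ hrκ hr1).le hafix))
  · have hr2 : Cfsg.PRankLE r 2 Mstar :=
      pRankLE_two_of_not_alpha hr.out fun h => hrσ (alpha_subset_sigma hG hMs h)
    have hrt : r ∈ Cfsg.tau2 Mstar := mem_tau_iff.2 ⟨hrσ, hr2, hr1⟩
    have hC := (centralizer_tau2_element hG hMs (hzS (mem_zpowers z)) hz1
      (fun s hs hsd => by rw [(Nat.prime_dvd_prime_iff_eq hs hr.out).1 (hord ▸ hsd)]
                          exact ⟨le_rfl, hrt⟩) hord.symm.dvd haσ ha1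
      (mem_centralizer_singleton_iff.1 hza)).1
    exact hWS fun w hw => hC (mem_centralizer_singleton_iff.2 (mem_centralizer_iff.1 hzW w hw))

theorem exists_member {r : ℕ} [hr : Fact r.Prime] {z : G} (hz1 : z ≠ 1) (hzr : z ^ r = 1)
    (hza : z ∈ centralizer ({a} : Set G)) (hzW : z ∈ centralizer (W : Set G)) :
    ∃ N : Subgroup G, IsCoatom N ∧ centralizer ({z} : Set G) ≤ N ∧ W ≤ Cfsg.sigmaCore N ∧
      t ∈ Cfsg.sigma N ∧ a ∈ N ∧ Cfsg.sigmaCore N ⊓ centralizer ({a} : Set G) = ⊥ := by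
  obtain ⟨-, hzσ⟩ := mem_sigma_star hG hM d hK1 hKc hτ hMs hKst hKstH haK haq ha1 hWU hWc
    hz1 hzr hza hzW
  obtain ⟨-, haσ, hqσ, hCa⟩ := gen_facts hG hM d hK1 hKc hτ hMs hKst hKstH haK haq ha1
  obtain ⟨-, -, -, hWS, haW, hWfix⟩ :=
    line_facts hG hM d hK1 hKc hτ hMs hKst hKstH haK haq ha1 hWU hWc
  have hWz : W ≤ centralizer ({z} : Set G) := fun w hw =>
    mem_centralizer_singleton_iff.2 (mem_centralizer_iff.1 hzW w hw)
  obtain ⟨N, hN, hzN, -, hnc, -, hD, -⟩ :=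
    exists_data hG hMs hzσ hz1 fun h => hWS (hWz.trans h)
  have haz : a ∈ centralizer ({z} : Set G) :=
    mem_centralizer_singleton_iff.2 (mem_centralizer_singleton_iff.1 hza).symm
  have haN : a ∈ N := hzN haz
  have hfixN : Cfsg.sigmaCore N ⊓ centralizer ({a} : Set G) = ⊥ := by
    refine le_bot_iff.1 (le_trans ?_ hD.2.2.1.le)
    exact le_inf (le_inf (inf_le_right.trans hCa) (inf_le_left.trans (map_subtype_le _))) inf_le_left
  refine ⟨N, hN, hzN, ?_, ?_, haN, hfixN⟩ <;>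
    by_cases htN : t ∈ Cfsg.sigma N
  · exact isPGroup_le_sigmaCore hG hN htN (IsPGroup.of_card (n := 1) (by rw [hWc, pow_one]))
      (hWz.trans hzN)
  rotate_left
  · exact htN
  all_goals
    exfalso
    set R := Cfsg.sigmaCore N ⊓ centralizer ({z} : Set G) with hR
    have haR : a ∈ normalizer (R : Set G) := CfsgLib.Coprime.inf_le_normalizer
      ((zpowers_le.2 haN).trans (sigmaCore_normal hG N))
      ((zpowers_le.2 haz).trans le_normalizer) (mem_zpowers a)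
    have hWR : W ≤ normalizer (R : Set G) := CfsgLib.Coprime.inf_le_normalizer
      ((hWz.trans hzN).trans (sigmaCore_normal hG N)) (hWz.trans le_normalizer)
    haveI : IsCyclic W := TauTwo.isCyclic_line hWc
    have hfix := NormFpf.fixed_sup_eq_bot haR haW inferInstance hWR
      (le_bot_iff.1 ((inf_le_inf_right _ inf_le_left).trans hfixN.le)) hWfix
    obtain ⟨w, hw, hw1, hwt, -⟩ := exists_gen hWc
    have hsplit := centralizer_compl hG hD
      (mem_inf.2 ⟨map_subtype_le _ hzσ, hzN (mem_centralizer_singleton_iff.2 rfl)⟩) hzN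
    obtain ⟨e, he, ρ, hρ, heq⟩ := hsplit.2.2.2 w (hWz hw)
    have hρw : Commute w ρ := NormFpf.commute haq
      (CfsgLib.Coprime.sup_le_normalizer ((zpowers_le.2 haR)) ((zpowers_le.2 haW)) (mem_zpowers a))
      hfix (mem_sup_right hw) (mem_sup_left hρ) (by
        rw [orderOf_eq_prime hwt hw1]
        refine (Nat.Prime.coprime_iff_not_dvd ht.out).2 fun h => not_dvd_sigmaCore hG hN htN
          (h.trans (orderOf_dvd_natCard _ (mem_inf.1 hρ).1)))
    have he' : e = w * ρ⁻¹ := eq_mul_inv_of_mul_eq heq.symm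
    have h1 : e ^ t = (ρ ^ t)⁻¹ := by
      rw [he', hρw.inv_right.mul_pow, hwt, one_mul, inv_pow]
    have h2 : ρ ^ t = 1 := by
      have h3 : e ^ t ∈ (Mstar ⊓ N) ⊓ Cfsg.sigmaCore N :=
        mem_inf.2 ⟨pow_mem (mem_inf.1 he).1 t, h1 ▸ inv_mem (pow_mem (mem_inf.1 hρ).1 t)⟩
      rw [hD.2.2.1, mem_bot, h1, inv_eq_one] at h3
      exact h3
    have h4 : ρ = 1 := by
      by_contra hne
      exact not_dvd_sigmaCore hG hN htN
        ((orderOf_eq_prime h2 hne) ▸ orderOf_dvd_natCard _ (mem_inf.1 hρ).1)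
    rw [h4, inv_one, mul_one] at he'
    refine hWS fun x hx => ?_
    obtain ⟨w', hw', -, -, hgen⟩ := exists_gen hWc
    have : zpowers w = W := eq_of_le_of_card_ge (zpowers_le.2 hw)
      (by rw [hWc, Nat.card_zpowers, orderOf_eq_prime hwt hw1])
    exact zpowers_le.2 (he' ▸ (mem_inf.1 (mem_inf.1 he).1).1) (this.ge hx)

/-- `C(W) ≠ U`. -/
theorem centralizer_ne (hN : normalizer (U : Set G) ≤ M) : centralizer (W : Set G) ≠ U := by
  obtain ⟨hr1, htσ, -, -, -, -⟩ :=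
    line_facts hG hM d hK1 hKc hτ hMs hKst hKstH haK haq ha1 hWU hWc
  intro e
  refine (normalizer_prime_subgroup hG hM htσ hWc ?_).1.2 hr1
  refine (CfsgLib.Coprime.normalizer_le_normalizer_centralizer W).trans ?_
  rw [e]
  exact hN

/-- A group between `U` and `C(W)` not fixed-point-free under `a`. -/
theorem exists_fixed (hN : normalizer (U : Set G) ≤ M) {P : Subgroup G} (hUP : U ≤ P)
    (haP : a ∈ normalizer (P : Set G)) (hPU : P ≠ U) :
    ∃ (r : ℕ) (z : G), r.Prime ∧ z ≠ 1 ∧ z ^ r = 1 ∧ z ∈ P ∧ z ∈ centralizer ({a} : Set G) := by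
  obtain ⟨hr1, -, hreg, -, -, -⟩ :=
    line_facts hG hM d hK1 hKc hτ hMs hKst hKstH haK haq ha1 hWU hWc
  have hne : P ⊓ centralizer ({a} : Set G) ≠ ⊥ := fun e => hPU
    (self_normalizing hG hM d hK1 hr1 hWU hWc hreg hN
      (Decomp.isNilpotent_of_fpf hq.out haq haP e) hUP fun s hs hsd h => by
        rw [(Nat.prime_dvd_prime_iff_eq hs hq.out).1 (hKc ▸ hsd)] at h
        exact NormFpf.not_dvd haq haP e h)
  obtain ⟨r, Z, hr, hZ, hZc⟩ := exists_prime_line hne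
  haveI : Fact r.Prime := ⟨hr⟩
  obtain ⟨z, hz, hz1, hzr, -⟩ := exists_gen hZc
  exact ⟨r, z, hr, hz1, hzr, (mem_inf.1 (hZ hz)).1, (mem_inf.1 (hZ hz)).2⟩

theorem exists_over (hN : normalizer (U : Set G) ≤ M) :
    ∃ N : Subgroup G, IsCoatom N ∧ t ∈ Cfsg.sigma N ∧ Cfsg.sigmaCore N ≤ U ∧ U ≤ N ∧
      W ≤ Cfsg.sigmaCore N ∧ a ∈ N := by
  obtain ⟨hr1, htσ, hreg, hWS, haW, hWfix⟩ :=
    line_facts hG hM d hK1 hKc hτ hMs hKst hKstH haK haq ha1 hWU hWc
  have hUc := Decomp.isMulCommutative hG hM d hK1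
  have hcomm : ∀ x ∈ U, ∀ y ∈ U, x * y = y * x := fun x hx y hy =>
    (congrArg Subtype.val (hUc.is_comm.comm ⟨x, hx⟩ ⟨y, hy⟩) :)
  have hUC : U ≤ centralizer (W : Set G) := fun u hu =>
    mem_centralizer_iff.2 fun w hw => hcomm w (hWU hw) u hu
  have ha : a ∈ K := haK ▸ mem_zpowers a
  have haU : a ∈ normalizer (U : Set G) := d.normal ha
  have hUfix : U ⊓ centralizer ({a} : Set G) = ⊥ := Decomp.fpf hG hM d ha ha1
  have haC : a ∈ normalizer (centralizer (W : Set G) : Set G) :=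
    CfsgLib.Coprime.normalizer_le_normalizer_centralizer W haW
  have hnil : ∀ R : Subgroup G, a ∈ normalizer (R : Set G) → U ≤ normalizer (R : Set G) →
      R ⊓ centralizer ({a} : Set G) = ⊥ → R ≤ U := by
    intro R haR hUR hR
    have hfix := NormFpf.fixed_sup_eq_bot haR haU hUc hUR hR hUfix
    have haRU : a ∈ normalizer ((R ⊔ U : Subgroup G) : Set G) :=
      CfsgLib.Coprime.sup_le_normalizer (zpowers_le.2 haR) (zpowers_le.2 haU) (mem_zpowers a)
    exact le_sup_left.trans (self_normalizing hG hM d hK1 hr1 hWU hWc hreg hN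
      (Decomp.isNilpotent_of_fpf hq.out haq haRU hfix) le_sup_right fun s hs hsd h => by
        rw [(Nat.prime_dvd_prime_iff_eq hs hq.out).1 (hKc ▸ hsd)] at h
        exact NormFpf.not_dvd haq haRU hfix h).le
  obtain ⟨r, z, hr, hz1, hzr, hzW, hza⟩ := exists_fixed hG hM d hK1 hKc hτ hMs hKst hKstH haK
    haq ha1 hWU hWc hN hUC haC
    (centralizer_ne hG hM d hK1 hKc hτ hMs hKst hKstH haK haq ha1 hWU hWc hN)
  haveI : Fact r.Prime := ⟨hr⟩
  obtain ⟨N, hNc, hzN, hWN, htN, haN, hfixN⟩ :=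
    exists_member hG hM d hK1 hKc hτ hMs hKst hKstH haK haq ha1 hWU hWc hz1 hzr hza hzW
  obtain ⟨w, hw, hw1, hwt, hgen⟩ := exists_gen hWc
  have hCw : centralizer (W : Set G) = centralizer ({w} : Set G) := by
    rw [← hgen, TauTwo.centralizer_zpowers]
  by_cases hCWN : centralizer (W : Set G) ≤ N
  · refine ⟨N, hNc, htN, hnil _ (sigmaCore_normal hG N haN) ?_ hfixN, hUC.trans hCWN, hWN, haN⟩
    exact (hUC.trans hCWN).trans (sigmaCore_normal hG N)
  · exfalso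
    obtain ⟨H, hH, hwH, huniq, -, htau, hD, -⟩ :=
      exists_data hG hNc (hWN hw) hw1 fun h => hCWN (hCw.le.trans h)
    have hWH : centralizer (W : Set G) ≤ H := hCw.le.trans hwH
    have haH : a ∈ H := normalizer_le_of_unique hG hH
      ⟨hWH, fun L hL h => huniq L hL (hCw.ge.trans h)⟩ haW
    have htH : t ∉ Cfsg.sigma H := (htau t ht.out (orderOf_eq_prime hwt hw1).symm.dvd).2.1
    set R := Cfsg.sigmaCore H ⊓ centralizer (W : Set G) with hR
    have haR : a ∈ normalizer (R : Set G) := CfsgLib.Coprime.inf_le_normalizer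
      ((zpowers_le.2 haH).trans (sigmaCore_normal hG H)) (zpowers_le.2 haC) (mem_zpowers a)
    have hCR : centralizer (W : Set G) ≤ normalizer (R : Set G) :=
      CfsgLib.Coprime.inf_le_normalizer (hWH.trans (sigmaCore_normal hG H)) le_normalizer
    have hRfix : R ⊓ centralizer ({a} : Set G) = ⊥ := by
      by_contra hne
      obtain ⟨s, Z, hs, hZ, hZc⟩ := exists_prime_line hne
      haveI : Fact s.Prime := ⟨hs⟩
      obtain ⟨y, hy, hy1, hys, -⟩ := exists_gen hZc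
      obtain ⟨hyR, hya⟩ := mem_inf.1 (hZ hy)
      obtain ⟨hsS, -⟩ := mem_sigma_star hG hM d hK1 hKc hτ hMs hKst hKstH haK haq ha1 hWU hWc
        hy1 hys hya (mem_inf.1 hyR).2
      have hsH : s ∈ Cfsg.sigma H := Cosets.sigma_of_mem hG hH (mem_inf.1 hyR).1 hs
        (orderOf_eq_prime hys hy1).symm.dvd
      rw [eq_star hG hM d hK1 hKc hτ hMs hKst hKstH haK haq ha1 hH haH hs hsH hsS] at hWH
      exact hWS fun x hx => hWH (hUC (hWU hx))
    have hRU : R ≤ U := hnil R haR (hUC.trans hCR) hRfix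
    have hR1 : R ≠ ⊥ := fun e => by
      have hsplit := centralizer_compl hG hD (mem_inf.2
        ⟨map_subtype_le _ (hWN hw), hwH (mem_centralizer_singleton_iff.2 rfl)⟩) hwH
      refine hCWN fun c hc => ?_
      rw [hCw] at hc
      obtain ⟨b, hb, ρ, hρ, rfl⟩ := hsplit.2.2.2 c hc
      have : ρ ∈ R := mem_inf.2 ⟨(mem_inf.1 hρ).1, hCw.symm ▸ (mem_inf.1 hρ).2⟩
      rw [e, mem_bot] at this
      rw [this, mul_one]
      exact (mem_inf.1 (mem_inf.1 hb).1).1
    set P := centralizer (W : Set G) ⊓ centralizer (R : Set G) with hP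
    have hUP : U ≤ P := le_inf hUC fun u hu =>
      mem_centralizer_iff.2 fun x hx => hcomm x (hRU hx) u hu
    have haP : a ∈ normalizer (P : Set G) := CfsgLib.Coprime.inf_le_normalizer
      (zpowers_le.2 haC)
      (zpowers_le.2 (CfsgLib.Coprime.normalizer_le_normalizer_centralizer R haR)) (mem_zpowers a)
    have hPU : P ≠ U := fun e => by
      refine centralizer_ne hG hM d hK1 hKc hτ hMs hKst hKstH haK haq ha1 hWU hWc hN
        (le_antisymm (fun c hc => inf_centralizer hG hM d hK1 hr1 hWU hWc hreg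
          (mem_inf.2 ⟨hN ?_, hc⟩)) hUC)
      rw [← e]
      exact (CfsgLib.Coprime.inf_le_normalizer le_normalizer
        (hCR.trans (CfsgLib.Coprime.normalizer_le_normalizer_centralizer R))) hc
    obtain ⟨s, y, hs, hy1, hys, hyP, hya⟩ := exists_fixed hG hM d hK1 hKc hτ hMs hKst hKstH haK
      haq ha1 hWU hWc hN hUP haP hPU
    haveI : Fact s.Prime := ⟨hs⟩
    obtain ⟨t₁, W₁, ht₁, hW₁R, hW₁c⟩ := exists_prime_line hR1
    haveI : Fact t₁.Prime := ⟨ht₁⟩
    obtain ⟨N₁, hN₁, hyN₁, -, htN₁, -, -⟩ := exists_member hG hM d hK1 hKc hτ hMs hKst hKstH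
      haK haq ha1 hWU hWc hy1 hys hya (mem_inf.1 hyP).1
    obtain ⟨N₂, hN₂, hyN₂, -, ht₁N₂, -, -⟩ := exists_member hG hM d hK1 hKc hτ hMs hKst hKstH
      haK haq ha1 (hW₁R.trans hRU) hW₁c hy1 hys hya
      (centralizer_le hW₁R (mem_inf.1 hyP).2)
    have hyS := mem_sigma_star hG hM d hK1 hKc hτ hMs hKst hKstH haK haq ha1 hWU hWc hy1 hys hya
      (mem_inf.1 hyP).1
    obtain ⟨L, -, -, hLu, -⟩ := exists_data hG hMs hyS.2 hy1
      fun h => hWS fun x hx => h (mem_centralizer_singleton_iff.2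
        (mem_centralizer_iff.1 (mem_inf.1 hyP).1 x hx))
    obtain rfl : N₁ = N₂ := (hLu N₁ hN₁ hyN₁).trans (hLu N₂ hN₂ hyN₂).symm
    obtain ⟨g, rfl⟩ := exists_conj_of_sigma hG hH hN₁
      ((sigmaCore_hall hG hH).1.2.1 t₁ ht₁ (hW₁c ▸ card_dvd_of_le (hW₁R.trans inf_le_left)))
      ht₁N₂
    exact htH (mem_sigma_conjBy hG hH htN₁)

end Line

/-- `N(U) ≰ M` in the `τ₃` case. -/
theorem regular_not_normalizer_le (hU : U ≠ ⊥) : ¬ normalizer (U : Set G) ≤ M := by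
  intro hN
  obtain ⟨t, W, ht, hWU, hWc⟩ := exists_prime_line hU
  haveI : Fact t.Prime := ⟨ht⟩
  obtain ⟨N, hNc, htN, hσU, hUN, hWN, haN⟩ :=
    exists_over hG hM d hK1 hKc hτ hMs hKst hKstH haK haq ha1 hWU hWc hN
  have htσ := (line_facts hG hM d hK1 hKc hτ hMs hKst hKstH haK haq ha1 hWU hWc).2.1
  obtain ⟨s, W', hs, hW'U, hW'c, hsN⟩ : ∃ (s : ℕ) (W' : Subgroup G), s.Prime ∧ W' ≤ U ∧
      Nat.card W' = s ∧ s ∉ Cfsg.sigma N := by
    by_contra hno
    simp only [not_exists, not_and, not_not] at hno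
    have hle : U ≤ Cfsg.sigmaCore N := by
      haveI := normal_subgroupOf_of_le_normalizer (sigmaCore_normal hG N)
      intro u hu
      have h1 : U.subgroupOf N ≤ (Cfsg.sigmaCore N).subgroupOf N :=
        le_normal_of_coprime_index (Nat.coprime_of_dvd fun p hp h1 h2 => by
          rw [Nat.card_congr (subgroupOfEquivOfLe hUN).toEquiv] at h1
          haveI : Fact p.Prime := ⟨hp⟩
          obtain ⟨V, hV, hVc⟩ := exists_line_of_dvd h1
          exact (sigmaCore_hall hG hNc).1.2.2 p hp (hno p V hp hV hVc) h2)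
      exact mem_subgroupOf.1 (h1 (show (⟨u, hUN hu⟩ : N) ∈ U.subgroupOf N from hu))
    have e : Cfsg.sigmaCore N = U := le_antisymm hσU hle
    have hNM : N ≤ M := ((sigmaCore_normal hG N).trans (by rw [e])).trans hN
    exact htσ ((hNc.le_iff.1 hNM).resolve_left hM.1 ▸ htN)
  haveI : Fact s.Prime := ⟨hs⟩
  obtain ⟨-, -, -, -, haW', hfixW'⟩ :=
    line_facts hG hM d hK1 hKc hτ hMs hKst hKstH haK haq ha1 hW'U hW'c
  have hUc := Decomp.isMulCommutative hG hM d hK1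
  obtain ⟨w, hw, hw1, hws, hgen⟩ := exists_gen hW'c
  have hW'N : W' ≤ N := hW'U.trans hUN
  have hderived : W' ≤ ⁅N, N⁆ := by
    have h1 : ⁅a, w⁆ ∈ W' := by
      rw [commutatorElement_def]
      exact mul_mem ((mem_normalizer_iff.1 haW' w).1 hw) (inv_mem hw)
    have h2 : ⁅a, w⁆ ≠ 1 := fun e => hw1 (mem_bot.1 (hfixW'.le (mem_inf.2 ⟨hw,
      mem_centralizer_singleton_iff.2 (commutatorElement_eq_one_iff_mul_comm.1 e).symm⟩)))
    have h3 : zpowers ⁅a, w⁆ = W' := eq_of_le_of_card_ge (zpowers_le.2 h1) (by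
      rw [Nat.card_zpowers, hW'c, orderOf_eq_prime (orderOf_dvd_iff_pow_eq_one.1
        (hW'c ▸ orderOf_dvd_natCard W' h1)) h2])
    rw [← h3, zpowers_le]
    exact commutator_mem_commutator haN (hW'N hw)
  have hp : IsPGroup s W' := IsPGroup.of_card (n := 1) (by rw [hW'c, pow_one])
  have hcore := le_core_of_centralizes hG hNc hsN hp hderived fun x hx =>
    mem_centralizer_iff.2 fun y hy =>
      (congrArg Subtype.val (hUc.is_comm.comm ⟨y, hW'U hy⟩ ⟨x, hσU hx⟩) :)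
  have hnorm := normalizer_eq_of_le_core hG hNc hsN hcore
    (fun x hx => orderOf_dvd_iff_pow_eq_one.1 (hW'c ▸ orderOf_dvd_natCard W' hx))
    (TauTwo.line_ne_bot hW'c)
  obtain ⟨-, B, hBe, hB2, -⟩ := normalizer_prime_subgroup hG hNc hsN hW'c hnorm.le
  obtain ⟨N', hN'c, hsN', hσU', -, -, -⟩ :=
    exists_over hG hM d hK1 hKc hτ hMs hKst hKstH haK haq ha1 hW'U hW'c hN
  obtain ⟨T, hT⟩ : ∃ T : Sylow s G, (T : Subgroup G) ≤ M := by
    obtain ⟨S⟩ := (inferInstance : Nonempty (Sylow s ↥(Cfsg.sigmaCore N')))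
    obtain ⟨T, hT⟩ := sylow_of_hall (sigmaCore_hall hG hN'c).2 hsN'
      (CfsgLib.Coprime.isSylowIn_map S)
    exact ⟨T, hT.le.trans ((map_subtype_le _).trans (hσU'.trans d.compl.1))⟩
  obtain ⟨S, hS⟩ := (IsPGroup.of_card (p := s) (n := 2) hB2).exists_le_sylow
  obtain ⟨g, hg⟩ := exists_conjBy_sylow S T
  have hBM : conjBy g B ≤ M := ((Subgroup.map_mono hS).trans hg.ge).trans hT
  have hr1 := (hτ s hs (hW'c ▸ card_dvd_of_le hW'U)).2.2.2
  refine not_pRankLE_of_elementary hBM (Fusion.isElementaryAbelian_map _ hBe) ?_ hr1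
  rw [pow_one, CfsgLib.Coprime.card_conjBy, hB2]
  exact lt_self_pow₀ hs.one_lt one_lt_two

end Regular

/-- Theorem 14.7: `N(U) ≰ M`. -/
theorem not_normalizer_le : ¬ normalizer (U : Set G) ≤ M := by
  by_cases hU : U = ⊥
  · intro h
    rw [hU, normalizer_eq_top] at h
    exact hM.1 (top_le_iff.1 h)
  by_cases hτ2 : ∃ p : ℕ, p.Prime ∧ p ∣ Nat.card U ∧ p ∈ Cfsg.tau2 M
  · obtain ⟨p, hp, hpd, hpt⟩ := hτ2
    haveI : Fact p.Prime := ⟨hp⟩
    exact not_normalizer_le_of_tau2 hG hM d hK1 hpd hpt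
  obtain ⟨hq, -⟩ := prime_of_U_ne_bot hG hM d hK1 hU
  haveI : Fact (Nat.card K).Prime := ⟨hq⟩
  obtain ⟨a, -, ha1, haq, haK⟩ := exists_gen (t := Nat.card K) (W := K) rfl
  obtain ⟨N, hN, hNK, hNH⟩ := exists_partner hG hM d.hall hK1
  refine regular_not_normalizer_le hG hM d hK1 (q := Nat.card K) rfl (fun t ht htd => ?_) hN hNK
    hNH haK haq ha1 hU
  haveI : Fact t.Prime := ⟨ht⟩
  obtain ⟨htσ, htκ⟩ := Decomp.primes hG hM d ht htd
  rcases compl_tau_cases hG hM (Decomp.compl hG hM d)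
    (htd.trans (card_dvd_of_le le_sup_right)) with (h | h) | h
  · rw [← kappa_eq_tau1 hG hM ⟨_, d.hall.2.1 _ hq dvd_rfl⟩] at h
    exact absurd h htκ
  · exact h
  · exact absurd ⟨t, ht, htd, h⟩ hτ2

end CfsgLib.CFun.NormU
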