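import Cfsg.Agent.Lib.CFun.OddTildeCover
import Cfsg.Agent.Lib.CFun.OddKappaNormU

/-!
# Elements of `U` with fixed points in `M_σ`
-/

set_option autoImplicit false
set_option linter.style.haveILetI false
set_option linter.unusedSectionVars false

open Subgroup
open CfsgLib.Coprime (conjBy IsHallIn IsSylowIn)

namespace CfsgLib.CFun.UFixed

open CfsgLib.CFun.TauTwo CfsgLib.CFun.Lines CfsgLib.CFun.Kappa CfsgLib.CFun.Partner

universe u

variable {G : Type u} [Group G] [Finite G]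

variable (hG : Cfsg.IsMinSimpleOddOrder G) {M K U : Subgroup G} (hM : IsCoatom M)
  (d : Cfsg.IsSigmaDecomposition M K U)
include hG hM d

omit hG hM in
theorem kappa_empty (hK : K = ⊥) : ∀ q, q ∉ Cfsg.kappa M := fun q hq => by
  refine d.hall.2.2 q hq.1 hq ?_
  rw [hK, relIndex_bot_left]
  exact hq.2.1

theorem compl_of_bot (hK : K = ⊥) : Cfsg.IsComplIn U (Cfsg.sigmaCore M) M := by
  have h := Decomp.compl hG hM d
  rwa [hK, bot_sup_eq] at h

/-- With `K = 1`, elements with primes in `τ₁ ∪ τ₃` act regularly. -/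
theorem regular_of_bot (hK : K = ⊥) : RegularTauOneThree M U := by
  intro e he he1 hτ
  obtain ⟨r, hr, hrd⟩ := Nat.exists_prime_and_dvd fun h => he1 (orderOf_eq_one_iff.1 h)
  haveI : Fact r.Prime := ⟨hr⟩
  obtain ⟨R, hR, hRc⟩ := exists_line_of_dvd (t := r) (H := zpowers e) (by rwa [Nat.card_zpowers])
  have hRM : R ≤ M := hR.trans (zpowers_le.2 (d.compl.1 he))
  refine le_bot_iff.1 ((le_inf inf_le_left (inf_le_right.trans ?_)).trans
    (le_of_eq (?_ : Cfsg.sigmaCore M ⊓ centralizer (R : Set G) = ⊥)))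
  · rw [← centralizer_zpowers]; exact centralizer_le hR
  · rcases hτ r hr hrd with h | h
    · exact line_regular hG hM hRM hRc h.2.1 (kappa_empty d hK r) h.2.2.2.2
    · exact TauThree.tau3_line_regular hG hM h hRM hRc

/-- Elements of `U` with fixed points generate an abelian group. -/
theorem closure_abelian : IsMulCommutative (closure ((U : Set G) ∩ Cfsg.sigmaHat M)) := by
  suffices h : ∃ A : Subgroup G, IsMulCommutative A ∧ (U : Set G) ∩ Cfsg.sigmaHat M ⊆ A by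
    obtain ⟨A, hA, hsub⟩ := h
    have hle : closure ((U : Set G) ∩ Cfsg.sigmaHat M) ≤ A := (closure_le A).2 hsub
    exact ⟨⟨fun a b => Subtype.ext
      (congrArg Subtype.val (hA.is_comm.comm ⟨a, hle a.2⟩ ⟨b, hle b.2⟩) :)⟩⟩
  by_cases hK : K = ⊥
  · obtain ⟨A₀, -, -, hA₀c, hA₀⟩ := exists_abelian_normal hG hM (compl_of_bot hG hM d hK)
      (regular_of_bot hG hM d hK)
    refine ⟨A₀, hA₀c, fun u hu => ?_⟩
    obtain ⟨-, y, hy, hy1, hc⟩ := hu.2
    exact hA₀ y hy hy1 (mem_inf.2 ⟨hu.1, mem_centralizer_singleton_iff.2 hc⟩)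
  · exact ⟨U, Decomp.isMulCommutative hG hM d hK, Set.inter_subset_left⟩

theorem tau2_of_fixed {u : G} (hu : u ∈ U) {y : G} (hy : y ∈ Cfsg.sigmaCore M) (hy1 : y ≠ 1)
    (hc : Commute y u) : ∀ p : ℕ, p.Prime → p ∣ orderOf u → p ∈ Cfsg.tau2 M := by
  intro p hp hpd
  haveI : Fact p.Prime := ⟨hp⟩
  obtain ⟨hσ, hκ⟩ := Decomp.primes hG hM d hp (hpd.trans (orderOf_dvd_natCard _ hu))
  exact (Cover.prime_cases hG hM hy hy1 (d.compl.1 hu) hc hpd hσ).resolve_left hκ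

/-- A subgroup of `U` with fixed points is cyclic. -/
theorem cyclic_of_fixed {X : Subgroup G} (hXU : X ≤ U)
    (hXc : Cfsg.sigmaCore M ⊓ centralizer (X : Set G) ≠ ⊥) : IsCyclic X := by
  obtain ⟨y, hy, hy1⟩ := (bot_or_exists_ne_one _).resolve_left hXc
  obtain ⟨hyσ, hyX⟩ := mem_inf.1 hy
  have hsub : (X : Set G) ⊆ (U : Set G) ∩ Cfsg.sigmaHat M := fun u hu => ⟨hXU hu,
    d.compl.1 (hXU hu), y, hyσ, hy1, mem_centralizer_iff.1 hyX u hu⟩
  have hXab : IsMulCommutative X := ⟨⟨fun a b => Subtype.ext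
    (congrArg Subtype.val ((closure_abelian hG hM d).is_comm.comm
      ⟨a, subset_closure (hsub a.2)⟩ ⟨b, subset_closure (hsub b.2)⟩) :)⟩⟩
  haveI := hXab
  haveI : IsZGroup X := ⟨fun p hp P => by
    haveI : Fact p.Prime := ⟨hp⟩
    by_cases hP : p ∣ Nat.card X
    · obtain ⟨hσ, -⟩ := Decomp.primes hG hM d hp (hP.trans (card_dvd_of_le hXU))
      have hr : Cfsg.PRankLE p 1 ((P : Subgroup X).map X.subtype) := by
        by_contra hr
        obtain ⟨T, hTp⟩ : ∃ T : Subgroup G, T = (P : Subgroup X).map X.subtype := ⟨_, rfl⟩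
        rw [← hTp] at hr
        simp only [Cfsg.PRankLE, not_forall] at hr
        obtain ⟨B, hBc, hBe, hB⟩ := hr
        haveI := hBc
        have hBX : B.map T.subtype ≤ X := (map_subtype_le B).trans (hTp.le.trans (map_subtype_le _))
        have hBM : B.map T.subtype ≤ M := hBX.trans (hXU.trans d.compl.1)
        have hBel : Cfsg.IsElementaryAbelian p (B.map T.subtype) :=
          ⟨Subgroup.map_isMulCommutative _ _, by
            rintro _ ⟨b, hb, rfl⟩
            exact (congrArg Subtype.val (hBe b hb) :)⟩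
        have hrM : ¬ Cfsg.PRankLE p 1 M := not_pRankLE_of_elementary hBM hBel (by
          rw [card_map_of_injective T.subtype_injective]; exact not_le.1 hB)
        have hpt : p ∈ Cfsg.tau2 M := mem_tau_iff.2
          ⟨hσ, pRankLE_two_of_not_alpha hp fun h => hσ (alpha_subset_sigma hG hM h), hrM⟩
        have hBcard : Nat.card ↥(B.map T.subtype) = p ^ 2 := by
          obtain ⟨j, hj⟩ := IsPGroup.iff_card.1 (isPGroup_of_elementary hBel)
          have h1 : p ^ 1 < Nat.card ↥(B.map T.subtype) := by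
            rw [card_map_of_injective T.subtype_injective]; exact not_le.1 hB
          have h2 := hpt.2.2.1 ((B.map T.subtype).subgroupOf M)
            ⟨⟨fun a b => Subtype.ext (Subtype.ext (congrArg Subtype.val
              (hBel.1.is_comm.comm ⟨_, a.2⟩ ⟨_, b.2⟩) :))⟩⟩
            fun a ha => Subtype.ext (hBel.2 _ ha)
          rw [Nat.card_congr (subgroupOfEquivOfLe hBM).toEquiv] at h2
          rw [hj] at h1 h2 ⊢
          have h3 := (Nat.pow_lt_pow_iff_right hp.one_lt).1 h1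
          have h4 := (Nat.pow_le_pow_iff_right hp.one_lt).1 h2
          congr 1
          omega
        exact hy1 (mem_bot.1 ((tau_fixed_eq_bot hG hM hpt hBM hBel hBcard).le
          (mem_inf.2 ⟨hyσ, centralizer_le hBX hyX⟩)))
      haveI := Compl.isCyclic_of_rank_one (ms_ne_two hG (hP.trans (card_subgroup_dvd_card X)))
        (P.isPGroup'.map X.subtype) hr
      exact isCyclic_of_injective ((P : Subgroup X).equivMapOfInjective X.subtype
        X.subtype_injective).toMonoidHom (MulEquiv.injective _)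
    · rw [eq_bot_of_not_dvd (G := X) P.isPGroup' fun h => hP (h.trans (card_subgroup_dvd_card _))]
      exact ⟨⟨1, fun x => ⟨0, Subsingleton.elim _ _⟩⟩⟩⟩
  letI : CommGroup X := { (inferInstance : Group X) with mul_comm := hXab.is_comm.comm }
  infer_instance

/-- The centralizer of a subgroup of `U` with fixed points determines `M`. -/
theorem centralizer_unique {X : Subgroup G} (hXU : X ≤ U) (hX : X ≠ ⊥)
    (hXc : Cfsg.sigmaCore M ⊓ centralizer (X : Set G) ≠ ⊥) :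
    centralizer (X : Set G) ≤ M ∧
      ∀ L : Subgroup G, IsCoatom L → centralizer (X : Set G) ≤ L → L = M := by
  obtain ⟨u, hu⟩ := isCyclic_iff_exists_zpowers_eq_top.1 (cyclic_of_fixed hG hM d hXU hXc)
  have e : zpowers (u : G) = X := by
    rw [← X.coe_subtype, ← MonoidHom.map_zpowers, hu, ← MonoidHom.range_eq_map, X.range_subtype]
  obtain ⟨y, hy, hy1⟩ := (bot_or_exists_ne_one _).resolve_left hXc
  have hc : Commute y (u : G) := (mem_centralizer_iff.1 (mem_inf.1 hy).2 u u.2).symm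
  have hu1 : (u : G) ≠ 1 := fun h => hX (by rw [← e, h, zpowers_one_eq_bot])
  have h := (Cover.tau2_case hG hM (mem_inf.1 hy).1 hy1 (d.compl.1 (hXU u.2)) hc hu1
    (tau2_of_fixed hG hM d (hXU u.2) (mem_inf.1 hy).1 hy1 hc)).2
  rwa [← e, centralizer_zpowers]

theorem le_normalizer_sup : M ≤ normalizer ((U ⊔ Cfsg.sigmaCore M : Subgroup G) : Set G) := by
  intro m hm
  obtain ⟨u, hu, b, hb, rfl⟩ := d.compl.2.2.2 m hm
  refine mul_mem (le_normalizer (mem_sup_left hu)) ?_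
  exact sup_le (CfsgLib.Coprime.sup_le_normalizer d.normal
    (d.hall.1.trans (TauTwo.sigmaCore_normal hG M))) (le_sup_right.trans le_normalizer) hb

theorem conj_mem_sigmaA {m a : G} (hm : m ∈ M) (ha : a ∈ Cfsg.sigmaA M U \ (Cfsg.sigmaCore M : Set G)) :
    m * a * m⁻¹ ∈ Cfsg.sigmaA M U \ (Cfsg.sigmaCore M : Set G) := by
  obtain ⟨⟨⟨haM, y, hy, hy1, hc⟩, haV⟩, haσ⟩ := ha
  refine ⟨⟨⟨mul_mem (mul_mem hm haM) (inv_mem hm), m * y * m⁻¹,
    (mem_normalizer_iff.1 (TauTwo.sigmaCore_normal hG M hm) y).1 hy,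
    fun e => hy1 (conj_eq_one_iff.1 e), ((Commute.conj_iff m).2 (show Commute a y from hc)).eq⟩,
    (mem_normalizer_iff.1 (le_normalizer_sup hG hM d hm) a).1 haV⟩,
    fun h => haσ ((mem_normalizer_iff.1 (TauTwo.sigmaCore_normal hG M hm) a).2 h)⟩

/-- `A(M)` without `M_σ` is a TI-set. -/
theorem sigmaA_ti : Cfsg.IsTISubset (Cfsg.sigmaA M U \ (Cfsg.sigmaCore M : Set G)) := by
  intro g hg a ha hb
  exfalso
  refine hg ?_
  suffices hgM : g ∈ M from mem_set_normalizer_iff.2 fun z => ⟨fun h => conj_mem_sigmaA hG hM d hgM h,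
    fun h => by simpa [mul_assoc] using conj_mem_sigmaA hG hM d (inv_mem hgM) h⟩
  have hprimes : ∀ z : G, z ∈ U ⊔ Cfsg.sigmaCore M → ∀ p : ℕ, p.Prime → p ∣ orderOf z →
      p ∉ Cfsg.kappa M := by
    intro z hz p hp hpd hκ
    have h := (hpd.trans (orderOf_dvd_natCard _ hz)).trans
      (CfsgLib.Coprime.card_sup_dvd_of_le_normalizer (d.compl.1.trans (TauTwo.sigmaCore_normal hG M)))
    rcases hp.dvd_mul.1 h with h' | h'
    · exact (Decomp.primes hG hM d hp h').2 hκ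
    · exact hκ.2.2.1 ((sigmaCore_hall hG hM).1.2.1 p hp h')
  have key : ∀ z ∈ Cfsg.sigmaA M U \ (Cfsg.sigmaCore M : Set G), ∀ s t : G, s ∈ zpowers z →
      z = t * s → (∀ p : ℕ, p.Prime → p ∣ orderOf t → p ∈ Cfsg.sigma M) → t ∈ zpowers z →
      (∀ p : ℕ, p.Prime → p ∣ orderOf s → p ∉ Cfsg.sigma M) →
      s ≠ 1 ∧ centralizer ({s} : Set G) ≤ M ∧
        ∀ L : Subgroup G, IsCoatom L → centralizer ({s} : Set G) ≤ L → L = M := by
    rintro z ⟨⟨⟨hzM, y, hy, hy1, hc⟩, hzV⟩, hzσ⟩ s t hs hzts ht htz hsσ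
    have hs1 : s ≠ 1 := by
      rintro rfl
      rw [mul_one] at hzts
      subst hzts
      exact hzσ (le_sigmaCore_of_isPiNum hG hM (zpowers_le.2 hzM)
        (fun p hp hd => ht p hp (by rwa [Nat.card_zpowers] at hd)) (mem_zpowers z))
    obtain ⟨i, rfl⟩ := mem_zpowers_iff.1 hs
    have hcs : Commute y (z ^ i) := (show Commute y z from hc.symm).zpow_right i
    have hsM : z ^ i ∈ M := zpow_mem hzM i
    refine ⟨hs1, ?_⟩
    rcases Cover.kappa_or_tau2 hG hM hy hy1 hsM hcs hsσ with h | h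
    · exfalso
      obtain ⟨p, hp, hpd⟩ := Nat.exists_prime_and_dvd fun e => hs1 (orderOf_eq_one_iff.1 e)
      exact hprimes z hzV p hp (hpd.trans (orderOf_dvd_of_mem_zpowers hs)) (h p hp hpd)
    · exact (Cover.tau2_case hG hM hy hy1 hsM hcs hs1 h).2
  obtain ⟨t, s, htz, hsz, e, ht, hs⟩ := Star.exists_part (Cfsg.sigma M) a
  obtain ⟨hs1, hCs, hCs'⟩ := key a ha s t hsz e ht htz hs
  have hord : ∀ w : G, orderOf (g * w * g⁻¹) = orderOf w := fun w =>
    orderOf_injective (MulAut.conj g).toMonoidHom (MulEquiv.injective _) w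
  have hmem : ∀ w : G, w ∈ zpowers a → g * w * g⁻¹ ∈ zpowers (g * a * g⁻¹) := by
    intro w hw
    obtain ⟨i, rfl⟩ := mem_zpowers_iff.1 hw
    rw [← conj_zpow]; exact zpow_mem (mem_zpowers _) i
  obtain ⟨hs1', hCsg, -⟩ := key (g * a * g⁻¹) hb (g * s * g⁻¹) (g * t * g⁻¹) (hmem s hsz)
    (by rw [e]; group) (fun p hp hd => ht p hp (hord t ▸ hd)) (hmem t htz)
    (fun p hp hd => hs p hp (hord s ▸ hd))
  have hle : centralizer ({s} : Set G) ≤ conjBy g⁻¹ M := by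
    intro c hc
    refine ⟨g * c * g⁻¹, hCsg ?_, ?_⟩
    · rw [← Tilde.conjBy_centralizer]; exact CfsgLib.Coprime.conj_mem_conjBy hc
    · show g⁻¹ * (g * c * g⁻¹) * (g⁻¹)⁻¹ = c
      group
  have h1 := hCs' _ (isCoatom_conjBy g⁻¹ hM) hle
  have h2 : g⁻¹ ∈ normalizer (M : Set G) := CfsgLib.Coprime.conjBy_eq_self_iff.1 h1
  rw [ms_normalizer_self hG hM] at h2
  exact inv_mem_iff.1 h2

/-- A generator of full exponent without fixed points, at a prime of abelian `U`. -/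
theorem exists_torus_gen (hK1 : K ≠ ⊥) {p : ℕ} [hp : Fact p.Prime] (hpU : p ∣ Nat.card U) :
    ∃ z ∈ U, (∃ n : ℕ, z ^ p ^ n = 1) ∧
      (∀ x ∈ U, ∀ n : ℕ, x ^ p ^ n = 1 → x ^ orderOf z = 1) ∧
      ∀ w ∈ zpowers z, w ^ p = 1 → w ≠ 1 →
        Cfsg.sigmaCore M ⊓ centralizer ({w} : Set G) = ⊥ := by
  obtain ⟨hpσ, hpκ⟩ := Decomp.primes hG hM d hp.out hpU
  have hUc := Decomp.isMulCommutative hG hM d hK1
  have hcomm : ∀ x ∈ U, ∀ y ∈ U, Commute x y := fun x hx y hy =>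
    (congrArg Subtype.val (hUc.is_comm.comm ⟨x, hx⟩ ⟨y, hy⟩) :)
  let T : Subgroup G :=
    { carrier := {x | x ∈ U ∧ ∃ n : ℕ, x ^ p ^ n = 1}
      mul_mem' := fun {x y} ⟨hx, n, hn⟩ ⟨hy, m, hm⟩ => ⟨mul_mem hx hy, n + m, by
        rw [(hcomm x hx y hy).mul_pow, pow_add, pow_mul, hn, one_pow, one_mul, ← pow_add,
          add_comm, pow_add, pow_mul, hm, one_pow]⟩
      one_mem' := ⟨one_mem _, 0, one_pow _⟩
      inv_mem' := fun {x} ⟨hx, n, hn⟩ => ⟨inv_mem hx, n, by rw [inv_pow, hn, inv_one]⟩ }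
  have hTU : T ≤ U := fun x hx => hx.1
  have hTp : IsPGroup p T := fun x => by
    obtain ⟨n, hn⟩ := x.2.2
    exact ⟨n, Subtype.ext hn⟩
  -- an element of maximal order
  haveI : Nonempty T := ⟨1⟩
  obtain ⟨z₀, hz₀⟩ := Finite.exists_max (fun x : T => orderOf (x : G))
  have hexp : ∀ x ∈ T, x ^ orderOf (z₀ : G) = 1 := by
    intro x hx
    have h1 := hz₀ ⟨x, hx⟩
    obtain ⟨n, hn⟩ := hx.2
    obtain ⟨n', hn'⟩ := z₀.2.2
    obtain ⟨i, -, hi⟩ := (Nat.dvd_prime_pow hp.out).1 (orderOf_dvd_of_pow_eq_one hn)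
    obtain ⟨j, -, hj⟩ := (Nat.dvd_prime_pow hp.out).1 (orderOf_dvd_of_pow_eq_one hn')
    simp only [hi, hj] at h1
    refine orderOf_dvd_iff_pow_eq_one.1 ?_
    rw [hi, hj]
    exact pow_dvd_pow p ((Nat.pow_le_pow_iff_right hp.out.one_lt).1 h1)
  by_cases hr1 : Cfsg.PRankLE p 1 M
  · refine ⟨z₀, z₀.2.1, z₀.2.2, fun x hx n hn => hexp x ⟨hx, n, hn⟩, fun w hw hwp hw1 => ?_⟩
    have h := line_regular hG hM (zpowers_le.2 (d.compl.1 (zpowers_le.2 z₀.2.1 hw)))
      (by rw [Nat.card_zpowers, orderOf_eq_prime hwp hw1]) hpσ hpκ hr1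
    rwa [centralizer_zpowers] at h
  have hpt : p ∈ Cfsg.tau2 M := mem_tau_iff.2
    ⟨hpσ, pRankLE_two_of_not_alpha hp.out fun h => hpσ (alpha_subset_sigma hG hM h), hr1⟩
  have hE := Decomp.compl hG hM d
  obtain ⟨A, hAE, hAe, hA2⟩ := Compl.exists_elementary_compl hG hM hE hpt
  have hAM : A ≤ M := hAE.trans hE.1
  have hAT : A ≤ T := by
    intro a ha
    refine ⟨?_, 1, by rw [pow_one]; exact hAe.2 a ha⟩
    haveI := normal_subgroupOf_of_le_normalizer (sup_le d.normal le_normalizer : K ⊔ U ≤ _)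
    have h1 : (zpowers a).subgroupOf (K ⊔ U) ≤ U.subgroupOf (K ⊔ U) :=
      le_normal_of_coprime_index (Nat.coprime_of_dvd fun s hs h1 h2 => by
        rw [Nat.card_congr (subgroupOfEquivOfLe (zpowers_le.2 (hAE ha))).toEquiv,
          Nat.card_zpowers] at h1
        have hsp : s = p := (Nat.prime_dvd_prime_iff_eq hs hp.out).1
          (h1.trans (orderOf_dvd_of_pow_eq_one (hAe.2 a ha)))
        rw [hsp] at h2
        exact (Decomp.hall_U hG hM d).2.2 p hp.out ⟨hp.out, hpκ, hpσ⟩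
          (h2.trans (by
            rw [← relIndex_mul_relIndex U (K ⊔ U) M le_sup_right hE.1]
            exact dvd_mul_right _ _)))
    exact mem_subgroupOf.1 (h1 (mem_subgroupOf.2 (mem_zpowers a) :
      (⟨a, hAE ha⟩ : ↥(K ⊔ U)) ∈ (zpowers a).subgroupOf (K ⊔ U)))
  have hmax : ∀ Q : Subgroup G, IsPGroup p Q → Q ≤ M → T ≤ Q → Q = T := by
    intro Q hQ hQM hTQ
    have hTs : IsSylowIn p T U := by
      obtain ⟨P⟩ := (inferInstance : Nonempty (Sylow p U))
      have e : (P : Subgroup U).map U.subtype = T := le_antisymm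
        (fun x hx => ⟨map_subtype_le _ hx, by
          obtain ⟨n, hn⟩ := P.isPGroup'.map U.subtype ⟨x, hx⟩
          exact ⟨n, (congrArg Subtype.val hn :)⟩⟩) (by
        intro x hx
        obtain ⟨Q, hQ⟩ := (IsPGroup.of_equiv (hTp) (subgroupOfEquivOfLe hTU).symm).exists_le_sylow
        haveI : IsMulCommutative U := hUc
        haveI := Sylow.unique_of_normal P inferInstance
        rw [Subsingleton.elim Q P] at hQ
        exact ⟨⟨x, hx.1⟩, hQ (mem_subgroupOf.2 hx), rfl⟩)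
      exact e ▸ CfsgLib.Coprime.isSylowIn_map P
    exact max_of_isSylowIn (isSylowIn_of_relIndex hTs d.compl.1
      ((Decomp.hall_U hG hM d).2.2 p hp.out ⟨hp.out, hpκ, hpσ⟩)) hQ hQM hTQ
  obtain ⟨hTc, hTA, -, hNT⟩ :=
    tau_sylow_abelian hG hM hpt hAM hAe hA2 hTp (hTU.trans d.compl.1) hAT hmax
  have hsoc : ∀ x ∈ T, x ^ p = 1 → x ∈ A := fun x hx hxp =>
    mem_of_pow hAe hA2 (fun _ => tau_max hG hM hpt hAM hAe hA2) hxp (hTA hx)
  obtain ⟨n', hn'⟩ := z₀.2.2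
  obtain ⟨j, -, hj⟩ := (Nat.dvd_prime_pow hp.out).1 (orderOf_dvd_of_pow_eq_one hn')
  have hA1 : ∃ a ∈ A, a ≠ 1 := (bot_or_exists_ne_one A).resolve_left fun e => by
    rw [e, card_bot] at hA2
    exact (Nat.one_lt_pow two_ne_zero hp.out.one_lt).ne hA2
  obtain ⟨m, rfl⟩ : ∃ m, j = m + 1 := by
    refine ⟨j - 1, (Nat.succ_pred_eq_of_ne_zero fun h => ?_).symm⟩
    obtain ⟨a, ha, ha1⟩ := hA1
    rw [h, pow_zero] at hj
    have h' := hexp a (hAT ha)
    rw [hj, pow_one] at h'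
    exact ha1 h'
  let V : Subgroup G :=
    { carrier := {x | ∃ t ∈ T, t ^ p ^ m = x}
      one_mem' := ⟨1, one_mem _, one_pow _⟩
      mul_mem' := fun {a b} ⟨s, hs, hsa⟩ ⟨t, ht, htb⟩ => ⟨s * t, mul_mem hs ht, by
        rw [(hcomm s hs.1 t ht.1).mul_pow, hsa, htb]⟩
      inv_mem' := fun {a} ⟨s, hs, hsa⟩ => ⟨s⁻¹, inv_mem hs, by rw [inv_pow, hsa]⟩ }
  have hVA : V ≤ A := by
    rintro _ ⟨t, ht, rfl⟩
    refine hsoc _ (pow_mem ht _) ?_
    rw [← pow_mul, ← pow_succ, ← hj]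
    exact hexp t ht
  obtain ⟨D, hDV, hDc, hDfix⟩ : ∃ D : Subgroup G, D ≤ V ∧ Nat.card D = p ∧
      Cfsg.sigmaCore M ⊓ centralizer (D : Set G) = ⊥ := by
    by_cases hAV : A ≤ V
    · obtain ⟨D, hD, hDc, hDfix⟩ := tau_fixed_point_free hG hM hpt hAM hAe hA2
      exact ⟨D, hD.trans hAV, hDc, hDfix⟩
    have hV1 : V ≠ ⊥ := fun e => by
      have h : (z₀ : G) ^ p ^ m = 1 := mem_bot.1 (e.le (show _ ∈ V from ⟨z₀, z₀.2, rfl⟩))
      have h' := orderOf_dvd_of_pow_eq_one h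
      rw [hj, Nat.pow_dvd_pow_iff_le_right hp.out.one_lt] at h'
      omega
    have hVc : Nat.card V = p :=
      ((card_pSq_cases hA2 hVA).resolve_left hV1).resolve_right fun e => hAV e.ge
    refine ⟨V, le_rfl, hVc, ?_⟩
    by_contra hfix
    obtain ⟨-, -, hu⟩ := Cfsg.Agent.S1418.result hG M hM (K ⊔ U) hE p hpt A ⟨hAE, hAe, hA2⟩
    refine hNT (le_trans (fun n hn => ?_)
      (Disjoint.normalizer_le_of_unique hG hM (hu V hVA hVc hfix)))
    refine CfsgLib.Coprime.conjBy_eq_self_iff.1 (eq_of_le_of_card_ge ?_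
      (CfsgLib.Coprime.card_conjBy n _).ge)
    rintro _ ⟨_, ⟨t, ht, rfl⟩, rfl⟩
    exact ⟨n * t * n⁻¹, (mem_normalizer_iff.1 hn t).1 ht, by rw [conj_pow]; rfl⟩
  obtain ⟨b, hb, hb1, hbp, hbD⟩ := exists_gen hDc
  obtain ⟨z, hz, hzb⟩ := hDV hb
  have hzo : orderOf z = p ^ (m + 1) := orderOf_eq_prime_pow
    (fun h => hb1 (hzb ▸ h)) (by rw [← hj]; exact hexp z hz)
  refine ⟨z, hz.1, hz.2, fun x hx n hn => ?_, fun w hw hwp hw1 => ?_⟩
  · rw [hzo, ← hj]; exact hexp x ⟨hx, n, hn⟩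
  · obtain ⟨i, rfl⟩ := mem_zpowers_iff.1 hw
    have hdi : ((p ^ m : ℕ) : ℤ) ∣ i := by
      rw [← zpow_natCast, ← zpow_mul, ← orderOf_dvd_iff_zpow_eq_one, hzo, pow_succ,
        Nat.cast_mul] at hwp
      exact (mul_dvd_mul_iff_right (by exact_mod_cast hp.out.ne_zero)).1 hwp
    obtain ⟨k, rfl⟩ := hdi
    have hwD : z ^ ((p ^ m : ℕ) * k : ℤ) ∈ D := by
      rw [zpow_mul, zpow_natCast, hzb]
      exact zpow_mem hb k
    have hweq : zpowers (z ^ ((p ^ m : ℕ) * k : ℤ)) = D := eq_of_le_of_card_ge (zpowers_le.2 hwD)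
      (le_of_eq (by rw [hDc, Nat.card_zpowers, orderOf_eq_prime hwp hw1]))
    rw [← centralizer_zpowers, hweq]
    exact hDfix

/-- A subgroup of `U` of the same exponent without fixed points. -/
theorem exists_regular_exponent : ∃ U₀ : Subgroup G, U₀ ≤ U ∧
    Monoid.exponent U₀ = Monoid.exponent U ∧ ∀ u ∈ U₀, u ∈ Cfsg.sigmaHat M → u = 1 := by
  suffices h : ∃ U₀ : Subgroup G, U₀ ≤ U ∧ Monoid.exponent U₀ = Monoid.exponent U ∧
      ∀ u ∈ U₀, u ≠ 1 → Cfsg.sigmaCore M ⊓ centralizer ({u} : Set G) = ⊥ by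
    obtain ⟨U₀, h1, h2, h3⟩ := h
    refine ⟨U₀, h1, h2, fun u hu hs => ?_⟩
    by_contra hu1
    obtain ⟨-, y, hy, hy1, hc⟩ := hs
    exact hy1 (mem_bot.1 ((h3 u hu hu1).le
      (mem_inf.2 ⟨hy, mem_centralizer_singleton_iff.2 hc.symm⟩)))
  by_cases hK : K = ⊥
  · exact exists_exponent_regular hG hM (compl_of_bot hG hM d hK) (regular_of_bot hG hM d hK)
  haveI hUc := Decomp.isMulCommutative hG hM d hK
  let P := {p : ℕ // p.Prime ∧ p ∣ Nat.card U}
  have hdata : ∀ q : P, ∃ z ∈ U, (∃ n : ℕ, z ^ q.1 ^ n = 1) ∧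
      (∀ x ∈ U, ∀ n : ℕ, x ^ q.1 ^ n = 1 → x ^ orderOf z = 1) ∧
      ∀ w ∈ zpowers z, w ^ q.1 = 1 → w ≠ 1 →
        Cfsg.sigmaCore M ⊓ centralizer ({w} : Set G) = ⊥ := fun q => by
    haveI : Fact q.1.Prime := ⟨q.2.1⟩
    exact exists_torus_gen hG hM d hK q.2.2
  choose z hzU hzp hzexp hzfix using hdata
  set U₀ := ⨆ q : P, zpowers (z q) with hU₀
  have hle : U₀ ≤ U := iSup_le fun q => zpowers_le.2 (hzU q)
  refine ⟨U₀, hle, exponent_eq_of_orders hle fun r hr g hg n hgn => ?_,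
    regular_of_prime_order hG hM (Decomp.compl hG hM d) fun w hw q hq hwq => ?_⟩
  · by_cases hrU : r ∣ Nat.card U
    · exact ⟨z ⟨r, hr, hrU⟩, le_iSup (fun q : P => zpowers (z q)) ⟨r, hr, hrU⟩ (mem_zpowers _),
        hzexp _ g hg n hgn⟩
    · refine ⟨1, one_mem _, ?_⟩
      obtain ⟨i, -, hi⟩ := (Nat.dvd_prime_pow hr).1 (orderOf_dvd_of_pow_eq_one hgn)
      rcases Nat.eq_zero_or_pos i with rfl | hpos
      · rw [orderOf_one, pow_one, orderOf_eq_one_iff.1 (hi.trans (pow_zero r))]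
      · exact absurd (((dvd_pow_self r hpos.ne').trans hi.symm.dvd).trans
          (orderOf_dvd_natCard _ hg)) hrU
  · have hwU : w ∈ U := hle hw
    have hwq' : w ^ q = 1 := hwq ▸ pow_orderOf_eq_one w
    have hw1 : w ≠ 1 := fun e => hq.ne_one (by rw [← hwq, e, orderOf_one])
    set q' : P := ⟨q, hq, hwq ▸ orderOf_dvd_natCard _ hwU⟩
    set R := ⨆ (r : P) (_ : r ≠ q'), zpowers (z r) with hR
    have hcomm : ∀ x ∈ U, ∀ y ∈ U, Commute x y := fun x hx y hy =>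
      (congrArg Subtype.val (hUc.is_comm.comm ⟨x, hx⟩ ⟨y, hy⟩) :)
    have hRU : R ≤ U := iSup₂_le fun r _ => zpowers_le.2 (hzU r)
    have hsplit : U₀ ≤ zpowers (z q') ⊔ R := iSup_le fun r => by
      by_cases h : r = q'
      · subst h; exact le_sup_left
      · exact (le_iSup₂ (f := fun (r : P) (_ : r ≠ q') => zpowers (z r)) r h).trans le_sup_right
    have hqR : ¬ q ∣ Nat.card R := by
      intro hd
      haveI : Fact q.Prime := ⟨hq⟩
      obtain ⟨v, hv⟩ := exists_prime_orderOf_dvd_card' (G := R) q hd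
      let S : Subgroup G :=
        { carrier := {x | x ∈ U ∧ ¬ q ∣ orderOf x}
          mul_mem' := fun {x y} ⟨hx, hx'⟩ ⟨hy, hy'⟩ => ⟨mul_mem hx hy, fun h =>
            (hq.dvd_mul.1 (h.trans (hcomm x hx y hy).orderOf_mul_dvd_mul_orderOf)).elim hx' hy'⟩
          one_mem' := ⟨one_mem _, by rw [orderOf_one]; exact hq.not_dvd_one⟩
          inv_mem' := fun {x} ⟨hx, hx'⟩ => ⟨inv_mem hx, by rwa [orderOf_inv]⟩ }
      have hRS : R ≤ S := iSup₂_le fun r hr => zpowers_le.2 ⟨hzU r, fun h => by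
        obtain ⟨n, hn⟩ := hzp r
        exact hr (Subtype.ext ((Nat.prime_dvd_prime_iff_eq hq r.2.1).1
          (hq.dvd_of_dvd_pow (h.trans (orderOf_dvd_of_pow_eq_one hn)))).symm)⟩
      exact (hRS v.2).2 (by rw [orderOf_coe, hv])
    have hRN : R ≤ normalizer (zpowers (z q') : Set G) := fun x hx =>
      CfsgLib.Coprime.centralizer_le_normalizer_self _ (mem_centralizer_iff.2 fun y hy =>
        (hcomm y (zpowers_le.2 (hzU q') hy) x (hRU hx)).eq)
    obtain ⟨a, ha, b, hb, hab⟩ := CfsgLib.Coprime.mem_sup_exists hRN (hsplit hw)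
    have hb1 : b = 1 := by
      haveI : Fact q.Prime := ⟨hq⟩
      obtain ⟨n, hn⟩ := hzp q'
      have han : a ^ q ^ n = 1 := by
        obtain ⟨i, rfl⟩ := mem_zpowers_iff.1 ha
        rw [← zpow_natCast, ← zpow_mul, mul_comm, zpow_mul, zpow_natCast, hn, one_zpow]
      have hbn : b ^ q ^ (n + 1) = 1 := by
        rw [show b = a⁻¹ * w by rw [← hab]; group,
          (hcomm _ (inv_mem (zpowers_le.2 (hzU q') ha)) w hwU).mul_pow]
        rw [inv_pow, pow_succ, pow_mul, han, one_pow, inv_one, one_mul, mul_comm, pow_mul, hwq',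
          one_pow]
      obtain ⟨i, -, hi⟩ := (Nat.dvd_prime_pow hq).1 (orderOf_dvd_of_pow_eq_one hbn)
      rcases Nat.eq_zero_or_pos i with rfl | hpos
      · exact orderOf_eq_one_iff.1 (hi.trans (pow_zero q))
      · exact absurd (((dvd_pow_self q hpos.ne').trans hi.symm.dvd).trans
          (orderOf_dvd_natCard _ hb)) hqR
    rw [hb1, mul_one] at hab
    exact hzfix q' w (hab ▸ ha) hwq' hw1

end CfsgLib.CFun.UFixed
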