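import Cfsg.Agent.Lib.CFun.OddFifteenTwo
import Cfsg.Agent.Lib.CFun.OddUFixed
import Cfsg.Agent.Lib.Coprime.BenderPair
import Cfsg.Agent.S1420
import Cfsg.Agent.S1415

/-!
# `M_F`, `M'` and `F(M)`
-/

set_option autoImplicit false
set_option linter.style.haveILetI false
set_option linter.unusedSectionVars false

open Subgroup
open scoped commutatorElement
open CfsgLib.Coprime (conjBy IsSylowIn IsHallIn IsPiNum conj_mem_of_le_normalizer)

namespace CfsgLib.CFun.Chain

open CfsgLib.CFun.TauTwo CfsgLib.CFun.Lines CfsgLib.CFun.Kappa CfsgLib.CFun.Partner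

universe u

variable {G : Type u} [Group G] [Finite G]

theorem fittingHallOf_normal (M : Subgroup G) :
    M ≤ normalizer (Cfsg.fittingHallOf M : Set G) :=
  CfsgLib.Coprime.BenderPair.le_normalizer_map_subtype M _

theorem fittingOf_normal (M : Subgroup G) : M ≤ normalizer (Cfsg.fittingOf M : Set G) := by
  haveI := CfsgLib.Coprime.fitting_normal (G := M)
  exact CfsgLib.Coprime.BenderPair.le_normalizer_map_subtype M _

/-- Normal nilpotent subgroups of `M` lie in `F(M)`. -/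
theorem le_fittingOf {M X : Subgroup G} (hXM : X ≤ M) (hn : M ≤ normalizer (X : Set G))
    (hnil : Group.IsNilpotent X) : X ≤ Cfsg.fittingOf M := by
  haveI : (X.subgroupOf M).Normal := normal_subgroupOf_of_le_normalizer hn
  haveI : Group.IsNilpotent ↥(X.subgroupOf M) := by
    haveI := hnil
    exact Group.nilpotent_of_mulEquiv (subgroupOfEquivOfLe hXM).symm
  intro x hx
  exact ⟨⟨x, hXM hx⟩,
    CfsgLib.Coprime.le_fitting (N := X.subgroupOf M) inferInstance (mem_subgroupOf.2 hx), rfl⟩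

theorem fittingOf_nilpotent (M : Subgroup G) : Group.IsNilpotent (Cfsg.fittingOf M) := by
  haveI := CfsgLib.Coprime.fitting_isNilpotent (G := M)
  exact Group.nilpotent_of_mulEquiv
    ((Cfsg.fittingSubgroup M).equivMapOfInjective M.subtype M.subtype_injective)

theorem fittingHallOf_le_fittingOf (M : Subgroup G) :
    Cfsg.fittingHallOf M ≤ Cfsg.fittingOf M :=
  map_mono (sSup_le_sSup fun _ hN => ⟨hN.1, hN.2.1⟩)

theorem isNilpotent_fittingHallOf (M : Subgroup G) : Group.IsNilpotent (Cfsg.fittingHallOf M) :=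
  CfsgLib.Coprime.isNilpotent_of_le (fittingHallOf_le_fittingOf M) (fittingOf_nilpotent M)

/-- `F(M) ≤ C_M(M_F) M_F`. -/
theorem fittingOf_le (M : Subgroup G) :
    Cfsg.fittingOf M ≤ (M ⊓ centralizer (Cfsg.fittingHallOf M : Set G)) ⊔ Cfsg.fittingHallOf M := by
  haveI := CfsgLib.Coprime.fitting_isNilpotent (G := M)
  rintro _ ⟨x, hx, rfl⟩
  set n := Nat.card (Cfsg.fittingHall M)
  set m := (Cfsg.fittingHall M).index
  have hcop : Int.gcd (n : ℤ) m = 1 := by
    rw [Int.gcd_natCast_natCast]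
    exact fittingHall_coprime M
  have hb := Int.gcd_eq_gcd_ab (n : ℤ) m
  rw [hcop, Nat.cast_one] at hb
  have hm : x ^ m ∈ Cfsg.fittingHall M := pow_index_mem _ x
  have hord : (x ^ n) ^ m = 1 := by
    rw [← pow_mul, Subgroup.card_mul_index, pow_card_eq_one']
  set b := (x ^ n) ^ (Int.gcdA (n : ℤ) m)
  set a := (x ^ m) ^ (Int.gcdB (n : ℤ) m)
  have hxab : x = b * a := by
    simp only [a, b]
    rw [← zpow_natCast x n, ← zpow_natCast x m, ← zpow_mul, ← zpow_mul, ← zpow_add, ← hb, zpow_one]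
  rw [hxab, map_mul]
  refine mul_mem (mem_sup_left (mem_inf.2 ⟨b.2, mem_centralizer_iff.2 ?_⟩))
    (mem_sup_right ⟨a, zpow_mem hm _, rfl⟩)
  rintro _ ⟨w, hw, rfl⟩
  have hbF : b ∈ Cfsg.fittingSubgroup M := zpow_mem (pow_mem hx n) _
  have hwF : w ∈ Cfsg.fittingSubgroup M :=
    (show Cfsg.fittingHall M ≤ Cfsg.fittingSubgroup M from
      sSup_le_sSup fun _ hN => ⟨hN.1, hN.2.1⟩) hw
  have hbm : b ^ m = 1 := by
    rw [← zpow_natCast, ← zpow_mul, mul_comm, zpow_mul, zpow_natCast, hord, one_zpow]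
  have h1 := commute_of_coprime_order (x := (⟨w, hwF⟩ : Cfsg.fittingSubgroup M)) (y := ⟨b, hbF⟩) (by
    rw [show orderOf (⟨w, hwF⟩ : Cfsg.fittingSubgroup M) = orderOf w from (orderOf_coe _).symm,
      show orderOf (⟨b, hbF⟩ : Cfsg.fittingSubgroup M) = orderOf b from (orderOf_coe _).symm]
    exact ((fittingHall_coprime M).coprime_dvd_left (orderOf_dvd_natCard _ hw)).coprime_dvd_right
      (orderOf_dvd_of_pow_eq_one hbm))
  exact congrArg (fun z : Cfsg.fittingSubgroup M => ((z : M) : G)) h1.eq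

/-- If `M' ≤ M_F X` with `X` nilpotent then `M'/M_F` is nilpotent. -/
theorem map_derived_nilpotent {M X : Subgroup G} (hXM : X ≤ M) (hX : Group.IsNilpotent X)
    (h : ⁅M, M⁆ ≤ Cfsg.fittingHallOf M ⊔ X) :
    Group.IsNilpotent ↥((commutator ↥M).map (QuotientGroup.mk' (Cfsg.fittingHall ↥M))) := by
  set π := QuotientGroup.mk' (Cfsg.fittingHall ↥M)
  have hle : (commutator ↥M).map π ≤ (X.subgroupOf M).map π := by
    rintro _ ⟨x, hx, rfl⟩
    have hx' : (x : G) ∈ ⁅M, M⁆ := by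
      rw [map_commutator_self]
      exact ⟨x, hx, rfl⟩
    obtain ⟨a, ha, b, hb, e⟩ :=
      CfsgLib.Coprime.mem_sup_exists (hXM.trans (fittingHallOf_normal M)) (h hx')
    obtain ⟨a', ha', rfl⟩ := ha
    refine ⟨⟨b, hXM hb⟩, hb, ?_⟩
    have e' : x = a' * ⟨b, hXM hb⟩ := Subtype.ext e.symm
    rw [e', map_mul, show π a' = 1 from (QuotientGroup.eq_one_iff a').2 ha', one_mul]
  refine CfsgLib.Coprime.isNilpotent_of_le hle ?_
  haveI := hX
  haveI : Group.IsNilpotent ↥(X.subgroupOf M) :=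
    Group.nilpotent_of_mulEquiv (subgroupOfEquivOfLe hXM).symm
  exact Group.nilpotent_of_surjective _ (π.subgroupMap_surjective (X.subgroupOf M))

variable (hG : Cfsg.IsMinSimpleOddOrder G) {M : Subgroup G} (hM : IsCoatom M)
include hG hM

theorem exists_decomposition : ∃ K U : Subgroup G, Cfsg.IsSigmaDecomposition M K U := by
  obtain ⟨K, hKM, h1, h2⟩ :=
    CfsgLib.Coprime.exists_hallIn (Cfsg.kappa M) (ms_solvable hG hM.1)
  obtain ⟨U, d⟩ := Decomp.exists_decomp hG hM
    (K := K) ⟨hKM, h1, fun p hp hpκ hd => h2 p hp hd hpκ⟩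
  exact ⟨K, U, d⟩

theorem fittingHall_ne_bot : Cfsg.fittingHallOf M ≠ ⊥ := by
  by_cases hne : Cfsg.fittingHallOf M = Cfsg.sigmaCore M
  · exact hne ▸ sigmaCore_ne_bot hG hM
  obtain ⟨K, U, d⟩ := exists_decomposition hG hM
  obtain ⟨Q, D, h⟩ := FifteenTwo.exists_split hG hM d hne
  intro e
  have h1 := (h.fix_le.trans (FifteenTwo.Split.le_fittingHall hG hM d h)).trans e.le
  have h2 := h.prime
  rw [le_bot_iff.1 h1, card_bot] at h2
  exact Nat.not_prime_one h2

theorem derived_quotient_nilpotent :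
    Group.IsNilpotent ↥((commutator ↥M).map (QuotientGroup.mk' (Cfsg.fittingHall ↥M))) := by
  obtain ⟨K, U, d⟩ := exists_decomposition hG hM
  by_cases hne : Cfsg.fittingHallOf M = Cfsg.sigmaCore M
  · have hE := Decomp.compl hG hM d
    refine map_derived_nilpotent ((commutator_le_self _).trans hE.1)
      ((Cfsg.Agent.S1415.result hG M hM _ hE).1) ?_
    rw [hne]
    exact Compl.derived_le_sup hG hM hE
  · obtain ⟨Q, D, h⟩ := FifteenTwo.exists_split hG hM d hne
    obtain ⟨hU, hK1⟩ := FifteenTwo.Split.bot hG hM d h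
    refine map_derived_nilpotent (FifteenTwo.Split.le_M hG hM d h).2
      (FifteenTwo.Split.nilpotent_D hG hM d h) ?_
    rw [KappaDerived.derived_eq hG hM d hK1, hU, bot_sup_eq]
    intro z hz
    obtain ⟨a, ha, b, hb, rfl⟩ := h.compl.2.2.2 z hz
    exact mul_mem (mem_sup_left (FifteenTwo.Split.le_fittingHall hG hM d h ha)) (mem_sup_right hb)

variable {K U : Subgroup G} (d : Cfsg.IsSigmaDecomposition M K U)
include d

/-- No element of `K` centralizes `M_F`. -/
theorem kappa_inf_centralizer : K ⊓ centralizer (Cfsg.fittingHallOf M : Set G) = ⊥ := by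
  by_cases hK1 : K = ⊥
  · rw [hK1, bot_inf_eq]
  refine (eq_bot_iff_forall _).2 fun k hk => ?_
  by_contra hk1
  refine (KappaDerived.fixed_le_fittingHall hG hM d hK1).2 ?_
  have hle : Cfsg.fittingHallOf M ≤ Cfsg.sigmaCore M ⊓ centralizer (K : Set G) := by
    rw [← fixed_eq hG hM d.hall (mem_inf.1 hk).1 hk1]
    exact le_inf (Cosets.fittingHallOf_le hG hM) fun z hz =>
      mem_centralizer_singleton_iff.2 (mem_centralizer_iff.1 (mem_inf.1 hk).2 z hz)
  haveI := fixed_cyclic hG hM d.hall hK1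
  exact isCyclic_of_injective (inclusion hle) (inclusion_injective hle)

/-- `C_M(M_F) ≤ U M_σ`. -/
theorem centralizer_le_sup :
    M ⊓ centralizer (Cfsg.fittingHallOf M : Set G) ≤ U ⊔ Cfsg.sigmaCore M := by
  set C := M ⊓ centralizer (Cfsg.fittingHallOf M : Set G)
  have hCn : M ≤ normalizer (C : Set G) := CfsgLib.Coprime.inf_le_normalizer le_normalizer
    ((fittingHallOf_normal M).trans (CfsgLib.Coprime.normalizer_le_normalizer_centralizer _))
  have hMV := UFixed.le_normalizer_sup hG hM d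
  have hcop : (Nat.card K).Coprime (Nat.card C) := by
    refine Nat.coprime_of_dvd fun r hr h1 h2 => ?_
    haveI : Fact r.Prime := ⟨hr⟩
    obtain ⟨y, hy⟩ := exists_prime_orderOf_dvd_card' (G := C) r h2
    have hyc : Nat.card (zpowers (y : G)) = r := by rw [Nat.card_zpowers, orderOf_coe, hy]
    obtain ⟨m, hm, hmK⟩ := CfsgLib.Coprime.IsHallIn.exists_conj_le
      (H := K) (L := M) (π := Cfsg.kappa M) ⟨d.hall.1, d.hall.2.1, fun p hp hd hpκ => d.hall.2.2 p hp hpκ hd⟩
      (ms_solvable hG hM.1) (zpowers_le.2 (mem_inf.1 y.2).1) (K := zpowers (y : G)) (by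
        intro p hp hd
        rw [hyc] at hd
        rw [(Nat.prime_dvd_prime_iff_eq hp hr).1 hd]
        exact d.hall.2.1 r hr h1)
    have hmy := CfsgLib.Coprime.conj_mem_conjBy (g := m) (mem_zpowers (y : G))
    have h3 : m * y * m⁻¹ ∈ K ⊓ centralizer (Cfsg.fittingHallOf M : Set G) :=
      mem_inf.2 ⟨hmK hmy, (mem_inf.1 ((mem_normalizer_iff.1 (hCn hm) _).1 y.2)).2⟩
    rw [kappa_inf_centralizer hG hM d, mem_bot] at h3
    have hy1 : (y : G) = 1 := conj_eq_one_iff.1 h3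
    rw [hy1, zpowers_one_eq_bot, card_bot] at hyc
    exact hr.ne_one hyc.symm
  intro x hx
  obtain ⟨u, hu, b, hb, e⟩ := d.compl.2.2.2 x (mem_inf.1 hx).1
  obtain ⟨s, hs, k, hk, e'⟩ := CfsgLib.Coprime.mem_sup_exists
    (d.hall.1.trans (TauTwo.sigmaCore_normal hG M)) (sup_comm K _ ▸ hb)
  set V := U ⊔ Cfsg.sigmaCore M
  set f := QuotientGroup.mk' (V.subgroupOf (normalizer (V : Set G)))
  have hxN := hMV (mem_inf.1 hx).1
  have hkN := hMV (d.hall.1 hk)
  have husN : u * s ∈ V := mul_mem (mem_sup_left hu) (mem_sup_right hs)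
  have hfx : f ⟨x, hxN⟩ = f ⟨k, hkN⟩ := by
    rw [show (⟨x, hxN⟩ : normalizer (V : Set G)) = ⟨u * s, le_normalizer husN⟩ * ⟨k, hkN⟩ from
      Subtype.ext (show x = u * s * k by rw [e, ← e', mul_assoc]), map_mul,
      show f ⟨u * s, le_normalizer husN⟩ = 1 from Sect.mk_eq_one.2 husN, one_mul]
  refine Sect.mk_eq_one (x := ⟨x, hxN⟩).1 (orderOf_eq_one_iff.1 ?_)
  exact Nat.eq_one_of_dvd_coprimes hcop
    (hfx ▸ (orderOf_map_dvd f _).trans ((orderOf_mk k hkN).dvd.trans (orderOf_dvd_natCard _ hk)))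
    ((orderOf_map_dvd f _).trans ((orderOf_mk x hxN).dvd.trans (orderOf_dvd_natCard _ hx)))

/-- When `M_σ` is nilpotent, `C_M(M_σ) = Z(M_σ) (U ∩ C(M_σ))`. -/
theorem centralizer_split (hF : Cfsg.fittingHallOf M = Cfsg.sigmaCore M) {x : G}
    (hx : x ∈ M ⊓ centralizer (Cfsg.sigmaCore M : Set G)) :
    ∃ s ∈ Cfsg.sigmaCore M ⊓ centralizer (Cfsg.sigmaCore M : Set G),
      ∃ u ∈ U ⊓ centralizer (Cfsg.sigmaCore M : Set G), x = s * u := by
  have hU : U ≤ normalizer (Cfsg.sigmaCore M : Set G) :=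
    d.compl.1.trans (TauTwo.sigmaCore_normal hG M)
  have hx' : x ∈ U ⊔ Cfsg.sigmaCore M := centralizer_le_sup hG hM d (by rwa [hF])
  obtain ⟨s, hs, u, hu, e⟩ := CfsgLib.Coprime.mem_sup_exists hU (sup_comm U _ ▸ hx')
  have hxs : Commute x s⁻¹ :=
    Commute.inv_right (mem_centralizer_iff.1 (mem_inf.1 hx).2 s hs).symm
  have hcop : (Nat.card (Cfsg.sigmaCore M)).Coprime (Nat.card U) :=
    ((compl_coprime hG hM (Decomp.compl hG hM d)).coprime_dvd_left
      (card_dvd_of_le le_sup_right)).symm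
  set m := Nat.card U
  have hum : u ^ m = 1 := orderOf_dvd_iff_pow_eq_one.1 (orderOf_dvd_natCard _ hu)
  have hue : u = s⁻¹ * x := by rw [← e, inv_mul_cancel_left]
  have hsm : s ^ m ∈ centralizer (Cfsg.sigmaCore M : Set G) := by
    rw [hue, hxs.symm.mul_pow, inv_pow, inv_mul_eq_one] at hum
    rw [hum]
    exact pow_mem (mem_inf.1 hx).2 m
  have hsC : s ∈ centralizer (Cfsg.sigmaCore M : Set G) := by
    have h1 : s ∈ zpowers (s ^ m) :=
      (mem_zpowers_pow_iff.2 (by
        show m.gcd (orderOf s) = 1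
        exact (hcop.coprime_dvd_left (orderOf_dvd_natCard _ hs)).symm))
    exact zpowers_le.2 hsm h1
  refine ⟨s, mem_inf.2 ⟨hs, hsC⟩, u, mem_inf.2 ⟨hu, ?_⟩, e.symm⟩
  rw [hue]
  exact mul_mem (inv_mem hsC) (mem_inf.1 hx).2

theorem centralizer_nilpotent :
    Group.IsNilpotent ↥(M ⊓ centralizer (Cfsg.fittingHallOf M : Set G)) := by
  by_cases hF : Cfsg.fittingHallOf M = Cfsg.sigmaCore M
  · rw [hF]
    have hc := UFixed.cyclic_of_fixed hG hM d
      (X := U ⊓ centralizer (Cfsg.sigmaCore M : Set G)) inf_le_left (by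
        rw [inf_eq_left.2 (le_centralizer_iff.1 (inf_le_right (a := U)))]
        exact sigmaCore_ne_bot hG hM)
    refine FifteenTwo.isNilpotent_of_commute
      (A := Cfsg.sigmaCore M ⊓ centralizer (Cfsg.sigmaCore M : Set G))
      (B := U ⊓ centralizer (Cfsg.sigmaCore M : Set G)) ?_ ?_ ?_
      (inf_le_inf_right _ (map_subtype_le _)) (inf_le_inf_right _ d.compl.1) fun x hx => ?_
    · exact CfsgLib.Coprime.isNilpotent_of_le inf_le_left
        (hF ▸ isNilpotent_fittingHallOf M)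
    · haveI := hc
      exact @CommGroup.isNilpotent _ IsCyclic.commGroup
    · exact inf_le_right.trans (centralizer_le inf_le_left)
    · exact centralizer_split hG hM d hF hx
  obtain ⟨Q, D, h⟩ := FifteenTwo.exists_split hG hM d hF
  obtain ⟨hU, hK1⟩ := FifteenTwo.Split.bot hG hM d h
  have hC : M ⊓ centralizer (Cfsg.fittingHallOf M : Set G) ≤ Cfsg.sigmaCore M :=
    (centralizer_le_sup hG hM d).trans (by rw [hU, bot_sup_eq])
  set C := M ⊓ centralizer (Cfsg.fittingHallOf M : Set G)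
  set π := QuotientGroup.mk' (Cfsg.fittingHall ↥M)
  let φ : C →* (↥M ⧸ Cfsg.fittingHall ↥M) := π.comp (inclusion (inf_le_left : C ≤ M))
  have hrange : φ.range ≤ (D.subgroupOf M).map π := by
    rintro _ ⟨x, rfl⟩
    obtain ⟨a, ha, b, hb, e⟩ := h.compl.2.2.2 x (hC x.2)
    obtain ⟨a', ha', hae⟩ := FifteenTwo.Split.le_fittingHall hG hM d h ha
    refine ⟨⟨b, (FifteenTwo.Split.le_M hG hM d h).2 hb⟩, hb, ?_⟩
    show π _ = π _
    rw [show inclusion (inf_le_left : C ≤ M) x = a' * ⟨b, (FifteenTwo.Split.le_M hG hM d h).2 hb⟩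
      from Subtype.ext (by rw [coe_mul, show (a' : G) = a from hae]; exact e), map_mul,
      show π a' = 1 from (QuotientGroup.eq_one_iff a').2 ha', one_mul]
  haveI : Group.IsNilpotent φ.range := by
    refine CfsgLib.Coprime.isNilpotent_of_le hrange ?_
    haveI := FifteenTwo.Split.nilpotent_D hG hM d h
    haveI : Group.IsNilpotent ↥(D.subgroupOf M) :=
      Group.nilpotent_of_mulEquiv (subgroupOfEquivOfLe (FifteenTwo.Split.le_M hG hM d h).2).symm
    exact Group.nilpotent_of_surjective _ (π.subgroupMap_surjective (D.subgroupOf M))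
  refine Subgroup.isNilpotent_of_ker_le_center φ.rangeRestrict ?_
  rw [MonoidHom.ker_rangeRestrict]
  intro x hx
  have hxF : (x : G) ∈ Cfsg.fittingHallOf M := ⟨_, (QuotientGroup.eq_one_iff _).1 hx, rfl⟩
  refine mem_center_iff.2 fun y => Subtype.ext ?_
  exact (mem_centralizer_iff.1 (mem_inf.1 y.2).2 _ hxF).symm

theorem fittingOf_eq : Cfsg.fittingOf M =
    (M ⊓ centralizer (Cfsg.fittingHallOf M : Set G)) ⊔ Cfsg.fittingHallOf M := by
  refine le_antisymm (fittingOf_le M) (sup_le (le_fittingOf inf_le_left ?_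
    (centralizer_nilpotent hG hM d)) (fittingHallOf_le_fittingOf M))
  exact CfsgLib.Coprime.inf_le_normalizer le_normalizer
    ((fittingHallOf_normal M).trans (CfsgLib.Coprime.normalizer_le_normalizer_centralizer _))

/-- `F(M) ≤ M'` when `κ(M)` is not empty. -/
theorem fittingOf_le_derived (hK1 : K ≠ ⊥) : Cfsg.fittingOf M ≤ ⁅M, M⁆ := by
  rw [fittingOf_eq hG hM d, KappaDerived.derived_eq hG hM d hK1]
  exact sup_le (centralizer_le_sup hG hM d) ((Cosets.fittingHallOf_le hG hM).trans le_sup_right)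

/-- `M'' ≤ F(M)`. -/
theorem second_derived_le : ⁅⁅M, M⁆, ⁅M, M⁆⁆ ≤ Cfsg.fittingOf M := by
  have hE := Decomp.compl hG hM d
  have hσM : Cfsg.sigmaCore M ≤ M := map_subtype_le _
  by_cases hF : Cfsg.fittingHallOf M = Cfsg.sigmaCore M
  · have hab := (Cfsg.Agent.S1420.result hG M hM _ hE).2.1
    have h0 : ⁅⁅K ⊔ U, K ⊔ U⁆, ⁅K ⊔ U, K ⊔ U⁆⁆ = ⊥ :=
      commutator_eq_bot_iff_le_centralizer.2 fun x hx => mem_centralizer_iff.2 fun y hy =>
        congrArg Subtype.val (hab.is_comm.comm ⟨y, hy⟩ ⟨x, hx⟩)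
    refine le_trans (derived_le_of_factor (H := ⁅M, M⁆) (K := Cfsg.sigmaCore M) (N := ⁅K ⊔ U, K ⊔ U⁆)
      ((commutator_le_self M).trans (TauTwo.sigmaCore_normal hG M))
      (CfsgLib.CFun.sigmaCore_le_derived hG hM) (commutator_mono hE.1 hE.1)
      (Compl.derived_le_sup hG hM hE)) ?_
    rw [h0, sup_bot_eq, ← hF]
    exact fittingHallOf_le_fittingOf M
  obtain ⟨Q, D, h⟩ := FifteenTwo.exists_split hG hM d hF
  obtain ⟨hU, hK1⟩ := FifteenTwo.Split.bot hG hM d h
  haveI : Fact (Nat.card ↥(Cfsg.sigmaCore M ⊓ centralizer (K : Set G))).Prime := ⟨h.prime⟩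
  have hMd : ⁅M, M⁆ = Cfsg.sigmaCore M := by
    rw [KappaDerived.derived_eq hG hM d hK1, hU, bot_sup_eq]
  rw [hMd]
  have hnorm : M ≤ normalizer ((⁅Cfsg.sigmaCore M, Cfsg.sigmaCore M⁆ : Subgroup G) : Set G) := by
    rw [TauTwo.map_commutator_self]
    exact (TauTwo.sigmaCore_normal hG M).trans
      (CfsgLib.PGroup.normalizer_le_normalizer_map_char _ (commutator ↥(Cfsg.sigmaCore M)))
  refine le_fittingOf ((commutator_le_self _).trans hσM) hnorm ?_
  refine CfsgLib.Coprime.isNilpotent_of_le (derived_le_of_factor (H := Cfsg.sigmaCore M) (K := Q)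
    (N := D) (hσM.trans h.normal) h.compl.1 h.compl.2.1 fun z hz => ?_) ?_
  · obtain ⟨a, ha, b, hb, rfl⟩ := h.compl.2.2.2 z hz
    exact mul_mem (mem_sup_left ha) (mem_sup_right hb)
  refine FifteenTwo.isNilpotent_of_commute h.sylow.isPGroup.isNilpotent
    (CfsgLib.Coprime.isNilpotent_of_le (commutator_le_self D)
      (FifteenTwo.Split.nilpotent_D hG hM d h))
    (FifteenTwo.Split.frobenius hG hM d h).2.2 le_sup_left le_sup_right fun z hz => ?_
  obtain ⟨a, ha, b, hb, e⟩ := CfsgLib.Coprime.mem_sup_exists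
    ((commutator_le_self D).trans ((FifteenTwo.Split.le_M hG hM d h).2.trans h.normal)) hz
  exact ⟨a, ha, b, hb, e.symm⟩

end CfsgLib.CFun.Chain
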