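import Cfsg.Agent.Lib.CFun.OddDerivedFitting
import Cfsg.Agent.Lib.CFun.OddRankTwoTower
import Cfsg.Agent.Lib.CFun.OddNarrowAut

/-!
# Odd solvable groups with an elementary subgroup of small centralizer rank in the Fitting subgroup
-/

set_option autoImplicit false
set_option linter.style.haveILetI false
set_option linter.unusedSectionVars false

open Subgroup
open scoped commutatorElement

namespace CfsgLib.CFun.FittingRankTwo

universe u

variable {G : Type u} [Group G] [Finite G] {p : ℕ} [hp : Fact p.Prime]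

/-- An elementary subgroup with centralizer of rank two makes a `p`-group of rank three narrow. -/
theorem isNarrow_of_centralizer_rank {R : Type u} [Group R] [Finite R] (hp2 : p ≠ 2)
    (hR : IsPGroup p R) (hr : ¬ Cfsg.PRankLE p 2 R) {E : Subgroup R}
    (hE : Cfsg.IsElementaryAbelian p E) (hEr : Cfsg.PRankLE p 2 ↥(centralizer (E : Set R))) :
    Cfsg.IsNarrow p R := by
  classical
  obtain ⟨B, ⟨hB, hEB⟩, hBmax⟩ := Set.Finite.exists_maximalFor (fun B : Subgroup R => Nat.card B)
    {B : Subgroup R | Cfsg.IsElementaryAbelian p B ∧ E ≤ B} (Set.toFinite _) ⟨E, hE, le_rfl⟩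
  have hmax : ∀ B' : Subgroup R, Cfsg.IsElementaryAbelian p B' → B ≤ B' → B' = B := fun B' h hle =>
    (eq_of_le_of_card_ge hle (hBmax ⟨h, hEB.trans hle⟩ (card_le_of_le hle))).symm
  have hBC : B ≤ centralizer (E : Set R) := fun b hb => mem_centralizer_iff.2 fun e he =>
    congrArg Subtype.val (hB.1.is_comm.comm ⟨e, hEB he⟩ ⟨b, hb⟩)
  haveI : IsMulCommutative (B.subgroupOf (centralizer (E : Set R))) :=
    ⟨⟨fun a b => Subtype.ext (Subtype.ext (congrArg Subtype.val
      (hB.1.is_comm.comm (⟨_, a.2⟩ : B) ⟨_, b.2⟩) :))⟩⟩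
  have hcard := hEr (B.subgroupOf (centralizer (E : Set R))) inferInstance
    (fun a ha => Subtype.ext (hB.2 _ ha))
  rw [Nat.card_congr (subgroupOfEquivOfLe hBC).toEquiv] at hcard
  have hpB : IsPGroup p B := hR.to_subgroup B
  obtain ⟨k, hk⟩ := IsPGroup.iff_card.1 hpB
  rw [hk] at hcard
  have hk2 : k ≤ 2 := (Nat.pow_le_pow_iff_right hp.out.one_lt).1 hcard
  rcases Nat.lt_or_ge k 2 with hk' | hk'
  swap
  · exact Narrow.isNarrow hp2 hR hr hB (by rw [hk, le_antisymm hk2 hk']) hmax
  exfalso
  refine hr fun A hAc hAp => ?_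
  -- everything of order `p` lies in the central subgroup `B`
  have hin : ∀ {u : R}, u ^ p = 1 → u ∈ centralizer (B : Set R) → u ∈ B := by
    intro u hu huC
    by_contra hn
    obtain ⟨h1, h2⟩ := elementary_sup_zpowers hB hu huC hn
    rw [hmax _ h1 le_sup_left] at h2
    exact lt_irrefl _ h2
  haveI : Nontrivial R := by
    by_contra hnt
    rw [not_nontrivial_iff_subsingleton] at hnt
    exact hr fun A' _ _ => by
      rw [Nat.card_unique]; exact Nat.one_le_pow _ _ hp.out.pos
  haveI := hR.center_nontrivial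
  obtain ⟨k', hk''⟩ := IsPGroup.iff_card.1 (hR.to_subgroup (center R))
  obtain ⟨z, hz⟩ := exists_prime_orderOf_dvd_card' p (show p ∣ Nat.card (center R) by
    rcases k' with _ | k'
    · rw [pow_zero] at hk''
      exact absurd hk'' (Finite.one_lt_card (α := center R)).ne'
    · exact hk'' ▸ dvd_pow_self p k'.succ_ne_zero)
  have hzp : (z : R) ^ p = 1 := by
    rw [← hz, ← Subgroup.orderOf_coe z, pow_orderOf_eq_one]
  have hzB : (z : R) ∈ B := hin hzp (mem_centralizer_iff.2 fun b _ => mem_center_iff.1 z.2 b)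
  have hBz : B = zpowers (z : R) := by
    refine (eq_of_le_of_card_ge (zpowers_le.2 hzB) ?_).symm
    rw [Nat.card_zpowers, Subgroup.orderOf_coe, hz, hk]
    exact (Nat.pow_le_pow_right hp.out.pos (Nat.le_of_lt_succ hk')).trans (by rw [pow_one])
  have hAB : A ≤ B := fun a ha => hin (hAp a ha) (by
    rw [hBz, mem_centralizer_iff]
    rintro _ ⟨i, rfl⟩
    exact (mem_center_iff.1 (zpow_mem z.2 i) a).symm)
  refine (card_le_of_le hAB).trans ?_
  rw [hk]
  exact Nat.pow_le_pow_right hp.out.pos hk2

/-- The derived group lies in the Fitting subgroup. -/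
theorem commutator_le_fitting [Group.IsSolvable G] (hodd : Odd (Nat.card G)) {E : Subgroup G}
    (hE : E ≤ Cfsg.fittingSubgroup G) (hEe : Cfsg.IsElementaryAbelian p E)
    (hr : Cfsg.RankLE 2 ↥(Cfsg.fittingSubgroup G ⊓ centralizer (E : Set G))) :
    commutator G ≤ Cfsg.fittingSubgroup G := by
  haveI hFn := CfsgLib.Coprime.fitting_normal (G := G)
  set F := Cfsg.fittingSubgroup G with hF
  haveI : Group.IsNilpotent F := CfsgLib.Coprime.fitting_isNilpotent
  -- `E` lies in the `p`-core
  have hEp : E ≤ Cfsg.pCore p G := by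
    intro e he
    obtain ⟨Q⟩ := (inferInstance : Nonempty (Sylow p F))
    haveI hQn : (Q : Subgroup F).Normal :=
      Sylow.normal_of_normalizerCondition Group.normalizerCondition_of_isNilpotent Q
    haveI := Q.characteristic_of_normal hQn
    haveI := CfsgLib.Coprime.map_subtype_normal_of_characteristic F (Q : Subgroup F)
    refine CfsgLib.Coprime.le_pCore (Q.2.map F.subtype) ⟨⟨e, hE he⟩, ?_, rfl⟩
    exact RankTwoTower.mem_sylow_of_normal Q ⟨1, Subtype.ext (by
      rw [pow_one]; exact hEe.2 e he)⟩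
  have hcore : ∀ s : ℕ, s.Prime → s ≠ p → Cfsg.PRankLE s 2 ↥(Cfsg.pCore s G) := by
    intro s hs hne
    haveI : Fact s.Prime := ⟨hs⟩
    refine RankTwoTower.pRankLE_of_injective (inclusion_injective (le_inf
      (CfsgLib.Coprime.pCore_le_fitting s) ?_)) (hr s hs)
    haveI := CfsgLib.Coprime.pCore_normal' (G := G) s
    haveI := CfsgLib.Coprime.pCore_normal' (G := G) p
    intro x hx
    refine mem_centralizer_iff.2 fun e he => ?_
    exact (commute_of_normal_of_disjoint _ _ inferInstance inferInstance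
      (IsPGroup.disjoint_of_ne s p hne _ _ (CfsgLib.Coprime.pCore_isPGroup s)
        (CfsgLib.Coprime.pCore_isPGroup p)) x e hx (hEp he)).symm.eq
  haveI : Group.IsSolvable ↥(⊤ : Subgroup G) :=
    Group.isSolvable_of_surjective (f := (topEquiv (G := G)).symm.toMonoidHom)
      (topEquiv (G := G)).symm.surjective
  have htop : ∀ t : ℕ, (⊤ : Subgroup G) ≤ normalizer ((Cfsg.pCore t G : Subgroup G) : Set G) := fun t => by
    haveI := CfsgLib.Coprime.pCore_normal' (G := G) t
    rw [normalizer_eq_top (H := Cfsg.pCore t G)]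
  haveI hd : Group.IsNilpotent ↥(commutator G) := by
    refine commutator_isNilpotent_of_centralizes fun {t} ht {x} hx hxt => ?_
    haveI : Fact t.Prime := ⟨ht⟩
    have hC := CfsgLib.Coprime.pCore_isPGroup (G := G) t
    have hx' : x ∈ (⁅(⊤ : Subgroup G), (⊤ : Subgroup G)⁆ : Subgroup G) := by rwa [← _root_.commutator_def]
    by_cases ht2 : t = 2
    · subst ht2
      obtain ⟨k, hk⟩ := IsPGroup.iff_card.1 hC
      rcases k with _ | k
      · rw [card_eq_one.1 (hk.trans (pow_zero 2))]
        exact mem_centralizer_iff.2 fun y hy => by rw [mem_bot.1 hy, one_mul, mul_one]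
      · exact absurd (even_iff_two_dvd.2 ((hk ▸ dvd_pow_self 2 k.succ_ne_zero :
          2 ∣ Nat.card (Cfsg.pCore 2 G)).trans (card_subgroup_dvd_card _)))
          (Nat.not_even_iff_odd.2 hodd)
    by_cases hrk : Cfsg.PRankLE t 2 ↥(Cfsg.pCore t G)
    · exact centralizes_rank_two ht2 hC hrk (htop t) inferInstance
        (by rw [card_top]; exact hodd) hx' hxt
    · obtain rfl : t = p := by
        by_contra hne
        exact hrk (hcore t ht hne)
      refine Narrow.scalarless_centralizes ht2 hC hrk ?_ (htop t) (Or.inl hx') hxt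
      refine isNarrow_of_centralizer_rank ht2 hC hrk (E := E.subgroupOf (Cfsg.pCore t G))
        ⟨?_, fun a ha => Subtype.ext (hEe.2 _ ha)⟩ ?_
      · exact ⟨⟨fun a b => Subtype.ext (Subtype.ext (congrArg Subtype.val
          (hEe.1.is_comm.comm (⟨_, a.2⟩ : E) ⟨_, b.2⟩) :))⟩⟩
      · let f : centralizer (E.subgroupOf (Cfsg.pCore t G) : Set ↥(Cfsg.pCore t G)) →*
            ↥(F ⊓ centralizer (E : Set G)) :=
          ((Cfsg.pCore t G).subtype.comp (Subgroup.subtype _)).codRestrict _ fun y =>
            ⟨CfsgLib.Coprime.pCore_le_fitting t y.1.2, mem_centralizer_iff.2 fun e he =>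
              (congrArg Subtype.val (mem_centralizer_iff.1 y.2 ⟨e, hEp he⟩ (mem_subgroupOf.2 he)) :)⟩
        refine RankTwoTower.pRankLE_of_injective (f := f) ?_ (hr t ht)
        intro a b hab
        exact Subtype.ext (Subtype.ext (congrArg Subtype.val hab :))
  exact CfsgLib.Coprime.le_fitting (N := _root_.commutator G) hd

end CfsgLib.CFun.FittingRankTwo
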