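import Cfsg.Agent.Lib.CFun.OddFittingChain

/-!
# The `σ(M)'`-part of `F(M)`
-/

set_option autoImplicit false
set_option linter.style.haveILetI false
set_option linter.unusedSectionVars false

open Subgroup
open CfsgLib.Coprime (IsPiNum)

namespace CfsgLib.CFun.FitSigma

open CfsgLib.CFun.TauTwo CfsgLib.CFun.Kappa CfsgLib.CFun.Chain

universe u

variable {G : Type u} [Group G] [Finite G]

/-- `O_{σ'}(F(M))`. -/
def part (M : Subgroup G) : Subgroup G :=
  Cfsg.piCoreOf {q | q.Prime ∧ q ∉ Cfsg.sigma M} (Cfsg.fittingOf M)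

theorem part_le (M : Subgroup G) : part M ≤ Cfsg.fittingOf M := map_subtype_le _

theorem part_primes {M : Subgroup G} {p : ℕ} (hp : p.Prime) (hd : p ∣ Nat.card (part M)) :
    p ∉ Cfsg.sigma M := by
  rw [part, Cfsg.piCoreOf, card_map_of_injective (Cfsg.fittingOf M).subtype_injective] at hd
  exact (CfsgLib.Coprime.piCore_isPiNum _ p hp hd).2

theorem part_normal (M : Subgroup G) : M ≤ normalizer (part M : Set G) := by
  haveI := CfsgLib.Coprime.piCore_characteristic (G := ↥(Cfsg.fittingOf M))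
    {q | q.Prime ∧ q ∉ Cfsg.sigma M}
  exact (fittingOf_normal M).trans (CfsgLib.PGroup.normalizer_le_normalizer_map_char _ _)

variable (hG : Cfsg.IsMinSimpleOddOrder G) {M : Subgroup G} (hM : IsCoatom M)
include hG hM

theorem part_coprime : (Nat.card (part M)).Coprime (Nat.card (Cfsg.sigmaCore M)) :=
  Nat.coprime_of_dvd fun p hp h1 h2 => part_primes hp h1 ((sigmaCore_hall hG hM).1.2.1 p hp h2)

theorem part_le_centralizer : part M ≤ M ⊓ centralizer (Cfsg.sigmaCore M : Set G) := by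
  have hPM : part M ≤ M := (part_le M).trans (map_subtype_le _)
  exact le_inf hPM (TauThree.le_centralizer_of_normalize (hPM.trans (sigmaCore_normal hG M))
    ((map_subtype_le _).trans (part_normal M))
    (CfsgLib.Coprime.disjoint_of_coprime_card (part_coprime hG hM)))

variable {K U : Subgroup G} (d : Cfsg.IsSigmaDecomposition M K U)
include d

theorem part_le_U : part M ≤ U ⊓ centralizer (Cfsg.sigmaCore M : Set G) := by
  intro x hx
  have hxC := part_le_centralizer hG hM hx
  have hxUσ : x ∈ U ⊔ Cfsg.sigmaCore M := centralizer_le_sup hG hM d (mem_inf.2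
    ⟨(mem_inf.1 hxC).1, centralizer_le (Cosets.fittingHallOf_le hG hM) (mem_inf.1 hxC).2⟩)
  obtain ⟨s, hs, u, hu, e⟩ := CfsgLib.Coprime.mem_sup_exists
    (d.compl.1.trans (sigmaCore_normal hG M)) (sup_comm U _ ▸ hxUσ)
  have hcop : ((Nat.card (part M)) * Nat.card U).Coprime (Nat.card (Cfsg.sigmaCore M)) :=
    Nat.Coprime.mul_left (part_coprime hG hM)
      ((compl_coprime hG hM (Decomp.compl hG hM d)).coprime_dvd_left (card_dvd_of_le le_sup_right))
  set n := Nat.card (part M) * Nat.card U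
  have hu' : u = s⁻¹ * x := by rw [← e, inv_mul_cancel_left]
  have hxs : Commute s⁻¹ x := Commute.inv_left (mem_centralizer_iff.1 (mem_inf.1 hxC).2 s hs)
  have hun : u ^ n = 1 := orderOf_dvd_iff_pow_eq_one.1
    ((Subgroup.orderOf_dvd_natCard _ hu).trans (dvd_mul_left _ _))
  have hxn : x ^ n = 1 := orderOf_dvd_iff_pow_eq_one.1
    ((Subgroup.orderOf_dvd_natCard _ hx).trans (dvd_mul_right _ _))
  rw [hu', hxs.mul_pow, hxn, mul_one, inv_pow, inv_eq_one] at hun
  have hs1 : s = 1 := orderOf_eq_one_iff.1 (Nat.eq_one_of_dvd_coprimes hcop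
    (orderOf_dvd_of_pow_eq_one hun) (Subgroup.orderOf_dvd_natCard _ hs))
  rw [hs1, one_mul] at e
  exact mem_inf.2 ⟨e ▸ hu, (mem_inf.1 hxC).2⟩

theorem part_cyclic : IsCyclic (part M) := by
  refine UFixed.cyclic_of_fixed hG hM d ((part_le_U hG hM d).trans inf_le_left) ?_
  rw [inf_eq_left.2 (le_centralizer_iff.1 ((part_le_U hG hM d).trans inf_le_right))]
  exact sigmaCore_ne_bot hG hM

theorem part_tau2 {p : ℕ} (hp : p.Prime) (hd : p ∣ Nat.card (part M)) : p ∈ Cfsg.tau2 M := by
  haveI : Fact p.Prime := ⟨hp⟩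
  obtain ⟨u, hu⟩ := exists_prime_orderOf_dvd_card' (G := part M) p hd
  have h := part_le_U hG hM d u.2
  obtain ⟨y, hy, hy1⟩ := (bot_or_exists_ne_one _).resolve_left (sigmaCore_ne_bot hG hM)
  exact UFixed.tau2_of_fixed hG hM d (mem_inf.1 h).1 hy hy1
    (mem_centralizer_iff.1 (mem_inf.1 h).2 y hy) p hp (by rw [Subgroup.orderOf_coe, hu])

omit d in
/-- `F(M) = F(M_σ) O_{σ'}(F(M))`. -/
theorem fittingOf_eq : Cfsg.fittingOf M = Cfsg.fittingOf (Cfsg.sigmaCore M) ⊔ part M := by
  refine le_antisymm (fun x hx => ?_) (sup_le ?_ (part_le M))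
  · have hxM : x ∈ M := map_subtype_le _ hx
    set n := Nat.card (Cfsg.sigmaCore M)
    set m := (Cfsg.sigmaCore M).relIndex M
    have hcop : n.Coprime m := Nat.coprime_of_dvd fun p hp h1 h2 =>
      (sigmaCore_hall hG hM).1.2.2 p hp ((sigmaCore_hall hG hM).1.2.1 p hp h1) h2
    have hb := Int.gcd_eq_gcd_ab (n : ℤ) m
    rw [Int.gcd_natCast_natCast, hcop, Nat.cast_one] at hb
    have hxsplit : x = (x ^ n) ^ Int.gcdA (n : ℤ) m * (x ^ m) ^ Int.gcdB (n : ℤ) m := by
      rw [← zpow_natCast x n, ← zpow_natCast x m, ← zpow_mul, ← zpow_mul, ← zpow_add, ← hb,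
        zpow_one]
    have hxm : x ^ m ∈ Cfsg.sigmaCore M := by
      haveI : ((Cfsg.sigmaCore M).subgroupOf M).Normal :=
        normal_subgroupOf_of_le_normalizer (sigmaCore_normal hG M)
      exact mem_subgroupOf.1 (pow_index_mem ((Cfsg.sigmaCore M).subgroupOf M) ⟨x, hxM⟩)
    have hord : (x ^ n) ^ m = 1 := by
      rw [← pow_mul, show n * m = Nat.card M from CfsgLib.Coprime.card_mul_relIndex
        (map_subtype_le _ : Cfsg.sigmaCore M ≤ M)]
      exact orderOf_dvd_iff_pow_eq_one.1 (Subgroup.orderOf_dvd_natCard _ hxM)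
    rw [hxsplit]
    refine mul_mem (mem_sup_right ?_) (mem_sup_left (zpow_mem ?_ _))
    · refine zpow_mem (?_ : x ^ n ∈ part M) _
      haveI := fittingOf_nilpotent M
      refine ⟨⟨x ^ n, pow_mem hx n⟩, ?_, rfl⟩
      refine CfsgLib.Coprime.isPiNum_le_piCore_of_isSubnormal (π := {q | q.Prime ∧ q ∉ Cfsg.sigma M})
        (CfsgLib.PGroup.isSubnormal_of_isNilpotent _) (fun p hp hd => ⟨hp, fun hσ => ?_⟩)
        (mem_zpowers _)
      rw [Nat.card_zpowers, Subgroup.orderOf_mk] at hd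
      exact (sigmaCore_hall hG hM).1.2.2 p hp hσ (hd.trans (orderOf_dvd_of_pow_eq_one hord))
    · exact le_fittingOf (inf_le_left : Cfsg.sigmaCore M ⊓ Cfsg.fittingOf M ≤ _)
        (CfsgLib.Coprime.inf_le_normalizer le_normalizer
          ((map_subtype_le _).trans (fittingOf_normal M)))
        (CfsgLib.Coprime.isNilpotent_of_le inf_le_right (fittingOf_nilpotent M))
        (mem_inf.2 ⟨hxm, pow_mem hx m⟩)
  · refine le_fittingOf ((map_subtype_le _).trans (map_subtype_le _)) ?_ (fittingOf_nilpotent _)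
    haveI := CfsgLib.Coprime.fitting_characteristic (G := ↥(Cfsg.sigmaCore M))
    exact (sigmaCore_normal hG M).trans (CfsgLib.PGroup.normalizer_le_normalizer_map_char _ _)

end CfsgLib.CFun.FitSigma
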