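import Cfsg.Agent.Lib.CFun.OddTauTwoElement
import Cfsg.Agent.Lib.PGroup.MetacyclicOmega

/-!
# Nonabelian `p`-subgroups lie in a single maximal subgroup
-/

set_option autoImplicit false
set_option linter.style.haveILetI false
set_option linter.unusedSectionVars false

open Subgroup
open scoped commutatorElement
open CfsgLib.Coprime (conjBy conjBy_conjBy conjBy_one mem_conjBy conj_mem_conjBy)

namespace CfsgLib.CFun.TauTwo

universe u

variable {G : Type u} [Group G] [Finite G] {p : ℕ} [hp : Fact p.Prime]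

/-- Generation by fixed points of a group that is elementary modulo a central element. -/
theorem le_of_fixed_mod {P₁ D W : Subgroup G} {z : G} (hzP : z ∈ P₁) (hzp : z ^ p = 1)
    (hP : IsPGroup p P₁) (hcard : p ^ 2 * Nat.card (zpowers z) ≤ Nat.card P₁)
    (hexp : ∀ a ∈ P₁, a ^ p = 1) (hcomm : ∀ a ∈ P₁, ∀ b ∈ P₁, ⁅a, b⁆ ∈ zpowers z)
    (hP₁z : P₁ ≤ centralizer ({z} : Set G)) (hDz : D ≤ centralizer ({z} : Set G))
    (hPD : P₁ ≤ normalizer (D : Set G)) (hD : ¬ p ∣ Nat.card D)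
    (h : ∀ a ∈ P₁, a ∉ zpowers z → D ⊓ centralizer ({a} : Set G) ≤ W) : D ≤ W := by
  set C := centralizer ({z} : Set G) with hC
  have hzC : z ∈ C := hP₁z hzP
  set N := (zpowers z).subgroupOf C with hN
  haveI : N.Normal := ⟨fun n hn g => by
    have h1 : Commute (g : G) n := by
      obtain ⟨i, hi⟩ := mem_subgroupOf.1 hn
      rw [← hi]
      exact (show Commute (g : G) z from mem_centralizer_singleton_iff.1 g.2).zpow_right i
    have h2 : g * n * g⁻¹ = n := Subtype.ext (by
      show (g : G) * n * (g : G)⁻¹ = n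
      rw [h1.eq, mul_inv_cancel_right])
    rw [h2]; exact hn⟩
  set π := QuotientGroup.mk' N with hπ
  set A' := (P₁.subgroupOf C).map π with hA'
  set K' := (D.subgroupOf C).map π with hK'
  have hmk : ∀ {a b : C}, π a = π b → (a : G)⁻¹ * b ∈ zpowers z := fun {a b} hab => by
    have h1 : a⁻¹ * b ∈ N := QuotientGroup.eq.1 hab
    exact (mem_subgroupOf.1 h1 :)
  haveI : IsMulCommutative A' := ⟨⟨fun x y => Subtype.ext (by
    obtain ⟨a, ha, hxa⟩ := x.2
    obtain ⟨b, hb, hyb⟩ := y.2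
    show (x : C ⧸ N) * y = y * x
    rw [← hxa, ← hyb, ← commutatorElement_eq_one_iff_mul_comm, ← map_commutatorElement]
    exact (QuotientGroup.eq_one_iff _).2 (mem_subgroupOf.2 (hcomm a ha b hb)))⟩⟩
  have hkerN : ∀ {X : Subgroup G}, X ≤ C → Nat.card X ≤ Nat.card ↥((X.subgroupOf C).map π) *
      Nat.card (zpowers z) := by
    intro X hX
    have h1 := card_mul_index (π.ker.subgroupOf (X.subgroupOf C))
    rw [← Nat.card_congr (subgroupOfEquivOfLe hX).toEquiv, ← h1, mul_comm]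
    refine Nat.mul_le_mul (le_of_eq ?_) ?_
    · rw [← Subgroup.relIndex, relIndex_ker]
    · refine le_trans ?_ (Nat.card_congr (subgroupOfEquivOfLe (zpowers_le.2 hzC)).toEquiv).le
      refine Nat.card_le_card_of_injective
        (fun x => (⟨x.1.1, by
          have := x.2
          rw [mem_subgroupOf] at this
          exact (QuotientGroup.ker_mk' N).le this⟩ : N)) fun a b e => ?_
      exact Subtype.ext (Subtype.ext (congrArg (fun w : N => (w : C)) e))
  have hA2 : p ^ 2 ≤ Nat.card A' := by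
    have h1 := hcard.trans (hkerN hP₁z)
    exact Nat.le_of_mul_le_mul_right h1 Nat.card_pos
  have hA'e : Cfsg.IsElementaryAbelian p A' := ⟨inferInstance, by
    rintro _ ⟨a, ha, rfl⟩
    rw [← map_pow, show a ^ p = 1 from Subtype.ext (hexp a ha), map_one]⟩
  have hnc : ¬ IsCyclic A' := not_isCyclic_of_elementary hA'e hA2
  have hAK : A' ≤ normalizer (K' : Set (C ⧸ N)) :=
    (map_mono (fun a ha => mem_normalizer_iff.2 fun d => by
      simp only [mem_subgroupOf]
      exact mem_normalizer_iff.1 (hPD ha) d)).trans (le_normalizer_map π)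
  have hcop : (Nat.card A').Coprime (Nat.card K') := by
    obtain ⟨k, hk⟩ := IsPGroup.iff_card.1
      (show IsPGroup p A' from (hP.of_equiv (subgroupOfEquivOfLe hP₁z).symm).map π)
    rw [hk]
    refine (hp.out.coprime_iff_not_dvd.2 fun hd => hD ?_).pow_left k
    exact (hd.trans (card_map_dvd _ π)).trans (Nat.card_congr (subgroupOfEquivOfLe hDz).toEquiv).dvd
  have hDN : ∀ d ∈ D, d ∈ zpowers z → d = 1 := fun d hd hdz => by
    refine orderOf_eq_one_iff.1 (Nat.eq_one_of_dvd_coprimes (hp.out.coprime_iff_not_dvd.2 hD) ?_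
      (Subgroup.orderOf_dvd_natCard D hd))
    obtain ⟨i, rfl⟩ := hdz
    refine orderOf_dvd_of_pow_eq_one ?_
    show (z ^ i) ^ p = 1
    rw [← zpow_natCast, ← zpow_mul, mul_comm, zpow_mul, zpow_natCast, hzp, one_zpow]
  have hle : K' ≤ ((W ⊓ D).subgroupOf C).map π := by
    refine CfsgLib.Coprime.le_of_centralizers_le hnc hAK hcop fun a' ha' ha1 => ?_
    obtain ⟨a, ha, rfl⟩ := ha'
    rintro _ ⟨⟨k, hk, rfl⟩, hka⟩
    refine ⟨k, mem_subgroupOf.2 ⟨?_, hk⟩, rfl⟩
    have hanz : (a : G) ∉ zpowers z := fun hz => ha1 ((QuotientGroup.eq_one_iff _).2 (mem_subgroupOf.2 hz))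
    refine h a ha hanz ⟨hk, mem_centralizer_singleton_iff.2 ?_⟩
    have h1 : π (k * a) = π (a * k) := by
      rw [map_mul, map_mul]; exact mem_centralizer_singleton_iff.1 hka
    have h2 := hmk h1
    simp only [Subgroup.coe_mul, mul_inv_rev] at h2
    have h3 : (a : G)⁻¹ * (k : G)⁻¹ * (a : G) * k ∈ D := by
      have h4 := (mem_normalizer_iff''.1 (hPD ha) (k : G)⁻¹).1 (inv_mem hk)
      exact mul_mem h4 hk
    have h5 := hDN _ h3 (by rwa [mul_assoc _ (a : G) (k : G)])
    calc (k : G) * a = k * a * ((a : G)⁻¹ * (k : G)⁻¹ * (a : G) * k) := by rw [h5, mul_one]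
      _ = a * k := by group
  intro d hd
  obtain ⟨w, hw, hwd⟩ := hle (mem_map_of_mem π (show (⟨d, hDz hd⟩ : C) ∈ D.subgroupOf C from hd))
  have h1 : (w : G)⁻¹ * d ∈ zpowers z := hmk hwd
  have h2 := hDN _ (mul_mem (inv_mem (mem_subgroupOf.1 hw).2) hd) h1
  have h3 := (mem_subgroupOf.1 hw).1
  rwa [inv_mul_eq_one.1 h2] at h3

variable (hG : Cfsg.IsMinSimpleOddOrder G)
include hG

/-- Normalizers of noncyclic `p`-subgroups at `p ∈ σ(M)` lie in `M`. -/
theorem normalizer_noncyclic_le {M P : Subgroup G} (hM : IsCoatom M) (hpσ : p ∈ Cfsg.sigma M)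
    (hP : IsPGroup p P) (hPM : P ≤ M) (hnc : ¬ IsCyclic P) : normalizer (P : Set G) ≤ M := by
  have hP1 : P ≠ ⊥ := fun e => hnc (isCyclic_of_ambient e)
  have hp2 : p ≠ 2 := ms_ne_two hG ((mem_of_isPGroup hP hP1 hPM).trans (card_subgroup_dvd_card M))
  obtain ⟨A, hAP, -, hAe, hA2⟩ := exists_normal_elementary_two hp2 hP hnc
  rw [sigma_normalizer hG hM hpσ hP hP1 hPM]
  exact sup_le inf_le_left ((centralizer_le hAP).trans
    (Cfsg.Agent.S1416.result hG M hM p A ⟨hAP.trans hPM, hAe, hA2⟩).1)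

/-- Two maximal subgroups over a nonabelian Sylow subgroup of rank two agree. -/
theorem eq_of_sylow_le {M L : Subgroup G} (hM : IsCoatom M) (hL : IsCoatom L) (S : Sylow p G)
    (hna : ¬ IsMulCommutative (S : Subgroup G)) (hSM : (S : Subgroup G) ≤ M)
    (hSL : (S : Subgroup G) ≤ L) : M = L := by
  by_contra hne
  have hnc : ¬ IsCyclic ↥(S : Subgroup G) := fun hc => hna (by haveI := hc; infer_instance)
  have hσ : ∀ N : Subgroup G, IsCoatom N → (S : Subgroup G) ≤ N → p ∈ Cfsg.sigma N := fun N hN hSN =>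
    by_contra fun h => hna (isMulCommutative_of_not_sigma hG hN h S.2 hSN)
  have hNM := normalizer_noncyclic_le hG hM (hσ M hM hSM) S.2 hSM hnc
  have hNL := normalizer_noncyclic_le hG hL (hσ L hL hSL) S.2 hSL hnc
  have hS1 : (S : Subgroup G) ≠ ⊥ := fun e => hnc (isCyclic_of_ambient e)
  have hp2 : p ≠ 2 := ms_ne_two hG ((mem_of_isPGroup S.2 hS1 le_rfl).trans (card_subgroup_dvd_card _))
  by_cases hr : Cfsg.PRankLE p 2 ↥(S : Subgroup G)
  swap
  · obtain ⟨V, hV, hVe, hV3⟩ := exists_elementary_of_not_pRankLE hr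
    exact hne ((unique_elementary_three hG hVe hV3.ge).unique ⟨hM, hV.trans hSM⟩ ⟨hL, hV.trans hSL⟩)
  obtain ⟨P₁, P₂, hsup, hcomm, hna₁, hcard, hexp, hP₂, hΩ⟩ :=
    (Cfsg.Agent.S1412.result hG p S hr).resolve_left hna
  haveI := hP₂
  have hP₁S : P₁ ≤ (S : Subgroup G) := hsup ▸ le_sup_left
  have hexp' : ∀ a ∈ P₁, a ^ p = 1 := fun a ha => by
    rw [← hexp]; exact (congrArg Subtype.val (Monoid.pow_exponent_eq_one (⟨a, ha⟩ : P₁)) :)
  have hP₁p : IsPGroup p P₁ := S.2.to_le hP₁S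
  -- the centre of `P₁`
  set Z := P₁ ⊓ centralizer (P₁ : Set G) with hZ
  have hZP₂ : Z ≤ P₂ := hΩ.ge.trans ((closure_le _).2 fun x hx => hx.1)
  have hZc : Nat.card Z ≤ p := card_le_of_cyclic hP₂ hZP₂ fun x hx => hexp' x hx.1
  have hP₁ne : P₁ ≠ ⊥ := fun e => hna₁ (by subst e; infer_instance)
  obtain ⟨z, hz, hz1⟩ := centerSocle_ne_bot (q := p) hP₁p le_rfl le_normalizer hP₁ne
  have hzZ : z ∈ Z := ⟨hz.1, mem_centralizer_iff.2 fun a ha => (hz.2.2.2 a ha).symm.eq⟩
  have hzo : orderOf z = p := orderOf_eq_prime (hexp' z hz.1) hz1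
  have hZz : zpowers z = Z := eq_of_le_of_card_ge (zpowers_le.2 hzZ)
    (by rw [Nat.card_zpowers, hzo]; exact hZc)
  have hzS : ∀ s ∈ (S : Subgroup G), Commute z s := by
    intro s hs
    obtain ⟨a, ha, b, hb, rfl⟩ := CfsgLib.Coprime.mem_sup_exists
      (fun b hb => CfsgLib.Coprime.centralizer_le_normalizer_self P₁
        (mem_centralizer_iff.2 fun a ha => hcomm a ha b hb)) (hsup.ge hs)
    exact (show Commute z a from (hz.2.2.2 a ha)).mul_right (hcomm z hz.1 b hb)
  have hcz : ∀ a ∈ P₁, ∀ b ∈ P₁, ⁅a, b⁆ ∈ zpowers z := by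
    intro a ha b hb
    have h1 : ⁅(⟨a, ha⟩ : P₁), ⟨b, hb⟩⁆ ∈ center P₁ :=
      CfsgLib.MetacyclicOmega.commutator_le_center_of_card (R := P₁) (p := p) hP₁p hcard
        (commutator_mem_commutator (mem_top _) (mem_top _))
    rw [hZz]
    refine mem_inf.2 ⟨mul_mem (mul_mem (mul_mem ha hb) (inv_mem ha)) (inv_mem hb),
      mem_centralizer_iff.2 fun c hc => ?_⟩
    exact (congrArg Subtype.val (mem_center_iff.1 h1 ⟨c, hc⟩) :)
  -- elementary subgroups through noncentral elements
  have hAdata : ∀ a ∈ P₁, a ∉ zpowers z → Cfsg.IsElementaryAbelian p (zpowers z ⊔ zpowers a) ∧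
      Nat.card ↥(zpowers z ⊔ zpowers a) = p ^ 2 ∧ ∃ g ∈ P₁,
        g ∈ normalizer ((zpowers z ⊔ zpowers a : Subgroup G) : Set G) ∧
          g ∉ centralizer ((zpowers z ⊔ zpowers a : Subgroup G) : Set G) := by
    intro a ha haz
    have hzZ' : Cfsg.IsElementaryAbelian p (zpowers z) :=
      isElementaryAbelian_line (by rw [Nat.card_zpowers, hzo])
    obtain ⟨hE, hlt⟩ := elementary_sup_zpowers hzZ' (hexp' a ha)
      (mem_centralizer_iff.2 fun w hw => by
        obtain ⟨i, rfl⟩ := hw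
        exact ((show Commute z a from hz.2.2.2 a ha).zpow_left i).eq) haz
    have hle : zpowers z ⊔ zpowers a ≤ P₁ := sup_le (zpowers_le.2 hz.1) (zpowers_le.2 ha)
    refine ⟨hE, ?_, ?_⟩
    · obtain ⟨k, hk⟩ := IsPGroup.iff_card.1 (isPGroup_of_elementary hE)
      rw [hk, Nat.card_zpowers, hzo] at hlt
      have h1 : 1 < k := (Nat.pow_lt_pow_iff_right hp.out.one_lt).1 (by rwa [pow_one])
      have h2 : ¬ 2 < k := fun h3 => not_pRankLE_of_elementary (hle.trans hP₁S) hE
        (hk ▸ Nat.pow_lt_pow_right hp.out.one_lt h3) hr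
      rw [hk, show k = 2 by omega]
    · have hnle : ¬ P₁ ≤ centralizer ({a} : Set G) := fun h => haz (hZz.ge ⟨ha,
        mem_centralizer_iff.2 fun c hc => mem_centralizer_singleton_iff.1 (h hc)⟩)
      obtain ⟨g, hg, hga⟩ := SetLike.not_le_iff_exists.1 hnle
      refine ⟨g, hg, ?_, fun h => hga (mem_centralizer_singleton_iff.2
        (mem_centralizer_iff.1 h a (mem_sup_right (mem_zpowers a))).symm)⟩
      refine CfsgLib.Coprime.conjBy_eq_self_iff.1 (eq_of_le_of_card_ge ?_
        (CfsgLib.Coprime.card_conjBy g _).ge)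
      rintro _ ⟨w, hw, rfl⟩
      show g * w * g⁻¹ ∈ zpowers z ⊔ zpowers a
      rw [show g * w * g⁻¹ = ⁅g, w⁆ * w by rw [commutatorElement_def]; group]
      exact mul_mem (mem_sup_left (hcz g hg w (hle hw))) hw
  -- each maximal subgroup has a line determining it
  have hline : ∀ N : Subgroup G, IsCoatom N → (S : Subgroup G) ≤ N →
      normalizer ((S : Subgroup G) : Set G) ≠ N → ∀ a ∈ P₁, a ∉ zpowers z →
        (normalizer ((zpowers z : Subgroup G) : Set G) ≤ N ∧
          ∀ L : Subgroup G, IsCoatom L → normalizer ((zpowers z : Subgroup G) : Set G) ≤ L → L = N) ∨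
        (normalizer ((zpowers a : Subgroup G) : Set G) ≤ N ∧
          ∀ L : Subgroup G, IsCoatom L → normalizer ((zpowers a : Subgroup G) : Set G) ≤ L → L = N) := by
    intro N hN hSN hNS a ha haz
    obtain ⟨hAe, hA2, g, hg, hgA, hgC⟩ := hAdata a ha haz
    set A := zpowers z ⊔ zpowers a
    have hAP : A ≤ P₁ := sup_le (zpowers_le.2 hz.1) (zpowers_le.2 ha)
    obtain ⟨A₁, hA₁, hA₁c, hA₁N, huniq⟩ : ∃ A₁ : Subgroup G, A₁ ≤ A ∧ Nat.card A₁ = p ∧
        normalizer (A₁ : Set G) ≤ N ∧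
          ∀ L : Subgroup G, IsCoatom L → normalizer (A₁ : Set G) ≤ L → L = N := by
      by_contra hno
      obtain ⟨hpσ, hα, hnil⟩ := (Cfsg.Agent.S1416.result hG N hN p A
        ⟨hAP.trans (hP₁S.trans hSN), hAe, hA2⟩).2 fun A₀ h₁ h₂ h₃ => hno ⟨A₀, h₁, h₂, h₃⟩
      have hαe : ∀ r, r ∉ Cfsg.alpha N := by
        intro r hr
        haveI : Fact r.Prime := ⟨hr.1⟩
        obtain ⟨V, hV, -, hV3⟩ := alpha_elementary_le_alphaCore hG hN hr
        rw [le_bot_iff.1 (hV.trans hα.le), card_bot] at hV3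
        exact (Nat.one_lt_pow three_ne_zero hr.1.one_lt).ne hV3
      exact hNS (sylow_normal_of_derived hG hN hαe S
        ((isPGroup_le_sigmaCore hG hN hpσ S.2 hSN).trans (sigmaCore_le_derived hG hN)) hS1)
    by_cases hA₁z : A₁ = zpowers z
    · exact Or.inl (hA₁z ▸ ⟨hA₁N, huniq⟩)
    refine Or.inr ?_
    have hac : Nat.card (zpowers a) = p := zpowers_card hAe (mem_sup_right (mem_zpowers a))
      (fun e => haz (e ▸ one_mem _))
    obtain ⟨i, hi⟩ := conj_lines hAe hA2 hP₁p hAP hg hgA hgC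
      (mem_centralizer_iff.2 fun w hw => by
        obtain ⟨j, rfl⟩ := hw
        exact ((hzS g (hP₁S hg)).zpow_left j).eq)
      le_sup_left (by rw [Nat.card_zpowers, hzo]) hA₁ hA₁c hA₁z le_sup_right hac
      (fun e => haz (e.le (mem_zpowers a)))
    have hgi : g ^ i ∈ N := zpow_mem (hSN (hP₁S hg)) i
    rw [← hi, normalizer_conjBy]
    refine ⟨conjBy_le_of_mem hgi hA₁N, fun L' hL' h' => ?_⟩
    have h1 := huniq _ (isCoatom_conjBy (g ^ i)⁻¹ hL') (fun x hx => by
      rw [mem_conjBy, inv_inv]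
      exact h' (conj_mem_conjBy hx))
    have h2 := congrArg (conjBy (g ^ i)) h1
    rwa [conjBy_conjBy, mul_inv_cancel, conjBy_one,
      CfsgLib.Coprime.conjBy_eq_self_iff.2 (le_normalizer hgi)] at h2
  have hNSM : normalizer ((S : Subgroup G) : Set G) ≠ M := fun e =>
    hne ((hM.le_iff.1 (e ▸ hNL)).resolve_left hL.1).symm
  have hNSL : normalizer ((S : Subgroup G) : Set G) ≠ L := fun e =>
    hne ((hL.le_iff.1 (e ▸ hNM)).resolve_left hM.1)
  -- the case where the central line determines `N`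
  have hfin : ∀ N N' : Subgroup G, IsCoatom N → IsCoatom N' → (S : Subgroup G) ≤ N →
      normalizer ((S : Subgroup G) : Set G) ≤ N' →
      (∀ a ∈ P₁, a ∉ zpowers z → normalizer ((zpowers a : Subgroup G) : Set G) ≤ N') → N = N' := by
    intro N N' hN hN' hSN hSN' hall
    refine ((hN.le_iff.1 ?_).resolve_left hN'.1).symm
    have hD : coCore N p ≤ N' := by
      have hPn : P₁ ≤ normalizer (coCore N p : Set G) := (hP₁S.trans hSN).trans le_normalizer_coCore
      have hfix : coCore N p ⊓ centralizer ({z} : Set G) ≤ N' := by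
        refine le_of_fixed_mod hz.1 (hexp' z hz.1) hP₁p ?_ hexp' hcz
          (fun a ha => mem_centralizer_singleton_iff.2 (hzS a (hP₁S ha)).eq.symm) inf_le_right
          (CfsgLib.Coprime.inf_le_normalizer hPn ?_)
          (fun hd => not_dvd_coCore (hd.trans (card_dvd_of_le inf_le_left))) fun a ha haz => ?_
        · rw [Nat.card_zpowers, hzo, hcard]; exact (pow_succ p 2).ge
        · exact le_trans (fun a ha => mem_centralizer_singleton_iff.2 (hzS a (hP₁S ha)).eq.symm)
            le_normalizer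
        · refine inf_le_right.trans (le_trans ?_ (hall a ha haz))
          rw [← centralizer_zpowers]
          exact CfsgLib.Coprime.centralizer_le_normalizer_self _
      obtain ⟨a, ha, haz⟩ := SetLike.not_le_iff_exists.1 (show ¬ P₁ ≤ zpowers z from fun h => by
        have h1 := card_le_of_le h
        rw [hcard, Nat.card_zpowers, hzo] at h1
        exact absurd h1 (not_le.2 (lt_self_pow₀ hp.out.one_lt (by norm_num))))
      obtain ⟨hAe, hA2, -⟩ := hAdata a ha haz
      have hAP : zpowers z ⊔ zpowers a ≤ P₁ := sup_le (zpowers_le.2 hz.1) (zpowers_le.2 ha)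
      refine le_of_lines hAe hA2 (hAP.trans hPn)
        (by rw [hA2]; exact (hp.out.coprime_iff_not_dvd.2 not_dvd_coCore).pow_left 2) fun B hB hBc => ?_
      by_cases hBz : B = zpowers z
      · rw [hBz, centralizer_zpowers]; exact hfix
      obtain ⟨b, hb, hb1⟩ := (bot_or_exists_ne_one B).resolve_left (line_ne_bot hBc)
      have hbB : zpowers b = B := eq_of_le_of_card_ge (zpowers_le.2 hb)
        (by rw [hBc, zpowers_card hAe (hB hb) hb1])
      have hbz : b ∉ zpowers z := fun h => hBz (by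
        rw [← hbB]
        exact eq_of_le_of_card_ge (zpowers_le.2 h)
          (by rw [zpowers_card hAe (hB hb) hb1, Nat.card_zpowers, hzo]))
      rw [← hbB]
      exact inf_le_right.trans ((CfsgLib.Coprime.centralizer_le_normalizer_self _).trans
        (hall b (hAP (hB hb)) hbz))
    haveI := ms_solvable hG hN.1
    exact (factor_of_rank_two (hG.1.of_dvd_nat (card_subgroup_dvd_card N)) hp2 hSN S.2
      (fun U hU _ hle => S.3 hU hle) hr).trans (sup_le hD (inf_le_right.trans hSN'))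
  by_cases hZM : normalizer ((zpowers z : Subgroup G) : Set G) ≤ M ∧
      ∀ L' : Subgroup G, IsCoatom L' → normalizer ((zpowers z : Subgroup G) : Set G) ≤ L' → L' = M
  · by_cases hZL : normalizer ((zpowers z : Subgroup G) : Set G) ≤ L ∧
        ∀ L' : Subgroup G, IsCoatom L' → normalizer ((zpowers z : Subgroup G) : Set G) ≤ L' → L' = L
    · exact hne (hZL.2 M hM hZM.1)
    · exact hne (hfin M L hM hL hSM hNL fun a ha haz =>
        ((hline L hL hSL hNSL a ha haz).resolve_left hZL).1)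
  · exact hne (hfin L M hL hM hSL hNM fun a ha haz =>
      ((hline M hM hSM hNSM a ha haz).resolve_left hZM).1).symm

/-- Nonabelian `p`-subgroups are uniqueness subgroups. -/
theorem inUniqueMaximal_of_nonabelian {P : Subgroup G} (hP : IsPGroup p P)
    (hna : ¬ IsMulCommutative P) : Cfsg.InUniqueMaximal P := by
  obtain ⟨M, hM, hPM⟩ := (eq_top_or_exists_le_coatom P).resolve_left (ms_isPGroup_ne_top hG hP)
  refine ⟨M, ⟨hM, hPM⟩, fun L ⟨hL, hPL⟩ => ?_⟩
  by_contra hne
  obtain ⟨Q, hQ⟩ := (hP.of_equiv (subgroupOfEquivOfLe (le_inf hPM hPL)).symm).exists_le_sylow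
  set T := (Q : Subgroup ↥(M ⊓ L)).map (M ⊓ L).subtype with hT
  have hTp : IsPGroup p T := Q.2.map _
  have hTM : T ≤ M ⊓ L := map_subtype_le _
  have hPT : P ≤ T := fun x hx => ⟨⟨x, le_inf hPM hPL hx⟩, hQ hx, rfl⟩
  have hTna : ¬ IsMulCommutative T := fun h => hna ⟨⟨fun a b => Subtype.ext (congrArg Subtype.val
    (h.is_comm.comm (⟨a, hPT a.2⟩ : T) ⟨b, hPT b.2⟩) :)⟩⟩
  have hTnc : ¬ IsCyclic T := fun hc => hTna (by haveI := hc; infer_instance)
  have hσ : ∀ N : Subgroup G, IsCoatom N → T ≤ N → p ∈ Cfsg.sigma N := fun N hN hTN =>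
    by_contra fun h => hTna (isMulCommutative_of_not_sigma hG hN h hTp hTN)
  have hN : normalizer (T : Set G) ≤ M ⊓ L := le_inf
    (normalizer_noncyclic_le hG hM (hσ M hM (hTM.trans inf_le_left)) hTp (hTM.trans inf_le_left) hTnc)
    (normalizer_noncyclic_le hG hL (hσ L hL (hTM.trans inf_le_right)) hTp (hTM.trans inf_le_right) hTnc)
  let S : Sylow p G := ⟨T, hTp, fun {U} hU hle => by
    by_contra hne'
    refine CfsgLib.Invol.normalizer_grows hU hle (Ne.symm hne') ?_
    exact (sylow_map_max Q (hU.to_le inf_le_right) (inf_le_left.trans hN)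
      (le_inf le_normalizer hle)).le⟩
  exact hne (eq_of_sylow_le hG hM hL S hTna (hTM.trans inf_le_left) (hTM.trans inf_le_right)).symm

end CfsgLib.CFun.TauTwo
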