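import Cfsg.Agent.Lib.CFun.OddKappaPair
import Cfsg.Agent.Lib.CFun.OddNonabelianUnique

/-!
# Sylow subgroups of `M_σ` meeting `M_σ ∩ C(K)`
-/

set_option autoImplicit false
set_option linter.style.haveILetI false
set_option linter.unusedSectionVars false

open Subgroup
open CfsgLib.Coprime (conjBy)

namespace CfsgLib.CFun.KappaSylow

open CfsgLib.CFun.TauTwo CfsgLib.CFun.Lines CfsgLib.CFun.Kappa CfsgLib.CFun.Partner

universe u

variable {G : Type u} [Group G] [Finite G]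

variable (hG : Cfsg.IsMinSimpleOddOrder G) {M K : Subgroup G} (hM : IsCoatom M)
  (hK : Cfsg.IsPiHallOf (Cfsg.kappa M) K M) (hK1 : K ≠ ⊥)
include hG hM hK hK1

variable {p : ℕ} [hp : Fact p.Prime]
  (hpd : p ∣ Nat.card ↥(Cfsg.sigmaCore M ⊓ centralizer (K : Set G)))
include hpd

theorem inUniqueMaximal (P : Sylow p ↥(Cfsg.sigmaCore M)) :
    Cfsg.InUniqueMaximal
      ((P : Subgroup ↥(Cfsg.sigmaCore M)).map (Cfsg.sigmaCore M).subtype) := by
  obtain ⟨X, hX, hXc⟩ := exists_line_of_dvd hpd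
  have hpσ : p ∈ Cfsg.sigma M :=
    (sigmaCore_hall hG hM).1.2.1 p hp.out (hpd.trans (card_dvd_of_le inf_le_left))
  obtain ⟨U, d⟩ := Decomp.exists_decomp hG hM hK
  by_cases hU : U = ⊥
  · have hE := Decomp.compl hG hM d
    rw [hU, sup_bot_eq] at hE
    exact (sigma_centralizer_unique hG hM hpσ (hX.trans (inf_le_left.trans (map_subtype_le _)))
      hXc P (Or.inr (hX.trans (fixed_le_derived hG hM hE)))).2
  set T := (P : Subgroup ↥(Cfsg.sigmaCore M)).map (Cfsg.sigmaCore M).subtype with hTdef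
  have hTp : IsPGroup p T := P.isPGroup'.map _
  have hTσ : T ≤ Cfsg.sigmaCore M := map_subtype_le _
  by_cases hTc : IsMulCommutative T
  swap
  · exact inUniqueMaximal_of_nonabelian hG hTp hTc
  obtain ⟨hnil, hfixU⟩ := nilpotent_of_U_ne_bot hG hM d hU
  haveI := hnil
  haveI hPn : (P : Subgroup ↥(Cfsg.sigmaCore M)).Normal :=
    Sylow.normal_of_normalizerCondition Group.normalizerCondition_of_isNilpotent P
  have hmem : ∀ x ∈ Cfsg.sigmaCore M, x ^ p = 1 → x ∈ T := by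
    intro x hx hxp
    have h1 : IsPGroup p (zpowers (⟨x, hx⟩ : Cfsg.sigmaCore M)) := by
      by_cases hx1 : (⟨x, hx⟩ : Cfsg.sigmaCore M) = 1
      · exact IsPGroup.of_card (n := 0) (by rw [Nat.card_zpowers, hx1, orderOf_one, pow_zero])
      · exact IsPGroup.of_card (n := 1) (by
          rw [Nat.card_zpowers, orderOf_eq_prime (Subtype.ext hxp) hx1, pow_one])
    obtain ⟨Q, hQ⟩ := h1.exists_le_sylow
    letI := Sylow.unique_of_normal P hPn
    rw [Subsingleton.elim Q P] at hQ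
    exact mem_map_of_mem _ (hQ (mem_zpowers _))
  have hTcomm : ∀ x ∈ T, ∀ y ∈ T, x * y = y * x := fun x hx y hy =>
    (congrArg Subtype.val (hTc.is_comm.comm ⟨x, hx⟩ ⟨y, hy⟩) :)
  let A : Subgroup G :=
    { carrier := {x : G | x ∈ Cfsg.sigmaCore M ∧ x ^ p = 1}
      mul_mem' := fun {x y} hx hy => ⟨mul_mem hx.1 hy.1, by
        rw [(show Commute x y from hTcomm x (hmem x hx.1 hx.2) y (hmem y hy.1 hy.2)).mul_pow,
          hx.2, hy.2, one_mul]⟩
      one_mem' := ⟨one_mem _, one_pow _⟩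
      inv_mem' := fun {x} hx => ⟨inv_mem hx.1, by rw [inv_pow, hx.2, inv_one]⟩ }
  have hAT : A ≤ T := fun x hx => hmem x hx.1 hx.2
  have hAe : Cfsg.IsElementaryAbelian p A :=
    ⟨⟨⟨fun x y => Subtype.ext (hTcomm _ (hAT x.2) _ (hAT y.2))⟩⟩, fun x hx => hx.2⟩
  have hAn : M ≤ normalizer (A : Set G) := fun m hm => mem_normalizer_iff.2 fun x =>
    Iff.and ((mem_normalizer_iff.1 (TauTwo.sigmaCore_normal hG M hm)) x)
      (by rw [conj_pow, conj_eq_one_iff])
  have hAn1 : A ≠ ⊥ := by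
    intro e
    obtain ⟨x, hx, hx1, hxp, -⟩ := exists_gen hXc
    exact hx1 (mem_bot.1 (e.le (show x ∈ A from ⟨(mem_inf.1 (hX hx)).1, hxp⟩)))
  have hXA : X ≤ A ⊓ centralizer (K : Set G) := fun x hx =>
    mem_inf.2 ⟨⟨(mem_inf.1 (hX hx)).1,
      orderOf_dvd_iff_pow_eq_one.1 (hXc ▸ orderOf_dvd_natCard X hx)⟩, (mem_inf.1 (hX hx)).2⟩
  haveI := hAe.1
  have hAσ : A ≤ Cfsg.sigmaCore M := fun x hx => hx.1
  have hE := Decomp.compl hG hM d
  obtain ⟨hq, hcard, -⟩ := FrobFix.frobenius_prime_action (K := U) (R := K) (M := A) hU hK1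
    (le_bot_iff.1 ((inf_le_inf_left _ le_sup_left).trans d.compl.2.2.1.le)) d.normal
    (fun k hk hk1 => Decomp.fpf hG hM d hk hk1) hAn1 ((isPGroup_of_elementary hAe).isNilpotent)
    (d.compl.1.trans hAn) (d.hall.1.trans hAn)
    ((sup_comm K U ▸ compl_coprime hG hM hE).coprime_dvd_right (card_dvd_of_le hAσ))
    (le_bot_iff.1 ((inf_le_inf_right _ hAσ).trans hfixU.le))
    (fun k hk hk1 => le_antisymm
      (le_inf inf_le_left (((inf_le_inf_right _ hAσ).trans (fixed_eq hG hM hK hk hk1).le).trans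
        inf_le_right))
      (inf_le_inf_left _ (centralizer_le (Set.singleton_subset_iff.2 hk))))
  refine inUniqueMaximal_mono hG (unique_elementary_three hG hAe ?_) hAT
    (ms_isPGroup_ne_top hG hTp)
  rw [hcard]
  have h1 : p ≤ Nat.card ↥(A ⊓ centralizer (K : Set G)) := hXc ▸ Nat.le_of_dvd Nat.card_pos
    (card_dvd_of_le hXA)
  have hq3 : 3 ≤ Nat.card K := by
    have h2 := hq.two_le
    have h3 : Nat.card K ≠ 2 := @ms_ne_two G _ _ hG _ ⟨hq⟩ (card_subgroup_dvd_card K)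
    omega
  exact (Nat.pow_le_pow_left h1 3).trans
    (Nat.pow_le_pow_right (hp.out.pos.trans_le h1) hq3)

end CfsgLib.CFun.KappaSylow
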