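import Cfsg.Agent.Lib.CFun.OddKappaPartner

/-!
# The intersection `M ∩ M* = Z` and the set `Ẑ = Z - (K ∪ K*)`
-/

set_option autoImplicit false
set_option linter.style.haveILetI false
set_option linter.unusedSectionVars false

open Subgroup
open scoped commutatorElement
open CfsgLib.Coprime (conjBy conjBy_conjBy conjBy_one mem_conjBy conj_mem_conjBy IsSylowIn IsHallIn)

namespace CfsgLib.CFun.Inter

open CfsgLib.CFun.TauTwo CfsgLib.CFun.TauOne CfsgLib.CFun.Disjoint CfsgLib.CFun.ElemCent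
open CfsgLib.CFun.Lines CfsgLib.CFun.Kappa CfsgLib.CFun.Partner

universe u

variable {G : Type u} [Group G] [Finite G]

/-- The infimum of the underlying sets. -/
theorem coe_inf' (A B : Subgroup G) : ((A : Set G) ⊓ (B : Set G)) = ((A ⊓ B : Subgroup G) : Set G) := by
  rw [coe_inf]; rfl

variable (hG : Cfsg.IsMinSimpleOddOrder G)
include hG

variable {M K N : Subgroup G} (hM : IsCoatom M) (hK : Cfsg.IsPiHallOf (Cfsg.kappa M) K M)
include hM hK

/-- Parts of an element of `Ẑ`. -/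
theorem exists_parts {z : G}
    (hz : z ∈ ((↑(K ⊔ (Cfsg.sigmaCore M ⊓ centralizer (K : Set G))) : Set G) \
      ((K : Set G) ∪ ↑(Cfsg.sigmaCore M ⊓ centralizer (K : Set G))))) :
    ∃ a b : G, z = a * b ∧ a ∈ K ∧ a ≠ 1 ∧ b ∈ Cfsg.sigmaCore M ⊓ centralizer (K : Set G) ∧ b ≠ 1 ∧
      Commute a b ∧ a ∈ zpowers z ∧ b ∈ zpowers z := by
  set Ks := Cfsg.sigmaCore M ⊓ centralizer (K : Set G) with hKs
  obtain ⟨hzZ, hzU⟩ := hz
  rw [Set.mem_union, not_or] at hzU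
  obtain ⟨b, hb, a, ha, e⟩ := CfsgLib.Coprime.mem_sup_exists
    ((le_centralizer_iff.1 (inf_le_right : Ks ≤ _)).trans
      (CfsgLib.Coprime.centralizer_le_normalizer_self _)) (sup_comm K Ks ▸ hzZ)
  have hc : Commute a b := mem_centralizer_iff.1 hb.2 a ha
  have hcop : (orderOf a).Coprime (orderOf b) := Nat.coprime_of_dvd fun t ht h1 h2 =>
    (hK.2.1 t ht (h1.trans (orderOf_dvd_natCard _ ha))).2.2.1
      (Cosets.sigma_of_mem hG hM hb.1 ht h2)
  have e' : z = a * b := e.symm.trans hc.eq.symm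
  refine ⟨a, b, e', ha, fun h1 => hzU.2 ?_, hb, fun h1 => hzU.1 ?_, hc, ?_, ?_⟩
  · rw [e', h1, one_mul]; exact hb
  · rw [e', h1, mul_one]; exact ha
  · rw [e']; exact Cosets.mem_zpowers_mul hc hcop
  · rw [e', hc.eq]; exact Cosets.mem_zpowers_mul hc.symm hcop.symm

/-- A conjugate of `M` containing a nontrivial element of `K*` is `M`. -/
theorem eq_of_fixed_mem (hK1 : K ≠ ⊥) {b : G}
    (hb : b ∈ Cfsg.sigmaCore M ⊓ centralizer (K : Set G)) (hb1 : b ≠ 1) {g : G}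
    (hbg : b ∈ conjBy g M) : g ∈ M ∧ centralizer ({b} : Set G) ≤ M := by
  obtain ⟨p, P, hp, hPK, hPc⟩ := exists_prime_line hK1
  haveI : Fact p.Prime := ⟨hp⟩
  obtain ⟨q, hq, hqd⟩ := Nat.exists_prime_and_dvd fun e => hb1 (orderOf_eq_one_iff.1 e)
  haveI : Fact q.Prime := ⟨hq⟩
  obtain ⟨X, hXb, hXc⟩ := exists_line_of_dvd (H := zpowers b) (t := q) (by rwa [Nat.card_zpowers])
  have hCb : centralizer ({b} : Set G) ≤ M := by
    rw [← centralizer_zpowers]
    exact (centralizer_le hXb).trans (unique_of_fixed hG hM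
      (kappa_tau1 hG hM (hK.2.1 p hp (hPc ▸ card_dvd_of_le hPK))) (hPK.trans hK.1) hPc hXc
      ((hXb.trans (zpowers_le.2 hb)).trans (inf_le_inf_left _ (centralizer_le hPK)))).1
  obtain ⟨w, hw, e⟩ := hbg
  obtain ⟨m, hm, c, hc, e'⟩ := Cosets.fusion hG hM hb.1 hb1 (g := g⁻¹) (by
    rw [← e]
    show g⁻¹ * (g * w * g⁻¹) * g⁻¹⁻¹ ∈ M
    simpa [mul_assoc] using hw)
  exact ⟨by rw [← inv_inv g, e']; exact inv_mem (mul_mem hm (hCb hc)), hCb⟩

/-- A conjugate of `M` meeting `Ẑ` is `M`. -/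
theorem mem_of_zhat_mem (hK1 : K ≠ ⊥) {z : G}
    (hz : z ∈ ((↑(K ⊔ (Cfsg.sigmaCore M ⊓ centralizer (K : Set G))) : Set G) \
      ((K : Set G) ∪ ↑(Cfsg.sigmaCore M ⊓ centralizer (K : Set G))))) {g : G}
    (hzg : z ∈ conjBy g M) : g ∈ M := by
  obtain ⟨a, b, -, -, -, hb, hb1, -, -, hbz⟩ := exists_parts hG hM hK hz
  exact (eq_of_fixed_mem hG hM hK hK1 hb hb1 (zpowers_le.2 hzg hbz)).1

/-- Transporters of elements of `Ẑ` lie in `Z`. -/
theorem zhat_transporter (hK1 : K ≠ ⊥) {g z : G}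
    (hz : z ∈ ((↑(K ⊔ (Cfsg.sigmaCore M ⊓ centralizer (K : Set G))) : Set G) \
      ((K : Set G) ∪ ↑(Cfsg.sigmaCore M ⊓ centralizer (K : Set G)))))
    (hgz : g * z * g⁻¹ ∈ ((↑(K ⊔ (Cfsg.sigmaCore M ⊓ centralizer (K : Set G))) : Set G) \
      ((K : Set G) ∪ ↑(Cfsg.sigmaCore M ⊓ centralizer (K : Set G))))) :
    g ∈ K ⊔ (Cfsg.sigmaCore M ⊓ centralizer (K : Set G)) := by
  set Ks := Cfsg.sigmaCore M ⊓ centralizer (K : Set G) with hKs
  obtain ⟨U, d⟩ := Decomp.exists_decomp hG hM hK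
  obtain ⟨a, b, e, ha, ha1, hb, hb1, hc, -, hbz⟩ := exists_parts hG hM hK hz
  have hZM : K ⊔ Ks ≤ M := sup_le hK.1 (inf_le_left.trans (map_subtype_le _))
  have hgbM : g * b * g⁻¹ ∈ M := by
    obtain ⟨i, hi⟩ := mem_zpowers_iff.1 hbz
    rw [← hi, ← conj_zpow]
    exact zpow_mem (hZM hgz.1) i
  have hgM : g ∈ M := by
    have h := (eq_of_fixed_mem hG hM hK hK1 hb hb1 (g := g⁻¹)
      ⟨g * b * g⁻¹, hgbM, show g⁻¹ * (g * b * g⁻¹) * g⁻¹⁻¹ = b by group⟩).1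
    simpa using inv_mem h
  obtain ⟨a', b', e', ha', -, hb', -, hc', -, -⟩ := exists_parts hG hM hK hgz
  have hord : ∀ x : G, orderOf (g * x * g⁻¹) = orderOf x := fun x =>
    orderOf_injective (MulAut.conj g).toMonoidHom (MulEquiv.injective _) x
  have hgab : g * a * g⁻¹ = a' := Cosets.part_unique (π := (Cfsg.sigma M)ᶜ)
    (show Commute (g * a * g⁻¹) (g * b * g⁻¹) from (Commute.map hc (MulAut.conj g).toMonoidHom :))
    hc'
    (fun t ht h => (hK.2.1 t ht ((by rwa [hord] at h : t ∣ orderOf a).trans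
      (orderOf_dvd_natCard _ ha))).2.2.1)
    (fun t ht h h' => h' (Cosets.sigma_of_mem hG hM hb.1 ht (by rwa [hord] at h)))
    (fun t ht h => (hK.2.1 t ht (h.trans (orderOf_dvd_natCard _ ha'))).2.2.1)
    (fun t ht h h' => h' (Cosets.sigma_of_mem hG hM hb'.1 ht h))
    (by rw [← e', e]; group)
  obtain ⟨p, hp, hpd⟩ := Nat.exists_prime_and_dvd fun e2 => ha1 (orderOf_eq_one_iff.1 e2)
  haveI : Fact p.Prime := ⟨hp⟩
  obtain ⟨X, hXa, hXc⟩ := exists_line_of_dvd (H := zpowers a) (t := p) (by rwa [Nat.card_zpowers])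
  have hgX : conjBy g X ≤ K := by
    rintro _ ⟨x, hx, rfl⟩
    obtain ⟨i, rfl⟩ := mem_zpowers_iff.1 (hXa hx)
    show g * a ^ i * g⁻¹ ∈ K
    rw [← conj_zpow, hgab]
    exact zpow_mem ha' i
  have hXK : X ≤ K := hXa.trans (zpowers_le.2 ha)
  have hgc : Nat.card ↥(conjBy g X) = p := by rw [CfsgLib.Coprime.card_conjBy, hXc]
  have heq : conjBy g X = X := eq_of_le_of_card_ge (eq_of_cyclic (q := p) (hall_cyclic hG hM hK)
    hXK hgX (fun y hy => orderOf_dvd_iff_pow_eq_one.1 (hXc ▸ orderOf_dvd_natCard X hy))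
    (fun y hy => orderOf_dvd_iff_pow_eq_one.1 (hgc ▸ orderOf_dvd_natCard _ hy))
    (line_ne_bot hXc)) (by rw [hXc, hgc])
  rw [← (Decomp.normalizer_line hG hM d hXK hXc).1]
  exact mem_inf.2 ⟨hgM, CfsgLib.Coprime.conjBy_eq_self_iff.1 heq⟩

/-- `Z` is cyclic. -/
theorem isCyclic_Z (hK1 : K ≠ ⊥) :
    IsCyclic ↥(K ⊔ (Cfsg.sigmaCore M ⊓ centralizer (K : Set G))) := by
  set Ks := Cfsg.sigmaCore M ⊓ centralizer (K : Set G) with hKs
  haveI := fixed_cyclic hG hM hK hK1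
  haveI := hall_cyclic hG hM hK
  obtain ⟨a, ha⟩ := IsCyclic.exists_generator (α := K)
  obtain ⟨b, hb⟩ := IsCyclic.exists_generator (α := Ks)
  have hc : Commute (a : G) b := mem_centralizer_iff.1 b.2.2 a a.2
  have hcop : (orderOf (a : G)).Coprime (orderOf (b : G)) := Nat.coprime_of_dvd fun t ht h1 h2 =>
    (hK.2.1 t ht (h1.trans (orderOf_dvd_natCard _ a.2))).2.2.1
      (Cosets.sigma_of_mem hG hM b.2.1 ht h2)
  have h : K ⊔ Ks = zpowers ((a : G) * b) := by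
    refine le_antisymm (sup_le (fun x hx => ?_) fun x hx => ?_)
      (zpowers_le.2 (mul_mem (mem_sup_left a.2) (mem_sup_right b.2)))
    · obtain ⟨i, hi⟩ := ha ⟨x, hx⟩
      rw [show x = (a : G) ^ i from (congrArg Subtype.val hi.symm :)]
      exact zpow_mem (Cosets.mem_zpowers_mul hc hcop) i
    · obtain ⟨i, hi⟩ := hb ⟨x, hx⟩
      rw [show x = (b : G) ^ i from (congrArg Subtype.val hi.symm :), hc.eq]
      exact zpow_mem (Cosets.mem_zpowers_mul hc.symm hcop.symm) i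
  rw [h]
  infer_instance

omit hK in
/-- The data of a pair `M`, `M*`. -/
theorem of_hyp {Mstar : Subgroup G} (hK : Cfsg.IsPiHallOf (Cfsg.kappa M) K M) (hK1 : K ≠ ⊥)
    (hMs : IsCoatom Mstar)
    (hKst : K = Cfsg.sigmaCore Mstar ⊓
      centralizer ((Cfsg.sigmaCore M ⊓ centralizer (K : Set G)) : Set G))
    (hKstH : Cfsg.IsPiHallOf (Cfsg.kappa Mstar) (Cfsg.sigmaCore M ⊓ centralizer (K : Set G)) Mstar) :
    K = Cfsg.sigmaCore Mstar ⊓
        centralizer ((Cfsg.sigmaCore M ⊓ centralizer (K : Set G) : Subgroup G) : Set G) ∧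
      Member (K ⊔ (Cfsg.sigmaCore M ⊓ centralizer (K : Set G))) M ∧
      Member (K ⊔ (Cfsg.sigmaCore M ⊓ centralizer (K : Set G))) Mstar ∧ M ≠ Mstar := by
  have hKst' := hKst
  rw [coe_inf'] at hKst'
  refine ⟨hKst', ⟨hM, K, hK, hK1, rfl⟩, ⟨hMs, _, hKstH, Kappa.fixed_ne_bot hG hM hK, ?_⟩, ?_⟩
  · rw [← hKst', sup_comm]
  · intro e
    refine hK1 (le_bot_iff.1 (le_trans (le_inf le_rfl ?_) (Decomp.hall_inf hG hM hK).le))
    conv_lhs => rw [hKst']
    rw [e]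
    exact inf_le_left

section Pair

variable (hK1 : K ≠ ⊥) {Mstar : Subgroup G} (hMs : IsCoatom Mstar)
  (hKst : K = Cfsg.sigmaCore Mstar ⊓
    centralizer ((Cfsg.sigmaCore M ⊓ centralizer (K : Set G)) : Set G))
  (hKstH : Cfsg.IsPiHallOf (Cfsg.kappa Mstar) (Cfsg.sigmaCore M ⊓ centralizer (K : Set G)) Mstar)
include hK1 hMs hKst hKstH

/-- `M ∩ M* = K K*`. -/
theorem inter_eq : M ⊓ Mstar = K ⊔ (Cfsg.sigmaCore M ⊓ centralizer (K : Set G)) := by
  obtain ⟨hKs', hm, hm', hne⟩ := of_hyp hG hM hK hK1 hMs hKst hKstH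
  set Ks := Cfsg.sigmaCore M ⊓ centralizer (K : Set G) with hKs
  refine le_antisymm ?_ (le_inf (hm.le hG) (hm'.le hG))
  obtain ⟨U, d⟩ := Decomp.exists_decomp hG hM hK
  obtain ⟨U', d'⟩ := Decomp.exists_decomp hG hMs hKstH
  obtain ⟨p, P, hp, hPK, hPc⟩ := exists_prime_line hK1
  haveI : Fact p.Prime := ⟨hp⟩
  have hPσ : P ≤ Cfsg.sigmaCore Mstar := hPK.trans (hKs'.le.trans inf_le_left)
  have hnc := hm.notConj hG hm' hne
  have hpσ' : p ∈ Cfsg.sigma Mstar :=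
    (sigmaCore_hall hG hMs).1.2.1 p hp (hPc ▸ card_dvd_of_le hPσ)
  have hpM := (hK.2.1 p hp (hPc ▸ card_dvd_of_le hPK)).2.2.1
  have h1 : Cfsg.sigmaCore M ⊓ Mstar = Ks := by
    refine le_antisymm ?_ (le_inf inf_le_left (le_sup_right.trans (hm'.le hG)))
    obtain ⟨a, ha, ha1, -, haP⟩ := exists_gen hPc
    rw [hKs, ← fixed_eq hG hM hK (hPK ha) ha1]
    refine le_inf inf_le_left ?_
    rw [← centralizer_zpowers, haP]
    exact le_centralizer_iff.1 (centralizes_of_sigma hG hM hMs hnc hpM hpσ'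
      (IsPGroup.of_card (n := 1) (by rw [hPc, pow_one])) (hPK.trans hK.1)
      ((hPK.trans le_sup_left).trans (hm'.le hG)))
  obtain ⟨q, X, hq, hX, hXc⟩ := exists_prime_line (Kappa.fixed_ne_bot hG hM hK)
  haveI : Fact q.Prime := ⟨hq⟩
  have hqM : q ∈ Cfsg.sigma M :=
    (sigmaCore_hall hG hM).1.2.1 q hq (hXc ▸ card_dvd_of_le (hX.trans inf_le_left))
  have h2 : Cfsg.sigmaCore Mstar ⊓ M = K := by
    refine le_antisymm ?_ (le_inf (hKs'.le.trans inf_le_left) hK.1)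
    obtain ⟨a, ha, ha1, -, haX⟩ := exists_gen hXc
    rw [hKs', ← fixed_eq hG hMs hKstH (hX ha) ha1]
    refine le_inf inf_le_left ?_
    rw [← centralizer_zpowers, haX]
    exact le_centralizer_iff.1 (centralizes_of_sigma hG hMs hM hnc.symm
      (not_sigma hG hM hMs hnc hqM) hqM (IsPGroup.of_card (n := 1) (by rw [hXc, pow_one]))
      ((hX.trans le_sup_right).trans (hm'.le hG)) ((hX.trans inf_le_left).trans (map_subtype_le _)))
  refine le_trans (le_inf inf_le_left ?_) (Decomp.normalizer_line hG hM d hPK hPc).2.le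
  have hn : M ⊓ Mstar ≤ normalizer ((Cfsg.sigmaCore Mstar ⊓ M : Subgroup G) : Set G) :=
    CfsgLib.Coprime.inf_le_normalizer (inf_le_right.trans (sigmaCore_normal hG Mstar))
      (inf_le_left.trans le_normalizer)
  rwa [h2] at hn

/-- `C(ab) = Z` for `a ∈ K`, `b ∈ K*` nontrivial. -/
theorem centralizer_mul_eq {a b : G} (ha : a ∈ K) (ha1 : a ≠ 1)
    (hb : b ∈ Cfsg.sigmaCore M ⊓ centralizer (K : Set G)) (hb1 : b ≠ 1) :
    centralizer ({a * b} : Set G) = K ⊔ (Cfsg.sigmaCore M ⊓ centralizer (K : Set G)) := by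
  obtain ⟨hKs', hm, hm', hne⟩ := of_hyp hG hM hK hK1 hMs hKst hKstH
  have hc : Commute a b := mem_centralizer_iff.1 hb.2 a ha
  have hcop : (orderOf a).Coprime (orderOf b) := Nat.coprime_of_dvd fun t ht h1 h2 =>
    (hK.2.1 t ht (h1.trans (orderOf_dvd_natCard _ ha))).2.2.1
      (Cosets.sigma_of_mem hG hM hb.1 ht h2)
  refine le_antisymm ?_ fun z hz => mem_centralizer_singleton_iff.2
    (hm.commute hG hz (mul_mem (mem_sup_left ha) (mem_sup_right hb)))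
  rw [← inter_eq hG hM hK hK1 hMs hKst hKstH]
  have hCb : centralizer ({b} : Set G) ≤ M :=
    (eq_of_fixed_mem hG hM hK hK1 hb hb1 (g := 1)
      (by rw [conjBy_one]; exact map_subtype_le _ hb.1)).2
  have haKs : a ∈ Cfsg.sigmaCore Mstar ⊓
      centralizer ((Cfsg.sigmaCore M ⊓ centralizer (K : Set G) : Subgroup G) : Set G) := hKs'.le ha
  have hCa : centralizer ({a} : Set G) ≤ Mstar :=
    (eq_of_fixed_mem hG hMs hKstH (Kappa.fixed_ne_bot hG hM hK) haKs ha1 (g := 1)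
      (by rw [conjBy_one]; exact map_subtype_le _ haKs.1)).2
  refine le_inf (le_trans ?_ hCb) (le_trans ?_ hCa)
  · rw [← centralizer_zpowers, ← centralizer_zpowers b]
    refine centralizer_le (zpowers_le.2 ?_)
    rw [hc.eq]
    exact Cosets.mem_zpowers_mul hc.symm hcop.symm
  · rw [← centralizer_zpowers, ← centralizer_zpowers a]
    exact centralizer_le (zpowers_le.2 (Cosets.mem_zpowers_mul hc hcop))

/-- No prime of `σ(M)` divides the index of `K*` in `M*`. -/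
theorem sigma_not_dvd_relIndex {s : ℕ} (hs : s.Prime) (hsM : s ∈ Cfsg.sigma M) :
    ¬ s ∣ (Cfsg.sigmaCore M ⊓ centralizer (K : Set G)).relIndex Mstar := by
  haveI : Fact s.Prime := ⟨hs⟩
  obtain ⟨hKs', hm, hm', hne⟩ := of_hyp hG hM hK hK1 hMs hKst hKstH
  set Ks := Cfsg.sigmaCore M ⊓ centralizer (K : Set G) with hKs
  have hKs1 := Kappa.fixed_ne_bot hG hM hK
  obtain ⟨U, d⟩ := Decomp.exists_decomp hG hMs hKstH
  have hnc := hm.notConj hG hm' hne
  intro hd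
  have h1 : Ks.relIndex Mstar = Nat.card U * Nat.card (Cfsg.sigmaCore Mstar) := by
    have h2 := CfsgLib.Coprime.card_mul_relIndex hKstH.1
    rw [Decomp.card_eq hG hMs d] at h2
    exact Nat.eq_of_mul_eq_mul_left Nat.card_pos (h2.trans (show
      Nat.card U * (Nat.card Ks * Nat.card (Cfsg.sigmaCore Mstar)) =
        Nat.card Ks * (Nat.card U * Nat.card (Cfsg.sigmaCore Mstar)) by ring))
  rw [h1] at hd
  rcases hs.dvd_mul.1 hd with hdU | hdσ
  swap
  · exact not_sigma hG hM hMs hnc hsM ((sigmaCore_hall hG hMs).1.2.1 s hs hdσ)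
  obtain ⟨q, Y, hq, hYKs, hYc⟩ := exists_prime_line hKs1
  haveI : Fact q.Prime := ⟨hq⟩
  obtain ⟨y, hy, hy1, -, hyY⟩ := exists_gen hYc
  have hqM : q ∈ Cfsg.sigma M :=
    (sigmaCore_hall hG hM).1.2.1 q hq (hYc ▸ card_dvd_of_le (hYKs.trans inf_le_left))
  have hYU : Y ≤ normalizer (U : Set G) := hYKs.trans d.normal
  obtain ⟨R, hR, hYR⟩ := CfsgLib.Coprime.exists_invariant_sylow hYU (by
      rw [hYc]
      exact hq.coprime_iff_not_dvd.2 fun h => (Decomp.primes hG hMs d hq h).2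
        (hKstH.2.1 q hq (hYc ▸ card_dvd_of_le hYKs)))
    (Or.inl (CfsgLib.Coprime.isSolvable_of_isNilpotent
      (IsPGroup.of_card (p := q) (n := 1) (by rw [hYc, pow_one])).isNilpotent)) s
  have hR1 : R ≠ ⊥ := fun e => by
    have h2 := hR.toSylow.not_dvd_index
    rw [← card_mul_index (hR.toSylow : Subgroup U)] at hdU
    refine (hs.dvd_mul.1 hdU).elim (fun h3 => hs.not_dvd_one ?_) h2
    rwa [← card_map_of_injective U.subtype_injective, hR.map_toSylow, e, card_bot] at h3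
  -- it suffices that some line of `R` lies in `M`
  suffices hsuff : ∃ W : Subgroup G, W ≤ R ∧ W ≠ ⊥ ∧ W ≤ M by
    obtain ⟨W, hWR, hW1, hWM⟩ := hsuff
    obtain ⟨w, hw, hw1⟩ := (bot_or_exists_ne_one W).resolve_left hW1
    have hwU : w ∈ U := hR.1 (hWR hw)
    have hwZ : w ∈ K ⊔ Ks := by
      rw [← inter_eq hG hM hK hK1 hMs hKst hKstH]
      exact mem_inf.2 ⟨hWM hw, d.compl.1 hwU⟩
    have h3 : w ∈ U ⊓ centralizer ({y} : Set G) := mem_inf.2 ⟨hwU,
      mem_centralizer_singleton_iff.2 (hm.commute hG hwZ (mem_sup_right (hYKs hy)))⟩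
    rw [Decomp.fpf hG hMs d (hYKs hy) hy1, mem_bot] at h3
    exact hw1 h3
  -- a conjugate of `M` containing `R`
  obtain ⟨S, -, hSM⟩ := exists_sylow_of_sigma hG hM hsM (IsPGroup.of_bot (p := s)) bot_le
  obtain ⟨T, hRT⟩ := hR.isPGroup.exists_le_sylow
  obtain ⟨g, hg⟩ := exists_conjBy_sylow S T
  set M₁ := conjBy g M with hM₁
  have hM₁c : IsCoatom M₁ := isCoatom_conjBy g hM
  have hRM₁ : R ≤ M₁ := hRT.trans (hg.le.trans (map_mono hSM))
  have hσ₁ : ∀ {t : ℕ}, t ∈ Cfsg.sigma M → t ∈ Cfsg.sigma M₁ := fun {t} ht => by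
    haveI : Fact t.Prime := ⟨ht.1⟩
    refine ElemCent.mem_sigma_conjBy hG hM₁c (g := g⁻¹) ?_
    rw [hM₁, conjBy_conjBy, inv_mul_cancel, conjBy_one]; exact ht
  have hkey : ∀ h : G, Y ≤ conjBy h M → conjBy h M = M := fun h hh =>
    CfsgLib.Coprime.conjBy_eq_self_iff.2 (by
      rw [ms_normalizer_self hG hM]
      exact (eq_of_fixed_mem hG hM hK hK1 (hYKs hy) hy1 (hh hy)).1)
  by_cases hRc : IsCyclic R
  swap
  · obtain ⟨E₁, hE₁, -⟩ := exists_complement hG hM₁c (bot_le : (⊥ : Subgroup G) ≤ M₁)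
      (fun t ht htd => by rw [card_bot] at htd; exact absurd htd ht.not_dvd_one)
    have hN := (Cfsg.Agent.S1420.result hG M₁ hM₁c E₁ hE₁).2.2.1 s R (hσ₁ hsM) hR.isPGroup hRM₁ hRc
    exact ⟨R, le_rfl, hR1, hkey g (hYR.trans hN) ▸ hRM₁⟩
  obtain ⟨W, hWR, hWc⟩ := exists_line_of_dvd (H := R) (t := s) (by
    obtain ⟨k, hk⟩ := IsPGroup.iff_card.1 hR.isPGroup
    rcases k with _ | k
    · rw [pow_zero] at hk; exact absurd (card_eq_one.1 hk) hR1
    · rw [hk]; exact dvd_pow_self s k.succ_ne_zero)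
  have hYW : Y ≤ normalizer (W : Set G) := hYR.trans (normalizer_le_normalizer_of_cyclic hRc hWR)
  have hWM₁ : W ≤ M₁ := hWR.trans hRM₁
  have hWp : IsPGroup s W := IsPGroup.of_card (n := 1) (by rw [hWc, pow_one])
  obtain ⟨x, hx, hx1, -, hxW⟩ := exists_gen hWc
  refine ⟨W, hWR, line_ne_bot hWc, ?_⟩
  by_cases hxM : centralizer ({x} : Set G) ≤ M₁
  · have hN : normalizer (W : Set G) ≤ M₁ := by
      rw [sigma_normalizer hG hM₁c (hσ₁ hsM) hWp (line_ne_bot hWc) hWM₁]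
      exact sup_le inf_le_left (by rw [← hxW, centralizer_zpowers]; exact hxM)
    exact hkey g (hYW.trans hN) ▸ hWM₁
  obtain ⟨H, hH, hxH, hun, hnc₁, htau, hD, -⟩ := exists_data hG hM₁c
    (isPGroup_le_sigmaCore hG hM₁c (hσ₁ hsM) hWp hWM₁ hx) hx1 hxM
  have hCW : centralizer (W : Set G) = centralizer ({x} : Set G) := by
    rw [← hxW, centralizer_zpowers]
  have hYH : Y ≤ H := fun w hw => by
    have h3 : centralizer ({x} : Set G) ≤ conjBy w H := by
      rw [← hCW]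
      exact (CfsgLib.Coprime.conjBy_eq_self_iff.2
        (CfsgLib.Coprime.normalizer_le_normalizer_centralizer W (hYW hw))).ge.trans
          (map_mono (hCW.le.trans hxH))
    rw [← ms_normalizer_self hG hH]
    exact CfsgLib.Coprime.conjBy_eq_self_iff.1 (hun _ (isCoatom_conjBy w hH) h3)
  have hWH : W ≤ H := by
    rw [← hxW]; exact zpowers_le.2 (hxH (mem_centralizer_singleton_iff.2 rfl))
  have hqH : q ∉ Cfsg.sigma H := not_sigma hG hM₁c hH hnc₁ (hσ₁ hqM)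
  have hsH : s ∉ Cfsg.sigma H := not_sigma hG hM₁c hH hnc₁ (hσ₁ hsM)
  obtain ⟨h, hhH, hle⟩ := (compl_isHall hG hH hD).exists_conj_le (ms_solvable hG hH.1)
    (sup_le hYH hWH) fun t ht htd => by
      rcases ht.dvd_mul.1 (htd.trans (CfsgLib.Coprime.card_sup_dvd_of_le_normalizer hYW)) with h1 | h1
      · rw [hYc] at h1; rw [(Nat.prime_dvd_prime_iff_eq ht hq).1 h1]; exact hqH
      · rw [hWc] at h1; rw [(Nat.prime_dvd_prime_iff_eq ht hs).1 h1]; exact hsH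
  have hle2 : Y ⊔ W ≤ conjBy (h⁻¹ * g) M := by
    have h4 : conjBy h (Y ⊔ W) ≤ M₁ := hle.trans inf_le_left
    have h5 := map_mono (f := (MulAut.conj h⁻¹).toMonoidHom) h4
    change conjBy h⁻¹ (conjBy h (Y ⊔ W)) ≤ conjBy h⁻¹ M₁ at h5
    rwa [conjBy_conjBy, inv_mul_cancel, conjBy_one, hM₁, conjBy_conjBy] at h5
  exact hkey _ (le_sup_left.trans hle2) ▸ (le_sup_right.trans hle2)

end Pair

end CfsgLib.CFun.Inter
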