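import Cfsg.Agent.Lib.CFun.OddTildeCover
import Cfsg.Agent.Lib.CFun.OddKappaInter
import Cfsg.Agent.Lib.CFun.OddKappaNormFpf
import Cfsg.Agent.Lib.Coprime.FpfAction
import Cfsg.Agent.S1408
import Cfsg.Agent.S1418

/-!
# A maximal subgroup `N` with `σ(M) ∩ τ₂(N)` nonempty

If `q ∈ σ(M) ∩ τ₂(N)` and `r ∈ τ₂(M)` then `r < q`; hence `τ₂(M) ∩ σ(N)` is empty, and
if moreover `σ(N)` meets `π(M)` then `κ(M)` and `τ₂(M)` are empty.
-/

set_option autoImplicit false
set_option linter.style.haveILetI false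
set_option linter.unusedSectionVars false

open Subgroup
open scoped commutatorElement
open CfsgLib.Coprime (conjBy conjBy_conjBy conjBy_one mem_conjBy conj_mem_conjBy IsSylowIn IsHallIn
  card_conjBy IsPiNum)

namespace CfsgLib.CFun.Neighbour

open CfsgLib.CFun.TauTwo CfsgLib.CFun.Disjoint CfsgLib.CFun.ElemCent CfsgLib.CFun.Kappa
open CfsgLib.CFun.Lines CfsgLib.CFun.Partner

universe u

variable {G : Type u} [Group G] [Finite G]

theorem elementary_conjBy {q : ℕ} {A : Subgroup G} (h : Cfsg.IsElementaryAbelian q A) (g : G) :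
    Cfsg.IsElementaryAbelian q (conjBy g A) := by
  obtain ⟨hc, hp⟩ := h
  refine ⟨⟨⟨?_⟩⟩, ?_⟩
  · rintro ⟨_, a, ha, rfl⟩ ⟨_, b, hb, rfl⟩
    refine Subtype.ext ?_
    show (MulAut.conj g).toMonoidHom a * (MulAut.conj g).toMonoidHom b =
      (MulAut.conj g).toMonoidHom b * (MulAut.conj g).toMonoidHom a
    rw [← map_mul, ← map_mul,
      show a * b = b * a from congrArg Subtype.val (hc.is_comm.comm ⟨a, ha⟩ ⟨b, hb⟩)]
  · rintro _ ⟨a, ha, rfl⟩
    rw [← map_pow, hp a ha, map_one]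

theorem pRankLE_conjBy {p k : ℕ} {L : Subgroup G} (g : G) (h : Cfsg.PRankLE p k L) :
    Cfsg.PRankLE p k ↥(conjBy g L) :=
  RankTwoTower.pRankLE_of_injective
    (f := (L.equivMapOfInjective (MulAut.conj g).toMonoidHom (MulAut.conj g).injective).symm.toMonoidHom)
    (MulEquiv.injective _) h

variable (hG : Cfsg.IsMinSimpleOddOrder G)
include hG

theorem tau2_conjBy {q : ℕ} [hq : Fact q.Prime] {L : Subgroup G} (hL : IsCoatom L) (g : G)
    (h : q ∈ Cfsg.tau2 L) : q ∈ Cfsg.tau2 (conjBy g L) := by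
  refine ⟨hq.out, fun hσ => h.2.1 (mem_sigma_conjBy hG hL hσ), pRankLE_conjBy g h.2.2.1, fun h1 => ?_⟩
  have h2 := pRankLE_conjBy g⁻¹ h1
  rw [conjBy_conjBy, inv_mul_cancel, conjBy_one] at h2
  exact h.2.2.2 h2

theorem not_beta_of_tau2 {q : ℕ} [hq : Fact q.Prime] {M N : Subgroup G} (hN : IsCoatom N)
    (hqN : q ∈ Cfsg.tau2 N) : q ∉ Cfsg.beta M := fun h =>
  (Cfsg.Agent.S1408.result hG N hN q hqN.2.1 hqN.2.2.1 hqN.2.2.2).1 h.2

/-- A maximal elementary subgroup of order `q²` inside `M_σ`. -/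
theorem exists_torus {q : ℕ} [hq : Fact q.Prime] {M N : Subgroup G} (hM : IsCoatom M)
    (hN : IsCoatom N) (hqM : q ∈ Cfsg.sigma M) (hqN : q ∈ Cfsg.tau2 N) :
    ∃ A : Subgroup G, A ≤ Cfsg.sigmaCore M ∧ Cfsg.IsElementaryAbelian q A ∧ Nat.card A = q ^ 2 ∧
      ∀ B : Subgroup G, Cfsg.IsElementaryAbelian q B → A ≤ B → B = A := by
  obtain ⟨A, hAN, hAe, hA2⟩ := exists_elementary_of_not_pRankLE (p := q) hqN.2.2.2
  have hA1 : A ≠ ⊥ := fun e => by
    rw [e, card_bot] at hA2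
    exact (one_lt_pow₀ hq.out.one_lt two_ne_zero).ne hA2
  obtain ⟨g, hg⟩ := sigma_conj_into hG hM hA1 fun p hp hd => by
    rw [hA2] at hd
    rwa [(Nat.prime_dvd_prime_iff_eq hp hq.out).1 (hp.dvd_of_dvd_pow hd)]
  refine ⟨conjBy g A, hg, elementary_conjBy hAe g, by rw [card_conjBy, hA2], fun B hB hAB => ?_⟩
  have h1 : A ≤ conjBy g⁻¹ B := by
    have := map_mono (f := (MulAut.conj g⁻¹).toMonoidHom) hAB
    rwa [show (conjBy g A).map (MulAut.conj g⁻¹).toMonoidHom = conjBy g⁻¹ (conjBy g A) from rfl,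
      conjBy_conjBy, inv_mul_cancel, conjBy_one] at this
  have h2 := tau_max hG hN hqN hAN hAe hA2 (elementary_conjBy hB g⁻¹) h1
  rw [← h2, conjBy_conjBy, mul_inv_cancel, conjBy_one]

/-- `r < q` for `r ∈ τ₂(M)` and `q ∈ σ(M) ∩ τ₂(N)`. -/
theorem lt {q r : ℕ} [hq : Fact q.Prime] [hr : Fact r.Prime] {M N : Subgroup G} (hM : IsCoatom M)
    (hN : IsCoatom N) (hqM : q ∈ Cfsg.sigma M) (hqN : q ∈ Cfsg.tau2 N) (hrM : r ∈ Cfsg.tau2 M) :
    r < q := by
  obtain ⟨A, hAσ, hAe, hA2, hAmax⟩ := exists_torus hG hM hN hqM hqN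
  obtain ⟨B, hBM, hBe, hB2⟩ := exists_elementary_of_not_pRankLE (p := r) hrM.2.2.2
  obtain ⟨D, hDB, hDc, hfix⟩ := tau_fixed_point_free hG hM hrM hBM hBe hB2
  have hnil := tau_nilpotent hG hM hrM hBM hBe hB2
  set S := Cfsg.sigmaCore M with hS
  let Z : Subgroup G :=
    { carrier := {x | x ∈ S ⊓ centralizer (S : Set G) ∧ x ^ q = 1}
      one_mem' := ⟨one_mem _, one_pow q⟩
      mul_mem' := fun {a b} ha hb => ⟨mul_mem ha.1 hb.1, by
        have hc : Commute a b := mem_centralizer_iff.1 (mem_inf.1 hb.1).2 a (mem_inf.1 ha.1).1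
        rw [hc.mul_pow, ha.2, hb.2, mul_one]⟩
      inv_mem' := fun {a} ha => ⟨inv_mem ha.1, by rw [inv_pow, ha.2, inv_one]⟩ }
  have hZS : Z ≤ S := fun x hx => (mem_inf.1 hx.1).1
  have hZA : Z ≤ A := by
    have hc : ∀ z ∈ Z, ∀ a ∈ A, Commute a z := fun z hz a ha =>
      mem_centralizer_iff.1 (mem_inf.1 hz.1).2 a (hAσ ha)
    have hZn : Z ≤ normalizer (A : Set G) := fun z hz =>
      CfsgLib.Coprime.centralizer_le_normalizer_self A (mem_centralizer_iff.2 fun a ha => hc z hz a ha)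
    have hB' : Cfsg.IsElementaryAbelian q (A ⊔ Z) := by
      have hmem : ∀ x ∈ A ⊔ Z, ∃ a ∈ A, ∃ z ∈ Z, a * z = x := fun x hx =>
        CfsgLib.Coprime.mem_sup_exists hZn hx
      refine ⟨⟨⟨fun x y => ?_⟩⟩, fun x hx => ?_⟩
      · obtain ⟨a, ha, z, hz, e⟩ := hmem x x.2
        obtain ⟨a', ha', z', hz', e'⟩ := hmem y y.2
        refine Subtype.ext ?_
        show (x : G) * y = y * x
        rw [← e, ← e']
        have h1 : Commute a (a' * z') :=
          (TauTwo.commute_of_mem hAe ha ha').mul_right (hc z' hz' a ha)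
        have h2 : Commute z (a' * z') := (hc z hz a' ha').symm.mul_right
          (mem_centralizer_iff.1 (mem_inf.1 hz'.1).2 z (hZS hz))
        exact (h1.mul_left h2).eq
      · obtain ⟨a, ha, z, hz, e⟩ := hmem x hx
        rw [← e, (hc z hz a ha).mul_pow, hAe.2 a ha, hz.2, mul_one]
    exact le_sup_right.trans (hAmax _ hB' le_sup_left).le
  have hZ1 : Z ≠ ⊥ := by
    haveI := hnil
    obtain ⟨P⟩ := (inferInstance : Nonempty (Sylow q S))
    haveI : (P : Subgroup S).Normal :=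
      Sylow.normal_of_normalizerCondition Group.normalizerCondition_of_isNilpotent P
    have hqS : q ∣ Nat.card S :=
      ((dvd_pow_self q two_ne_zero).trans hA2.symm.dvd).trans (card_dvd_of_le hAσ)
    have hP1 : (P : Subgroup S) ≠ ⊥ := fun e => by
      have h1 : (P : Subgroup S).index = Nat.card S := by rw [e, index_bot]
      exact P.not_dvd_index (h1 ▸ hqS)
    obtain ⟨z, hz, hz1⟩ := (bot_or_exists_ne_one _).resolve_left
      (CfsgLib.Coprime.nilpotent_inf_center_ne_bot (P : Subgroup S) hP1)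
    obtain ⟨n, hn⟩ := P.2 ⟨z, (mem_inf.1 hz).1⟩
    obtain ⟨-, -, W, hW, hWc⟩ := exists_line_pow (t := q) (f := (z : G))
      ⟨n, congrArg (fun w : (P : Subgroup S) => ((w : S) : G)) hn⟩ fun e => hz1 (Subtype.ext e)
    obtain ⟨w, hw, hw1, hwq, -⟩ := exists_gen hWc
    have hzc : (z : G) ∈ S ⊓ centralizer (S : Set G) := mem_inf.2 ⟨z.2,
      mem_centralizer_iff.2 fun s hs =>
        congrArg Subtype.val (mem_center_iff.1 (mem_inf.1 hz).2 ⟨s, hs⟩)⟩
    exact fun e => hw1 (mem_bot.1 (e.le ⟨zpowers_le.2 hzc (hW hw), hwq⟩))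
  have hDM : D ≤ M := hDB.trans hBM
  have hDZ : D ≤ normalizer (Z : Set G) := by
    have hinv : ∀ d ∈ M, ∀ z ∈ Z, d * z * d⁻¹ ∈ Z := fun d hd z hz => by
      refine ⟨?_, by rw [conj_pow, hz.2, mul_one, mul_inv_cancel]⟩
      have h1 : M ≤ normalizer ((S ⊓ centralizer (S : Set G) : Subgroup G) : Set G) :=
        CfsgLib.Coprime.inf_le_normalizer (sigmaCore_normal hG M) ((sigmaCore_normal hG M).trans
          (CfsgLib.Coprime.normalizer_le_normalizer_centralizer _))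
      exact (mem_normalizer_iff.1 (h1 hd) z).1 hz.1
    intro d hd
    refine mem_normalizer_iff.2 fun z => ⟨hinv d (hDM hd) z, fun hz => ?_⟩
    have := hinv d⁻¹ (inv_mem (hDM hd)) _ hz
    rwa [show d⁻¹ * (d * z * d⁻¹) * d⁻¹⁻¹ = z by group] at this
  have hfpf : CfsgLib.Coprime.IsFpfOn D Z := by
    intro a ha ha1
    have hz : zpowers a = D := eq_of_le_of_card_ge (zpowers_le.2 ha)
      (by rw [hDc, zpowers_card hBe (hDB ha) ha1])
    rw [← centralizer_zpowers, hz]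
    exact le_bot_iff.1 ((inf_le_inf_right _ hZS).trans hfix.le)
  have hmod := hfpf.card_mod hDZ
  rw [hDc] at hmod
  have hodd : Odd r := hG.1.of_dvd_nat (hDc ▸ card_subgroup_dvd_card D)
  have hr3 : 3 ≤ r := by
    obtain ⟨k, hk⟩ := hodd
    have := hr.out.two_le
    omega
  have hqodd : Odd q := hG.1.of_dvd_nat
    ((dvd_pow_self q two_ne_zero).trans (hA2 ▸ card_subgroup_dvd_card A))
  obtain ⟨i, hi, hc⟩ := (Nat.dvd_prime_pow hq.out).1 (hA2 ▸ card_dvd_of_le hZA)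
  have h1r : 1 % r = 1 := Nat.mod_eq_of_lt (by omega)
  have hcast : ((Nat.card Z : ℕ) : ZMod r) = 1 := by
    rw [← Nat.cast_one, ZMod.natCast_eq_natCast_iff']
    exact hmod
  have hi0 : i ≠ 0 := fun e => hZ1 (card_eq_one.1 (by rw [hc, e, pow_zero]))
  rw [hc, Nat.cast_pow] at hcast
  have hq0 : (q : ZMod r) = 1 ∨ (q : ZMod r) = -1 := by
    rcases i with _ | _ | _ | _
    · exact absurd rfl hi0
    · exact Or.inl (by simpa using hcast)
    · exact sq_eq_one_iff.1 hcast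
    · omega
  have hq2 := hq.out.two_le
  rcases hq0 with h | h
  · have h2 : r ∣ q - 1 := (ZMod.natCast_eq_zero_iff _ _).1 (by
      rw [Nat.cast_sub (by omega), h, Nat.cast_one, sub_self])
    have := Nat.le_of_dvd (by omega) h2
    omega
  · obtain ⟨k, hk⟩ := hqodd
    have h2 : r ∣ 2 * (k + 1) := by
      rw [show 2 * (k + 1) = q + 1 by omega]
      refine (ZMod.natCast_eq_zero_iff _ _).1 ?_
      rw [Nat.cast_add, h, Nat.cast_one, neg_add_cancel]
    have h3 : r ∣ k + 1 := (hr.out.dvd_mul.1 h2).resolve_left fun h4 => by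
      have := Nat.le_of_dvd two_pos h4
      omega
    have := Nat.le_of_dvd (Nat.succ_pos k) h3
    omega

/-- `τ₂(M) ∩ σ(N) = ∅`. -/
theorem not_sigma {q r : ℕ} [hq : Fact q.Prime] [hr : Fact r.Prime] {M N : Subgroup G}
    (hM : IsCoatom M) (hN : IsCoatom N) (hqM : q ∈ Cfsg.sigma M) (hqN : q ∈ Cfsg.tau2 N)
    (hrM : r ∈ Cfsg.tau2 M) : r ∉ Cfsg.sigma N := fun hrN =>
  absurd (lt hG hN hM hrN hrM hqN) (lt hG hM hN hqM hqN hrM).asymm

variable {q : ℕ} [hq : Fact q.Prime] {M N : Subgroup G}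
variable (hM : IsCoatom M) (hN : IsCoatom N) (hqM : q ∈ Cfsg.sigma M) (hqN : q ∈ Cfsg.tau2 N)
include hM hN hqM hqN

/-- `τ₃(M)` is empty. -/
theorem not_tau3 {p : ℕ} [hp : Fact p.Prime] : p ∉ Cfsg.tau3 M := by
  intro hp3
  have hpσ := hp3.2.1
  have hpd := hp3.2.2.1
  obtain ⟨P, hP, hPc⟩ := exists_line_of_dvd (t := p) hpd
  have hPM : P ≤ M := hP.trans (commutator_le_self M)
  have hreg := TauThree.tau3_line_regular hG hM hp3 hPM hPc
  have hcop : (Nat.card P).Coprime (Nat.card (Cfsg.sigmaCore M)) := by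
    rw [hPc]
    exact hp.out.coprime_iff_not_dvd.2 fun h => hpσ ((sigmaCore_hall hG hM).1.2.1 p hp.out h)
  obtain ⟨S, hS, hPS⟩ := CfsgLib.Coprime.exists_invariant_sylow
    (hPM.trans (sigmaCore_normal hG M)) hcop (Or.inr (sigmaCore_solvable hG hM)) q
  have hqp : q ≠ p := fun e => hpσ (e ▸ hqM)
  have hS1 : S ≠ ⊥ := by
    intro e
    obtain ⟨A, hAσ, -, hA2, -⟩ := exists_torus hG hM hN hqM hqN
    have hd : q ∣ Nat.card (Cfsg.sigmaCore M) :=
      ((dvd_pow_self q two_ne_zero).trans hA2.symm.dvd).trans (card_dvd_of_le hAσ)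
    have h1 : ¬ q ∣ S.relIndex (Cfsg.sigmaCore M) := hS.toSylow.not_dvd_index
    rw [e, relIndex_bot_left] at h1
    exact h1 hd
  obtain ⟨s, hs, hs1⟩ := (bot_or_exists_ne_one S).resolve_left hS1
  obtain ⟨a, ha, -, hap, hagen⟩ := exists_gen hPc
  have hac := derived_centralizes_non_beta hG hM (r := q) (not_beta_of_tau2 hG hN hqN)
    (hS.1.trans (map_subtype_le _)) hS.isPGroup (x := a) (hP ha)
    (((Nat.coprime_primes hp.out hq.out).2 hqp.symm).coprime_dvd_left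
      (orderOf_dvd_of_pow_eq_one hap)) (hPS ha)
  have hmem : s ∈ Cfsg.sigmaCore M ⊓ centralizer (P : Set G) := mem_inf.2 ⟨hS.1 hs, by
    rw [← hagen, centralizer_zpowers]
    exact mem_centralizer_singleton_iff.2 (mem_centralizer_iff.1 hac s hs)⟩
  rw [hreg, mem_bot] at hmem
  exact hs1 hmem

variable (hD : Cfsg.IsComplIn (M ⊓ N) (Cfsg.sigmaCore N) N)
include hD

/-- A torus of `N` in `M ∩ N` and `M_σ`. -/
theorem exists_torus_inter : ∃ A : Subgroup G, A ≤ M ⊓ N ∧ A ≤ Cfsg.sigmaCore M ∧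
    Cfsg.IsElementaryAbelian q A ∧ Nat.card A = q ^ 2 ∧ centralizer (A : Set G) ≤ N := by
  obtain ⟨A, hA, hAe, hA2⟩ := Compl.exists_elementary_compl hG hN hD hqN
  have hAN : A ≤ N := hA.trans inf_le_right
  refine ⟨A, hA, le_sigmaCore_of_isPiNum hG hM (hA.trans inf_le_left) fun p hp hd => ?_, hAe, hA2,
    tau_centralizer_le hG hN hqN hAN hAe hA2⟩
  rw [hA2] at hd
  rwa [(Nat.prime_dvd_prime_iff_eq hp hq.out).1 (hp.dvd_of_dvd_pow hd)]

/-- `τ₂(M) ∩ τ₂(N) = ∅`. -/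
theorem not_tau2 {r : ℕ} [hr : Fact r.Prime] (hrM : r ∈ Cfsg.tau2 M) : r ∉ Cfsg.tau2 N := by
  intro hrN
  obtain ⟨A, hA, hAσ, hAe, hA2, -⟩ := exists_torus_inter hG hM hN hqM hqN hD
  obtain ⟨B, hB, hBe, hB2⟩ := Compl.exists_elementary_compl hG hN hD hrN
  have hne : r ≠ q := fun e => hrM.2.1 (e ▸ hqM)
  have hBA : B ≤ centralizer (A : Set G) := fun b hb =>
    tau_element_centralizes hG hN hD hqN hA hAe hA2 hrN hne (hB hb) (n := 1)
      (by rw [pow_one]; exact hBe.2 b hb)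
  have h0 := tau_fixed_eq_bot hG hM hrM (hB.trans inf_le_left) hBe hB2
  have hA0 : A = ⊥ := le_bot_iff.1 ((le_inf hAσ (le_centralizer_iff.1 hBA)).trans h0.le)
  rw [hA0, card_bot] at hA2
  exact (one_lt_pow₀ hq.out.one_lt two_ne_zero).ne hA2

/-- The conjugates of `N` meeting `M` in a complement are conjugate under `M`. -/
theorem conj_in {N' : Subgroup G} (hN' : IsCoatom N')
    (hD' : Cfsg.IsComplIn (M ⊓ N') (Cfsg.sigmaCore N') N') {g : G} (hg : conjBy g N' = N) :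
    ∃ m ∈ M, conjBy m N' = N := by
  have hqN' : q ∈ Cfsg.tau2 N' := by
    have h := tau2_conjBy hG hN g⁻¹ hqN
    rwa [← hg, conjBy_conjBy, inv_mul_cancel, conjBy_one] at h
  obtain ⟨A, hA, hAe, hA2⟩ := Compl.exists_elementary_compl hG hN hD hqN
  obtain ⟨A', hA', hA'σ, hA'e, hA'2, hA'N⟩ := exists_torus_inter hG hM hN' hqM hqN' hD'
  have hgA : conjBy g A' ≤ N := hg ▸ map_mono (hA'.trans inf_le_right)
  obtain ⟨n, hn, hnE⟩ := (compl_isHall hG hN hD).exists_conj_le (ms_solvable hG hN.1) hgA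
    (fun s hs hd => by
      rw [card_conjBy, hA'2] at hd
      rw [(Nat.prime_dvd_prime_iff_eq hs hq.out).1 (hs.dvd_of_dvd_pow hd)]
      exact hqN.2.1)
  rw [conjBy_conjBy] at hnE
  have hle : conjBy (n * g) A' ≤ A := fun x hx => by
    by_cases hx1 : x = 1
    · exact hx1 ▸ one_mem A
    exact (Cfsg.Agent.S1418.result hG N hN (M ⊓ N) hD q hqN A ⟨hA, hAe, hA2⟩).1.2 (zpowers x)
      (zpowers_le.2 (hnE hx)) (zpowers_card (elementary_conjBy hA'e _) hx hx1) (mem_zpowers x)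
  have hA'1 : A' ≠ ⊥ := fun e => by
    rw [e, card_bot] at hA'2
    exact (one_lt_pow₀ hq.out.one_lt two_ne_zero).ne hA'2
  obtain ⟨m, hm, c, hc, e⟩ := (Cfsg.Agent.S1404.result hG M hM q hqM A'
    (IsPGroup.of_card hA'2) hA'1 (hA'σ.trans (map_subtype_le _))).1 (n * g)
    (hle.trans (hA.trans inf_le_left))
  refine ⟨m, hm, ?_⟩
  have hfix : ∀ {L : Subgroup G} {z : G}, z ∈ L → conjBy z L = L := fun hz =>
    CfsgLib.Coprime.conjBy_eq_self_of_mem hz
  calc conjBy m N' = conjBy m (conjBy c N') := by rw [hfix (hA'N hc)]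
    _ = conjBy n (conjBy g N') := by rw [conjBy_conjBy, ← e, conjBy_conjBy]
    _ = N := by rw [hg, hfix hn]

variable {p : ℕ} [hp : Fact p.Prime] (hpN : p ∈ Cfsg.sigma N) (hpM : p ∣ Nat.card M)
include hpN hpM

theorem mem_tau1 : p ∈ Cfsg.tau1 M := by
  have hpσ : p ∉ Cfsg.sigma M := fun h => by
    obtain ⟨g, hg⟩ := exists_conj_of_sigma hG hM hN h hpN
    exact hqN.2.1 (mem_sigma_conjBy hG (g := g⁻¹) hN (by
      rwa [← hg, conjBy_conjBy, inv_mul_cancel, conjBy_one]))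
  by_cases hr1 : Cfsg.PRankLE p 1 M
  · exact ⟨hp.out, hpσ, hpM,
      fun h => not_tau3 hG hM hN hqM hqN (p := p) ⟨hp.out, hpσ, h, hr1⟩, hr1⟩
  · exact absurd hpN (not_sigma hG hM hN hqM hqN (mem_tau_iff.2 ⟨hpσ,
      pRankLE_two_of_not_alpha hp.out fun h => hpσ (alpha_subset_sigma hG hM h), hr1⟩))

/-- `κ(M)` is empty. -/
theorem kappa_empty : Cfsg.kappa M = ∅ := by
  by_contra hne
  have hne' : (Cfsg.kappa M).Nonempty := Set.nonempty_iff_ne_empty.2 hne
  have hpκ : p ∈ Cfsg.kappa M := by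
    rw [kappa_eq_tau1 hG hM hne']
    exact mem_tau1 hG hM hN hqM hqN hD hpN hpM
  obtain ⟨K, hKM, h1, h2⟩ :=
    CfsgLib.Coprime.exists_hallIn (Cfsg.kappa M) (ms_solvable hG hM.1)
  have hK : Cfsg.IsPiHallOf (Cfsg.kappa M) K M :=
    ⟨hKM, h1, fun s hs hsκ hd => h2 s hs hd hsκ⟩
  have hpK : p ∣ Nat.card K := by
    have h3 : p ∣ Nat.card K * K.relIndex M := by
      rwa [CfsgLib.Coprime.card_mul_relIndex hKM]
    exact (hp.out.dvd_mul.1 h3).resolve_right (hK.2.2 p hp.out hpκ)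
  have hK1 : K ≠ ⊥ := fun e => by
    rw [e, card_bot] at hpK
    exact hp.out.not_dvd_one hpK
  obtain ⟨L, hL, hKL, hKLH⟩ := exists_partner hG hM hK hK1
  have hpL : p ∈ Cfsg.sigma L := (sigmaCore_hall hG hL).1.2.1 p hp.out
    (hpK.trans (card_dvd_of_le (hKL.le.trans inf_le_left)))
  obtain ⟨g, hg⟩ := exists_conj_of_sigma hG hN hL hpN hpL
  have hqL : q ∈ Cfsg.tau2 L := hg ▸ tau2_conjBy hG hN g hqN
  have hqd : q ∣ Nat.card L := by
    by_contra h
    exact hqL.2.2.2 (pRankLE_of_not_dvd h 1)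
  rw [← CfsgLib.Coprime.card_mul_relIndex hKLH.1] at hqd
  have hqκ : q ∈ Cfsg.kappa L := hKLH.2.1 q hq.out ((hq.out.dvd_mul.1 hqd).resolve_right
    (Inter.sigma_not_dvd_relIndex hG hM hK hK1 hL hKL hKLH hq.out hqM))
  exact hqL.2.2.2 (kappa_tau1 hG hL hqκ).2.2.2.2

/-- A subgroup of prime power order centralizing a point of `N_σ` is carried into `N` by the
centralizer of that point. -/
theorem exists_conj_into {r : ℕ} [hr : Fact r.Prime] (hrM : r ∈ Cfsg.tau2 M) {N' : Subgroup G}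
    (hN' : IsCoatom N') {g : G} (hg : conjBy g N = N') {a : G} (ha : a ∈ Cfsg.sigmaCore N')
    (hap : orderOf a = p) {X : Subgroup G} (hX : X ≤ centralizer ({a} : Set G))
    (hXr : IsPGroup r X) :
    ∃ x : G, conjBy x X ≤ N' ⊓ centralizer ({a} : Set G) := by
  by_cases hle : centralizer ({a} : Set G) ≤ N'
  · exact ⟨1, by rw [conjBy_one]; exact le_inf (hX.trans hle) hX⟩
  have ha1 : a ≠ 1 := fun e => hp.out.ne_one (by rw [← hap, e, orderOf_one])
  obtain ⟨L, hL, haL, -, -, hpL, hDL, -⟩ := exists_data hG hN' ha ha1 hle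
  have hpL' : p ∈ Cfsg.tau2 L := hpL p hp.out hap.symm.dvd
  have hqN' : q ∈ Cfsg.tau2 N' := hg ▸ tau2_conjBy hG hN g hqN
  have hpN' : p ∈ Cfsg.sigma N' := (sigmaCore_hall hG hN').1.2.1 p hp.out (hap.symm.dvd.trans (Subgroup.orderOf_dvd_natCard _ ha))
  have hrL : r ∉ Cfsg.sigma L := fun h => by
    have h1 := lt hG hM hN hqM hqN hrM
    have h2 := lt hG hN' hL hpN' hpL' hqN'
    have h3 := lt hG hL hM h hrM hpL'
    omega
  have haD : a ∈ N' ⊓ L := mem_inf.2 ⟨map_subtype_le _ ha,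
    haL (mem_centralizer_singleton_iff.2 rfl)⟩
  have hC := centralizer_compl hG hDL haD haL
  have hall : IsHallIn (Cfsg.sigma L)ᶜ (N' ⊓ L ⊓ centralizer ({a} : Set G))
      (centralizer ({a} : Set G)) := by
    refine ⟨inf_le_right, fun s hs hd => (compl_isHall hG hL hDL).2.1 s hs
      (hd.trans (card_dvd_of_le inf_le_left)), fun s hs hd hsσ => ?_⟩
    have h1 := CfsgLib.Coprime.card_mul_relIndex (G := G)
      (inf_le_right : N' ⊓ L ⊓ centralizer ({a} : Set G) ≤ centralizer ({a} : Set G))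
    rw [card_of_compl hC] at h1
    rw [Nat.eq_of_mul_eq_mul_left Nat.card_pos h1] at hd
    exact hsσ ((sigmaCore_hall hG hL).1.2.1 s hs (hd.trans (card_dvd_of_le inf_le_left)))
  obtain ⟨x, -, hx⟩ := hall.exists_conj_le
    (CfsgLib.Coprime.isSolvable_of_le haL (ms_solvable hG hL.1)) hX fun s hs hd => by
      obtain ⟨j, hj⟩ := IsPGroup.iff_card.1 hXr
      rw [hj] at hd
      rw [(Nat.prime_dvd_prime_iff_eq hs hr.out).1 (hs.dvd_of_dvd_pow hd)]
      exact hrL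
  exact ⟨x, hx.trans (inf_le_inf_right _ inf_le_left)⟩

/-- `τ₂(M)` is empty. -/
theorem tau2_empty : Cfsg.tau2 M = ∅ := by
  refine Set.eq_empty_iff_forall_notMem.2 fun r hrM => ?_
  haveI : Fact r.Prime := ⟨hrM.1⟩
  have hp1 := mem_tau1 hG hM hN hqM hqN hD hpN hpM
  obtain ⟨hpσ, hr1⟩ : p ∉ Cfsg.sigma M ∧ Cfsg.PRankLE p 1 M := ⟨hp1.2.1, hp1.2.2.2.2⟩
  have hrp : r ≠ p := fun e => hrM.2.2.2 (e ▸ hr1)
  obtain ⟨P, hP, hPc⟩ := exists_line_of_dvd (t := p) hpM
  obtain ⟨E, hE, hmE⟩ := TauTwo.exists_complement hG hM hP fun s hs hd => by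
    rw [hPc] at hd
    rw [(Nat.prime_dvd_prime_iff_eq hs hp.out).1 hd]
    exact hpσ
  have hPM : P ≤ M := hP
  have hκ := kappa_empty hG hM hN hqM hqN hD hpN hpM
  have hreg := line_regular hG hM hPM hPc hpσ (by rw [hκ]; exact Set.notMem_empty p) hr1
  obtain ⟨A, hA, hAe, hA2⟩ := Compl.exists_elementary_compl hG hM hE hrM
  have hAM : A ≤ M := hA.trans hE.1
  have hPA : P ≤ normalizer (A : Set G) :=
    hmE.trans (compl_le_normalizer hG hM hE hrM hA hAe hA2)
  obtain ⟨a, haP, ha1, hap, hagen⟩ := exists_gen hPc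
  have hao : orderOf a = p := orderOf_eq_prime hap ha1
  have haC : centralizer (P : Set G) = centralizer ({a} : Set G) := by
    rw [← hagen, centralizer_zpowers]
  -- `P` has fixed points on `A`
  have hfix : A ⊓ centralizer ({a} : Set G) ≠ ⊥ := by
    intro h0
    have hσn := sigmaCore_normal hG M
    have h1 := NormFpf.fixed_sup_eq_bot (hσn (hPM haP)) (hPA haP) hAe.1 (hAM.trans hσn)
      (by rwa [haC] at hreg) h0
    have h2 : A ≤ centralizer (Cfsg.sigmaCore M : Set G) := fun v hv =>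
      mem_centralizer_iff.2 fun u hu => by
        refine (NormFpf.commute hap (CfsgLib.Coprime.sup_le_normalizer
          (zpowers_le.2 (hσn (hPM haP))) (zpowers_le.2 (hPA haP)) (mem_zpowers a)) h1
          (mem_sup_left hu) (mem_sup_right hv) ?_).eq
        refine Nat.coprime_of_dvd fun s hs hs1 hs2 => ?_
        have := hs2.trans ((Subgroup.orderOf_dvd_natCard _ hv).trans hA2.dvd)
        rw [(Nat.prime_dvd_prime_iff_eq hs hrM.1).1 (hs.dvd_of_dvd_pow this)] at hs1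
        exact hrM.2.1 ((sigmaCore_hall hG hM).1.2.1 r hrM.1
          (hs1.trans (Subgroup.orderOf_dvd_natCard _ hu)))
    have h3 := tau_fixed_eq_bot hG hM hrM hAM hAe hA2
    exact sigmaCore_ne_bot hG hM (le_bot_iff.1
      ((le_inf le_rfl (le_centralizer_iff.1 h2)).trans h3.le))
  -- a conjugate of `N` with `P` in its `σ`-core
  obtain ⟨g, hg⟩ := sigma_conj_into hG hN (Y := P) (line_ne_bot hPc) (fun s hs hd => by
    rw [hPc] at hd
    rwa [(Nat.prime_dvd_prime_iff_eq hs hp.out).1 hd])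
  set N' := conjBy g⁻¹ N with hN'def
  have hN' : IsCoatom N' := isCoatom_conjBy _ hN
  have haN' : a ∈ Cfsg.sigmaCore N' := by
    have h := Tilde.conj_mem_sigmaCore hG hN g⁻¹ (hg (conj_mem_conjBy (g := g) haP))
    rwa [show g⁻¹ * (g * a * g⁻¹) * g⁻¹⁻¹ = a by group] at h
  have hback : conjBy g N' = N := by rw [hN'def, conjBy_conjBy, mul_inv_cancel, conjBy_one]
  have hrN : r ∉ Cfsg.sigma N := not_sigma hG hM hN hqM hqN hrM
  -- `r` is a prime of `κ(N)`
  have hinto : ∀ X : Subgroup G, X ≤ centralizer ({a} : Set G) → IsPGroup r X →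
      ∃ y : G, conjBy y X ≤ N ∧ ∀ w ∈ conjBy y X, Commute (g * a * g⁻¹) w := by
    intro X hX hXr
    obtain ⟨x, hx⟩ := exists_conj_into hG hM hN hqM hqN hD hpN hpM hrM hN' rfl haN' hao hX hXr
    refine ⟨g * x, ?_, ?_⟩
    · rw [← conjBy_conjBy, ← hback]
      exact map_mono (hx.trans inf_le_left)
    · rw [← conjBy_conjBy]
      rintro _ ⟨w, hw, rfl⟩
      have h1 := mem_centralizer_singleton_iff.1 (mem_inf.1 (hx hw)).2
      show Commute ((MulAut.conj g).toMonoidHom a) ((MulAut.conj g).toMonoidHom w)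
      exact (show Commute a w from h1.symm).map _
  have haN : g * a * g⁻¹ ∈ Cfsg.sigmaCore N := hg (conj_mem_conjBy haP)
  have hga1 : g * a * g⁻¹ ≠ 1 := fun e => ha1 (conj_eq_one_iff.1 e)
  have hrκ : r ∈ Cfsg.kappa N := by
    obtain ⟨b, hb, hb1⟩ := (bot_or_exists_ne_one _).resolve_left hfix
    obtain ⟨y, hy, hyc⟩ := hinto (zpowers b) (zpowers_le.2 (mem_inf.1 hb).2)
      (IsPGroup.of_card (n := 1) (by rw [pow_one, zpowers_card hAe (mem_inf.1 hb).1 hb1]))
    have hb' := conj_mem_conjBy (g := y) (mem_zpowers b)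
    have hord : r ∣ orderOf (y * b * y⁻¹) := by
      rw [show orderOf (y * b * y⁻¹) = orderOf b from (MulAut.conj y).orderOf_eq b,
        orderOf_eq_prime (hAe.2 b (mem_inf.1 hb).1) hb1]
    rcases Cover.prime_cases hG hN haN hga1 (hy hb') (hyc _ hb') hord hrN with h | h
    · exact h
    · exact absurd h (not_tau2 hG hM hN hqM hqN hD hrM)
  have hrN1 := (kappa_tau1 hG hN hrκ).2.2.2.2
  by_cases hPC : A ≤ centralizer ({a} : Set G)
  · obtain ⟨y, hy, -⟩ := hinto A hPC (IsPGroup.of_card hA2)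
    exact not_pRankLE_of_elementary hy (elementary_conjBy hAe y)
      (by rw [card_conjBy, hA2]; exact Nat.pow_lt_pow_right hrM.1.one_lt one_lt_two) hrN1
  -- `[A, P]` centralizes the torus of `N`
  obtain ⟨v, hv, hvne⟩ : ∃ v ∈ A, ¬ Commute v a := by
    by_contra h
    push_neg at h
    exact hPC fun v hv => mem_centralizer_singleton_iff.2 (h v hv).eq
  set c := ⁅v, a⁆ with hcdef
  have hcA : c ∈ A := by
    rw [hcdef, commutatorElement_def, show v * a * v⁻¹ * a⁻¹ = v * (a * v⁻¹ * a⁻¹) by group]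
    exact mul_mem hv ((mem_normalizer_iff.1 (hPA haP) _).1 (inv_mem hv))
  have hc1 : c ≠ 1 := fun e => hvne (commutatorElement_eq_one_iff_commute.1 e)
  obtain ⟨A', hA', hA'σ, hA'e, hA'2, hA'N⟩ := exists_torus_inter hG hM hN hqM hqN hD
  have hnil := tau_nilpotent hG hM hrM hAM hAe hA2
  obtain ⟨S, hS, hA'S, -⟩ := CfsgLib.Coprime.le_invariant_sylow (A := (⊥ : Subgroup G))
    (K := Cfsg.sigmaCore M) (p := q) bot_le (by rw [card_bot]; exact Nat.coprime_one_left _)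
    (Or.inr (sigmaCore_solvable hG hM)) hA'σ (IsPGroup.of_card hA'2) bot_le
  have hrq : r ≠ q := fun e => hrM.2.1 (e ▸ hqM)
  have hcS : c ∈ normalizer (S : Set G) := by
    haveI := hnil
    haveI : ((hS.toSylow : Sylow q (Cfsg.sigmaCore M)) : Subgroup (Cfsg.sigmaCore M)).Normal :=
      Sylow.normal_of_normalizerCondition Group.normalizerCondition_of_isNilpotent _
    haveI := (hS.toSylow : Sylow q (Cfsg.sigmaCore M)).characteristic_of_normal inferInstance
    rw [← hS.map_toSylow]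
    exact CfsgLib.PGroup.normalizer_le_normalizer_map_char _ _ (sigmaCore_normal hG M (hAM hcA))
  have hcc := derived_centralizes_non_beta hG hM (r := q) (not_beta_of_tau2 hG hN hqN)
    (hS.1.trans (map_subtype_le _)) hS.isPGroup (x := c)
    (commutator_mem_commutator (hAM hv) (hPM haP))
    (((Nat.coprime_primes hrM.1 hq.out).2 hrq).coprime_dvd_left
      (orderOf_dvd_of_pow_eq_one (hAe.2 c hcA))) hcS
  have hcN : c ∈ N := hA'N (centralizer_le hA'S hcc)
  obtain ⟨w, hw, hw1, hwq, -⟩ : ∃ w ∈ A', w ≠ 1 ∧ w ^ q = 1 ∧ True := by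
    have : A' ≠ ⊥ := fun e => by
      rw [e, card_bot] at hA'2
      exact (one_lt_pow₀ hq.out.one_lt two_ne_zero).ne hA'2
    obtain ⟨w, hw, hw1⟩ := (bot_or_exists_ne_one A').resolve_left this
    exact ⟨w, hw, hw1, hA'e.2 w hw, trivial⟩
  have hzc : Nat.card (zpowers c) = r := zpowers_card hAe hcA hc1
  have hwc : zpowers w ≤ centralizer ((zpowers c : Subgroup G) : Set G) := by
    rw [centralizer_zpowers, zpowers_le, mem_centralizer_singleton_iff]
    exact mem_centralizer_iff.1 hcc w (hA'S hw)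
  have hqκ := commute_kappa hG hN (s := q) (kappa_tau1 hG hN hrκ) (zpowers_le.2 hcN) hzc
    (kappa_fixed hG hN hrκ (zpowers_le.2 hcN) hzc) (zpowers_le.2 ((hA'.trans inf_le_right) hw))
    (zpowers_card hA'e hw hw1) hwc hqN.2.1
  exact hqN.2.2.2 (kappa_tau1 hG hN hqκ).2.2.2.2

end CfsgLib.CFun.Neighbour
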