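import Cfsg.Agent.Lib.CFun.OddFittingSigma
import Cfsg.Agent.Lib.CFun.OddSigmaNeighbour
import Cfsg.Agent.Lib.CFun.OddKappaUnique

/-!
# When `F(M)` is not a TI-subset
-/

set_option autoImplicit false
set_option linter.style.haveILetI false
set_option linter.unusedSectionVars false

open Subgroup
open scoped commutatorElement
open CfsgLib.Coprime (conjBy conjBy_conjBy conjBy_one mem_conjBy conj_mem_conjBy card_conjBy
  IsSylowIn IsPiNum)

namespace CfsgLib.CFun.FitTI

open CfsgLib.CFun.TauTwo CfsgLib.CFun.Lines CfsgLib.CFun.Kappa CfsgLib.CFun.Partner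
open CfsgLib.CFun.ElemCent

universe u

variable {G : Type u} [Group G] [Finite G]

/-- `x` and its conjugate by `g ∉ M` lie in `F(M)`. -/
structure Meet (M : Subgroup G) (g x : G) : Prop where
  not_mem : g ∉ M
  ne : x ≠ 1
  left : x ∈ Cfsg.fittingOf M
  right : g * x * g⁻¹ ∈ Cfsg.fittingOf M

theorem Meet.symm {M : Subgroup G} {g x : G} (h : Meet M g x) : Meet M g⁻¹ (g * x * g⁻¹) where
  not_mem e := h.not_mem (inv_inv g ▸ inv_mem e)
  ne e := h.ne (conj_eq_one_iff.1 e)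
  left := h.right
  right := by rw [show g⁻¹ * (g * x * g⁻¹) * g⁻¹⁻¹ = x by group]; exact h.left

theorem Meet.pow {M : Subgroup G} {g x : G} (h : Meet M g x) {y : G} (hy : y ∈ zpowers x)
    (hy1 : y ≠ 1) : Meet M g y where
  not_mem := h.not_mem
  ne := hy1
  left := zpowers_le.2 h.left hy
  right := by
    obtain ⟨i, rfl⟩ := mem_zpowers_iff.1 hy
    rw [← conj_zpow]
    exact zpow_mem h.right i

/-- The elements of `F(M) ∩ F(M) ^ g` meet the data. -/
theorem meet_of_mem {M : Subgroup G} {g x : G} (hg : g ∉ M)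
    (hx : x ∈ Cfsg.fittingOf M ⊓ (Cfsg.fittingOf M).map (MulAut.conj g).toMonoidHom) (hx1 : x ≠ 1) :
    Meet M g⁻¹ x where
  not_mem e := hg (inv_inv g ▸ inv_mem e)
  ne := hx1
  left := (mem_inf.1 hx).1
  right := by
    obtain ⟨w, hw, rfl⟩ := (mem_inf.1 hx).2
    show g⁻¹ * (g * w * g⁻¹) * g⁻¹⁻¹ ∈ _
    rw [show g⁻¹ * (g * w * g⁻¹) * g⁻¹⁻¹ = w by group]
    exact hw

/-- Elements of `F(M)` of order prime to `σ(M)` lie in `O_{σ'}(F(M))`. -/
theorem mem_part {M : Subgroup G} {x : G} (hx : x ∈ Cfsg.fittingOf M)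
    (h : ∀ p : ℕ, p.Prime → p ∣ orderOf x → p ∉ Cfsg.sigma M) : x ∈ FitSigma.part M := by
  haveI := Chain.fittingOf_nilpotent M
  refine ⟨⟨x, hx⟩, ?_, rfl⟩
  refine CfsgLib.Coprime.isPiNum_le_piCore_of_isSubnormal
    (π := {q | q.Prime ∧ q ∉ Cfsg.sigma M})
    (CfsgLib.PGroup.isSubnormal_of_isNilpotent _) (fun p hp hd => ⟨hp, h p hp ?_⟩) (mem_zpowers _)
  rwa [Nat.card_zpowers, Subgroup.orderOf_mk] at hd

variable (hG : Cfsg.IsMinSimpleOddOrder G) {M : Subgroup G} (hM : IsCoatom M) {g x : G}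
include hG hM

omit [Finite G] in
theorem eq_of_mem_conjBy {L : Subgroup G} (e : conjBy g M = M)
    (hN : normalizer (M : Set G) = L) : g ∈ L :=
  hN ▸ CfsgLib.Coprime.conjBy_eq_self_iff.1 e

/-- The common part of `F(M)` and `F(M) ^ g` lies in `M_σ`. -/
theorem mem_sigmaCore (h : Meet M g x) : x ∈ Cfsg.sigmaCore M := by
  obtain ⟨K, U, d⟩ := Chain.exists_decomposition hG hM
  have hxM : x ∈ M := map_subtype_le _ h.left
  refine zpowers_le.1 (le_sigmaCore_of_isPiNum hG hM (zpowers_le.2 hxM) fun r hr hd => ?_)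
  by_contra hrσ
  haveI : Fact r.Prime := ⟨hr⟩
  obtain ⟨W, hW, hWc⟩ := exists_line_of_dvd (t := r) hd
  obtain ⟨b, hb, hb1, hbr, -⟩ := exists_gen hWc
  have h' := h.pow (hW hb) hb1
  have hmem : ∀ {g b : G}, Meet M g b → b ^ r = 1 → b ∈ U ∧
      centralizer ({b} : Set G) ≤ M ∧
      ∀ L : Subgroup G, IsCoatom L → centralizer ({b} : Set G) ≤ L → L = M := by
    intro g b h hbr
    have hbp : b ∈ FitSigma.part M := mem_part h.left fun p hp hpd => by
      rw [(Nat.prime_dvd_prime_iff_eq hp hr).1 (hpd.trans (orderOf_dvd_of_pow_eq_one hbr))]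
      exact hrσ
    have hbU := FitSigma.part_le_U hG hM d hbp
    have hfix : Cfsg.sigmaCore M ⊓ centralizer ((zpowers b : Subgroup G) : Set G) ≠ ⊥ := by
      rw [centralizer_zpowers, inf_eq_left.2]
      · exact sigmaCore_ne_bot hG hM
      · exact fun s hs => mem_centralizer_singleton_iff.2
          (mem_centralizer_iff.1 (mem_inf.1 hbU).2 s hs)
    have h0 := UFixed.centralizer_unique hG hM d (zpowers_le.2 (mem_inf.1 hbU).1)
      (zpowers_ne_bot.2 h.ne) hfix
    rw [centralizer_zpowers] at h0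
    exact ⟨(mem_inf.1 hbU).1, h0⟩
  obtain ⟨-, -, huniq⟩ := hmem h' hbr
  obtain ⟨-, hle, -⟩ := hmem h'.symm (by rw [conj_pow, hbr, mul_one, mul_inv_cancel])
  have hle' : centralizer ({b} : Set G) ≤ conjBy g⁻¹ M := fun c hc => by
    have h1 : g * c * g⁻¹ ∈ centralizer ({g * b * g⁻¹} : Set G) := by
      rw [← Tilde.conjBy_centralizer]
      exact conj_mem_conjBy hc
    have h2 := conj_mem_conjBy (g := g⁻¹) (hle h1)
    rwa [show g⁻¹ * (g * c * g⁻¹) * g⁻¹⁻¹ = c by group] at h2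
  have e := huniq _ (isCoatom_conjBy _ hM) hle'
  exact h.not_mem (inv_inv g ▸ inv_mem
    (eq_of_mem_conjBy hG hM e (ms_normalizer_self hG hM)))

/-- The primes involved are outside `β(M)`. -/
theorem not_beta_of_meet (h : Meet M g x) {p : ℕ} (hp : p.Prime) (hd : p ∣ orderOf x) :
    p ∉ Cfsg.beta M := by
  refine (TauTwo.sigmaCore_inf_conj hG hM (g := g⁻¹)
    (fun e => h.not_mem (inv_inv g ▸ inv_mem e))).2.1 p hp (hd.trans (Subgroup.orderOf_dvd_natCard _ ?_))
  refine mem_inf.2 ⟨mem_sigmaCore hG hM h, ?_⟩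
  have h1 := conj_mem_conjBy (g := g⁻¹) (map_subtype_le _ h.right : g * x * g⁻¹ ∈ M)
  rwa [show g⁻¹ * (g * x * g⁻¹) * g⁻¹⁻¹ = x by group] at h1

/-- `C(x) ≰ M`. -/
theorem centralizer_not_le (h : Meet M g x) : ¬ centralizer ({x} : Set G) ≤ M := by
  intro hle
  obtain ⟨m, hm, c, hc, e⟩ := Cosets.fusion hG hM (mem_sigmaCore hG hM h) h.ne
    (map_subtype_le _ h.right)
  exact h.not_mem (e ▸ mul_mem hm (hle hc))

/-- `M_σ` is nilpotent. -/
theorem fittingHall_eq (h : Meet M g x) : Cfsg.fittingHallOf M = Cfsg.sigmaCore M := by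
  by_contra hne
  obtain ⟨K, U, d⟩ := Chain.exists_decomposition hG hM
  obtain ⟨-, hK1⟩ := FifteenTwo.bot_of_ne hG hM d hne
  obtain ⟨Q, D, hs⟩ := FifteenTwo.exists_split hG hM d hne
  set q := Nat.card ↥(Cfsg.sigmaCore M ⊓ centralizer (K : Set G))
  haveI : Fact q.Prime := ⟨hs.prime⟩
  have huniq : Cfsg.InUniqueMaximal Q := by
    have h1 := KappaSylow.inUniqueMaximal hG hM d.hall hK1 (dvd_refl q) hs.sylow.toSylow
    rwa [hs.sylow.map_toSylow] at h1
  obtain ⟨L, ⟨-, -⟩, hL⟩ := huniq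
  have hQM : Q ≤ M := (FifteenTwo.Split.le_M hG hM d hs).1
  have hQF : Q ≤ Cfsg.fittingOf M :=
    (FifteenTwo.Split.le_fittingHall hG hM d hs).trans (Chain.fittingHallOf_le_fittingOf M)
  have hQC : ∀ {g x : G}, Meet M g x → Q ≤ centralizer ({x} : Set G) := by
    intro g x h y hy
    haveI := Chain.fittingOf_nilpotent M
    obtain ⟨j, hj⟩ := IsPGroup.iff_card.1 hs.sylow.isPGroup
    refine mem_centralizer_singleton_iff.2 (congrArg Subtype.val
      (commute_of_coprime_order (x := (⟨y, hQF hy⟩ : Cfsg.fittingOf M)) (y := ⟨x, h.left⟩) ?_).eq :)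
    rw [Subgroup.orderOf_mk, Subgroup.orderOf_mk]
    refine Nat.Coprime.coprime_dvd_left (hj ▸ Subgroup.orderOf_dvd_natCard _ hy) ?_
    exact (hs.prime.coprime_iff_not_dvd.2 fun hd =>
      not_beta_of_meet hG hM h hs.prime hd (FifteenTwo.Split.mem_beta hG hM d hs)).pow_left j
  have hCx : centralizer ({x} : Set G) ≤ M := by
    rcases eq_top_or_exists_le_coatom (centralizer ({x} : Set G)) with htop | ⟨L', hL', hxL'⟩
    · exfalso
      refine ms_normalizer_ne_top hG (zpowers_ne_bot.2 h.ne) (fun e => hM.1 (top_le_iff.1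
        (e ▸ zpowers_le.2 (map_subtype_le _ h.left : x ∈ M)))) (top_le_iff.1 ?_)
      rw [← htop, ← centralizer_zpowers]
      exact CfsgLib.Coprime.centralizer_le_normalizer_self _
    · rw [hL M ⟨hM, hQM⟩, ← hL L' ⟨hL', (hQC h).trans hxL'⟩]
      exact hxL'
  exact centralizer_not_le hG hM h hCx

/-- A prime of a common element is in `σ(M) ∩ τ₂(N)`. -/
theorem exists_neighbour (h : Meet M g x) :
    ∃ N : Subgroup G, IsCoatom N ∧ centralizer ({x} : Set G) ≤ N ∧
      Cfsg.IsComplIn (M ⊓ N) (Cfsg.sigmaCore N) N ∧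
      ∀ p : ℕ, p.Prime → p ∣ orderOf x → p ∈ Cfsg.sigma M ∧ p ∈ Cfsg.tau2 N := by
  obtain ⟨N, hN, hxN, -, -, hτ, hD, -⟩ :=
    exists_data hG hM (mem_sigmaCore hG hM h) h.ne (centralizer_not_le hG hM h)
  exact ⟨N, hN, hxN, hD,
    fun p hp hd => ⟨Cosets.sigma_of_mem hG hM (mem_sigmaCore hG hM h) hp hd, hτ p hp hd⟩⟩

/-- The Sylow subgroups of `M_σ` are normal in `M`. -/
theorem sylow_normal (h : Meet M g x) {r : ℕ} [hr : Fact r.Prime] {S : Subgroup G}
    (hS : IsSylowIn r S (Cfsg.sigmaCore M)) : M ≤ normalizer (S : Set G) := by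
  haveI : Group.IsNilpotent (Cfsg.sigmaCore M) :=
    fittingHall_eq hG hM h ▸ Chain.isNilpotent_fittingHallOf M
  haveI := (hS.toSylow).characteristic_of_normal
    (Sylow.normal_of_normalizerCondition Group.normalizerCondition_of_isNilpotent _)
  rw [← hS.map_toSylow]
  exact (sigmaCore_normal hG M).trans (CfsgLib.PGroup.normalizer_le_normalizer_map_char _ _)

/-- Sylow subgroups of `M_σ` at primes not dividing `|x|` centralize `x`. -/
theorem sylow_le_centralizer (h : Meet M g x) {r : ℕ} [hr : Fact r.Prime] (hrx : ¬ r ∣ orderOf x)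
    {S : Subgroup G} (hS : IsSylowIn r S (Cfsg.sigmaCore M)) :
    S ≤ centralizer ({x} : Set G) := by
  haveI : Group.IsNilpotent (Cfsg.sigmaCore M) :=
    fittingHall_eq hG hM h ▸ Chain.isNilpotent_fittingHallOf M
  intro y hy
  obtain ⟨j, hj⟩ := IsPGroup.iff_card.1 hS.isPGroup
  refine mem_centralizer_singleton_iff.2 (congrArg Subtype.val
    (commute_of_coprime_order (x := (⟨y, hS.1 hy⟩ : Cfsg.sigmaCore M))
      (y := ⟨x, mem_sigmaCore hG hM h⟩) ?_).eq :)
  rw [Subgroup.orderOf_mk, Subgroup.orderOf_mk]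
  exact (((hr.out.coprime_iff_not_dvd.2 hrx).pow_left j).coprime_dvd_left
    (hj ▸ Subgroup.orderOf_dvd_natCard _ hy))

/-- `σ(M) ∩ π(M) ∩ β(M)` is empty. -/
theorem not_beta (h : Meet M g x) {r : ℕ} (hrM : r ∣ Nat.card (Cfsg.sigmaCore M)) (hr : r.Prime) :
    r ∉ Cfsg.beta M := by
  haveI : Fact r.Prime := ⟨hr⟩
  by_cases hrx : r ∣ orderOf x
  · exact not_beta_of_meet hG hM h hr hrx
  intro hb
  obtain ⟨N, hN, hxN, hD, -⟩ := exists_neighbour hG hM h
  obtain ⟨P⟩ := (inferInstance : Nonempty (Sylow r (Cfsg.sigmaCore M)))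
  have hP := CfsgLib.Coprime.isSylowIn_map P
  have hP' := TauTwo.isSylowIn_of_relIndex hP (map_subtype_le _)
    fun hd => (sigmaCore_hall hG hM).1.2.2 r hr ((sigmaCore_hall hG hM).1.2.1 r hr hrM) hd
  have hPE : (P : Subgroup (Cfsg.sigmaCore M)).map (Cfsg.sigmaCore M).subtype ≤ M ⊓ N :=
    le_inf (hP.1.trans (map_subtype_le _)) ((sylow_le_centralizer hG hM h hrx hP).trans hxN)
  refine hb.1.2 (pRankLE_of_sylow hP'.toSylow ?_)
  rw [hP'.map_toSylow]
  exact RankTwoTower.pRankLE_of_injective (f := inclusion hPE) (inclusion_injective hPE)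
    (Compl.compl_rank hG hN hD r hr)

/-- Coprime elements of `M'` centralize `M_σ`. -/
theorem derived_centralizes (h : Meet M g x) {t : G} (ht : t ∈ ⁅M, M⁆)
    (hcop : (orderOf t).Coprime (Nat.card (Cfsg.sigmaCore M))) :
    t ∈ centralizer (Cfsg.sigmaCore M : Set G) := by
  haveI : Group.IsNilpotent (Cfsg.sigmaCore M) :=
    fittingHall_eq hG hM h ▸ Chain.isNilpotent_fittingHallOf M
  have hle : Cfsg.sigmaCore M ≤ centralizer ({t} : Set G) := by
    refine TauOne.le_of_prime_power_elements fun r hr v hv ⟨n, hn⟩ => ?_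
    by_cases hv1 : v = 1
    · rw [hv1]; exact one_mem _
    haveI : Fact r.Prime := ⟨hr⟩
    obtain ⟨-, hdv, -⟩ := exists_line_pow (t := r) ⟨n, hn⟩ hv1
    have hrM : r ∣ Nat.card (Cfsg.sigmaCore M) := hdv.trans (Subgroup.orderOf_dvd_natCard _ hv)
    obtain ⟨P⟩ := (inferInstance : Nonempty (Sylow r (Cfsg.sigmaCore M)))
    haveI : (P : Subgroup (Cfsg.sigmaCore M)).Normal :=
      Sylow.normal_of_normalizerCondition Group.normalizerCondition_of_isNilpotent P
    have hP := CfsgLib.Coprime.isSylowIn_map P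
    have hvP : v ∈ (P : Subgroup (Cfsg.sigmaCore M)).map (Cfsg.sigmaCore M).subtype :=
      ⟨⟨v, hv⟩, RankTwoTower.mem_sylow_of_normal P ⟨n, Subtype.ext hn⟩, rfl⟩
    have hc := derived_centralizes_non_beta hG hM (r := r) (not_beta hG hM h hrM hr)
      (hP.1.trans (map_subtype_le _)) hP.isPGroup ht (hcop.coprime_dvd_right hrM)
      (sylow_normal hG hM h hP (commutator_le_self M ht))
    exact mem_centralizer_singleton_iff.2 (mem_centralizer_iff.1 hc v hvP)
  exact mem_centralizer_iff.2 fun y hy => mem_centralizer_singleton_iff.1 (hle hy)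

variable {K U : Subgroup G} (d : Cfsg.IsSigmaDecomposition M K U)
include d

/-- `M' ≤ F(M)`. -/
theorem derived_le_fittingOf (h : Meet M g x) : ⁅M, M⁆ ≤ Cfsg.fittingOf M := by
  have hE := Decomp.compl hG hM d
  refine (Compl.derived_le_sup hG hM hE).trans (sup_le ?_ fun t ht => ?_)
  · rw [← fittingHall_eq hG hM h]
    exact Chain.fittingHallOf_le_fittingOf M
  · rw [Chain.fittingOf_eq hG hM d]
    refine mem_sup_left (mem_inf.2 ⟨(commutator_le_self _).trans hE.1 ht, ?_⟩)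
    rw [fittingHall_eq hG hM h]
    exact derived_centralizes hG hM h (commutator_mono hE.1 hE.1 ht)
      ((compl_coprime hG hM hE).coprime_dvd_left
        ((Subgroup.orderOf_dvd_natCard _ (commutator_le_self _ ht))))

/-- `F(M)` is a TI-subset for type P2. -/
theorem false_of_U_ne_bot (h : Meet M g x) (hK1 : K ≠ ⊥) (hU : U ≠ ⊥) : False := by
  refine sigmaCore_ne_bot hG hM (le_bot_iff.1 ?_)
  obtain ⟨-, hfix⟩ := nilpotent_of_U_ne_bot hG hM d hU
  refine le_trans (le_inf le_rfl (le_centralizer_iff.1 fun u hu => ?_)) hfix.le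
  refine derived_centralizes hG hM h ?_ ?_
  · rw [KappaDerived.derived_eq hG hM d hK1]
    exact mem_sup_left hu
  · exact ((compl_coprime hG hM (Decomp.compl hG hM d)).coprime_dvd_left
      ((Subgroup.orderOf_dvd_natCard _ hu).trans (card_dvd_of_le le_sup_right)))

omit d in
/-- `F(M)` is TI unless some data meet. -/
theorem ti_of_not_meet (h : ∀ g x, ¬ Meet M g x) :
    Cfsg.IsTISubset (Cfsg.fittingOf M : Set G) := fun g hg x hx hgx => by
  by_contra hx1
  exact h g x ⟨fun e => hg (Chain.fittingOf_normal M e), hx1, hx, hgx⟩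

end CfsgLib.CFun.FitTI
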