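import Cfsg.Agent.Lib.CFun.OddFitting
import Cfsg.Agent.Lib.Qd.Unstable
import Cfsg.Agent.S0664

/-!
# Uniqueness from a large Fitting subgroup
-/

set_option autoImplicit false
set_option linter.style.haveILetI false
set_option linter.unusedSectionVars false

open Subgroup
open scoped commutatorElement
open CfsgLib.Coprime (conjBy conjBy_conjBy conjBy_one conjBy_eq_self_iff mem_conjBy conj_mem_conjBy
  conj_mem_of_le_normalizer)

namespace CfsgLib.CFun

universe u

variable {G : Type u} [Group G] [Finite G] {H A : Subgroup G} {p : ℕ} [hp : Fact p.Prime]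

theorem le_normalizer_core_of_normalizer {Y : Subgroup G} {q : ℕ} [Fact q.Prime] :
    normalizer (Y : Set G) ≤ normalizer (core Y q : Set G) := by
  rw [core, CfsgLib.Coprime.pCore_eq_piCore]
  exact le_normalizer_piCoreOf_of_le Y

theorem coCore_eq_bot_iff {L : Subgroup G} : coCore L p = ⊥ ↔ Cfsg.pPrimeCore p L = ⊥ :=
  Subgroup.map_eq_bot_iff_of_injective _ L.subtype_injective

theorem IsMaxInv.conj_of_mem {F Q : Subgroup G} {q : ℕ} (hQ : IsMaxInv F q Q) {g : G}
    (hg : g ∈ normalizer (F : Set G)) : IsMaxInv F q (conjBy g Q) := by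
  have hF : ∀ {g : G}, g ∈ normalizer (F : Set G) → ∀ {R : Subgroup G},
      F ≤ normalizer (R : Set G) → F ≤ normalizer (conjBy g R : Set G) := by
    intro g hg R hR a ha
    refine conjBy_eq_self_iff.1 ?_
    have h1 := conjBy_eq_self_iff.2 (hR ((mem_normalizer_iff''.1 hg a).1 ha))
    conv_rhs => rw [← h1]
    rw [conjBy_conjBy, conjBy_conjBy]
    congr 1
    group
  refine ⟨hQ.1.map _, hF hg hQ.2.1, fun R hR hFR hle => ?_⟩
  have h1 : Q ≤ conjBy g⁻¹ R := fun x hx => by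
    rw [mem_conjBy, inv_inv]; exact hle (conj_mem_conjBy hx)
  have h2 := hQ.2.2 _ (hR.map _) (hF (inv_mem hg) hFR) h1
  rw [← h2, conjBy_conjBy, mul_inv_cancel, conjBy_one]

variable (hG : Cfsg.IsMinSimpleOddOrder G) (hH : IsCoatom H)
include hG hH

/-- A transitive triple with trivial conjugating group leaves no invariant `q`-subgroup. -/
theorem inv_q_eq_bot {q : ℕ} [Fact q.Prime] (hd : TransData A q)
    (hΘ : Cfsg.piCoreOf (Cfsg.primesNotDvd (Nat.card A)) (centralizer (A : Set G)) = ⊥)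
    (htr : IsTrans A q) (hAF : A ≤ Cfsg.fittingOf H)
    (hπ : ∀ r : ℕ, r.Prime → r ∣ Nat.card (Cfsg.fittingOf H) → r ∣ Nat.card A)
    (hin : ∀ Y : Subgroup G, Y ≤ H → A ≤ normalizer (Y : Set G) → IsPGroup q Y → Y = ⊥)
    {Y : Subgroup G} (hY : IsPGroup q Y) (hAY : A ≤ normalizer (Y : Set G)) : Y = ⊥ := by
  obtain ⟨Q, hQ, hYQ⟩ := exists_isMaxInv_ge hY hAY
  haveI := CfsgLib.Coprime.fitting_isNilpotent (G := H)
  haveI : Group.IsNilpotent (Cfsg.fittingOf H) :=
    Group.nilpotent_of_surjective _ (H.subtype.subgroupMap_surjective (Cfsg.fittingSubgroup H))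
  have hFtop : Cfsg.fittingOf H ≠ ⊤ := fun e => hH.1 (top_le_iff.1 (e ▸ fittingOf_le))
  obtain ⟨-, hsub⟩ := hd.subnormal htr hFtop hAF hπ (CfsgLib.PGroup.isSubnormal_of_isNilpotent _)
  have huniq : ∀ R : Subgroup G, IsMaxInv A q R → R = Q := fun R hR => by
    obtain ⟨c, hc, e⟩ := htr Q R hQ hR
    rw [hΘ, mem_bot] at hc
    rw [e, hc, conjBy_one]
  obtain ⟨R, hR, -⟩ := exists_isMaxInv_ge (A := Cfsg.fittingOf H) (q := q)
    (U := (⊥ : Subgroup G)) IsPGroup.of_bot (by rw [normalizer_eq_top]; exact le_top)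
  have hRQ := huniq R (hsub R hR)
  subst hRQ
  have hn : H ≤ normalizer (R : Set G) := fun g hg => conjBy_eq_self_iff.1
    (huniq _ (hsub _ (hR.conj_of_mem (le_normalizer_fittingOf hg))))
  refine le_bot_iff.1 (hYQ.trans (le_of_eq ?_))
  by_contra hR1
  have hRH : R ≤ H := ((hH.le_iff.1 hn).resolve_left
    (ms_normalizer_ne_top hG hR1 (ms_isPGroup_ne_top hG hR.1))) ▸ le_normalizer
  exact hR1 (hin R hRH hQ.2.1 hR.1)

omit hH in
/-- From invariant `q`-subgroups to invariant `π'`-subgroups. -/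
theorem inv_eq_bot_of_q {Y : Subgroup G} {S : Finset ℕ} {s₀ : ℕ} (hs₀ : s₀ ∈ S)
    (hs₀G : s₀ ∣ Nat.card G) (hY : ∀ s ∈ S, ¬ s ∣ Nat.card Y) (hAY : A ≤ normalizer (Y : Set G))
    (hq : ∀ q : ℕ, q.Prime → q ∉ S → ∀ W : Subgroup G, IsPGroup q W →
      A ≤ normalizer (W : Set G) → W = ⊥) : Y = ⊥ := by
  have hYtop : Y ≠ ⊤ := by
    rintro rfl
    exact hY s₀ hs₀ (by rwa [card_top])
  haveI : Group.IsSolvable Y := ms_solvable hG hYtop
  have hF : Cfsg.fittingOf Y = ⊥ := le_bot_iff.1 (fittingOf_le_of_cores fun t ht => by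
    haveI : Fact t.Prime := ⟨ht⟩
    by_cases hne : core Y t = ⊥
    · rw [hne]
    · refine (hq t ht (fun htS => hY t htS ((dvd_of_core_ne_bot hne).trans
        (card_dvd_of_le fittingOf_le))) _ isPGroup_core
        (hAY.trans le_normalizer_core_of_normalizer)).le)
  refine le_bot_iff.1 (le_trans (le_inf le_rfl ?_) (centralizer_fittingOf_le.trans hF.le))
  rw [hF]
  intro y _
  rw [mem_centralizer_iff]
  intro a ha
  rw [mem_bot.1 ha, one_mul, mul_one]

/-- The case where `F(M)` is not a `p`-group. -/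
theorem unique_fitting_centralizer {A₀ : Subgroup G} (hA₀ : A₀ ≤ Cfsg.fittingOf H)
    (hA₀e : Cfsg.IsElementaryAbelian p A₀) (hA₀3 : p ^ 3 ≤ Nat.card A₀)
    (hnp : ¬ IsPGroup p ↥(Cfsg.fittingOf H)) :
    Cfsg.InUniqueMaximal (Cfsg.fittingOf H ⊓ centralizer (A₀ : Set G)) := by
  set A := Cfsg.fittingOf H ⊓ centralizer (A₀ : Set G) with hAdef
  have hAF : A ≤ Cfsg.fittingOf H := inf_le_left
  have hAH : A ≤ H := hAF.trans fittingOf_le
  have hA₀A : A₀ ≤ A := le_inf hA₀ fun a ha => mem_centralizer_iff.2 fun b hb =>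
    congrArg Subtype.val (hA₀e.1.is_comm.comm (⟨b, hb⟩ : A₀) ⟨a, ha⟩)
  have hA₀p : IsPGroup p A₀ := fun a => ⟨1, Subtype.ext (by rw [pow_one]; exact hA₀e.2 a a.2)⟩
  have hA₀core : A₀ ≤ core H p := le_core_of_le_fittingOf hA₀ hA₀p
  have hC : ∀ s : ℕ, s.Prime → core H s ⊓ centralizer ((A ⊓ core H s : Subgroup G) : Set G) ≤ A := by
    intro s hs
    haveI : Fact s.Prime := ⟨hs⟩
    refine le_inf (inf_le_left.trans core_le_fittingOf) ?_
    rcases eq_or_ne s p with rfl | hne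
    · exact inf_le_right.trans (centralizer_le (le_inf hA₀A hA₀core))
    · exact inf_le_left.trans ((le_centralizer_of_inf_eq_bot (core_le.trans le_normalizer_core)
        (core_le.trans le_normalizer_core) (inf_eq_bot_of_isPGroup isPGroup_core
          (not_dvd_of_isPGroup hne.symm isPGroup_core))).trans (centralizer_le hA₀core))
  have hZ : ∀ s : ℕ, s.Prime → zCore H s ≤ A := fun s hs => by
    haveI : Fact s.Prime := ⟨hs⟩
    exact le_inf (zCore_le.trans core_le_fittingOf) (zCore_le_center.trans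
      (inf_le_right.trans (centralizer_le hA₀)))
  have hpA₀ : p ∣ Nat.card A₀ := by
    obtain ⟨k, hk⟩ := IsPGroup.iff_card.1 hA₀p
    rcases k with _ | k
    · rw [hk, pow_zero] at hA₀3
      exact absurd hA₀3 (not_le.2 (Nat.one_lt_pow (by norm_num) hp.out.one_lt))
    · exact hk ▸ dvd_pow_self p k.succ_ne_zero
  have hpF : p ∣ Nat.card (Cfsg.fittingOf H) := hpA₀.trans (card_dvd_of_le hA₀)
  have h2 : 2 ≤ (Nat.card (Cfsg.fittingOf H)).primeFactors.card := by
    by_contra h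
    refine hnp (IsPGroup.of_card (n := (Nat.card (Cfsg.fittingOf H)).primeFactorsList.length) ?_)
    refine Nat.eq_prime_pow_of_unique_prime_dvd Nat.card_pos.ne' fun {d} hd hdd => ?_
    refine Finset.card_le_one.1 (by omega) d (Nat.mem_primeFactors.2 ⟨hd, hdd, Nat.card_pos.ne'⟩) p
      (Nat.mem_primeFactors.2 ⟨hp.out, hpF, Nat.card_pos.ne'⟩)
  have hTH := transitivityHypothesis_fitting hG hH hAF hC hZ h2
  have hne : core H p ≠ ⊥ := core_ne_bot_of_dvd hpF
  have hCH : centralizer (A : Set G) ≤ H :=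
    (centralizer_le (hZ p hp.out)).trans (centralizer_zCore_le hG hH hne)
  have hΘ : Cfsg.piCoreOf (Cfsg.primesNotDvd (Nat.card A)) (centralizer (A : Set G)) = ⊥ :=
    eq_bot_of_centralizes hG hH hAF hC hZ ((piCoreOf_le _).trans hCH) (piCoreOf_le _)
      fun s hs hd hd' => by
        haveI : Fact s.Prime := ⟨hs⟩
        exact (isPiNum_piCoreOf _ s hs hd').2 (dvd_of_dvd_fittingOf hG hH hAF hC hZ hd)
  refine ⟨H, ⟨hH, hAH⟩, fun L hL => unique_of_inv hG hH h2 hAH hZ (fun Y hAY hY => ?_) hL.1 hL.2⟩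
  have hpS : p ∈ (Nat.card (Cfsg.fittingOf H)).primeFactors :=
    Nat.mem_primeFactors.2 ⟨hp.out, hpF, Nat.card_pos.ne'⟩
  refine inv_eq_bot_of_q hG hpS (hpF.trans (card_subgroup_dvd_card _)) hY hAY
    fun q hq hqS W hW hAW => ?_
  haveI : Fact q.Prime := ⟨hq⟩
  have hqA : ¬ q ∣ Nat.card A := fun hd =>
    hqS (Nat.mem_primeFactors.2 ⟨hq, hd.trans (card_dvd_of_le hAF), Nat.card_pos.ne'⟩)
  have hd : TransData A q := ⟨hTH, hG.2.1, hG.2.2.1, hG.2.2.2, hqA⟩
  refine inv_q_eq_bot hG hH hd hΘ (fun Q₁ Q₂ h₁ h₂ => hd.transitive_three (p := p)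
      (le_inf hA₀A (le_centralizer_iff.1 inf_le_right)) hA₀e hA₀3
      (fun e => hqS (e ▸ hpS)) h₁ h₂) hAF
    (fun r hr hdr => haveI : Fact r.Prime := ⟨hr⟩; dvd_of_dvd_fittingOf hG hH hAF hC hZ hdr)
    (fun Y' hY'H hAY' hY' => eq_bot_of_invariant_le hG hH hAF hC hZ hY'H hAY' fun s hs hds hd' => ?_)
    hW hAW
  haveI : Fact s.Prime := ⟨hs⟩
  exact not_dvd_of_isPGroup (fun e : q = s =>
    hqS (Nat.mem_primeFactors.2 ⟨hq, e ▸ hds, Nat.card_pos.ne'⟩)) hY' hd'

omit hH in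
/-- A maximal subgroup with trivial `p'`-core holds a Sylow `p`-subgroup of `G`, with `Z(J)` of it
normal. -/
theorem full_sylow {L : Subgroup G} (hL : IsCoatom L) (hO : coCore L p = ⊥) (hpL : p ∣ Nat.card L)
    {T : Subgroup G} (hTL : T ≤ L) (hT : IsPGroup p T)
    (hmax : ∀ U : Subgroup G, IsPGroup p U → U ≤ L → T ≤ U → U = T) :
    L = normalizer (Cfsg.centerThompsonAOf T : Set G) ∧
      ∀ U : Subgroup G, IsPGroup p U → T ≤ U → U = T := by
  haveI : Group.IsSolvable L := ms_solvable hG hL.1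
  have hp2 := ms_ne_two hG (hpL.trans (card_subgroup_dvd_card L))
  have hc := CfsgLib.Invol.centralizer_pCore_le_of_solvable (coCore_eq_bot_iff.1 hO)
  obtain ⟨S, hS⟩ := (hT.of_equiv (subgroupOfEquivOfLe hTL).symm).exists_le_sylow
  have hTS : (S : Subgroup L).map L.subtype = T := hmax _ (S.2.map _) (map_subtype_le _)
    (fun x hx => ⟨⟨x, hTL hx⟩, hS hx, rfl⟩)
  haveI hZn := Cfsg.Agent.S0664.result hp2
    (CfsgLib.Char.qdFree_of_odd hp2 (hG.1.of_dvd_nat (card_subgroup_dvd_card L))) hc S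
  have hW : Cfsg.IsCharPFunctor.{u} p
      (CfsgLib.Fusion.zjFun : ∀ (A : Type u) [Group A], Subgroup A) :=
    ⟨(CfsgLib.Fusion.qdFunctor_zjFun hp2).nontrivial, (CfsgLib.Fusion.qdFunctor_zjFun hp2).natural⟩
  have hz : ∀ {X : Type u} [Group X] [Finite X] (S : Subgroup X),
      Cfsg.centerThompsonAOf S = Cfsg.inducedFunctor CfsgLib.Fusion.zjFun S :=
    fun S => (CfsgLib.Fusion.wSub_zjFun S).symm
  set Z := Cfsg.centerThompsonAOf T with hZdef
  have hZmap : Z = (Cfsg.centerThompsonAOf (S : Subgroup L)).map L.subtype := by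
    rw [hZdef, ← hTS, hz, hz]
    exact induced_map hW S.2 L.subtype L.subtype_injective
  have hSne : T ≠ ⊥ := by
    intro h
    have := S.card_eq_multiplicity
    rw [← card_map_of_injective L.subtype_injective, hTS, h, card_bot] at this
    have h1 := (hp.out.dvd_iff_one_le_factorization Nat.card_pos.ne').1 hpL
    exact absurd this.symm (ne_of_gt (Nat.one_lt_pow (by omega) hp.out.one_lt))
  have hZ1 : Z ≠ ⊥ := by
    rw [hZdef, hz]
    exact induced_ne_bot hW hT hSne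
  have hZL : Z ≤ L := hZmap ▸ map_subtype_le _
  have hLn : L ≤ normalizer (Z : Set G) := fun x hx => by
    rw [hZmap]
    exact le_normalizer_map L.subtype ⟨⟨x, hx⟩,
      (normalizer_eq_top (Cfsg.centerThompsonAOf (S : Subgroup L))).symm ▸ mem_top _, rfl⟩
  have hNZ := ms_normalizer_eq hG hL hZL hZ1 hLn
  refine ⟨hNZ.symm, fun U hU hTU => ?_⟩
  by_contra hne
  refine CfsgLib.Invol.normalizer_grows hU hTU (Ne.symm hne) ?_
  refine (hmax _ (hU.to_le inf_le_right) (inf_le_left.trans ?_)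
    (le_inf le_normalizer hTU)).le
  rw [← hNZ]
  intro g hg
  refine conjBy_eq_self_iff.1 ?_
  rw [hZdef, hz]
  show (Cfsg.inducedFunctor CfsgLib.Fusion.zjFun T).map (MulAut.conj g).toMonoidHom = _
  rw [← induced_map hW hT (MulAut.conj g).toMonoidHom (MulAut.conj g).injective]
  exact congrArg (fun X => Cfsg.inducedFunctor CfsgLib.Fusion.zjFun X) (conjBy_eq_self_iff.2 hg)

omit hH in
/-- Maximal subgroups over `A` with trivial `p'`-cores coincide. -/
theorem eq_of_coCores (hA1 : A ≠ ⊥) (hAp : IsPGroup p A)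
    (hO : ∀ L : Subgroup G, IsCoatom L → A ≤ L → coCore L p = ⊥) :
    ∀ (n : ℕ) (T M L : Subgroup G), IsPGroup p T → A ≤ T → Nat.card G - Nat.card T = n →
      IsCoatom M → IsCoatom L → T ≤ M → T ≤ L → M = L := by
  intro n
  induction n using Nat.strongRecOn with
  | ind n ih =>
  intro T M L hT hAT hn hM hL hTM hTL
  by_cases hbig : ∃ U : Subgroup G, IsPGroup p U ∧ T < U ∧ U ≤ M ∧ U ≤ L
  · obtain ⟨U, hU, hlt, hUM, hUL⟩ := hbig
    refine ih _ ?_ U M L hU (hAT.trans hlt.le) rfl hM hL hUM hUL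
    have h1 : Nat.card T < Nat.card U := Set.Finite.card_lt_card (Set.toFinite _) hlt
    have := card_le_card_group U
    omega
  push Not at hbig
  have hpA : p ∣ Nat.card A := by
    obtain ⟨k, hk⟩ := IsPGroup.iff_card.1 hAp
    rcases k with _ | k
    · exact absurd (card_eq_one.1 (by rw [hk, pow_zero])) hA1
    · exact hk ▸ dvd_pow_self p k.succ_ne_zero
  have hsyl : ∀ {K : Subgroup G}, IsCoatom K → T ≤ K →
      (∀ U : Subgroup G, IsPGroup p U → U ≤ K → T ≤ U → U = T) →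
      K = normalizer (Cfsg.centerThompsonAOf T : Set G) ∧
        ∀ U : Subgroup G, IsPGroup p U → T ≤ U → U = T := fun hK hTK hmax =>
    full_sylow hG hK (hO _ hK (hAT.trans hTK)) (hpA.trans (card_dvd_of_le (hAT.trans hTK))) hTK hT hmax
  by_cases hmM : ∀ U : Subgroup G, IsPGroup p U → U ≤ M → T ≤ U → U = T
  · obtain ⟨eM, hfull⟩ := hsyl hM hTM hmM
    obtain ⟨eL, -⟩ := hsyl hL hTL fun U hU _ hTU => hfull U hU hTU
    rw [eM, eL]
  by_cases hmL : ∀ U : Subgroup G, IsPGroup p U → U ≤ L → T ≤ U → U = T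
  · obtain ⟨eL, hfull⟩ := hsyl hL hTL hmL
    obtain ⟨eM, -⟩ := hsyl hM hTM fun U hU _ hTU => hfull U hU hTU
    rw [eM, eL]
  push Not at hmM hmL
  obtain ⟨U₁, hU₁, hU₁M, hTU₁, hne₁⟩ := hmM
  obtain ⟨U₂, hU₂, hU₂L, hTU₂, hne₂⟩ := hmL
  set N := normalizer (T : Set G) with hN
  obtain ⟨L', hL', hNL'⟩ := (eq_top_or_exists_le_coatom N).resolve_left
    (ms_normalizer_ne_top hG (ne_bot_of_le_ne_bot hA1 hAT) (ms_isPGroup_ne_top hG hT))
  have hgrow : ∀ {U : Subgroup G}, IsPGroup p U → T ≤ U → U ≠ T → T < N ⊓ U := fun hU hTU hne =>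
    lt_of_le_not_ge (le_inf le_normalizer hTU) (CfsgLib.Invol.normalizer_grows hU hTU hne.symm)
  have key : ∀ {K U : Subgroup G}, IsCoatom K → IsPGroup p U → U ≤ K → T ≤ U → U ≠ T → K = L' := by
    intro K U hK hU hUK hTU hne
    have hlt := hgrow hU hTU hne
    refine ih _ ?_ (N ⊓ U) K L' (hU.to_le inf_le_right) (hAT.trans hlt.le) rfl hK hL'
      (inf_le_right.trans hUK) (inf_le_left.trans hNL')
    have h1 : Nat.card T < Nat.card ↥(N ⊓ U) := Set.Finite.card_lt_card (Set.toFinite _) hlt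
    have := card_le_card_group (N ⊓ U)
    omega
  rw [key hM hU₁ hU₁M hTU₁ hne₁, key hL hU₂ hU₂L hTU₂ hne₂]

omit hH in
/-- The `p`-stable containment of abelian normal subgroups of a Sylow subgroup. -/
theorem scn_le_core (hH' : H ≠ ⊤) (hp2 : p ≠ 2) (hO : coCore H p = ⊥) (P : Sylow p H)
    (hA : Cfsg.IsSCN ((P : Subgroup H).map H.subtype) A) : A ≤ core H p := by
  haveI : Group.IsSolvable H := ms_solvable hG hH'
  haveI := CfsgLib.Coprime.pCore_normal' (G := H) p
  set V := Cfsg.pCore p H with hV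
  obtain ⟨hAP, hPA, hAc⟩ := hA
  have hAH : A ≤ H := hAP.trans (map_subtype_le _)
  have hVp : IsPGroup p V := CfsgLib.Coprime.pCore_isPGroup p
  have hc : centralizer (V : Set H) ≤ V :=
    CfsgLib.Invol.centralizer_pCore_le_of_solvable (coCore_eq_bot_iff.1 hO)
  have hVP : V ≤ (P : Subgroup H) := le_sup_left.trans
    (P.3 (hVp.to_sup_of_normal_left P.2) le_sup_right).le
  have hst : Cfsg.IsPStableOn p V := by
    by_contra hcon
    exact CfsgLib.Char.qdFree_of_odd hp2 (hG.1.of_dvd_nat (card_subgroup_dvd_card H))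
      (CfsgLib.Qd.sections_of_not_isPStableOn hp2 V hVp hcon).1
  have hab : ∀ x ∈ A, ∀ y ∈ A, x * y = y * x := fun x hx y hy =>
    mem_centralizer_iff.1 (hAc.symm.le hy).2 x hx
  intro x hx
  set a : H := ⟨x, hAH hx⟩
  have h1 : ⁅V, zpowers a⁆ ≤ A.subgroupOf H := by
    rw [commutator_le]
    intro v hv b hb
    have hbA : (b : G) ∈ A := (zpowers_le.2 (show a ∈ A.subgroupOf H from hx)) hb
    show ((⁅v, b⁆ : H) : G) ∈ A
    rw [commutatorElement_def]
    exact mul_mem (conj_mem_of_le_normalizer hPA ⟨v, hVP hv, rfl⟩ hbA) (inv_mem hbA)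
  have h2 : ⁅⁅V, zpowers a⁆, zpowers a⁆ = ⊥ :=
    commutator_eq_bot_iff_le_centralizer.2 fun y hy => mem_centralizer_iff.2 fun b hb =>
      Subtype.ext (hab (b : G) ((zpowers_le.2 (show a ∈ A.subgroupOf H from hx)) hb) (y : G) (h1 hy))
  have h3 := hst a h2
  set C := centralizer (V : Set H)
  have hker : IsPGroup p (QuotientGroup.mk' C).ker := by
    rw [QuotientGroup.ker_mk']
    exact hVp.to_le hc
  haveI := CfsgLib.Coprime.pCore_normal' (G := H ⧸ C) p
  have h4 : (Cfsg.pCore p (H ⧸ C)).comap (QuotientGroup.mk' C) ≤ V :=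
    CfsgLib.Coprime.le_pCore (IsPGroup.comap_of_ker_isPGroup (CfsgLib.Coprime.pCore_isPGroup p)
      (QuotientGroup.mk' C) hker)
  exact ⟨a, h4 h3, rfl⟩

/-- The case where `F(M)` is a `p`-group. -/
theorem unique_scn (hF : IsPGroup p ↥(Cfsg.fittingOf H)) (hpF : p ∣ Nat.card (Cfsg.fittingOf H))
    (P : Sylow p H) :
    (∀ U : Subgroup G, IsPGroup p U → (P : Subgroup H).map H.subtype ≤ U →
      U = (P : Subgroup H).map H.subtype) ∧
    ∀ A : Subgroup G, Cfsg.IsSCN ((P : Subgroup H).map H.subtype) A → ¬ Cfsg.PRankLE p 2 ↥A →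
      A ≤ Cfsg.fittingOf H ∧ Cfsg.InUniqueMaximal A := by
  haveI : Group.IsSolvable H := ms_solvable hG hH.1
  have hpH : p ∣ Nat.card H := hpF.trans (card_dvd_of_le fittingOf_le)
  have hp2 := ms_ne_two hG (hpH.trans (card_subgroup_dvd_card H))
  have hother : ∀ s : ℕ, s.Prime → s ≠ p → core H s = ⊥ := fun s hs hne => by
    haveI : Fact s.Prime := ⟨hs⟩
    by_contra h
    exact not_dvd_of_isPGroup hne.symm hF (dvd_of_core_ne_bot h)
  have hO : coCore H p = ⊥ := by
    refine le_bot_iff.1 (le_trans (le_inf ?_ le_rfl)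
      (inf_eq_bot_of_isPGroup hF (not_dvd_coCore (H := H) (s := p))).le)
    refine le_trans (le_inf coCore_le ?_) centralizer_fittingOf_le
    exact le_centralizer_of_inf_eq_bot (coCore_le.trans le_normalizer_fittingOf)
      (fittingOf_le.trans le_normalizer_coCore)
      ((inf_comm _ _).trans (inf_eq_bot_of_isPGroup hF not_dvd_coCore))
  set T := (P : Subgroup H).map H.subtype with hTdef
  have hTH : T ≤ H := map_subtype_le _
  have hTp : IsPGroup p T := P.2.map _
  have hmaxH : ∀ U : Subgroup G, IsPGroup p U → U ≤ H → T ≤ U → U = T := fun U hU hUH hTU => by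
    have := P.3 (hU.of_equiv (subgroupOfEquivOfLe hUH).symm) (fun x hx => hTU ⟨x, hx, rfl⟩)
    rw [hTdef, ← this, map_subgroupOf_eq_of_le hUH]
  have hfull := (full_sylow hG hH hO hpH hTH hTp hmaxH).2
  refine ⟨hfull, fun A hA hrk => ?_⟩
  have hAF : A ≤ Cfsg.fittingOf H :=
    (scn_le_core hG hH.1 hp2 hO P hA).trans core_le_fittingOf
  refine ⟨hAF, ?_⟩
  have hcoreT : core H p ≤ T := map_mono (le_sup_left.trans
    (P.3 (haveI := CfsgLib.Coprime.pCore_normal' (G := H) p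
      (CfsgLib.Coprime.pCore_isPGroup p).to_sup_of_normal_left P.2) le_sup_right).le)
  obtain ⟨hAT, hTA, hAc⟩ := hA
  have hAH : A ≤ H := hAT.trans hTH
  have hAp : IsPGroup p A := hTp.to_le hAT
  have hAC : A ≤ centralizer (A : Set G) := hAc.symm.le.trans inf_le_right
  have hAcore : A ≤ core H p := le_core_of_le_fittingOf hAF hAp
  have hC : ∀ s : ℕ, s.Prime → core H s ⊓ centralizer ((A ⊓ core H s : Subgroup G) : Set G) ≤ A := by
    intro s hs
    rcases eq_or_ne s p with rfl | hne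
    · rw [inf_eq_left.2 hAcore]
      exact (inf_le_inf_right _ hcoreT).trans hAc.le
    · rw [hother s hs hne, bot_inf_eq]; exact bot_le
  have hZ : ∀ s : ℕ, s.Prime → zCore H s ≤ A := by
    intro s hs
    haveI : Fact s.Prime := ⟨hs⟩
    rcases eq_or_ne s p with rfl | hne
    · exact (le_inf (zCore_le.trans hcoreT) (zCore_le_center.trans
        (inf_le_right.trans (centralizer_le hAF)))).trans hAc.le
    · exact zCore_le.trans ((hother s hs hne).le.trans bot_le)
  have hne : core H p ≠ ⊥ := core_ne_bot_of_dvd hpF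
  have hA1 : A ≠ ⊥ := ne_bot_of_le_ne_bot (zCore_ne_bot hne) (hZ p hp.out)
  simp only [Cfsg.PRankLE, not_forall, not_le] at hrk
  obtain ⟨E, hEc, hEe, hEk⟩ := hrk
  have hPG : ∀ U : Subgroup G, IsPGroup p U → T ≤ U → U = T := hfull
  let S : Sylow p G := ⟨T, hTp, fun hU hle => hPG _ hU hle⟩
  have hscn : Cfsg.IsSCN (S : Subgroup G) A := ⟨hAT, hTA, hAc⟩
  have hTHyp : Cfsg.TransitivityHypothesis A := by
    refine transitivityHypothesis_of_local hAp hA1
      (fun e => hH.1 (top_le_iff.1 (e ▸ hAH))) fun X hX hAX K hK hAK => ?_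
    haveI := ms_solvable hG hX
    refine le_pPrimeCore_of_invariant pCons_of_isSolvable
      (hAp.of_equiv (subgroupOfEquivOfLe hAX).symm)
      (fun x hx hxp => scn_full S hscn x ?_ ?_) (fun h => absurd h hp2) hK hAK
    · exact mem_centralizer_iff.2 fun b hb =>
        congrArg Subtype.val (mem_centralizer_iff.1 hx ⟨b, hAX hb⟩ hb)
    · have h1 := hxp.map X.subtype
      rwa [MonoidHom.map_zpowers] at h1
  have hπ : ∀ r : ℕ, r.Prime → r ∣ Nat.card (Cfsg.fittingOf H) → r ∣ Nat.card A :=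
    fun r hr hd => haveI : Fact r.Prime := ⟨hr⟩; dvd_of_dvd_fittingOf hG hH hAF hC hZ hd
  have hΘ : Cfsg.piCoreOf (Cfsg.primesNotDvd (Nat.card A)) (centralizer (A : Set G)) = ⊥ :=
    eq_bot_of_centralizes hG hH hAF hC hZ ((piCoreOf_le _).trans
      ((centralizer_le (hZ p hp.out)).trans (centralizer_zCore_le hG hH hne))) (piCoreOf_le _)
      fun s hs hd hd' => (isPiNum_piCoreOf _ s hs hd').2 (hπ s hs hd)
  haveI := hEc
  set E' := E.map A.subtype with hE'
  have hE'e : Cfsg.IsElementaryAbelian p E' :=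
    ⟨inferInstance, by rintro _ ⟨b, hb, rfl⟩; rw [← map_pow, hEe b hb, map_one]⟩
  have hE'3 : p ^ 3 ≤ Nat.card E' := by
    rw [hE', card_map_of_injective A.subtype_injective]
    obtain ⟨k, hk⟩ := IsPGroup.iff_card.1 (hAp.to_subgroup E)
    rw [hk] at hEk ⊢
    exact Nat.pow_le_pow_right hp.out.pos ((Nat.pow_lt_pow_iff_right hp.out.one_lt).1 hEk)
  have hinv : ∀ Y : Subgroup G, A ≤ normalizer (Y : Set G) → ¬ p ∣ Nat.card Y → Y = ⊥ := by
    intro Y hAY hY
    refine inv_eq_bot_of_q hG (S := {p}) (Finset.mem_singleton_self p)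
      (hpH.trans (card_subgroup_dvd_card H)) (fun s hs => Finset.mem_singleton.1 hs ▸ hY) hAY
      fun q hq hqS W hW hAW => ?_
    haveI : Fact q.Prime := ⟨hq⟩
    have hqp : q ≠ p := fun e => hqS (Finset.mem_singleton.2 e)
    have hd : TransData A q :=
      ⟨hTHyp, hG.2.1, hG.2.2.1, hG.2.2.2, not_dvd_of_isPGroup hqp.symm hAp⟩
    refine inv_q_eq_bot hG hH hd hΘ (fun Q₁ Q₂ h₁ h₂ => hd.transitive_three (p := p)
        (le_inf (map_subtype_le E) ((map_subtype_le E).trans hAC)) hE'e hE'3 hqp h₁ h₂) hAF hπ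
      (fun Y' hY'H hAY' hY' => eq_bot_of_invariant_le hG hH hAF hC hZ hY'H hAY'
        fun s hs hds hd' => ?_) hW hAW
    haveI : Fact s.Prime := ⟨hs⟩
    rcases eq_or_ne q s with rfl | hne'
    · exact not_dvd_of_isPGroup hqp.symm hF hds
    · exact not_dvd_of_isPGroup hne' hY' hd'
  refine ⟨H, ⟨hH, hAH⟩, fun L hL => eq_of_coCores hG hA1 hAp (fun L' _ hAL' => hinv _
    (hAL'.trans le_normalizer_coCore) not_dvd_coCore) _ A L H hAp le_rfl rfl hL.1 hH hL.2 hAH⟩

end CfsgLib.CFun
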