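import Cfsg.Agent.Lib.CFun.OddSigmaEmbedding
import Cfsg.Agent.Lib.CFun.OddComplementBase
import Mathlib.GroupTheory.SpecificGroups.ZGroup

/-!
# The commutator structure of `M_σ` and its intersections with conjugates of `M`
-/

set_option autoImplicit false
set_option linter.style.haveILetI false
set_option linter.unusedSectionVars false

open Subgroup
open scoped commutatorElement
open CfsgLib.Coprime (conjBy conjBy_conjBy conjBy_one mem_conjBy)

namespace CfsgLib.CFun.TauTwo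

universe u

variable {G : Type u} [Group G] [Finite G]

/-- A coprime action whose commutator is everything fixes only elements of the derived group. -/
theorem fixed_le_derived_of_commutator_eq {K E : Subgroup G} (hEK : E ≤ normalizer (K : Set G))
    (hcop : (Nat.card E).Coprime (Nat.card K)) (h : ⁅K, E⁆ = K) :
    K ⊓ centralizer (E : Set G) ≤ ⁅K, K⁆ := by
  classical
  haveI := Fintype.ofFinite E
  let ψ : E → K →* Abelianization K := fun e => Abelianization.of.comp
    { toFun := fun k => ⟨e * k * (e : G)⁻¹, (mem_normalizer_iff.1 (hEK e.2) _).1 k.2⟩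
      map_one' := Subtype.ext (by simp)
      map_mul' := fun a b => Subtype.ext (by simp) }
  let ν : K →* Abelianization K := ∏ e : E, ψ e
  have hν : ∀ k : K, ν k = ∏ e : E, ψ e k := fun k => MonoidHom.finsetProd_apply ψ _ k
  have hker : K ≤ ν.ker.map K.subtype := by
    refine h.ge.trans (commutator_le.2 fun k hk e he => ?_)
    have hek : e * k * e⁻¹ ∈ K := (mem_normalizer_iff.1 (hEK he) _).1 hk
    refine ⟨⟨k, hk⟩ * ⟨e * k * e⁻¹, hek⟩⁻¹, ?_, ?_⟩
    · show ν _ = 1
      rw [map_mul, map_inv, mul_inv_eq_one, hν, hν]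
      refine (Fintype.prod_equiv (Equiv.mulRight (⟨e, he⟩ : E)) _ _ fun e' => ?_).symm
      refine congrArg Abelianization.of (Subtype.ext ?_)
      show (e' : G) * (e * k * e⁻¹) * (e' : G)⁻¹ = e' * e * k * ((e' : G) * e)⁻¹
      group
    · show k * (e * k * e⁻¹)⁻¹ = k * e * k⁻¹ * e⁻¹
      group
  rintro c ⟨hcK, hcE⟩
  obtain ⟨k, hk, hkc⟩ := hker hcK
  obtain rfl : k = ⟨c, hcK⟩ := Subtype.ext hkc
  have hk1 : ν ⟨c, hcK⟩ = 1 := hk
  have hfix : ∀ e : E, ψ e ⟨c, hcK⟩ = Abelianization.of (⟨c, hcK⟩ : K) := fun e => by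
    refine congrArg Abelianization.of (Subtype.ext ?_)
    show (e : G) * c * (e : G)⁻¹ = c
    rw [mem_centralizer_iff.1 hcE e e.2, mul_inv_cancel_right]
  rw [hν, Finset.prod_congr rfl (fun e _ => hfix e), Finset.prod_const, Finset.card_univ] at hk1
  have h1 : Abelianization.of (⟨c, hcK⟩ : K) = 1 := by
    refine orderOf_eq_one_iff.1 (Nat.eq_one_of_dvd_coprimes hcop ?_ ?_)
    · rw [Nat.card_eq_fintype_card]
      exact orderOf_dvd_of_pow_eq_one hk1
    · exact (orderOf_map_dvd _ _).trans (orderOf_dvd_natCard _)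
  rw [← map_subtype_commutator K]
  refine ⟨⟨c, hcK⟩, ?_, rfl⟩
  rw [← Abelianization.ker_of]
  exact h1

variable (hG : Cfsg.IsMinSimpleOddOrder G) {M E : Subgroup G} (hM : IsCoatom M)
  (hE : Cfsg.IsComplIn E (Cfsg.sigmaCore M) M)
include hG hM hE

theorem compl_coprime : (Nat.card E).Coprime (Nat.card (Cfsg.sigmaCore M)) := by
  refine Nat.coprime_of_dvd fun r hr hrE hrK => ?_
  haveI : Fact r.Prime := ⟨hr⟩
  exact Compl.compl_not_sigma hG hM hE hrE ((sigmaCore_hall hG hM).1.2.1 r hr hrK)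

theorem commutator_compl : ⁅Cfsg.sigmaCore M, E⁆ = Cfsg.sigmaCore M := by
  set K := Cfsg.sigmaCore M with hKdef
  have hEM : E ≤ M := hE.1
  have hKM : K ≤ M := map_subtype_le _
  have hEK : E ≤ normalizer (K : Set G) := hEM.trans (sigmaCore_normal hG M)
  have hRK : ⁅K, E⁆ ≤ K := commutator_le.2 fun k hk e he => by
    rw [commutatorElement_def, show k * e * k⁻¹ * e⁻¹ = k * (e * k⁻¹ * e⁻¹) by group]
    exact mul_mem hk ((mem_normalizer_iff.1 (hEK he) _).1 (inv_mem hk))
  refine le_antisymm hRK ?_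
  set R := ⁅K, E⁆ with hR
  have hKR : K ≤ normalizer (R : Set G) := normalizer_commutator_ge_left K E
  have hER : E ≤ normalizer (R : Set G) := normalizer_commutator_ge_right K E
  haveI hRn : (R.subgroupOf K).Normal := normal_subgroupOf_of_le_normalizer hKR
  let φ := QuotientGroup.mk' (R.subgroupOf K)
  haveI : Group.IsSolvable K := sigmaCore_solvable hG hM
  haveI : Group.IsSolvable (K ⧸ R.subgroupOf K) :=
    Group.isSolvable_of_surjective (QuotientGroup.mk'_surjective (R.subgroupOf K))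
  by_contra hne
  haveI : Nontrivial (K ⧸ R.subgroupOf K) := by
    rw [QuotientGroup.nontrivial_iff, Ne, subgroupOf_eq_top]
    exact hne
  refine (Group.IsSolvable.commutator_lt_top_of_nontrivial (K ⧸ R.subgroupOf K)).ne ?_
  rw [eq_top_iff]
  rintro x -
  obtain ⟨⟨k, hk⟩, rfl⟩ := QuotientGroup.mk'_surjective _ x
  -- every element of `K` is a product of a commutator and an element of `R`
  set N := ⁅K, K⁆ ⊔ R with hN
  have hKKK : ⁅K, K⁆ ≤ K := commutator_le_self K
  have hNK : N ≤ K := sup_le hKKK hRK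
  have hEN : E ≤ normalizer (N : Set G) := CfsgLib.Coprime.sup_le_normalizer
    (CfsgLib.CFun.le_normalizer_commutator hEK hEK) hER
  have hKN : K ≤ normalizer (N : Set G) := CfsgLib.Coprime.sup_le_normalizer
    (CfsgLib.CFun.le_normalizer_commutator le_normalizer le_normalizer) hKR
  set W := N ⊔ ⁅E, E⁆ with hW
  have hKW : K ≤ normalizer (W : Set G) := fun a ha => by
    refine CfsgLib.Coprime.conjBy_eq_self_iff.1 (eq_of_le_of_card_ge ?_
      (CfsgLib.Coprime.card_conjBy a W).ge)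
    refine (Subgroup.map_sup N ⁅E, E⁆ _).trans_le (sup_le ?_ ?_)
    · exact (CfsgLib.Coprime.conjBy_eq_self_iff.2 (hKN ha)).trans_le le_sup_left
    · rintro _ ⟨y, hy, rfl⟩
      show a * y * a⁻¹ ∈ W
      rw [show a * y * a⁻¹ = ⁅a, y⁆ * y by rw [commutatorElement_def]; group]
      exact mul_mem (mem_sup_left (mem_sup_right
        (commutator_mem_commutator ha (commutator_le_self E hy)))) (mem_sup_right hy)
  have hMder : ⁅M, M⁆ ≤ W := by
    have hMsup : M ≤ K ⊔ E := by
      intro m hm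
      obtain ⟨a, ha, b, hb, rfl⟩ := hE.2.2.2 m hm
      exact mul_mem (mem_sup_right ha) (mem_sup_left hb)
    refine (commutator_mono hMsup hMsup).trans (commutator_le.2 fun a ha b hb => ?_)
    obtain ⟨k₁, hk₁, e₁, he₁, rfl⟩ := CfsgLib.Coprime.mem_sup_exists hEK ha
    obtain ⟨k₂, hk₂, e₂, he₂, rfl⟩ := CfsgLib.Coprime.mem_sup_exists hEK hb
    have hc : ∀ x ∈ K, ∀ y ∈ W, x * y * x⁻¹ ∈ W := fun x hx y hy =>
      (mem_normalizer_iff.1 (hKW hx) y).1 hy
    have c12 : ⁅k₁, k₂⁆ ∈ W := mem_sup_left (mem_sup_left (commutator_mem_commutator hk₁ hk₂))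
    have c1e : ⁅k₁, e₂⁆ ∈ W := mem_sup_left (mem_sup_right (commutator_mem_commutator hk₁ he₂))
    have ce2 : ⁅e₁, k₂⁆ ∈ W := by
      rw [← commutatorElement_inv]
      exact inv_mem (mem_sup_left (mem_sup_right (commutator_mem_commutator hk₂ he₁)))
    rw [show ⁅k₁ * e₁, k₂ * e₂⁆ = (k₁ * (⁅e₁, k₂⁆ * (k₂ * ⁅e₁, e₂⁆ * k₂⁻¹)) * k₁⁻¹) *
        (⁅k₁, k₂⁆ * (k₂ * ⁅k₁, e₂⁆ * k₂⁻¹)) by
      simp only [commutatorElement_def]; group]
    exact mul_mem (hc k₁ hk₁ _ (mul_mem ce2 (hc k₂ hk₂ _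
      (mem_sup_right (commutator_mem_commutator he₁ he₂))))) (mul_mem c12 (hc k₂ hk₂ _ c1e))
  have hkN : k ∈ N := by
    obtain ⟨n, hn, e, he, hne'⟩ := CfsgLib.Coprime.mem_sup_exists
      ((commutator_le_self E).trans hEN) (hMder (sigmaCore_le_derived hG hM hk))
    have he1 : e = 1 := by
      refine mem_bot.1 ((Compl.compl_inf hG hM hE).le (mem_inf.2 ⟨?_, commutator_le_self E he⟩))
      rw [show e = n⁻¹ * k by rw [← hne', inv_mul_cancel_left]]
      exact mul_mem (inv_mem (hNK hn)) hk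
    rw [he1, mul_one] at hne'
    exact hne' ▸ hn
  have hle : N.subgroupOf K ≤ (commutator (K ⧸ R.subgroupOf K)).comap φ := by
    rw [hN, subgroupOf_sup hKKK hRK, ← map_subtype_commutator K,
      show ((commutator K).map K.subtype).subgroupOf K = commutator K from
        comap_map_eq_self_of_injective K.subtype_injective _]
    refine sup_le ?_ ?_
    · rw [← map_le_iff_le_comap, map_commutator_eq]
      exact le_of_eq_of_le rfl (commutator_mono le_top le_top)
    · intro y hy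
      show φ y ∈ commutator (K ⧸ R.subgroupOf K)
      rw [show φ y = 1 from (QuotientGroup.eq_one_iff y).2 hy]
      exact one_mem _
  exact hle (x := ⟨k, hk⟩) hkN

theorem fixed_le_derived :
    Cfsg.sigmaCore M ⊓ centralizer (E : Set G) ≤ ⁅Cfsg.sigmaCore M, Cfsg.sigmaCore M⁆ :=
  fixed_le_derived_of_commutator_eq (hE.1.trans (sigmaCore_normal hG M))
    (compl_coprime hG hM hE) (commutator_compl hG hM hE)

omit hE

/-- `M_σ ∩ M^g` for `g ∉ M`. -/
theorem sigmaCore_inf_conj {g : G} (hg : g ∉ M) :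
    IsCyclic ↥(Cfsg.sigmaCore M ⊓ conjBy g M) ∧
      (∀ p : ℕ, p.Prime → p ∣ Nat.card ↥(Cfsg.sigmaCore M ⊓ conjBy g M) → p ∉ Cfsg.beta M) ∧
      Cfsg.sigmaCore M ⊓ conjBy g M ⊓ ⁅Cfsg.sigmaCore M, Cfsg.sigmaCore M⁆ = ⊥ := by
  set D := Cfsg.sigmaCore M ⊓ conjBy g M with hD
  have hKM : Cfsg.sigmaCore M ≤ M := map_subtype_le _
  -- no nontrivial `σ`-element subgroup of `D` has its centralizer in `M`
  have key : ∀ (r : ℕ) [Fact r.Prime] (X : Subgroup G), IsPGroup r X → X ≠ ⊥ → X ≤ D →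
      ¬ centralizer (X : Set G) ≤ M := by
    intro r _ X hX hX1 hXD hC
    have hrσ : r ∈ Cfsg.sigma M := (sigmaCore_hall hG hM).1.2.1 r Fact.out
      (mem_of_isPGroup hX hX1 (hXD.trans inf_le_left))
    have hgX : conjBy g⁻¹ X ≤ M := by
      refine (Subgroup.map_mono (hXD.trans inf_le_right)).trans (le_of_eq ?_)
      show conjBy g⁻¹ (conjBy g M) = M
      rw [conjBy_conjBy, inv_mul_cancel, conjBy_one]
    obtain ⟨m, hm, c, hc, hmc⟩ :=
      sigma_fusion hG hM hrσ hX hX1 ((hXD.trans inf_le_left).trans hKM) hgX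
    exact hg (inv_inv g ▸ inv_mem (hmc ▸ mul_mem hm (hC hc) : g⁻¹ ∈ M))
  have hcauchy : ∀ p : ℕ, p.Prime → ∀ V : Subgroup G, p ∣ Nat.card V →
      ∃ X : Subgroup G, Nat.card X = p ∧ X ≤ V := by
    intro p hp V hd
    haveI : Fact p.Prime := ⟨hp⟩
    obtain ⟨x, hx⟩ := exists_prime_orderOf_dvd_card' p hd
    exact ⟨zpowers (x : G), by rw [Nat.card_zpowers, orderOf_coe, hx], zpowers_le.2 x.2⟩
  have small : ∀ (p : ℕ) (X : Subgroup G), p.Prime → Nat.card X = p → X ≤ D →
      ¬ (p ∈ Cfsg.beta M ∨ X ≤ ⁅Cfsg.sigmaCore M, Cfsg.sigmaCore M⁆) := by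
    intro p X hp hX hXD h
    haveI : Fact p.Prime := ⟨hp⟩
    have hXp : IsPGroup p X := IsPGroup.of_card (n := 1) (by rw [hX, pow_one])
    have hX1 : X ≠ ⊥ := fun e => hp.ne_one (by rw [← hX, e, card_bot])
    have hpσ : p ∈ Cfsg.sigma M := (sigmaCore_hall hG hM).1.2.1 p hp
      (mem_of_isPGroup hXp hX1 (hXD.trans inf_le_left))
    exact key p X hXp hX1 hXD (sigma_centralizer_unique hG hM hpσ
      ((hXD.trans inf_le_left).trans hKM) hX default h).1.1
  have hbeta : ∀ p : ℕ, p.Prime → p ∣ Nat.card D → p ∉ Cfsg.beta M := fun p hp hd hb => by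
    obtain ⟨X, hX, hXD⟩ := hcauchy p hp D hd
    exact small p X hp hX hXD (Or.inl hb)
  have hder : D ⊓ ⁅Cfsg.sigmaCore M, Cfsg.sigmaCore M⁆ = ⊥ := by
    rw [← card_eq_one]
    by_contra h1
    obtain ⟨p, hp, hd⟩ := Nat.exists_prime_and_dvd h1
    obtain ⟨X, hX, hXD⟩ := hcauchy p hp _ hd
    exact small p X hp hX (hXD.trans inf_le_left) (Or.inr (hXD.trans inf_le_right))
  refine ⟨?_, hbeta, hder⟩
  haveI hab : IsMulCommutative D := ⟨⟨fun a b => Subtype.ext (commutatorElement_eq_one_iff_mul_comm.1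
    (mem_bot.1 (hder.le (mem_inf.2 ⟨commutator_le_self D (commutator_mem_commutator a.2 b.2),
      commutator_mono inf_le_left inf_le_left (commutator_mem_commutator a.2 b.2)⟩))))⟩⟩
  haveI : IsZGroup D := ⟨fun p hp P => by
    haveI : Fact p.Prime := ⟨hp⟩
    by_contra hnc
    set X := (P : Subgroup D).map D.subtype with hXdef
    have hXD : X ≤ D := map_subtype_le _
    have hX : IsPGroup p X := P.2.map _
    have hXc : ¬ IsCyclic X := fun h => hnc
      (((equivMapOfInjective (P : Subgroup D) D.subtype D.subtype_injective).isCyclic).2 h)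
    have hX1 : X ≠ ⊥ := fun e => hXc (by rw [e]; infer_instance)
    have hpσ : p ∈ Cfsg.sigma M := (sigmaCore_hall hG hM).1.2.1 p hp
      (mem_of_isPGroup hX hX1 (hXD.trans inf_le_left))
    exact key p X hX hX1 hXD ((CfsgLib.Coprime.centralizer_le_normalizer_self X).trans
      (normalizer_noncyclic_le hG hM hpσ hX ((hXD.trans inf_le_left).trans hKM) hXc))⟩
  haveI : Group.IsNilpotent D := @CommGroup.isNilpotent D
    { (inferInstance : Group D) with mul_comm := fun a b => hab.1.1 a b }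
  infer_instance

end CfsgLib.CFun.TauTwo
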