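import Cfsg.Agent.Lib.CFun.OddFpfCentralize
import Cfsg.Agent.Lib.CFun.OddNarrowAut
import Cfsg.Agent.Lib.CFun.OddSigmaTrivialInter
import Cfsg.Agent.Lib.PGroup.OmegaOdd

/-!
# An operator whose fixed elements of order `p` are centralized

If `a` has prime order and normalises the `p`-group `T` and the coprime group `Q = [Q, ⟨a⟩]`,
and every element of order `p` of `T` fixed by `a` commutes with `Q`, then `Q` centralises `T`.
-/

set_option autoImplicit false
set_option linter.style.haveILetI false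
set_option linter.unusedSectionVars false

open Subgroup
open scoped commutatorElement

namespace CfsgLib.CFun.FixLine

universe u

variable {G : Type u} [Group G] [Finite G] {p r : ℕ} [hp : Fact p.Prime]

/-- In class two with `p` odd the product of two elements of order dividing `p` has that order. -/
theorem mul_pow_eq_one (hp2 : p ≠ 2) {x y : G} (hx : x ^ p = 1) (hy : y ^ p = 1)
    (hzx : Commute ⁅y, x⁆ x) (hzy : Commute ⁅y, x⁆ y) : (x * y) ^ p = 1 := by
  set z := ⁅y, x⁆ with hz
  have hswap : ∀ n : ℕ, y ^ n * x = z ^ n * x * y ^ n := by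
    intro n
    induction n with
    | zero => simp
    | succ n ih =>
      rw [pow_succ', mul_assoc, ih, ← mul_assoc, ← mul_assoc, ← (hzy.pow_left n).eq,
        mul_assoc (z ^ n) y x, show y * x = z * x * y by rw [hz, commutatorElement_def]; group,
        pow_succ]
      group
  have hpow : ∀ n : ℕ, (x * y) ^ n = z ^ n.choose 2 * (x ^ n * y ^ n) := by
    intro n
    induction n with
    | zero => simp [Nat.choose_eq_zero_of_lt]
    | succ n ih =>
      calc (x * y) ^ (n + 1) = z ^ n.choose 2 * x ^ n * (y ^ n * x) * y := by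
            rw [pow_succ, ih]; group
        _ = z ^ n.choose 2 * (x ^ n * z ^ n) * (x * y ^ n) * y := by rw [hswap]; group
        _ = (z ^ n.choose 2 * z ^ n) * (x ^ n * x) * (y ^ n * y) := by
            rw [(hzx.pow_pow n n).symm.eq]; group
        _ = z ^ (n + 1).choose 2 * (x ^ (n + 1) * y ^ (n + 1)) := by
            rw [← pow_add, ← pow_succ, ← pow_succ,
              show (n + 1).choose 2 = n.choose 2 + n by
                rw [Nat.choose_succ_succ, Nat.choose_one_right, Nat.add_comm], mul_assoc]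
  obtain ⟨l, hl⟩ := hp.out.odd_of_ne_two hp2
  have hch : p.choose 2 = p * l := by
    rw [Nat.choose_two_right, hl, Nat.add_sub_cancel,
      show (2 * l + 1) * (2 * l) = (2 * l + 1) * l * 2 by ring, Nat.mul_div_cancel _ (by norm_num)]
  have hzp : z ^ p = 1 := by
    have h : (y * x * y⁻¹) ^ p = 1 := by rw [conj_pow, hx]; group
    rw [show y * x * y⁻¹ = z * x by rw [hz, commutatorElement_def]; group, hzx.mul_pow, hx,
      mul_one] at h
    exact h
  rw [hpow, hx, hy, hch, pow_mul, hzp]
  simp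

/-- An element normalising `T` and `Q` normalises `⁅T, Q⁆`. -/
theorem mem_normalizer_commutator {T Q : Subgroup G} {g : G} (hT : g ∈ normalizer (T : Set G))
    (hQ : g ∈ normalizer (Q : Set G)) : g ∈ normalizer ((⁅T, Q⁆ : Subgroup G) : Set G) := by
  refine Subgroup.mem_normalizer_iff.2 fun x => ?_
  have e : ∀ S : Subgroup G, g ∈ normalizer (S : Set G) →
      S.map (MulAut.conj g).toMonoidHom = S := fun S hS => by
    ext y
    refine ⟨?_, fun hy => ⟨g⁻¹ * y * g, (Subgroup.mem_normalizer_iff''.1 hS y).1 hy,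
      by simp [MulAut.conj_apply, mul_assoc]⟩⟩
    rintro ⟨t, ht, rfl⟩
    exact (Subgroup.mem_normalizer_iff.1 hS t).1 ht
  have h : (⁅T, Q⁆ : Subgroup G).map (MulAut.conj g).toMonoidHom = ⁅T, Q⁆ := by
    rw [map_commutator, e T hT, e Q hQ]
  constructor
  · intro hx
    rw [← h]
    exact ⟨x, hx, rfl⟩
  · intro hx
    rw [← h] at hx
    obtain ⟨x', hx', e'⟩ := hx
    have : x' = x := by simpa using e'
    exact this ▸ hx'

/-- The normalizer of `T` normalises its derived subgroup. -/
theorem normalizer_le_normalizer_derived (T : Subgroup G) :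
    normalizer (T : Set G) ≤ normalizer ((⁅T, T⁆ : Subgroup G) : Set G) := fun _ hg =>
  mem_normalizer_commutator hg hg

theorem le_centralizer_of_fixed_commute (hp2 : p ≠ 2) (hr : r.Prime) (hrp : r ≠ p) {a : G}
    (har : a ^ r = 1) {Q : Subgroup G} (haQ : a ∈ normalizer (Q : Set G))
    (hQc : (⁅Q, zpowers a⁆ : Subgroup G) = Q) (hodd : Odd (Nat.card Q)) (hrQ : ¬ r ∣ Nat.card Q)
    (hpQ : ¬ p ∣ Nat.card Q) :
    ∀ (n : ℕ) (T : Subgroup G), Nat.card T ≤ n → IsPGroup p T → a ∈ normalizer (T : Set G) →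
      Q ≤ normalizer (T : Set G) → (∀ x ∈ T, x ^ p = 1 → a * x = x * a → ∀ u ∈ Q, Commute u x) →
      Q ≤ centralizer (T : Set G) := by
  intro n
  induction n with
  | zero => intro T hT; exact absurd hT (by simp [Nat.card_pos.ne'])
  | succ n ih =>
    intro T hTn hT haT hQT hfix
    have sub : ∀ V : Subgroup G, V < T → a ∈ normalizer (V : Set G) →
        Q ≤ normalizer (V : Set G) → Q ≤ centralizer (V : Set G) := by
      intro V hV haV hQV
      refine ih V ?_ (hT.to_le hV.le) haV hQV fun x hx => hfix x (hV.le hx)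
      have := Set.ncard_lt_ncard (show (V : Set G) ⊂ (T : Set G) from hV) (Set.toFinite _)
      simp only [← Nat.card_coe_set_eq, SetLike.coe_sort_coe] at this
      omega
    have hcopQT : (Nat.card Q).Coprime (Nat.card T) := by
      obtain ⟨k, hk⟩ := IsPGroup.iff_card.1 hT
      rw [hk]
      exact (hp.out.coprime_iff_not_dvd.2 hpQ).symm.pow_right k
    have hsolv : Group.IsSolvable Q ∨ Group.IsSolvable T :=
      Or.inr (CfsgLib.Coprime.isSolvable_of_isNilpotent hT.isNilpotent)
    by_cases hT1 : T = ⊥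
    · subst hT1
      exact fun u _ => mem_centralizer_iff.2 fun x hx => by simp [mem_bot.1 hx]
    -- the derived subgroup is centralized
    have hD : (⁅T, T⁆ : Subgroup G) < T := CfsgLib.CFun.Narrow.commutator_lt hT le_rfl le_normalizer hT1
    have hDQ := sub _ hD (normalizer_le_normalizer_derived T haT)
      (hQT.trans (normalizer_le_normalizer_derived T))
    by_cases hc : (⁅T, Q⁆ : Subgroup G) = T
    swap
    · refine CfsgLib.Coprime.le_centralizer_of_le_centralizer_commutator hQT hcopQT hsolv ?_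
      have hle : (⁅T, Q⁆ : Subgroup G) ≤ T := le_normalizer_iff_commutator_le_left.1 hQT
      exact sub _ (lt_of_le_of_ne hle hc) (mem_normalizer_commutator haT haQ)
        fun u hu => mem_normalizer_commutator (hQT hu) (le_normalizer hu)
    -- the derived subgroup is central
    have hcentral : (⁅T, T⁆ : Subgroup G) ≤ centralizer (T : Set G) := by
      have h1 : ⁅⁅(⁅T, T⁆ : Subgroup G), T⁆, Q⁆ = ⊥ := by
        refine eq_bot_iff.2 (le_trans (b := ⁅(⁅T, T⁆ : Subgroup G), Q⁆) (commutator_mono ?_ le_rfl)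
          (le_of_eq ?_))
        · exact le_normalizer_iff_commutator_le_left.1
            (le_normalizer.trans (normalizer_le_normalizer_derived T))
        · rw [commutator_comm, commutator_eq_bot_iff_le_centralizer]
          exact hDQ
      have h2 : ⁅⁅Q, (⁅T, T⁆ : Subgroup G)⁆, T⁆ = ⊥ := by
        rw [(commutator_eq_bot_iff_le_centralizer).2 hDQ, commutator_bot_left]
      have h3 := commutator_commutator_eq_bot_of_rotate (H₁ := T) (H₂ := Q)
        (H₃ := (⁅T, T⁆ : Subgroup G)) h2 h1
      rw [hc, commutator_eq_bot_iff_le_centralizer] at h3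
      exact fun d hd => mem_centralizer_iff.2 fun t ht => (mem_centralizer_iff.1 (h3 ht) d hd).symm
    -- the exponent is `p`
    let Ω : Subgroup G :=
      { carrier := {x | x ∈ T ∧ x ^ p = 1}
        one_mem' := ⟨T.one_mem, one_pow p⟩
        mul_mem' := fun {x y} hx hy => ⟨T.mul_mem hx.1 hy.1, mul_pow_eq_one hp2 hx.2 hy.2
          ((mem_centralizer_iff.1 (hcentral (commutator_mem_commutator hy.1 hx.1)) x hx.1).symm)
          ((mem_centralizer_iff.1 (hcentral (commutator_mem_commutator hy.1 hx.1)) y hy.1).symm)⟩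
        inv_mem' := fun {x} hx => ⟨T.inv_mem hx.1, by rw [inv_pow, hx.2, inv_one]⟩ }
    have hΩn : ∀ g ∈ normalizer (T : Set G), g ∈ normalizer (Ω : Set G) := fun g hg => by
      refine Subgroup.mem_normalizer_iff.2 fun x => ?_
      show (x ∈ T ∧ x ^ p = 1) ↔ (g * x * g⁻¹ ∈ T ∧ (g * x * g⁻¹) ^ p = 1)
      rw [conj_pow, ← Subgroup.mem_normalizer_iff.1 hg x]
      exact and_congr_right fun _ => ⟨fun h => by rw [h]; group, fun h => by
        rw [conj_eq_one_iff] at h; exact h⟩
    have hΩT : Ω ≤ T := fun x hx => hx.1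
    by_cases hΩ : Ω = T
    swap
    · have hC := sub Ω (lt_of_le_of_ne hΩT hΩ) (hΩn a haT) fun u hu => hΩn u (hQT hu)
      intro u hu
      refine mem_centralizer_iff.2 fun x hx => ?_
      refine (CfsgLib.PGroup.commute_of_fix_omega_odd hp2 hT (hQT hu) ?_ ?_ x hx).eq.symm
      · exact fun h => hpQ (h.trans (orderOf_dvd_natCard _ hu))
      · exact fun y hy hyp => (mem_centralizer_iff.1 (hC hu) y ⟨hy, hyp⟩).symm
    have hexp : ∀ x ∈ T, x ^ p = 1 := fun x hx => (hΩ.ge hx).2
    -- pass to the quotient by the derived subgroup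
    set N := normalizer ((⁅T, T⁆ : Subgroup G) : Set G) with hN
    set D := (⁅T, T⁆ : Subgroup G).subgroupOf N with hDdef
    haveI : D.Normal := by
      rw [hDdef, hN]
      exact Subgroup.normal_in_normalizer
    set f := QuotientGroup.mk' D with hf
    have hTN : T ≤ N := le_normalizer.trans (normalizer_le_normalizer_derived T)
    have hQN : Q ≤ N := hQT.trans (normalizer_le_normalizer_derived T)
    have haN : a ∈ N := normalizer_le_normalizer_derived T haT
    set V := (T.subgroupOf N).map f with hV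
    set K := (Q.subgroupOf N).map f with hK
    set α : N ⧸ D := f ⟨a, haN⟩ with hα
    have hαV : α ∈ normalizer (V : Set (N ⧸ D)) := le_normalizer_map f
      ⟨⟨a, haN⟩, Subgroup.mem_normalizer_iff.2 fun z => Subgroup.mem_normalizer_iff.1 haT (z : G),
        rfl⟩
    have hαK : α ∈ normalizer (K : Set (N ⧸ D)) := le_normalizer_map f
      ⟨⟨a, haN⟩, Subgroup.mem_normalizer_iff.2 fun z => Subgroup.mem_normalizer_iff.1 haQ (z : G),
        rfl⟩
    have hKV : K ≤ normalizer (V : Set (N ⧸ D)) := by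
      rintro _ ⟨u, hu, rfl⟩
      exact le_normalizer_map f
        ⟨u, Subgroup.mem_normalizer_iff.2 fun z => Subgroup.mem_normalizer_iff.1 (hQT hu) (z : G),
          rfl⟩
    have hKdvd : Nat.card K ∣ Nat.card Q :=
      (card_map_dvd _ _).trans (Nat.card_congr (subgroupOfEquivOfLe hQN).toEquiv).dvd
    have hVp : IsPGroup p V := by
      refine IsPGroup.map ?_ f
      exact hT.of_equiv (subgroupOfEquivOfLe hTN).symm
    have hfixQ : ∀ v ∈ V, α * v = v * α → v = 1 := by
      rintro _ ⟨⟨x, hxN⟩, hx, rfl⟩ hv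
      have hxT : x ∈ T := hx
      have h1 : a * x * a⁻¹ * x⁻¹ ∈ (⁅T, T⁆ : Subgroup G) := by
        have e : f (⟨a, haN⟩ * ⟨x, hxN⟩ * ⟨a, haN⟩⁻¹ * ⟨x, hxN⟩⁻¹) = 1 := by
          simp only [map_mul, map_inv]
          rw [← hα, hv]
          group
        exact mem_subgroupOf.1 ((QuotientGroup.eq_one_iff _).1 e)
      have hDp : IsPGroup p (⁅T, T⁆ : Subgroup G) := hT.to_le hD.le
      have hAN : zpowers a ≤ N := zpowers_le.2 haN
      obtain ⟨d, hd, hdC⟩ := CfsgLib.Coprime.exists_fixed_in_coset (k := x) hAN (by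
          obtain ⟨j, hj⟩ := IsPGroup.iff_card.1 hDp
          rw [hj, Nat.card_zpowers]
          exact (((Nat.coprime_primes hr hp.out).2 hrp).pow_right j).coprime_dvd_left
            (orderOf_dvd_of_pow_eq_one har))
        (Or.inl (CfsgLib.Coprime.isSolvable_of_isMulCommutative inferInstance)) hxN (by
          let F : Subgroup G :=
            { carrier := {b | b ∈ N ∧ b * x * b⁻¹ * x⁻¹ ∈ (⁅T, T⁆ : Subgroup G)}
              one_mem' := ⟨one_mem _, by simp⟩
              mul_mem' := fun {b c} hb hc => ⟨mul_mem hb.1 hc.1, by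
                rw [show b * c * x * (b * c)⁻¹ * x⁻¹ =
                  b * (c * x * c⁻¹ * x⁻¹) * b⁻¹ * (b * x * b⁻¹ * x⁻¹) by group]
                exact mul_mem ((Subgroup.mem_normalizer_iff.1 hb.1 _).1 hc.2) hb.2⟩
              inv_mem' := fun {b} hb => ⟨inv_mem hb.1, by
                rw [show b⁻¹ * x * b⁻¹⁻¹ * x⁻¹ = b⁻¹ * (b * x * b⁻¹ * x⁻¹)⁻¹ * b by group]
                exact (Subgroup.mem_normalizer_iff''.1 hb.1 _).1 (inv_mem hb.2)⟩ }
          exact fun b hb => ((zpowers_le (H := F)).2 ⟨haN, h1⟩ hb).2)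
      have hyT : x * d ∈ T := mul_mem hxT (hD.le hd)
      have hcom : ∀ u ∈ Q, Commute u (x * d) := hfix _ hyT (hexp _ hyT)
        (mem_centralizer_iff.1 hdC a (mem_zpowers a))
      have hmem : x * d ∈ (⁅T, T⁆ : Subgroup G) :=
        CfsgLib.CFun.TauTwo.fixed_le_derived_of_commutator_eq hQT hcopQT hc
          ⟨hyT, mem_centralizer_iff.2 fun u hu => (hcom u hu).eq⟩
      refine (QuotientGroup.eq_one_iff _).2 (mem_subgroupOf.2 ?_)
      exact (mul_mem_cancel_right hd).1 hmem
    have hcent := CfsgLib.CFun.FpfComm.commutator_le_centralizer hVp hr hrp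
      (show α ^ r = 1 by rw [hα, ← map_pow, show (⟨a, haN⟩ : N) ^ r = 1 from Subtype.ext har, map_one])
      hαV hαK hKV (hodd.of_dvd_nat hKdvd) (fun h => hrQ (h.trans hKdvd))
      (fun h => hpQ (h.trans hKdvd)) hfixQ
    have hTQ : (⁅T, Q⁆ : Subgroup G) ≤ ⁅T, T⁆ := by
      refine commutator_le.2 fun x hx u hu => ?_
      have hKc : f ⟨u, hQN hu⟩ ∈ centralizer (V : Set (N ⧸ D)) := by
        refine hcent ?_
        have e : (⁅K, zpowers α⁆ : Subgroup (N ⧸ D)) =
            (⁅Q.subgroupOf N, zpowers (⟨a, haN⟩ : N)⁆ : Subgroup N).map f := by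
          rw [map_commutator, MonoidHom.map_zpowers]
        rw [e]
        refine ⟨⟨u, hQN hu⟩, ?_, rfl⟩
        have e2 : (⁅Q.subgroupOf N, zpowers (⟨a, haN⟩ : N)⁆ : Subgroup N).map N.subtype = Q := by
          rw [map_commutator, MonoidHom.map_zpowers, subgroupOf_map_subtype, inf_eq_left.2 hQN]
          exact hQc
        have h3 : u ∈ (⁅Q.subgroupOf N, zpowers (⟨a, haN⟩ : N)⁆ : Subgroup N).map N.subtype := by
          rw [e2]; exact hu
        obtain ⟨z, hz, hzu⟩ := h3
        rwa [show (⟨u, hQN hu⟩ : N) = z from Subtype.ext hzu.symm]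
      have h4 := mem_centralizer_iff.1 hKc (f ⟨x, hTN hx⟩) ⟨⟨x, hTN hx⟩, hx, rfl⟩
      have e : f ⁅(⟨x, hTN hx⟩ : N), ⟨u, hQN hu⟩⁆ = 1 := by
        rw [map_commutatorElement, commutatorElement_eq_one_iff_commute]
        exact h4
      exact mem_subgroupOf.1 ((QuotientGroup.eq_one_iff _).1 e)
    rw [hc] at hTQ
    exact absurd (le_antisymm hTQ hD.le) (ne_of_gt hD)

end CfsgLib.CFun.FixLine
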