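import Cfsg.Agent.Lib.PGroup.MaxNormalAbelian
import Cfsg.Agent.Lib.PGroup.NormalRankTwo
import Cfsg.Prelude.Def_OddOrderLocal

/-!
# Self-centralizing normal subgroups of `p`-groups
-/

set_option autoImplicit false
set_option linter.style.haveILetI false
set_option linter.unusedSectionVars false

open Subgroup

namespace CfsgLib.CFun

universe u

variable {R : Type u} [Group R] [Finite R] {p : ℕ} [Fact p.Prime]

/-- A normal abelian subgroup inside a normal subgroup extends to a self-centralizing one. -/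
theorem exists_scn_between (hR : IsPGroup p R) (A : Subgroup R) [A.Normal] (B : Subgroup R)
    [B.Normal] (hBA : B ≤ A) (hB : IsMulCommutative B) :
    ∃ C : Subgroup R, C.Normal ∧ B ≤ C ∧ IsMulCommutative C ∧ C ≤ A ∧
      A ⊓ centralizer (C : Set R) = C := by
  obtain ⟨C, hBC, hC⟩ := exists_maximal_ge_of_wellFoundedGT
    (fun W : Subgroup R => W.Normal ∧ W ≤ A ∧ W ≤ centralizer (W : Set R)) B
    ⟨inferInstance, hBA, fun x hx => mem_centralizer_iff.2 fun y hy =>
      congrArg Subtype.val (hB.is_comm.comm (⟨y, hy⟩ : B) ⟨x, hx⟩)⟩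
  obtain ⟨hCn, hCA, hCc⟩ := hC.prop
  haveI := hCn
  refine ⟨C, hCn, hBC, ⟨⟨fun a b => Subtype.ext (mem_centralizer_iff.1 (hCc b.2) _ a.2)⟩⟩, hCA, ?_⟩
  refine le_antisymm ?_ (le_inf hCA hCc)
  by_contra hne
  have hlt : C < A ⊓ centralizer (C : Set R) := lt_of_le_not_ge (le_inf hCA hCc) hne
  haveI : (A ⊓ centralizer (C : Set R)).Normal := Subgroup.normal_inf_normal _ _
  obtain ⟨T, hTn, hCT, hTS, hidx⟩ := CfsgLib.PGroup.exists_normal_step hR hlt
  obtain ⟨x, hxT, hxC⟩ := SetLike.exists_of_lt hCT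
  set D := C ⊔ zpowers x with hD
  have hxS : x ∈ centralizer (C : Set R) := (hTS hxT).2
  have hDT : D ≤ T := sup_le hCT.le (zpowers_le.2 hxT)
  have hmul := relIndex_mul_relIndex C D T le_sup_left hDT
  rw [hidx] at hmul
  have h1 : C.relIndex D ≠ 1 := fun e => hxC (relIndex_eq_one.1 e (mem_sup_right (mem_zpowers x)))
  have h2 : D.relIndex T = 1 := by
    rcases (Nat.prime_mul_iff.1 (hmul.symm ▸ (Fact.out : p.Prime))) with ⟨-, h⟩ | ⟨-, h⟩
    · exact h
    · exact absurd h h1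
  have hTD : T = D := le_antisymm (relIndex_eq_one.1 h2) hDT
  refine hne ?_
  have hDc : D ≤ centralizer (D : Set R) := by
    refine le_centralizer_iff.1 (sup_le ?_ ?_)
    · exact le_centralizer_iff.1 (sup_le hCc (zpowers_le.2 hxS))
    · refine le_centralizer_iff.1 (sup_le (le_centralizer_iff.1 (zpowers_le.2 hxS)) ?_)
      exact fun y hy => mem_centralizer_iff.2 fun z hz =>
        congrArg Subtype.val ((inferInstance : IsMulCommutative (zpowers x)).is_comm.comm
          (⟨z, hz⟩ : zpowers x) ⟨y, hy⟩)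
  exact absurd (hC.eq_of_le ⟨hTn, hTS.trans inf_le_left, hTD ▸ hDc⟩ hCT.le) (ne_of_lt hCT)

theorem isMulCommutative_of_le {A B : Subgroup R} (h : IsMulCommutative B) (hAB : A ≤ B) :
    IsMulCommutative A :=
  ⟨⟨fun a b => Subtype.ext (show (a : R) * b = b * a from
    congrArg Subtype.val (h.is_comm.comm (⟨a, hAB a.2⟩ : B) ⟨b, hAB b.2⟩))⟩⟩

/-- A normal elementary abelian subgroup of order `p²` lies in a member of `SCN₃` when the rank is
at least three. -/
theorem exists_scn_three_ge (hp : p ≠ 2) (hR : IsPGroup p R) (hr : ¬ Cfsg.PRankLE p 2 R)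
    (E : Subgroup R) [hEn : E.Normal] (hE : Cfsg.IsElementaryAbelian p E) (hE2 : Nat.card E = p ^ 2) :
    ∃ A : Subgroup R, E ≤ A ∧ A.Normal ∧ IsMulCommutative A ∧ centralizer (A : Set R) = A ∧
      ¬ Cfsg.PRankLE p 2 A := by
  obtain ⟨A, hEA, hA⟩ := exists_maximal_ge_of_wellFoundedGT
    (fun W : Subgroup R => W.Normal ∧ Cfsg.IsElementaryAbelian p W) E ⟨hEn, hE⟩
  obtain ⟨hAn, hAe⟩ := hA.prop
  haveI := hAn
  obtain ⟨C, hCn, hAC, hCc, -, hCS⟩ := exists_scn_between hR ⊤ A le_top hAe.1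
  refine ⟨C, hEA.trans hAC, hCn, hCc, by rwa [top_inf_eq] at hCS, fun hC2 => ?_⟩
  haveI := hAe.1
  have hcard : Nat.card A ≤ p ^ 2 := by
    have := hC2 (A.subgroupOf C) ⟨⟨fun a b => Subtype.ext (Subtype.ext
        (show ((a : C) : R) * (b : C) = (b : C) * (a : C) from
          congrArg Subtype.val (hAe.1.is_comm.comm (⟨_, a.2⟩ : A) ⟨_, b.2⟩)))⟩⟩
      (fun a ha => Subtype.ext (hAe.2 a ha))
    rwa [Nat.card_congr (subgroupOfEquivOfLe hAC).toEquiv] at this
  have hAE : A = E := (eq_of_le_of_card_ge hEA (hcard.trans hE2.ge)).symm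
  subst hAE
  simp only [Cfsg.PRankLE, not_forall, not_le] at hr
  obtain ⟨F, hFc, hFe, hFk⟩ := hr
  have hom : ∀ x ∈ centralizer (A : Set R), x ^ p = 1 → x ∈ A := by
    intro x hx hxp
    refine CfsgLib.PGroup.mem_of_maximal_abelian_exponent hR (n := 1) (by simpa using hp) hAe.1
      (fun a ha => by rw [pow_one]; exact hAe.2 a ha) (fun B hBn hBc hBe hAB => ?_) hx
      (by rwa [pow_one])
    exact (hA.eq_of_le ⟨hBn, hBc, fun b hb => by simpa using hBe b hb⟩ hAB).symm
  have hidx := CfsgLib.PGroup.index_centralizer_le_pow hR 2 A hAe.1 hE2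
  simp only [Nat.reduceSub, Nat.reduceMul, Nat.reduceDiv, pow_one] at hidx
  set K := F ⊓ centralizer (A : Set R) with hK
  have hKA : K ≤ A := fun x hx => hom x hx.2 (hFe x hx.1)
  have h1 : Nat.card K * K.relIndex F = Nat.card F := by
    rw [← Subgroup.card_mul_index (K.subgroupOf F),
      Nat.card_congr (subgroupOfEquivOfLe (inf_le_left : K ≤ F)).toEquiv]
    rfl
  have h2 : K.relIndex F ≤ p := by
    rw [hK, inf_relIndex_left]
    exact (Nat.le_of_dvd (Nat.pos_of_ne_zero index_ne_zero_of_finite)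
      (Subgroup.relIndex_dvd_index_of_normal _ _)).trans hidx
  have h3 : A ≤ F := by
    by_contra h
    have hlt : K < A := lt_of_le_not_ge hKA fun hle => h (hle.trans inf_le_left)
    have h4 : Nat.card K < Nat.card A := Set.Finite.card_lt_card (Set.toFinite _) hlt
    obtain ⟨k, hk⟩ := IsPGroup.iff_card.1 (hR.to_subgroup K)
    rw [hk, hE2] at h4
    have h5 : k ≤ 1 := Nat.lt_succ_iff.1 ((Nat.pow_lt_pow_iff_right (Fact.out : p.Prime).one_lt).1 h4)
    have h6 : Nat.card F ≤ p ^ 2 := by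
      rw [← h1, hk, sq]
      exact Nat.mul_le_mul ((Nat.pow_le_pow_right (Fact.out : p.Prime).pos h5).trans
        (pow_one p).le) h2
    omega
  have h7 : F ≤ A := fun x hx => hom x (mem_centralizer_iff.2 fun a ha =>
    congrArg Subtype.val (hFc.is_comm.comm (⟨a, h3 ha⟩ : F) ⟨x, hx⟩)) (hFe x hx)
  have := Subgroup.card_le_of_le h7
  omega

end CfsgLib.CFun
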