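import Cfsg.Agent.Lib.CFun.OddFittingUnique
import Cfsg.Agent.Lib.CFun.OddPLengthOne
import Cfsg.Agent.Lib.CFun.OddPrelimSCN
import Cfsg.Agent.S0126

/-!
# A uniqueness criterion for noncyclic elementary abelian subgroups
-/

set_option autoImplicit false
set_option linter.style.haveILetI false
set_option linter.unusedSectionVars false

open Subgroup
open scoped commutatorElement
open CfsgLib.Coprime (conjBy conjBy_eq_self_iff mem_conjBy conj_mem_conjBy conj_mem_of_le_normalizer)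

namespace CfsgLib.CFun

universe u

variable {G : Type u} [Group G] [Finite G] {p : ℕ} [hp : Fact p.Prime]

/-- Coprime invariant subgroups are generated by invariant Sylow subgroups. -/
theorem le_of_invariant_sylows {A Y W : Subgroup G} (hAY : A ≤ normalizer (Y : Set G))
    (hcop : (Nat.card A).Coprime (Nat.card Y))
    (hsolv : Group.IsSolvable A ∨ Group.IsSolvable Y)
    (h : ∀ q : ℕ, q.Prime → q ∣ Nat.card Y → ∀ Q : Subgroup G, Q ≤ Y → IsPGroup q Q →
      A ≤ normalizer (Q : Set G) → Q ≤ W) : Y ≤ W := by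
  suffices h1 : Nat.card Y ∣ Nat.card ↥(Y ⊓ W) from
    inf_eq_left.1 (eq_of_le_of_card_ge inf_le_left (Nat.le_of_dvd Nat.card_pos h1))
  refine (Nat.dvd_iff_prime_pow_dvd_dvd _ _).2 fun q k hq hd => ?_
  rcases k with _ | k
  · simp
  haveI : Fact q.Prime := ⟨hq⟩
  obtain ⟨Q, hQ, hAQ⟩ := CfsgLib.Coprime.exists_invariant_sylow hAY hcop hsolv q
  refine dvd_trans ?_ (card_dvd_of_le (le_inf hQ.1
    (h q hq ((dvd_pow_self q k.succ_ne_zero).trans hd) Q hQ.1 hQ.isPGroup hAQ)))
  rw [hQ.2]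
  exact pow_dvd_pow q ((hq.pow_dvd_iff_le_factorization Nat.card_pos.ne').1 hd)

/-- A factorization by a normalizer puts a subgroup inside another. -/
theorem le_of_factor {L M X : Subgroup G} (hXL : X ≤ L) (hO : coCore L p ≤ M)
    (hN : normalizer (X : Set G) ≤ M)
    (h : Cfsg.pPrimeCore p L ⊔ normalizer (X.subgroupOf L : Set L) = ⊤) : L ≤ M := by
  have h1 := congrArg (Subgroup.map L.subtype) h
  rw [Subgroup.map_sup, ← MonoidHom.range_eq_map, L.range_subtype] at h1
  refine h1.ge.trans (sup_le hO ((le_normalizer_map L.subtype).trans ?_))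
  rw [map_subgroupOf_eq_of_le hXL]
  exact hN

/-- A Sylow subgroup in the sense of maximality, inside a subgroup. -/
def sylowOfMax {L T : Subgroup G} (hT : IsPGroup p T) (hTL : T ≤ L)
    (hmax : ∀ U : Subgroup G, IsPGroup p U → U ≤ L → T ≤ U → U = T) : Sylow p L :=
  ⟨T.subgroupOf L, hT.of_equiv (subgroupOfEquivOfLe hTL).symm, fun {U} hU hle => by
    have h1 := hmax (U.map L.subtype) (hU.map _) (map_subtype_le U)
      (fun x hx => ⟨⟨x, hTL hx⟩, hle hx, rfl⟩)
    rw [← h1, subgroupOf_map_subtype_eq_self]⟩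
where
  subgroupOf_map_subtype_eq_self {L : Subgroup G} {U : Subgroup L} :
      (U.map L.subtype).subgroupOf L = U :=
    comap_map_eq_self_of_injective L.subtype_injective U

theorem coe_sylowOfMax {L T : Subgroup G} (hT : IsPGroup p T) (hTL : T ≤ L)
    (hmax : ∀ U : Subgroup G, IsPGroup p U → U ≤ L → T ≤ U → U = T) :
    (sylowOfMax hT hTL hmax : Subgroup L) = T.subgroupOf L := rfl

theorem pRankLE_of_sylow {L : Subgroup G} {k : ℕ} (S : Sylow p L)
    (h : Cfsg.PRankLE p k ↥((S : Subgroup L).map L.subtype)) : Cfsg.PRankLE p k L := by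
  intro E hEc hEe
  have hEp : IsPGroup p E := fun a => ⟨1, Subtype.ext (by rw [pow_one]; exact hEe a a.2)⟩
  obtain ⟨S', hS'⟩ := hEp.exists_le_sylow
  obtain ⟨g, hg⟩ := MulAction.exists_smul_eq L S' S
  set E' := (E.map (MulAut.conj g).toMonoidHom).map L.subtype
  have hE'S : E' ≤ (S : Subgroup L).map L.subtype := by
    refine map_mono ?_
    rw [← hg, Sylow.coe_subgroup_smul]
    rintro _ ⟨x, hx, rfl⟩
    exact ⟨x, hS' hx, rfl⟩
  haveI := hEc
  haveI hE'c : IsMulCommutative E' := inferInstance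
  have h1 := h (E'.subgroupOf _) ⟨⟨fun a b => Subtype.ext (Subtype.ext
      (show ((a : ↥((S : Subgroup L).map L.subtype)) : G) * (b : ↥((S : Subgroup L).map L.subtype)) =
          (b : ↥((S : Subgroup L).map L.subtype)) * (a : ↥((S : Subgroup L).map L.subtype)) from
        congrArg Subtype.val (hE'c.is_comm.comm (⟨_, a.2⟩ : E') ⟨_, b.2⟩)))⟩⟩ (fun a ha => Subtype.ext (by
    obtain ⟨_, ⟨x, hx, rfl⟩, hxe⟩ := ha
    show ((a : ↥((S : Subgroup L).map L.subtype)) : G) ^ p = 1
    have hxe' : L.subtype ((MulAut.conj g).toMonoidHom x) =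
      ((a : ↥((S : Subgroup L).map L.subtype)) : G) := hxe
    rw [← hxe', ← map_pow, ← map_pow, hEe x hx, map_one, map_one]))
  rwa [Nat.card_congr (subgroupOfEquivOfLe hE'S).toEquiv, card_map_of_injective L.subtype_injective,
    card_map_of_injective (MulAut.conj g).injective] at h1

theorem not_pRankLE_of_le {A : Subgroup G} {k : ℕ} {T : Subgroup G} (hAT : A ≤ T)
    (h : ¬ Cfsg.PRankLE p k A) : ¬ Cfsg.PRankLE p k T := fun hT => h fun E hEc hEe => by
  haveI := hEc
  have h1 := hT (E.map (Subgroup.inclusion hAT)) inferInstance (by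
    rintro _ ⟨a, ha, rfl⟩; rw [← map_pow, hEe a ha, map_one])
  rwa [card_map_of_injective (Subgroup.inclusion_injective hAT)] at h1

theorem isCyclic_of_ambient {B : Subgroup G} (hB : B = ⊥) : IsCyclic B := by
  subst hB; infer_instance

section Uniqueness

variable (hG : Cfsg.IsMinSimpleOddOrder G) {M B : Subgroup G} (hM : IsCoatom M)
include hG hM

omit hM in
/-- An SCN of rank three inside a Sylow subgroup. -/
theorem exists_scn_three (S : Sylow p G) (hp2 : p ≠ 2) (hr : ¬ Cfsg.PRankLE p 2 (S : Subgroup G)) :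
    ∃ A : Subgroup G, Cfsg.IsSCN (S : Subgroup G) A ∧ ¬ Cfsg.PRankLE p 2 ↥A := by
  set R := (S : Subgroup G)
  have hnc : ¬ IsCyclic R := fun hc => hr fun E hEc hEe => by
    haveI := hc
    haveI : IsCyclic E := inferInstance
    obtain ⟨g, hg⟩ := IsCyclic.exists_generator (α := E)
    have h1 : Nat.card E ∣ p := by
      rw [← orderOf_eq_card_of_forall_mem_zpowers hg]
      exact orderOf_dvd_of_pow_eq_one (Subtype.ext (hEe g g.2))
    exact (Nat.le_of_dvd hp.out.pos h1).trans (Nat.le_self_pow (by norm_num) p)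
  obtain ⟨E, hEn, hE, hE2⟩ := Cfsg.Agent.S0126.result hp2 S.2 hnc
  haveI := hEn
  obtain ⟨A, -, hAn, -, hAc, hA3⟩ := exists_scn_three_ge hp2 S.2 hr E hE hE2
  haveI := hAn
  refine ⟨A.map R.subtype, ⟨map_subtype_le A, fun x hx => le_normalizer_map R.subtype
    ⟨⟨x, hx⟩, (normalizer_eq_top A).symm ▸ mem_top _, rfl⟩, ?_⟩, fun h => hA3 fun E hEc hEe => ?_⟩
  · ext x
    constructor
    · rintro ⟨hxR, hxC⟩
      refine ⟨⟨x, hxR⟩, ?_, rfl⟩
      rw [← hAc]
      exact mem_centralizer_iff.2 fun a ha =>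
        Subtype.ext (mem_centralizer_iff.1 hxC _ ⟨a, ha, rfl⟩)
    · rintro ⟨a, ha, rfl⟩
      refine ⟨a.2, mem_centralizer_iff.2 ?_⟩
      rintro _ ⟨b, hb, rfl⟩
      exact congrArg Subtype.val (mem_centralizer_iff.1 (hAc.ge ha) b hb)
  · haveI := hEc
    have h1 := h (E.map (A.equivMapOfInjective R.subtype R.subtype_injective).toMonoidHom)
      inferInstance (by rintro _ ⟨a, ha, rfl⟩; rw [← map_pow, hEe a ha, map_one])
    rwa [card_map_of_injective (A.equivMapOfInjective R.subtype R.subtype_injective).injective] at h1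

/-- The case of a Sylow subgroup of rank three. -/
theorem invariant_le_of_scn (hp2 : p ≠ 2) (S : Sylow p G) {A : Subgroup G}
    (hA : Cfsg.IsSCN (S : Subgroup G) A) (hA3 : ¬ Cfsg.PRankLE p 2 ↥A) (hSM : (S : Subgroup G) ≤ M)
    (hinv : ∀ Y : Subgroup G, (S : Subgroup G) ≤ normalizer (Y : Set G) → ¬ p ∣ Nat.card Y → Y ≤ M)
    {Y : Subgroup G} (hAY : A ≤ normalizer (Y : Set G)) (hY : ¬ p ∣ Nat.card Y) : Y ≤ M := by
  obtain ⟨hAS, hSA, hAc⟩ := hA
  have hAp : IsPGroup p A := S.2.to_le hAS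
  have hAC : A ≤ centralizer (A : Set G) := hAc.symm.le.trans inf_le_right
  simp only [Cfsg.PRankLE, not_forall, not_le] at hA3
  obtain ⟨E, hEc, hEe, hEk⟩ := hA3
  haveI := hEc
  set E' := E.map A.subtype with hE'
  have hE'e : Cfsg.IsElementaryAbelian p E' :=
    ⟨inferInstance, by rintro _ ⟨b, hb, rfl⟩; rw [← map_pow, hEe b hb, map_one]⟩
  have hE'3 : p ^ 3 ≤ Nat.card E' := by
    rw [hE', card_map_of_injective A.subtype_injective]
    obtain ⟨k, hk⟩ := IsPGroup.iff_card.1 (hAp.to_subgroup E)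
    rw [hk] at hEk ⊢
    exact Nat.pow_le_pow_right hp.out.pos ((Nat.pow_lt_pow_iff_right hp.out.one_lt).1 hEk)
  obtain ⟨n, hn⟩ := IsPGroup.iff_card.1 hAp
  have hn0 : n ≠ 0 := by
    rintro rfl
    have h1 := hE'3.trans (Nat.le_of_dvd Nat.card_pos (card_dvd_of_le (map_subtype_le E : E' ≤ A)))
    rw [hn, pow_zero] at h1
    exact absurd h1 (not_le.2 (Nat.one_lt_pow (by norm_num) hp.out.one_lt))
  have hA1 : A ≠ ⊥ := fun e => by
    rw [e, card_bot] at hn
    exact absurd hn.symm (ne_of_gt (Nat.one_lt_pow hn0 hp.out.one_lt))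
  have hA2 : A ≠ ⊤ := fun e => hM.1 (top_le_iff.1 (e ▸ hAS.trans hSM))
  have hTH : Cfsg.TransitivityHypothesis A := by
    refine transitivityHypothesis_of_local hAp hA1 hA2 fun X hX hAX K hK hAK => ?_
    haveI := ms_solvable hG hX
    refine le_pPrimeCore_of_invariant pCons_of_isSolvable
      (hAp.of_equiv (subgroupOfEquivOfLe hAX).symm)
      (fun x hx hxp => scn_full S ⟨hAS, hSA, hAc⟩ x ?_ ?_) (fun h => absurd h hp2) hK hAK
    · exact mem_centralizer_iff.2 fun b hb =>
        congrArg Subtype.val (mem_centralizer_iff.1 hx ⟨b, hAX hb⟩ hb)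
    · have h1 := hxp.map X.subtype
      rwa [MonoidHom.map_zpowers] at h1
  set Θ := Cfsg.piCoreOf (Cfsg.primesNotDvd (Nat.card A)) (centralizer (A : Set G)) with hΘ
  have hΘM : Θ ≤ M := hinv Θ ((hSA.trans
      (CfsgLib.Coprime.normalizer_le_normalizer_centralizer A)).trans
      (le_normalizer_piCoreOf_of_le _)) fun hd =>
    (isPiNum_piCoreOf _ p hp.out hd).2 (hn ▸ dvd_pow_self p hn0)
  have hYt : Y ≠ ⊤ := by
    rintro rfl
    rw [card_top] at hY
    exact hY ((hn ▸ dvd_pow_self p hn0).trans (card_subgroup_dvd_card A))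
  refine le_of_invariant_sylows hAY ?_ (Or.inr (ms_solvable hG hYt)) fun q hq hqY Q _ hQ hAQ => ?_
  · rw [hn]; exact (hp.out.coprime_iff_not_dvd.2 hY).pow_left n
  haveI : Fact q.Prime := ⟨hq⟩
  have hqp : q ≠ p := fun e => hY (e ▸ hqY)
  have hd : TransData A q :=
    ⟨hTH, hG.2.1, hG.2.2.1, hG.2.2.2, not_dvd_of_isPGroup hqp.symm hAp⟩
  have htr : IsTrans A q := fun Q₁ Q₂ h₁ h₂ => hd.transitive_three (p := p)
    (le_inf (map_subtype_le E) ((map_subtype_le E).trans hAC)) hE'e hE'3 hqp h₁ h₂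
  have hStop : (S : Subgroup G) ≠ ⊤ := fun e => hM.1 (top_le_iff.1 (e ▸ hSM))
  haveI := S.2.isNilpotent
  obtain ⟨-, hsub⟩ := hd.subnormal htr hStop hAS (fun r hr hdr => by
    obtain ⟨k, hk⟩ := IsPGroup.iff_card.1 S.2
    rw [hk] at hdr
    rw [(Nat.prime_dvd_prime_iff_eq hr hp.out).1 (hr.dvd_of_dvd_pow hdr), hn]
    exact dvd_pow_self p hn0) (CfsgLib.PGroup.isSubnormal_of_isNilpotent _)
  obtain ⟨R, hR, -⟩ := exists_isMaxInv_ge (A := (S : Subgroup G)) (q := q)
    (U := (⊥ : Subgroup G)) IsPGroup.of_bot (by rw [normalizer_eq_top]; exact le_top)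
  obtain ⟨Q', hQ', hQQ'⟩ := exists_isMaxInv_ge hQ hAQ
  obtain ⟨c, hc, e⟩ := htr R Q' (hsub R hR) hQ'
  have hRM : R ≤ M := hinv R hR.2.1 (not_dvd_of_isPGroup hqp hR.1)
  refine hQQ'.trans ?_
  rw [e]
  rintro _ ⟨x, hx, rfl⟩
  exact mul_mem (mul_mem (hΘM hc) (hRM hx)) (inv_mem (hΘM hc))

/-- The uniqueness criterion. -/
theorem eq_of_inv_le (hBM : B ≤ M) (hBp : IsPGroup p B) (hB1 : B ≠ ⊥)
    (hinv : ∀ Y : Subgroup G, B ≤ normalizer (Y : Set G) → ¬ p ∣ Nat.card Y → Y ≤ M) :
    ∀ (n : ℕ) (T L : Subgroup G), IsPGroup p T → B ≤ T → Nat.card G - Nat.card T = n →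
      T ≤ M → IsCoatom L → T ≤ L → L = M := by
  have hpB : p ∣ Nat.card B := by
    obtain ⟨k, hk⟩ := IsPGroup.iff_card.1 hBp
    rcases k with _ | k
    · exact absurd (card_eq_one.1 (by rw [hk, pow_zero])) hB1
    · exact hk ▸ dvd_pow_self p k.succ_ne_zero
  have hp2 := ms_ne_two hG (hpB.trans (card_subgroup_dvd_card B))
  intro n
  induction n using Nat.strongRecOn with
  | ind n ih =>
  intro T L hT hBT hn hTM hL hTL
  have ihU : ∀ {U K : Subgroup G}, IsPGroup p U → T < U → U ≤ M → IsCoatom K → U ≤ K → K = M := by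
    intro U K hU hlt hUM hK hUK
    refine ih _ ?_ U K hU (hBT.trans hlt.le) rfl hUM hK hUK
    have h1 : Nat.card T < Nat.card U := Set.Finite.card_lt_card (Set.toFinite _) hlt
    have := card_le_card_group U
    omega
  by_cases hbig : ∃ U : Subgroup G, IsPGroup p U ∧ T < U ∧ U ≤ M ∧ U ≤ L
  · obtain ⟨U, hU, hlt, hUM, hUL⟩ := hbig
    exact ihU hU hlt hUM hL hUL
  push Not at hbig
  have hTtop := ms_isPGroup_ne_top hG hT
  have hT1 : T ≠ ⊥ := ne_bot_of_le_ne_bot hB1 hBT
  have hpT : p ∣ Nat.card T := hpB.trans (card_dvd_of_le hBT)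
  set N := normalizer (T : Set G) with hNdef
  have hgrow : ∀ {U : Subgroup G}, IsPGroup p U → T ≤ U → U ≠ T → T < N ⊓ U := fun hU hTU hne =>
    lt_of_le_not_ge (le_inf le_normalizer hTU) (CfsgLib.Invol.normalizer_grows hU hTU hne.symm)
  have hO : coCore L p ≤ M :=
    hinv _ ((hBT.trans hTL).trans le_normalizer_coCore) not_dvd_coCore
  haveI : Group.IsSolvable L := ms_solvable hG hL.1
  haveI : Group.IsSolvable M := ms_solvable hG hM.1
  have hLodd : Odd (Nat.card L) := hG.1.of_dvd_nat (card_subgroup_dvd_card L)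
  -- with the normalizer of `T` inside `M`, `T` is a Sylow subgroup of `L`
  have hmaxL : N ≤ M → ∀ U : Subgroup G, IsPGroup p U → U ≤ L → T ≤ U → U = T := by
    intro hNM U hU hUL hTU
    by_contra hne
    have hlt := hgrow hU hTU hne
    exact hbig (N ⊓ U) (hU.to_le inf_le_right) hlt (inf_le_left.trans hNM) (inf_le_right.trans hUL)
  set Z := Cfsg.centerThompsonAOf T with hZdef
  have hz : ∀ {X : Type u} [Group X] [Finite X] (S : Subgroup X),
      Cfsg.centerThompsonAOf S = Cfsg.inducedFunctor CfsgLib.Fusion.zjFun S :=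
    fun S => (CfsgLib.Fusion.wSub_zjFun S).symm
  have hW : Cfsg.IsCharPFunctor.{u} p
      (CfsgLib.Fusion.zjFun : ∀ (A : Type u) [Group A], Subgroup A) :=
    ⟨(CfsgLib.Fusion.qdFunctor_zjFun hp2).nontrivial, (CfsgLib.Fusion.qdFunctor_zjFun hp2).natural⟩
  have hZT : Z ≤ T := by rw [hZdef, hz]; exact induced_le _ _
  have hviaZ : normalizer (Z : Set G) ≤ M →
      (∀ U : Subgroup G, IsPGroup p U → U ≤ L → T ≤ U → U = T) → L = M := by
    intro hZM hmax
    obtain ⟨-, hf⟩ := zjA_factor hp2 hLodd (sylowOfMax hT hTL hmax)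
    have hmap : Cfsg.centerThompsonAOf ((sylowOfMax hT hTL hmax : Sylow p L) : Subgroup L) =
        Z.subgroupOf L := by
      apply map_injective L.subtype_injective
      rw [map_subgroupOf_eq_of_le (hZT.trans hTL), hZdef, hz, hz,
        ← induced_map hW (sylowOfMax hT hTL hmax).2 L.subtype L.subtype_injective, coe_sylowOfMax,
        map_subgroupOf_eq_of_le hTL]
    rw [hmap] at hf
    exact (hL.le_iff.1 (le_of_factor (hZT.trans hTL) hO hZM hf)).resolve_left hM.1 |>.symm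
  by_cases hmM : ∀ U : Subgroup G, IsPGroup p U → U ≤ M → T ≤ U → U = T
  swap
  · push Not at hmM
    obtain ⟨U₁, hU₁, hU₁M, hTU₁, hne₁⟩ := hmM
    have hNM : ∀ K : Subgroup G, IsCoatom K → N ≤ K → K = M := fun K hK hNK =>
      ihU (hU₁.to_le inf_le_right) (hgrow hU₁ hTU₁ hne₁) (inf_le_right.trans hU₁M) hK
        (inf_le_left.trans hNK)
    have hle : ∀ X : Subgroup G, N ≤ X → X ≠ ⊤ → X ≤ M := fun X hNX hX => by
      obtain ⟨K, hK, hXK⟩ := (eq_top_or_exists_le_coatom X).resolve_left hX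
      exact (hNM K hK (hNX.trans hXK)) ▸ hXK
    have hNle : N ≤ M := hle N le_rfl (ms_normalizer_ne_top hG hT1 hTtop)
    have hZ1 : Z ≠ ⊥ := by rw [hZdef, hz]; exact induced_ne_bot hW hT hT1
    refine hviaZ (hle _ ?_ (ms_normalizer_ne_top hG hZ1 (ms_isPGroup_ne_top hG (hT.to_le hZT))))
      (hmaxL hNle)
    intro g hg
    refine conjBy_eq_self_iff.1 ?_
    rw [hZdef, hz]
    show (Cfsg.inducedFunctor CfsgLib.Fusion.zjFun T).map (MulAut.conj g).toMonoidHom = _
    rw [← induced_map hW hT (MulAut.conj g).toMonoidHom (MulAut.conj g).injective]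
    exact congrArg (fun X => Cfsg.inducedFunctor CfsgLib.Fusion.zjFun X) (conjBy_eq_self_iff.2 hg)
  -- `T` is a Sylow subgroup of `M`
  set K := coCore M p with hK
  by_cases hK1 : K = ⊥
  · obtain ⟨eM, hfull⟩ := full_sylow hG hM hK1 (hpT.trans (card_dvd_of_le hTM)) hTM hT hmM
    exact hviaZ eM.ge fun U hU _ hTU => hfull U hU hTU
  have hNK : normalizer (K : Set G) = M :=
    ms_normalizer_eq hG hM coCore_le hK1 le_normalizer_coCore
  have hTinK : ∀ Y : Subgroup G, T ≤ normalizer (Y : Set G) → ¬ p ∣ Nat.card Y → Y ≤ K := by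
    intro Y hTY hY
    have hYM := hinv Y (hBT.trans hTY) hY
    have h1 := le_pPrimeCore_of_sylow_invariant (pCons_of_isSolvable (H := M))
      (sylowOfMax hT hTM hmM) (K := Y.subgroupOf M)
      (by rw [Nat.card_congr (subgroupOfEquivOfLe hYM).toEquiv]
          exact (hp.out.coprime_iff_not_dvd.2 hY).symm)
      (fun a ha => mem_normalizer_iff.2 fun y => mem_normalizer_iff.1 (hTY ha) (y : G))
    exact fun y hy => ⟨⟨y, hYM hy⟩, h1 hy, rfl⟩
  have hperm : ∀ {X : Subgroup G}, X ≤ M →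
      (∀ Y : Subgroup G, X ≤ normalizer (Y : Set G) → ¬ p ∣ Nat.card Y → Y ≤ K) →
      normalizer (X : Set G) ≤ M := by
    intro X hXM hXK g hg
    rw [← hNK]
    refine conjBy_eq_self_iff.1 (eq_of_le_of_card_ge (hXK _ ?_ ?_)
      (CfsgLib.Coprime.card_conjBy g K).ge)
    · intro a ha
      refine conjBy_eq_self_iff.1 ?_
      have h1 := conjBy_eq_self_iff.2
        ((hXM.trans (le_normalizer_coCore (s := p))) ((mem_normalizer_iff''.1 hg a).1 ha))
      show conjBy a (conjBy g (coCore M p)) = conjBy g (coCore M p)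
      conv_rhs => rw [← h1]
      rw [CfsgLib.Coprime.conjBy_conjBy, CfsgLib.Coprime.conjBy_conjBy]
      congr 1
      group
    · rw [CfsgLib.Coprime.card_conjBy]; exact not_dvd_coCore
  have hNM : N ≤ M := hperm hTM hTinK
  have hfull : ∀ U : Subgroup G, IsPGroup p U → T ≤ U → U = T := by
    intro U hU hTU
    by_contra hne
    exact (hgrow hU hTU hne).ne
      (hmM _ (hU.to_le inf_le_right) (inf_le_left.trans hNM) (hgrow hU hTU hne).le).symm
  let S : Sylow p G := ⟨T, hT, fun hU hle => hfull _ hU hle⟩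
  set SL := sylowOfMax hT hTL fun U hU _ hTU => hfull U hU hTU with hSL
  set Q := T ⊓ (Cfsg.pPrimePCore p L).map L.subtype with hQdef
  have hQT : Q ≤ T := inf_le_left
  have hNQ : normalizer (Q : Set G) ≤ M := by
    by_cases hr : Cfsg.PRankLE p 2 T
    · have hL2 : Cfsg.PRankLE p 2 L := pRankLE_of_sylow SL (by
        rw [hSL, coe_sylowOfMax, map_subgroupOf_eq_of_le hTL]; exact hr)
      have hQeq : Q = T := by
        refine le_antisymm hQT (le_inf le_rfl ?_)
        haveI : (Cfsg.pPrimeCore p L).Normal := Subgroup.sSup_normal _ fun _ h => h.1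
        haveI := CfsgLib.Coprime.pCore_normal' (G := ↥L ⧸ Cfsg.pPrimeCore p L) p
        set π := QuotientGroup.mk' (Cfsg.pPrimeCore p L)
        set V := Cfsg.pCore p (↥L ⧸ Cfsg.pPrimeCore p L)
        have hT' : IsPGroup p ↥(V ⊔ (T.subgroupOf L).map π) :=
          (CfsgLib.Coprime.pCore_isPGroup p).to_sup_of_normal_left
            ((hT.of_equiv (subgroupOfEquivOfLe hTL).symm).map π)
        have hV := ((CfsgLib.Coprime.pCore_isPGroup (G := ↥L ⧸ Cfsg.pPrimeCore p L) p).toSylow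
          (commutator_le_pPrimePCore hp2 hLodd hL2).2).3 hT' le_sup_left
        intro x hx
        refine ⟨⟨x, hTL hx⟩, ?_, rfl⟩
        show π ⟨x, hTL hx⟩ ∈ V
        exact hV.le (mem_sup_right (mem_map_of_mem π hx))
      rw [hQeq]; exact hNM
    · obtain ⟨A, hA, hA3⟩ := exists_scn_three hG S hp2 hr
      have hAQ : A ≤ Q := by
        refine le_inf hA.1 ?_
        have hAL : A ≤ L := hA.1.trans hTL
        have h1 := le_pPrimePCore_of_abelian hLodd SL (A := A.subgroupOf L) (comap_mono hA.1)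
          ⟨⟨fun a b => Subtype.ext (Subtype.ext
            (mem_centralizer_iff.1 (hA.2.2.ge b.2).2 _ a.2))⟩⟩
          (fun a ha => mem_normalizer_iff.2 fun y => mem_normalizer_iff.1 (hA.2.1 ha) (y : G))
        exact fun x hx => ⟨⟨x, hAL hx⟩, h1 hx, rfl⟩
      refine hperm (hQT.trans hTM) fun Y hQY hY => ?_
      have hYM : Y ≤ M := invariant_le_of_scn hG hM hp2 S hA hA3 hTM
        (fun Y hSY hY => hinv Y (hBT.trans hSY) hY) (hAQ.trans hQY) hY
      have hAM : A ≤ M := hA.1.trans hTM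
      have h1 := le_pPrimeCore_of_invariant (pCons_of_isSolvable (H := M))
        ((S.2.to_le hA.1).of_equiv (subgroupOfEquivOfLe hAM).symm)
        (fun x hx hxp => scn_full S hA x
          (mem_centralizer_iff.2 fun b hb =>
            congrArg Subtype.val (mem_centralizer_iff.1 hx ⟨b, hAM hb⟩ hb))
          (by have h1 := hxp.map M.subtype; rwa [MonoidHom.map_zpowers] at h1))
        (fun h => absurd h hp2) (K := Y.subgroupOf M)
        (by rw [Nat.card_congr (subgroupOfEquivOfLe hYM).toEquiv]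
            exact (hp.out.coprime_iff_not_dvd.2 hY).symm)
        (fun a ha => mem_normalizer_iff.2 fun y =>
          mem_normalizer_iff.1 ((hAQ.trans hQY) ha) (y : G))
      exact fun y hy => ⟨⟨y, hYM hy⟩, h1 hy, rfl⟩
  -- the Frattini factorization by `Q`
  have hmapQ : ((Q.subgroupOf L).map (QuotientGroup.mk' (Cfsg.pPrimeCore p L))).Normal := by
    haveI : (Cfsg.pPrimeCore p L).Normal := Subgroup.sSup_normal _ fun _ h => h.1
    haveI := CfsgLib.Coprime.pCore_normal' (G := ↥L ⧸ Cfsg.pPrimeCore p L) p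
    set π := QuotientGroup.mk' (Cfsg.pPrimeCore p L)
    set V := Cfsg.pCore p (↥L ⧸ Cfsg.pPrimeCore p L)
    suffices (Q.subgroupOf L).map π = V by rw [this]; infer_instance
    have hSLm : V ≤ ((SL : Subgroup L)).map π :=
      le_sup_left.trans ((SL.mapSurjective (QuotientGroup.mk'_surjective _)).3
        ((CfsgLib.Coprime.pCore_isPGroup p).to_sup_of_normal_left
          (SL.mapSurjective (QuotientGroup.mk'_surjective _)).2) le_sup_right).le
    refine le_antisymm ?_ fun v hv => ?_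
    · rintro _ ⟨x, ⟨-, y, hy, hye⟩, rfl⟩
      have : y = x := Subtype.ext hye
      exact this ▸ hy
    · obtain ⟨t, ht, rfl⟩ := hSLm hv
      exact ⟨t, ⟨ht, t, hv, rfl⟩, rfl⟩
  obtain ⟨-, hf⟩ := sup_normalizer_of_map_normal
    ((hT.to_le hQT).of_equiv (subgroupOfEquivOfLe (hQT.trans hTL)).symm) hmapQ
  exact ((hL.le_iff.1 (le_of_factor (hQT.trans hTL) hO hNQ hf)).resolve_left hM.1).symm

/-- A noncyclic elementary subgroup whose invariant `p'`-subgroups lie in `M` is in `M` only. -/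
theorem inUniqueMaximal_of_inv (hBM : B ≤ M) (hBe : Cfsg.IsElementaryAbelian p B)
    (hBnc : ¬ IsCyclic B)
    (hinv : ∀ Y : Subgroup G, B ≤ normalizer (Y : Set G) → ¬ p ∣ Nat.card Y → Y ≤ M) :
    Cfsg.InUniqueMaximal B :=
  ⟨M, ⟨hM, hBM⟩, fun L hL => eq_of_inv_le hG hM hBM
    (fun a => ⟨1, Subtype.ext (by rw [pow_one]; exact hBe.2 a a.2)⟩)
    (fun e => hBnc (isCyclic_of_ambient e)) hinv _ B L
    (fun a => ⟨1, Subtype.ext (by rw [pow_one]; exact hBe.2 a a.2)⟩) le_rfl rfl hBM hL.1 hL.2⟩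

/-- A subgroup covered by the centralizers of a noncyclic `B` lies in `M`. -/
theorem inv_le_of_centralizers (hBe : Cfsg.IsElementaryAbelian p B) (hBnc : ¬ IsCyclic B)
    (hcen : ∀ b ∈ B, b ≠ 1 → centralizer ({b} : Set G) ≤ M)
    {Y : Subgroup G} (hBY : B ≤ normalizer (Y : Set G)) (hY : ¬ p ∣ Nat.card Y) : Y ≤ M := by
  haveI := hBe.1
  refine CfsgLib.Coprime.le_of_centralizers_le hBnc hBY ?_ fun a ha ha1 =>
    inf_le_right.trans (hcen a ha ha1)
  obtain ⟨n, hn⟩ := IsPGroup.iff_card.1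
    (show IsPGroup p B from fun a => ⟨1, Subtype.ext (by rw [pow_one]; exact hBe.2 a a.2)⟩)
  rw [hn]
  exact (hp.out.coprime_iff_not_dvd.2 hY).pow_left n

end Uniqueness

end CfsgLib.CFun
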