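import Cfsg.Agent.Lib.CFun.OddZgroupCore
import Cfsg.Agent.Lib.CFun.OddUniqueBase
import Cfsg.Agent.Lib.Coprime.Action
import Cfsg.Agent.Lib.Coprime.PGroupFrattini

/-!
# A fixed-point-free operator of prime order inside an odd group of operators

If an element `a` of prime order fixes no nontrivial element of an elementary abelian group, it
commutes with every odd group of operators of order prime to it and to the characteristic that it
normalizes.
-/

set_option autoImplicit false
set_option linter.style.haveILetI false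
set_option linter.unusedSectionVars false

open Subgroup
open scoped commutatorElement
open CfsgLib.Coprime (conj_mem_of_le_normalizer)
open CfsgLib.PGroup (dRep dRep_apply IsEigen ImgComm eq_zero_of_forall_eigen hh_classTwo subRep
  subRep_apply)

namespace CfsgLib.CFun.FpfComm

universe u

variable {V : Type u} [CommGroup V] [Finite V] {l r : ℕ} [hl : Fact l.Prime]
variable (hV : ∀ v : V, v ^ l = 1) {a : MulAut V} (hr : r.Prime) (hrl : r ≠ l) (har : a ^ r = 1)
  (hfix : ∀ v : V, a v = v → v = 1)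
include hV hr hrl har hfix

/-- The case of class two. -/
theorem commute_of_central {q : ℕ} [hq : Fact q.Prime] (hq2 : q ≠ 2) (hql : q ≠ l) (hqr : q ≠ r)
    {Q Y : Subgroup (MulAut V)} (hQ : IsPGroup q Q) (haQ : a ∈ normalizer (Q : Set (MulAut V)))
    (hYQ : Y ≤ Q) (hYc : ∀ y ∈ Y, ∀ x ∈ Q, y * x = x * y) (haY : ∀ y ∈ Y, a * y = y * a)
    (hder : ∀ x ∈ Q, ∀ y ∈ Q, ⁅x, y⁆ ∈ Y) : Q ≤ centralizer ({a} : Set (MulAut V)) := by
  classical
  let k := AlgebraicClosure (ZMod l)
  haveI : CharP k l := charP_of_injective_algebraMap (algebraMap (ZMod l) k).injective l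
  have hcast : ∀ {m : ℕ}, m.Prime → m ≠ l → (m : k) ≠ 0 := fun {m} hm hne e =>
    hne ((Nat.prime_dvd_prime_iff_eq hl.out hm).1 ((CharP.cast_eq_zero_iff k l m).1 e)).symm
  obtain ⟨hfd, -⟩ := CfsgLib.PGroup.finrank_addHom (V := V) hV k
  let ρ := dRep k (MonoidHom.id (MulAut V))
  haveI : Fintype Y := Fintype.ofFinite Y
  have hYi : ImgComm ρ Y := fun y hy z hz => congrArg ρ (hYc y hy z (hYQ hz))
  have hYk : (Fintype.card Y : k) ≠ 0 := by
    obtain ⟨j, hj⟩ := IsPGroup.iff_card.1 (hQ.to_le hYQ)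
    rw [← Nat.card_eq_fintype_card, hj, Nat.cast_pow]
    exact pow_ne_zero _ (hcast hq.out hql)
  set S : Subgroup (MulAut V) := centralizer (Y : Set (MulAut V))
  have hQS : Q ≤ S := fun x hx => mem_centralizer_iff.2 fun y hy => hYc y hy x hx
  have haS : a ∈ S := mem_centralizer_iff.2 fun y hy => (haY y hy).symm
  intro x hx
  refine mem_centralizer_singleton_iff.2 ?_
  have hx' : a * x * a⁻¹ ∈ Q := (mem_normalizer_iff.1 haQ x).1 hx
  suffices e : ρ (a * x * a⁻¹) = ρ x by
    have e' : (a * x * a⁻¹)⁻¹ = x⁻¹ :=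
      MulEquiv.ext fun v => CfsgLib.CFun.ZLen.eq_of_dRep_eq hV e v
    exact (mul_inv_eq_iff_eq_mul.1 (inv_inj.1 e')).symm
  refine sub_eq_zero.1 (eq_zero_of_forall_eigen ρ hYi hYk _ ?_ ?_)
  · intro y hy w
    rw [LinearMap.sub_apply, LinearMap.sub_apply, map_sub, ← PGroup.rep_mul_apply,
      ← PGroup.rep_mul_apply, ← PGroup.rep_mul_apply, ← PGroup.rep_mul_apply,
      hYc y hy _ hx', hYc y hy x hx]
  · intro χ w hw
    let U : Submodule k (Additive V →+ k) :=
      { carrier := {v | IsEigen ρ Y χ v}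
        add_mem' := fun {u v} hu hv z => by rw [map_add, hu z, hv z, smul_add]
        zero_mem' := fun z => by rw [map_zero, smul_zero]
        smul_mem' := fun s v hv z => by rw [map_smul, hv z, smul_comm] }
    have hUS : ∀ s ∈ S, ∀ v ∈ U, ρ s v ∈ U := fun s hs v hv z => by
      rw [← PGroup.rep_mul_apply, mem_centralizer_iff.1 hs z z.2, PGroup.rep_mul_apply, hv z,
        map_smul]
    let ρ' := subRep ρ U S hUS
    set Q₁ := Q.subgroupOf S
    have hcl : ∀ u ∈ Q₁, ∀ y ∈ Q₁, ∃ s : k, ρ' (u * y * u⁻¹ * y⁻¹) = s • 1 := by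
      intro u hu y hy
      refine ⟨χ ⟨_, hder _ hu _ hy⟩, LinearMap.ext fun v => Subtype.ext ?_⟩
      rw [subRep_apply]
      exact v.2 ⟨_, hder _ hu _ hy⟩
    have hv0 : ∀ v : U, ρ' ⟨a, haS⟩ v = v → v = 0 := fun v hv =>
      Subtype.ext (CfsgLib.CFun.ZLen.eq_zero_of_fixed (hcast hr hrl) har hfix
        (congrArg Subtype.val hv))
    rcases hh_classTwo (k := k) (W := U) (H := S) ρ' Q₁ hq.out hQ.comap_subtype
        (hcast hq.out hql) hr (hcast hr hrl) hqr ⟨a, haS⟩ (Subtype.ext har)
        (mem_normalizer_iff.2 fun z => mem_normalizer_iff.1 haQ (z : MulAut V)) hcl hv0 with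
      hh | ⟨n, h2, -⟩
    · rw [LinearMap.sub_apply, sub_eq_zero]
      exact congrArg Subtype.val (LinearMap.congr_fun (hh ⟨x, hQS hx⟩ hx) ⟨w, hw⟩)
    · exact absurd h2 hq2

/-- The case of a group of prime power order. -/
theorem commute_qgroup {q : ℕ} [hq : Fact q.Prime] (hq2 : q ≠ 2) (hql : q ≠ l) (hqr : q ≠ r) :
    ∀ (n : ℕ) (Q : Subgroup (MulAut V)), Nat.card Q ≤ n → IsPGroup q Q →
      a ∈ normalizer (Q : Set (MulAut V)) → Q ≤ centralizer ({a} : Set (MulAut V)) := by
  intro n
  induction n with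
  | zero => intro Q h; exact absurd h (not_le.2 Nat.card_pos)
  | succ n IH =>
    intro Q hn hQ haQ
    have hlt : ∀ Y : Subgroup (MulAut V), Y ≤ Q → Y ≠ Q →
        a ∈ normalizer (Y : Set (MulAut V)) → Y ≤ centralizer ({a} : Set (MulAut V)) := by
      intro Y hY hne haY
      refine IH Y ?_ (hQ.to_le hY) haY
      have h1 : Nat.card Y < Nat.card Q := lt_of_le_of_ne (card_le_of_le hY)
        fun e => hne (eq_of_le_of_card_ge hY e.ge)
      omega
    set A := zpowers a
    have hAQ : A ≤ normalizer (Q : Set (MulAut V)) := zpowers_le.2 haQ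
    have hcop : (Nat.card A).Coprime (Nat.card Q) := by
      obtain ⟨j, hj⟩ := IsPGroup.iff_card.1 hQ
      rw [hj, Nat.card_zpowers]
      exact (((Nat.coprime_primes hr hq.out).2 hqr.symm).pow_right j).coprime_dvd_left
        (orderOf_dvd_of_pow_eq_one har)
    have hsol : Group.IsSolvable A ∨ Group.IsSolvable Q :=
      Or.inl (CfsgLib.Coprime.isSolvable_of_isMulCommutative inferInstance)
    have hcle : ⁅Q, A⁆ ≤ Q := commutator_le.2 fun x hx b hb => by
      rw [commutatorElement_def, show x * b * x⁻¹ * b⁻¹ = x * (b * x⁻¹ * b⁻¹) by group]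
      exact mul_mem hx (conj_mem_of_le_normalizer hAQ hb (inv_mem hx))
    by_cases hne : ⁅Q, A⁆ = Q
    swap
    · have h1 := hlt _ hcle hne (PGroup.le_normalizer_commutator hAQ le_normalizer (mem_zpowers a))
      have h2 : A ≤ centralizer ((⁅Q, A⁆ : Subgroup (MulAut V)) : Set (MulAut V)) :=
        zpowers_le.2 (mem_centralizer_iff.2 fun y hy => mem_centralizer_singleton_iff.1 (h1 hy))
      have h3 := CfsgLib.Coprime.le_centralizer_of_le_centralizer_commutator hAQ hcop hsol h2
      exact fun y hy => mem_centralizer_singleton_iff.2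
        (mem_centralizer_iff.1 (h3 (mem_zpowers a)) y hy)
    by_cases hQ1 : Q = ⊥
    · rw [hQ1]; exact bot_le
    set Φ : Subgroup (MulAut V) := (frattini Q).map Q.subtype with hΦ
    have hΦQ : Φ ≤ Q := map_subtype_le _
    have hΦne : Φ ≠ Q := fun e => by
      have hQt : frattini Q = ⊤ := map_injective Q.subtype_injective (by
        rw [← hΦ, e, ← MonoidHom.range_eq_map, Q.range_subtype])
      have hbot : (⊥ : Subgroup Q) = ⊤ := frattini_nongenerating (by rw [bot_sup_eq, hQt])
      refine hQ1 ((Subgroup.eq_bot_iff_forall _).2 fun y hy => ?_)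
      have h1 : (⟨y, hy⟩ : Q) ∈ (⊥ : Subgroup Q) := by rw [hbot]; exact mem_top _
      exact (congrArg Subtype.val (mem_bot.1 h1) :)
    have haΦ := hlt Φ hΦQ hΦne (PGroup.normalizer_le_normalizer_frattini Q haQ)
    have hQΦ : Q ≤ normalizer (Φ : Set (MulAut V)) :=
      le_normalizer.trans (PGroup.normalizer_le_normalizer_frattini Q)
    have hAΦ : ∀ y ∈ Φ, ∀ b ∈ A, Commute b y := by
      rintro y hy _ ⟨i, rfl⟩
      exact (show Commute a y from (mem_centralizer_singleton_iff.1 (haΦ hy)).symm).zpow_left i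
    have hΦc : ∀ y ∈ Φ, ∀ x ∈ Q, y * x = x * y := by
      intro y hy
      suffices h : Q ≤ centralizer ({y} : Set (MulAut V)) from
        fun x hx => (mem_centralizer_singleton_iff.1 (h hx)).symm
      conv_lhs => rw [← hne]
      rw [commutator_le]
      intro x hx b hb
      rw [mem_centralizer_singleton_iff]
      have h1 : Commute b (x⁻¹ * y * x⁻¹⁻¹) :=
        hAΦ _ (conj_mem_of_le_normalizer hQΦ (inv_mem hx) hy) b hb
      have h2 : Commute (x * b * x⁻¹) y := by
        have h3 := Commute.conj h1 x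
        rwa [show x * (x⁻¹ * y * x⁻¹⁻¹) * x⁻¹ = y by group] at h3
      rw [commutatorElement_def]
      exact (h2.mul_left ((hAΦ y hy b hb).inv_left)).eq
    refine commute_of_central hV hr hrl har hfix hq2 hql hqr hQ haQ hΦQ hΦc
      (fun y hy => (mem_centralizer_singleton_iff.1 (haΦ hy)).symm) fun x hx y hy => ?_
    exact ⟨⁅(⟨x, hx⟩ : Q), ⟨y, hy⟩⁆, CfsgLib.Coprime.commutator_le_frattini hQ
      (commutator_mem_commutator (mem_top _) (mem_top _)), rfl⟩

/-- An odd group of operators of coprime order normalized by `a` commutes with `a`. -/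
theorem commute_group {K : Subgroup (MulAut V)} (hodd : Odd (Nat.card K))
    (hrK : ¬ r ∣ Nat.card K) (hlK : ¬ l ∣ Nat.card K) (haK : a ∈ normalizer (K : Set (MulAut V))) :
    K ≤ centralizer ({a} : Set (MulAut V)) := by
  have hA : zpowers a ≤ normalizer (K : Set (MulAut V)) := zpowers_le.2 haK
  refine le_of_invariant_sylows hA ?_
    (Or.inl (CfsgLib.Coprime.isSolvable_of_isMulCommutative inferInstance)) fun q hq hd Q hQK hQ hAQ => ?_
  · rw [Nat.card_zpowers]
    exact (hr.coprime_iff_not_dvd.2 hrK).coprime_dvd_left (orderOf_dvd_of_pow_eq_one har)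
  haveI : Fact q.Prime := ⟨hq⟩
  refine commute_qgroup hV hr hrl har hfix ?_ ?_ ?_ _ Q le_rfl hQ (hAQ (mem_zpowers a))
  · rintro rfl
    exact Nat.not_even_iff_odd.2 hodd (even_iff_two_dvd.2 hd)
  · rintro rfl; exact hlK hd
  · rintro rfl; exact hrK hd

end CfsgLib.CFun.FpfComm
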