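import Cfsg.Agent.Lib.CFun.OddFpfCentralize
import Cfsg.Agent.Lib.PGroup.FixedPointFree
import Cfsg.Agent.Lib.PGroup.RepWeights
import Mathlib.LinearAlgebra.FiniteDimensional.Lemmas

/-!
# A fixed-point-free operator of prime order on operators of a group of order at most `l ^ p`

If the order `p` element `a` acts fixed-point-freely on an operator group `K` of an elementary
abelian group of order at most `l ^ p`, then `K` is abelian.
-/

set_option autoImplicit false
set_option linter.style.haveILetI false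
set_option linter.unusedSectionVars false

open Subgroup
open scoped commutatorElement
open CfsgLib.PGroup (dRep IsEigen ImgComm eigProj eigProj_self eigProj_ne exists_eigen
  eq_zero_of_forall_eigen isEigen_eigProj twist twist_congr twist_twist twist_one twist_apply)

namespace CfsgLib.CFun.FrobFix

universe u

variable {V : Type u} [CommGroup V] [Finite V] {l p : ℕ} [hl : Fact l.Prime] [hp : Fact p.Prime]

/-- A group of operators with a fixed-point-free element of order `p` on at most `l ^ p` points
is abelian. -/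
theorem commute_of_card_le (hV : ∀ v : V, v ^ l = 1) (hcard : Nat.card V ≤ l ^ p)
    {K : Subgroup (MulAut V)} (hlK : ¬ l ∣ Nat.card K) {a : MulAut V} (hap : a ^ p = 1)
    (haK : a ∈ normalizer (K : Set (MulAut V))) (hfpf : ∀ y ∈ K, a * y = y * a → y = 1) :
    ∀ x ∈ K, ∀ y ∈ K, x * y = y * x := by
  classical
  by_cases hK1 : K = ⊥
  · intro x hx y hy
    rw [hK1, mem_bot] at hx hy
    rw [hx, hy]
  -- the operator on `K`
  let φ : K ≃* K := normalizerMonoidHom K ⟨a, haK⟩
  have hφ : MonoidHom.FixedPointFree φ := fun y hy => by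
    refine Subtype.ext (hfpf y y.2 ?_)
    have e : a * (y : MulAut V) * a⁻¹ = y := congrArg Subtype.val hy
    exact mul_inv_eq_iff_eq_mul.1 e
  have hiter : ∀ (n : ℕ) (y : K),
      ((φ^[n] y : K) : MulAut V) = a ^ n * (y : MulAut V) * (a ^ n)⁻¹ := by
    intro n
    induction n with
    | zero => intro y; simp
    | succ n ih =>
      intro y
      rw [Function.iterate_succ_apply', pow_succ']
      show a * ((φ^[n] y : K) : MulAut V) * a⁻¹ = _
      rw [ih]
      group
  haveI : Group.IsNilpotent K := CfsgLib.PGroup.isNilpotent_of_fixedPointFree hp.out K φ hφ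
    fun y => Subtype.ext (by rw [hiter, hap, one_mul, inv_one, mul_one])
  haveI : Nontrivial K := K.nontrivial_iff_ne_bot.2 hK1
  set Y : Subgroup (MulAut V) := (center K).map K.subtype with hY
  have hY1 : Y ≠ ⊥ := fun e => Group.IsNilpotent.center_ne_bot (G := K)
    ((map_eq_bot_iff_of_injective _ K.subtype_injective).1 e)
  have hYK : Y ≤ K := map_subtype_le _
  have hYc : ∀ y ∈ Y, ∀ x ∈ K, x * y = y * x := by
    rintro _ ⟨y, hy, rfl⟩ x hx
    exact congrArg Subtype.val (mem_center_iff.1 hy ⟨x, hx⟩)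
  have haY : a ∈ normalizer (Y : Set (MulAut V)) := by
    have h1 : normalizer (K : Set (MulAut V)) ≤ normalizer (Y : Set (MulAut V)) :=
      CfsgLib.PGroup.normalizer_le_normalizer_map_char K (center K)
    exact h1 haK
  let k := AlgebraicClosure (ZMod l)
  haveI : CharP k l := charP_of_injective_algebraMap (algebraMap (ZMod l) k).injective l
  obtain ⟨hfd, hcardV⟩ := CfsgLib.PGroup.finrank_addHom (V := V) hV k
  let ρ := dRep k (MonoidHom.id (MulAut V))
  have hfaith : ∀ x y : MulAut V, ρ x = ρ y → x = y := fun x y h =>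
    inv_inj.1 (MulEquiv.ext fun v => CfsgLib.CFun.ZLen.eq_of_dRep_eq hV h v)
  have hdim : Module.finrank k (Additive V →+ k) ≤ p :=
    (Nat.pow_le_pow_iff_right hl.out.one_lt).1 (hcardV ▸ hcard)
  haveI : Fintype Y := Fintype.ofFinite Y
  have hYi : ImgComm ρ Y := fun y hy z hz => congrArg ρ (hYc z hz y (hYK hy))
  have hYk : (Fintype.card Y : k) ≠ 0 := by
    rw [← Nat.card_eq_fintype_card, Ne, CharP.cast_eq_zero_iff k l]
    exact fun h => hlK (h.trans (card_dvd_of_le hYK))
  -- a nontrivial weight
  obtain ⟨χ, w, hw0, hw, hχ⟩ : ∃ χ w, w ≠ 0 ∧ IsEigen ρ Y χ w ∧ χ ≠ 1 := by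
    by_contra hno
    push Not at hno
    refine hY1 ((Subgroup.eq_bot_iff_forall _).2 fun y hy => hfaith y 1 ?_)
    refine sub_eq_zero.1 (eq_zero_of_forall_eigen ρ hYi hYk _ (fun z hz x => ?_) fun ψ x hx => ?_)
    · rw [map_one, LinearMap.sub_apply, LinearMap.sub_apply, map_sub, Module.End.one_apply,
        Module.End.one_apply, ← PGroup.rep_mul_apply, ← PGroup.rep_mul_apply, hYc z hz y (hYK hy)]
    · by_cases hx0 : x = 0
      · rw [hx0, map_zero]
      rw [map_one, LinearMap.sub_apply, Module.End.one_apply, hx ⟨y, hy⟩, hno ψ x hx0 hx,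
        MonoidHom.one_apply, Units.val_one, one_smul, sub_self]
  have hpow : ∀ i : ℕ, a ^ i ∈ normalizer (Y : Set (MulAut V)) := fun i => pow_mem haY i
  let o : Fin p → (Y →* kˣ) := fun i => twist Y (hpow i) χ
  -- the translates are distinct
  have hmove : ∀ m : ℕ, ¬ p ∣ m → twist Y (hpow m) χ ≠ χ := by
    intro m hm e
    have hmul : ∀ j : ℕ, twist Y (hpow (m * j)) χ = χ := by
      intro j
      induction j with
      | zero => rw [twist_congr (by rw [mul_zero, pow_zero]) (hpow _) (one_mem _), twist_one]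
      | succ j ih =>
        rw [twist_congr (show a ^ (m * (j + 1)) = a ^ (m * j) * a ^ m by
          rw [← pow_add, Nat.mul_succ]) (hpow _) (mul_mem (hpow _) (hpow m)), ← twist_twist (hpow _) (hpow m), e, ih]
    obtain ⟨j, hj⟩ := exists_pow_eq_self_of_coprime (n := m) (x := a)
      ((hp.out.coprime_iff_not_dvd.2 hm).symm.coprime_dvd_right (orderOf_dvd_of_pow_eq_one hap))
    have ha1 : twist Y haY χ = χ := by
      rw [twist_congr (show a = a ^ (m * j) by rw [pow_mul, hj]) haY (hpow _)]
      exact hmul j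
    refine hχ (MonoidHom.ext fun z => ?_)
    -- every element of `Y` is a commutator with `a`
    let f : Y → Y := fun y => y⁻¹ *
      ⟨a⁻¹ * (y : MulAut V) * a, (mem_normalizer_iff''.1 haY _).1 y.2⟩
    have hf : Function.Injective f := by
      intro y y' h
      have h' : (y : MulAut V)⁻¹ * (a⁻¹ * (y : MulAut V) * a) =
          (y' : MulAut V)⁻¹ * (a⁻¹ * (y' : MulAut V) * a) := congrArg Subtype.val h
      refine Subtype.ext (eq_of_mul_inv_eq_one
        (hfpf ((y : MulAut V) * (y' : MulAut V)⁻¹) (mul_mem (hYK y.2) (inv_mem (hYK y'.2))) ?_))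
      have h2 : a⁻¹ * ((y : MulAut V) * (y' : MulAut V)⁻¹) * a =
          (y : MulAut V) * (y' : MulAut V)⁻¹ := by
        calc a⁻¹ * ((y : MulAut V) * (y' : MulAut V)⁻¹) * a
            = (y : MulAut V) * ((y : MulAut V)⁻¹ * (a⁻¹ * (y : MulAut V) * a)) *
              (a⁻¹ * (y' : MulAut V) * a)⁻¹ := by group
          _ = (y : MulAut V) * (y' : MulAut V)⁻¹ := by rw [h']; group
      conv_lhs => rw [← h2]
      group
    obtain ⟨y, hy⟩ := (Finite.injective_iff_surjective.1 hf) z
    rw [← hy, map_mul, map_inv, MonoidHom.one_apply]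
    have := DFunLike.congr_fun ha1 y
    rw [twist_apply] at this
    rw [this, inv_mul_cancel]
  have hinj : Function.Injective o := by
    intro i j h
    by_contra hne
    rcases lt_trichotomy (i : ℕ) j with hlt | heq | hlt
    · refine hmove (j - i) (fun hd => ?_) ?_
      · exact absurd (Nat.le_of_dvd (by omega) hd) (by have := j.2; omega)
      · apply PGroup.twist_injective (hpow i)
        rw [twist_twist, twist_congr (show a ^ (i : ℕ) * a ^ ((j : ℕ) - i) = a ^ (j : ℕ) by
          rw [← pow_add, Nat.add_sub_cancel' hlt.le]) (mul_mem (hpow _) (hpow _)) (hpow _)]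
        exact h.symm
    · exact hne (Fin.ext heq)
    · refine hmove (i - j) (fun hd => ?_) ?_
      · exact absurd (Nat.le_of_dvd (by omega) hd) (by have := i.2; omega)
      · apply PGroup.twist_injective (hpow j)
        rw [twist_twist, twist_congr (show a ^ (j : ℕ) * a ^ ((i : ℕ) - j) = a ^ (i : ℕ) by
          rw [← pow_add, Nat.add_sub_cancel' hlt.le]) (mul_mem (hpow _) (hpow _)) (hpow _)]
        exact h
  let b : Fin p → (Additive V →+ k) := fun i => ρ (a ^ (i : ℕ)) w
  have hb : ∀ i, IsEigen ρ Y (o i) (b i) := fun i => hw.map ρ (hpow i)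
  have hb0 : ∀ i, b i ≠ 0 := fun i h => hw0 (PGroup.rep_injective ρ _ (h.trans (map_zero _).symm))
  have hproj : ∀ (g : Fin p → k) (j : Fin p),
      eigProj ρ (o j) (∑ i, g i • b i) = (Fintype.card Y : k) • g j • b j := by
    intro g j
    rw [map_sum, Finset.sum_eq_single j (fun i _ hij => ?_) (fun h => absurd (Finset.mem_univ j) h)]
    · rw [map_smul, eigProj_self ρ (hb j), smul_comm]
    · rw [map_smul, eigProj_ne ρ (hb i) fun e => hij (hinj e.symm), smul_zero]
  have hli : LinearIndependent k b := by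
    refine Fintype.linearIndependent_iff.2 fun g hg j => ?_
    have h1 := hproj g j
    rw [hg, map_zero] at h1
    rcases smul_eq_zero.1 h1.symm with e | e
    · exact absurd e hYk
    · exact (smul_eq_zero.1 e).resolve_right (hb0 j)
  haveI : Nonempty (Fin p) := ⟨⟨0, hp.out.pos⟩⟩
  have hspan : Submodule.span k (Set.range b) = ⊤ := hli.span_eq_top_of_card_eq_finrank
    (le_antisymm hli.fintype_card_le_finrank (by rw [Fintype.card_fin]; exact hdim))
  have hline : ∀ x ∈ K, ∀ i, ∃ s : k, ρ x (b i) = s • b i := by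
    intro x hx i
    obtain ⟨g, hg⟩ := (Submodule.mem_span_range_iff_exists_fun k).1
      (hspan.symm ▸ Submodule.mem_top : ρ x (b i) ∈ Submodule.span k (Set.range b))
    refine ⟨g i, ?_⟩
    have h1 : IsEigen ρ Y (o i) (ρ x (b i)) := fun y => by
      rw [← PGroup.rep_mul_apply, ← hYc y y.2 x hx, PGroup.rep_mul_apply, hb i y, map_smul]
    have h2 := eigProj_self ρ h1
    rw [← hg, hproj g i, hg] at h2
    exact (smul_right_injective _ hYk h2).symm
  intro x hx y hy
  refine hfaith _ _ (LinearMap.ext fun u => ?_)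
  have hu : u ∈ Submodule.span k (Set.range b) := hspan.symm ▸ Submodule.mem_top
  refine LinearMap.eqOn_span (f := ρ (x * y)) (g := ρ (y * x)) ?_ hu
  rintro _ ⟨i, rfl⟩
  obtain ⟨s, hs⟩ := hline x hx i
  obtain ⟨t, ht⟩ := hline y hy i
  rw [PGroup.rep_mul_apply, PGroup.rep_mul_apply, hs, ht, map_smul, map_smul, hs, ht, smul_smul,
    smul_smul, mul_comm]

end CfsgLib.CFun.FrobFix
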