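import Cfsg.Agent.Lib.CFun.OddElementCentralizer
import Cfsg.Agent.S1404

/-!
# The cosets `x R(x)`

`M_F ≤ M_σ`, fusion of elements of `M_σ` is controlled by `M` and centralizers, and the cosets
`x R(x)` of distinct elements are disjoint.
-/

set_option autoImplicit false
set_option linter.style.haveILetI false
set_option linter.unusedSectionVars false

open Subgroup
open scoped commutatorElement
open CfsgLib.Coprime (conjBy conjBy_conjBy conjBy_one mem_conjBy conj_mem_conjBy)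

namespace CfsgLib.CFun.Cosets

open CfsgLib.CFun.TauTwo CfsgLib.CFun.Disjoint CfsgLib.CFun.ElemCent

universe u

variable {G : Type u} [Group G] [Finite G] (hG : Cfsg.IsMinSimpleOddOrder G) {M N : Subgroup G}
include hG

/-- `M_F ≤ M_σ`. -/
theorem fittingHallOf_le (hM : IsCoatom M) : Cfsg.fittingHallOf M ≤ Cfsg.sigmaCore M := by
  refine map_le_iff_le_comap.2 (sSup_le fun N₀ hN₀ => ?_)
  obtain ⟨hn, hnil, hhall⟩ := hN₀
  refine map_le_iff_le_comap.1 (le_sigmaCore_of_isPiNum hG hM (map_subtype_le _) fun p hp hpd => ?_)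
  rw [card_map_of_injective M.subtype_injective] at hpd
  haveI : Fact p.Prime := ⟨hp⟩
  obtain ⟨P⟩ := (inferInstance : Nonempty (Sylow p N₀))
  haveI := hnil
  haveI := hn
  haveI : (P : Subgroup N₀).Characteristic :=
    Sylow.characteristic_of_normal P (Sylow.normal_of_normalizerCondition
      Group.normalizerCondition_of_isNilpotent P)
  set T := (P : Subgroup N₀).map N₀.subtype with hT
  haveI : T.Normal := ConjAct.normal_of_characteristic_of_normal
  have hP1 : (P : Subgroup N₀) ≠ ⊥ := fun e => by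
    have h1 : (P : Subgroup N₀).index = Nat.card N₀ := by rw [e, index_bot]
    exact P.not_dvd_index (h1 ▸ hpd)
  have hT1 : T ≠ ⊥ := fun e =>
    hP1 ((map_eq_bot_iff_of_injective _ N₀.subtype_injective).1 e)
  have hTidx : ¬ p ∣ T.index := by
    have h1 : T.index = (P : Subgroup N₀).index * N₀.index := by
      rw [hT, index_map_subtype]
    rw [h1]
    intro h
    rcases hp.dvd_mul.1 h with h2 | h2
    · exact P.not_dvd_index h2
    · exact hp.not_dvd_one ((Nat.Coprime.dvd_of_dvd_mul_right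
        (hp.coprime_iff_not_dvd.2 fun h3 => hp.not_dvd_one (by
          have := Nat.dvd_gcd h3 h2
          rwa [hhall] at this)) (by rw [one_mul]; exact hpd)))
  set S : Sylow p M := (P.2.map N₀.subtype).toSylow hTidx with hS
  refine ⟨hp, hpd.trans (card_subgroup_dvd_card N₀), S, ?_⟩
  have hST : (S : Subgroup M) = T := rfl
  rw [hST]
  refine (ms_normalizer_eq hG hM (map_subtype_le _)
    (fun e => hT1 ((map_eq_bot_iff_of_injective _ M.subtype_injective).1 e))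
    fun m hm => ?_).le
  have h2 : (⟨m, hm⟩ : M) ∈ normalizer (T : Set M) := by
    rw [normalizer_eq_top]; exact mem_top _
  exact le_normalizer_map M.subtype ⟨⟨m, hm⟩, h2, rfl⟩

/-- A nilpotent `M_σ` is `M_F`. -/
theorem fittingHallOf_eq (hM : IsCoatom M) (hnil : Group.IsNilpotent (Cfsg.sigmaCore M)) :
    Cfsg.fittingHallOf M = Cfsg.sigmaCore M := by
  refine le_antisymm (fittingHallOf_le hG hM) (map_mono (le_sSup ⟨inferInstance, ?_, ?_⟩))
  · haveI : Group.IsNilpotent ↥((Cfsg.piCore (Cfsg.sigma M) ↥M).map M.subtype) := hnil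
    exact Group.nilpotent_of_mulEquiv
      ((Cfsg.piCore (Cfsg.sigma M) ↥M).equivMapOfInjective M.subtype M.subtype_injective).symm
  · obtain ⟨hle, hπ, hidx⟩ := (sigmaCore_hall hG hM).1
    refine Nat.coprime_of_dvd fun r hr h1 h2 => ?_
    have h3 : r ∈ Cfsg.sigma M := hπ r hr (by
      rw [Cfsg.sigmaCore, card_map_of_injective M.subtype_injective]; exact h1)
    refine hidx r hr h3 ?_
    have h4 : (Cfsg.sigmaCore M).relIndex M = (Cfsg.piCore (Cfsg.sigma M) ↥M).index := by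
      rw [relIndex, Cfsg.sigmaCore, subgroupOf,
        comap_map_eq_self_of_injective M.subtype_injective]
    rw [h4]; exact h2

/-- Elements of `M_σ` have orders with primes in `σ(M)`. -/
theorem sigma_of_mem (hM : IsCoatom M) {x : G} (hx : x ∈ Cfsg.sigmaCore M) {r : ℕ} (hr : r.Prime)
    (hrd : r ∣ orderOf x) : r ∈ Cfsg.sigma M :=
  (sigmaCore_hall hG hM).1.2.1 r hr (hrd.trans (orderOf_dvd_natCard _ hx))

/-- `M` and centralizers control fusion from `M_σ`. -/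
theorem fusion (hM : IsCoatom M) {x : G} (hx : x ∈ Cfsg.sigmaCore M) (hx1 : x ≠ 1) {g : G}
    (hg : g * x * g⁻¹ ∈ M) : ∃ m ∈ M, ∃ c ∈ centralizer ({x} : Set G), g = m * c := by
  obtain ⟨q, hq, hqd⟩ := Nat.exists_prime_and_dvd fun e => hx1 (orderOf_eq_one_iff.1 e)
  haveI : Fact q.Prime := ⟨hq⟩
  obtain ⟨z, hz⟩ := exists_prime_orderOf_dvd_card' (G := zpowers x) q
    (by rwa [Nat.card_zpowers])
  have hzc : Nat.card (zpowers (z : G)) = q := by rw [Nat.card_zpowers, orderOf_coe, hz]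
  have hzx : zpowers (z : G) ≤ zpowers x := zpowers_le.2 z.2
  have hxM : x ∈ M := map_subtype_le _ hx
  have hz1 : (z : G) ≠ 1 := fun e => hq.ne_one (hz.symm.trans
    (orderOf_eq_one_iff.2 (Subtype.ext e)))
  have hzσ : (z : G) ∈ Cfsg.sigmaCore M := zpowers_le.2 hx z.2
  obtain ⟨m, hm, c, hc, rfl⟩ := (Cfsg.Agent.S1404.result hG M hM q (sigma_of_mem hG hM hx hq hqd)
    (zpowers (z : G)) (IsPGroup.of_card (n := 1) (by rw [hzc, pow_one])) (zpowers_ne_bot.2 hz1)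
    (hzx.trans (zpowers_le.2 hxM))).1 g (by
      rintro _ ⟨y, hy, rfl⟩
      obtain ⟨i, rfl⟩ := mem_zpowers_iff.1 (hzx hy)
      show g * x ^ i * g⁻¹ ∈ M
      rw [← conj_zpow]
      exact zpow_mem hg i)
  rw [centralizer_zpowers] at hc
  by_cases hzM : centralizer ({(z : G)} : Set G) ≤ M
  · exact ⟨m * c, mul_mem hm (hzM hc), 1, one_mem _, (mul_one _).symm⟩
  obtain ⟨L, hL, hzL, -, -, -, hD, -⟩ := exists_data hG hM hzσ hz1 hzM
  have hzD : (z : G) ∈ M ⊓ L := mem_inf.2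
    ⟨map_subtype_le _ hzσ, hzL (mem_centralizer_singleton_iff.2 rfl)⟩
  have hxz : x ∈ centralizer ({(z : G)} : Set G) := mem_centralizer_singleton_iff.2 (by
    obtain ⟨i, hi⟩ := mem_zpowers_iff.1 z.2
    rw [← hi, ← zpow_one_add, add_comm, zpow_add_one])
  obtain ⟨a, ha, b, hb, rfl⟩ := (centralizer_compl hG hD hzD hzL).2.2.2 c hc
  refine ⟨m * a, mul_mem hm ha.1.1, b, mem_centralizer_singleton_iff.2 ?_, (mul_assoc _ _ _).symm⟩
  have h1 : b * x * b⁻¹ ∈ M := by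
    have h2 := mul_mem (mul_mem (inv_mem (mul_mem hm ha.1.1)) hg) (mul_mem hm ha.1.1)
    rwa [show (m * a)⁻¹ * (m * (a * b) * x * (m * (a * b))⁻¹) * (m * a) = b * x * b⁻¹ by group]
      at h2
  have hxL : x ∈ L := hzL hxz
  have h3 : b * x * b⁻¹ * x⁻¹ ∈ (M ⊓ L) ⊓ Cfsg.sigmaCore L := by
    refine mem_inf.2 ⟨mul_mem (mem_inf.2 ⟨h1, mul_mem (mul_mem (hzL hb.2) hxL)
      (inv_mem (hzL hb.2))⟩) (inv_mem (mem_inf.2 ⟨hxM, hxL⟩)), ?_⟩
    rw [mul_assoc b x, mul_assoc b]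
    exact mul_mem hb.1 ((mem_normalizer_iff.1 (sigmaCore_normal hG L hxL) _).1 (inv_mem hb.1))
  rw [hD.2.2.1, mem_bot, mul_inv_eq_one, mul_inv_eq_iff_eq_mul] at h3
  exact h3

omit hG in
/-- In a product of commuting elements of coprime order each factor is a power. -/
theorem mem_zpowers_mul {a b : G} (hc : Commute a b) (hcop : (orderOf a).Coprime (orderOf b)) :
    a ∈ zpowers (a * b) := by
  obtain ⟨k, hk⟩ := exists_pow_eq_self_of_coprime (x := a) (n := orderOf b) hcop.symm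
  refine mem_zpowers_iff.2 ⟨(orderOf b * k : ℕ), ?_⟩
  rw [zpow_natCast, hc.mul_pow, pow_mul, pow_mul, pow_orderOf_eq_one, one_pow, mul_one, hk]

omit hG in
/-- The part of a product with orders in a set of primes is unique. -/
theorem part_unique {π : Set ℕ} {x r y s : G} (hxr : Commute x r) (hys : Commute y s)
    (hx : ∀ p : ℕ, p.Prime → p ∣ orderOf x → p ∈ π) (hr : ∀ p : ℕ, p.Prime → p ∣ orderOf r → p ∉ π)
    (hy : ∀ p : ℕ, p.Prime → p ∣ orderOf y → p ∈ π) (hs : ∀ p : ℕ, p.Prime → p ∣ orderOf s → p ∉ π)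
    (h : x * r = y * s) : x = y := by
  obtain ⟨i, hi⟩ := mem_zpowers_iff.1 (mem_zpowers_mul hxr
    (Nat.coprime_of_dvd fun p hp h1 h2 => hr p hp h2 (hx p hp h1)))
  obtain ⟨j, hj⟩ := mem_zpowers_iff.1 (mem_zpowers_mul hys
    (Nat.coprime_of_dvd fun p hp h1 h2 => hs p hp h2 (hy p hp h1)))
  rw [← h] at hj
  have hxy : Commute x y := hi ▸ hj ▸ (Commute.refl _).zpow_zpow i j
  have hrs : Commute r s := by
    have h1 : r = x⁻¹ * (x * r) := (inv_mul_cancel_left x r).symm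
    have h2 : s = y⁻¹ * (x * r) := by rw [h, inv_mul_cancel_left]
    have hx' : x ∈ zpowers (x * r) := ⟨i, hi⟩
    have hy' : y ∈ zpowers (x * r) := ⟨j, hj⟩
    obtain ⟨i', hi'⟩ := mem_zpowers_iff.1 (mul_mem (inv_mem hx') (mem_zpowers (x * r)))
    obtain ⟨j', hj'⟩ := mem_zpowers_iff.1 (mul_mem (inv_mem hy') (mem_zpowers (x * r)))
    rw [h1, h2, ← hi', ← hj']
    exact (Commute.refl _).zpow_zpow _ _
  have hcop : (orderOf (y⁻¹ * x)).Coprime (orderOf (s * r⁻¹)) := by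
    refine Nat.coprime_of_dvd fun p hp h1 h2 => ?_
    have h3 := h1.trans (Commute.orderOf_mul_dvd_mul_orderOf hxy.symm.inv_left)
    have h4 := h2.trans (Commute.orderOf_mul_dvd_mul_orderOf hrs.symm.inv_right)
    rw [orderOf_inv] at h3 h4
    exact ((hp.dvd_mul.1 h4).elim (hs p hp) (hr p hp))
      ((hp.dvd_mul.1 h3).elim (hy p hp) (hx p hp))
  have he : y⁻¹ * x = s * r⁻¹ := by
    rw [eq_mul_inv_iff_mul_eq, mul_assoc, h, inv_mul_cancel_left]
  rw [← he] at hcop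
  have h5 : y⁻¹ * x = 1 := orderOf_eq_one_iff.1 ((Nat.coprime_self _).1 hcop)
  exact (inv_mul_eq_one.1 h5).symm

/-- Nontrivial elements of `R(x)`. -/
theorem support_spec (hM : IsCoatom M) {x : G} (hx : x ∈ Cfsg.sigmaCore M) (hx1 : x ≠ 1) {r : G}
    (hr : r ∈ Cfsg.supportR M x) :
    r = 1 ∨ ∃ N : Subgroup G, IsCoatom N ∧ centralizer ({x} : Set G) ≤ N ∧ NotConj M N ∧
      Cfsg.IsComplIn (M ⊓ N) (Cfsg.sigmaCore N) N ∧
        r ∈ Cfsg.sigmaCore N ⊓ centralizer ({x} : Set G) := by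
  unfold Cfsg.supportR at hr
  split_ifs at hr with h
  · obtain ⟨N, hN, hxN, huniq, hnc, -, hD, -⟩ := exists_data hG hM hx hx1 h.1
    refine Or.inr ⟨N, hN, hxN, hnc, hD, ?_⟩
    have e : Classical.choose h.2.exists = N :=
      huniq _ (Classical.choose_spec h.2.exists).1 (Classical.choose_spec h.2.exists).2
    rw [e] at hr
    exact mem_inf.2 ⟨fittingHallOf_le hG hN hr.1, hr.2⟩
  · exact Or.inl (mem_bot.1 hr)

/-- The primes of elements of `R(x)` lie outside `σ(M)`. -/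
theorem support_order (hM : IsCoatom M) {x : G} (hx : x ∈ Cfsg.sigmaCore M) (hx1 : x ≠ 1) {r : G}
    (hr : r ∈ Cfsg.supportR M x) :
    Commute x r ∧ ∀ p : ℕ, p.Prime → p ∣ orderOf r → p ∉ Cfsg.sigma M := by
  rcases support_spec hG hM hx hx1 hr with rfl | ⟨N, hN, -, hnc, -, hrN⟩
  · exact ⟨Commute.one_right x, fun p hp hpd => absurd (orderOf_one (G := G) ▸ hpd) hp.not_dvd_one⟩
  · refine ⟨(mem_centralizer_singleton_iff.1 hrN.2).symm, fun p hp hpd hpM => ?_⟩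
    haveI : Fact p.Prime := ⟨hp⟩
    exact not_sigma hG hM hN hnc hpM (sigma_of_mem hG hN hrN.1 hp hpd)

/-- Cosets `x R(x)` of different elements are disjoint. -/
theorem coset_eq (hM : IsCoatom M) (hN : IsCoatom N) {x y r s : G} (hx : x ∈ Cfsg.sigmaCore M)
    (hx1 : x ≠ 1) (hy : y ∈ Cfsg.sigmaCore N) (hy1 : y ≠ 1) (hr : r ∈ Cfsg.supportR M x)
    (hs : s ∈ Cfsg.supportR N y) (h : x * r = y * s) :
    x = y ∧ ∃ g : G, conjBy g M = N := by
  obtain ⟨hxr, hrσ⟩ := support_order hG hM hx hx1 hr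
  obtain ⟨hys, hsσ⟩ := support_order hG hN hy hy1 hs
  by_cases hconj : ∃ g : G, conjBy g M = N
  · obtain ⟨g, hg⟩ := id hconj
    have hback : ∀ p : ℕ, p.Prime → p ∈ Cfsg.sigma N → p ∈ Cfsg.sigma M := fun p hp hpN => by
      haveI : Fact p.Prime := ⟨hp⟩
      exact mem_sigma_conjBy hG hM (g := g) (by rw [hg]; exact hpN)
    refine ⟨part_unique (π := Cfsg.sigma M) hxr hys (fun p hp h => sigma_of_mem hG hM hx hp h) hrσ
      (fun p hp h => hback p hp (sigma_of_mem hG hN hy hp h)) (fun p hp h hpM => hsσ p hp h ?_) h,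
      hconj⟩
    haveI : Fact p.Prime := ⟨hp⟩
    refine mem_sigma_conjBy hG hN (g := g⁻¹) ?_
    rw [← hg, conjBy_conjBy, inv_mul_cancel, conjBy_one]
    exact hpM
  exfalso
  have hnc : NotConj M N := fun g e => hconj ⟨g, e⟩
  have hdis : ∀ p : ℕ, p.Prime → p ∈ Cfsg.sigma N → p ∉ Cfsg.sigma M := fun p hp hpN hpM => by
    haveI : Fact p.Prime := ⟨hp⟩
    exact not_sigma hG hM hN hnc hpM hpN
  -- `y` is a power of `r` and `x` a power of `s`
  have hpow : ∀ {A B : Subgroup G} {a u b v : G}, a ∈ Cfsg.sigmaCore A → b ∈ Cfsg.sigmaCore B →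
      IsCoatom A → IsCoatom B → (∀ p : ℕ, p.Prime → p ∈ Cfsg.sigma B → p ∉ Cfsg.sigma A) →
      Commute a u → Commute b v → (∀ p : ℕ, p.Prime → p ∣ orderOf u → p ∉ Cfsg.sigma A) →
      (∀ p : ℕ, p.Prime → p ∣ orderOf v → p ∉ Cfsg.sigma B) → a * u = b * v →
      b ∈ zpowers u := by
    intro A B a u b v ha hb hA hB hAB hau hbv hu hv hab
    obtain ⟨i, hi⟩ := mem_zpowers_iff.1 (mem_zpowers_mul hbv (Nat.coprime_of_dvd
      fun p hp h1 h2 => hv p hp h2 (sigma_of_mem hG hB hb hp h1)))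
    rw [← hab, hau.mul_zpow] at hi
    have hbu : Commute b (u ^ i) := by
      rw [← hi]; exact ((hau.zpow_zpow i i).mul_left (Commute.refl _))
    have h1 : a ^ i = 1 := by
      refine orderOf_eq_one_iff.1 ((Nat.coprime_self _).1 (Nat.coprime_of_dvd fun p hp h2 h3 => ?_))
      have h4 : p ∈ Cfsg.sigma A := sigma_of_mem hG hA ha hp (h2.trans (orderOf_dvd_of_mem_zpowers (zpow_mem (mem_zpowers a) i)))
      have e : a ^ i = b * (u ^ i)⁻¹ := by rw [← hi, mul_inv_cancel_right]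
      have h5 := h3.trans (dvd_of_eq (congrArg orderOf e))
      have h6 := h5.trans (Commute.orderOf_mul_dvd_mul_orderOf hbu.inv_right)
      rw [orderOf_inv] at h6
      rcases hp.dvd_mul.1 h6 with h7 | h7
      · exact hAB p hp (sigma_of_mem hG hB hb hp h7) h4
      · exact hu p hp (h7.trans (orderOf_dvd_of_mem_zpowers (zpow_mem (mem_zpowers u) i))) h4
    exact mem_zpowers_iff.2 ⟨i, by rw [← hi, h1, one_mul]⟩
  have hyr : y ∈ zpowers r := hpow hx hy hM hN hdis hxr hys hrσ hsσ h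
  have hxs : x ∈ zpowers s :=
    hpow hy hx hN hM (fun p hp h1 h2 => hdis p hp h2 h1) hys hxr hsσ hrσ h.symm
  obtain rfl | ⟨H, hH, hxH, -, -, hrH⟩ := support_spec hG hM hx hx1 hr
  · exact hy1 (by simpa [zpowers_one_eq_bot] using hyr)
  obtain rfl | ⟨L, hL, hyL, -, hLD, hsL⟩ := support_spec hG hN hy hy1 hs
  · exact hx1 (by simpa [zpowers_one_eq_bot] using hxs)
  have hxL : x ∈ Cfsg.sigmaCore L := zpowers_le.2 hsL.1 hxs
  have hyH : y ∈ Cfsg.sigmaCore H := zpowers_le.2 hrH.1 hyr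
  obtain ⟨p, hp, hpd⟩ := Nat.exists_prime_and_dvd fun e => hy1 (orderOf_eq_one_iff.1 e)
  haveI : Fact p.Prime := ⟨hp⟩
  obtain ⟨a, ha⟩ := exists_conj_of_sigma hG hN hH (sigma_of_mem hG hN hy hp hpd)
    (sigma_of_mem hG hH hyH hp hpd)
  have hxH' : x ∈ conjBy a N := ha ▸ hxH (mem_centralizer_singleton_iff.2 rfl)
  have hyH' : y ∈ conjBy a N := ha ▸ map_subtype_le _ hyH
  obtain ⟨m, hm, c, hc, e⟩ := fusion hG hN hy hy1 (g := a⁻¹) (by
    obtain ⟨w, hw, e⟩ := hyH'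
    rw [← e]
    show a⁻¹ * (a * w * a⁻¹) * a⁻¹⁻¹ ∈ N
    simpa [mul_assoc] using hw)
  obtain ⟨d, hd, b, hb, rfl⟩ := (centralizer_compl hG hLD (mem_inf.2
    ⟨map_subtype_le _ hy, hyL (mem_centralizer_singleton_iff.2 rfl)⟩) hyL).2.2.2 c hc
  have h1 : b * x * b⁻¹ ∈ N := by
    have h2 : a⁻¹ * x * a ∈ N := by
      obtain ⟨w, hw, e'⟩ := hxH'
      rw [← e']
      show a⁻¹ * (a * w * a⁻¹) * a ∈ N
      simpa [mul_assoc] using hw
    have h3 : a = b⁻¹ * (m * d)⁻¹ := by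
      rw [← inv_inv a, e]; group
    rw [h3] at h2
    have h4 := mul_mem (mul_mem (inv_mem (mul_mem hm hd.1.1)) h2) (mul_mem hm hd.1.1)
    rwa [show (m * d)⁻¹ * ((b⁻¹ * (m * d)⁻¹)⁻¹ * x * (b⁻¹ * (m * d)⁻¹)) * (m * d) = b * x * b⁻¹
      by group] at h4
  have h5 : b * x * b⁻¹ ∈ Cfsg.sigmaCore L := mul_mem (mul_mem hb.1 hxL) (inv_mem hb.1)
  have h6 : b * x * b⁻¹ ∈ (N ⊓ L) ⊓ Cfsg.sigmaCore L :=
    mem_inf.2 ⟨mem_inf.2 ⟨h1, map_subtype_le _ h5⟩, h5⟩
  rw [hLD.2.2.1, mem_bot, conj_eq_one_iff] at h6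
  exact hx1 h6

end CfsgLib.CFun.Cosets
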