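import Cfsg.Agent.Lib.CFun.OddKappaCount

/-!
# Consequences for a pair `(M, M*)`
-/

set_option autoImplicit false
set_option linter.style.haveILetI false
set_option linter.unusedSectionVars false

open Subgroup
open CfsgLib.Coprime (conjBy IsSylowIn IsHallIn)

namespace CfsgLib.CFun.Pair

open CfsgLib.CFun.TauTwo CfsgLib.CFun.Lines CfsgLib.CFun.Kappa CfsgLib.CFun.Partner CfsgLib.CFun.Inter

universe u

variable {G : Type u} [Group G] [Finite G]

/-- Hall subgroups for the same primes: one order divides the other. -/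
theorem hall_card_dvd {π : Set ℕ} {H K M : Subgroup G} (hH : Cfsg.IsPiHallOf π H M)
    (hK : Cfsg.IsPiHallOf π K M) : Nat.card H ∣ Nat.card K := by
  refine Nat.Coprime.dvd_of_dvd_mul_right (Nat.coprime_of_dvd fun p hp h1 h2 =>
    hK.2.2 p hp (hH.2.1 p hp h1) h2) ?_
  rw [CfsgLib.Coprime.card_mul_relIndex hK.1]
  exact card_dvd_of_le hH.1

variable (hG : Cfsg.IsMinSimpleOddOrder G)
include hG

/-- If `U = 1` then `σ(M)` and `κ(M)` cover `π(M)`, so no decomposition has `U ≠ 1`. -/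
theorem eq_bot_of_eq_bot {M K U K' U' : Subgroup G} (hM : IsCoatom M)
    (d : Cfsg.IsSigmaDecomposition M K U) (hU : U = ⊥)
    (d' : Cfsg.IsSigmaDecomposition M K' U') : U' = ⊥ := by
  by_contra hU'
  obtain ⟨t, W, ht, hWU, hWc⟩ := exists_prime_line hU'
  have htd : t ∣ Nat.card U' := hWc ▸ card_dvd_of_le hWU
  obtain ⟨htσ, htκ⟩ := Decomp.primes hG hM d' ht htd
  have h1 : t ∣ Nat.card M := htd.trans (card_dvd_of_le d'.compl.1)
  rw [Decomp.card_eq hG hM d, hU, card_bot, one_mul] at h1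
  rcases ht.dvd_mul.1 h1 with h | h
  · exact htκ (d.hall.2.1 t ht h)
  · exact htσ ((sigmaCore_hall hG hM).1.2.1 t ht h)

/-- The partner of a member with `U = 1` has a prime Hall `κ`-subgroup. -/
theorem prime_of_pair {M K U Mstar : Subgroup G} (hM : IsCoatom M)
    (d : Cfsg.IsSigmaDecomposition M K U) (hK1 : K ≠ ⊥) (hU : U = ⊥) (hMs : IsCoatom Mstar)
    (hKst : K = Cfsg.sigmaCore Mstar ⊓
      centralizer ((Cfsg.sigmaCore M ⊓ centralizer (K : Set G)) : Set G))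
    (hKstH : Cfsg.IsPiHallOf (Cfsg.kappa Mstar) (Cfsg.sigmaCore M ⊓ centralizer (K : Set G)) Mstar) :
    ∃ K₀ U₀ : Subgroup G, Cfsg.IsSigmaDecomposition Mstar K₀ U₀ ∧ U₀ ≠ ⊥ ∧
      (Nat.card ↥(Cfsg.sigmaCore M ⊓ centralizer (K : Set G))).Prime := by
  obtain ⟨-, h1, h2, hne⟩ := of_hyp hG hM d.hall hK1 hMs hKst hKstH
  obtain ⟨N₀, K₀, U₀, hN₀, d₀, hU₀, -, hK₀⟩ := h1.exists_U_ne_bot hG h2 hne
  by_cases e : N₀ = Mstar
  · subst e
    refine ⟨K₀, U₀, d₀, hU₀, ?_⟩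
    have hp := (prime_of_U_ne_bot hG hN₀.coatom d₀ hK₀ hU₀).1
    have hd := hall_card_dvd hKstH d₀.hall
    rcases (Nat.dvd_prime hp).1 hd with h | h
    · exact absurd (card_eq_one.1 h) (fixed_ne_bot hG hM d.hall)
    · exact h ▸ hp
  · by_cases e' : N₀ = M
    · subst e'
      exact absurd (eq_bot_of_eq_bot hG hM d hU d₀) hU₀
    · exact (h1.no_three hG h2 hN₀ hne (Ne.symm e') (Ne.symm e)).elim

variable {M K : Subgroup G} (hM : IsCoatom M) (hK : Cfsg.IsPiHallOf (Cfsg.kappa M) K M)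
include hM hK

/-- `Ẑ` is not empty. -/
theorem zhat_nonempty (hK1 : K ≠ ⊥) : (Zhat.zhat M K).Nonempty := by
  obtain ⟨a, ha, ha1⟩ := (bot_or_exists_ne_one K).resolve_left hK1
  obtain ⟨b, hb, hb1⟩ := (bot_or_exists_ne_one _).resolve_left (fixed_ne_bot hG hM hK)
  refine ⟨a * b, mul_mem_sup ha hb, ?_⟩
  rintro (h | h)
  · exact hb1 (mem_bot.1 ((Decomp.hall_inf hG hM hK).le (mem_inf.2
      ⟨(mul_mem_cancel_left ha).1 h, (mem_inf.1 hb).1⟩)))
  · exact ha1 (mem_bot.1 ((Decomp.hall_inf hG hM hK).le (mem_inf.2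
      ⟨ha, (mem_inf.1 ((mul_mem_cancel_right hb).1 h)).1⟩)))

/-- The normalizer of `Ẑ` is `K K*`. -/
theorem normalizer_zhat (hK1 : K ≠ ⊥) :
    normalizer (Zhat.zhat M K) = K ⊔ (Cfsg.sigmaCore M ⊓ centralizer (K : Set G)) := by
  refine le_antisymm (fun g hg => ?_) (fun g hg => ?_)
  · obtain ⟨z, hz⟩ := zhat_nonempty hG hM hK hK1
    exact zhat_transporter hG hM hK hK1 hz ((mem_set_normalizer_iff.1 hg z).1 hz)
  · haveI := isCyclic_Z hG hM hK hK1
    refine mem_set_normalizer_iff.2 fun z => ⟨fun hz => ?_, fun hz => ?_⟩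
    · have e : g * z = z * g := (congrArg Subtype.val (mul_comm'
        (⟨g, hg⟩ : ↥(K ⊔ (Cfsg.sigmaCore M ⊓ centralizer (K : Set G)))) ⟨z, hz.1⟩) :)
      rwa [e, mul_inv_cancel_right]
    · have hm : z ∈ K ⊔ (Cfsg.sigmaCore M ⊓ centralizer (K : Set G)) := by
        have := mul_mem (mul_mem (inv_mem hg) hz.1) hg
        simpa [mul_assoc] using this
      have e : g * z = z * g := (congrArg Subtype.val (mul_comm'
        (⟨g, hg⟩ : ↥(K ⊔ (Cfsg.sigmaCore M ⊓ centralizer (K : Set G)))) ⟨z, hm⟩) :)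
      rwa [e, mul_inv_cancel_right] at hz

/-- `Ẑ` is a TI-set. -/
theorem zhat_ti (hK1 : K ≠ ⊥) : Cfsg.IsTISubset (Zhat.zhat M K) := fun g hg z hz hgz =>
  absurd ((normalizer_zhat hG hM hK hK1).symm ▸ zhat_transporter hG hM hK hK1 hz hgz) hg

end CfsgLib.CFun.Pair
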