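import Cfsg.Agent.Lib.CFun.OddSigmaCentralizer
import Cfsg.Agent.Lib.Coprime.Hall

/-!
# Normalizers of `q`-subgroups, `q ∈ σ(M)`, in other maximal subgroups
-/

set_option autoImplicit false
set_option linter.style.haveILetI false
set_option linter.unusedSectionVars false

open Subgroup
open scoped commutatorElement
open CfsgLib.Coprime (conjBy conjBy_conjBy conjBy_one mem_conjBy conj_mem_conjBy IsSylowIn IsHallIn)

namespace CfsgLib.CFun.TauTwo

universe u

variable {G : Type u} [Group G] [Finite G] {q : ℕ} [hq : Fact q.Prime]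

omit hq in
theorem normalizer_le_normalizer_of_cyclic {S X : Subgroup G} (hS : IsCyclic S) (hXS : X ≤ S) :
    normalizer (S : Set G) ≤ normalizer (X : Set G) := fun n hn => by
  refine CfsgLib.Coprime.conjBy_eq_self_iff.1 (eq_of_le_of_card_ge ?_
    (CfsgLib.Coprime.card_conjBy n X).ge)
  obtain ⟨g, hg⟩ := hS.exists_generator
  rintro _ ⟨x, hx, rfl⟩
  obtain ⟨i, hi⟩ := hg ⟨x, hXS hx⟩
  obtain ⟨j, hj⟩ := hg ⟨n * g * n⁻¹, (mem_normalizer_iff.1 hn _).1 g.2⟩
  have hi' : (g : G) ^ i = x := congrArg Subtype.val hi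
  have hj' : (g : G) ^ j = n * g * n⁻¹ := congrArg Subtype.val hj
  show n * x * n⁻¹ ∈ X
  rw [← hi', ← conj_zpow, ← hj', ← zpow_mul, mul_comm, zpow_mul, hi']
  exact zpow_mem hx j

variable (hG : Cfsg.IsMinSimpleOddOrder G) {M H : Subgroup G}
include hG

omit hq in
theorem le_sigmaCore_of_isPiNum (hM : IsCoatom M) {Y : Subgroup G} (hYM : Y ≤ M)
    (hY : ∀ p : ℕ, p.Prime → p ∣ Nat.card Y → p ∈ Cfsg.sigma M) : Y ≤ Cfsg.sigmaCore M := by
  refine CfsgLib.Fusion.le_of_forall_prime_pow fun p hp y hy ⟨k, hk⟩ => ?_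
  haveI : Fact p.Prime := ⟨hp⟩
  by_cases hy1 : y = 1
  · rw [hy1]; exact one_mem _
  obtain ⟨j, -, hj⟩ := (Nat.dvd_prime_pow hp).1 (orderOf_dvd_of_pow_eq_one hk)
  rcases j with _ | j
  · exact absurd (orderOf_eq_one_iff.1 (hj.trans (pow_zero p))) hy1
  exact isPGroup_le_sigmaCore hG hM
    (hY p hp ((hj ▸ dvd_pow_self p j.succ_ne_zero : p ∣ orderOf y).trans
      (Subgroup.orderOf_dvd_natCard Y hy)))
    (IsPGroup.of_card (n := j + 1) ((Nat.card_zpowers y).trans hj)) (zpowers_le.2 (hYM hy))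
    (mem_zpowers y)

/-- Sylow subgroups inside a nilpotent `M_σ` are normal in `M`. -/
theorem normalizer_sylow_nilpotent (hM : IsCoatom M) (hnil : Group.IsNilpotent (Cfsg.sigmaCore M))
    (Q : Sylow q G) (hQ : (Q : Subgroup G) ≤ Cfsg.sigmaCore M) (hQ1 : (Q : Subgroup G) ≠ ⊥) :
    normalizer ((Q : Subgroup G) : Set G) = M := by
  refine ms_normalizer_eq hG hM (hQ.trans (map_subtype_le _)) hQ1 fun g hg => ?_
  haveI := hnil
  haveI : ((Q.subtype hQ : Sylow q ↥(Cfsg.sigmaCore M)) : Subgroup ↥(Cfsg.sigmaCore M)).Normal :=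
    Sylow.normal_of_normalizerCondition Group.normalizerCondition_of_isNilpotent (Q.subtype hQ)
  refine CfsgLib.Coprime.conjBy_eq_self_iff.1 (eq_of_le_of_card_ge ?_
    (CfsgLib.Coprime.card_conjBy g _).ge)
  rintro _ ⟨y, hy, rfl⟩
  obtain ⟨k, hk⟩ := Q.2 ⟨y, hy⟩
  have h1 := RankTwoTower.mem_sylow_of_normal (Q.subtype hQ : Sylow q ↥(Cfsg.sigmaCore M))
    (y := ⟨g * y * g⁻¹, (mem_normalizer_iff.1 (sigmaCore_normal hG M hg) y).1 (hQ hy)⟩)
    ⟨k, Subtype.ext (by
      show (g * y * g⁻¹) ^ q ^ k = 1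
      rw [conj_pow, show y ^ q ^ k = 1 from congrArg Subtype.val hk, mul_one, mul_inv_cancel])⟩
  exact (mem_subgroupOf.1 h1 :)

section Other

variable (hM : IsCoatom M) (hqσ : q ∈ Cfsg.sigma M) {X : Subgroup G} (hXq : IsPGroup q X)
  (hX1 : X ≠ ⊥) (hXM : X ≤ M) (hH : IsCoatom H) (hne : H ≠ M)
  (hNX : normalizer (X : Set G) ≤ H)
include hM hqσ hXq hX1 hXM hH hne hNX

theorem other_not_conj (g : G) : H ≠ conjBy g M := by
  intro e
  have hgX : conjBy g⁻¹ X ≤ M := by
    intro x hx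
    rw [mem_conjBy, inv_inv] at hx
    have h1 : g * x * g⁻¹ ∈ conjBy g M := e ▸ hNX (le_normalizer hx)
    rw [mem_conjBy] at h1
    rwa [show g⁻¹ * (g * x * g⁻¹) * g = x by group] at h1
  obtain ⟨m, hm, c, hc, hmc⟩ := sigma_fusion hG hM hqσ hXq hX1 hXM hgX
  have hcH : c ∈ H := (CfsgLib.Coprime.centralizer_le_normalizer_self X).trans hNX hc
  have hg : g = c⁻¹ * m⁻¹ := by rw [← mul_inv_rev, ← hmc, inv_inv]
  apply hne
  rw [hg, ← conjBy_conjBy,
    CfsgLib.Coprime.conjBy_eq_self_iff.2 (le_normalizer (inv_mem hm))] at e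
  have h2 := congrArg (conjBy c) e
  rwa [conjBy_conjBy, mul_inv_cancel, conjBy_one,
    CfsgLib.Coprime.conjBy_eq_self_iff.2 (le_normalizer hcH)] at h2

variable {S : Subgroup G} (hS : IsPGroup q S) (hSMH : S ≤ M ⊓ H) (hXS : X ≤ S)
  (hSmax : ∀ U : Subgroup G, IsPGroup q U → U ≤ M ⊓ H → S ≤ U → U = S)
include hS hSMH hXS hSmax

theorem other_normalizer_le : normalizer (S : Set G) ≤ M := by
  by_cases hSc : IsCyclic S
  swap
  · exact normalizer_noncyclic_le hG hM hqσ hS (hSMH.trans inf_le_left) hSc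
  have hN : normalizer (S : Set G) ≤ H := (normalizer_le_normalizer_of_cyclic hSc hXS).trans hNX
  obtain ⟨T, hST, hTM⟩ := exists_sylow_of_sigma hG hM hqσ hS (hSMH.trans inf_le_left)
  have hTS : (T : Subgroup G) = S := by
    by_contra hne'
    refine CfsgLib.Invol.normalizer_grows T.2 hST (Ne.symm hne') ?_
    refine (hSmax _ (T.2.to_le inf_le_right) (le_inf (inf_le_right.trans hTM) (inf_le_left.trans hN))
      (le_inf le_normalizer hST)).le
  rw [← hTS]
  exact sylow_normalizer_le hG hM hqσ T hTM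

theorem other_sylow {U : Subgroup G} (hU : IsPGroup q U) (hUH : U ≤ H) (hSU : S ≤ U) : U = S := by
  by_contra hne'
  refine CfsgLib.Invol.normalizer_grows hU hSU (Ne.symm hne') ?_
  exact (hSmax _ (hU.to_le inf_le_right)
    (le_inf (inf_le_left.trans (other_normalizer_le hG hM hqσ hXq hX1 hXM hH hne hNX hS hSMH hXS hSmax))
      (inf_le_right.trans hUH))
    (le_inf le_normalizer hSU)).le

/-- The other maximal subgroup is `M ∩ H` times a normal `σ(M)'`-subgroup. -/
theorem other_factor : ∃ D : Subgroup G, D ≤ H ∧ H ≤ normalizer (D : Set G) ∧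
    (∀ r : ℕ, r.Prime → r ∣ Nat.card D → r ∉ Cfsg.sigma M) ∧ H ≤ D ⊔ (M ⊓ H) := by
  have hnc := fun g => other_not_conj hG hM hqσ hXq hX1 hXM hH hne hNX g
  have hNS := other_normalizer_le hG hM hqσ hXq hX1 hXM hH hne hNX hS hSMH hXS hSmax
  have hSy := fun U => other_sylow hG hM hqσ hXq hX1 hXM hH hne hNX hS hSMH hXS hSmax (U := U)
  have hSH : S ≤ H := hSMH.trans inf_le_right
  have hS1 : S ≠ ⊥ := fun e => hX1 (le_bot_iff.1 (hXS.trans e.le))
  have hqH : q ∣ Nat.card H := mem_of_isPGroup hS hS1 hSH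
  have hq2 : q ≠ 2 := ms_ne_two hG (hqH.trans (card_subgroup_dvd_card H))
  haveI := ms_solvable hG hH.1
  by_cases hqH' : q ∈ Cfsg.sigma H
  · -- `q ∈ σ(H)`: the `β(H)`-core
    obtain ⟨T, hST, hTH⟩ := exists_sylow_of_sigma hG hH hqH' hS hSH
    have hTS : (T : Subgroup G) = S := hSy _ T.2 hTH hST
    have hNH : normalizer (S : Set G) ≤ H := hTS ▸ sylow_normalizer_le hG hH hqH' T hTH
    have hab : IsMulCommutative S := by
      by_contra hna
      exact hne ((inUniqueMaximal_of_nonabelian hG hS hna).unique ⟨hH, hSH⟩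
        ⟨hM, hSMH.trans inf_le_left⟩)
    have hr : Cfsg.PRankLE q 2 S := by
      by_contra hr
      obtain ⟨V, hV, hVe, hV3⟩ := exists_elementary_of_not_pRankLE hr
      exact hne ((unique_elementary_three hG hVe hV3.ge).unique ⟨hH, hV.trans hSH⟩
        ⟨hM, hV.trans (hSMH.trans inf_le_left)⟩)
    have hdisj : ∀ r : ℕ, r.Prime → r ∈ Cfsg.beta H → r ∉ Cfsg.sigma M := by
      intro r hr' hrb hrM
      haveI : Fact r.Prime := ⟨hr'⟩
      obtain ⟨R, -, hRH⟩ := exists_sylow_of_sigma hG hH (alpha_subset_sigma hG hH hrb.1)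
        (IsPGroup.of_bot (p := r)) bot_le
      obtain ⟨R', -, hR'M⟩ := exists_sylow_of_sigma hG hM hrM (IsPGroup.of_bot (p := r)) bot_le
      have hR3 : ¬ Cfsg.PRankLE r 2 ↥(R' : Subgroup G) := fun h =>
        hrb.2.2.1 (pRankLE_of_sylow_top R' h)
      obtain ⟨V, hV, hVe, hV3⟩ := exists_elementary_of_not_pRankLE hR3
      obtain ⟨g, hg⟩ := exists_conjBy_sylow R R'
      have e : conjBy g H = M := (unique_elementary_three hG hVe hV3.ge).unique
        ⟨isCoatom_conjBy g hH, fun v hv => map_mono hRH (hg.le (hV hv))⟩ ⟨hM, hV.trans hR'M⟩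
      refine hnc g⁻¹ ?_
      rw [← e, conjBy_conjBy, inv_mul_cancel, conjBy_one]
    obtain ⟨hhall, -⟩ := (Cfsg.Agent.S1414.result hG H hH)
    set Dβ := Cfsg.piCoreOf (Cfsg.beta H) H with hDβ
    refine ⟨Dβ, hhall.1, fun h hh => ?_, fun r hr' hrd => hdisj r hr' (hhall.2.1 r hr' hrd), ?_⟩
    · exact le_normalizer_piCoreOf (A := H) (X := H) le_rfl hh
    have hSd : S ≤ ⁅H, H⁆ :=
      (isPGroup_le_sigmaCore hG hH hqH' hS hSH).trans (sigmaCore_le_derived hG hH)
    have hD : coCore H q ≤ Dβ ⊔ centralizer (S : Set G) := by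
      refine le_of_invariant_sylows (hSH.trans le_normalizer_coCore) ?_ (Or.inl
        (CfsgLib.Coprime.isSolvable_of_isMulCommutative hab)) fun r hr' hrd R hR hRr hSR => ?_
      · obtain ⟨k, hk⟩ := IsPGroup.iff_card.1 hS
        rw [hk]; exact (hq.out.coprime_iff_not_dvd.2 not_dvd_coCore).pow_left k
      haveI : Fact r.Prime := ⟨hr'⟩
      have hrq : r ≠ q := fun e => not_dvd_coCore (e ▸ hrd)
      have hRH : R ≤ H := hR.trans coCore_le
      by_cases hrb : r ∈ Cfsg.beta H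
      · refine le_trans ?_ le_sup_left
        haveI : (Dβ.subgroupOf H).Normal := normal_subgroupOf_of_le_normalizer
          (le_normalizer_piCoreOf (A := H) (X := H) le_rfl)
        have h1 : R.subgroupOf H ≤ Dβ.subgroupOf H := le_normal_of_coprime_index (by
          obtain ⟨k, hk⟩ := IsPGroup.iff_card.1 hRr
          rw [Nat.card_congr (subgroupOfEquivOfLe hRH).toEquiv, hk]
          exact (hr'.coprime_iff_not_dvd.2 (hhall.2.2 r hr' hrb)).pow_left k)
        exact fun x hx => h1 (show (⟨x, hRH hx⟩ : H) ∈ R.subgroupOf H from hx)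
      · refine le_trans (le_centralizer_iff.1 fun s hs => ?_) le_sup_right
        obtain ⟨n, hn⟩ := hS ⟨s, hs⟩
        exact derived_centralizes_non_beta hG hH hrb hRH hRr (hSd hs)
          (Nat.Coprime.coprime_dvd_left (orderOf_dvd_of_pow_eq_one (congrArg Subtype.val hn :))
            (((Nat.coprime_primes hq.out hr').2 hrq.symm).pow_left n))
          (hSR hs)
    refine (factor_of_rank_two (hG.1.of_dvd_nat (card_subgroup_dvd_card H)) hq2 hSH hS
      (fun U hU hUH hle => hSy U hU hUH hle) hr).trans (sup_le ?_ ?_)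
    · refine hD.trans (sup_le le_sup_left (le_trans ?_ le_sup_right))
      exact (CfsgLib.Coprime.centralizer_le_normalizer_self S).trans (le_inf hNS hNH)
    · exact le_trans (le_inf (inf_le_right.trans hNS) inf_le_left) le_sup_right
  · -- `q ∈ τ₂(H)`
    have hqd : ¬ normalizer (S : Set G) ≤ H := fun h => hqH' ⟨hq.out, hqH,
      sylowOfMax hS hSH hSy, by rwa [coe_sylowOfMax, map_subgroupOf_eq_of_le hSH]⟩
    have hSc : ¬ IsCyclic S := fun hc =>
      hqd ((normalizer_le_normalizer_of_cyclic hc hXS).trans hNX)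
    obtain ⟨A, hAS, -, hAe, hA2⟩ := exists_normal_elementary_two hq2 hS hSc
    have hAH : A ≤ H := hAS.trans hSH
    have hqt : q ∈ Cfsg.tau2 H := mem_tau_iff.2 ⟨hqH',
      pRankLE_two_of_not_alpha hq.out fun h => hqH' (alpha_subset_sigma hG hH h),
      not_pRankLE_of_elementary hAH hAe
        (by rw [hA2]; exact Nat.pow_lt_pow_right hq.out.one_lt one_lt_two)⟩
    have hAM : A ≤ M := hAS.trans (hSMH.trans inf_le_left)
    have hAp := isPGroup_of_elementary hAe
    have hNA : normalizer (A : Set G) ≤ M :=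
      normalizer_noncyclic_le hG hM hqσ hAp hAM (not_isCyclic_of_elementary hAe hA2.ge)
    have hnil := tau_nilpotent hG hH hqt hAH hAe hA2
    refine ⟨Cfsg.sigmaCore H, map_subtype_le _, sigmaCore_normal hG H, fun r hr hrd hrM => ?_, ?_⟩
    · haveI : Fact r.Prime := ⟨hr⟩
      have hrH := (sigmaCore_hall hG hH).1.2.1 r hr hrd
      obtain ⟨R, -, hRH⟩ := exists_sylow_of_sigma hG hH hrH (IsPGroup.of_bot (p := r)) bot_le
      obtain ⟨R', -, hR'M⟩ := exists_sylow_of_sigma hG hM hrM (IsPGroup.of_bot (p := r)) bot_le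
      have hR1 : (R : Subgroup G) ≠ ⊥ := fun e => by
        have h1 : (R : Subgroup G).index = Nat.card G := by rw [e, index_bot]
        exact R.not_dvd_index (h1 ▸ hrd.trans (card_subgroup_dvd_card _))
      obtain ⟨g, hg⟩ := exists_conjBy_sylow R R'
      have h1 : conjBy g H ≤ M := by
        rw [← normalizer_sylow_nilpotent hG hH hnil R (isPGroup_le_sigmaCore hG hH hrH R.2 hRH) hR1,
          ← normalizer_conjBy, ← hg]
        exact sylow_normalizer_le hG hM hrM R' hR'M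
      refine hnc g⁻¹ ?_
      rw [((isCoatom_conjBy g hH).le_iff.1 h1).resolve_left hM.1, conjBy_conjBy, inv_mul_cancel,
        conjBy_one]
    · have hK := sigmaCore_normal hG H
      set K := Cfsg.sigmaCore H
      have hKA := tau_normal_sup hG hH hqt hAH hAe hA2
      have hsylow : IsSylowIn q A (K ⊔ A) := by
        refine ⟨le_sup_right, ?_⟩
        obtain ⟨j, hj⟩ := IsPGroup.iff_card.1 hAp
        rw [hj]
        congr 1
        refine le_antisymm ((hq.out.pow_dvd_iff_le_factorization Nat.card_pos.ne').1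
          (hj ▸ card_dvd_of_le le_sup_right)) ?_
        have h1 : Nat.card ↥(K ⊔ A) ∣ q ^ j * Nat.card K := by
          rw [← hj, sup_comm]
          exact CfsgLib.Coprime.card_sup_dvd_of_le_normalizer (hAH.trans hK)
        refine ((Nat.factorization_le_iff_dvd Nat.card_pos.ne'
          (mul_ne_zero (pow_ne_zero _ hq.out.ne_zero) Nat.card_pos.ne')).2 h1 q).trans ?_
        rw [Nat.factorization_mul (pow_ne_zero _ hq.out.ne_zero) Nat.card_pos.ne', Finsupp.add_apply,
          hq.out.factorization_pow, Finsupp.single_eq_same,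
          Nat.factorization_eq_zero_of_not_dvd (not_dvd_sigmaCore hG hH hqH'), add_zero]
      intro h hh
      obtain ⟨k, hk, hkA⟩ := hsylow.exists_conj (hsylow.conjBy (hKA hh))
      have hkH : k ∈ H := sup_le (map_subtype_le _) hAH hk
      have h2 : k⁻¹ * h ∈ normalizer (A : Set G) := by
        refine CfsgLib.Coprime.conjBy_eq_self_iff.1 ?_
        rw [← conjBy_conjBy, ← hkA, conjBy_conjBy, inv_mul_cancel, conjBy_one]
      rw [show h = k * (k⁻¹ * h) by group]
      refine mul_mem ?_ (mem_sup_right (mem_inf.2 ⟨hNA h2, H.mul_mem (H.inv_mem hkH) hh⟩))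
      exact sup_le le_sup_left (le_trans (le_inf hAM hAH) le_sup_right) hk

end Other

omit hq in
/-- Nontrivial `σ(M)`-subgroups are conjugate into `M_σ`. -/
theorem sigma_conj_into (hM : IsCoatom M) {Y : Subgroup G} (hY1 : Y ≠ ⊥)
    (hY : ∀ p : ℕ, p.Prime → p ∣ Nat.card Y → p ∈ Cfsg.sigma M) :
    ∃ g : G, conjBy g Y ≤ Cfsg.sigmaCore M := by
  have hYtop : Y ≠ ⊤ := by
    rintro rfl
    refine hM.1 (top_le_iff.1 (le_trans (ge_of_eq ?_) (map_subtype_le _ : Cfsg.sigmaCore M ≤ M)))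
    rw [← index_eq_one]
    by_contra h1
    obtain ⟨r, hr, hrd⟩ := Nat.exists_prime_and_dvd h1
    refine (sigmaCore_hall hG hM).2.2 r hr (hY r hr ?_) hrd
    rw [Subgroup.card_top]
    exact hrd.trans (index_dvd_card _)
  haveI := ms_solvable hG hYtop
  haveI : Nontrivial Y := (nontrivial_iff_ne_bot Y).2 hY1
  obtain ⟨N, q, hNn, hN1, hqp, hNq, -⟩ := CfsgLib.Coprime.exists_normal_pGroup_of_isSolvable (G := Y)
  haveI : Fact q.Prime := ⟨hqp⟩
  set X₀ := N.map Y.subtype with hX₀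
  have hX₀1 : X₀ ≠ ⊥ := fun e => hN1 ((map_eq_bot_iff_of_injective N Y.subtype_injective).1 e)
  have hX₀q : IsPGroup q X₀ := hNq.map _
  have hqσ : q ∈ Cfsg.sigma M := hY q hqp ((mem_of_isPGroup hX₀q hX₀1 le_rfl).trans
    (card_dvd_of_le (map_subtype_le _)))
  obtain ⟨T, hXT⟩ := hX₀q.exists_le_sylow
  obtain ⟨T', -, hT'M⟩ := exists_sylow_of_sigma hG hM hqσ (IsPGroup.of_bot (p := q)) bot_le
  obtain ⟨g, hg⟩ := exists_conjBy_sylow T T'
  set X := conjBy g X₀ with hX
  have hXM : X ≤ M := (map_mono hXT).trans (hg.ge.trans hT'M)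
  have hX1 : X ≠ ⊥ := fun e => hX₀1 (by
    have h := congrArg (conjBy g⁻¹) e
    rw [hX, conjBy_conjBy, inv_mul_cancel, conjBy_one] at h
    exact h.trans (Subgroup.map_bot _))
  have hXq : IsPGroup q X := hX₀q.map _
  set Y' := conjBy g Y with hY'
  have hY'X : Y' ≤ normalizer (X : Set G) := by
    rw [hX, normalizer_conjBy]
    refine map_mono fun y hy => ?_
    exact le_normalizer_map Y.subtype ⟨⟨y, hy⟩, (normalizer_eq_top N).symm ▸ mem_top _, rfl⟩
  have hY'π : ∀ p : ℕ, p.Prime → p ∣ Nat.card Y' → p ∈ Cfsg.sigma M := fun p hp hd =>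
    hY p hp (by rwa [hY', CfsgLib.Coprime.card_conjBy] at hd)
  obtain ⟨H, hH, hNH⟩ := (eq_top_or_exists_le_coatom _).resolve_left
    (ms_normalizer_ne_top hG hX1 (ms_isPGroup_ne_top hG hXq))
  by_cases hHM : H = M
  · exact ⟨g, le_sigmaCore_of_isPiNum hG hM (hY'X.trans (hHM ▸ hNH)) hY'π⟩
  obtain ⟨P, hP⟩ := (hXq.of_equiv (subgroupOfEquivOfLe
    (le_inf hXM (le_normalizer.trans hNH))).symm).exists_le_sylow
  obtain ⟨D, hDH, hHD, hDσ, hfac⟩ := other_factor hG hM hqσ hXq hX1 hXM hH hHM hNH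
    (P.2.map (M ⊓ H).subtype) (map_subtype_le _)
    (fun x hx => ⟨⟨x, le_inf hXM (le_normalizer.trans hNH) hx⟩, hP hx, rfl⟩)
    (fun U hU hUM hle => sylow_map_max P hU hUM hle)
  have hMH : Group.IsSolvable ↥(M ⊓ H) := ms_solvable hG (ne_top_of_le_ne_top hM.1 inf_le_left)
  obtain ⟨B, hB⟩ := CfsgLib.Coprime.exists_hallIn (Cfsg.sigma M) hMH
  have hBH : IsHallIn (Cfsg.sigma M) B H := by
    refine ⟨hB.1.trans inf_le_right, hB.2.1, ?_⟩
    rw [← relIndex_mul_relIndex B (M ⊓ H) H hB.1 inf_le_right]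
    refine hB.2.2.mul fun r hr hrd => hDσ r hr ?_
    have h1 : Nat.card H ∣ Nat.card ↥(M ⊓ H) * Nat.card D := by
      conv_lhs => rw [le_antisymm hfac (sup_le hDH inf_le_right), sup_comm]
      exact CfsgLib.Coprime.card_sup_dvd_of_le_normalizer (inf_le_right.trans hHD)
    rw [← CfsgLib.Coprime.card_mul_relIndex (inf_le_right : M ⊓ H ≤ H)] at h1
    exact hrd.trans (Nat.dvd_of_mul_dvd_mul_left Nat.card_pos h1)
  obtain ⟨x, -, hxB⟩ := hBH.exists_conj_le (ms_solvable hG hH.1) (hY'X.trans hNH) hY'π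
  refine ⟨x * g, ?_⟩
  rw [← conjBy_conjBy]
  exact le_sigmaCore_of_isPiNum hG hM (hxB.trans (hB.1.trans inf_le_left)) fun p hp hd =>
    hY'π p hp (by rwa [CfsgLib.Coprime.card_conjBy] at hd)

end CfsgLib.CFun.TauTwo
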