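import Cfsg.Agent.Lib.CFun.OddFifteenTwo
import Cfsg.Agent.Lib.CFun.OddUFixed
import Cfsg.Agent.Lib.CFun.OddSigmaCosets
import Cfsg.Agent.S1431

/-!
# Hall subgroups of `M_σ`
-/

set_option autoImplicit false
set_option linter.style.haveILetI false
set_option linter.unusedSectionVars false

open Subgroup
open CfsgLib.Coprime (conjBy conjBy_conjBy conjBy_one mem_conjBy conj_mem_conjBy card_conjBy
  IsSylowIn IsHallIn IsPiNum)

namespace CfsgLib.CFun.HallFusion

open CfsgLib.CFun.TauTwo CfsgLib.CFun.Lines CfsgLib.CFun.Kappa CfsgLib.CFun.Partner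

universe u

variable {G : Type u} [Group G] [Finite G]

/-- The primes of `|H|` for a Hall subgroup. -/
theorem isHallIn_of_coprime {H L : Subgroup G} (hHL : H ≤ L)
    (hcop : (Nat.card H).Coprime (H.relIndex L)) :
    IsHallIn {p | p ∣ Nat.card H} H L :=
  ⟨hHL, fun _ _ h => h, fun _ hp h1 h2 => hp.one_lt.ne' (Nat.eq_one_of_dvd_coprimes hcop h2 h1)⟩

/-- Hall subgroups of nilpotent groups are normal. -/
theorem hall_normal_of_nilpotent {H L : Subgroup G} (hL : Group.IsNilpotent L) (hHL : H ≤ L)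
    (hcop : (Nat.card H).Coprime (H.relIndex L)) : L ≤ normalizer (H : Set G) := by
  haveI := hL
  set π := {p : ℕ | p ∣ Nat.card H}
  have hle : H.subgroupOf L ≤ Cfsg.piCore π L := CfsgLib.Coprime.isPiNum_le_piCore_of_isSubnormal
    (CfsgLib.PGroup.isSubnormal_of_isNilpotent _) fun p _ hd =>
      hd.trans (Nat.card_congr (subgroupOfEquivOfLe hHL).toEquiv).dvd
  have hdvd : Nat.card (Cfsg.piCore π L) ∣ Nat.card (H.subgroupOf L) := by
    refine Nat.Coprime.dvd_of_dvd_mul_right (n := H.relIndex L) ?_ ?_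
    · exact Nat.coprime_of_dvd fun p hp h1 h2 => hp.one_lt.ne' (Nat.eq_one_of_dvd_coprimes hcop
        (CfsgLib.Coprime.piCore_isPiNum π p hp h1) h2)
    · rw [Subgroup.relIndex, card_mul_index]
      exact card_subgroup_dvd_card _
  have e := eq_of_le_of_card_ge hle (Nat.le_of_dvd Nat.card_pos hdvd)
  exact (normal_subgroupOf_iff_le_normalizer hHL).1 (e ▸ Cfsg.piCore_normal π L)

variable (hG : Cfsg.IsMinSimpleOddOrder G) {M K U H : Subgroup G} (hM : IsCoatom M)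
  (d : Cfsg.IsSigmaDecomposition M K U) (hH : H ≤ Cfsg.sigmaCore M) (hH1 : H ≠ ⊥)
  (hcop : (Nat.card H).Coprime (H.relIndex (Cfsg.sigmaCore M)))
include hG hM d hH hH1 hcop

/-- No nontrivial element of `K` centralizes a conjugate of `H`. -/
theorem kappa_free {k : G} (hk : k ∈ K) (hk1 : k ≠ 1) {m : G} (hm : m ∈ M) :
    ¬ conjBy m H ≤ centralizer ({k} : Set G) := by
  intro hle
  have hK1 : K ≠ ⊥ := fun e => hk1 (mem_bot.1 (e ▸ hk))
  obtain ⟨s, hs, hsd⟩ := Nat.exists_prime_and_dvd fun e => hH1 (card_eq_one.1 e)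
  haveI : Fact s.Prime := ⟨hs⟩
  have hσm : conjBy m (Cfsg.sigmaCore M) = Cfsg.sigmaCore M :=
    CfsgLib.Coprime.conjBy_eq_self_iff.2 (sigmaCore_normal hG M hm)
  have hH' : conjBy m H ≤ Cfsg.sigmaCore M := hσm ▸ map_mono hH
  have hHK : conjBy m H ≤ Cfsg.sigmaCore M ⊓ centralizer (K : Set G) := by
    rw [← fixed_eq hG hM d.hall hk hk1]
    exact le_inf hH' hle
  obtain ⟨P⟩ := (inferInstance : Nonempty (Sylow s (conjBy m H)))
  have hP := CfsgLib.Coprime.isSylowIn_map P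
  have hPσ := TauTwo.isSylowIn_of_relIndex hP hH' (fun hd => by
    rw [← hσm, show (conjBy m H).relIndex (conjBy m (Cfsg.sigmaCore M)) =
      H.relIndex (Cfsg.sigmaCore M) from relIndex_map_map_of_injective H (Cfsg.sigmaCore M)
        (MulAut.conj m).injective] at hd
    exact hs.one_lt.ne' (Nat.eq_one_of_dvd_coprimes hcop hsd hd))
  have hsK : s ∣ Nat.card ↥(Cfsg.sigmaCore M ⊓ centralizer (K : Set G)) :=
    (hsd.trans (card_conjBy m H).symm.dvd).trans (card_dvd_of_le hHK)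
  refine ((Cfsg.Agent.S1431.result hG M hM K d.hall hK1).2.2.1 s hs hsK hPσ.toSylow).2.2 ?_
  rw [hPσ.map_toSylow]
  exact (map_subtype_le _).trans hHK

/-- `C_M(H) = C_{M_σ}(H) X` with `X` cyclic of `τ₂(M)`-order. -/
theorem exists_centralizer_part : ∃ X : Subgroup G, IsCyclic X ∧
    (∀ p : ℕ, p.Prime → p ∣ Nat.card X → p ∈ Cfsg.tau2 M) ∧
    M ⊓ centralizer (H : Set G) = (Cfsg.sigmaCore M ⊓ centralizer (H : Set G)) ⊔ X := by
  haveI := ms_solvable hG hM.1
  set C := M ⊓ centralizer (H : Set G) with hC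
  have hCsol : Group.IsSolvable C := CfsgLib.Coprime.isSolvable_of_le inf_le_left inferInstance
  obtain ⟨X, hXC, hXσ, hXi⟩ := CfsgLib.Coprime.exists_hallIn (Cfsg.sigma M)ᶜ hCsol
  have hXM : X ≤ M := hXC.trans inf_le_left
  set π := {q | q.Prime ∧ q ∉ Cfsg.kappa M ∧ q ∉ Cfsg.sigma M}
  have hU : IsHallIn π U M := ⟨(Decomp.hall_U hG hM d).1, (Decomp.hall_U hG hM d).2.1,
    fun p hp hd hπ => (Decomp.hall_U hG hM d).2.2 p hp hπ hd⟩
  have hKh : IsHallIn (Cfsg.kappa M) K M :=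
    ⟨d.hall.1, d.hall.2.1, fun p hp hd hπ => d.hall.2.2 p hp hπ hd⟩
  have hXπ : IsPiNum π (Nat.card X) := by
    intro p hp hd
    haveI : Fact p.Prime := ⟨hp⟩
    refine ⟨hp, fun hκ => ?_, hXσ p hp hd⟩
    obtain ⟨W, hW, hWc⟩ := exists_line_of_dvd (t := p) hd
    obtain ⟨m, hm, hmK⟩ := hKh.exists_conj_le inferInstance (hW.trans hXM) fun q hq hqd => by
      rw [hWc] at hqd
      rwa [(Nat.prime_dvd_prime_iff_eq hq hp).1 hqd]
    obtain ⟨w, hw, hw1, -, -⟩ := exists_gen hWc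
    refine kappa_free hG hM d hH hH1 hcop (hmK (conj_mem_conjBy hw))
      (fun e => hw1 (conj_eq_one_iff.1 e)) hm ?_
    rintro _ ⟨h, hh, rfl⟩
    refine mem_centralizer_singleton_iff.2 ?_
    show (MulAut.conj m).toMonoidHom h * (MulAut.conj m).toMonoidHom w =
      (MulAut.conj m).toMonoidHom w * (MulAut.conj m).toMonoidHom h
    rw [← map_mul, ← map_mul, mem_centralizer_iff.1 (mem_inf.1 (hXC (hW hw))).2 h hh]
  obtain ⟨m, hm, hmU⟩ := hU.exists_conj_le inferInstance hXM hXπ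
  obtain ⟨h, hh, hh1⟩ := (bot_or_exists_ne_one H).resolve_left hH1
  have hfixh : m * h * m⁻¹ ∈ Cfsg.sigmaCore M ⊓ centralizer ((conjBy m X : Subgroup G) : Set G) := by
    refine mem_inf.2 ⟨(mem_normalizer_iff.1 (sigmaCore_normal hG M hm) h).1 (hH hh),
      mem_centralizer_iff.2 ?_⟩
    rintro _ ⟨x, hx, rfl⟩
    show (MulAut.conj m).toMonoidHom x * (MulAut.conj m).toMonoidHom h =
      (MulAut.conj m).toMonoidHom h * (MulAut.conj m).toMonoidHom x
    rw [← map_mul, ← map_mul, mem_centralizer_iff.1 (mem_inf.1 (hXC hx)).2 h hh]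
  have hne1 : m * h * m⁻¹ ≠ 1 := fun e => hh1 (conj_eq_one_iff.1 e)
  have hcyc : IsCyclic (conjBy m X) := UFixed.cyclic_of_fixed hG hM d hmU fun e =>
    hne1 (mem_bot.1 (e.le hfixh))
  refine ⟨X, ?_, fun p hp hd => ?_, ?_⟩
  · haveI := hcyc
    exact isCyclic_of_surjective
      (X.equivMapOfInjective (MulAut.conj m).toMonoidHom (MulAut.conj m).injective).symm.toMonoidHom
      (MulEquiv.surjective _)
  · haveI : Fact p.Prime := ⟨hp⟩
    obtain ⟨u, hu⟩ := exists_prime_orderOf_dvd_card' (G := conjBy m X) p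
      (hd.trans (card_conjBy m X).symm.dvd)
    exact UFixed.tau2_of_fixed hG hM d (hmU u.2) (mem_inf.1 hfixh).1 hne1
      (mem_centralizer_iff.1 (mem_inf.1 hfixh).2 u u.2).symm p hp
      (by rw [Subgroup.orderOf_coe, hu])
  · set S := Cfsg.sigmaCore M ⊓ centralizer (H : Set G)
    have hSC : S ≤ C := inf_le_inf_right _ (map_subtype_le _)
    have hXS : X ≤ normalizer (S : Set G) := CfsgLib.Coprime.inf_le_normalizer
      (hXM.trans (sigmaCore_normal hG M))
      ((hXC.trans inf_le_right).trans le_normalizer)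
    refine (eq_of_le_of_card_ge (sup_le hSC hXC) ?_).symm
    have hdisj : S ⊓ X = ⊥ := CfsgLib.Coprime.disjoint_of_coprime_card
      (Nat.coprime_of_dvd fun p hp h1 h2 => hXσ p hp h2
        ((sigmaCore_hall hG hM).1.2.1 p hp (h1.trans (card_dvd_of_le inf_le_left))))
    rw [ZLen.card_sup_eq hXS hdisj]
    have h1 := CfsgLib.Coprime.card_mul_relIndex hXC
    have h2 := CfsgLib.Coprime.card_mul_relIndex hSC
    have hi : ∀ p : ℕ, p.Prime → p ∣ S.relIndex C → p ∉ Cfsg.sigma M := by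
      intro p hp hd hpσ
      haveI : Fact p.Prime := ⟨hp⟩
      obtain ⟨P⟩ := (inferInstance : Nonempty (Sylow p C))
      have hP := CfsgLib.Coprime.isSylowIn_map P
      have hPS : (P : Subgroup C).map C.subtype ≤ S := le_inf
        (le_sigmaCore_of_isPiNum hG hM (hP.1.trans inf_le_left) fun q hq hqd => by
          obtain ⟨j, hj⟩ := IsPGroup.iff_card.1 hP.isPGroup
          rw [hj] at hqd
          rwa [(Nat.prime_dvd_prime_iff_eq hq hp).1 (hq.dvd_of_dvd_pow hqd)])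
        (hP.1.trans inf_le_right)
      exact hP.toSylow.not_dvd_index (hd.trans (relIndex_dvd_of_le_left C hPS))
    have hco : (S.relIndex C).Coprime (X.relIndex C) :=
      Nat.coprime_of_dvd fun p hp a b => hXi p hp b (hi p hp a)
    have h3 : S.relIndex C ∣ Nat.card X :=
      hco.dvd_of_dvd_mul_right (h1 ▸ ⟨Nat.card S, by rw [mul_comm, h2]⟩)
    calc Nat.card C = Nat.card S * S.relIndex C := h2.symm
      _ ≤ Nat.card S * Nat.card X := Nat.mul_le_mul_left _ (Nat.le_of_dvd Nat.card_pos h3)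

/-- `N_M(H)` controls the `G`-fusion of elements of `H`. -/
theorem fusion {x g : G} (hx : x ∈ H) (hg : g * x * g⁻¹ ∈ H) :
    ∃ n ∈ M ⊓ normalizer (H : Set G), n * x * n⁻¹ = g * x * g⁻¹ := by
  by_cases hx1 : x = 1
  · exact ⟨1, one_mem _, by simp [hx1]⟩
  haveI := ms_solvable hG hM.1
  have hσM : Cfsg.sigmaCore M ≤ M := map_subtype_le _
  obtain ⟨m, hm, c, hc, e⟩ := Cosets.fusion hG hM (hH hx) hx1 (hσM (hH hg))
  have hmx : g * x * g⁻¹ = m * x * m⁻¹ := by
    rw [e, show m * c * x * (m * c)⁻¹ = m * (c * x * c⁻¹) * m⁻¹ by group,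
      show c * x * c⁻¹ = x by rw [mem_centralizer_singleton_iff.1 hc, mul_inv_cancel_right]]
  rw [hmx] at hg ⊢
  have hσm : conjBy m (Cfsg.sigmaCore M) = Cfsg.sigmaCore M :=
    CfsgLib.Coprime.conjBy_eq_self_iff.2 (sigmaCore_normal hG M hm)
  have hHall := isHallIn_of_coprime hH hcop
  obtain ⟨s, hs, hsH⟩ := hHall.exists_conj_le (sigmaCore_solvable hG hM)
    (hσm ▸ map_mono hH : conjBy m H ≤ Cfsg.sigmaCore M) fun p hp hd => hd.trans (card_conjBy m H).dvd
  rw [conjBy_conjBy] at hsH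
  have hn : s * m ∈ M ⊓ normalizer (H : Set G) := mem_inf.2 ⟨mul_mem (hσM hs) hm,
    CfsgLib.Coprime.conjBy_eq_self_iff.1 (eq_of_le_of_card_ge hsH (card_conjBy _ H).ge)⟩
  suffices ∀ y ∈ H, ∀ t ∈ Cfsg.sigmaCore M, t * y * t⁻¹ ∈ H →
      ∃ n' ∈ M ⊓ normalizer (H : Set G), n' * y * n'⁻¹ = t * y * t⁻¹ by
    obtain ⟨n', hn', e'⟩ := this _
      ((mem_normalizer_iff.1 (mem_inf.1 hn).2 x).1 hx) s⁻¹ (inv_mem hs) (by
        rwa [show s⁻¹ * (s * m * x * (s * m)⁻¹) * s⁻¹⁻¹ = m * x * m⁻¹ by group])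
    refine ⟨n' * (s * m), mul_mem hn' hn, ?_⟩
    rw [show n' * (s * m) * x * (n' * (s * m))⁻¹ = n' * (s * m * x * (s * m)⁻¹) * n'⁻¹ by group, e']
    group
  intro y hy t ht hty
  by_cases hσn : Cfsg.sigmaCore M ≤ normalizer (H : Set G)
  · exact ⟨t, mem_inf.2 ⟨hσM ht, hσn ht⟩, rfl⟩
  by_cases hne : Cfsg.fittingHallOf M = Cfsg.sigmaCore M
  · refine absurd (hall_normal_of_nilpotent ?_ hH hcop) hσn
    haveI := CfsgLib.Coprime.fitting_isNilpotent (G := M)
    rw [← hne]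
    exact CfsgLib.Coprime.isNilpotent_of_le (map_mono (show Cfsg.fittingHall M ≤
      Cfsg.fittingSubgroup M from sSup_le_sSup fun _ hN => ⟨hN.1, hN.2.1⟩))
      (Group.nilpotent_of_mulEquiv
        ((Cfsg.fittingSubgroup M).equivMapOfInjective M.subtype M.subtype_injective))
  obtain ⟨Q, D, h⟩ := FifteenTwo.exists_split hG hM d hne
  set q := Nat.card ↥(Cfsg.sigmaCore M ⊓ centralizer (K : Set G))
  haveI : Fact q.Prime := ⟨h.prime⟩
  obtain ⟨hQM, hDM⟩ := FifteenTwo.Split.le_M hG hM d h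
  by_cases hqH : q ∣ Nat.card H
  · exfalso
    obtain ⟨j, hj⟩ := IsPGroup.iff_card.1 h.sylow.isPGroup
    obtain ⟨z, hz, hzQ⟩ := hHall.exists_conj_le (sigmaCore_solvable hG hM) h.compl.1
      fun p hp hd => by
        rw [hj] at hd
        rw [(Nat.prime_dvd_prime_iff_eq hp h.prime).1 (hp.dvd_of_dvd_pow hd)]
        exact hqH
    rw [CfsgLib.Coprime.conjBy_eq_self_iff.2 (h.normal (hσM hz))] at hzQ
    have hnorm : D ≤ normalizer ((H ⊓ D : Subgroup G) : Set G) := by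
      refine hall_normal_of_nilpotent (FifteenTwo.Split.nilpotent_D hG hM d h) inf_le_right ?_
      refine (hcop.coprime_dvd_left (card_dvd_of_le inf_le_left)).coprime_dvd_right ?_
      rw [inf_relIndex_right]
      haveI : (Q.subgroupOf (Cfsg.sigmaCore M)).Normal :=
        normal_subgroupOf_of_le_normalizer (hσM.trans h.normal)
      have e1 := card_eq_card_quotient_mul_card_subgroup (H.subgroupOf D)
      have e2 : Nat.card (Cfsg.sigmaCore M) = Nat.card Q * Nat.card D := card_of_compl h.compl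
      have e3 : H = Q ⊔ (H ⊓ D) := by
        refine le_antisymm (fun w hw => ?_) (sup_le hzQ inf_le_left)
        obtain ⟨a, ha, b, hb, e⟩ := h.compl.2.2.2 w (hH hw)
        rw [e]
        refine mul_mem (mem_sup_left ha) (mem_sup_right (mem_inf.2 ⟨?_, hb⟩))
        rw [show b = a⁻¹ * w by rw [e, inv_mul_cancel_left]]
        exact mul_mem (inv_mem (hzQ ha)) hw
      have e4 : Nat.card H = Nat.card Q * Nat.card ↥(H ⊓ D) := by
        conv_lhs => rw [e3]
        exact ZLen.card_sup_eq (inf_le_right.trans (hDM.trans h.normal))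
          (le_bot_iff.1 ((inf_le_inf_left Q inf_le_right).trans h.compl.2.2.1.le))
      have e5 := CfsgLib.Coprime.card_mul_relIndex hH
      have e6 := CfsgLib.Coprime.card_mul_relIndex (inf_le_right : H ⊓ D ≤ D)
      rw [inf_relIndex_right] at e6
      rw [e2, e4, mul_assoc, ← e6] at e5
      exact (Nat.eq_of_mul_eq_mul_left Nat.card_pos
        (Nat.eq_of_mul_eq_mul_left Nat.card_pos e5)).symm.dvd
    refine hσn fun w hw => ?_
    obtain ⟨a, ha, b, hb, rfl⟩ := h.compl.2.2.2 w hw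
    refine mul_mem (le_normalizer (hzQ ha)) ?_
    have hbQ : b ∈ normalizer (Q : Set G) := h.normal (hDM hb)
    have hinv : ∀ u ∈ D, ∀ w ∈ H, u * w * u⁻¹ ∈ H := fun u hu w hw => by
      obtain ⟨a', ha', b', hb', rfl⟩ := h.compl.2.2.2 w (hH hw)
      have hb'H : b' ∈ H ⊓ D := mem_inf.2 ⟨by
        rw [show b' = a'⁻¹ * (a' * b') by group]
        exact mul_mem (inv_mem (hzQ ha')) hw, hb'⟩
      rw [show u * (a' * b') * u⁻¹ = (u * a' * u⁻¹) * (u * b' * u⁻¹) by group]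
      exact mul_mem (hzQ ((mem_normalizer_iff.1 (h.normal (hDM hu)) a').1 ha'))
        (mem_inf.1 ((mem_normalizer_iff.1 (hnorm hu) b').1 hb'H)).1
    refine mem_normalizer_iff.2 fun w => ⟨hinv b hb w, fun hw => ?_⟩
    have := hinv b⁻¹ (inv_mem hb) _ hw
    rwa [show b⁻¹ * (b * w * b⁻¹) * b⁻¹⁻¹ = w by group] at this
  -- `H` lies in a complement of `Q`
  have hDhall : IsHallIn ({q}ᶜ : Set ℕ) D (Cfsg.sigmaCore M) := by
    refine ⟨h.compl.2.1, fun p hp hd hpq => ?_, fun p hp hd => ?_⟩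
    · rw [show p = q from hpq] at hd
      exact h.prime.one_lt.ne' (Nat.eq_one_of_dvd_coprimes h.cop hd
        (card_dvd_of_le h.fix_le))
    · have e := CfsgLib.Coprime.card_mul_relIndex h.compl.2.1
      rw [card_of_compl h.compl, mul_comm (Nat.card Q)] at e
      rw [Nat.eq_of_mul_eq_mul_left Nat.card_pos e] at hd
      obtain ⟨j, hj⟩ := IsPGroup.iff_card.1 h.sylow.isPGroup
      rw [hj] at hd
      exact fun hne => hne ((Nat.prime_dvd_prime_iff_eq hp h.prime).1 (hp.dvd_of_dvd_pow hd))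
  obtain ⟨z, hz, hzD⟩ := hDhall.exists_conj_le (sigmaCore_solvable hG hM) hH
    fun p hp hd hpq => hqH (show q ∣ _ from (show p = q from hpq) ▸ hd)
  set D' := conjBy z⁻¹ D
  have hHD' : H ≤ D' := by
    have := map_mono (f := (MulAut.conj z⁻¹).toMonoidHom) hzD
    rwa [show (conjBy z H).map (MulAut.conj z⁻¹).toMonoidHom = conjBy z⁻¹ (conjBy z H) from rfl,
      conjBy_conjBy, inv_mul_cancel, conjBy_one] at this
  have hzσ : conjBy z⁻¹ (Cfsg.sigmaCore M) = Cfsg.sigmaCore M :=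
    CfsgLib.Coprime.conjBy_eq_self_of_mem (inv_mem hz)
  have hzQ : conjBy z⁻¹ Q = Q :=
    CfsgLib.Coprime.conjBy_eq_self_iff.2 (h.normal (hσM (inv_mem hz)))
  have hD' : Cfsg.IsComplIn Q D' (Cfsg.sigmaCore M) := by
    refine ⟨h.compl.1, hzσ ▸ map_mono h.compl.2.1, ?_, fun w hw => ?_⟩
    · rw [← hzQ, show conjBy z⁻¹ Q ⊓ D' = conjBy z⁻¹ (Q ⊓ D) from
        (map_inf _ _ _ (MulAut.conj z⁻¹).injective).symm, h.compl.2.2.1]
      exact Subgroup.map_bot _
    · rw [← hzσ] at hw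
      obtain ⟨w', hw', rfl⟩ := hw
      obtain ⟨a, ha, b, hb, rfl⟩ := h.compl.2.2.2 w' hw'
      exact ⟨_, hzQ.le (mem_map_of_mem _ ha), _, mem_map_of_mem _ hb, map_mul _ _ _⟩
  have hnD := hall_normal_of_nilpotent (FifteenTwo.Split.compl_spec hG hM d h hD').1 hHD'
    (hcop.coprime_dvd_right (Dvd.intro _ (relIndex_mul_relIndex H D' _ hHD' hD'.2.1)))
  obtain ⟨a, ha, b, hb, rfl⟩ := hD'.2.2.2 t ht
  have hby : b * y * b⁻¹ ∈ H := (mem_normalizer_iff.1 (hnD hb) y).1 hy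
  refine ⟨b, mem_inf.2 ⟨hσM (hD'.2.1 hb), hnD hb⟩, ?_⟩
  have h1 : a * b * y * (a * b)⁻¹ * (b * y * b⁻¹)⁻¹ ∈ Q ⊓ D' := by
    refine mem_inf.2 ⟨?_, mul_mem (hHD' hty) (inv_mem (hHD' hby))⟩
    rw [show a * b * y * (a * b)⁻¹ * (b * y * b⁻¹)⁻¹ =
      a * ((b * y * b⁻¹) * a⁻¹ * (b * y * b⁻¹)⁻¹) by group]
    exact mul_mem ha ((mem_normalizer_iff.1 (h.normal (hσM (hH hby))) _).1 (inv_mem ha))
  rw [hD'.2.2.1, mem_bot, mul_inv_eq_one] at h1
  exact h1.symm

end CfsgLib.CFun.HallFusion
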