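import Cfsg.Agent.Lib.CFun.OddTauThreeRegular

/-!
# The primes `κ(M)`

`κ(M) ⊆ τ₁(M)`, with equality when `κ(M)` is nonempty; a Hall `κ(M)`-subgroup is cyclic, acts in a
prime manner on `M_σ` and fixed-point-freely on a complementary normal part of a complement.
-/

set_option autoImplicit false
set_option linter.style.haveILetI false
set_option linter.unusedSectionVars false

open Subgroup
open scoped commutatorElement
open CfsgLib.Coprime (conjBy conjBy_conjBy conjBy_one mem_conjBy conj_mem_conjBy IsSylowIn IsHallIn)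

namespace CfsgLib.CFun.Kappa

open CfsgLib.CFun.TauTwo CfsgLib.CFun.TauOne CfsgLib.CFun.Disjoint CfsgLib.CFun.ElemCent
open CfsgLib.CFun.Lines

universe u

variable {G : Type u} [Group G] [Finite G]

/-- The order of a product with trivial intersection. -/
theorem card_of_compl {A B M : Subgroup G} (h : Cfsg.IsComplIn A B M) :
    Nat.card M = Nat.card A * Nat.card B := by
  obtain ⟨hA, hB, hAB, hprod⟩ := h
  rw [← Nat.card_prod]
  refine (Nat.card_eq_of_bijective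
    (fun p : A × B => (⟨(p.1 : G) * p.2, mul_mem (hA p.1.2) (hB p.2.2)⟩ : M)) ⟨?_, ?_⟩).symm
  · rintro ⟨a, b⟩ ⟨a', b'⟩ e
    have e' : (a : G) * b = a' * b' := congrArg Subtype.val e
    have h1 : (a' : G)⁻¹ * a = b' * (b : G)⁻¹ := by
      rw [eq_mul_inv_iff_mul_eq, mul_assoc, e', inv_mul_cancel_left]
    have h2 : (a' : G)⁻¹ * a ∈ A ⊓ B :=
      mem_inf.2 ⟨mul_mem (inv_mem a'.2) a.2, h1 ▸ mul_mem b'.2 (inv_mem b.2)⟩
    rw [hAB, mem_bot, inv_mul_eq_one] at h2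
    obtain rfl : a' = a := Subtype.ext h2
    exact Prod.ext rfl (Subtype.ext (mul_left_cancel e'))
  · rintro ⟨m, hm⟩
    obtain ⟨a, ha, b, hb, rfl⟩ := hprod m hm
    exact ⟨(⟨a, ha⟩, ⟨b, hb⟩), rfl⟩

variable {p s : ℕ} [hp : Fact p.Prime] [hs : Fact s.Prime]
variable (hG : Cfsg.IsMinSimpleOddOrder G) {M E K : Subgroup G} (hM : IsCoatom M)
include hG hM

omit hp hs in
/-- Fixed points of a conjugate line. -/
theorem fixed_ne_bot_conj {W : Subgroup G} {m : G} (hm : m ∈ M)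
    (h : Cfsg.sigmaCore M ⊓ centralizer (W : Set G) ≠ ⊥) :
    Cfsg.sigmaCore M ⊓ centralizer ((conjBy m W : Subgroup G) : Set G) ≠ ⊥ := by
  obtain ⟨y, hy, hy1⟩ := (bot_or_exists_ne_one _).resolve_left h
  intro e
  have h2 : m * y * m⁻¹ ∈ Cfsg.sigmaCore M ⊓ centralizer ((conjBy m W : Subgroup G) : Set G) := by
    refine mem_inf.2 ⟨(mem_normalizer_iff.1 (sigmaCore_normal hG M hm) y).1 hy.1,
      mem_centralizer_iff.2 ?_⟩
    rintro _ ⟨w, hw, rfl⟩
    show m * w * m⁻¹ * (m * y * m⁻¹) = m * y * m⁻¹ * (m * w * m⁻¹)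
    rw [show m * w * m⁻¹ * (m * y * m⁻¹) = m * (w * y) * m⁻¹ by group,
      mem_centralizer_iff.1 hy.2 w hw]
    group
  rw [e, mem_bot, conj_eq_one_iff] at h2
  exact hy1 h2

omit hp hs in
/-- `κ(M) ⊆ τ₁(M)`. -/
theorem kappa_tau1 {p : ℕ} (hpκ : p ∈ Cfsg.kappa M) : p ∈ Cfsg.tau1 M := by
  obtain ⟨hpp, hpM, hpσ, hsyl⟩ := hpκ
  haveI : Fact p.Prime := ⟨hpp⟩
  obtain ⟨S⟩ := (inferInstance : Nonempty (Sylow p M))
  have hr1 : Cfsg.PRankLE p 1 M := pRankLE_of_sylow S fun B hBc hBe => by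
    haveI := (hsyl S).1
    haveI : IsCyclic ↥((S : Subgroup M).map M.subtype) :=
      isCyclic_of_surjective ((S : Subgroup M).equivMapOfInjective M.subtype
        M.subtype_injective).toMonoidHom (MulEquiv.surjective _)
    exact (card_le_of_cyclic (C := B) inferInstance le_rfl fun y hy => hBe y hy).trans
      (le_of_eq (pow_one p).symm)
  refine ⟨hpp, hpσ, hpM, fun hd => ?_, hr1⟩
  obtain ⟨-, x, hxS, hx1, y, hy, hy1, hxy⟩ := hsyl S
  obtain ⟨n, hn⟩ := S.2 ⟨x, hxS⟩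
  have hxn : (x : G) ^ p ^ n = 1 :=
    (congrArg (fun z : (S : Subgroup M) => ((z : M) : G)) hn :)
  obtain ⟨-, hdx, -⟩ := exists_line_pow (t := p) ⟨n, hxn⟩ fun e => hx1 (Subtype.ext e)
  have h1 : y ∈ Cfsg.sigmaCore M ⊓ centralizer ({(x : G)} : Set G) :=
    mem_inf.2 ⟨hy, mem_centralizer_singleton_iff.2 hxy.symm⟩
  rw [TauThree.tau3_regular hG hM x.2 ⟨hpp, hpσ, hd, hr1⟩ hdx, mem_bot] at h1
  exact hy1 h1

omit hs in
/-- Lines at primes of `κ(M)` have fixed points on `M_σ`. -/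
theorem kappa_fixed (hpκ : p ∈ Cfsg.kappa M) {P : Subgroup G} (hPM : P ≤ M)
    (hPc : Nat.card P = p) : Cfsg.sigmaCore M ⊓ centralizer (P : Set G) ≠ ⊥ := by
  obtain ⟨S, hS⟩ := ((IsPGroup.of_card (p := p) (n := 1) (by rw [hPc, pow_one])).of_equiv
    (subgroupOfEquivOfLe hPM).symm).exists_le_sylow
  obtain ⟨hc, x, hxS, hx1, y, hy, hy1, hxy⟩ := hpκ.2.2.2 S
  set T := (S : Subgroup M).map M.subtype with hT
  have hTc : IsCyclic T := isCyclic_of_surjective
    ((S : Subgroup M).equivMapOfInjective M.subtype M.subtype_injective).toMonoidHom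
    (MulEquiv.surjective _)
  obtain ⟨n, hn⟩ := S.2 ⟨x, hxS⟩
  have hxn : (x : G) ^ p ^ n = 1 :=
    (congrArg (fun z : (S : Subgroup M) => ((z : M) : G)) hn :)
  obtain ⟨-, -, W, hWx, hWc⟩ := exists_line_pow (t := p) ⟨n, hxn⟩ fun e => hx1 (Subtype.ext e)
  have hPW : P ≤ W := eq_of_cyclic (q := p) hTc
    (hWx.trans (zpowers_le.2 (mem_map_of_mem M.subtype hxS)))
    (fun z hz => ⟨⟨z, hPM hz⟩, hS hz, rfl⟩)
    (fun z hz => orderOf_dvd_iff_pow_eq_one.1 (hWc ▸ orderOf_dvd_natCard W hz))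
    (fun z hz => orderOf_dvd_iff_pow_eq_one.1 (hPc ▸ orderOf_dvd_natCard P hz)) (line_ne_bot hWc)
  intro e
  have h1 : y ∈ Cfsg.sigmaCore M ⊓ centralizer (P : Set G) := by
    refine mem_inf.2 ⟨hy, centralizer_le (hPW.trans hWx) ?_⟩
    rw [centralizer_zpowers]
    exact mem_centralizer_singleton_iff.2 hxy.symm
  rw [e, mem_bot] at h1
  exact hy1 h1

omit hs in
/-- A prime of `τ₁(M)` with a nonregular line lies in `κ(M)`. -/
theorem mem_kappa (hpt : p ∈ Cfsg.tau1 M) {P : Subgroup G} (hPM : P ≤ M) (hPc : Nat.card P = p)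
    (hfix : Cfsg.sigmaCore M ⊓ centralizer (P : Set G) ≠ ⊥) : p ∈ Cfsg.kappa M := by
  refine ⟨hp.out, hpt.2.2.1, hpt.2.1, fun S => ?_⟩
  have hp2 : p ≠ 2 := ms_ne_two hG ((dvd_of_eq hPc.symm).trans (card_subgroup_dvd_card P))
  haveI : IsCyclic ↥((S : Subgroup M).map M.subtype) := Compl.isCyclic_of_rank_one hp2 (S.2.map _)
    (RankTwoTower.pRankLE_of_injective (f := inclusion (map_subtype_le (S : Subgroup M)))
      (inclusion_injective _) hpt.2.2.2.2)
  refine ⟨isCyclic_of_injective ((S : Subgroup M).equivMapOfInjective M.subtype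
    M.subtype_injective).toMonoidHom (MulEquiv.injective _), ?_⟩
  obtain ⟨S', hS'⟩ := ((IsPGroup.of_card (p := p) (n := 1) (by rw [hPc, pow_one])).of_equiv
    (subgroupOfEquivOfLe hPM).symm).exists_le_sylow
  obtain ⟨m, rfl⟩ := MulAction.exists_smul_eq M S' S
  obtain ⟨a, ha, ha1, -, haP⟩ := exists_gen hPc
  obtain ⟨y, hy, hy1⟩ := (bot_or_exists_ne_one _).resolve_left (fixed_ne_bot_conj hG hM m.2 hfix)
  refine ⟨m * ⟨a, hPM ha⟩ * m⁻¹, ?_, fun e => ha1 ?_, y, hy.1, hy1, ?_⟩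
  · exact Subgroup.smul_mem_pointwise_smul (⟨a, hPM ha⟩ : M) (MulAut.conj m) _ (hS' ha)
  · exact (congrArg Subtype.val (conj_eq_one_iff.1 e) :)
  · exact mem_centralizer_iff.1 hy.2 _ (conj_mem_conjBy ha)

/-- Lines outside `σ(M)` commuting with a nonregular `τ₁`-line have their prime in `κ(M)`. -/
theorem commute_kappa (hpt : p ∈ Cfsg.tau1 M) {P : Subgroup G} (hPM : P ≤ M) (hPc : Nat.card P = p)
    (hfix : Cfsg.sigmaCore M ⊓ centralizer (P : Set G) ≠ ⊥) {R : Subgroup G} (hRM : R ≤ M)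
    (hRc : Nat.card R = s) (hRP : R ≤ centralizer (P : Set G)) (hsσ : s ∉ Cfsg.sigma M) :
    s ∈ Cfsg.kappa M := by
  have h13 := fixed_le_commuting hG hM hpt hPM hPc hs.out hRc hRM hRP hsσ
  have hfixR : Cfsg.sigmaCore M ⊓ centralizer (R : Set G) ≠ ⊥ := fun e =>
    hfix (le_bot_iff.1 ((le_inf inf_le_left h13).trans e.le))
  have hsM : s ∣ Nat.card M := hRc ▸ card_dvd_of_le hRM
  rcases tau_or_rank_one hG hM hs.out hsσ with hst | hs1
  · exfalso
    obtain ⟨E, hE, hRE⟩ := exists_complement hG hM hRM fun t ht htd => by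
      rw [hRc] at htd; rw [(Nat.prime_dvd_prime_iff_eq ht hs.out).1 htd]; exact hsσ
    obtain ⟨A, hAE, hAe, hA2⟩ := Compl.exists_elementary_compl hG hM hE hst
    obtain ⟨⟨-, hsub⟩, -, huniq⟩ := Cfsg.Agent.S1418.result hG M hM E hE s hst A ⟨hAE, hAe, hA2⟩
    obtain ⟨hCM, hun⟩ := huniq R (hsub R hRE hRc) hRc hfixR
    obtain ⟨L, hL, hNP⟩ := exists_coatom_normalizer hG (line_ne_bot hPc)
      (ms_isPGroup_ne_top hG (IsPGroup.of_card (p := p) (n := 1) (by rw [hPc, pow_one])))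
    obtain ⟨q, X, hq, hX, hXc⟩ := exists_prime_line hfix
    haveI : Fact q.Prime := ⟨hq⟩
    have hpL := normalizer_sigma_of_fixed hG hM hpt.2.1 hpt.2.2.2.2 hPM hPc hXc hX hL hNP
    have hnc := rank_one_not_conj hG hM hpt.2.1 hpt.2.2.2.2 hPc hNP
    have hCP : centralizer (P : Set G) ≤ L :=
      (CfsgLib.Coprime.centralizer_le_normalizer_self _).trans hNP
    have hRL : R ≤ L := hRP.trans hCP
    have hPfix : P ≤ Cfsg.sigmaCore L ⊓ centralizer (R : Set G) := le_inf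
      (isPGroup_le_sigmaCore hG hL hpL (IsPGroup.of_card (p := p) (n := 1) (by rw [hPc, pow_one]))
        (le_normalizer.trans hNP)) (le_centralizer_iff.1 hRP)
    by_cases hsL : s ∈ Cfsg.sigma L
    · obtain ⟨x, hx, hx1, -, hxR⟩ := exists_gen hRc
      rw [← hxR, centralizer_zpowers] at hCM
      simp only [← hxR, centralizer_zpowers] at hun
      have hxL : ¬ centralizer ({x} : Set G) ≤ L := fun h => hnc.ne (hun L hL h)
      obtain ⟨N, hN, hxN, hN', -, -, hD, -⟩ := exists_data hG hL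
        (isPGroup_le_sigmaCore hG hL hsL (IsPGroup.of_card (p := s) (n := 1) (by rw [hRc, pow_one]))
          hRL hx) hx1 hxL
      have hNM : N = M := hun N hN hxN
      subst hNM
      exact line_ne_bot hXc (le_bot_iff.1 (hD.2.2.1 ▸ le_inf (le_inf ((hX.trans inf_le_right).trans hCP)
        ((hX.trans inf_le_left).trans (map_subtype_le _))) (hX.trans inf_le_left)))
    rcases tau_or_rank_one hG hL hs.out hsL with hsLt | hs1L
    · obtain ⟨F, hF, hRF⟩ := exists_complement hG hL hRL fun t ht htd => by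
        rw [hRc] at htd; rw [(Nat.prime_dvd_prime_iff_eq ht hs.out).1 htd]; exact hsL
      obtain ⟨B, hBF, hBe, hB2⟩ := Compl.exists_elementary_compl hG hL hF hsLt
      obtain ⟨⟨-, hsubL⟩, -, huniqL⟩ := Cfsg.Agent.S1418.result hG L hL F hF s hsLt B ⟨hBF, hBe, hB2⟩
      exact hnc.ne (hun L hL ((huniqL R (hsubL R hRF hRc) hRc
        fun e => line_ne_bot hPc (le_bot_iff.1 (e ▸ hPfix))).1))
    · obtain ⟨N, hN, hNR⟩ := exists_coatom_normalizer hG (line_ne_bot hRc)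
        (ms_isPGroup_ne_top hG (IsPGroup.of_card (p := s) (n := 1) (by rw [hRc, pow_one])))
      have hsN := normalizer_sigma_of_fixed hG hL hsL hs1L hRL hRc hPc hPfix hN hNR
      rw [hun N hN ((CfsgLib.Coprime.centralizer_le_normalizer_self _).trans hNR)] at hsN
      exact hsσ hsN
  · refine mem_kappa hG hM ⟨hs.out, hsσ, hsM, fun hd => ?_, hs1⟩ hRM hRc hfixR
    exact hfixR (TauThree.tau3_line_regular hG hM ⟨hs.out, hsσ, hd, hs1⟩ hRM hRc)

omit hp hs in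
/-- `κ(M) = τ₁(M)` when `κ(M)` is nonempty. -/
theorem kappa_eq_tau1 (hne : (Cfsg.kappa M).Nonempty) : Cfsg.kappa M = Cfsg.tau1 M := by
  refine Set.Subset.antisymm (fun q hq => kappa_tau1 hG hM hq) fun t ht => ?_
  obtain ⟨q, hqκ⟩ := hne
  have hqt := kappa_tau1 hG hM hqκ
  haveI : Fact q.Prime := ⟨hqt.1⟩
  haveI : Fact t.Prime := ⟨ht.1⟩
  obtain ⟨Q, hQM, hQc⟩ := exists_line_of_dvd hqt.2.2.1
  obtain ⟨E, hE, hQE⟩ := exists_complement hG hM hQM fun r hr hrd => by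
    rw [hQc] at hrd; rw [(Nat.prime_dvd_prime_iff_eq hr hqt.1).1 hrd]; exact hqt.2.1
  obtain ⟨T, hTE, hTc⟩ := exists_line_of_dvd (H := E) (t := t) (by
    have h1 := ht.2.2.1
    rw [← CfsgLib.Coprime.card_mul_relIndex hE.1] at h1
    exact (ht.1.dvd_mul.1 h1).resolve_right fun h2 =>
      (compl_isHall hG hM hE).2.2 t ht.1 h2 ht.2.1)
  obtain ⟨a, ha, ha1, hat, haT⟩ := exists_gen hTc
  obtain ⟨u, hu, huQ⟩ := tau1_conj_commute hG hM hE hqt hQE hQc (hTE ha) fun r hr hrd => by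
    rw [orderOf_eq_prime hat ha1] at hrd
    rw [(Nat.prime_dvd_prime_iff_eq hr ht.1).1 hrd]; exact ht
  have hb1 : u * a * u⁻¹ ≠ 1 := fun e => ha1 (conj_eq_one_iff.1 e)
  exact commute_kappa hG hM hqt hQM hQc (kappa_fixed hG hM hqκ hQM hQc) (R := zpowers (u * a * u⁻¹))
    (zpowers_le.2 (hE.1 (mul_mem (mul_mem hu (hTE ha)) (inv_mem hu))))
    (by rw [Nat.card_zpowers, orderOf_eq_prime (by rw [conj_pow, hat, mul_one, mul_inv_cancel]) hb1])
    (zpowers_le.2 huQ) ht.2.1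

section Hall

variable (hK : Cfsg.IsPiHallOf (Cfsg.kappa M) K M)
include hK

omit hp hs in
/-- A Hall `κ(M)`-subgroup has a complement around it. -/
theorem exists_compl_over : ∃ E : Subgroup G, Cfsg.IsComplIn E (Cfsg.sigmaCore M) M ∧ K ≤ E :=
  exists_complement hG hM hK.1 fun r hr hrd => (hK.2.1 r hr hrd).2.2.1

omit hp hs in
/-- Hall `κ(M)`-subgroups are cyclic. -/
theorem hall_cyclic : IsCyclic K := by
  obtain ⟨E, hE, hKE⟩ := exists_compl_over hG hM hK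
  obtain ⟨E₁, hE₁, hKE₁⟩ := IsHallIn.exists_ge (π := Cfsg.tau1 M) (Compl.compl_solvable hG hM hE)
    hKE fun r hr hrd => kappa_tau1 hG hM (hK.2.1 r hr hrd)
  haveI := Compl.tau1_hall hG hM hE (E₁ := E₁)
    ⟨hE₁.1, hE₁.2.1, fun q hq hqt hqd => hE₁.2.2 q hq hqd hqt⟩
  exact isCyclic_of_injective (inclusion hKE₁) (inclusion_injective _)

omit hp hs in
/-- Elements of a Hall `κ(M)`-subgroup commute. -/
theorem hall_commute {a b : G} (ha : a ∈ K) (hb : b ∈ K) : a * b = b * a := by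
  haveI := hall_cyclic hG hM hK
  exact (congrArg Subtype.val (mul_comm' (⟨a, ha⟩ : K) ⟨b, hb⟩) :)

omit hp hs in
/-- A Hall `κ(M)`-subgroup acts in a prime manner on `M_σ`. -/
theorem fixed_eq {k : G} (hk : k ∈ K) (hk1 : k ≠ 1) :
    Cfsg.sigmaCore M ⊓ centralizer ({k} : Set G) = Cfsg.sigmaCore M ⊓ centralizer (K : Set G) := by
  refine le_antisymm (le_inf inf_le_left (le_centralizer_iff.1
    (TauOne.le_of_prime_power_elements fun t ht f hf hfn => ?_)))
    (inf_le_inf_left _ (centralizer_le fun z hz => by rw [Set.mem_singleton_iff.1 hz]; exact hk))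
  haveI : Fact t.Prime := ⟨ht⟩
  by_cases hf1 : f = 1
  · subst hf1; exact one_mem _
  obtain ⟨p, hp', hpd⟩ := Nat.exists_prime_and_dvd fun e => hk1 (orderOf_eq_one_iff.1 e)
  haveI : Fact p.Prime := ⟨hp'⟩
  obtain ⟨P, hPk, hPc⟩ := exists_line_of_dvd (H := zpowers k) (t := p) (by rwa [Nat.card_zpowers])
  have hPK : P ≤ K := hPk.trans (zpowers_le.2 hk)
  obtain ⟨-, htf, -⟩ := exists_line_pow hfn hf1
  have htt := kappa_tau1 hG hM (hK.2.1 t ht (htf.trans (orderOf_dvd_natCard _ hf)))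
  have h1 := fixed_le_element hG hM
    (kappa_tau1 hG hM (hK.2.1 p hp' (hPc ▸ card_dvd_of_le hPK))) (hPK.trans hK.1) hPc
    (hK.1 hf) hfn (mem_centralizer_iff.2 fun x hx => hall_commute hG hM hK (hPK hx) hf)
    htt.2.1 htt.2.2.2.2
  refine mem_centralizer_iff.2 fun y hy => ?_
  have h2 : y ∈ Cfsg.sigmaCore M ⊓ centralizer (P : Set G) := by
    refine mem_inf.2 ⟨hy.1, centralizer_le hPk ?_⟩
    rw [centralizer_zpowers]
    exact hy.2
  exact mem_centralizer_singleton_iff.1 (h1 h2)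

omit hp hs in
/-- `M_σ ∩ C(K) ≠ 1`. -/
theorem fixed_ne_bot : Cfsg.sigmaCore M ⊓ centralizer (K : Set G) ≠ ⊥ := by
  by_cases hK1 : K = ⊥
  · subst hK1
    intro e
    refine sigmaCore_ne_bot hG hM (le_bot_iff.1 (le_trans (le_inf le_rfl fun x _ => ?_) e.le))
    exact mem_centralizer_iff.2 fun y hy => by simp [mem_bot.1 hy]
  obtain ⟨p, P, hp', hPK, hPc⟩ := exists_prime_line hK1
  haveI : Fact p.Prime := ⟨hp'⟩
  obtain ⟨k, hk, hk1, -, hkP⟩ := exists_gen hPc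
  rw [← fixed_eq hG hM hK (hPK hk) hk1, ← centralizer_zpowers, hkP]
  exact kappa_fixed hG hM (hK.2.1 p hp' (hPc ▸ card_dvd_of_le hPK)) (hPK.trans hK.1) hPc

end Hall

end CfsgLib.CFun.Kappa
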