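import Cfsg.Agent.Lib.CFun.OddKappaInter

/-!
# The conjugates of `Ẑ`
-/

set_option autoImplicit false
set_option linter.style.haveILetI false
set_option linter.unusedSectionVars false

open Subgroup
open scoped commutatorElement
open CfsgLib.Coprime (conjBy conjBy_conjBy conjBy_one mem_conjBy conj_mem_conjBy IsSylowIn IsHallIn)

namespace CfsgLib.CFun.Zhat

open CfsgLib.CFun.TauTwo CfsgLib.CFun.TauOne CfsgLib.CFun.Disjoint CfsgLib.CFun.ElemCent
open CfsgLib.CFun.Lines CfsgLib.CFun.Kappa CfsgLib.CFun.Partner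

universe u

variable {G : Type u} [Group G] [Finite G]

/-- `Ẑ = K K* - (K ∪ K*)`. -/
def zhat (M K : Subgroup G) : Set G :=
  (↑(K ⊔ (Cfsg.sigmaCore M ⊓ centralizer (K : Set G))) : Set G) \
    ((K : Set G) ∪ ↑(Cfsg.sigmaCore M ⊓ centralizer (K : Set G)))

/-- The conjugates of `Ẑ`. -/
def orbit (M K : Subgroup G) : Set G := {a : G | ∃ g : G, ∃ z ∈ zhat M K, a = g * z * g⁻¹}

variable (hG : Cfsg.IsMinSimpleOddOrder G)
include hG

variable {M K : Subgroup G} (hM : IsCoatom M) (hK : Cfsg.IsPiHallOf (Cfsg.kappa M) K M)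
include hM hK

/-- The order of `Ẑ`. -/
theorem ncard_zhat :
    (zhat M K).ncard + Nat.card K + Nat.card ↥(Cfsg.sigmaCore M ⊓ centralizer (K : Set G)) =
      Nat.card K * Nat.card ↥(Cfsg.sigmaCore M ⊓ centralizer (K : Set G)) + 1 := by
  set Ks := Cfsg.sigmaCore M ⊓ centralizer (K : Set G) with hKs
  have hinf : K ⊓ Ks = ⊥ :=
    le_bot_iff.1 ((inf_le_inf_left _ inf_le_left).trans (Decomp.hall_inf hG hM hK).le)
  have hcard : Nat.card ↥(K ⊔ Ks) = Nat.card K * Nat.card Ks := by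
    refine card_of_compl ⟨le_sup_left, le_sup_right, hinf, fun m hm => ?_⟩
    obtain ⟨b, hb, a, ha, rfl⟩ := CfsgLib.Coprime.mem_sup_exists
      ((le_centralizer_iff.1 (inf_le_right : Ks ≤ _)).trans
        (CfsgLib.Coprime.centralizer_le_normalizer_self _)) (sup_comm K Ks ▸ hm)
    exact ⟨a, ha, b, hb, (mem_centralizer_iff.1 hb.2 a ha).symm⟩
  have hsub : (K : Set G) ∪ ↑Ks ⊆ ↑(K ⊔ Ks) :=
    Set.union_subset (fun x hx => mem_sup_left hx) fun x hx => mem_sup_right hx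
  have h1 := Set.ncard_diff_add_ncard_of_subset hsub (Set.toFinite _)
  have h2 := Set.ncard_union_add_ncard_inter (K : Set G) (↑Ks : Set G) (Set.toFinite _) (Set.toFinite _)
  have h3 : ((K : Set G) ∩ ↑Ks).ncard = 1 := by
    rw [← coe_inf, hinf, coe_bot, Set.ncard_singleton]
  have hn : ∀ H : Subgroup G, (H : Set G).ncard = Nat.card H := fun H =>
    (Nat.card_coe_set_eq _).symm
  rw [hn (K ⊔ Ks), hcard] at h1
  rw [h3, hn K, hn Ks] at h2
  show ((↑(K ⊔ Ks) : Set G) \ ((K : Set G) ∪ ↑Ks)).ncard + _ + _ = _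
  omega

/-- The number of conjugates of elements of `Ẑ`. -/
theorem ncard_orbit (hK1 : K ≠ ⊥) :
    (orbit M K).ncard *
        (Nat.card K * Nat.card ↥(Cfsg.sigmaCore M ⊓ centralizer (K : Set G))) =
      Nat.card G * (zhat M K).ncard := by
  set Ks := Cfsg.sigmaCore M ⊓ centralizer (K : Set G) with hKs
  have hm : Member (K ⊔ Ks) M := ⟨hM, K, hK, hK1, rfl⟩
  have h := Star.ncard_orbit (K ⊔ Ks) (zhat M K) (fun d hd z hz => by
      rw [show d * z * d⁻¹ = z by rw [hm.commute hG hd hz.1, mul_inv_cancel_right]]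
      exact hz)
    fun g z hz hgz => Inter.zhat_transporter hG hM hK hK1 hz hgz
  have hcard : Nat.card ↥(K ⊔ Ks) = Nat.card K * Nat.card Ks := by
    refine card_of_compl ⟨le_sup_left, le_sup_right,
      le_bot_iff.1 ((inf_le_inf_left _ inf_le_left).trans (Decomp.hall_inf hG hM hK).le),
      fun m hm => ?_⟩
    obtain ⟨b, hb, a, ha, rfl⟩ := CfsgLib.Coprime.mem_sup_exists
      ((le_centralizer_iff.1 (inf_le_right : Ks ≤ _)).trans
        (CfsgLib.Coprime.centralizer_le_normalizer_self _)) (sup_comm K Ks ▸ hm)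
    exact ⟨a, ha, b, hb, (mem_centralizer_iff.1 hb.2 a ha).symm⟩
  rwa [hcard] at h

/-- More than half of `G` is conjugate into `Ẑ`. -/
theorem card_lt_two_mul (hK1 : K ≠ ⊥) : Nat.card G < 2 * (orbit M K).ncard := by
  set Ks := Cfsg.sigmaCore M ⊓ centralizer (K : Set G) with hKs
  have horb := ncard_orbit hG hM hK hK1
  have hz := ncard_zhat hG hM hK
  rw [← hKs] at horb hz
  have hodd : ∀ H : Subgroup G, Odd (Nat.card H) := fun H =>
    hG.1.of_dvd_nat (card_subgroup_dvd_card H)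
  have hk1 : Nat.card K ≠ 1 := fun e => hK1 (card_eq_one.1 e)
  have hs1 : Nat.card Ks ≠ 1 := fun e => Kappa.fixed_ne_bot hG hM hK (card_eq_one.1 e)
  have hne : Nat.card K ≠ Nat.card Ks := fun e => by
    obtain ⟨t, ht, htd⟩ := Nat.exists_prime_and_dvd hk1
    exact (hK.2.1 t ht htd).2.2.1
      ((sigmaCore_hall hG hM).1.2.1 t ht ((e ▸ htd).trans (card_dvd_of_le inf_le_left)))
  obtain ⟨i, hi⟩ := hodd K
  obtain ⟨j, hj⟩ := hodd Ks
  have hij : 1 ≤ i ∧ 1 ≤ j ∧ i ≠ j := ⟨by omega, by omega, by omega⟩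
  have key : Nat.card K * Nat.card Ks < 2 * (zhat M K).ncard := by
    rw [hi, hj] at hz ⊢
    rcases lt_or_gt_of_ne hij.2.2 with h | h <;>
      nlinarith [Nat.mul_le_mul hij.1 (show 2 ≤ max i j by omega)]
  by_contra hle
  rw [not_lt] at hle
  have h1 : 2 * (zhat M K).ncard * Nat.card G ≤ Nat.card K * Nat.card Ks * Nat.card G := by
    calc 2 * (zhat M K).ncard * Nat.card G = 2 * ((orbit M K).ncard * (Nat.card K * Nat.card Ks)) := by
          rw [horb]; ring
      _ = 2 * (orbit M K).ncard * (Nat.card K * Nat.card Ks) := by ring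
      _ ≤ Nat.card G * (Nat.card K * Nat.card Ks) := Nat.mul_le_mul_right _ hle
      _ = _ := by ring
  exact absurd key (not_lt.2 (Nat.le_of_mul_le_mul_right h1 Nat.card_pos))

omit hM hK in
/-- Every maximal subgroup with `κ ≠ ∅` is conjugate to `M` or to its partner. -/
theorem kappa_conj {M K Mstar : Subgroup G} (hM : IsCoatom M)
    (hK : Cfsg.IsPiHallOf (Cfsg.kappa M) K M) (hK1 : K ≠ ⊥) (hMs : IsCoatom Mstar)
    (hKst : K = Cfsg.sigmaCore Mstar ⊓
      centralizer ((Cfsg.sigmaCore M ⊓ centralizer (K : Set G)) : Set G))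
    {H : Subgroup G} (hH : IsCoatom H) (hne : (Cfsg.kappa H).Nonempty) :
    ∃ g : G, conjBy g M = H ∨ conjBy g Mstar = H := by
  obtain ⟨L, hLh⟩ := IsHallIn.exists_ge (π := Cfsg.kappa H) (ms_solvable hG hH.1)
    (bot_le : (⊥ : Subgroup G) ≤ H) fun t ht htd => by
      rw [card_bot] at htd; exact absurd htd ht.not_dvd_one
  have hL : Cfsg.IsPiHallOf (Cfsg.kappa H) L H :=
    ⟨hLh.1.1, hLh.1.2.1, fun q hq hqκ hqd => hLh.1.2.2 q hq hqd hqκ⟩
  have hL1 : L ≠ ⊥ := fun e => by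
    obtain ⟨q, hq⟩ := hne
    refine hL.2.2 q hq.1 hq ?_
    rw [e, relIndex_bot_left]; exact hq.2.1
  have h1 := card_lt_two_mul hG hM hK hK1
  have h2 := card_lt_two_mul hG hH hL hL1
  obtain ⟨_, ⟨g, z, hz, rfl⟩, ⟨g', z', hz', e⟩⟩ : (orbit H L ∩ orbit M K).Nonempty := by
    by_contra hno
    rw [Set.not_nonempty_iff_eq_empty] at hno
    have h3 := Set.ncard_union_add_ncard_inter (orbit H L) (orbit M K) (Set.toFinite _) (Set.toFinite _)
    rw [hno, Set.ncard_empty, add_zero] at h3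
    have h4 : (orbit H L ∪ orbit M K).ncard ≤ Nat.card G :=
      (Set.ncard_le_ncard (Set.subset_univ _) (Set.toFinite _)).trans (Set.ncard_univ G).le
    omega
  obtain ⟨a, b, -, -, -, hb, hb1, -, -, hbz⟩ := Inter.exists_parts hG hH hL hz
  obtain ⟨t, ht, htd⟩ := Nat.exists_prime_and_dvd fun e2 => hb1 (orderOf_eq_one_iff.1 e2)
  haveI : Fact t.Prime := ⟨ht⟩
  have htH : t ∈ Cfsg.sigma H := Cosets.sigma_of_mem hG hH hb.1 ht htd
  have htz : t ∣ orderOf z' := by
    have h5 : orderOf (g * z * g⁻¹) = orderOf z :=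
      orderOf_injective (MulAut.conj g).toMonoidHom (MulEquiv.injective _) z
    have h6 : orderOf (g' * z' * g'⁻¹) = orderOf z' :=
      orderOf_injective (MulAut.conj g').toMonoidHom (MulEquiv.injective _) z'
    rw [← h6, ← e, h5]
    exact htd.trans (orderOf_dvd_of_mem_zpowers hbz)
  obtain ⟨a', b', e', ha', -, hb', -, hc', -, -⟩ := Inter.exists_parts hG hM hK hz'
  rw [e'] at htz
  rcases ht.dvd_mul.1 (htz.trans hc'.orderOf_mul_dvd_mul_orderOf) with h | h
  · have ha'' : a' ∈ Cfsg.sigmaCore Mstar := by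
      rw [hKst] at ha'; exact ha'.1
    obtain ⟨k, hk⟩ := exists_conj_of_sigma hG hMs hH (Cosets.sigma_of_mem hG hMs ha'' ht h) htH
    exact ⟨k, Or.inr hk⟩
  · obtain ⟨k, hk⟩ := exists_conj_of_sigma hG hM hH (Cosets.sigma_of_mem hG hM hb'.1 ht h) htH
    exact ⟨k, Or.inl hk⟩

end CfsgLib.CFun.Zhat
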