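import Cfsg.Agent.Lib.CFun.OddKappa

/-!
# The factorisation `M = K U M_σ`
-/

set_option autoImplicit false
set_option linter.style.haveILetI false
set_option linter.unusedSectionVars false

open Subgroup
open scoped commutatorElement
open CfsgLib.Coprime (conjBy conjBy_conjBy conjBy_one mem_conjBy conj_mem_conjBy IsSylowIn IsHallIn)

namespace CfsgLib.CFun.Decomp

open CfsgLib.CFun.TauTwo CfsgLib.CFun.TauOne CfsgLib.CFun.Disjoint CfsgLib.CFun.ElemCent
open CfsgLib.CFun.Lines CfsgLib.CFun.Kappa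

universe u

variable {G : Type u} [Group G] [Finite G]

/-- A group with a fixed-point-free operator of prime order is nilpotent. -/
theorem isNilpotent_of_fpf {p : ℕ} (hp : p.Prime) {V : Subgroup G} {a : G} (hap : a ^ p = 1)
    (haV : a ∈ normalizer (V : Set G)) (hfix : V ⊓ centralizer ({a} : Set G) = ⊥) :
    Group.IsNilpotent V := by
  let φ : V ≃* V :=
    { toFun := fun x => ⟨a * x * a⁻¹, (mem_normalizer_iff.1 haV x).1 x.2⟩
      invFun := fun x => ⟨a⁻¹ * x * a, (mem_normalizer_iff''.1 haV x).1 x.2⟩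
      left_inv := fun x => Subtype.ext (by group)
      right_inv := fun x => Subtype.ext (by group)
      map_mul' := fun x y => Subtype.ext (by push_cast; group) }
  have hiter : ∀ (j : ℕ) (x : V), ((φ^[j] x : V) : G) = a ^ j * x * (a ^ j)⁻¹ := by
    intro j
    induction j with
    | zero => simp
    | succ j ih =>
      intro x
      rw [Function.iterate_succ_apply']
      show a * ((φ^[j] x : V) : G) * a⁻¹ = _
      rw [ih, pow_succ']
      group
  refine CfsgLib.PGroup.isNilpotent_of_fixedPointFree hp V φ (fun x hx => ?_)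
    fun x => Subtype.ext (by rw [hiter, hap]; simp)
  have h1 : a * (x : G) * a⁻¹ = x := congrArg Subtype.val hx
  have h2 : (x : G) ∈ V ⊓ centralizer ({a} : Set G) :=
    mem_inf.2 ⟨x.2, mem_centralizer_singleton_iff.2 (mul_inv_eq_iff_eq_mul.1 h1).symm⟩
  rw [hfix, mem_bot] at h2
  exact Subtype.ext h2

variable (hG : Cfsg.IsMinSimpleOddOrder G) {M K U : Subgroup G} (hM : IsCoatom M)
include hG hM

/-- A Hall `κ(M)`-subgroup meets `M_σ` trivially. -/
theorem hall_inf (hK : Cfsg.IsPiHallOf (Cfsg.kappa M) K M) : K ⊓ Cfsg.sigmaCore M = ⊥ :=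
  inf_eq_bot_of_coprime (Nat.coprime_of_dvd fun t ht h1 h2 =>
    (hK.2.1 t ht h1).2.2.1 ((sigmaCore_hall hG hM).1.2.1 t ht h2))

/-- `K M_σ` has order `|K| |M_σ|`. -/
theorem card_sup (hK : Cfsg.IsPiHallOf (Cfsg.kappa M) K M) :
    Nat.card ↥(K ⊔ Cfsg.sigmaCore M) = Nat.card K * Nat.card (Cfsg.sigmaCore M) := by
  refine card_of_compl ⟨le_sup_left, le_sup_right, hall_inf hG hM hK, fun m hm => ?_⟩
  obtain ⟨s, hs, k, hk, rfl⟩ := CfsgLib.Coprime.mem_sup_exists
    (hK.1.trans (sigmaCore_normal hG M)) (sup_comm K (Cfsg.sigmaCore M) ▸ hm)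
  exact ⟨k, hk, k⁻¹ * s * k,
    (mem_normalizer_iff''.1 (sigmaCore_normal hG M (hK.1 hk)) s).1 hs, by group⟩

/-- Factorisations exist over every Hall `κ(M)`-subgroup. -/
theorem exists_decomp (hK : Cfsg.IsPiHallOf (Cfsg.kappa M) K M) :
    ∃ U : Subgroup G, Cfsg.IsSigmaDecomposition M K U := by
  obtain ⟨E, hE, hKE⟩ := exists_compl_over hG hM hK
  have hEM : E ≤ M := hE.1
  obtain ⟨U, hU, hdU⟩ := IsHallIn.exists_ge (π := (Cfsg.kappa M)ᶜ) (Compl.compl_solvable hG hM hE)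
    (commutator_le_self E) fun t ht htd hκ =>
      (kappa_tau1 hG hM hκ).2.2.2.1 (htd.trans (card_dvd_of_le (commutator_mono hEM hEM)))
  have hEU : E ≤ normalizer (U : Set G) := fun e he => by
    have h : ∀ e ∈ E, ∀ u ∈ U, e * u * e⁻¹ ∈ U := fun e he u hu => by
      rw [show e * u * e⁻¹ = ⁅e, u⁆ * u by rw [commutatorElement_def]; group]
      exact mul_mem (hdU (commutator_mem_commutator he (hU.1 hu))) hu
    refine mem_normalizer_iff.2 fun u => ⟨h e he u, fun hu => ?_⟩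
    have h1 := h e⁻¹ (inv_mem he) _ hu
    rwa [show e⁻¹ * (e * u * e⁻¹) * e⁻¹⁻¹ = u by group] at h1
  have hsup : E = U ⊔ K := by
    refine (eq_of_le_of_card_ge (sup_le hU.1 hKE) (Nat.le_of_dvd Nat.card_pos ?_)).symm
    have h1 : Nat.card E ∣ Nat.card ↥(U ⊔ K) * K.relIndex E := by
      rw [← CfsgLib.Coprime.card_mul_relIndex hKE]
      exact mul_dvd_mul_right (card_dvd_of_le le_sup_right) _
    have h2 : Nat.card E ∣ Nat.card ↥(U ⊔ K) * U.relIndex E := by
      rw [← CfsgLib.Coprime.card_mul_relIndex hU.1]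
      exact mul_dvd_mul_right (card_dvd_of_le le_sup_left) _
    have hcop : (K.relIndex E).Coprime (U.relIndex E) := Nat.coprime_of_dvd fun t ht h3 h4 =>
      hK.2.2 t ht (not_not.1 (hU.2.2 t ht h4))
        (h3.trans (Dvd.intro _ (relIndex_mul_relIndex K E M hKE hEM)))
    have h5 := Nat.dvd_gcd h1 h2
    rwa [Nat.gcd_mul_left, hcop, mul_one] at h5
  have hKσ : K ⊔ Cfsg.sigmaCore M ≤ M := sup_le hK.1 (map_subtype_le _)
  refine ⟨U, hall_cyclic hG hM hK, hK, ⟨hU.1.trans hEM, hKσ, inf_eq_bot_of_coprime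
    (Nat.coprime_of_dvd fun t ht h1 h2 => ?_), fun m hm => ?_⟩, hKE.trans hEU⟩
  · haveI : Fact t.Prime := ⟨ht⟩
    rw [card_sup hG hM hK] at h2
    rcases ht.dvd_mul.1 h2 with h3 | h3
    · exact hU.2.1 t ht h1 (hK.2.1 t ht h3)
    · exact Compl.compl_not_sigma hG hM hE (h1.trans (card_dvd_of_le hU.1))
        ((sigmaCore_hall hG hM).1.2.1 t ht h3)
  · obtain ⟨e, he, s, hs, rfl⟩ := hE.2.2.2 m hm
    rw [hsup, sup_comm] at he
    obtain ⟨k, hk, u, hu, rfl⟩ := CfsgLib.Coprime.mem_sup_exists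
      (H := K) (N := U) (hKE.trans hEU) (sup_comm K U ▸ he)
    exact ⟨k, hk, u * s, mul_mem (mem_sup_left hu) (mem_sup_right hs), by group⟩

variable (d : Cfsg.IsSigmaDecomposition M K U)
include d

/-- `|M| = |U| |K| |M_σ|`. -/
theorem card_eq : Nat.card M = Nat.card U * (Nat.card K * Nat.card (Cfsg.sigmaCore M)) := by
  rw [card_of_compl d.compl, card_sup hG hM d.hall]

/-- The index of `U` in `M`. -/
theorem relIndex_eq : U.relIndex M = Nat.card K * Nat.card (Cfsg.sigmaCore M) := by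
  have h1 := CfsgLib.Coprime.card_mul_relIndex d.compl.1
  rw [card_eq hG hM d] at h1
  exact Nat.eq_of_mul_eq_mul_left Nat.card_pos h1

/-- The primes of `U`. -/
theorem primes {t : ℕ} (ht : t.Prime) (htd : t ∣ Nat.card U) :
    t ∉ Cfsg.sigma M ∧ t ∉ Cfsg.kappa M := by
  refine ⟨fun hσ => (sigmaCore_hall hG hM).1.2.2 t ht hσ ?_, fun hκ => d.hall.2.2 t ht hκ ?_⟩
  · have hle : Cfsg.sigmaCore M ≤ M := map_subtype_le _
    have h1 := CfsgLib.Coprime.card_mul_relIndex hle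
    rw [card_eq hG hM d] at h1
    rw [Nat.eq_of_mul_eq_mul_left Nat.card_pos (h1.trans (show
      Nat.card U * (Nat.card K * Nat.card (Cfsg.sigmaCore M)) =
        Nat.card (Cfsg.sigmaCore M) * (Nat.card U * Nat.card K) by ring))]
    exact htd.mul_right _
  · have h1 := CfsgLib.Coprime.card_mul_relIndex d.hall.1
    rw [card_eq hG hM d] at h1
    rw [Nat.eq_of_mul_eq_mul_left Nat.card_pos (h1.trans (show
      Nat.card U * (Nat.card K * Nat.card (Cfsg.sigmaCore M)) =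
        Nat.card K * (Nat.card U * Nat.card (Cfsg.sigmaCore M)) by ring))]
    exact htd.mul_right _

/-- `U` is a Hall subgroup at the primes outside `κ(M) ∪ σ(M)`. -/
theorem hall_U :
    Cfsg.IsPiHallOf {q | q.Prime ∧ q ∉ Cfsg.kappa M ∧ q ∉ Cfsg.sigma M} U M := by
  refine ⟨d.compl.1, fun t ht htd => ⟨ht, (primes hG hM d ht htd).2, (primes hG hM d ht htd).1⟩,
    fun t ht htπ htd => ?_⟩
  rw [relIndex_eq hG hM d] at htd
  rcases ht.dvd_mul.1 htd with h | h
  · exact htπ.2.1 (d.hall.2.1 t ht h)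
  · exact htπ.2.2 ((sigmaCore_hall hG hM).1.2.1 t ht h)

/-- `K U` is a complement of `M_σ`. -/
theorem compl : Cfsg.IsComplIn (K ⊔ U) (Cfsg.sigmaCore M) M := by
  refine ⟨sup_le d.hall.1 d.compl.1, map_subtype_le _, inf_eq_bot_of_coprime
    (Nat.coprime_of_dvd fun t ht h1 h2 => ?_), fun m hm => ?_⟩
  · have h3 := (sigmaCore_hall hG hM).1.2.1 t ht h2
    rcases ht.dvd_mul.1 (h1.trans (CfsgLib.Coprime.card_sup_dvd_of_le_normalizer d.normal)) with h | h
    · exact (d.hall.2.1 t ht h).2.2.1 h3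
    · exact (primes hG hM d ht h).1 h3
  · obtain ⟨u, hu, b, hb, rfl⟩ := d.compl.2.2.2 m hm
    obtain ⟨s, hs, k, hk, rfl⟩ := CfsgLib.Coprime.mem_sup_exists
      (d.hall.1.trans (sigmaCore_normal hG M)) (sup_comm K (Cfsg.sigmaCore M) ▸ hb)
    exact ⟨u * k, mul_mem (mem_sup_right hu) (mem_sup_left hk), k⁻¹ * s * k,
      (mem_normalizer_iff''.1 (sigmaCore_normal hG M (d.hall.1 hk)) s).1 hs, by group⟩

/-- `K U` normalizes `U`. -/
theorem le_normalizer_U : K ⊔ U ≤ normalizer (U : Set G) := sup_le d.normal le_normalizer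

/-- `K` acts without fixed points on `U`. -/
theorem fpf {k : G} (hk : k ∈ K) (hk1 : k ≠ 1) : U ⊓ centralizer ({k} : Set G) = ⊥ := by
  by_contra hne
  obtain ⟨s, R, hs, hR, hRc⟩ := exists_prime_line hne
  haveI : Fact s.Prime := ⟨hs⟩
  obtain ⟨p, hp, hpd⟩ := Nat.exists_prime_and_dvd fun e => hk1 (orderOf_eq_one_iff.1 e)
  haveI : Fact p.Prime := ⟨hp⟩
  obtain ⟨P, hPk, hPc⟩ := exists_line_of_dvd (H := zpowers k) (t := p) (by rwa [Nat.card_zpowers])
  have hPK : P ≤ K := hPk.trans (zpowers_le.2 hk)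
  have hpκ := d.hall.2.1 p hp (hPc ▸ card_dvd_of_le hPK)
  obtain ⟨hsσ, hsκ⟩ := primes hG hM d hs (hRc ▸ card_dvd_of_le (hR.trans inf_le_left))
  refine hsκ (commute_kappa hG hM (kappa_tau1 hG hM hpκ) (hPK.trans d.hall.1) hPc
    (kappa_fixed hG hM hpκ (hPK.trans d.hall.1) hPc) ((hR.trans inf_le_left).trans d.compl.1) hRc
    ((hR.trans inf_le_right).trans ?_) hsσ)
  rw [← centralizer_zpowers]
  exact centralizer_le hPk

/-- `U` is abelian when `K ≠ 1`. -/
theorem isMulCommutative (hK1 : K ≠ ⊥) : IsMulCommutative U := by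
  obtain ⟨p, P, hp, hPK, hPc⟩ := exists_prime_line hK1
  haveI : Fact p.Prime := ⟨hp⟩
  obtain ⟨a, ha, ha1, hap, -⟩ := exists_gen hPc
  exact (Cfsg.Agent.S1420.result hG M hM (K ⊔ U) (compl hG hM d)).1 U d.compl.1
    (isNilpotent_of_fpf hp hap (d.normal (hPK ha)) (fpf hG hM d (hPK ha) ha1))
    fun t ht htd => (primes hG hM d ht htd).1

/-- Normalizers in `M` of lines of `K`. -/
theorem normalizer_line {p : ℕ} [hp : Fact p.Prime] {X : Subgroup G} (hXK : X ≤ K)
    (hXc : Nat.card X = p) :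
    M ⊓ normalizer (X : Set G) = K ⊔ (Cfsg.sigmaCore M ⊓ centralizer (K : Set G)) ∧
      M ⊓ normalizer (K : Set G) = K ⊔ (Cfsg.sigmaCore M ⊓ centralizer (K : Set G)) := by
  set Ks := Cfsg.sigmaCore M ⊓ centralizer (K : Set G) with hKs
  have hKc := hall_cyclic hG hM d.hall
  have hge : K ⊔ Ks ≤ M ⊓ normalizer (K : Set G) := le_inf
    (sup_le d.hall.1 (inf_le_left.trans (map_subtype_le _)))
    (sup_le le_normalizer (inf_le_right.trans (CfsgLib.Coprime.centralizer_le_normalizer_self _)))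
  have hXn : M ⊓ normalizer (K : Set G) ≤ M ⊓ normalizer (X : Set G) :=
    inf_le_inf_left _ (normalizer_le_normalizer_of_cyclic hKc hXK)
  obtain ⟨a, ha, ha1, hap, haX⟩ := exists_gen hXc
  suffices hle : M ⊓ normalizer (X : Set G) ≤ K ⊔ Ks from
    ⟨le_antisymm hle (hge.trans hXn), le_antisymm (hXn.trans hle) hge⟩
  intro m hm
  have hc := compl hG hM d
  obtain ⟨e, he, s, hs, rfl⟩ := hc.2.2.2 m hm.1
  -- `e` normalizes `X`
  have haE : a ∈ K ⊔ U := mem_sup_left (hXK ha)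
  have hmX : e * s * a * (e * s)⁻¹ ∈ X := (mem_normalizer_iff.1 hm.2 a).1 ha
  have hsaσ : s * a * s⁻¹ * a⁻¹ ∈ Cfsg.sigmaCore M := by
    rw [mul_assoc s a, mul_assoc s]
    exact mul_mem hs ((mem_normalizer_iff.1 (sigmaCore_normal hG M (hc.1 haE)) _).1 (inv_mem hs))
  have h1 : s * a * s⁻¹ = a := by
    have h2 : s * a * s⁻¹ * a⁻¹ ∈ (K ⊔ U) ⊓ Cfsg.sigmaCore M := by
      refine mem_inf.2 ⟨?_, hsaσ⟩
      rw [show s * a * s⁻¹ * a⁻¹ = e⁻¹ * (e * s * a * (e * s)⁻¹) * e * a⁻¹ by group]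
      exact mul_mem (mul_mem (mul_mem (inv_mem he) (mem_sup_left (hXK hmX))) he) (inv_mem haE)
    rw [hc.2.2.1, mem_bot, mul_inv_eq_one] at h2
    exact h2
  have heX : e * a * e⁻¹ ∈ X := by
    rwa [show e * s * a * (e * s)⁻¹ = e * (s * a * s⁻¹) * e⁻¹ by group, h1] at hmX
  have hsK : s ∈ Ks := by
    rw [hKs, ← fixed_eq hG hM d.hall (hXK ha) ha1]
    exact mem_inf.2 ⟨hs, mem_centralizer_singleton_iff.2 (mul_inv_eq_iff_eq_mul.1 h1)⟩
  refine mul_mem (mem_sup_left ?_) (mem_sup_right hsK)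
  obtain ⟨u, hu, k, hk, rfl⟩ := CfsgLib.Coprime.mem_sup_exists d.normal (sup_comm K U ▸ he)
  have hka : k * a * k⁻¹ = a := by rw [hall_commute hG hM d.hall hk (hXK ha), mul_inv_cancel_right]
  have hua : u * a * u⁻¹ * a⁻¹ ∈ U ⊓ K := by
    refine mem_inf.2 ⟨?_, mul_mem ?_ (inv_mem (hXK ha))⟩
    · rw [mul_assoc u a, mul_assoc u]
      exact mul_mem hu ((mem_normalizer_iff.1 (d.normal (hXK ha)) _).1 (inv_mem hu))
    · rw [show u * a * u⁻¹ = u * (k * a * k⁻¹) * u⁻¹ by rw [hka],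
        show u * (k * a * k⁻¹) * u⁻¹ = u * k * a * (u * k)⁻¹ by group]
      exact hXK heX
  have hUK : U ⊓ K = ⊥ := le_bot_iff.1 ((inf_le_inf_left _ le_sup_left).trans d.compl.2.2.1.le)
  rw [hUK, mem_bot, mul_inv_eq_one] at hua
  have hu1 : u ∈ U ⊓ centralizer ({a} : Set G) :=
    mem_inf.2 ⟨hu, mem_centralizer_singleton_iff.2 (mul_inv_eq_iff_eq_mul.1 hua)⟩
  rw [fpf hG hM d (hXK ha) ha1, mem_bot] at hu1
  rw [hu1, one_mul]
  exact hk

/-- Centralizers in `M` of elements of `K`. -/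
theorem centralizer_eq {k : G} (hk : k ∈ K) (hk1 : k ≠ 1) :
    M ⊓ centralizer ({k} : Set G) = K ⊔ (Cfsg.sigmaCore M ⊓ centralizer (K : Set G)) := by
  obtain ⟨p, hp, hpd⟩ := Nat.exists_prime_and_dvd fun e => hk1 (orderOf_eq_one_iff.1 e)
  haveI : Fact p.Prime := ⟨hp⟩
  obtain ⟨X, hXk, hXc⟩ := exists_line_of_dvd (H := zpowers k) (t := p) (by rwa [Nat.card_zpowers])
  refine le_antisymm (le_trans (inf_le_inf_left _ ?_)
    (normalizer_line hG hM d (hXk.trans (zpowers_le.2 hk)) hXc).1.le) (sup_le (le_inf d.hall.1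
      fun x hx => mem_centralizer_singleton_iff.2 (hall_commute hG hM d.hall hx hk))
    (le_inf (inf_le_left.trans (map_subtype_le _)) ((inf_le_right.trans
      (centralizer_le (Set.singleton_subset_iff.2 hk))))))
  rw [← centralizer_zpowers]
  exact (centralizer_le hXk).trans (CfsgLib.Coprime.centralizer_le_normalizer_self _)

/-- A maximal subgroup over the normalizer of a line of `K` has the line in its `σ`-core. -/
theorem line_le_sigmaCore {p : ℕ} [hp : Fact p.Prime] {X : Subgroup G} (hXK : X ≤ K)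
    (hXc : Nat.card X = p) {N : Subgroup G} (hN : IsCoatom N)
    (hNX : normalizer (X : Set G) ≤ N) :
    p ∈ Cfsg.sigma N ∧ X ≤ Cfsg.sigmaCore N ∧ NotConj M N := by
  have hpκ := d.hall.2.1 p hp.out (hXc ▸ card_dvd_of_le hXK)
  obtain ⟨hpσ, -, -, hr1⟩ := (kappa_tau1 hG hM hpκ).2
  obtain ⟨q, Y, hq, hY, hYc⟩ := exists_prime_line (kappa_fixed hG hM hpκ (hXK.trans d.hall.1) hXc)
  haveI : Fact q.Prime := ⟨hq⟩
  have h := normalizer_sigma_of_fixed hG hM hpσ hr1 (hXK.trans d.hall.1) hXc hYc hY hN hNX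
  exact ⟨h, isPGroup_le_sigmaCore hG hN h (IsPGroup.of_card (n := 1) (by rw [hXc, pow_one]))
    (le_normalizer.trans hNX), rank_one_not_conj hG hM hpσ hr1 hXc hNX⟩

end CfsgLib.CFun.Decomp
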