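import Cfsg.Agent.Lib.CFun.OddTauTwoStructure
import Cfsg.Agent.S1418
import Cfsg.Agent.Lib.Coprime.Fitting

/-!
# Primes of `τ₂(M)` with nonabelian Sylow subgroups
-/

set_option autoImplicit false
set_option linter.style.haveILetI false
set_option linter.unusedSectionVars false

open Subgroup
open scoped commutatorElement
open CfsgLib.Coprime (conjBy conjBy_conjBy conjBy_one mem_conjBy conj_mem_conjBy IsSylowIn)

namespace CfsgLib.CFun.TauTwo

universe u

variable {G : Type u} [Group G] [Finite G] {p q : ℕ} [hp : Fact p.Prime] [hq : Fact q.Prime]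

omit hp hq in
theorem card_sylow_eq {r : ℕ} [Fact r.Prime] (S T : Sylow r G) :
    Nat.card ↥(S : Subgroup G) = Nat.card ↥(T : Subgroup G) :=
  Nat.card_congr (S.equiv T).toEquiv

/-- In a Sylow subgroup the `p`-th powers of elements of order at most `p ^ 2` centralizing `A` are
central. -/
theorem pow_central_of_centralizes (hG : Cfsg.IsMinSimpleOddOrder G) {A : Subgroup G}
    (hAe : Cfsg.IsElementaryAbelian p A) (hA2 : Nat.card A = p ^ 2)
    (hAmax : ∀ B : Subgroup G, Cfsg.IsElementaryAbelian p B → A ≤ B → B = A)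
    (S : Sylow p G) (hAS : A ≤ (S : Subgroup G)) {x : G} (hxS : x ∈ (S : Subgroup G))
    (hxA : x ∈ centralizer (A : Set G)) (hx : x ^ p ^ 2 = 1) :
    ∀ y ∈ (S : Subgroup G), Commute (x ^ p) y := by
  intro y hy
  have hp2 : p ≠ 2 := ms_ne_two hG (dvd_card hG hAe hA2)
  by_cases hr : Cfsg.PRankLE p 2 ↥(S : Subgroup G)
  · rcases Cfsg.Agent.S1412.result hG p S hr with h | ⟨P₁, P₂, hsup, hcomm, -, -, hexp, hP₂, -⟩
    · exact (congrArg Subtype.val (h.is_comm.comm
        (⟨x ^ p, pow_mem hxS p⟩ : (S : Subgroup G)) ⟨y, hy⟩) :)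
    haveI := hP₂
    have hP₁₂ : P₂ ≤ normalizer (P₁ : Set G) := fun b hb =>
      CfsgLib.Coprime.centralizer_le_normalizer_self P₁
        (mem_centralizer_iff.2 fun a ha => hcomm a ha b hb)
    obtain ⟨a, ha, b, hb, rfl⟩ := CfsgLib.Coprime.mem_sup_exists hP₁₂ (hsup.ge hxS)
    obtain ⟨a', ha', b', hb', rfl⟩ := CfsgLib.Coprime.mem_sup_exists hP₁₂ (hsup.ge hy)
    have hap : a ^ p = 1 := by
      rw [← hexp]; exact (congrArg Subtype.val (Monoid.pow_exponent_eq_one (⟨a, ha⟩ : P₁)) :)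
    rw [(show Commute a b from hcomm a ha b hb).mul_pow, hap, one_mul]
    exact (((show Commute a' b from hcomm a' ha' b hb).symm).mul_right
      (congrArg Subtype.val (IsMulCommutative.is_comm.comm (⟨b, hb⟩ : P₂) ⟨b', hb'⟩) :)).pow_left p
  set R := ↥(S : Subgroup G)
  set E : Subgroup R := A.subgroupOf (S : Subgroup G) with hEdef
  have hE : Cfsg.IsElementaryAbelian p E := ⟨⟨⟨fun a b => Subtype.ext (Subtype.ext
    (commute_of_mem hAe a.2 b.2).eq)⟩⟩, fun x hx => Subtype.ext (hAe.2 _ hx)⟩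
  have hE2 : Nat.card E = p ^ 2 := by
    rw [Nat.card_congr (subgroupOfEquivOfLe hAS).toEquiv, hA2]
  have hEmax : ∀ B : Subgroup R, Cfsg.IsElementaryAbelian p B → E ≤ B → B = E := by
    intro B hB hEB
    haveI := hB.1
    have h1 : B.map (S : Subgroup G).subtype = A := hAmax _
      ⟨inferInstance, by rintro _ ⟨b, hb, rfl⟩; rw [← map_pow, hB.2 b hb, map_one]⟩
      fun a ha => ⟨⟨a, hAS ha⟩, hEB ha, rfl⟩
    exact le_antisymm (fun b hb => h1.le (mem_map_of_mem _ hb)) hEB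
  obtain ⟨e, heE, -, -, hthin⟩ := Narrow.exists_thin hp2 S.2 hr hE hE2 hEmax
  obtain ⟨-, -, -, hidx, -⟩ := Narrow.maximal_two hp2 S.2 hr hE hE2 hEmax
  set T : Subgroup R := centralizer (Narrow.omegaSecond p R : Set R) with hT
  haveI : T.Characteristic :=
    Narrow.centralizer_characteristic Narrow.omegaSecond_characteristic
  haveI : T.Normal := inferInstance
  have hmem : (⟨x, hxS⟩ : R) ^ p ∈ T := by
    have h := Subgroup.pow_index_mem T (⟨x, hxS⟩ : R)
    rwa [hidx] at h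
  have hc : Commute ((⟨x, hxS⟩ : R) ^ p) e :=
    (show Commute (⟨x, hxS⟩ : R) e from
      Subtype.ext (mem_centralizer_iff.1 hxA _ heE).symm).pow_left p
  have h1 := Narrow.pow_of_mem_omegaCenter (hthin _ hmem hc (by
    rw [← pow_mul, ← sq]; exact Subtype.ext hx))
  exact (congrArg Subtype.val (mem_center_iff.1 h1.1 ⟨y, hy⟩).symm :)

section MinSimple

variable (hG : Cfsg.IsMinSimpleOddOrder G) {M L : Subgroup G}
include hG

omit hp hq in
/-- Commuting Sylow subgroups at two primes of `σ(L)` outside `β(L)`. -/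
theorem exists_commuting_sylow {p q : ℕ} [Fact p.Prime] [Fact q.Prime] (hL : IsCoatom L)
    (hpσ : p ∈ Cfsg.sigma L) (hpβ : p ∉ Cfsg.beta L) (hqσ : q ∈ Cfsg.sigma L)
    (hqβ : q ∉ Cfsg.beta L) (hpq : p ≠ q) (S : Sylow p G) (hSL : (S : Subgroup G) ≤ L) :
    ∃ R : Sylow q G, (R : Subgroup G) ≤ L ∧
      (S : Subgroup G) ≤ centralizer ((R : Subgroup G) : Set G) := by
  obtain ⟨H, hH, hHn⟩ := (Cfsg.Agent.S1414.result hG L hL).2.2.2.1
  haveI := hHn
  obtain ⟨P₀⟩ := (inferInstance : Nonempty (Sylow p H))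
  obtain ⟨Q₀⟩ := (inferInstance : Nonempty (Sylow q H))
  have h1 : IsSylowIn p ((P₀ : Subgroup H).map H.subtype) (Cfsg.sigmaCore L) :=
    isSylowIn_of_relIndex (CfsgLib.Coprime.isSylowIn_map P₀) hH.1 (hH.2.2 p Fact.out ⟨Fact.out, hpβ⟩)
  have h2 : IsSylowIn q ((Q₀ : Subgroup H).map H.subtype) (Cfsg.sigmaCore L) :=
    isSylowIn_of_relIndex (CfsgLib.Coprime.isSylowIn_map Q₀) hH.1 (hH.2.2 q Fact.out ⟨Fact.out, hqβ⟩)
  obtain ⟨S₁, hS₁⟩ := sylow_of_hall (sigmaCore_hall hG hL).2 hpσ h1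
  obtain ⟨R₁, hR₁⟩ := sylow_of_hall (sigmaCore_hall hG hL).2 hqσ h2
  rw [← hS₁] at h1
  have hS : IsSylowIn p (S : Subgroup G) (Cfsg.sigmaCore L) :=
    ⟨isPGroup_le_sigmaCore hG hL hpσ S.2 hSL, (card_sylow_eq S S₁).trans h1.2⟩
  obtain ⟨k, hk, hkS⟩ := h1.exists_conj hS
  have hkL : k ∈ L := map_subtype_le _ hk
  refine ⟨k • R₁, ?_, ?_⟩
  · show conjBy k (R₁ : Subgroup G) ≤ L
    exact conjBy_le_of_mem hkL (hR₁.le.trans ((map_subtype_le _).trans (hH.1.trans (map_subtype_le _))))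
  · intro s hs
    rw [← hkS] at hs
    obtain ⟨s₀, hs₀, rfl⟩ := hs
    refine mem_centralizer_iff.2 fun r hr => ?_
    obtain ⟨r₀, hr₀, rfl⟩ := hr
    show MulAut.conj k r₀ * MulAut.conj k s₀ = MulAut.conj k s₀ * MulAut.conj k r₀
    rw [← map_mul, ← map_mul]
    congr 1
    obtain ⟨a, ha, rfl⟩ := hS₁.le hs₀
    obtain ⟨b, hb, rfl⟩ := hR₁.le hr₀
    obtain ⟨i, hi⟩ := P₀.2 ⟨a, ha⟩
    obtain ⟨j, hj⟩ := Q₀.2 ⟨b, hb⟩
    rw [← map_mul, ← map_mul]
    exact congrArg H.subtype (RankTwoTower.commute_of_coprime hpq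
      ⟨i, congrArg Subtype.val hi⟩ ⟨j, congrArg Subtype.val hj⟩).eq.symm

variable {A : Subgroup G} (hM : IsCoatom M) (hpt : p ∈ Cfsg.tau2 M) (hAM : A ≤ M)
  (hAe : Cfsg.IsElementaryAbelian p A) (hA2 : Nat.card A = p ^ 2)
include hM hpt hAM hAe hA2

omit hq in
/-- `p`-subgroups of `M` normalizing `A` centralize it. -/
theorem tau_le_centralizer {U : Subgroup G} (hU : IsPGroup p U) (hUM : U ≤ M)
    (hUA : U ≤ normalizer (A : Set G)) : U ≤ centralizer (A : Set G) := by
  have hUM' : A ⊔ U ≤ M := sup_le hAM hUM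
  have hUp : IsPGroup p ↥(A ⊔ U) := by
    obtain ⟨i, hi⟩ := IsPGroup.iff_card.1 (isPGroup_of_elementary hAe)
    obtain ⟨j, hj⟩ := IsPGroup.iff_card.1 hU
    have hd : Nat.card ↥(A ⊔ U) ∣ p ^ (j + i) := by
      rw [pow_add, ← hi, ← hj, sup_comm]
      exact CfsgLib.Coprime.card_sup_dvd_of_le_normalizer hUA
    obtain ⟨k, -, hk⟩ := (Nat.dvd_prime_pow hp.out).1 hd
    exact IsPGroup.of_card hk
  obtain ⟨P, hP⟩ := (hUp.of_equiv (subgroupOfEquivOfLe hUM').symm).exists_le_sylow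
  obtain ⟨-, hTC, -, -⟩ := tau_sylow_abelian hG hM hpt hAM hAe hA2 (P.2.map M.subtype)
    (map_subtype_le _) (fun a ha => ⟨⟨a, hAM ha⟩, hP (mem_sup_left ha), rfl⟩)
    fun V hV hVM hle => sylow_map_max P hV hVM hle
  exact fun x hx => hTC ⟨⟨x, hUM hx⟩, hP (mem_sup_right hx), rfl⟩

omit hq in
theorem tau_not_beta : p ∉ Cfsg.beta L := fun h => by
  obtain ⟨S, hAS⟩ := (isPGroup_of_elementary hAe).exists_le_sylow
  obtain ⟨B, -, hB, hAB⟩ := h.2.2.2 S A hAS hAe hA2
  exact hAB.ne (tau_max hG hM hpt hAM hAe hA2 hB hAB.le).symm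

variable (hS : ∀ S : Sylow p G, ¬ IsMulCommutative (S : Subgroup G))
include hS

omit hq in
theorem nonab_not_le (S : Sylow p G) (hAS : A ≤ (S : Subgroup G)) :
    ¬ (S : Subgroup G) ≤ M ∧ ¬ (S : Subgroup G) ≤ centralizer (A : Set G) := by
  have hAmax : ∀ B : Subgroup G, Cfsg.IsElementaryAbelian p B → A ≤ B → B = A :=
    fun B => tau_max hG hM hpt hAM hAe hA2
  have h2 : ¬ (S : Subgroup G) ≤ centralizer (A : Set G) := fun h => hS S (by
    have h1 := isMulCommutative_inf_centralizer hG hAe hA2 hAmax S hAS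
    rw [inf_eq_left.2 h] at h1
    exact h1)
  refine ⟨fun hSM => ?_, h2⟩
  exact hS S (tau_sylow_abelian hG hM hpt hAM hAe hA2 S.2 hSM hAS
    fun U hU _ hle => S.3 hU hle).1

omit hq in
/-- The central line of a Sylow subgroup over `A`. -/
theorem nonab_center_line (S : Sylow p G) (hAS : A ≤ (S : Subgroup G)) :
    centerSocle (S : Subgroup G) p ≤ A ∧ Nat.card (centerSocle (S : Subgroup G) p) = p ∧
      ¬ centralizer ((centerSocle (S : Subgroup G) p : Subgroup G) : Set G) ≤ M := by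
  obtain ⟨hSM, hSC⟩ := nonab_not_le hG hM hpt hAM hAe hA2 hS S hAS
  have hle : centerSocle (S : Subgroup G) p ≤ A := fun z hz => mem_of_pow hAe hA2
    (fun _ => tau_max hG hM hpt hAM hAe hA2) hz.2.1
    (mem_centralizer_iff.2 fun a ha => (hz.2.2 a (hAS ha)).symm.eq)
  refine ⟨hle, ?_, fun h => hSM (le_trans ?_ h)⟩
  · obtain ⟨z, ⟨-, hz⟩, hz1⟩ := centerSocle_ne_bot (q := p) S.2 le_rfl le_normalizer
      (fun e => hSC (e ▸ bot_le))
    rcases card_pSq_cases hA2 hle with h | h | h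
    · exact absurd (mem_bot.1 (h.le hz)) hz1
    · exact h
    · exact absurd (fun s hs => mem_centralizer_iff.2 fun a ha => ((h.ge ha).2.2 s hs).eq) hSC
  · exact fun s hs => mem_centralizer_iff.2 fun z hz => (hz.2.2 s hs).eq

omit hq in
/-- All lines but one have no fixed points on `M_σ`. -/
theorem nonab_lines : ∃ A₀ : Subgroup G, A₀ ≤ A ∧ Nat.card A₀ = p ∧
    Cfsg.sigmaCore M ≤ centralizer (A₀ : Set G) ∧
      A ⊓ centralizer (Cfsg.sigmaCore M : Set G) = A₀ ∧
      ∀ X : Subgroup G, X ≤ A → Nat.card X = p → X ≠ A₀ →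
        Cfsg.sigmaCore M ⊓ centralizer (X : Set G) = ⊥ ∧ ¬ centralizer (X : Set G) ≤ M := by
  have hAmax : ∀ B : Subgroup G, Cfsg.IsElementaryAbelian p B → A ≤ B → B = A :=
    fun B => tau_max hG hM hpt hAM hAe hA2
  obtain ⟨A₀, hA₀, hA₀c, hNA₀, -⟩ := tau_line hG hM hpt hAM hAe hA2
  obtain ⟨S, hAS⟩ := (isPGroup_of_elementary hAe).exists_le_sylow
  obtain ⟨hSM, hSC⟩ := nonab_not_le hG hM hpt hAM hAe hA2 hS S hAS
  obtain ⟨hZA, hZc, hCZ⟩ := nonab_center_line hG hM hpt hAM hAe hA2 hS S hAS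
  set Z₀ := centerSocle (S : Subgroup G) p with hZ₀
  have hA₀ne : A₀ ≠ Z₀ := fun e => hCZ (e ▸
    (CfsgLib.Coprime.centralizer_le_normalizer_self A₀).trans hNA₀)
  obtain ⟨g, hg, hgn, hgC⟩ := CfsgLib.Coprime.ControlLift.exists_normalizer_not_mem S.2
    (inf_le_left : (S : Subgroup G) ⊓ centralizer (A : Set G) ≤ S) (fun h => hSC (h.trans inf_le_right))
  have hgA : g ∈ normalizer (A : Set G) := by
    refine CfsgLib.Coprime.conjBy_eq_self_iff.1 (eq_of_le_of_card_ge ?_
      (CfsgLib.Coprime.card_conjBy g A).ge)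
    rintro _ ⟨a, ha, rfl⟩
    exact mem_of_pow hAe hA2 hAmax (by rw [← map_pow, hAe.2 a ha, map_one])
      ((mem_normalizer_iff.1 hgn a).1 ⟨hAS ha, le_centralizer_of_comm hAe.1 ha⟩).2
  have hK1 : Cfsg.sigmaCore M ≠ ⊥ := sigmaCore_ne_bot hG hM
  -- every other line is a conjugate of `A₀` outside `M`
  have hconj : ∀ X : Subgroup G, X ≤ A → Nat.card X = p → X ≠ A₀ → X ≠ Z₀ →
      ∃ h : G, h ∈ normalizer (A : Set G) ∧ h ∉ M ∧ conjBy h A₀ = X := by
    intro X hX hXc hne hneZ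
    obtain ⟨i, hi⟩ := conj_lines hAe hA2 S.2 hAS hg hgA (fun h => hgC ⟨hg, h⟩)
      (mem_centralizer_iff.2 fun y hy => (hy.2.2 g hg).eq) hZA hZc hA₀ hA₀c hA₀ne hX hXc hneZ
    refine ⟨g ^ i, zpow_mem hgA i, fun hM' => hne ?_, hi⟩
    have hC : g ^ i ∈ centralizer (A : Set G) :=
      tau_le_centralizer hG hM hpt hAM hAe hA2 (S.2.to_le (zpowers_le.2 (zpow_mem hg i)))
        (zpowers_le.2 hM') (zpowers_le.2 (zpow_mem hgA i)) (mem_zpowers _)
    rw [← hi]
    exact CfsgLib.Coprime.conjBy_eq_self_iff.2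
      (CfsgLib.Coprime.centralizer_le_normalizer_self A₀ (centralizer_le hA₀ hC))
  have hfree : ∀ X : Subgroup G, X ≤ A → Nat.card X = p → X ≠ A₀ →
      Cfsg.sigmaCore M ⊓ centralizer (X : Set G) = ⊥ := by
    intro X hX hXc hne
    by_contra hne'
    have hall : centralizer (X : Set G) ≤ M := by
      by_contra hno
      obtain ⟨L, hL, hCL⟩ := (eq_top_or_exists_le_coatom (centralizer (X : Set G))).resolve_left
        (fun e => ms_normalizer_ne_top hG (line_ne_bot hXc)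
          (ms_isPGroup_ne_top hG (IsPGroup.of_card (hXc.trans (pow_one p).symm)))
          (top_le_iff.1 (e ▸ CfsgLib.Coprime.centralizer_le_normalizer_self X)))
      have hLM : L ≠ M := fun e => hno (e ▸ hCL)
      exact hne' (le_bot_iff.1 ((inf_le_inf_left _ hCL).trans
        (tau_inf_eq_bot hG hM hpt hAM hAe hA2 hL hLM ((le_centralizer_line hAe hX).trans hCL)).le))
    by_cases hXZ : X = Z₀
    · exact hCZ (hXZ ▸ hall)
    obtain ⟨h, hhA, hhM, hh⟩ := hconj X hX hXc hne hXZ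
    have hL : conjBy h M ≠ M := fun e => hhM (by
      rw [← ms_normalizer_self hG hM]; exact CfsgLib.Coprime.conjBy_eq_self_iff.1 e)
    have hAL : A ≤ conjBy h M := by
      rw [← CfsgLib.Coprime.conjBy_eq_self_iff.2 hhA]; exact map_mono hAM
    refine hne' (le_bot_iff.1 (le_trans (inf_le_inf_left _ ?_)
      (tau_inf_eq_bot hG hM hpt hAM hAe hA2 (isCoatom_conjBy h hM) hL hAL).le))
    rw [← hh]
    exact (CfsgLib.Coprime.centralizer_le_normalizer_self _).trans
      ((normalizer_conjBy h A₀).le.trans (map_mono hNA₀))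
  have hKA₀ : Cfsg.sigmaCore M ≤ centralizer (A₀ : Set G) := by
    refine le_of_lines hAe hA2 (hAM.trans (sigmaCore_normal hG M)) (by
      rw [hA2]; exact (hp.out.coprime_iff_not_dvd.2 (not_dvd_sigmaCore hG hM hpt.2.1)).pow_left 2)
      fun B hB hBc => ?_
    rcases eq_or_ne B A₀ with rfl | hne
    · exact inf_le_right
    · rw [hfree B hB hBc hne]; exact bot_le
  have heq : A ⊓ centralizer (Cfsg.sigmaCore M : Set G) = A₀ := by
    have hle : A₀ ≤ A ⊓ centralizer (Cfsg.sigmaCore M : Set G) :=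
      le_inf hA₀ (le_centralizer_iff.1 hKA₀)
    rcases card_pSq_cases hA2 (inf_le_left : A ⊓ centralizer (Cfsg.sigmaCore M : Set G) ≤ A) with
      h | h | h
    · exact absurd (le_bot_iff.1 (hle.trans h.le)) (line_ne_bot hA₀c)
    · exact (eq_of_le_of_card_ge hle (by rw [h, hA₀c])).symm
    · exfalso
      refine hK1 (le_bot_iff.1 (le_trans (le_inf le_rfl ?_) (tau_fixed_eq_bot hG hM hpt hAM hAe hA2).le))
      exact le_centralizer_iff.1 (h.ge.trans inf_le_right)
  refine ⟨A₀, hA₀, hA₀c, hKA₀, heq, fun X hX hXc hne => ⟨hfree X hX hXc hne, fun hCX => ?_⟩⟩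
  by_cases hXZ : X = Z₀
  · exact hCZ (hXZ ▸ hCX)
  obtain ⟨h, hhA, hhM, hh⟩ := hconj X hX hXc hne hXZ
  have hL : conjBy h⁻¹ M ≠ M := fun e => hhM (by
    rw [← ms_normalizer_self hG hM, ← inv_inv h]
    exact inv_mem (CfsgLib.Coprime.conjBy_eq_self_iff.1 e))
  have hAL : A ≤ conjBy h⁻¹ M := by
    rw [← CfsgLib.Coprime.conjBy_eq_self_iff.2 (inv_mem hhA)]; exact map_mono hAM
  refine hK1 (le_bot_iff.1 (le_trans (le_inf le_rfl ?_)
    (tau_inf_eq_bot hG hM hpt hAM hAe hA2 (isCoatom_conjBy h⁻¹ hM) hL hAL).le))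
  intro k hk
  rw [mem_conjBy, inv_inv]
  refine hCX (mem_centralizer_iff.2 fun x hx => ?_)
  rw [← hh] at hx
  obtain ⟨a, ha, rfl⟩ := hx
  show (MulAut.conj h a) * (MulAut.conj h k) = MulAut.conj h k * MulAut.conj h a
  rw [← map_mul, ← map_mul, show a * k = k * a from mem_centralizer_iff.1 (hKA₀ hk) a ha]

/-- With nonabelian Sylow subgroups `p` is alone in `τ₂(M)`. -/
theorem nonab_tau_eq (hqt : q ∈ Cfsg.tau2 M) {B : Subgroup G} (hBM : B ≤ M)
    (hBe : Cfsg.IsElementaryAbelian q B) (hB2 : Nat.card B = q ^ 2)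
    (hBA : B ≤ centralizer (A : Set G)) : q = p := by
  by_contra hqp
  have hB1 : B ≠ ⊥ := fun e => by
    rw [e, card_bot] at hB2; exact (Nat.one_lt_pow two_ne_zero hq.out.one_lt).ne hB2
  obtain ⟨L, hL, hNB⟩ := (eq_top_or_exists_le_coatom _).resolve_left
    (ms_normalizer_ne_top hG hB1 (ms_isPGroup_ne_top hG (isPGroup_of_elementary hBe)))
  have hqL := tau_sigma_of_normalizer hG hM hqt hBM hBe hB2 hL hNB
  have hAL : A ≤ L := (le_centralizer_iff.1 hBA).trans
    ((CfsgLib.Coprime.centralizer_le_normalizer_self B).trans hNB)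
  have hBL : B ≤ L := le_normalizer.trans hNB
  have hAmax : ∀ B : Subgroup G, Cfsg.IsElementaryAbelian p B → A ≤ B → B = A :=
    fun B => tau_max hG hM hpt hAM hAe hA2
  have hpL : p ∈ Cfsg.sigma L := mem_sigma_of_fixed hG hAe hA2 hAmax hL hAL hqL
    ((mem_of_isPGroup (isPGroup_of_elementary hBe) hB1 le_rfl).trans (card_dvd_of_le
      (le_inf (isPGroup_le_sigmaCore hG hL hqL (isPGroup_of_elementary hBe) hBL) hBA)))
    (Or.inl (Cfsg.Agent.S1416.result hG L hL p A ⟨hAL, hAe, hA2⟩).1)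
  obtain ⟨S, hAS, hSL⟩ := exists_sylow_of_sigma hG hL hpL (isPGroup_of_elementary hAe) hAL
  obtain ⟨R, hRL, hSR⟩ := exists_commuting_sylow hG hL hpL (tau_not_beta hG hM hpt hAM hAe hA2) hqL
    (tau_not_beta hG hM hqt hBM hBe hB2) (Ne.symm hqp) S hSL
  have hRM : (R : Subgroup G) ≤ M := (le_centralizer_iff.1 (hAS.trans hSR)).trans
    (tau_centralizer_le hG hM hpt hAM hAe hA2)
  -- an elementary subgroup of `R`
  have hRc : ¬ IsCyclic ↥(R : Subgroup G) := fun hc => by
    obtain ⟨g, hg⟩ := (isPGroup_of_elementary hBe).exists_le_sylow.imp fun T hT => hT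
    haveI := hc
    haveI : IsCyclic ↥(g : Subgroup G) :=
      isCyclic_of_injective (g.equiv R).toMonoidHom (MulEquiv.injective _)
    exact not_isCyclic_of_elementary hBe hB2.ge
      (isCyclic_of_injective (inclusion hg) (inclusion_injective hg))
  obtain ⟨F, hFR, -, hFe, hF2⟩ := exists_normal_elementary_two
    (ms_ne_two hG (dvd_card hG hBe hB2)) R.2 hRc
  exact (nonab_not_le hG hM hpt hAM hAe hA2 hS S hAS).1
    ((hSR.trans (centralizer_le hFR)).trans
      (tau_centralizer_le hG hM hqt (hFR.trans hRM) hFe hF2))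

/-- The `q`-cores of `M` for `q ∉ σ(M)`, `q ≠ p`, are trivial. -/
theorem nonab_core_eq_bot (hqσ : q ∉ Cfsg.sigma M) (hqp : q ≠ p) : core M q = ⊥ := by
  by_contra hne
  set Q := core M q with hQ
  have hQM : Q ≤ M := core_le
  have hQq : IsPGroup q Q := isPGroup_core
  have hNQ : normalizer (Q : Set G) = M := ms_normalizer_eq hG hM hQM hne le_normalizer_core
  have hQA : Q ≤ centralizer (A : Set G) := tau_centralizes_not_sigma hG hM hpt hAM hAe hA2 hqσ hqp
    hQq hQM (hAM.trans le_normalizer_core)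
  obtain ⟨L, hL, hNA⟩ := (eq_top_or_exists_le_coatom _).resolve_left
    (ms_normalizer_ne_top hG (fun e => by
      rw [e, card_bot] at hA2; exact (Nat.one_lt_pow two_ne_zero hp.out.one_lt).ne hA2)
      (ms_isPGroup_ne_top hG (isPGroup_of_elementary hAe)))
  have hpL := tau_sigma_of_normalizer hG hM hpt hAM hAe hA2 hL hNA
  have hAL : A ≤ L := le_normalizer.trans hNA
  have hQL : Q ≤ L :=
    (hQA.trans (CfsgLib.Coprime.centralizer_le_normalizer_self A)).trans hNA
  have hLM : L ≠ M := fun e => tau_not_normalizer_le hG hM hpt hAM hAe hA2 (e ▸ hNA)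
  obtain ⟨S, hAS, hSQ⟩ : ∃ S : Sylow p G, A ≤ (S : Subgroup G) ∧
      (S : Subgroup G) ≤ normalizer (Q : Set G) := by
    by_cases hqL : q ∈ Cfsg.sigma L
    · have hqb : q ∉ Cfsg.beta L := fun hb => by
        obtain ⟨k, hk⟩ := IsPGroup.iff_card.1 hQq
        rcases k with _ | k
        · exact hne (card_eq_one.1 (hk.trans (pow_zero q)))
        obtain ⟨⟨x, hx⟩, hxo⟩ := exists_prime_orderOf_dvd_card' (G := Q) q
          (hk ▸ dvd_pow_self q k.succ_ne_zero)
        have hxo' : orderOf x = q := (orderOf_injective Q.subtype Q.subtype_injective ⟨x, hx⟩).trans hxo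
        obtain ⟨-, huniq⟩ := beta_centralizer hG hL hb (hQL hx)
          (by rw [← hxo', pow_orderOf_eq_one])
          (fun e => hq.out.one_lt.ne (by rw [← hxo', e, orderOf_one]))
        refine hLM (huniq M hM ?_).symm
        rw [← centralizer_zpowers]
        have hc := core_cyclic hG hM hqσ
        have hxe : ∀ y ∈ zpowers x, y ^ q = 1 := fun y hy => by
          have h := pow_card_eq_one' (x := (⟨y, hy⟩ : zpowers x))
          rw [Nat.card_zpowers, hxo'] at h
          exact congrArg Subtype.val h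
        exact (CfsgLib.Coprime.centralizer_le_normalizer_self _).trans (normalizer_eq_of_le_core hG hM
          hqσ (zpowers_le.2 hx) hxe (fun e => hq.out.one_lt.ne (by
            rw [← hxo', ← Nat.card_zpowers, e, card_bot]))).le
      obtain ⟨S, hAS, hSL⟩ := exists_sylow_of_sigma hG hL hpL (isPGroup_of_elementary hAe) hAL
      obtain ⟨R, hRL, hSR⟩ := exists_commuting_sylow hG hL hpL (tau_not_beta hG hM hpt hAM hAe hA2)
        hqL hqb (Ne.symm hqp) S hSL
      have hRM : (R : Subgroup G) ≤ M := (le_centralizer_iff.1 (hAS.trans hSR)).trans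
        (tau_centralizer_le hG hM hpt hAM hAe hA2)
      have hQR : Q ≤ (R : Subgroup G) := by
        haveI := CfsgLib.Coprime.pCore_normal' (G := ↥M) q
        intro x hx
        obtain ⟨x', hx', rfl⟩ := hx
        exact mem_subgroupOf.1 (CfsgLib.LS.le_sylow_of_normal
          (CfsgLib.Coprime.pCore_isPGroup q) (R.subtype hRM) hx')
      exact ⟨S, hAS, (hSR.trans (centralizer_le hQR)).trans
        (CfsgLib.Coprime.centralizer_le_normalizer_self Q)⟩
    · haveI := sigmaCore_solvable hG hL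
      have hAK : A ≤ Cfsg.sigmaCore L := isPGroup_le_sigmaCore hG hL hpL (isPGroup_of_elementary hAe) hAL
      have hcop : (Nat.card Q).Coprime (Nat.card (Cfsg.sigmaCore L)) := by
        obtain ⟨k, hk⟩ := IsPGroup.iff_card.1 hQq
        rw [hk]
        exact (hq.out.coprime_iff_not_dvd.2 (not_dvd_sigmaCore hG hL hqL)).pow_left k
      obtain ⟨T, hT, hAT, hQT⟩ := CfsgLib.Coprime.le_invariant_sylow
        (hQL.trans (sigmaCore_normal hG L)) hcop (Or.inr inferInstance) hAK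
        (isPGroup_of_elementary hAe)
        (hQA.trans (CfsgLib.Coprime.centralizer_le_normalizer_self A))
      obtain ⟨S, rfl⟩ := sylow_of_hall (sigmaCore_hall hG hL).2 hpL hT
      refine ⟨S, hAT, ?_⟩
      obtain ⟨k, hk⟩ := IsPGroup.iff_card.1 hQq
      have hC : (S : Subgroup G) ⊓ centralizer (A : Set G) ≤ centralizer (Q : Set G) := by
        haveI := isMulCommutative_inf_centralizer hG hAe hA2
          (fun _ => tau_max hG hM hpt hAM hAe hA2) S hAT
        set T := (S : Subgroup G) ⊓ centralizer (A : Set G) with hTdef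
        refine le_centralizer_iff.1 ?_
        have hT' : Q ≤ normalizer (T : Set G) := CfsgLib.Coprime.inf_le_normalizer hQT
          (hQA.trans le_normalizer)
        have hcopT : (Nat.card Q).Coprime (Nat.card T) := by
          obtain ⟨j, hj⟩ := IsPGroup.iff_card.1 (S.2.to_le (inf_le_left : T ≤ S))
          rw [hk, hj]
          exact Nat.Coprime.pow k j ((Nat.coprime_primes hq.out hp.out).2 hqp)
        have hb := CfsgLib.Coprime.centralizer_inf_commutator_eq_bot inferInstance hT' hcopT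
        have hle := le_normalizer_iff_commutator_le_left.1 hT'
        refine le_centralizer_iff.1 (commutator_eq_bot_iff_le_centralizer.1 ?_)
        by_contra hne'
        obtain ⟨z, hz, hz1⟩ := (bot_or_exists_ne_one (⁅T, Q⁆ : Subgroup G)).resolve_left hne'
        obtain ⟨i, hi⟩ := S.2 ⟨z, (hle hz).1⟩
        obtain ⟨j, -, hj⟩ := (Nat.dvd_prime_pow hp.out).1
          (orderOf_dvd_of_pow_eq_one (congrArg Subtype.val hi :))
        rcases j with _ | j
        · exact hz1 (orderOf_eq_one_iff.1 (hj.trans (pow_zero p)))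
        set w := z ^ p ^ j with hw
        have hwT : w ∈ T := pow_mem (hle hz) _
        have hwA : w ∈ A := mem_of_pow hAe hA2 (fun _ => tau_max hG hM hpt hAM hAe hA2)
          (by rw [hw, ← pow_mul, ← pow_succ, ← hj, pow_orderOf_eq_one]) hwT.2
        have hw' : w ∈ (T ⊓ centralizer (Q : Set G)) ⊓ ⁅T, Q⁆ :=
          ⟨⟨hwT, le_centralizer_iff.1 hQA hwA⟩, pow_mem hz _⟩
        rw [hb, mem_bot] at hw'
        have h3 := Nat.le_of_dvd (pow_pos hp.out.pos j) (orderOf_dvd_of_pow_eq_one hw')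
        rw [hj] at h3
        exact absurd h3 (not_le.2 (Nat.pow_lt_pow_right hp.out.one_lt j.lt_succ_self))
      have h := CfsgLib.Coprime.pq_lemma (isPGroup_of_elementary hAe)
        (by rw [hk]; exact ((Nat.coprime_primes hq.out hp.out).2 hqp).pow_left k) S.2
        (le_centralizer_iff.1 hQA) (hAT.trans le_normalizer) hQT hC
      exact (le_centralizer_iff.1 h).trans (CfsgLib.Coprime.centralizer_le_normalizer_self Q)
  exact (nonab_not_le hG hM hpt hAM hAe hA2 hS S hAS).1 (hSQ.trans hNQ.le)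

omit hq in
/-- The `p`-core of `M` is the central line. -/
theorem nonab_core_le {A₀ : Subgroup G} (hA₀ : A₀ ≤ A) (hA₀c : Nat.card A₀ = p)
    (hfix : Cfsg.sigmaCore M ≤ centralizer (A₀ : Set G)) (hcore : A₀ ≤ core M p) :
    core M p ≤ A₀ := by
  set Q := core M p with hQ
  haveI := core_cyclic hG hM hpt.2.1
  obtain ⟨P, hP⟩ := ((isPGroup_of_elementary hAe).of_equiv
    (subgroupOfEquivOfLe hAM).symm).exists_le_sylow
  haveI := CfsgLib.Coprime.pCore_normal' (G := ↥M) p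
  have hQT : Q ≤ (P : Subgroup M).map M.subtype :=
    map_mono (CfsgLib.LS.le_sylow_of_normal (CfsgLib.Coprime.pCore_isPGroup p) P)
  have hAT : A ≤ (P : Subgroup M).map M.subtype := fun a ha => ⟨⟨a, hAM ha⟩, hP ha, rfl⟩
  obtain ⟨S, hTS⟩ := (P.2.map M.subtype).exists_le_sylow
  obtain ⟨hSM, hSC⟩ := nonab_not_le hG hM hpt hAM hAe hA2 hS S (hAT.trans hTS)
  obtain ⟨hZA, hZc, hCZ⟩ := nonab_center_line hG hM hpt hAM hAe hA2 hS S (hAT.trans hTS)
  obtain ⟨-, hTC, -, -⟩ := tau_sylow_abelian hG hM hpt hAM hAe hA2 (P.2.map M.subtype)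
    (map_subtype_le _) hAT fun U hU hUM hle => sylow_map_max P hU hUM hle
  intro y hy
  obtain ⟨n, hn⟩ := isPGroup_core (H := M) (s := p) ⟨y, hy⟩
  by_contra hyA
  have hQcyc : IsCyclic Q := inferInstance
  -- an element with `p`-th power generating `A₀`
  obtain ⟨a, ha, ha1⟩ := (bot_or_exists_ne_one A₀).resolve_left (line_ne_bot hA₀c)
  obtain ⟨w, hw, hwp, hw1⟩ : ∃ w ∈ Q, w ^ p ∈ A₀ ∧ w ∉ A₀ := by
    have hn' : y ^ p ^ n = 1 := (congrArg Subtype.val hn :)
    clear hn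
    induction n generalizing y with
    | zero =>
      rw [pow_zero, pow_one] at hn'
      exact absurd (hn' ▸ one_mem A₀) hyA
    | succ n ih =>
      by_cases h : y ^ p ∈ A₀
      · exact ⟨y, hy, h, hyA⟩
      · exact ih (pow_mem hy p) h (by rw [← pow_mul, ← pow_succ', hn'])
  have hwp1 : w ^ p ≠ 1 := fun e => hw1 (eq_of_cyclic (q := p) (inferInstance : IsCyclic Q) hcore
    (zpowers_le.2 hw) (fun x hx => hAe.2 x (hA₀ hx))
    (fun x hx => by obtain ⟨i, rfl⟩ := hx; rw [← zpow_natCast, ← zpow_mul, mul_comm, zpow_mul, zpow_natCast, e, one_zpow])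
    (line_ne_bot hA₀c) (mem_zpowers w))
  -- `p`-th powers in `C_S(A)` are central
  have hA₀Z : A₀ ≠ centerSocle (S : Subgroup G) p := fun e => by
    refine hSM (fun s hs => ?_)
    have hNA₀ : normalizer (A₀ : Set G) ≤ M := by
      refine (ms_normalizer_eq hG hM (hA₀.trans hAM) (line_ne_bot hA₀c) fun m hm => ?_).le
      refine CfsgLib.Coprime.conjBy_eq_self_iff.1 (eq_of_le_of_card_ge ?_
        (CfsgLib.Coprime.card_conjBy m A₀).ge)
      refine eq_of_cyclic (inferInstance : IsCyclic Q) hcore ?_ (fun x hx => hAe.2 x (hA₀ hx)) ?_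
        (line_ne_bot hA₀c)
      · rintro _ ⟨x, hx, rfl⟩
        exact (mem_normalizer_iff.1 (le_normalizer_core hm) x).1 (hcore hx)
      · rintro _ ⟨x, hx, rfl⟩
        rw [← map_pow, hAe.2 x (hA₀ hx), map_one]
    exact hNA₀ (CfsgLib.Coprime.centralizer_le_normalizer_self A₀
      (mem_centralizer_iff.2 fun z hz => ((e.le hz).2.2 s hs).eq))
  have hwS : w ∈ (S : Subgroup G) := hTS (hQT hw)
  have hz : w ^ p ∈ centerSocle (S : Subgroup G) p := ⟨pow_mem hwS p, hAe.2 _ (hA₀ hwp),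
    pow_central_of_centralizes hG hAe hA2 (fun _ => tau_max hG hM hpt hAM hAe hA2) S (hAT.trans hTS)
      hwS (hTC (hQT hw)) (by rw [sq, pow_mul]; exact hAe.2 _ (hA₀ hwp))⟩
  refine hA₀Z (eq_of_le_of_card_ge ?_ (by rw [hZc, hA₀c]))
  have e : zpowers (w ^ p) = A₀ := eq_of_le_of_card_ge (zpowers_le.2 hwp)
    (by rw [hA₀c, zpowers_card hAe (hA₀ hwp) hwp1])
  rw [← e]
  exact zpowers_le.2 hz

end MinSimple

end CfsgLib.CFun.TauTwo
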