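import Cfsg.Agent.Lib.CFun.OddSigmaEmbedding
import Cfsg.Agent.Lib.CFun.OddTauTwoElement
import Cfsg.Agent.Lib.CFun.OddTauTwoNonabelian
import Cfsg.Agent.S1418
import Cfsg.Agent.S1420

/-!
# `τ₂(M)`-primes with abelian Sylow subgroups

For `p ∈ τ₂(M)` with an abelian Sylow `p`-subgroup `S ⊇ A` of `G`: `S` lies in the complement `E`,
is normal in `N(A)`, and `N(A)` induces an abelian group on `A`.
-/

set_option autoImplicit false
set_option linter.style.haveILetI false
set_option linter.unusedSectionVars false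

open Subgroup
open scoped commutatorElement
open CfsgLib.Coprime (conjBy conjBy_conjBy conjBy_one mem_conjBy IsSylowIn)

namespace CfsgLib.CFun.TauTwo

universe u

variable {G : Type u} [Group G] [Finite G] {p : ℕ} [hp : Fact p.Prime]

omit hp in
/-- `H = K N` with `K` normalized by `H` gives `H' ≤ K N'`. -/
theorem derived_le_of_factor {H K N : Subgroup G} (hK : H ≤ normalizer (K : Set G)) (hKH : K ≤ H)
    (hNH : N ≤ H) (h : H ≤ K ⊔ N) : ⁅H, H⁆ ≤ K ⊔ ⁅N, N⁆ := by
  haveI : (K.subgroupOf H).Normal := normal_subgroupOf_of_le_normalizer hK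
  let φ := QuotientGroup.mk' (K.subgroupOf H)
  intro x hx
  rw [map_commutator_self] at hx
  obtain ⟨⟨x, hxH⟩, hx', rfl⟩ := hx
  have hN : (⊤ : Subgroup (H ⧸ K.subgroupOf H)) ≤ (N.subgroupOf H).map φ := by
    rintro y -
    obtain ⟨⟨y, hy⟩, rfl⟩ := QuotientGroup.mk'_surjective _ y
    obtain ⟨k, hk, n, hn, hkn⟩ := CfsgLib.Coprime.mem_sup_exists (hNH.trans hK) (h hy)
    refine ⟨⟨n, hNH hn⟩, hn, (QuotientGroup.eq.2 (mem_subgroupOf.2 ?_) :
      φ ⟨n, hNH hn⟩ = φ ⟨y, hy⟩)⟩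
    show n⁻¹ * y ∈ K
    rw [← hkn, ← mul_assoc]
    have h1 := (mem_normalizer_iff.1 (hK (inv_mem (hNH hn))) k).1 hk
    rwa [inv_inv] at h1
  have h2 : φ ⟨x, hxH⟩ ∈ (⁅N.subgroupOf H, N.subgroupOf H⁆ : Subgroup H).map φ := by
    rw [map_commutator]
    refine commutator_mono hN hN ?_
    have h3 : φ ⟨x, hxH⟩ ∈ (commutator H).map φ := mem_map_of_mem _ hx'
    rw [map_commutator_eq] at h3
    exact commutator_mono le_top le_top h3
  obtain ⟨c, hc, hcx⟩ := h2
  have hcN : (c : G) ∈ ⁅N, N⁆ := by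
    have h4 := mem_map_of_mem H.subtype hc
    rw [map_commutator, map_subgroupOf_eq_of_le hNH] at h4
    exact h4
  have hd : (⟨x, hxH⟩ : H) * c⁻¹ ∈ K.subgroupOf H := by
    rw [← QuotientGroup.eq_one_iff]
    show φ ((⟨x, hxH⟩ : H) * c⁻¹) = 1
    rw [map_mul, map_inv, hcx, mul_inv_cancel]
  have he : x = (x * (c : G)⁻¹) * (c : G) := (inv_mul_cancel_right x (c : G)).symm
  show x ∈ K ⊔ ⁅N, N⁆
  rw [he]
  exact mul_mem (mem_sup_left hd) (mem_sup_right hcN)

variable (hG : Cfsg.IsMinSimpleOddOrder G) {M E A : Subgroup G} (hM : IsCoatom M)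
  (hE : Cfsg.IsComplIn E (Cfsg.sigmaCore M) M) (hpt : p ∈ Cfsg.tau2 M) (hAE : A ≤ E)
  (hAe : Cfsg.IsElementaryAbelian p A) (hA2 : Nat.card A = p ^ 2)
  (S : Sylow p G) (hAS : A ≤ (S : Subgroup G)) (hab : IsMulCommutative (S : Subgroup G))
include hG hM hE hpt hAE hAe hA2 hAS hab

omit hp hG hM hE hpt hAE hAe hA2 in
theorem torus_le_centralizer : (S : Subgroup G) ≤ centralizer (A : Set G) := fun s hs =>
  mem_centralizer_iff.2 fun a ha =>
    congrArg Subtype.val (hab.1.1 (⟨a, hAS ha⟩ : (S : Subgroup G)) ⟨s, hs⟩)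

omit hAS hab in
theorem centralizer_le_compl : centralizer (A : Set G) ≤ E := by
  obtain ⟨-, ⟨h1, h2, -⟩, -⟩ := Cfsg.Agent.S1418.result hG M hM E hE p hpt A ⟨hAE, hAe, hA2⟩
  exact h2 ▸ h1

omit hAS hab in
theorem compl_le_normalizer : E ≤ normalizer (A : Set G) :=
  (Cfsg.Agent.S1418.result hG M hM E hE p hpt A ⟨hAE, hAe, hA2⟩).1.1

theorem torus_le_compl : (S : Subgroup G) ≤ E :=
  (torus_le_centralizer S hAS hab).trans (centralizer_le_compl hG hM hE hpt hAE hAe hA2)

theorem torus_mem {x : G} (hx : x ∈ (S : Subgroup G)) (hxp : x ^ p = 1) : x ∈ A :=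
  mem_of_pow hAe hA2 (fun _ => tau_max hG hM hpt (hAE.trans hE.1) hAe hA2) hxp
    (torus_le_centralizer S hAS hab hx)

theorem torus_rank : Cfsg.PRankLE p 2 G := by
  refine pRankLE_of_sylow_top S fun B _ hBp => ?_
  rw [Nat.card_congr (equivMapOfInjective B _ (S : Subgroup G).subtype_injective).toEquiv]
  refine (Subgroup.card_le_of_le ?_).trans hA2.le
  rintro _ ⟨b, hb, rfl⟩
  exact torus_mem hG hM hE hpt hAE hAe hA2 S hAS hab b.2 (congrArg Subtype.val (hBp b hb))

/-- `N(A)` induces an abelian group on `A`. -/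
theorem normalizer_derived_le :
    (⁅normalizer (A : Set G), normalizer (A : Set G)⁆ : Subgroup G) ≤ centralizer (A : Set G) := by
  intro x hx
  set N := normalizer (A : Set G) with hN
  set C := centralizer (A : Set G) with hC
  have hCN : C ≤ N := CfsgLib.Coprime.centralizer_le_normalizer_self A
  haveI : (C.subgroupOf N).Normal := normal_subgroupOf_of_le_normalizer
    (CfsgLib.Coprime.normalizer_le_normalizer_centralizer A)
  have hxN : x ∈ N := commutator_le_self N hx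
  have hm : (⟨x, hxN⟩ : N) ^ (C.subgroupOf N).index ∈ C.subgroupOf N := pow_index_mem _ _
  have hpm : ¬ p ∣ (C.subgroupOf N).index := fun h => by
    refine S.not_dvd_index ?_
    rw [← relIndex_mul_index ((torus_le_centralizer S hAS hab).trans hCN),
      ← relIndex_mul_relIndex _ C N (torus_le_centralizer S hAS hab) hCN]
    exact dvd_mul_of_dvd_left (dvd_mul_of_dvd_right h _) _
  have hA1 : A ≠ ⊥ := fun e => by
    rw [e, card_bot] at hA2
    exact absurd hA2.symm (Nat.one_lt_pow two_ne_zero hp.out.one_lt).ne'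
  have hNt : N ≠ ⊤ := ms_normalizer_ne_top hG hA1 (ms_isPGroup_ne_top hG (isPGroup_of_elementary hAe))
  have hp2 : p ≠ 2 := ms_ne_two hG (dvd_card hG hAe hA2)
  obtain ⟨k, l, hl, hkl⟩ := Nat.exists_eq_pow_mul_and_not_dvd (orderOf_pos x).ne' p hp.out.ne_one
  have hxc : x ^ p ^ k ∈ C := by
    refine centralizes_of_rank_two hp2 hAe hA2.le le_rfl (ms_solvable hG hNt)
      (hG.1.of_dvd_nat (card_subgroup_dvd_card N)) (pow_mem hx _) ?_
    have ho : orderOf (x ^ p ^ k) = l := by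
      rw [orderOf_pow, hkl, Nat.gcd_eq_right (dvd_mul_right _ _),
        Nat.mul_div_cancel_left _ (pow_pos hp.out.pos _)]
    rw [ho]
    exact (hp.out.coprime_iff_not_dvd.2 hl).symm
  have hb := Nat.gcd_eq_gcd_ab (p ^ k) (C.subgroupOf N).index
  rw [Nat.Coprime.gcd_eq_one ((hp.out.coprime_iff_not_dvd.2 hpm).pow_left k)] at hb
  rw [← zpow_one x, ← Nat.cast_one, hb, zpow_add, zpow_mul, zpow_natCast, zpow_mul, zpow_natCast]
  exact mul_mem (zpow_mem hxc _) (zpow_mem (mem_subgroupOf.1 hm :) _)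

/-- The abelian Sylow subgroup is normal in `N(A)`. -/
theorem torus_normalizer_eq :
    normalizer ((S : Subgroup G) : Set G) = normalizer (A : Set G) := by
  set C := centralizer (A : Set G) with hC
  have hAM : A ≤ M := hAE.trans hE.1
  have hSC : (S : Subgroup G) ≤ C := torus_le_centralizer S hAS hab
  have hCE : C ≤ E := centralizer_le_compl hG hM hE hpt hAE hAe hA2
  have hNS : normalizer ((S : Subgroup G) : Set G) ≤ normalizer (A : Set G) :=
    normalizer_le_normalizer_of_omega hAe hA2 (fun _ => tau_max hG hM hpt hAM hAe hA2) hAS hSC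
  refine le_antisymm hNS ?_
  have hNC : normalizer (A : Set G) ≤ normalizer (C : Set G) :=
    CfsgLib.Coprime.normalizer_le_normalizer_centralizer A
  set Y := ⁅C, (S : Subgroup G)⁆ with hY
  have hYE : Y ≤ ⁅E, E⁆ := commutator_mono hCE (hSC.trans hCE)
  have hNY : normalizer ((S : Subgroup G) : Set G) ≤ normalizer (Y : Set G) :=
    CfsgLib.CFun.le_normalizer_commutator (hNS.trans hNC) le_rfl
  have hCY : C ≤ normalizer (Y : Set G) := normalizer_commutator_ge_left _ _
  have hYab := (Cfsg.Agent.S1420.result hG M hM E hE).2.1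
  haveI : IsMulCommutative Y := ⟨⟨fun a b => Subtype.ext
    (congrArg Subtype.val (hYab.1.1 ⟨a, hYE a.2⟩ ⟨b, hYE b.2⟩) :)⟩⟩
  have hA1 : A ≠ ⊥ := fun e => by
    rw [e, card_bot] at hA2
    exact absurd hA2.symm (Nat.one_lt_pow two_ne_zero hp.out.one_lt).ne'
  have hS1 : (S : Subgroup G) ≠ ⊥ := fun e => hA1 (le_bot_iff.1 (hAS.trans e.le))
  have hNt : normalizer ((S : Subgroup G) : Set G) ≠ ⊤ :=
    ms_normalizer_ne_top hG hS1 (ms_isPGroup_ne_top hG S.2)
  -- `p`-elements of `Y` lie in `S`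
  have hYS : ∀ y ∈ Y, (∃ i, y ^ p ^ i = 1) → y ∈ (S : Subgroup G) := by
    intro y hy ⟨i, hi⟩
    obtain ⟨P⟩ := (inferInstance : Nonempty (Sylow p Y))
    haveI : (P : Subgroup Y).Normal := inferInstance
    have hyP : y ∈ (P : Subgroup Y).map Y.subtype :=
      ⟨⟨y, hy⟩, RankTwoTower.mem_sylow_of_normal P ⟨i, Subtype.ext hi⟩, rfl⟩
    have hSP : (S : Subgroup G) ≤ normalizer (((P : Subgroup Y).map Y.subtype : Subgroup G) : Set G) := by
      intro s hs
      refine CfsgLib.Coprime.conjBy_eq_self_iff.1 (eq_of_le_of_card_ge ?_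
        (CfsgLib.Coprime.card_conjBy s _).ge)
      rintro _ ⟨_, ⟨z, hz, rfl⟩, rfl⟩
      obtain ⟨j, hj⟩ := P.2 ⟨z, hz⟩
      have hzY : s * z * s⁻¹ ∈ Y := (mem_normalizer_iff.1 (hCY (hSC hs)) _).1 z.2
      exact ⟨⟨_, hzY⟩, RankTwoTower.mem_sylow_of_normal P ⟨j, Subtype.ext (by
        show (s * z * s⁻¹) ^ p ^ j = 1
        rw [conj_pow, show (z : G) ^ p ^ j = 1 from congrArg Subtype.val (congrArg Subtype.val hj), mul_one,
          mul_inv_cancel])⟩, rfl⟩
    have h1 := S.3 (IsPGroup.to_sup_of_normal_right' S.2 (P.2.map Y.subtype) hSP) le_sup_left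
    exact h1.le (mem_sup_right hyP)
  -- `S` centralizes `Y`
  have hYC : Y ≤ centralizer ((S : Subgroup G) : Set G) := by
    refine CfsgLib.Fusion.le_of_forall_prime_pow fun r hr y hy ⟨i, hi⟩ => ?_
    rcases eq_or_ne r p with rfl | hrp
    · exact mem_centralizer_iff.2 fun s hs =>
        congrArg Subtype.val (hab.1.1 (⟨s, hs⟩ : (S : Subgroup G)) ⟨y, hYS y hy ⟨i, hi⟩⟩)
    haveI : Fact r.Prime := ⟨hr⟩
    by_cases hy1 : y = 1
    · rw [hy1]; exact one_mem _
    obtain ⟨R⟩ := (inferInstance : Nonempty (Sylow r Y))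
    set R' := (R : Subgroup Y).map Y.subtype with hR'
    have hyR : y ∈ R' := ⟨⟨y, hy⟩, RankTwoTower.mem_sylow_of_normal R ⟨i, Subtype.ext hi⟩, rfl⟩
    have hR'E : R' ≤ E := (map_subtype_le _).trans (hYE.trans (commutator_le_self E))
    have hR'1 : R' ≠ ⊥ := fun e => hy1 (mem_bot.1 (e ▸ hyR))
    have hr2 : r ≠ 2 := ms_ne_two hG
      ((mem_of_isPGroup (R.2.map Y.subtype) hR'1 hR'E).trans (card_subgroup_dvd_card E))
    have hrk : Cfsg.PRankLE r 2 R' := fun B hBc hBp => by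
      rw [Nat.card_congr (equivMapOfInjective B _ (inclusion_injective hR'E)).toEquiv]
      refine Compl.compl_rank hG hM hE r hr (B.map (inclusion hR'E)) ?_ ?_
      · exact Subgroup.map_isMulCommutative B _
      · rintro _ ⟨b, hb, rfl⟩
        rw [← map_pow, hBp b hb, map_one]
    have hNR : normalizer ((S : Subgroup G) : Set G) ≤ normalizer (R' : Set G) := by
      intro n hn
      refine CfsgLib.Coprime.conjBy_eq_self_iff.1 (eq_of_le_of_card_ge ?_
        (CfsgLib.Coprime.card_conjBy n _).ge)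
      rintro _ ⟨_, ⟨z, hz, rfl⟩, rfl⟩
      obtain ⟨j, hj⟩ := R.2 ⟨z, hz⟩
      have hzY : n * z * n⁻¹ ∈ Y := (mem_normalizer_iff.1 (hNY hn) _).1 z.2
      exact ⟨⟨_, hzY⟩, RankTwoTower.mem_sylow_of_normal R ⟨j, Subtype.ext (by
        show (n * z * n⁻¹) ^ r ^ j = 1
        rw [conj_pow, show (z : G) ^ r ^ j = 1 from congrArg Subtype.val (congrArg Subtype.val hj), mul_one,
          mul_inv_cancel])⟩, rfl⟩
    refine mem_centralizer_iff.2 fun s hs => ?_
    obtain ⟨j, hj⟩ := S.2 ⟨s, hs⟩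
    have hsR := centralizes_rank_two hr2 (R.2.map Y.subtype) hrk hNR (ms_solvable hG hNt)
      (hG.1.of_dvd_nat (card_subgroup_dvd_card _))
      (commutator_mono le_normalizer le_rfl (sylow_le_commutator_normalizer hG S hs))
      (Nat.Coprime.coprime_dvd_left (orderOf_dvd_of_pow_eq_one (congrArg Subtype.val hj :))
        (((Nat.coprime_primes hp.out hr).2 hrp.symm).pow_left j))
    exact (mem_centralizer_iff.1 hsR y hyR).symm
  have hCS : C ≤ normalizer ((S : Subgroup G) : Set G) := by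
    intro c hc
    refine CfsgLib.Coprime.conjBy_eq_self_iff.1 (eq_of_le_of_card_ge ?_
      (CfsgLib.Coprime.card_conjBy c _).ge)
    rintro _ ⟨t, ht, rfl⟩
    show c * t * c⁻¹ ∈ (S : Subgroup G)
    have hy : ⁅c, t⁆ ∈ Y := commutator_mem_commutator hc ht
    have he : c * t * c⁻¹ = ⁅c, t⁆ * t := by rw [commutatorElement_def]; group
    rw [he]
    refine mul_mem (hYS _ hy ?_) ht
    obtain ⟨i, hi⟩ := S.2 ⟨t, ht⟩
    have hti : t ^ p ^ i = 1 := congrArg Subtype.val hi
    refine ⟨i, ?_⟩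
    have hcomm : Commute ⁅c, t⁆ t := ((mem_centralizer_iff.1 (hYC hy)) t ht).symm
    have h1 := hcomm.mul_pow (p ^ i)
    rw [← he, conj_pow, hti, mul_one, mul_inv_cancel, mul_one] at h1
    exact h1.symm
  intro n hn
  refine CfsgLib.Coprime.conjBy_eq_self_iff.1 ?_
  have hnS : conjBy n (S : Subgroup G) ≤ C := by
    refine (map_mono hSC).trans (le_of_eq ?_)
    exact CfsgLib.Coprime.conjBy_eq_self_iff.2 (hNC hn)
  have h1 := S.3 (IsPGroup.to_sup_of_normal_left' S.2 (S.2.map _) (hnS.trans hCS)) le_sup_left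
  exact eq_of_le_of_card_ge (le_sup_right.trans h1.le) (CfsgLib.Coprime.card_conjBy n _).ge

theorem torus_le_derived :
    (S : Subgroup G) ≤ ⁅normalizer (A : Set G), normalizer (A : Set G)⁆ := by
  rw [← torus_normalizer_eq hG hM hE hpt hAE hAe hA2 S hAS hab]
  exact (sylow_le_commutator_normalizer hG S).trans (commutator_mono le_normalizer le_rfl)

/-- In any maximal subgroup containing `A`: `p ∈ σ(H)` or `p ∈ τ₂(H)`. -/
theorem sigma_or_tau {H : Subgroup G} (hAH : A ≤ H) :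
    p ∈ Cfsg.sigma H ∨ p ∈ Cfsg.tau2 H := by
  by_cases hpH : p ∈ Cfsg.sigma H
  · exact Or.inl hpH
  refine Or.inr (mem_tau_iff.2 ⟨hpH, ?_, not_pRankLE_of_elementary hAH hAe
    (by rw [hA2]; exact Nat.pow_lt_pow_right hp.out.one_lt one_lt_two)⟩)
  intro B hBc hBp
  rw [Nat.card_congr (equivMapOfInjective B _ H.subtype_injective).toEquiv]
  refine torus_rank hG hM hE hpt hAE hAe hA2 S hAS hab _ (Subgroup.map_isMulCommutative B _) ?_
  rintro _ ⟨b, hb, rfl⟩
  rw [← map_pow, hBp b hb, map_one]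

omit hM hE hpt hAE hAS hab in
/-- `H = H_σ N_H(A)` for `p ∈ τ₂(H)`. -/
theorem tau_frattini {H : Subgroup G} (hH : IsCoatom H) (hAH : A ≤ H) (hptH : p ∈ Cfsg.tau2 H) :
    H ≤ Cfsg.sigmaCore H ⊔ (H ⊓ normalizer (A : Set G)) := by
  have hK := sigmaCore_normal hG H
  have hKH : Cfsg.sigmaCore H ≤ H := map_subtype_le _
  set K := Cfsg.sigmaCore H with hKdef
  have hKA := tau_normal_sup hG hH hptH hAH hAe hA2
  have hAp := isPGroup_of_elementary hAe
  have hsylow : IsSylowIn p A (K ⊔ A) := by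
    refine ⟨le_sup_right, ?_⟩
    obtain ⟨j, hj⟩ := IsPGroup.iff_card.1 hAp
    rw [hj]
    congr 1
    refine le_antisymm ((hp.out.pow_dvd_iff_le_factorization Nat.card_pos.ne').1
      (hj ▸ card_dvd_of_le le_sup_right)) ?_
    have h1 : Nat.card ↥(K ⊔ A) ∣ p ^ j * Nat.card K := by
      rw [← hj, sup_comm]
      exact CfsgLib.Coprime.card_sup_dvd_of_le_normalizer (hAH.trans hK)
    refine ((Nat.factorization_le_iff_dvd Nat.card_pos.ne'
      (mul_ne_zero (pow_ne_zero _ hp.out.ne_zero) Nat.card_pos.ne')).2 h1 p).trans ?_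
    rw [Nat.factorization_mul (pow_ne_zero _ hp.out.ne_zero) Nat.card_pos.ne', Finsupp.add_apply,
      hp.out.factorization_pow, Finsupp.single_eq_same,
      Nat.factorization_eq_zero_of_not_dvd (not_dvd_sigmaCore hG hH hptH.2.1), add_zero]
  intro h hh
  obtain ⟨k, hk, hkA⟩ := hsylow.exists_conj (hsylow.conjBy (hKA hh))
  have hkH : k ∈ H := sup_le hKH hAH hk
  have h2 : k⁻¹ * h ∈ normalizer (A : Set G) := by
    refine CfsgLib.Coprime.conjBy_eq_self_iff.1 ?_
    rw [← conjBy_conjBy, ← hkA, conjBy_conjBy, inv_mul_cancel, conjBy_one]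
  rw [show h = k * (k⁻¹ * h) by group]
  refine mul_mem ?_ (mem_sup_right (mem_inf.2 ⟨H.mul_mem (H.inv_mem hkH) hh, h2⟩))
  exact sup_le le_sup_left (le_trans (le_inf hAH le_normalizer) le_sup_right) hk

/-- Elements of `H'` normalizing `A`, of order prime to `p`, centralize `A`. -/
theorem derived_centralizes {H : Subgroup G} (hH : IsCoatom H) (hAH : A ≤ H) {x : G}
    (hx : x ∈ ⁅H, H⁆) (hxN : x ∈ normalizer (A : Set G)) (hxp : (orderOf x).Coprime p) :
    x ∈ centralizer (A : Set G) := by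
  rcases sigma_or_tau hG hM hE hpt hAE hAe hA2 S hAS hab hAH with hpH | hptH
  · exact derived_centralizes_non_beta hG hH
      (tau_not_beta hG hM hpt (hAE.trans hE.1) hAe hA2) hAH (isPGroup_of_elementary hAe) hx hxp hxN
  set N := H ⊓ normalizer (A : Set G) with hN
  have hK := sigmaCore_normal hG H
  have hfac := derived_le_of_factor hK (map_subtype_le _) inf_le_left
    (tau_frattini hG hAe hA2 hH hAH hptH) hx
  have hNN : ⁅N, N⁆ ≤ centralizer (A : Set G) :=
    (commutator_mono inf_le_right inf_le_right).trans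
      (normalizer_derived_le hG hM hE hpt hAE hAe hA2 S hAS hab)
  obtain ⟨k, hk, c, hc, rfl⟩ := CfsgLib.Coprime.mem_sup_exists
    (((commutator_le_self N).trans inf_le_left).trans hK) hfac
  refine mul_mem ?_ (hNN hc)
  have hkN : k ∈ normalizer (A : Set G) := by
    have h1 := mul_mem hxN (inv_mem ((commutator_le_self N).trans inf_le_right hc))
    rwa [mul_inv_cancel_right] at h1
  refine mem_centralizer_iff.2 fun a ha => ?_
  have h1 : k * a * k⁻¹ * a⁻¹ ∈ A ⊓ Cfsg.sigmaCore H := by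
    refine mem_inf.2 ⟨mul_mem ((mem_normalizer_iff.1 hkN a).1 ha) (inv_mem ha), ?_⟩
    rw [show k * a * k⁻¹ * a⁻¹ = k * (a * k⁻¹ * a⁻¹) by group]
    exact mul_mem hk ((mem_normalizer_iff.1 (hK (hAH ha)) _).1 (inv_mem hk))
  rw [inf_eq_bot_of_isPGroup (isPGroup_of_elementary hAe) (not_dvd_sigmaCore hG hH hptH.2.1),
    mem_bot, mul_inv_eq_one, mul_inv_eq_iff_eq_mul] at h1
  exact h1.symm

end CfsgLib.CFun.TauTwo
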