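import Cfsg.Agent.Lib.CFun.OddZgroupLength
import Cfsg.Agent.Lib.CFun.OddFpfCentralize
import Cfsg.Agent.Lib.CFun.OddTauTwoTorus
import Cfsg.Agent.Lib.CFun.OddKappaNormFpf
import Cfsg.Agent.Lib.PGroup.CoprimeHall

/-!
# Coprime action whose fixed points form a group of prime order inside the derived subgroup
-/

set_option autoImplicit false
set_option linter.style.haveILetI false
set_option linter.unusedSectionVars false

open Subgroup
open scoped commutatorElement
open CfsgLib.Coprime (conjBy IsSylowIn IsHallIn)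

namespace CfsgLib.CFun.PrimeFixed

universe u

variable {G : Type u} [Group G] [Finite G]

/-- A nilpotent group is covered by its Sylow cores. -/
theorem le_of_cores {L X : Subgroup G} (hL : Group.IsNilpotent L)
    (h : ∀ l : ℕ, l.Prime → core L l ≤ X) : L ≤ X := by
  refine CfsgLib.Fusion.le_of_forall_prime_pow fun l hl z hz ⟨k, hk⟩ => h l hl ?_
  haveI : Fact l.Prime := ⟨hl⟩
  haveI := hL
  have hzp : IsPGroup l (zpowers (⟨z, hz⟩ : L)) := by
    obtain ⟨j, -, hj⟩ := (Nat.dvd_prime_pow hl).1 (orderOf_dvd_of_pow_eq_one hk)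
    exact IsPGroup.of_card (by rw [Nat.card_zpowers, orderOf_mk, hj])
  obtain ⟨S, hS⟩ := hzp.exists_le_sylow
  haveI : (S : Subgroup L).Normal :=
    Sylow.normal_of_normalizerCondition Group.normalizerCondition_of_isNilpotent S
  exact mem_map_of_mem L.subtype (CfsgLib.Coprime.le_pCore (N := (S : Subgroup L)) S.isPGroup'
    (hS (mem_zpowers _)))

variable {p r : ℕ} [hp : Fact p.Prime] {H R : Subgroup G} {x y : G}

/-- The Sylow subgroup at the prime of the fixed points is normal and not cyclic. -/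
theorem sylow_normal (hz : ZLen.ZHyp r x H R)
    (hfix : H ⊓ centralizer ({x} : Set G) = zpowers y) (hy : orderOf y = p)
    (hyd : y ∈ (⁅H, H⁆ : Subgroup G)) :
    ∃ P : Subgroup G, IsSylowIn p P H ∧ H ≤ normalizer (P : Set G) ∧ y ∈ P ∧ ¬ IsCyclic P := by
  haveI : Fact r.Prime := ⟨hz.rP⟩
  set A := zpowers x with hA
  have hAc : Nat.card A = r := by rw [hA, Nat.card_zpowers, hz.ord]
  have hAH : A ≤ normalizer (H : Set G) := (zpowers_le.2 hz.mem).trans hz.norm
  have hcop : (Nat.card A).Coprime (Nat.card H) :=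
    hz.cop.coprime_dvd_left (card_dvd_of_le (zpowers_le.2 hz.mem))
  have hxr : x ^ r = 1 := hz.ord ▸ pow_orderOf_eq_one x
  have hy_mem : y ∈ H ⊓ centralizer ({x} : Set G) := hfix.ge (mem_zpowers y)
  obtain ⟨hyH, hyx⟩ := mem_inf.1 hy_mem
  have hyA : A ≤ centralizer (zpowers y : Set G) := by
    rw [TauTwo.centralizer_zpowers]
    exact zpowers_le.2 (mem_centralizer_singleton_iff.2 (mem_centralizer_singleton_iff.1 hyx).symm)
  have hypg : IsPGroup p (zpowers y) :=
    IsPGroup.of_card (n := 1) (by rw [Nat.card_zpowers, hy, pow_one])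
  have hrH : ¬ r ∣ Nat.card H := fun hd =>
    hz.rP.not_dvd_one (hcop ▸ Nat.dvd_gcd hAc.symm.dvd hd)
  have hrp : r ≠ p := fun e =>
    hrH (e ▸ (hy ▸ orderOf_dvd_natCard H hyH))
  -- the fixed-point-free part `L`
  have hPOne : ZLen.POne p H := ZLen.pOne_of_zhyp _ hz le_rfl
  set L := coCore H p with hL
  have hpL : ¬ p ∣ Nat.card L := not_dvd_coCore
  have hLH : L ≤ H := coCore_le
  have hHL : H ≤ normalizer (L : Set G) := le_normalizer_coCore
  have hAL : A ≤ normalizer (L : Set G) := hAH.trans (ZLen.normalizer_le_normalizer_coCore H p)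
  have hLfix : L ⊓ centralizer ({x} : Set G) = ⊥ := by
    have h1 : L ⊓ centralizer ({x} : Set G) ≤ zpowers y := (inf_le_inf_right _ hLH).trans hfix.le
    refine le_bot_iff.1 ((le_inf h1 inf_le_left).trans ?_)
    exact (inf_eq_bot_of_isPGroup hypg hpL).le
  have hxL : x ∈ normalizer (L : Set G) := hAL (mem_zpowers x)
  have hLnil : Group.IsNilpotent L := Decomp.isNilpotent_of_fpf hz.rP hxr hxL hLfix
  -- the invariant Sylow subgroup `P`
  obtain ⟨P, hP, hyP', hAP⟩ := CfsgLib.Coprime.le_invariant_sylow (p := p) hAH hcop (Or.inr hz.sol)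
    (zpowers_le.2 hyH) hypg (hyA.trans (CfsgLib.Coprime.centralizer_le_normalizer_self _))
  have hyP : y ∈ P := hyP' (mem_zpowers y)
  have hPp : IsPGroup p P := hP.isPGroup
  have hPi : ¬ p ∣ P.relIndex H := by
    have h := hP.toSylow.not_dvd_index
    exact h
  refine ⟨P, hP, ?_⟩
  set PX : Subgroup G := ⁅P, A⁆ with hPX
  have hcopP : (Nat.card A).Coprime (Nat.card P) := hcop.coprime_dvd_right (card_dvd_of_le hP.1)
  haveI : Group.IsNilpotent P := hPp.isNilpotent
  have hPsplit : PX ⊔ zpowers y = P := by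
    refine le_antisymm (sup_le ?_ hyP') ?_
    · exact le_trans (commutator_mono le_rfl le_rfl) (commutator_le.2 fun a ha b hb => by
        rw [commutatorElement_def, mul_assoc a b, mul_assoc a]
        exact mul_mem ha ((mem_normalizer_iff.1 (hAP hb) _).1 (inv_mem ha)))
    · refine (CfsgLib.Coprime.commutator_sup_centralizer hAP hcopP
        (Or.inr (CfsgLib.Coprime.isSolvable_of_isNilpotent inferInstance))).ge.trans
        (sup_le_sup_left ?_ _)
      rw [← hfix, hA, TauTwo.centralizer_zpowers]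
      exact inf_le_inf_right _ hP.1
  have hPXL : PX ≤ centralizer (L : Set G) := by
    refine le_centralizer_iff.1 (le_of_cores hLnil fun l hl => ?_)
    haveI : Fact l.Prime := ⟨hl⟩
    by_cases hbot : core L l = ⊥
    · rw [hbot]; exact bot_le
    refine le_centralizer_iff.1 ?_
    have hlL : l ∣ Nat.card L :=
      (dvd_of_core_ne_bot hbot).trans (card_dvd_of_le fittingOf_le)
    have hlp : l ≠ p := fun e => hpL (e ▸ hlL)
    refine FpfComm.commutator_le_centralizer (r := r) isPGroup_core hz.rP (fun e => ?_) hxr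
      (ZLen.normalizer_le_normalizer_core L l hxL) (hAP (mem_zpowers x))
      ((hP.1.trans hHL).trans (ZLen.normalizer_le_normalizer_core L l))
      (hz.oddH.of_dvd_nat (card_dvd_of_le hP.1)) (fun h => hrH (h.trans (card_dvd_of_le hP.1)))
      (fun h => hlp ?_) fun v hv hxv => ?_
    · exact hrH (e.symm ▸ hlL.trans (card_dvd_of_le hLH))
    · obtain ⟨k, hk⟩ := IsPGroup.iff_card.1 hPp
      rw [hk] at h
      exact (Nat.prime_dvd_prime_iff_eq hl hp.out).1 (hl.dvd_of_dvd_pow h)
    · exact mem_bot.1 (hLfix.le (mem_inf.2 ⟨core_le hv,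
        mem_centralizer_singleton_iff.2 hxv.symm⟩))
  -- `H = L N`
  set N := H ⊓ normalizer (P : Set G) with hN
  have hPN : P ≤ N := le_inf hP.1 le_normalizer
  have hsplit : H ≤ L ⊔ N := by
    obtain ⟨M₀, hM₀H, hHM₀, hM₀i, hM₀⟩ := hPOne
    have hPM₀ : P ≤ M₀ := fun z hz' => by
      obtain ⟨k, hk⟩ := hPp ⟨z, hz'⟩
      exact ZLen.mem_of_pow hM₀H hHM₀ hM₀i (hP.1 hz') (congrArg Subtype.val hk :)
    have hM₀LP : M₀ ≤ L ⊔ P := by
      suffices h : M₀ ≤ (M₀ ⊓ L) ⊔ P from h.trans (sup_le_sup_right inf_le_right _)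
      rw [← relIndex_eq_one]
      by_contra hne
      obtain ⟨s, hs, hsd⟩ := Nat.exists_prime_and_dvd hne
      haveI : Fact s.Prime := ⟨hs⟩
      by_cases hsp : s = p
      · subst hsp
        refine hPi ((hsd.trans (relIndex_dvd_of_le_left M₀ le_sup_right)).trans ?_)
        rw [← relIndex_mul_relIndex P M₀ H hPM₀ hM₀H]
        exact dvd_mul_right _ _
      · obtain ⟨T, -, hTM, hTs, hTi⟩ := CfsgLib.Fusion.exists_le_not_dvd_relIndex (p := s)
          (IsPGroup.of_bot (G := G) (p := s)) (bot_le (a := M₀))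
        have hTL : T ≤ M₀ ⊓ L := fun m hm => by
          obtain ⟨k, hk⟩ := hM₀ m (hTM hm)
          obtain ⟨j, hj⟩ := hTs ⟨m, hm⟩
          refine mem_inf.2 ⟨hTM hm, ?_⟩
          have hco : (p ^ k).Coprime (orderOf m) :=
            (Nat.Coprime.pow _ _ ((Nat.coprime_primes hp.out hs).2 fun e => hsp e.symm)).coprime_dvd_right
              (orderOf_dvd_of_pow_eq_one (congrArg Subtype.val hj :))
          obtain ⟨i, hi⟩ := exists_pow_eq_self_of_coprime hco
          rw [← hi]; exact pow_mem hk i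
        exact hTi (hsd.trans (relIndex_dvd_of_le_left M₀ (hTL.trans le_sup_left)))
    intro h hh
    have hhall : IsHallIn {q | q = p} P M₀ := by
      refine ⟨hPM₀, fun q hq hd => ?_, fun q hq hd hqp => ?_⟩
      · obtain ⟨k, hk⟩ := IsPGroup.iff_card.1 hPp
        rw [hk] at hd
        exact (Nat.prime_dvd_prime_iff_eq hq hp.out).1 (hq.dvd_of_dvd_pow hd)
      · rw [show q = p from hqp] at hd
        refine hPi (hd.trans ?_)
        rw [← relIndex_mul_relIndex P M₀ H hPM₀ hM₀H]
        exact dvd_mul_right _ _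
    have hsup := ZLen.le_sup_normalizer hhall
      (CfsgLib.Coprime.isSolvable_of_le hM₀H hz.sol) hM₀H hHM₀ hh
    exact sup_le (hM₀LP.trans (sup_le le_sup_left (hPN.trans le_sup_right))) le_sup_right hsup
  -- the `p'`-part of `N`
  have hAN : A ≤ normalizer (N : Set G) := CfsgLib.Coprime.inf_le_normalizer hAH
    (hAP.trans le_normalizer)
  obtain ⟨D, hD, hAD⟩ := CfsgLib.PGroup.exists_invariant_hall hAN
    (hcop.coprime_dvd_right (card_dvd_of_le inf_le_left))
    (CfsgLib.Coprime.isSolvable_of_le inf_le_left hz.sol) {q | q ≠ p}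
  have hpD : ¬ p ∣ Nat.card D := fun h => hD.2.1 p hp.out h rfl
  have hND : N ≤ P ⊔ D := by
    rw [← relIndex_eq_one]
    by_contra hne
    obtain ⟨s, hs, hsd⟩ := Nat.exists_prime_and_dvd hne
    by_cases hsp : s = p
    · subst hsp
      refine hPi ((hsd.trans (relIndex_dvd_of_le_left N le_sup_left)).trans ?_)
      rw [← relIndex_mul_relIndex P N H hPN inf_le_left]
      exact dvd_mul_right _ _
    · exact hD.2.2 s hs (hsd.trans (relIndex_dvd_of_le_left N le_sup_right)) hsp
  have hDN : D ≤ N := hD.1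
  have hDfix : D ⊓ centralizer ({x} : Set G) = ⊥ := le_bot_iff.1 ((le_inf
    ((inf_le_inf_right _ (hDN.trans inf_le_left)).trans hfix.le) inf_le_left).trans
    (inf_eq_bot_of_isPGroup hypg hpD).le)
  have key : ∀ C : Subgroup G, C ≤ P → N ≤ normalizer (C : Set G) → L ≤ normalizer (C : Set G) →
      PX ≤ C → y ∈ C := by
    intro C hCP hNC hLC hXC
    by_contra hyC
    have hPC : P = C ⊔ zpowers y := le_antisymm
      (hPsplit.ge.trans (sup_le_sup_right hXC _)) (sup_le hCP hyP')
    have hxy : x * y * x⁻¹ = y := by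
      rw [← mem_centralizer_singleton_iff.1 hyx, mul_inv_cancel_right]
    have hxC : ∀ c ∈ C, x * c * x⁻¹ ∈ C := fun c hc => by
      have h1 : c * x * c⁻¹ * x⁻¹ ∈ C := hXC (commutatorElement_def c x ▸
        commutator_mem_commutator (hCP hc) (mem_zpowers x))
      have h2 := mul_mem (inv_mem h1) hc
      simpa [mul_assoc] using h2
    have hdy : ∀ d ∈ D, d * y * d⁻¹ * y⁻¹ ∈ C := by
      intro d hd
      have hxD : ∀ e ∈ D, x * e * x⁻¹ ∈ D := fun e he =>
        (mem_normalizer_iff.1 (hAD (mem_zpowers x)) e).1 he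
      let f : D → D := fun e => ⟨(e : G)⁻¹ * (x * e * x⁻¹), mul_mem (inv_mem e.2) (hxD e e.2)⟩
      have hinj : Function.Injective f := fun e₁ e₂ h => by
        have h' : (e₁ : G)⁻¹ * (x * e₁ * x⁻¹) = (e₂ : G)⁻¹ * (x * e₂ * x⁻¹) := congrArg Subtype.val h
        have h4 : x * ((e₁ : G) * (e₂ : G)⁻¹) * x⁻¹ = (e₁ : G) * (e₂ : G)⁻¹ := by
          have e1 : x * (e₁ : G) * x⁻¹ = (e₁ : G) * ((e₂ : G)⁻¹ * (x * e₂ * x⁻¹)) := by
            rw [← h']; group
          calc x * ((e₁ : G) * (e₂ : G)⁻¹) * x⁻¹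
              = (x * (e₁ : G) * x⁻¹) * (x * (e₂ : G) * x⁻¹)⁻¹ := by group
            _ = _ := by rw [e1]; group
        have h3 : (e₁ : G) * (e₂ : G)⁻¹ ∈ D ⊓ centralizer ({x} : Set G) :=
          mem_inf.2 ⟨mul_mem e₁.2 (inv_mem e₂.2),
            mem_centralizer_singleton_iff.2 (mul_inv_eq_iff_eq_mul.1 h4).symm⟩
        rw [hDfix, mem_bot, mul_inv_eq_one] at h3
        exact Subtype.ext h3
      obtain ⟨e, he⟩ := Finite.injective_iff_surjective.1 hinj ⟨d, hd⟩
      have he' : (e : G)⁻¹ * (x * e * x⁻¹) = d := congrArg Subtype.val he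
      have heN : (e : G) ∈ N := hDN e.2
      obtain ⟨c, hc, w, hw, hcw⟩ := CfsgLib.Coprime.mem_sup_exists
        (zpowers_le.2 ((hPN.trans hNC) hyP)) (hPC.le
          ((mem_normalizer_iff.1 (mem_inf.1 heN).2 y).1 hyP))
      have hxw : x * w * x⁻¹ = w := by
        obtain ⟨i, rfl⟩ := mem_zpowers_iff.1 hw
        rw [← conj_zpow, hxy]
      have h1 : (x * e * x⁻¹) * y * (x * e * x⁻¹)⁻¹ = (x * c * x⁻¹) * w := by
        calc (x * e * x⁻¹) * y * (x * e * x⁻¹)⁻¹ = x * (e * (x⁻¹ * y * x) * (e : G)⁻¹) * x⁻¹ := by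
              group
          _ = x * (e * y * (e : G)⁻¹) * x⁻¹ := by
              rw [show x⁻¹ * y * x = y by rw [mul_assoc, mem_centralizer_singleton_iff.1 hyx,
                inv_mul_cancel_left]]
          _ = x * c * x⁻¹ * (x * w * x⁻¹) := by rw [← hcw]; group
          _ = x * c * x⁻¹ * w := by rw [hxw]
      have h2 : d * y * d⁻¹ * y⁻¹ = (e : G)⁻¹ * (x * c * x⁻¹ * c⁻¹) * e := by
        calc d * y * d⁻¹ * y⁻¹
            = (e : G)⁻¹ * ((x * e * x⁻¹) * y * (x * e * x⁻¹)⁻¹) * e * y⁻¹ := by rw [← he']; group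
          _ = (e : G)⁻¹ * (x * c * x⁻¹ * c⁻¹ * (c * w)) * e * y⁻¹ := by rw [h1]; group
          _ = _ := by rw [hcw]; group
      rw [h2]
      exact (mem_normalizer_iff''.1 (hNC heN) _).1 (mul_mem (hxC c hc) (inv_mem hc))
    set K := (L ⊔ C) ⊔ D with hK
    have hCK : C ≤ K := le_sup_right.trans le_sup_left
    have hKH : K ≤ H := sup_le (sup_le hLH (hCP.trans hP.1)) (hDN.trans inf_le_left)
    have hyK : y ∈ normalizer (K : Set G) := by
      refine CfsgLib.Coprime.conjBy_eq_self_iff.1 (eq_of_le_of_card_ge ?_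
        (CfsgLib.Coprime.card_conjBy y K).ge)
      rw [hK]
      simp only [CfsgLib.Coprime.conjBy, Subgroup.map_sup]
      refine sup_le (sup_le ?_ ?_) ?_
      · rintro _ ⟨l, hl, rfl⟩
        exact mem_sup_left (mem_sup_left ((mem_normalizer_iff.1 (hHL hyH) l).1 hl))
      · rintro _ ⟨c, hc, rfl⟩
        exact mem_sup_left (mem_sup_right ((mem_normalizer_iff.1 ((hPN.trans hNC) hyP) c).1 hc))
      · rintro _ ⟨d, hd, rfl⟩
        show y * d * y⁻¹ ∈ K
        rw [show y * d * y⁻¹ = (d * y * d⁻¹ * y⁻¹)⁻¹ * d by group]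
        exact mul_mem (inv_mem (hCK (hdy d hd))) (mem_sup_right hd)
    have hHK : H ≤ K ⊔ zpowers y := hsplit.trans (sup_le
      ((le_sup_left.trans le_sup_left).trans le_sup_left)
      (hND.trans (sup_le (hPC.le.trans (sup_le_sup_right hCK _))
        (le_sup_right.trans le_sup_left))))
    have hd := TauTwo.derived_le_of_factor (hHK.trans (sup_le le_normalizer (zpowers_le.2 hyK))) hKH
      (zpowers_le.2 hyH) hHK
    have hyK' : y ∈ K := by
      refine (hd.trans (sup_le le_rfl ?_)) hyd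
      refine le_trans (commutator_le.2 fun a ha b hb => ?_) bot_le
      obtain ⟨i, rfl⟩ := mem_zpowers_iff.1 ha
      obtain ⟨j, rfl⟩ := mem_zpowers_iff.1 hb
      exact mem_bot.2 (commutatorElement_eq_one_iff_mul_comm.2 (by rw [← zpow_add, ← zpow_add, add_comm]))
    have hPK : P ≤ K := hPC.le.trans (sup_le hCK (zpowers_le.2 hyK'))
    have h3 : Nat.card K ∣ Nat.card D * (Nat.card C * Nat.card L) := by
      have e : K = D ⊔ (C ⊔ L) := by rw [hK, sup_comm (L ⊔ C), sup_comm L C]
      rw [e]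
      refine (CfsgLib.Coprime.card_sup_dvd_of_le_normalizer ?_).trans (Nat.mul_dvd_mul_left _
        (CfsgLib.Coprime.card_sup_dvd_of_le_normalizer (hCP.trans (hP.1.trans hHL))))
      exact CfsgLib.Coprime.sup_le_normalizer (hDN.trans hNC) ((hDN.trans inf_le_left).trans hHL)
    have hco : ∀ W : Subgroup G, ¬ p ∣ Nat.card W → (Nat.card P).Coprime (Nat.card W) := fun W hW => by
      obtain ⟨k, hk⟩ := IsPGroup.iff_card.1 hPp
      rw [hk]
      exact (hp.out.coprime_iff_not_dvd.2 hW).pow_left k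
    have h4 : Nat.card P ∣ Nat.card C := (hco L hpL).dvd_of_dvd_mul_right
      ((hco D hpD).dvd_of_dvd_mul_left ((card_dvd_of_le hPK).trans h3))
    exact hyC ((eq_of_le_of_card_ge hCP (Nat.le_of_dvd Nat.card_pos h4)).ge hyP)
  have hHN : ∀ C : Subgroup G, C ≤ P → N ≤ normalizer (C : Set G) → L ≤ normalizer (C : Set G) →
      H ≤ normalizer (C : Set G) := fun C _ h1 h2 => hsplit.trans (sup_le h2 h1)
  have hyC : y ∈ P ⊓ centralizer (L : Set G) := by
    refine key _ inf_le_left (CfsgLib.Coprime.inf_le_normalizer inf_le_right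
      ((inf_le_left.trans hHL).trans (CfsgLib.Coprime.normalizer_le_normalizer_centralizer L)))
      ?_ (le_inf (le_sup_left.trans hPsplit.le) hPXL)
    exact (le_centralizer_iff.1 inf_le_right).trans (CfsgLib.Coprime.centralizer_le_normalizer_self _)
  refine ⟨hsplit.trans (sup_le ((le_centralizer_iff.1 ?_).trans
    (CfsgLib.Coprime.centralizer_le_normalizer_self _)) inf_le_right), hyP, fun hcyc => ?_⟩
  · exact hPsplit.ge.trans (sup_le hPXL (zpowers_le.2 (mem_inf.1 hyC).2))
  · -- a cyclic `P` is central in `P ⋊ A`, so `y ∈ ⊥`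
    have hPX1 : PX = ⊥ := by
      haveI := hcyc
      have hPc : IsMulCommutative P := inferInstance
      have h := CfsgLib.Coprime.centralizer_inf_commutator_eq_bot hPc hAP hcopP
      by_contra hne
      obtain ⟨s, W, hs, hW, hWc⟩ := Lines.exists_prime_line hne
      have hsp : s = p := by
        obtain ⟨k, hk⟩ := IsPGroup.iff_card.1 hPp
        have hd : s ∣ Nat.card P :=
          hWc ▸ card_dvd_of_le (hW.trans (le_sup_left.trans hPsplit.le))
        rw [hk] at hd
        exact (Nat.prime_dvd_prime_iff_eq hs hp.out).1 (hs.dvd_of_dvd_pow hd)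
      subst hsp
      have hyW : W ≤ zpowers y := TauTwo.eq_of_cyclic (q := s) hcyc hyP'
        (hW.trans (le_sup_left.trans hPsplit.le))
        (fun z hz' => orderOf_dvd_iff_pow_eq_one.1
          ((orderOf_dvd_natCard _ hz').trans (by rw [Nat.card_zpowers, hy])))
        (fun z hz' => orderOf_dvd_iff_pow_eq_one.1 (hWc ▸ orderOf_dvd_natCard W hz'))
        (fun e => hp.out.ne_one (by rw [← hy, zpowers_eq_bot.1 e, orderOf_one]))
      refine TauTwo.line_ne_bot hWc (le_bot_iff.1 ((le_inf (le_inf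
        (hW.trans (le_sup_left.trans hPsplit.le)) (hyW.trans ?_)) hW).trans h.le))
      exact le_centralizer_iff.1 hyA
    have h := key ⊥ bot_le (by rw [normalizer_eq_top]; exact le_top)
      (by rw [normalizer_eq_top]; exact le_top) hPX1.le
    exact hp.out.ne_one (by rw [← hy, mem_bot.1 h, orderOf_one])

end CfsgLib.CFun.PrimeFixed
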