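import Cfsg.Agent.Lib.CFun.OddKappaPair
import Cfsg.Agent.Lib.CFun.OddPrimeFixedSylow
import Cfsg.Agent.Lib.CFun.OddSigmaCosets

/-!
# `M'` and the position of `M_σ ∩ C(K)`
-/

set_option autoImplicit false
set_option linter.style.haveILetI false
set_option linter.unusedSectionVars false

open Subgroup
open scoped commutatorElement
open CfsgLib.Coprime (conjBy IsSylowIn IsHallIn)

namespace CfsgLib.CFun.KappaDerived

open CfsgLib.CFun.TauTwo CfsgLib.CFun.Lines CfsgLib.CFun.Kappa CfsgLib.CFun.Partner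

universe u

variable {G : Type u} [Group G] [Finite G]

variable (hG : Cfsg.IsMinSimpleOddOrder G) {M K U : Subgroup G} (hM : IsCoatom M)
  (d : Cfsg.IsSigmaDecomposition M K U) (hK1 : K ≠ ⊥)
include hG hM d hK1

/-- Every element of `U` is a commutator of `U` with a given nontrivial element of `K`. -/
theorem exists_commutator {k : G} (hk : k ∈ K) (hk1 : k ≠ 1) {u : G} (hu : u ∈ U) :
    ∃ v ∈ U, ⁅v, k⁆ = u := by
  have hconj : ∀ v ∈ U, k * v * k⁻¹ ∈ U := fun v hv => (mem_normalizer_iff.1 (d.normal hk) v).1 hv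
  let f : U → U := fun v => ⟨⁅(v : G), k⁆, by
    rw [commutatorElement_def, show (v : G) * k * (v : G)⁻¹ * k⁻¹ = v * (k * (v : G)⁻¹ * k⁻¹) by group]
    exact mul_mem v.2 (hconj _ (inv_mem v.2))⟩
  have hinj : Function.Injective f := fun v w h => by
    have h' : ⁅(v : G), k⁆ = ⁅(w : G), k⁆ := congrArg Subtype.val h
    simp only [commutatorElement_def, mul_left_inj] at h'
    have h3 : (w : G)⁻¹ * v ∈ U ⊓ centralizer ({k} : Set G) := by
      refine mem_inf.2 ⟨mul_mem (inv_mem w.2) v.2, mem_centralizer_singleton_iff.2 ?_⟩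
      calc (w : G)⁻¹ * v * k = (w : G)⁻¹ * ((v : G) * k * (v : G)⁻¹) * v := by group
        _ = k * ((w : G)⁻¹ * v) := by rw [h']; group
    rw [Decomp.fpf hG hM d hk hk1, mem_bot, inv_mul_eq_one] at h3
    exact Subtype.ext h3.symm
  obtain ⟨v, hv⟩ := Finite.injective_iff_surjective.1 hinj ⟨u, hu⟩
  exact ⟨v, v.2, congrArg Subtype.val hv⟩

theorem sigmaCore_le_derived : Cfsg.sigmaCore M ≤ ⁅M, M⁆ := by
  have hE := Decomp.compl hG hM d
  conv_lhs => rw [← commutator_compl hG hM hE]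
  exact commutator_mono (map_subtype_le _) hE.1

/-- `M' = U M_σ`. -/
theorem derived_eq : ⁅M, M⁆ = U ⊔ Cfsg.sigmaCore M := by
  obtain ⟨k, hk, hk1⟩ := (bot_or_exists_ne_one K).resolve_left hK1
  have hUσM : U ⊔ Cfsg.sigmaCore M ≤ M := sup_le d.compl.1 (map_subtype_le _)
  refine le_antisymm ?_ (sup_le (fun u hu => ?_) (sigmaCore_le_derived hG hM d hK1))
  · have hMle : M ≤ (U ⊔ Cfsg.sigmaCore M) ⊔ K := fun m hm => by
      obtain ⟨u, hu, b, hb, rfl⟩ := d.compl.2.2.2 m hm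
      exact mul_mem (mem_sup_left (mem_sup_left hu))
        ((sup_le le_sup_right (le_sup_right.trans le_sup_left) :
          K ⊔ Cfsg.sigmaCore M ≤ (U ⊔ Cfsg.sigmaCore M) ⊔ K) hb)
    have hn : M ≤ normalizer ((U ⊔ Cfsg.sigmaCore M : Subgroup G) : Set G) := fun m hm => by
      obtain ⟨u, hu, b, hb, rfl⟩ := d.compl.2.2.2 m hm
      exact mul_mem (le_normalizer (mem_sup_left hu)) (sup_le (CfsgLib.Coprime.sup_le_normalizer
        d.normal (d.hall.1.trans (TauTwo.sigmaCore_normal hG M)))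
        (le_sup_right.trans le_normalizer) hb)
    refine (derived_le_of_factor hn hUσM d.hall.1 hMle).trans (sup_le le_rfl ?_)
    refine le_trans (commutator_le.2 fun x hx y hy => ?_) bot_le
    exact mem_bot.2 (commutatorElement_eq_one_iff_mul_comm.2 (hall_commute hG hM d.hall hx hy))
  · obtain ⟨v, hv, e⟩ := exists_commutator hG hM d hK1 hk hk1 hu
    exact e ▸ commutator_mem_commutator (d.compl.1 hv) (d.hall.1 hk)

/-- `M_σ ∩ C(K) ≤ M''`. -/
theorem fixed_le_second_derived :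
    Cfsg.sigmaCore M ⊓ centralizer (K : Set G) ≤ ⁅⁅M, M⁆, ⁅M, M⁆⁆ := by
  have hσ := sigmaCore_le_derived hG hM d hK1
  have hE := Decomp.compl hG hM d
  by_cases hU : U = ⊥
  · rw [hU, sup_bot_eq] at hE
    exact (fixed_le_derived hG hM hE).trans (commutator_mono hσ hσ)
  · obtain ⟨-, hfix⟩ := nilpotent_of_U_ne_bot hG hM d hU
    have hcop : (Nat.card U).Coprime (Nat.card (Cfsg.sigmaCore M)) :=
      (compl_coprime hG hM hE).coprime_dvd_left (card_dvd_of_le le_sup_right)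
    have h := CfsgLib.Coprime.commutator_sup_centralizer
      (d.compl.1.trans (TauTwo.sigmaCore_normal hG M)) hcop (Or.inr (sigmaCore_solvable hG hM))
    rw [hfix, sup_bot_eq] at h
    refine inf_le_left.trans (h.ge.trans (commutator_mono hσ ?_))
    rw [derived_eq hG hM d hK1]
    exact le_sup_left

/-- A normal Sylow subgroup of `M_σ` containing `M_σ ∩ C(K)`, when `U = 1`. -/
theorem exists_sylow_of_bot (hU : U = ⊥) :
    (Nat.card ↥(Cfsg.sigmaCore M ⊓ centralizer (K : Set G))).Prime ∧ ∃ P : Subgroup G,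
      IsSylowIn (Nat.card ↥(Cfsg.sigmaCore M ⊓ centralizer (K : Set G))) P (Cfsg.sigmaCore M) ∧
      M ≤ normalizer (P : Set G) ∧ Cfsg.sigmaCore M ⊓ centralizer (K : Set G) ≤ P ∧
      ¬ IsCyclic P := by
  obtain ⟨N, hN, hNK, hNH⟩ := exists_partner hG hM d.hall hK1
  obtain ⟨-, -, -, -, hp⟩ := Pair.prime_of_pair hG hM d hK1 hU hN hNK hNH
  refine ⟨hp, ?_⟩
  set Ks := Cfsg.sigmaCore M ⊓ centralizer (K : Set G) with hKs
  haveI : Fact (Nat.card Ks).Prime := ⟨hp⟩
  have hE := Decomp.compl hG hM d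
  rw [hU, sup_bot_eq] at hE
  obtain ⟨r, W, hr, hWK, hWc⟩ := exists_prime_line hK1
  haveI : Fact r.Prime := ⟨hr⟩
  obtain ⟨x, hx, hx1, hxr, -⟩ := exists_gen hWc
  obtain ⟨y, hy, hy1, hyp, hygen⟩ := exists_gen (t := Nat.card Ks) (W := Ks) rfl
  have hfix : Cfsg.sigmaCore M ⊓ centralizer ({x} : Set G) = zpowers y := by
    rw [fixed_eq hG hM d.hall (hWK hx) hx1, hygen]
  haveI := TauTwo.isCyclic_line (p := Nat.card Ks) (B := Ks) rfl
  have hz : ZLen.ZHyp r x (Cfsg.sigmaCore M) K :=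
    { rP := hr
      mem := hWK hx
      ord := orderOf_eq_prime hxr hx1
      norm := d.hall.1.trans (TauTwo.sigmaCore_normal hG M)
      cop := compl_coprime hG hM hE
      sol := sigmaCore_solvable hG hM
      oddH := hG.1.of_dvd_nat (card_subgroup_dvd_card _)
      oddR := hG.1.of_dvd_nat (card_subgroup_dvd_card _)
      zg := by rw [hfix, hygen]; infer_instance
      eqH := commutator_compl hG hM hE }
  obtain ⟨P, hP, hσP, hyP, hnc⟩ := PrimeFixed.sylow_normal (p := Nat.card Ks) hz hfix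
    (by rw [← Nat.card_zpowers, hygen]) (fixed_le_derived hG hM hE hy)
  refine ⟨P, hP, fun m hm => ?_, hygen.ge.trans (zpowers_le.2 hyP), hnc⟩
  have hm' := TauTwo.sigmaCore_normal hG M hm
  obtain ⟨c, hc, e⟩ := hP.exists_conj (hP.conjBy hm')
  rw [CfsgLib.Coprime.conjBy_eq_self_iff.2 (hσP hc)] at e
  exact CfsgLib.Coprime.conjBy_eq_self_iff.1 e.symm

/-- `M_σ ∩ C(K) ≤ M_F`, and `M_F` is not cyclic. -/
theorem fixed_le_fittingHall : Cfsg.sigmaCore M ⊓ centralizer (K : Set G) ≤ Cfsg.fittingHallOf M ∧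
    ¬ IsCyclic (Cfsg.fittingHallOf M) := by
  by_cases hU : U = ⊥
  · obtain ⟨hp, P, hP, hMP, hKP, hnc⟩ := exists_sylow_of_bot hG hM d hK1 hU
    haveI : Fact (Nat.card ↥(Cfsg.sigmaCore M ⊓ centralizer (K : Set G))).Prime := ⟨hp⟩
    have hPM : P ≤ M := hP.1.trans (map_subtype_le _)
    have hPM' : P ≤ Cfsg.fittingHallOf M := by
      have hle : P.subgroupOf M ≤ Cfsg.fittingHall M := by
        refine le_sSup ⟨normal_subgroupOf_of_le_normalizer hMP, ?_, ?_⟩
        · exact (hP.isPGroup.of_equiv (subgroupOfEquivOfLe hPM).symm).isNilpotent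
        · rw [Nat.card_congr (subgroupOfEquivOfLe hPM).toEquiv]
          have hpσ : Nat.card ↥(Cfsg.sigmaCore M ⊓ centralizer (K : Set G)) ∈ Cfsg.sigma M :=
            (sigmaCore_hall hG hM).1.2.1 _ hp (card_dvd_of_le inf_le_left)
          have hi : ¬ Nat.card ↥(Cfsg.sigmaCore M ⊓ centralizer (K : Set G)) ∣ P.relIndex M := by
            rw [← relIndex_mul_relIndex P (Cfsg.sigmaCore M) M hP.1 (map_subtype_le _)]
            exact fun h => (hp.dvd_mul.1 h).elim (show ¬ _ from hP.toSylow.not_dvd_index)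
              ((sigmaCore_hall hG hM).1.2.2 _ hp hpσ)
          obtain ⟨j, hj⟩ := IsPGroup.iff_card.1 hP.isPGroup
          rw [hj]
          exact (hp.coprime_iff_not_dvd.2 hi).pow_left j
      intro z hz
      exact ⟨⟨z, hPM hz⟩, hle (mem_subgroupOf.2 hz), rfl⟩
    refine ⟨hKP.trans hPM', fun hc => hnc ?_⟩
    haveI := hc
    exact isCyclic_of_injective (inclusion hPM') (inclusion_injective _)
  · obtain ⟨hnil, hfix⟩ := nilpotent_of_U_ne_bot hG hM d hU
    rw [Cosets.fittingHallOf_eq hG hM hnil]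
    refine ⟨inf_le_left, fun hc => ?_⟩
    haveI := hc
    obtain ⟨z, hz⟩ := isCyclic_iff_exists_zpowers_eq_top.1 hc
    obtain ⟨k, hk, hk1⟩ := (bot_or_exists_ne_one K).resolve_left hK1
    have hpow : ∀ g ∈ normalizer (Cfsg.sigmaCore M : Set G), ∃ i : ℤ,
        g * z * g⁻¹ = (z : G) ^ i := by
      intro g hg
      have h1 : (⟨g * z * g⁻¹, (mem_normalizer_iff.1 hg _).1 z.2⟩ : Cfsg.sigmaCore M) ∈
          zpowers z := hz ▸ mem_top _
      obtain ⟨i, hi⟩ := mem_zpowers_iff.1 h1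
      exact ⟨i, (congrArg Subtype.val hi.symm :)⟩
    refine sigmaCore_ne_bot hG hM (le_bot_iff.1 ((le_inf le_rfl ?_).trans hfix.le))
    intro w hw
    have hgen : (⟨w, hw⟩ : Cfsg.sigmaCore M) ∈ zpowers z := hz ▸ mem_top _
    obtain ⟨n, hn⟩ := mem_zpowers_iff.1 hgen
    have hw' : w = (z : G) ^ n := (congrArg Subtype.val hn.symm :)
    refine mem_centralizer_iff.2 fun u hu => ?_
    obtain ⟨v, hv, e⟩ := exists_commutator hG hM d hK1 hk hk1 hu
    obtain ⟨i, hi⟩ := hpow v (TauTwo.sigmaCore_normal hG M (d.compl.1 hv))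
    obtain ⟨j, hj⟩ := hpow k (TauTwo.sigmaCore_normal hG M (d.hall.1 hk))
    have hcomm : (v * k) * z * (v * k)⁻¹ = (k * v) * z * (k * v)⁻¹ := by
      calc (v * k) * z * (v * k)⁻¹ = v * (k * z * k⁻¹) * v⁻¹ := by group
        _ = ((v * z * v⁻¹) ^ j) := by rw [hj, ← conj_zpow]
        _ = ((k * z * k⁻¹) ^ i) := by rw [hi, hj, ← zpow_mul, ← zpow_mul, mul_comm]
        _ = k * ((z : G) ^ i) * k⁻¹ := by rw [conj_zpow]
        _ = (k * v) * z * (k * v)⁻¹ := by rw [← hi]; group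
    have hz' : u * z = z * u := by
      rw [← e, commutatorElement_def]
      calc v * k * v⁻¹ * k⁻¹ * z
          = v * k * v⁻¹ * k⁻¹ * ((k * v) * ((k * v)⁻¹ * z * (k * v))) * (k * v)⁻¹ := by group
        _ = (v * k) * ((k * v)⁻¹ * z * (k * v)) * (v * k)⁻¹ * (v * k * v⁻¹ * k⁻¹) := by group
        _ = _ := by
          have h2 : (v * k) * ((k * v)⁻¹ * z * (k * v)) * (v * k)⁻¹ = z := by
            obtain ⟨l, hl⟩ := hpow (k * v)⁻¹ (TauTwo.sigmaCore_normal hG M
              (inv_mem (mul_mem (d.hall.1 hk) (d.compl.1 hv))))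
            rw [inv_inv] at hl
            rw [hl, ← conj_zpow, hcomm, conj_zpow, ← hl]; group
          rw [h2]
    rw [hw']
    exact ((show Commute u z from hz').zpow_right n).eq

end CfsgLib.CFun.KappaDerived
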