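import Cfsg.Agent.Lib.CFun.OddKappaDecomp
import Cfsg.Agent.Lib.CFun.OddFrobeniusAction

/-!
# The two maximal subgroups around `Z = K K*`

The maximal subgroups with a Hall `κ`-subgroup `K` such that `K K* = Z` are exactly two; one of
them has a nontrivial part `U`.
-/

set_option autoImplicit false
set_option linter.style.haveILetI false
set_option linter.unusedSectionVars false

open Subgroup
open scoped commutatorElement
open CfsgLib.Coprime (conjBy conjBy_conjBy conjBy_one mem_conjBy conj_mem_conjBy IsSylowIn IsHallIn)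

namespace CfsgLib.CFun.Partner

open CfsgLib.CFun.TauTwo CfsgLib.CFun.TauOne CfsgLib.CFun.Disjoint CfsgLib.CFun.ElemCent
open CfsgLib.CFun.Lines CfsgLib.CFun.Kappa

universe u

variable {G : Type u} [Group G] [Finite G]

/-- A maximal subgroup `N` with a nontrivial Hall `κ(N)`-subgroup `K` such that `Z = K K*`. -/
structure Member (Z N : Subgroup G) : Prop where
  coatom : IsCoatom N
  exists_hall : ∃ K : Subgroup G, Cfsg.IsPiHallOf (Cfsg.kappa N) K N ∧ K ≠ ⊥ ∧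
    K ⊔ (Cfsg.sigmaCore N ⊓ centralizer (K : Set G)) = Z

variable (hG : Cfsg.IsMinSimpleOddOrder G)
include hG

section

variable {M K U : Subgroup G} (hM : IsCoatom M)
include hM

/-- A line outside `σ(M) ∪ κ(M)` of rank one acts regularly on `M_σ`. -/
theorem line_regular {w : ℕ} [hw : Fact w.Prime] {W : Subgroup G} (hWM : W ≤ M)
    (hWc : Nat.card W = w) (hwσ : w ∉ Cfsg.sigma M) (hwκ : w ∉ Cfsg.kappa M)
    (hr1 : Cfsg.PRankLE w 1 M) : Cfsg.sigmaCore M ⊓ centralizer (W : Set G) = ⊥ := by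
  by_contra hne
  by_cases hd : w ∣ Nat.card ↥(⁅M, M⁆ : Subgroup G)
  · exact hne (TauThree.tau3_line_regular hG hM ⟨hw.out, hwσ, hd, hr1⟩ hWM hWc)
  · exact hwκ (mem_kappa hG hM ⟨hw.out, hwσ, hWc ▸ card_dvd_of_le hWM, hd, hr1⟩ hWM hWc hne)

variable (d : Cfsg.IsSigmaDecomposition M K U)
include d

/-- For `U ≠ 1`, `M_σ` is nilpotent and `U` has no common fixed point on it. -/
theorem nilpotent_of_U_ne_bot (hU : U ≠ ⊥) :
    Group.IsNilpotent (Cfsg.sigmaCore M) ∧ Cfsg.sigmaCore M ⊓ centralizer (U : Set G) = ⊥ := by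
  obtain ⟨w, W, hw, hWU, hWc⟩ := exists_prime_line hU
  haveI : Fact w.Prime := ⟨hw⟩
  have hE := Decomp.compl hG hM d
  obtain ⟨hwσ, hwκ⟩ := Decomp.primes hG hM d hw (hWc ▸ card_dvd_of_le hWU)
  have hWM : W ≤ M := hWU.trans d.compl.1
  rcases tau_or_rank_one hG hM hw hwσ with hwt | hw1
  · obtain ⟨A, hAE, hAe, hA2⟩ := Compl.exists_elementary_compl hG hM hE hwt
    have hAM : A ≤ M := hAE.trans hE.1
    have hAU : A ≤ U := by
      haveI : (U.subgroupOf (K ⊔ U)).Normal :=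
        normal_subgroupOf_of_le_normalizer (Decomp.le_normalizer_U hG hM d)
      have h1 : A.subgroupOf (K ⊔ U) ≤ U.subgroupOf (K ⊔ U) := le_normal_of_coprime_index (by
        rw [Nat.card_congr (subgroupOfEquivOfLe hAE).toEquiv, hA2]
        refine (hw.coprime_iff_not_dvd.2 fun hd => ?_).pow_left 2
        refine (Decomp.hall_U hG hM d).2.2 w hw ⟨hw, hwκ, hwσ⟩ (hd.trans ?_)
        exact Dvd.intro _ (relIndex_mul_relIndex U (K ⊔ U) M le_sup_right hE.1))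
      exact fun x hx => h1 (show (⟨x, hAE hx⟩ : ↥(K ⊔ U)) ∈ A.subgroupOf (K ⊔ U) from hx)
    exact ⟨tau_nilpotent hG hM hwt hAM hAe hA2, le_bot_iff.1
      ((inf_le_inf_left _ (centralizer_le hAU)).trans (tau_fixed_eq_bot hG hM hwt hAM hAe hA2).le)⟩
  · have hfix := line_regular hG hM hWM hWc hwσ hwκ hw1
    refine ⟨?_, le_bot_iff.1 ((inf_le_inf_left _ (centralizer_le hWU)).trans hfix.le)⟩
    obtain ⟨a, ha, -, haw, haW⟩ := exists_gen hWc
    exact Decomp.isNilpotent_of_fpf hw haw (sigmaCore_normal hG M (hWM ha))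
      (by rw [← centralizer_zpowers, haW]; exact hfix)

/-- For `U ≠ 1` the order of `K` is prime. -/
theorem prime_of_U_ne_bot (hK1 : K ≠ ⊥) (hU : U ≠ ⊥) :
    (Nat.card K).Prime ∧
      Nat.card (Cfsg.sigmaCore M) =
        Nat.card ↥(Cfsg.sigmaCore M ⊓ centralizer (K : Set G)) ^ Nat.card K := by
  obtain ⟨hnil, hfix⟩ := nilpotent_of_U_ne_bot hG hM d hU
  have hE := Decomp.compl hG hM d
  obtain ⟨h1, h2, -⟩ := FrobFix.frobenius_prime_action (K := U) (R := K) (M := Cfsg.sigmaCore M) hU hK1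
    (le_bot_iff.1 ((inf_le_inf_left _ le_sup_left).trans d.compl.2.2.1.le)) d.normal
    (fun k hk hk1 => Decomp.fpf hG hM d hk hk1) (sigmaCore_ne_bot hG hM) hnil
    (d.compl.1.trans (sigmaCore_normal hG M)) (d.hall.1.trans (sigmaCore_normal hG M))
    (sup_comm K U ▸ compl_coprime hG hM hE) hfix
    (fun k hk hk1 => fixed_eq hG hM d.hall hk hk1)
  exact ⟨h1, h2⟩

end

/-- The fixed group of `K` lies in a Hall `κ`-subgroup of the maximal subgroup over the normalizer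
of a line of `K`. -/
theorem fixed_le_kappa_hall {M K N : Subgroup G} (hM : IsCoatom M)
    (hK : Cfsg.IsPiHallOf (Cfsg.kappa M) K M) {p : ℕ} [hp : Fact p.Prime] {P : Subgroup G}
    (hPK : P ≤ K) (hPc : Nat.card P = p) (hN : IsCoatom N) (hNP : normalizer (P : Set G) ≤ N) :
    (∀ t : ℕ, t.Prime → t ∣ Nat.card ↥(Cfsg.sigmaCore M ⊓ centralizer (K : Set G)) →
        t ∈ Cfsg.kappa N) ∧
      ∃ KN : Subgroup G, Cfsg.IsPiHallOf (Cfsg.kappa N) KN N ∧
        Cfsg.sigmaCore M ⊓ centralizer (K : Set G) ≤ KN := by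
  obtain ⟨U, d⟩ := Decomp.exists_decomp hG hM hK
  obtain ⟨hpN, hPσ, hnc⟩ := Decomp.line_le_sigmaCore hG hM d hPK hPc hN hNP
  set Ks := Cfsg.sigmaCore M ⊓ centralizer (K : Set G) with hKs
  have hKsN : Ks ≤ N := (inf_le_right.trans (centralizer_le hPK)).trans
    ((CfsgLib.Coprime.centralizer_le_normalizer_self _).trans hNP)
  have hprimes : ∀ t : ℕ, t.Prime → t ∣ Nat.card Ks → t ∈ Cfsg.kappa N := by
    intro t ht htd
    haveI : Fact t.Prime := ⟨ht⟩
    obtain ⟨Y, hY, hYc⟩ := exists_line_of_dvd htd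
    have htM : t ∈ Cfsg.sigma M :=
      (sigmaCore_hall hG hM).1.2.1 t ht (htd.trans (card_dvd_of_le inf_le_left))
    have htN : t ∉ Cfsg.sigma N := not_sigma hG hM hN hnc htM
    have hYN : Y ≤ N := hY.trans hKsN
    have hYP : Y ≤ centralizer (P : Set G) := (hY.trans inf_le_right).trans (centralizer_le hPK)
    have hPY : P ≤ Cfsg.sigmaCore N ⊓ centralizer (Y : Set G) :=
      le_inf hPσ (le_centralizer_iff.1 hYP)
    have hfixY : Cfsg.sigmaCore N ⊓ centralizer (Y : Set G) ≠ ⊥ := fun e =>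
      line_ne_bot hPc (le_bot_iff.1 (e ▸ hPY))
    have ht1 : Cfsg.PRankLE t 1 N := by
      rcases tau_or_rank_one hG hN ht htN with htt | ht1
      swap
      · exact ht1
      exfalso
      obtain ⟨F, hF, hYF⟩ := exists_complement hG hN hYN fun s hs hsd => by
        rw [hYc] at hsd; rw [(Nat.prime_dvd_prime_iff_eq hs ht).1 hsd]; exact htN
      obtain ⟨B, hBF, hBe, hB2⟩ := Compl.exists_elementary_compl hG hN hF htt
      obtain ⟨⟨-, hsub⟩, -, huniq⟩ := Cfsg.Agent.S1418.result hG N hN F hF t htt B ⟨hBF, hBe, hB2⟩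
      exact hnc.ne ((unique_of_fixed hG hM (kappa_tau1 hG hM (hK.2.1 p hp.out
        (hPc ▸ card_dvd_of_le hPK))) (hPK.trans hK.1) hPc hYc (le_inf (hY.trans inf_le_left) hYP)).2
          N hN (huniq Y (hsub Y hYF hYc) hYc hfixY).1)
    by_cases hd : t ∣ Nat.card ↥(⁅N, N⁆ : Subgroup G)
    · exact absurd (TauThree.tau3_line_regular hG hN ⟨ht, htN, hd, ht1⟩ hYN hYc) hfixY
    · exact mem_kappa hG hN ⟨ht, htN, hYc ▸ card_dvd_of_le hYN, hd, ht1⟩ hYN hYc hfixY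
  obtain ⟨KN, hKN, hle⟩ := IsHallIn.exists_ge (π := Cfsg.kappa N) (ms_solvable hG hN.1) hKsN hprimes
  exact ⟨hprimes, KN, ⟨hKN.1, hKN.2.1, fun q hq hqκ hqd => hKN.2.2 q hq hqd hqκ⟩, hle⟩

/-- `M_σ ∩ C(K)` is cyclic. -/
theorem fixed_cyclic {M K : Subgroup G} (hM : IsCoatom M)
    (hK : Cfsg.IsPiHallOf (Cfsg.kappa M) K M) (hK1 : K ≠ ⊥) :
    IsCyclic ↥(Cfsg.sigmaCore M ⊓ centralizer (K : Set G)) := by
  obtain ⟨p, P, hp, hPK, hPc⟩ := exists_prime_line hK1
  haveI : Fact p.Prime := ⟨hp⟩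
  obtain ⟨N, hN, hNP⟩ := exists_coatom_normalizer hG (line_ne_bot hPc)
    (ms_isPGroup_ne_top hG (IsPGroup.of_card (p := p) (n := 1) (by rw [hPc, pow_one])))
  obtain ⟨-, KN, hKN, hle⟩ := fixed_le_kappa_hall hG hM hK hPK hPc hN hNP
  haveI := hall_cyclic hG hN hKN
  exact isCyclic_of_injective (inclusion hle) (inclusion_injective _)

variable {Z M N : Subgroup G}

/-- `Z` is abelian. -/
theorem Member.commute (h : Member Z M) {a b : G} (ha : a ∈ Z) (hb : b ∈ Z) : a * b = b * a := by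
  obtain ⟨K, hK, hK1, rfl⟩ := h.exists_hall
  haveI := fixed_cyclic hG h.coatom hK hK1
  set Ks := Cfsg.sigmaCore M ⊓ centralizer (K : Set G) with hKs
  have hKK : K ⊔ Ks ≤ centralizer ((K ⊔ Ks : Subgroup G) : Set G) := by
    refine sup_le (le_centralizer_iff.1 (sup_le (fun x hx => mem_centralizer_iff.2 fun y hy => ?_)
      inf_le_right)) (le_centralizer_iff.1 (sup_le (le_centralizer_iff.1 inf_le_right)
        fun x hx => mem_centralizer_iff.2 fun y hy => ?_))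
    · exact hall_commute hG h.coatom hK hy hx
    · exact (congrArg Subtype.val (mul_comm' (⟨y, hy⟩ : Ks) ⟨x, hx⟩) :)
  exact mem_centralizer_iff.1 (hKK hb) a ha

/-- A member contains `Z`. -/
theorem Member.le (h : Member Z M) : Z ≤ M := by
  obtain ⟨K, hK, -, rfl⟩ := h.exists_hall
  exact sup_le hK.1 (inf_le_left.trans (map_subtype_le _))

/-- Elements of `Z` at a prime of `σ(M)` lie in `M_σ ∩ C(K)`, the others in `K`. -/
theorem split_mem {M K : Subgroup G} (hM : IsCoatom M) (hK : Cfsg.IsPiHallOf (Cfsg.kappa M) K M)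
    {t : ℕ} (ht : t.Prime) {z : G} (hz : z ∈ K ⊔ (Cfsg.sigmaCore M ⊓ centralizer (K : Set G)))
    (hzt : ∃ n : ℕ, z ^ t ^ n = 1) :
    (t ∈ Cfsg.sigma M → z ∈ Cfsg.sigmaCore M ⊓ centralizer (K : Set G)) ∧
      (t ∉ Cfsg.sigma M → z ∈ K) := by
  haveI : Fact t.Prime := ⟨ht⟩
  obtain ⟨n, hn⟩ := hzt
  rw [sup_comm] at hz
  obtain ⟨y, hy, k, hk, rfl⟩ := CfsgLib.Coprime.mem_sup_exists
    ((le_centralizer_iff.1 (inf_le_right : Cfsg.sigmaCore M ⊓ centralizer (K : Set G) ≤ _)).trans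
      (CfsgLib.Coprime.centralizer_le_normalizer_self _)) hz
  have hc : Commute y k := (mem_centralizer_iff.1 hy.2 k hk).symm
  rw [hc.mul_pow] at hn
  have h1 : y ^ t ^ n ∈ K ⊓ Cfsg.sigmaCore M := by
    refine mem_inf.2 ⟨?_, pow_mem hy.1 _⟩
    rw [eq_inv_of_mul_eq_one_left hn]
    exact inv_mem (pow_mem hk _)
  rw [Decomp.hall_inf hG hM hK, mem_bot] at h1
  rw [h1, one_mul] at hn
  refine ⟨fun htσ => ?_, fun htσ => ?_⟩
  · have hk1 : k = 1 := by
      by_contra hk1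
      obtain ⟨-, hd, -⟩ := exists_line_pow ⟨n, hn⟩ hk1
      exact (hK.2.1 t ht (hd.trans (orderOf_dvd_natCard _ hk))).2.2.1 htσ
    rw [hk1, mul_one]; exact hy
  · have hy1 : y = 1 := by
      by_contra hy1
      obtain ⟨-, hd, -⟩ := exists_line_pow ⟨n, h1⟩ hy1
      exact htσ ((sigmaCore_hall hG hM).1.2.1 t ht (hd.trans (orderOf_dvd_natCard _ hy.1)))
    rw [hy1, one_mul]; exact hk

/-- A line of `Z` at a prime of `σ(M)` determines `M`. -/
theorem Member.unique (h : Member Z M) {w : ℕ} [hw : Fact w.Prime] {W : Subgroup G} (hWZ : W ≤ Z)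
    (hWc : Nat.card W = w) (hwM : w ∈ Cfsg.sigma M) :
    centralizer (W : Set G) ≤ M ∧
      ∀ L : Subgroup G, IsCoatom L → centralizer (W : Set G) ≤ L → L = M := by
  obtain ⟨K, hK, hK1, rfl⟩ := h.exists_hall
  obtain ⟨p, P, hp, hPK, hPc⟩ := exists_prime_line hK1
  haveI : Fact p.Prime := ⟨hp⟩
  have hW : W ≤ Cfsg.sigmaCore M ⊓ centralizer (K : Set G) := fun z hz =>
    (split_mem hG h.coatom hK hw.out (hWZ hz) ⟨1, by
      rw [pow_one]; exact orderOf_dvd_iff_pow_eq_one.1 (hWc ▸ orderOf_dvd_natCard W hz)⟩).1 hwM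
  exact unique_of_fixed hG h.coatom
    (kappa_tau1 hG h.coatom (hK.2.1 p hp (hPc ▸ card_dvd_of_le hPK))) (hPK.trans hK.1) hPc hWc
    (hW.trans (inf_le_inf_left _ (centralizer_le hPK)))

/-- Every member has a line of `Z` at one of its `σ`-primes. -/
theorem Member.exists_sigma_line (h : Member Z M) :
    ∃ (w : ℕ) (W : Subgroup G), w.Prime ∧ W ≤ Z ∧ Nat.card W = w ∧ w ∈ Cfsg.sigma M := by
  obtain ⟨K, hK, hK1, rfl⟩ := h.exists_hall
  obtain ⟨w, W, hw, hW, hWc⟩ := exists_prime_line (Kappa.fixed_ne_bot hG h.coatom hK)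
  exact ⟨w, W, hw, hW.trans le_sup_right, hWc,
    (sigmaCore_hall hG h.coatom).1.2.1 w hw (hWc ▸ card_dvd_of_le (hW.trans inf_le_left))⟩

/-- Distinct members are not conjugate. -/
theorem Member.notConj (h : Member Z M) (h' : Member Z N) (hne : M ≠ N) : NotConj M N := by
  intro g e
  obtain ⟨w, W, hw, hWZ, hWc, hwN⟩ := h'.exists_sigma_line hG
  haveI : Fact w.Prime := ⟨hw⟩
  obtain ⟨hCN, hun⟩ := h'.unique hG hWZ hWc hwN
  exact hne (hun M h.coatom (h.unique hG hWZ hWc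
    (ElemCent.mem_sigma_conjBy hG h.coatom (g := g) (e.symm ▸ hwN))).1)

/-- Every line of `Z` is at a `σ`-prime of some member. -/
theorem Member.exists_member (h : Member Z M) {w : ℕ} [hw : Fact w.Prime] {W : Subgroup G}
    (hWZ : W ≤ Z) (hWc : Nat.card W = w) : ∃ N, Member Z N ∧ w ∈ Cfsg.sigma N := by
  by_cases hwM : w ∈ Cfsg.sigma M
  · exact ⟨M, h, hwM⟩
  obtain ⟨K, hK, hK1, hZ⟩ := h.exists_hall
  have hM := h.coatom
  have hWK : W ≤ K := fun z hz =>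
    (split_mem hG hM hK hw.out (hZ.symm ▸ hWZ hz) ⟨1, by
      rw [pow_one]; exact orderOf_dvd_iff_pow_eq_one.1 (hWc ▸ orderOf_dvd_natCard W hz)⟩).2 hwM
  obtain ⟨U, d⟩ := Decomp.exists_decomp hG hM hK
  obtain ⟨N, hN, hNW⟩ := exists_coatom_normalizer hG (line_ne_bot hWc)
    (ms_isPGroup_ne_top hG (IsPGroup.of_card (p := w) (n := 1) (by rw [hWc, pow_one])))
  obtain ⟨hwN, hWσ, hnc⟩ := Decomp.line_le_sigmaCore hG hM d hWK hWc hN hNW
  refine ⟨N, ⟨hN, ?_⟩, hwN⟩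
  obtain ⟨-, KN, hKN, hle⟩ := fixed_le_kappa_hall hG hM hK hWK hWc hN hNW
  set Ks := Cfsg.sigmaCore M ⊓ centralizer (K : Set G) with hKs
  obtain ⟨q, Y, hq, hY, hYc⟩ := exists_prime_line (Kappa.fixed_ne_bot hG hM hK)
  haveI : Fact q.Prime := ⟨hq⟩
  obtain ⟨y, hy, hy1, -, hyY⟩ := exists_gen hYc
  obtain ⟨a, ha, ha1, -, haW⟩ := exists_gen hWc
  have hyKN : y ∈ KN := hle (hY hy)
  have hKN1 : KN ≠ ⊥ := fun e => hy1 (mem_bot.1 (e ▸ hyKN))
  obtain ⟨UN, dN⟩ := Decomp.exists_decomp hG hN hKN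
  refine ⟨KN, hKN, hKN1, ?_⟩
  have hCW : centralizer (W : Set G) ≤ N :=
    (CfsgLib.Coprime.centralizer_le_normalizer_self _).trans hNW
  have hCY : centralizer (Y : Set G) ≤ M := (h.unique hG (hY.trans (le_sup_right.trans hZ.le)) hYc
    ((sigmaCore_hall hG hM).1.2.1 q hq (hYc ▸ card_dvd_of_le (hY.trans inf_le_left)))).1
  have haN : a ∈ Cfsg.sigmaCore N ⊓ centralizer (KN : Set G) := by
    rw [← fixed_eq hG hN hKN hyKN hy1]
    exact mem_inf.2 ⟨hWσ ha, mem_centralizer_singleton_iff.2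
      (h.commute hG (hWZ ha) (hZ ▸ mem_sup_right (hY hy)))⟩
  haveI := fixed_cyclic hG hN hKN hKN1
  have h1 : KN ⊔ (Cfsg.sigmaCore N ⊓ centralizer (KN : Set G)) ≤ centralizer ({a} : Set G) := by
    refine sup_le (fun z hz => mem_centralizer_singleton_iff.2
      (mem_centralizer_iff.1 haN.2 z hz)) fun z hz => mem_centralizer_singleton_iff.2 ?_
    exact (congrArg Subtype.val (mul_comm'
      (⟨z, hz⟩ : ↥(Cfsg.sigmaCore N ⊓ centralizer (KN : Set G))) ⟨a, haN⟩) :)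
  rw [← Decomp.centralizer_eq hG hN dN hyKN hy1] at h1 ⊢
  refine le_antisymm ?_ (le_inf (fun z hz => hCW ?_) fun z hz => mem_centralizer_singleton_iff.2
    (h.commute hG hz (hZ ▸ mem_sup_right (hY hy))))
  · intro z hz
    rw [← hZ, ← Decomp.centralizer_eq hG hM d (hWK ha) ha1]
    refine mem_inf.2 ⟨hCY ?_, h1 hz⟩
    rw [← hyY, centralizer_zpowers]
    exact hz.2
  · rw [← haW, centralizer_zpowers]
    exact mem_centralizer_singleton_iff.2 (h.commute hG hz (hWZ ha))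

/-- The members are not all of type `U = 1`. -/
theorem Member.exists_U_ne_bot (h : Member Z M) (h' : Member Z N) (hne : M ≠ N) :
    ∃ N₀ K U : Subgroup G, Member Z N₀ ∧ Cfsg.IsSigmaDecomposition N₀ K U ∧ U ≠ ⊥ ∧
      K ⊔ (Cfsg.sigmaCore N₀ ⊓ centralizer (K : Set G)) = Z ∧ K ≠ ⊥ := by
  classical
  by_contra hno
  simp only [not_exists, not_and] at hno
  haveI := Fintype.ofFinite (Subgroup G)
  set F : Finset (Subgroup G) := Finset.univ.filter fun L => Member Z L with hF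
  have hmem : ∀ L, L ∈ F ↔ Member Z L := fun L => by simp [hF]
  refine Star.star_false hG Z F (Finset.one_lt_card.2 ⟨M, (hmem M).2 h, N, (hmem N).2 h', hne⟩)
    (fun L hL => ((hmem L).1 hL).coatom) (fun L hL => ((hmem L).1 hL).le hG) (fun L hL => ?_)
    (fun L hL z hz hz1 => ?_) (fun w hw hwd => ?_)
    fun L hL L' hL' hne' => ((hmem L).1 hL).notConj hG ((hmem L').1 hL') hne'
  · obtain ⟨K, hK, hK1, hZ⟩ := ((hmem L).1 hL).exists_hall
    obtain ⟨U, d⟩ := Decomp.exists_decomp hG ((hmem L).1 hL).coatom hK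
    have hU : U = ⊥ := by
      by_contra hU
      exact hno L K U ((hmem L).1 hL) d hU hZ hK1
    intro n hn
    obtain ⟨e, he, k, hk, rfl⟩ := (Decomp.compl hG ((hmem L).1 hL).coatom d).2.2.2 n hn
    rw [hU, sup_bot_eq] at he
    exact ⟨e, hZ ▸ mem_sup_left he, k, hk, rfl⟩
  · obtain ⟨s, hs, hsd⟩ := Nat.exists_prime_and_dvd fun e => hz1 (orderOf_eq_one_iff.1 e)
    haveI : Fact s.Prime := ⟨hs⟩
    obtain ⟨S, hSz, hSc⟩ := exists_line_of_dvd (H := zpowers z) (t := s) (by rwa [Nat.card_zpowers])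
    rw [← centralizer_zpowers]
    exact (centralizer_le hSz).trans (((hmem L).1 hL).unique hG (hSz.trans (zpowers_le.2 hz.1)) hSc
      (Cosets.sigma_of_mem hG ((hmem L).1 hL).coatom hz.2 hs hsd)).1
  · haveI : Fact w.Prime := ⟨hw⟩
    obtain ⟨W, hW, hWc⟩ := exists_line_of_dvd hwd
    obtain ⟨L, hL, hwL⟩ := h.exists_member hG hW hWc
    exact ⟨L, (hmem L).2 hL, hwL⟩

/-- A member with nontrivial `U` has at most one partner. -/
theorem prime_unique {M₀ K U N₁ N₂ : Subgroup G} (h₀ : Member Z M₀)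
    (d : Cfsg.IsSigmaDecomposition M₀ K U) (hU : U ≠ ⊥)
    (hZ : K ⊔ (Cfsg.sigmaCore M₀ ⊓ centralizer (K : Set G)) = Z) (hK1 : K ≠ ⊥)
    (h₁ : Member Z N₁) (hn₁ : N₁ ≠ M₀) (h₂ : Member Z N₂) (hn₂ : N₂ ≠ M₀) : N₁ = N₂ := by
  by_contra hne
  have hkey : ∀ {L : Subgroup G}, Member Z L → L ≠ M₀ →
      ∃ w : ℕ, w ∈ Cfsg.sigma L ∧ w = Nat.card K := by
    intro L hL hLn
    obtain ⟨w, W, hw, hWZ, hWc, hwL⟩ := hL.exists_sigma_line hG
    haveI : Fact w.Prime := ⟨hw⟩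
    have hWK : W ≤ K := fun z hz =>
      (split_mem hG h₀.coatom d.hall hw (hZ.symm ▸ hWZ hz) ⟨1, by
        rw [pow_one]; exact orderOf_dvd_iff_pow_eq_one.1 (hWc ▸ orderOf_dvd_natCard W hz)⟩).2
        fun hwM => not_sigma hG h₀.coatom hL.coatom (h₀.notConj hG hL hLn.symm) hwM hwL
    exact ⟨w, hwL, (Nat.prime_dvd_prime_iff_eq hw
      (prime_of_U_ne_bot hG h₀.coatom d hK1 hU).1).1 (hWc ▸ card_dvd_of_le hWK)⟩
  obtain ⟨a, ha, ea⟩ := hkey h₁ hn₁
  obtain ⟨b, hb, eb⟩ := hkey h₂ hn₂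
  haveI : Fact a.Prime := ⟨ha.1⟩
  exact not_sigma hG h₁.coatom h₂.coatom (h₁.notConj hG h₂ hne) ha (ea.trans eb.symm ▸ hb)

/-- There are no three members. -/
theorem Member.no_three {L : Subgroup G} (h₁ : Member Z M) (h₂ : Member Z N) (h₃ : Member Z L)
    (h12 : M ≠ N) (h13 : M ≠ L) (h23 : N ≠ L) : False := by
  obtain ⟨N₀, K, U, h₀, d, hU, hZ, hK1⟩ := h₁.exists_U_ne_bot hG h₂ h12
  have key := fun {A B : Subgroup G} (hA : Member Z A) (hA' : A ≠ N₀) (hB : Member Z B)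
    (hB' : B ≠ N₀) => prime_unique hG h₀ d hU hZ hK1 hA hA' hB hB'
  by_cases e1 : M = N₀
  · exact h23 (key h₂ (fun e => h12 (e1.trans e.symm)) h₃ fun e => h13 (e1.trans e.symm))
  by_cases e2 : N = N₀
  · exact h13 (key h₁ e1 h₃ fun e => h23 (e2.trans e.symm))
  exact h12 (key h₁ e1 h₂ e2)

/-- The partner: `K` is `N_σ ∩ Z` and `K*` is a Hall `κ(N)`-subgroup. -/
theorem exists_partner {M K : Subgroup G} (hM : IsCoatom M)
    (hK : Cfsg.IsPiHallOf (Cfsg.kappa M) K M) (hK1 : K ≠ ⊥) :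
    ∃ N : Subgroup G, IsCoatom N ∧
      K = Cfsg.sigmaCore N ⊓ centralizer ((Cfsg.sigmaCore M ⊓ centralizer (K : Set G)) : Set G) ∧
      Cfsg.IsPiHallOf (Cfsg.kappa N) (Cfsg.sigmaCore M ⊓ centralizer (K : Set G)) N := by
  set Ks := Cfsg.sigmaCore M ⊓ centralizer (K : Set G) with hKs
  have hm : Member (K ⊔ Ks) M := ⟨hM, K, hK, hK1, rfl⟩
  obtain ⟨p, P, hp, hPK, hPc⟩ := exists_prime_line hK1
  haveI : Fact p.Prime := ⟨hp⟩
  obtain ⟨N, hN, hpN⟩ := hm.exists_member hG (hPK.trans le_sup_left) hPc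
  have hpM := (hK.2.1 p hp (hPc ▸ card_dvd_of_le hPK)).2.2.1
  have hne : M ≠ N := fun e => hpM (e ▸ hpN)
  have hnc := hm.notConj hG hN hne
  obtain ⟨KN, hKN, hKN1, hZN⟩ := hN.exists_hall
  -- every prime of `Z` is in exactly one `σ`
  have hcover : ∀ t : ℕ, t.Prime → t ∣ Nat.card ↥(K ⊔ Ks) → t ∈ Cfsg.sigma M ∨ t ∈ Cfsg.sigma N := by
    intro t ht htd
    haveI : Fact t.Prime := ⟨ht⟩
    obtain ⟨W, hW, hWc⟩ := exists_line_of_dvd htd
    obtain ⟨L, hL, htL⟩ := hm.exists_member hG hW hWc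
    by_contra h
    exact hm.no_three hG hN hL hne (fun e => h (Or.inl (e ▸ htL))) fun e => h (Or.inr (e ▸ htL))
  have hsplitN : ∀ {t : ℕ}, t.Prime → ∀ {z : G}, z ∈ K ⊔ Ks → (∃ n : ℕ, z ^ t ^ n = 1) →
      (t ∈ Cfsg.sigma N → z ∈ Cfsg.sigmaCore N ⊓ centralizer (KN : Set G)) ∧
        (t ∉ Cfsg.sigma N → z ∈ KN) :=
    fun ht z hz hzt => split_mem hG hN.coatom hKN ht (hZN.symm ▸ hz) hzt
  have hKsKN : KN = Ks := by
    refine le_antisymm (TauOne.le_of_prime_power_elements fun t ht z hz hzt => ?_)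
      (TauOne.le_of_prime_power_elements fun t ht z hz hzt => ?_)
    · by_cases hz1 : z = 1
      · subst hz1; exact one_mem _
      haveI : Fact t.Prime := ⟨ht⟩
      obtain ⟨-, hd, -⟩ := exists_line_pow hzt hz1
      have hzZ : z ∈ K ⊔ Ks := hZN ▸ mem_sup_left hz
      refine (split_mem hG hM hK ht hzZ hzt).1 ((hcover t ht
        (hd.trans (orderOf_dvd_natCard _ hzZ))).resolve_right ?_)
      exact (hKN.2.1 t ht (hd.trans (orderOf_dvd_natCard _ hz))).2.2.1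
    · by_cases hz1 : z = 1
      · subst hz1; exact one_mem _
      haveI : Fact t.Prime := ⟨ht⟩
      obtain ⟨-, hd, -⟩ := exists_line_pow hzt hz1
      exact (hsplitN ht (mem_sup_right hz) hzt).2 (not_sigma hG hM hN.coatom hnc
        ((sigmaCore_hall hG hM).1.2.1 t ht (hd.trans (orderOf_dvd_natCard _ hz.1))))
  have hcoe : ((Cfsg.sigmaCore M : Set G) ⊓ (centralizer (K : Set G) : Set G)) = (KN : Set G) := by
    rw [hKsKN, hKs, coe_inf]; rfl
  refine ⟨N, hN.coatom, le_antisymm ?_ ?_, hKsKN ▸ hKN⟩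
  · rw [hcoe]
    refine TauOne.le_of_prime_power_elements fun t ht z hz hzt => ?_
    by_cases hz1 : z = 1
    · subst hz1; exact one_mem _
    haveI : Fact t.Prime := ⟨ht⟩
    obtain ⟨-, hd, -⟩ := exists_line_pow hzt hz1
    exact (hsplitN ht (mem_sup_left hz) hzt).1 ((hcover t ht
      ((hd.trans (orderOf_dvd_natCard _ hz)).trans (card_dvd_of_le le_sup_left))).resolve_left
      (hK.2.1 t ht (hd.trans (orderOf_dvd_natCard _ hz))).2.2.1)
  · rw [hcoe]
    refine TauOne.le_of_prime_power_elements fun t ht z hz hzt => ?_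
    by_cases hz1 : z = 1
    · subst hz1; exact one_mem _
    haveI : Fact t.Prime := ⟨ht⟩
    obtain ⟨-, hd, -⟩ := exists_line_pow hzt hz1
    refine (split_mem hG hM hK ht (hZN ▸ mem_sup_right hz) hzt).2 ?_
    exact not_sigma hG hN.coatom hM hnc.symm
      ((sigmaCore_hall hG hN.coatom).1.2.1 t ht (hd.trans (orderOf_dvd_natCard _ hz.1)))

end CfsgLib.CFun.Partner
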