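import Cfsg.Agent.Lib.CFun.OddElementCentralizer

/-!
# Lines in complements of `M_σ`

Subgroups of prime order at `τ₁`- and `τ₃`-primes in a complement, and subgroups of prime order
moved by a line whose fixed points are centralized.
-/

set_option autoImplicit false
set_option linter.style.haveILetI false
set_option linter.unusedSectionVars false

open Subgroup
open scoped commutatorElement
open CfsgLib.Coprime (conjBy conjBy_conjBy conjBy_one mem_conjBy conj_mem_conjBy IsSylowIn IsHallIn)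

namespace CfsgLib.CFun.Lines

open CfsgLib.CFun.TauTwo CfsgLib.CFun.TauOne CfsgLib.CFun.Disjoint CfsgLib.CFun.ElemCent

universe u

variable {G : Type u} [Group G] [Finite G]

/-- A nontrivial element of prime power order has an element of prime order among its powers. -/
theorem exists_line_pow {t : ℕ} [ht : Fact t.Prime] {f : G} (hf : ∃ n : ℕ, f ^ t ^ n = 1) (hf1 : f ≠ 1) :
    IsPGroup t (zpowers f) ∧ t ∣ orderOf f ∧
      ∃ W : Subgroup G, W ≤ zpowers f ∧ Nat.card W = t := by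
  obtain ⟨n, hn⟩ := hf
  obtain ⟨i, -, hi⟩ := (Nat.dvd_prime_pow ht.out).1 (orderOf_dvd_of_pow_eq_one hn)
  have hi1 : i ≠ 0 := fun e => hf1 (orderOf_eq_one_iff.1 (by rw [hi, e, pow_zero]))
  have hd : t ∣ orderOf f := hi ▸ dvd_pow_self t hi1
  obtain ⟨y, hy⟩ := exists_prime_orderOf_dvd_card' (G := zpowers f) t (by rwa [Nat.card_zpowers])
  exact ⟨IsPGroup.of_card (n := i) (by rw [Nat.card_zpowers, hi]), hd, zpowers (y : G),
    zpowers_le.2 y.2, by rw [Nat.card_zpowers, orderOf_coe, hy]⟩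

/-- A line in a subgroup whose order is divisible by a prime. -/
theorem exists_line_of_dvd {t : ℕ} [Fact t.Prime] {H : Subgroup G} (hd : t ∣ Nat.card H) :
    ∃ W : Subgroup G, W ≤ H ∧ Nat.card W = t := by
  obtain ⟨y, hy⟩ := exists_prime_orderOf_dvd_card' (G := H) t hd
  exact ⟨zpowers (y : G), zpowers_le.2 y.2, by rw [Nat.card_zpowers, orderOf_coe, hy]⟩

/-- A line in a nontrivial subgroup. -/
theorem exists_prime_line {H : Subgroup G} (hH : H ≠ ⊥) :
    ∃ (t : ℕ) (W : Subgroup G), t.Prime ∧ W ≤ H ∧ Nat.card W = t := by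
  obtain ⟨t, ht, hd⟩ := Nat.exists_prime_and_dvd fun e => hH (card_eq_one.1 e)
  haveI : Fact t.Prime := ⟨ht⟩
  obtain ⟨W, hW⟩ := exists_line_of_dvd hd
  exact ⟨t, W, ht, hW⟩

/-- A generator of a line. -/
theorem exists_gen {t : ℕ} [ht : Fact t.Prime] {W : Subgroup G} (hW : Nat.card W = t) :
    ∃ a ∈ W, a ≠ 1 ∧ a ^ t = 1 ∧ zpowers a = W := by
  obtain ⟨a, ha, ha1⟩ := (bot_or_exists_ne_one W).resolve_left (line_ne_bot hW)
  have hap : a ^ t = 1 := orderOf_dvd_iff_pow_eq_one.1 (hW ▸ orderOf_dvd_natCard W ha)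
  exact ⟨a, ha, ha1, hap, eq_of_le_of_card_ge (zpowers_le.2 ha)
    (by rw [Nat.card_zpowers, orderOf_eq_prime hap ha1, hW])⟩

/-- A line not centralized by a group normalizing it is its commutator with that group. -/
theorem line_commutator_eq {t : ℕ} [ht : Fact t.Prime] {W P : Subgroup G} (hW : Nat.card W = t)
    (hPW : P ≤ normalizer (W : Set G)) (h : ¬ P ≤ centralizer (W : Set G)) :
    (⁅W, P⁆ : Subgroup G) = W := by
  have hle : (⁅W, P⁆ : Subgroup G) ≤ W := le_normalizer_iff_commutator_le_left.1 hPW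
  rcases (Nat.dvd_prime ht.out).1 (hW ▸ card_dvd_of_le hle) with h1 | h1
  · exact absurd (le_centralizer_iff.1
      (commutator_eq_bot_iff_le_centralizer.1 (card_eq_one.1 h1))) h
  · exact eq_of_le_of_card_ge hle (by rw [hW, h1])

/-- `M = E M_σ` normalizes what `E` normalizes and `M_σ` centralizes. -/
theorem le_normalizer_of_centralized {M E K W : Subgroup G} (hE : Cfsg.IsComplIn E K M)
    (hEW : E ≤ normalizer (W : Set G)) (hK : K ≤ centralizer (W : Set G)) :
    M ≤ normalizer (W : Set G) := fun m hm => by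
  obtain ⟨e, he, k, hk, rfl⟩ := hE.2.2.2 m hm
  exact mul_mem (hEW he) (CfsgLib.Coprime.centralizer_le_normalizer_self _ (hK hk))

variable (hG : Cfsg.IsMinSimpleOddOrder G) {M E : Subgroup G}
include hG

/-- A complement of `M_σ` is a Hall subgroup. -/
theorem compl_isHall (hM : IsCoatom M) (hE : Cfsg.IsComplIn E (Cfsg.sigmaCore M) M) :
    IsHallIn (Cfsg.sigma M)ᶜ E M := by
  refine ⟨hE.1, fun s hs hsd => haveI : Fact s.Prime := ⟨hs⟩;
    Compl.compl_not_sigma hG hM hE hsd, fun s hs hsd hsσ => ?_⟩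
  have h1 : Nat.card M ∣ Nat.card E * Nat.card (Cfsg.sigmaCore M) := by
    refine (card_dvd_of_le (show M ≤ E ⊔ Cfsg.sigmaCore M from fun m hm => by
      obtain ⟨e, he, k, hk, rfl⟩ := hE.2.2.2 m hm
      exact mul_mem (mem_sup_left he) (mem_sup_right hk))).trans ?_
    exact CfsgLib.Coprime.card_sup_dvd_of_le_normalizer (hE.1.trans (sigmaCore_normal hG M))
  rw [← CfsgLib.Coprime.card_mul_relIndex hE.1] at h1
  exact hsσ ((sigmaCore_hall hG hM).1.2.1 s hs
    (hsd.trans (Nat.dvd_of_mul_dvd_mul_left Nat.card_pos h1)))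

variable {p r t : ℕ} [hp : Fact p.Prime] [hr : Fact r.Prime]

omit hp hr in
/-- If the fixed points on `M_σ` of a line `P` moving the line `R` centralize `R`, so does
`M_σ`. -/
theorem sigmaCore_le_centralizer_of_mover (hM : IsCoatom M) {p r : ℕ} [hp : Fact p.Prime]
    [hr : Fact r.Prime] (hpσ : p ∉ Cfsg.sigma M) (hrσ : r ∉ Cfsg.sigma M) (hpr : p ≠ r)
    {P R : Subgroup G} (hPM : P ≤ M) (hPc : Nat.card P = p) (hRM : R ≤ M) (hRc : Nat.card R = r)
    (hPR : P ≤ normalizer (R : Set G)) (hmove : ¬ P ≤ centralizer (R : Set G))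
    (hfix : Cfsg.sigmaCore M ⊓ centralizer (P : Set G) ≤ centralizer (R : Set G)) :
    Cfsg.sigmaCore M ≤ centralizer (R : Set G) := by
  have hcard : Nat.card ↥(P ⊔ R) ∣ p * r := by
    have := CfsgLib.Coprime.card_sup_dvd_of_le_normalizer hPR
    rwa [hPc, hRc] at this
  refine le_of_invariant_sylows (A := P ⊔ R) ((sup_le hPM hRM).trans (sigmaCore_normal hG M))
    ?_ (Or.inr (sigmaCore_solvable hG hM)) fun s hs hsd S hS hSp hAS => ?_
  · refine Nat.Coprime.coprime_dvd_left hcard (Nat.Coprime.mul_left ?_ ?_)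
    · exact hp.out.coprime_iff_not_dvd.2 (not_dvd_sigmaCore hG hM hpσ)
    · exact hr.out.coprime_iff_not_dvd.2 (not_dvd_sigmaCore hG hM hrσ)
  haveI : Fact s.Prime := ⟨hs⟩
  have hsσ : s ∈ Cfsg.sigma M := (sigmaCore_hall hG hM).1.2.1 s hs hsd
  obtain ⟨a, ha, -, hap, haP⟩ := exists_gen hPc
  have hRc' : (⁅R, zpowers a⁆ : Subgroup G) = R := haP.symm ▸ line_commutator_eq hRc hPR hmove
  have hs2 : s ≠ 2 := ms_ne_two hG (hsd.trans (card_subgroup_dvd_card _))
  refine le_centralizer_iff.1 (FixLine.le_centralizer_of_fixed_commute hs2 hp.out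
    (fun e => hpσ (e ▸ hsσ)) hap (hPR ha) hRc' (hG.1.of_dvd_nat (card_subgroup_dvd_card R))
    (fun h => hpr ((Nat.prime_dvd_prime_iff_eq hp.out hr.out).1 (hRc ▸ h)))
    (fun h => hrσ ((Nat.prime_dvd_prime_iff_eq hs hr.out).1 (hRc ▸ h) ▸ hsσ)) _ S le_rfl hSp
    (hAS (mem_sup_left ha)) (le_sup_right.trans hAS) fun x hx hxs hax u hu => ?_)
  refine (mem_centralizer_iff.1 (hfix (mem_inf.2 ⟨hS hx, ?_⟩)) u hu)
  rw [← haP, centralizer_zpowers]
  exact mem_centralizer_singleton_iff.2 hax.symm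

omit hp hr in
/-- Lines at `τ₃`-primes of a complement lie in its derived subgroup and are normal. -/
theorem tau3_line (hM : IsCoatom M) (hE : Cfsg.IsComplIn E (Cfsg.sigmaCore M) M) {w : ℕ}
    [hw : Fact w.Prime] (hw3 : w ∈ Cfsg.tau3 M) {W : Subgroup G} (hWE : W ≤ E)
    (hWc : Nat.card W = w) : W ≤ ⁅E, E⁆ ∧ E ≤ normalizer (W : Set G) := by
  obtain ⟨E₃, hE₃, hWE₃⟩ := IsHallIn.exists_ge (π := Cfsg.tau3 M) (Compl.compl_solvable hG hM hE)
    hWE fun s hs hsd => by
      rw [hWc] at hsd; rw [(Nat.prime_dvd_prime_iff_eq hs hw.out).1 hsd]; exact hw3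
  obtain ⟨hc, hle, hn⟩ := Compl.tau3_hall hG hM hE (E₃ := E₃)
    ⟨hE₃.1, hE₃.2.1, fun q hq hqt hqd => hE₃.2.2 q hq hqd hqt⟩
  exact ⟨hWE₃.trans hle, hn.trans (normalizer_le_normalizer_of_cyclic hc hWE₃)⟩

omit hp hr in
/-- Elements of the derived subgroup of a complement commute. -/
theorem derived_commute_compl (hM : IsCoatom M) (hE : Cfsg.IsComplIn E (Cfsg.sigmaCore M) M)
    {a b : G} (ha : a ∈ ⁅E, E⁆) (hb : b ∈ ⁅E, E⁆) : a * b = b * a := by
  haveI := (Cfsg.Agent.S1420.result hG M hM E hE).2.1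
  exact (congrArg Subtype.val (mul_comm' (⟨a, ha⟩ : ↥(⁅E, E⁆ : Subgroup G)) ⟨b, hb⟩) :)

omit hr in
/-- An element at a prime of `τ₁(M)` of a complement has a conjugate in it commuting with a given
`τ₁`-line. -/
theorem tau1_conj_commute (hM : IsCoatom M) (hE : Cfsg.IsComplIn E (Cfsg.sigmaCore M) M)
    (hp1 : p ∈ Cfsg.tau1 M) {P : Subgroup G} (hPE : P ≤ E) (hPc : Nat.card P = p) {f : G}
    (hfE : f ∈ E) (hf : ∀ s : ℕ, s.Prime → s ∣ orderOf f → s ∈ Cfsg.tau1 M) :
    ∃ u ∈ E, u * f * u⁻¹ ∈ centralizer (P : Set G) := by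
  have hsol := Compl.compl_solvable hG hM hE
  obtain ⟨E₁, hE₁, hPE₁⟩ := IsHallIn.exists_ge (π := Cfsg.tau1 M) hsol hPE fun s hs hsd => by
    rw [hPc] at hsd; rw [(Nat.prime_dvd_prime_iff_eq hs hp.out).1 hsd]; exact hp1
  obtain ⟨u, hu, huf⟩ := hE₁.exists_conj_le hsol (zpowers_le.2 hfE) fun s hs hsd => by
    rw [Nat.card_zpowers] at hsd; exact hf s hs hsd
  haveI := Compl.tau1_hall hG hM hE (E₁ := E₁)
    ⟨hE₁.1, hE₁.2.1, fun q hq hqt hqd => hE₁.2.2 q hq hqd hqt⟩
  refine ⟨u, hu, mem_centralizer_iff.2 fun x hx => ?_⟩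
  exact (congrArg Subtype.val
    (mul_comm' (⟨x, hPE₁ hx⟩ : E₁) ⟨u * f * u⁻¹, huf (conj_mem_conjBy (mem_zpowers f))⟩) :)

omit hp hr in
/-- A `τ₃`-line of a complement is not central in it. -/
theorem tau3_line_not_central (hM : IsCoatom M) (hE : Cfsg.IsComplIn E (Cfsg.sigmaCore M) M)
    {w : ℕ} [hw : Fact w.Prime] (hw3 : w ∈ Cfsg.tau3 M) {W : Subgroup G} (hWE : W ≤ E)
    (hWc : Nat.card W = w) : ¬ E ≤ centralizer (W : Set G) := by
  intro hcent
  have hw2 : w ≠ 2 := ms_ne_two hG ((dvd_of_eq hWc.symm).trans (card_subgroup_dvd_card W))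
  have hWd := (tau3_line hG hM hE hw3 hWE hWc).1
  obtain ⟨P₀, hP₀⟩ := ((IsPGroup.of_card (p := w) (n := 1) (by rw [hWc, pow_one])).of_equiv
    (subgroupOfEquivOfLe hWE).symm).exists_le_sylow
  set S := (P₀ : Subgroup E).map E.subtype with hS
  have hSp : IsPGroup w S := P₀.2.map _
  have hSE : S ≤ E := map_subtype_le _
  have hSc : IsCyclic S := Compl.isCyclic_of_rank_one hw2 hSp
    (RankTwoTower.pRankLE_of_injective (f := inclusion (hSE.trans hE.1)) (inclusion_injective _)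
      hw3.2.2.2)
  have hWS : W ≤ S := fun x hx => ⟨⟨x, hWE hx⟩, hP₀ hx, rfl⟩
  have hN : normalizer ((P₀ : Subgroup E) : Set E) ≤ centralizer ((P₀ : Subgroup E) : Set E) := by
    refine TauOne.le_of_prime_power_elements fun s hs v hv hvn => ?_
    haveI : Fact s.Prime := ⟨hs⟩
    refine mem_centralizer_iff.2 fun x hx => Subtype.ext ?_
    show (x : G) * (v : G) = v * x
    have hxS : (x : G) ∈ S := mem_map_of_mem E.subtype hx
    by_cases hsw : s = w
    · subst hsw
      obtain ⟨n, hn⟩ := hvn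
      obtain ⟨i, -, hi⟩ := (Nat.dvd_prime_pow hs).1 (orderOf_dvd_of_pow_eq_one hn)
      have hle : (P₀ : Subgroup E) ⊔ zpowers v = P₀ := P₀.3 (P₀.2.to_sup_of_normal_left'
        (IsPGroup.of_card (n := i) (by rw [Nat.card_zpowers, hi])) (zpowers_le.2 hv)) le_sup_left
      have hvS : (v : G) ∈ S :=
        mem_map_of_mem E.subtype (hle.le (mem_sup_right (mem_zpowers v)))
      haveI := hSc
      exact (congrArg Subtype.val (mul_comm' (⟨x, hxS⟩ : S) ⟨v, hvS⟩) :)
    · refine (CfsgLib.PGroup.commute_of_fix_omega_odd hw2 hSp ?_ ?_ ?_ x hxS).eq.symm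
      · exact le_normalizer_map E.subtype ⟨v, hv, rfl⟩
      · intro hd
        obtain ⟨n, hn⟩ := hvn
        rw [orderOf_coe] at hd
        exact hsw ((Nat.prime_dvd_prime_iff_eq hw.out hs).1
          (hw.out.dvd_of_dvd_pow (hd.trans (orderOf_dvd_of_pow_eq_one hn)))).symm
      · intro y hy hyw
        have hyW : y ∈ W := eq_of_cyclic (q := w) hSc hWS (zpowers_le.2 hy)
          (fun z hz => orderOf_dvd_iff_pow_eq_one.1 (hWc ▸ orderOf_dvd_natCard W hz))
          (fun z hz => by obtain ⟨i, rfl⟩ := mem_zpowers_iff.1 hz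
                          rw [← zpow_natCast, ← zpow_mul, mul_comm, zpow_mul, zpow_natCast, hyw,
                            one_zpow])
          (line_ne_bot hWc) (mem_zpowers y)
        exact (mem_centralizer_iff.1 (hcent v.2) y hyW).symm
  haveI : IsCyclic (P₀ : Subgroup E) := by
    haveI := hSc
    exact isCyclic_of_injective
      ((P₀ : Subgroup E).equivMapOfInjective E.subtype E.subtype_injective).toMonoidHom
      (MulEquiv.injective _)
  letI : CommGroup (P₀ : Subgroup E) := IsCyclic.commGroup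
  have h1 : ¬ w ∣ Nat.card ↥(commutator ↥E) := fun h => P₀.not_dvd_index (h.trans (by
    rw [(MonoidHom.ker_transferSylow_isComplement' P₀ hN).index_eq_card]
    exact card_dvd_of_le (Abelianization.commutator_subset_ker _)))
  refine h1 ?_
  have h2 : w ∣ Nat.card ↥(⁅E, E⁆ : Subgroup G) := hWc ▸ card_dvd_of_le hWd
  rwa [TauTwo.map_commutator_self, card_map_of_injective E.subtype_injective] at h2

end CfsgLib.CFun.Lines
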