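import Cfsg.Agent.Lib.CFun.OddLinearTwo
import Mathlib.GroupTheory.SchurZassenhaus
import Mathlib.Algebra.CharP.Lemmas

/-!
# Odd subgroups of `SL(2)` in characteristic `p`

An odd finite subgroup of `SL(2, F)` whose order is divisible by `p = char F` has a normal Sylow
`p`-subgroup (counted along the partition by centralizers, as in Dickson's theorem), so it fixes a
line.
-/

set_option autoImplicit false
set_option linter.unusedSectionVars false

open Subgroup
open scoped commutatorElement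

namespace CfsgLib.CFun.LinearOdd

universe u

variable {F : Type*} [Field F]

/-- A nonzero square-zero matrix kills only one line. -/
theorem kernel_line {N : Matrix (Fin 2) (Fin 2) F} (hN0 : N ≠ 0) {v w : Fin 2 → F} (hv : v ≠ 0)
    (hNv : N.mulVec v = 0) (hNw : N.mulVec w = 0) : ∃ c : F, w = c • v := by
  have hd : v 0 * w 1 - v 1 * w 0 = 0 := by
    by_contra hd
    refine hN0 ?_
    have e := fun i => congrFun hNv i
    have e' := fun i => congrFun hNw i
    simp only [Matrix.mulVec, dotProduct, Fin.sum_univ_two, Pi.zero_apply] at e e'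
    have h0 : ∀ i, N i 0 = 0 := fun i => mul_right_cancel₀ hd (by
      rw [zero_mul]; linear_combination (w 1) * e i - (v 1) * e' i)
    have h1 : ∀ i, N i 1 = 0 := fun i => mul_right_cancel₀ hd (by
      rw [zero_mul]; linear_combination (v 0) * e' i - (w 0) * e i)
    ext i j
    fin_cases j
    · exact h0 i
    · exact h1 i
  by_cases h : v 0 = 0
  · have h1 : v 1 ≠ 0 := fun h1 => hv (funext fun i => by fin_cases i <;> assumption)
    refine ⟨w 1 / v 1, funext fun i => ?_⟩
    rw [h, zero_mul, zero_sub, neg_eq_zero, mul_eq_zero, or_iff_right h1] at hd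
    fin_cases i <;> simp [h, hd, h1]
  · refine ⟨w 0 / v 0, funext fun i => ?_⟩
    fin_cases i
    · simp [h]
    · simp only [Fin.mk_one, Pi.smul_apply, smul_eq_mul]
      field_simp
      linear_combination hd

/-- A nilpotent two by two matrix squares to zero. -/
theorem sq_eq_zero_of_pow {N : Matrix (Fin 2) (Fin 2) F} {n : ℕ} (h : N ^ n = 0) : N * N = 0 := by
  have hdet : N.det = 0 := by
    have := congrArg Matrix.det h
    rw [Matrix.det_pow, Matrix.det_zero] at this
    exact eq_zero_of_pow_eq_zero this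
  have hc := cayley_two N
  rw [hdet, zero_smul, sub_zero] at hc
  have hp : ∀ k, N ^ (k + 1) = (N 0 0 + N 1 1) ^ k • N := by
    intro k
    induction k with
    | zero => simp
    | succ k ih => rw [pow_succ, ih, smul_mul_assoc, hc, smul_smul, ← pow_succ]
  rcases n with _ | n
  · rw [pow_zero] at h
    exact absurd h one_ne_zero
  rw [hp n, smul_eq_zero] at h
  rcases h with h | h
  · rw [hc, eq_zero_of_pow_eq_zero h, zero_smul]
  · rw [h, mul_zero]

variable {K : Type u} [Group K] [Finite K] {p : ℕ} [hp : Fact p.Prime] [CharP F p]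
  (hp2 : p ≠ 2) (hodd : Odd (Nat.card K)) {R : K →* Matrix (Fin 2) (Fin 2) F}
  (hR : Function.Injective R) (hdet : ∀ x, (R x).det = 1)
include hp2 hodd hR hdet

theorem two_ne : (2 : F) ≠ 0 := by
  intro h
  have h2 : ((2 : ℕ) : F) = 0 := by exact_mod_cast h
  rw [CharP.cast_eq_zero_iff F p] at h2
  exact hp2 ((Nat.prime_dvd_prime_iff_eq hp.out Nat.prime_two).1 h2)

theorem eq_one_of_scalar {x : K} {c : F} (h : R x = c • 1) : x = 1 := by
  have h1 := hdet x
  rw [h, Matrix.det_smul, Matrix.det_one, mul_one, Fintype.card_fin] at h1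
  have h2 : x ^ 2 = 1 := hR (by rw [map_pow, h, smul_pow, one_pow, h1, one_smul, map_one])
  obtain ⟨m, hm⟩ := hodd.of_dvd_nat (orderOf_dvd_natCard x)
  have h3 : orderOf x ∣ 2 := orderOf_dvd_of_pow_eq_one h2
  have := Nat.le_of_dvd two_pos h3
  exact orderOf_eq_one_iff.1 (by omega)

theorem exists_lin {x y : K} (hx : x ≠ 1) (hxy : Commute y x) :
    ∃ a b : F, R y = a • R x + b • 1 :=
  exists_eq_of_commute_two (fun ⟨c, hc⟩ => hx (eq_one_of_scalar hp2 hodd hR hdet hc))
    (by rw [← map_mul, ← map_mul, hxy.eq])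

theorem commute_of_commute {x y z : K} (hx : x ≠ 1) (hy : Commute y x) (hz : Commute z x) :
    Commute y z := by
  obtain ⟨a, b, hab⟩ := exists_lin hp2 hodd hR hdet hx hy
  obtain ⟨c, d, hcd⟩ := exists_lin hp2 hodd hR hdet hx hz
  refine hR ?_
  rw [map_mul, map_mul, hab, hcd]
  simp only [add_mul, mul_add, smul_mul_assoc, mul_smul_comm, one_mul, mul_one, smul_smul, smul_add]
  rw [mul_comm c a, mul_comm d a, mul_comm c b, mul_comm d b]
  abel

theorem cayley_one (x : K) : R x * R x = ((R x) 0 0 + (R x) 1 1) • R x - 1 := by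
  rw [cayley_two, hdet, one_smul]

/-- Trace `±2` means order dividing `p`. -/
theorem pow_of_trace {x : K} (h : ((R x) 0 0 + (R x) 1 1) ^ 2 = 4) : x ^ p = 1 := by
  have h2 := two_ne hp2 hodd hR hdet
  set t := (R x) 0 0 + (R x) 1 1 with ht
  set ε := t / 2 with hε
  have h2ε : t = 2 * ε := by rw [hε]; field_simp
  have hε2 : ε * ε = 1 := by
    have h4 : (4 : F) ≠ 0 := by
      rw [show (4 : F) = 2 * 2 by norm_num]; exact mul_ne_zero h2 h2
    refine mul_left_cancel₀ h4 ?_
    rw [h2ε] at h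
    linear_combination h
  set N := R x - ε • 1 with hN
  have hNN : N * N = 0 := by
    rw [hN, sub_mul, mul_sub, mul_sub, cayley_one hp2 hodd hR hdet, ← ht, h2ε]
    simp only [smul_mul_assoc, mul_smul_comm, one_mul, mul_one, smul_smul, hε2, one_smul]
    rw [two_mul, add_smul]
    abel
  obtain ⟨k, hk⟩ : ∃ k, p = k + 1 := ⟨p - 1, (Nat.succ_pred_eq_of_pos hp.out.pos).symm⟩
  refine eq_one_of_scalar hp2 hodd hR hdet (c := ε ^ p) ?_
  rw [map_pow, show R x = ε • 1 + N by rw [hN, add_sub_cancel], hk, pow_add_nilpotent hNN,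
    show ((k + 1 : ℕ) : F) = 0 by rw [← hk]; exact CharP.cast_eq_zero F p, zero_mul, zero_smul,
    add_zero]

/-- The nilpotent part of an element of order `p`. -/
theorem nilpotent_of_pow {u : K} (hu : u ^ p = 1) : (R u - 1) * (R u - 1) = 0 := by
  haveI : CharP (Matrix (Fin 2) (Fin 2) F) p := Matrix.charP p
  refine sq_eq_zero_of_pow (n := p) ?_
  rw [sub_pow_char_of_commute (p := p) (Commute.one_right _), one_pow, ← map_pow, hu, map_one, sub_self]

theorem eq_unipotent {u y : K} (hu : u ^ p = 1) {a b : F} (h : R y = a • R u + b • 1) :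
    R y = (a + b) • 1 + a • (R u - 1) ∧ (a + b) ^ 2 = 1 := by
  have he : R y = (a + b) • 1 + a • (R u - 1) := by
    rw [h, smul_sub, add_smul]; abel
  refine ⟨he, ?_⟩
  have h1 := hdet y
  have hN := nilpotent_of_pow hp2 hodd hR hdet hu
  set N := R u - 1 with hN'
  have hNd : N.det = 0 := by
    have := congrArg Matrix.det hN
    rw [Matrix.det_mul, Matrix.det_zero, mul_self_eq_zero] at this
    exact this
  have hNt : N 0 0 + N 1 1 = 0 := by
    by_contra hne
    have hc := cayley_two N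
    rw [hN, hNd, zero_smul, sub_zero, eq_comm, smul_eq_zero, or_iff_right hne] at hc
    rw [hc] at hne
    exact hne (by simp)
  rw [he, add_comm, det_smul_add_one, hNd, hNt] at h1
  linear_combination h1

/-- The centralizer of an element of order `p` has exponent `p`. -/
theorem pow_of_commute {u x : K} (hu : u ^ p = 1) (hu1 : u ≠ 1) (hx : Commute x u) : x ^ p = 1 := by
  obtain ⟨a, b, hab⟩ := exists_lin hp2 hodd hR hdet hu1 hx
  obtain ⟨he, hc⟩ := eq_unipotent hp2 hodd hR hdet hu hab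
  have hN : (a • (R u - 1)) * (a • (R u - 1)) = 0 := by
    rw [smul_mul_assoc, mul_smul_comm, nilpotent_of_pow hp2 hodd hR hdet hu, smul_zero, smul_zero]
  obtain ⟨k, hk⟩ : ∃ k, p = k + 1 := ⟨p - 1, (Nat.succ_pred_eq_of_pos hp.out.pos).symm⟩
  refine eq_one_of_scalar hp2 hodd hR hdet (c := (a + b) ^ p) ?_
  rw [map_pow, he, hk, pow_add_nilpotent hN,
    show ((k + 1 : ℕ) : F) = 0 by rw [← hk]; exact CharP.cast_eq_zero F p, zero_mul, zero_smul,
    add_zero]

/-- A conjugate of `x` commuting with `x` is `x` or `x⁻¹`, unless `x` has order `p`. -/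
theorem conj_eq_or_inv {x g : K} (hx : x ^ p ≠ 1) (h : Commute (g * x * g⁻¹) x) :
    g * x * g⁻¹ = x ∨ g * x * g⁻¹ = x⁻¹ := by
  have hx1 : x ≠ 1 := fun e => hx (by rw [e, one_pow])
  obtain ⟨a, b, hab⟩ := exists_lin hp2 hodd hR hdet hx1 h
  set t := (R x) 0 0 + (R x) 1 1 with ht
  have hy : (R (g * x * g⁻¹)) 0 0 + (R (g * x * g⁻¹)) 1 1 = t := by
    rw [map_mul, map_mul]
    exact trace_conj_two (by rw [← map_mul, inv_mul_cancel, map_one])
  have hd := hdet (g * x * g⁻¹)
  rw [hab, det_smul_add_one, hdet, ← ht] at hd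
  rw [hab] at hy
  simp only [Matrix.add_apply, Matrix.smul_apply, smul_eq_mul, Matrix.one_apply_eq] at hy
  have hzero : (a - 1) * (a + 1) * (4 - t ^ 2) = 0 := by
    have h3 : 2 * b + (a * t - t) = 0 := by linear_combination hy
    linear_combination (4 : F) * hd - (2 * a * t + 2 * b - (a * t - t)) * h3
  have h4 : 4 - t ^ 2 ≠ 0 := fun e => hx (pow_of_trace hp2 hodd hR hdet (sub_eq_zero.1 e).symm)
  have h2 := two_ne hp2 hodd hR hdet
  rcases mul_eq_zero.1 ((mul_eq_zero.1 hzero).resolve_right h4) with ha | ha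
  · left
    have hb : b = 0 := mul_left_cancel₀ h2 (by linear_combination hy - t * ha)
    refine hR ?_
    rw [hab, sub_eq_zero.1 ha, hb, one_smul, zero_smul, add_zero]
  · right
    have hb : b = t := mul_left_cancel₀ h2 (by linear_combination hy - t * ha)
    refine hR ?_
    rw [hab, eq_neg_of_add_eq_zero_left ha, hb]
    have h5 : R x * ((-1 : F) • R x + t • 1) = 1 := by
      rw [mul_add, mul_smul_comm, mul_smul_comm, mul_one, cayley_one hp2 hodd hR hdet, ← ht,
        neg_smul, one_smul]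
      abel
    calc (-1 : F) • R x + t • 1 = R x⁻¹ * (R x * ((-1 : F) • R x + t • 1)) := by
          rw [← mul_assoc, ← map_mul, inv_mul_cancel, map_one, one_mul]
      _ = R x⁻¹ := by rw [h5, mul_one]

omit hp2 hodd hR hdet in
/-- The injection behind the class counting. -/
noncomputable def famMap (N T : Subgroup K) (z : (K ⧸ N) × {a : T // a ≠ 1}) : {y : K // y ≠ 1} :=
  ⟨z.1.out * (z.2.1 : K) * z.1.out⁻¹, fun e => z.2.2 (Subtype.ext (by
    rw [mul_inv_eq_one, mul_eq_left] at e
    exact e))⟩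

omit hp2 hodd hR hdet in
theorem famMap_injective {N T : Subgroup K}
    (h : ∀ g : K, ∀ a ∈ T, a ≠ 1 → g * a * g⁻¹ ∈ T → g ∈ N) :
    Function.Injective (famMap N T) := by
  rintro ⟨c, a, ha⟩ ⟨c', a', ha'⟩ e
  have e' : c.out * (a : K) * c.out⁻¹ = c'.out * (a' : K) * c'.out⁻¹ := congrArg Subtype.val e
  have h1 : (c'.out⁻¹ * c.out) * (a : K) * (c'.out⁻¹ * c.out)⁻¹ = (a' : K) := by
    rw [mul_inv_rev, inv_inv,
      show c'.out⁻¹ * c.out * (a : K) * (c.out⁻¹ * c'.out) =
        c'.out⁻¹ * (c.out * (a : K) * c.out⁻¹) * c'.out by group, e']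
    group
  have h2 := h _ a a.2 (fun e => ha (Subtype.ext e)) (h1 ▸ a'.2)
  have hcc : c' = c := by
    rw [← QuotientGroup.out_eq' c', ← QuotientGroup.out_eq' c]
    exact QuotientGroup.eq.2 h2
  subst hcc
  have h3 : a = a' := Subtype.ext (by
    rw [inv_mul_cancel, one_mul, inv_one, mul_one] at h1
    exact h1)
  subst h3
  rfl

omit hp2 hodd hR hdet in
theorem card_fam (N T : Subgroup K) :
    Nat.card ((K ⧸ N) × {a : T // a ≠ 1}) = N.index * (Nat.card T - 1) := by
  classical
  haveI := Fintype.ofFinite T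
  rw [Nat.card_prod, index, Nat.card_eq_fintype_card (α := {a : T // a ≠ 1}),
    Nat.card_eq_fintype_card (α := T), Fintype.card_subtype_compl, Fintype.card_subtype_eq]

omit hp2 hodd hR hdet in
theorem card_ne_one : Nat.card {y : K // y ≠ 1} = Nat.card K - 1 := by
  classical
  haveI := Fintype.ofFinite K
  rw [Nat.card_eq_fintype_card, Nat.card_eq_fintype_card, Fintype.card_subtype_compl,
    Fintype.card_subtype_eq]

omit hp2 hodd hR hdet in
theorem mem_fam {N T : Subgroup K} (hN : N ≤ normalizer (T : Set K)) {y g a : K} (ha : a ∈ T)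
    (hy : y = g * a * g⁻¹) (hy1 : y ≠ 1) : ∃ z, ((famMap N T z).1 : K) = y := by
  obtain ⟨n, hn⟩ := QuotientGroup.mk_out_eq_mul N g
  have hna : (n : K)⁻¹ * a * (n : K) ∈ T := by
    have h1 := (mem_normalizer_iff.1 (inv_mem (hN n.2)) a).1 ha
    rwa [inv_inv] at h1
  have hval : (g * n) * ((n : K)⁻¹ * a * n) * (g * n)⁻¹ = y := by rw [hy]; group
  refine ⟨(↑g, ⟨⟨_, hna⟩, fun e => hy1 ?_⟩), ?_⟩
  · rw [← hval, show (n : K)⁻¹ * a * n = 1 from congrArg Subtype.val e, mul_one, mul_inv_cancel]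
  · show (QuotientGroup.mk g : K ⧸ N).out * _ * (QuotientGroup.mk g : K ⧸ N).out⁻¹ = y
    rw [hn]; exact hval

/-- An odd group of determinant one matrices with order divisible by `p` has a normal Sylow
`p`-subgroup. -/
theorem sylow_normal (hpK : p ∣ Nat.card K) (P : Sylow p K) :
    normalizer ((P : Subgroup K) : Set K) = ⊤ := by
  classical
  set N := normalizer ((P : Subgroup K) : Set K) with hN
  have hP1 : (P : Subgroup K) ≠ ⊥ := fun e => P.not_dvd_index (by rw [e, index_bot]; exact hpK)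
  haveI : Nontrivial (P : Subgroup K) := (nontrivial_iff_ne_bot _).2 hP1
  haveI := P.2.center_nontrivial
  obtain ⟨⟨z₀, hz₀⟩, hz₀1⟩ := exists_ne (1 : center (P : Subgroup K))
  have hz1 : (z₀ : K) ≠ 1 := fun e => hz₀1 (Subtype.ext (Subtype.ext e))
  -- elements of `p`-power order have order `p`
  have hpel : ∀ x : K, ∀ n : ℕ, x ^ p ^ n = 1 → x ^ p = 1 := by
    intro x n hn
    obtain ⟨j, -, hj⟩ := (Nat.dvd_prime_pow hp.out).1 (orderOf_dvd_of_pow_eq_one hn)
    rcases j with _ | j
    · rw [orderOf_eq_one_iff.1 (hj.trans (pow_zero p)), one_pow]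
    refine pow_of_commute hp2 hodd hR hdet (u := x ^ p ^ j) ?_ (fun e => ?_) (Commute.self_pow x _)
    · rw [← pow_mul, ← pow_succ, ← hj, pow_orderOf_eq_one]
    · have h := orderOf_dvd_of_pow_eq_one e
      rw [hj, Nat.pow_dvd_pow_iff_le_right hp.out.one_lt] at h
      omega
  have hPexp : ∀ x ∈ (P : Subgroup K), x ^ p = 1 := fun x hx => by
    obtain ⟨n, hn⟩ := P.2 ⟨x, hx⟩
    exact hpel x n (congrArg Subtype.val hn)
  have hPc : ∀ x ∈ (P : Subgroup K), ∀ y ∈ (P : Subgroup K), Commute x y := fun x hx y hy =>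
    commute_of_commute hp2 hodd hR hdet hz1
      (congrArg Subtype.val (mem_center_iff.1 hz₀ ⟨x, hx⟩))
      (congrArg Subtype.val (mem_center_iff.1 hz₀ ⟨y, hy⟩))
  have hCP : ∀ u ∈ (P : Subgroup K), u ≠ 1 → ∀ x : K, Commute x u → x ∈ (P : Subgroup K) := by
    intro u hu hu1 x hx
    have hT : IsPGroup p ↥(centralizer ({u} : Set K)) := fun c => ⟨1, Subtype.ext (by
      rw [pow_one]
      exact pow_of_commute hp2 hodd hR hdet (hPexp u hu) hu1 (mem_centralizer_singleton_iff.1 c.2))⟩
    exact (P.3 hT (fun a ha => mem_centralizer_singleton_iff.2 (hPc a ha u hu).eq)).le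
      (mem_centralizer_singleton_iff.2 hx.eq)
  have hTI : ∀ g : K, ∀ a ∈ (P : Subgroup K), a ≠ 1 → g * a * g⁻¹ ∈ (P : Subgroup K) → g ∈ N := by
    intro g a ha ha1 hga
    rw [hN, mem_normalizer_iff_map_conj_eq]
    refine eq_of_le_of_card_ge ?_ (CfsgLib.Coprime.card_conjBy g (P : Subgroup K)).ge
    rintro _ ⟨b, hb, rfl⟩
    refine hCP _ hga (fun e => ha1 ?_) _ ?_
    · rwa [mul_inv_eq_one, mul_eq_left] at e
    · show g * b * g⁻¹ * (g * a * g⁻¹) = g * a * g⁻¹ * (g * b * g⁻¹)
      rw [conj_mul, conj_mul, (hPc b hb a ha).eq]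
  -- semisimple elements
  have hss : ∀ x : K, x ≠ 1 → x ^ p ≠ 1 →
      ∀ g : K, ∀ a ∈ centralizer ({x} : Set K), a ≠ 1 →
        g * a * g⁻¹ ∈ centralizer ({x} : Set K) → g ∈ centralizer ({x} : Set K) := by
    intro x hx1 hxp g a ha ha1 hga
    have hax : Commute a x := mem_centralizer_singleton_iff.1 ha
    have hap : a ^ p ≠ 1 := fun e => hxp (pow_of_commute hp2 hodd hR hdet e ha1 hax.symm)
    have hgax : Commute (g * a * g⁻¹) x := mem_centralizer_singleton_iff.1 hga
    have key : g ^ 2 * a = a * g ^ 2 := by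
      rcases conj_eq_or_inv hp2 hodd hR hdet hap
        (commute_of_commute hp2 hodd hR hdet hx1 hgax hax) with h | h
      · have h' : g * a = a * g := mul_inv_eq_iff_eq_mul.1 h
        rw [sq, mul_assoc, h', ← mul_assoc, h', mul_assoc]
      · have h2 : g ^ 2 * a * (g ^ 2)⁻¹ = a := by
          calc g ^ 2 * a * (g ^ 2)⁻¹ = g * (g * a * g⁻¹) * g⁻¹ := by rw [sq]; group
            _ = (g * a * g⁻¹)⁻¹ := by (conv_lhs => rw [h]); group
            _ = a := by rw [h, inv_inv]
        exact mul_inv_eq_iff_eq_mul.1 h2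
    obtain ⟨m, hm⟩ := hodd.of_dvd_nat (orderOf_dvd_natCard g)
    have h4 : (g ^ 2) ^ (m + 1) = g := by
      rw [← pow_mul, show 2 * (m + 1) = orderOf g + 1 by omega, pow_succ, pow_orderOf_eq_one, one_mul]
    have hga2 : Commute g a := h4 ▸ (Commute.pow_left key (m + 1))
    exact mem_centralizer_singleton_iff.2 (commute_of_commute hp2 hodd hR hdet ha1 hga2 hax.symm).eq
  have hnp : ∀ x : K, x ≠ 1 → x ^ p ≠ 1 → ∀ a ∈ centralizer ({x} : Set K), a ≠ 1 → a ^ p ≠ 1 :=
    fun x _ hxp a ha ha1 e =>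
      hxp (pow_of_commute hp2 hodd hR hdet e ha1 (mem_centralizer_singleton_iff.1 ha).symm)
  have hbig : ∀ x : K, x ≠ 1 →
      2 * Nat.card K ≤ 3 * ((centralizer ({x} : Set K)).index *
        (Nat.card ↥(centralizer ({x} : Set K)) - 1)) := by
    intro x hx1
    set A := centralizer ({x} : Set K) with hA
    have hAodd : Odd (Nat.card A) := hodd.of_dvd_nat (card_subgroup_dvd_card A)
    have hA1 : 1 < Nat.card A := (one_lt_card_iff_ne_bot A).2 fun e =>
      hx1 (mem_bot.1 (e.le (mem_centralizer_singleton_iff.2 rfl)))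
    obtain ⟨m, hm⟩ := hAodd
    rw [← Subgroup.index_mul_card A, hm, show 2 * m + 1 - 1 = 2 * m by omega]
    calc 2 * (A.index * (2 * m + 1)) = A.index * (2 * (2 * m + 1)) := by ring
      _ ≤ A.index * (3 * (2 * m)) := Nat.mul_le_mul_left _ (by omega)
      _ = 3 * (A.index * (2 * m)) := by ring
  have hex : ∀ y : K, y ≠ 1 → y ^ p = 1 → ∃ g : K, ∃ a ∈ (P : Subgroup K), y = g * a * g⁻¹ := by
    intro y hy1 hyp
    have hz : IsPGroup p (zpowers y) :=
      IsPGroup.of_card (n := 1) (by rw [Nat.card_zpowers, orderOf_eq_prime hyp hy1, pow_one])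
    obtain ⟨Q, hQ⟩ := hz.exists_le_sylow
    obtain ⟨g, hg⟩ := MulAction.exists_smul_eq K P Q
    have hy : y ∈ (Q : Subgroup K) := hQ (mem_zpowers y)
    rw [← hg] at hy
    obtain ⟨a, ha, hay⟩ := hy
    exact ⟨g, a, ha, hay.symm⟩
  by_cases hall : ∀ y : K, y ≠ 1 → y ^ p = 1
  · have hK : IsPGroup p K := fun y => ⟨1, by
      rw [pow_one]
      by_cases hy : y = 1
      · rw [hy, one_pow]
      · exact hall y hy⟩
    rw [hN, show (P : Subgroup K) = ⊤ from (P.3 (hK.of_injective (⊤ : Subgroup K).subtype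
      Subtype.val_injective) le_top).symm]
    exact top_le_iff.1 le_normalizer
  push Not at hall
  obtain ⟨x, hx1, hxp⟩ := hall
  set A := centralizer ({x} : Set K) with hA
  have hcover : ∀ y : K, y ≠ 1 → y ^ p ≠ 1 → ∃ g : K, ∃ a ∈ A, y = g * a * g⁻¹ := by
    intro y hy1 hyp
    by_contra hno
    push Not at hno
    set B := centralizer ({y} : Set K) with hB
    have hinj : Function.Injective (Sum.elim (famMap A A) (famMap B B)) := by
      refine (famMap_injective (hss x hx1 hxp)).sumElim (famMap_injective (hss y hy1 hyp)) ?_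
      rintro ⟨c, a, ha1⟩ ⟨c', b, hb1⟩ e
      have e' : c.out * (a : K) * c.out⁻¹ = c'.out * (b : K) * c'.out⁻¹ := congrArg Subtype.val e
      set d := c'.out⁻¹ * c.out with hd
      have h1 : d * (a : K) * d⁻¹ = (b : K) := by
        rw [hd, mul_inv_rev, inv_inv,
          show c'.out⁻¹ * c.out * (a : K) * (c.out⁻¹ * c'.out) =
            c'.out⁻¹ * (c.out * (a : K) * c.out⁻¹) * c'.out by group, e']
        group
      -- `y` commutes with a conjugate of `a`
      have hby : Commute (b : K) y := mem_centralizer_singleton_iff.1 b.2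
      have hya : Commute (d⁻¹ * y * d) (a : K) := by
        rw [← h1] at hby
        show d⁻¹ * y * d * (a : K) = (a : K) * (d⁻¹ * y * d)
        calc d⁻¹ * y * d * (a : K) = d⁻¹ * (y * (d * (a : K) * d⁻¹)) * d := by group
          _ = d⁻¹ * ((d * (a : K) * d⁻¹) * y) * d := by rw [hby.eq]
          _ = (a : K) * (d⁻¹ * y * d) := by group
      have ha' : (a : K) ≠ 1 := fun e => ha1 (Subtype.ext e)
      exact hno d _ (mem_centralizer_singleton_iff.2
        (commute_of_commute hp2 hodd hR hdet ha' hya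
          (mem_centralizer_singleton_iff.1 a.2 : Commute (a : K) x).symm).eq) (by group)
    have hle := Nat.card_le_card_of_injective _ hinj
    rw [Nat.card_sum, card_fam, card_fam, card_ne_one] at hle
    have h1 := hbig x hx1
    have h2 := hbig y hy1
    simp only [hA, hB] at hle
    have h3 : 0 < Nat.card K := Nat.card_pos
    omega
  -- the class equation
  have hcount : N.index * (Nat.card ↥(P : Subgroup K) - 1) + A.index * (Nat.card A - 1) =
      Nat.card K - 1 := by
    rw [← card_fam N (P : Subgroup K), ← card_fam A A, ← Nat.card_sum, ← card_ne_one]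
    refine Nat.card_eq_of_bijective (Sum.elim (famMap N (P : Subgroup K)) (famMap A A)) ⟨?_, ?_⟩
    · refine (famMap_injective hTI).sumElim (famMap_injective (hss x hx1 hxp)) ?_
      rintro ⟨c, a, ha1⟩ ⟨c', b, hb1⟩ e
      have e' : c.out * (a : K) * c.out⁻¹ = c'.out * (b : K) * c'.out⁻¹ := congrArg Subtype.val e
      refine hnp x hx1 hxp b b.2 (fun e => hb1 (Subtype.ext e)) ?_
      have h2 := congrArg (· ^ p) e'
      simp only [conj_pow, hPexp a a.2, mul_one, mul_inv_cancel] at h2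
      exact mul_eq_left.1 (mul_inv_eq_one.1 h2.symm)
    · rintro ⟨y, hy1⟩
      by_cases hyp : y ^ p = 1
      · obtain ⟨g, a, ha, hy⟩ := hex y hy1 hyp
        obtain ⟨z, hz⟩ := mem_fam (N := N) le_rfl ha hy hy1
        exact ⟨Sum.inl z, Subtype.ext hz⟩
      · obtain ⟨g, a, ha, hy⟩ := hcover y hy1 hyp
        obtain ⟨z, hz⟩ := mem_fam (N := A) le_normalizer ha hy hy1
        exact ⟨Sum.inr z, Subtype.ext hz⟩
  -- `|N : P|` divides `|A|`
  set P' := (P : Subgroup K).subgroupOf N with hP'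
  haveI : P'.Normal := normal_subgroupOf_of_le_normalizer le_rfl
  have hidx : ¬ p ∣ P'.index := fun h => P.not_dvd_index (by
    rw [← relIndex_mul_index (le_normalizer : (P : Subgroup K) ≤ N)]
    exact dvd_mul_of_dvd_left h _)
  have hcP : Nat.card P' = Nat.card (P : Subgroup K) :=
    Nat.card_congr (subgroupOfEquivOfLe (le_normalizer : (P : Subgroup K) ≤ N)).toEquiv
  obtain ⟨Q, hQ⟩ := exists_right_complement'_of_coprime (N := P') (by
    obtain ⟨j, hj⟩ := IsPGroup.iff_card.1 P.2
    rw [hcP, hj]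
    exact (hp.out.coprime_iff_not_dvd.2 hidx).pow_left j)
  have hQcard : Nat.card Q = P'.index := hQ.symm.index_eq_card.symm
  set C := Q.map N.subtype with hC
  have hCcard : Nat.card C = P'.index := by
    rw [← hQcard]; exact (Nat.card_congr (equivMapOfInjective Q _ N.subtype_injective).toEquiv).symm
  have hCN : C ≤ N := map_subtype_le Q
  have hCp : ∀ c ∈ C, c ^ p = 1 → c = 1 := by
    intro c hc hcp
    have hd : orderOf c ∣ Nat.card C := Subgroup.orderOf_dvd_natCard C hc
    rw [hCcard] at hd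
    exact orderOf_eq_one_iff.1 (((Nat.dvd_prime hp.out).1 (orderOf_dvd_of_pow_eq_one hcp)).resolve_right
      fun e => hidx (e ▸ hd))
  -- the line fixed by `P`
  obtain ⟨v, hv, hNv⟩ : ∃ v : Fin 2 → F, v ≠ 0 ∧ (R z₀ - 1).mulVec v = 0 := by
    have hN0 : R z₀ - 1 ≠ 0 := fun e => hz1 (hR (by rw [sub_eq_zero.1 e, map_one]))
    have hz0p : (z₀ : K) ^ p = 1 := hPexp _ z₀.2
    obtain ⟨j, hj⟩ : ∃ j, (fun i => (R z₀ - 1 : Matrix (Fin 2) (Fin 2) F) i j) ≠ 0 := by
      by_contra hno
      push Not at hno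
      exact hN0 (Matrix.ext fun i j => congrFun (hno j) i)
    refine ⟨_, hj, funext fun i => ?_⟩
    exact congrFun (congrFun (nilpotent_of_pow hp2 hodd hR hdet hz0p) i) j
  have heig : ∀ g ∈ N, ∃ c : F, (R g).mulVec v = c • v := by
    intro g hg
    have hN0 : R z₀ - 1 ≠ 0 := fun e => hz1 (hR (by rw [sub_eq_zero.1 e, map_one]))
    refine kernel_line hN0 hv hNv ?_
    have hy : g⁻¹ * z₀ * g ∈ (P : Subgroup K) := by
      have h1 := (mem_normalizer_iff.1 (inv_mem hg) (z₀ : K)).1 z₀.2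
      rwa [inv_inv] at h1
    obtain ⟨a, b, hab⟩ := exists_lin hp2 hodd hR hdet hz1 (hPc _ hy _ z₀.2)
    obtain ⟨he, hc2⟩ := eq_unipotent hp2 hodd hR hdet (hPexp _ z₀.2) hab
    have hc : a + b = 1 := by
      have hn := nilpotent_of_pow hp2 hodd hR hdet (hPexp _ z₀.2)
      have hn' : (a • (R z₀ - 1)) * (a • (R z₀ - 1)) = 0 := by
        rw [smul_mul_assoc, mul_smul_comm, hn, smul_zero, smul_zero]
      obtain ⟨k, hk⟩ : ∃ k, p = k + 1 := ⟨p - 1, (Nat.succ_pred_eq_of_pos hp.out.pos).symm⟩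
      have h1 : R ((g⁻¹ * z₀ * g) ^ p) = (a + b) ^ p • 1 := by
        have e := pow_add_nilpotent hn' (a + b) k
        rw [← hk, CharP.cast_eq_zero F p, zero_mul, zero_smul, add_zero] at e
        rw [map_pow, he, e]
      rw [hPexp _ hy, map_one] at h1
      have h2 := congrFun (congrFun h1 0) 0
      rw [Matrix.smul_apply, Matrix.one_apply_eq, smul_eq_mul, mul_one] at h2
      obtain ⟨m, hm⟩ := hp.out.odd_of_ne_two hp2
      rw [hm, pow_succ, pow_mul, hc2, one_pow, one_mul] at h2
      exact h2.symm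
    rw [hc, one_smul] at he
    calc (R z₀ - 1).mulVec ((R g).mulVec v) = ((R z₀ - 1) * R g).mulVec v := by
          rw [Matrix.mulVec_mulVec]
      _ = (R g * (R (g⁻¹ * z₀ * g) - 1)).mulVec v := by
          rw [mul_sub, mul_one, ← map_mul, sub_mul, one_mul, ← map_mul]
          congr 3; group
      _ = 0 := by
          rw [he, add_sub_cancel_left, mul_smul_comm, Matrix.smul_mulVec, ← Matrix.mulVec_mulVec,
            hNv, Matrix.mulVec_zero, smul_zero]
  have hCc : ∀ c ∈ C, ∀ d ∈ C, Commute c d := by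
    intro c hc d hd
    refine commutatorElement_eq_one_iff_mul_comm.1
      (hCp _ (commutator_le_self C (commutator_mem_commutator hc hd)) ?_)
    obtain ⟨α, hα⟩ := heig c (hCN hc)
    obtain ⟨β, hβ⟩ := heig d (hCN hd)
    obtain ⟨α', hα'⟩ := heig c⁻¹ (inv_mem (hCN hc))
    obtain ⟨β', hβ'⟩ := heig d⁻¹ (inv_mem (hCN hd))
    have hinv : ∀ e : K, ∀ c₁ c₂ : F, (R e).mulVec v = c₁ • v → (R e⁻¹).mulVec v = c₂ • v →
        c₂ * c₁ = 1 := by
      intro e c₁ c₂ h1 h2
      have h := congrArg (fun m => Matrix.mulVec m v)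
        (show R e⁻¹ * R e = 1 by rw [← map_mul, inv_mul_cancel, map_one])
      simp only [← Matrix.mulVec_mulVec, h1, Matrix.mulVec_smul, h2, smul_smul, Matrix.one_mulVec] at h
      refine smul_left_injective F hv (?_ : (c₂ * c₁) • v = (1 : F) • v)
      rw [one_smul, mul_comm]; exact h
    have hfix : (R ⁅c, d⁆).mulVec v = v := by
      rw [commutatorElement_def, map_mul, map_mul, map_mul]
      simp only [← Matrix.mulVec_mulVec, hβ', Matrix.mulVec_smul, hα', hβ, hα, smul_smul]
      conv_rhs => rw [← one_smul F v]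
      congr 1
      linear_combination (β * β') * hinv c α α' hα hα' + hinv d β β' hβ hβ'
    refine pow_of_trace hp2 hodd hR hdet ?_
    have hdz : (R ⁅c, d⁆ - 1).det = 0 := by
      rw [← Matrix.exists_mulVec_eq_zero_iff]
      exact ⟨v, hv, by rw [Matrix.sub_mulVec, Matrix.one_mulVec, hfix, sub_self]⟩
    rw [show R ⁅c, d⁆ - 1 = (1 : F) • R ⁅c, d⁆ + (-1 : F) • 1 by
      rw [one_smul, neg_smul, one_smul, sub_eq_add_neg], det_smul_add_one, hdet] at hdz
    have ht : (R ⁅c, d⁆) 0 0 + (R ⁅c, d⁆) 1 1 = 2 := by linear_combination -hdz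
    rw [ht]; norm_num
  have hkA : P'.index ∣ Nat.card A := by
    by_cases hC1 : C = ⊥
    · rw [← hCcard, hC1, card_bot]; exact one_dvd _
    obtain ⟨c, hc, hc1⟩ := (bot_or_exists_ne_one C).resolve_left hC1
    have hcp : c ^ p ≠ 1 := fun e => hc1 (hCp c hc e)
    obtain ⟨g, a, ha, hca⟩ := hcover c hc1 hcp
    have ha1 : a ≠ 1 := fun e => hc1 (by rw [hca, e, mul_one, mul_inv_cancel])
    rw [← hCcard]
    refine dvd_trans (card_dvd_of_le (?_ : C ≤ A.map (MulAut.conj g).toMonoidHom))
      (CfsgLib.Coprime.card_conjBy g A).dvd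
    intro d hd
    refine ⟨g⁻¹ * d * g, mem_centralizer_singleton_iff.2 ?_, show g * (g⁻¹ * d * g) * g⁻¹ = d by group⟩
    refine (commute_of_commute hp2 hodd hR hdet ha1 ?_
      (mem_centralizer_singleton_iff.1 ha : Commute a x).symm).eq
    have h1 : Commute d (g * a * g⁻¹) := hca ▸ hCc d hd c hc
    show g⁻¹ * d * g * a = a * (g⁻¹ * d * g)
    calc g⁻¹ * d * g * a = g⁻¹ * (d * (g * a * g⁻¹)) * g := by group
      _ = g⁻¹ * ((g * a * g⁻¹) * d) * g := by rw [h1.eq]
      _ = a * (g⁻¹ * d * g) := by group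
  have hAodd : Odd (Nat.card A) := hodd.of_dvd_nat (card_subgroup_dvd_card A)
  obtain ⟨j, hj⟩ := hkA
  have hcardN : Nat.card K = N.index * (Nat.card ↥(P : Subgroup K) * P'.index) := by
    rw [← hcP, card_mul_index, Subgroup.index_mul_card]
  have hcardA : Nat.card K = A.index * Nat.card A := (Subgroup.index_mul_card A).symm
  refine index_eq_one.1 ?_
  obtain ⟨t, ht⟩ : ∃ t, Nat.card ↥(P : Subgroup K) = t + 1 :=
    ⟨_, (Nat.succ_pred_eq_of_pos Nat.card_pos).symm⟩
  have ht2 : 2 ≤ t := by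
    have := Nat.le_of_dvd Nat.card_pos
      (show p ∣ Nat.card ↥(P : Subgroup K) from by
        obtain ⟨i, hi⟩ := IsPGroup.iff_card.1 P.2
        rw [hi]
        refine dvd_pow_self p fun e => hP1 (card_eq_one.1 (by rw [hi, e, pow_zero])))
    have := hp.out.two_le
    omega
  have hkpos : 0 < P'.index := Nat.pos_of_ne_zero index_ne_zero_of_finite
  have hnpos : 0 < N.index := Nat.pos_of_ne_zero index_ne_zero_of_finite
  have hjodd : Odd j := (Nat.odd_mul.1 (hj ▸ hAodd)).2
  have hKc : 1 ≤ Nat.card K := Nat.card_pos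
  set k := P'.index
  set n := N.index
  set m := A.index
  have hm : m * j = n * (t + 1) := Nat.eq_of_mul_eq_mul_left hkpos (by
    rw [hj] at hcardA
    rw [ht] at hcardN
    linarith)
  rw [ht, Nat.add_sub_cancel, hcardA, Nat.mul_sub, mul_one] at hcount
  have hmA : m ≤ m * Nat.card A := Nat.le_mul_of_pos_right m Nat.card_pos
  have hmain : n * t + 1 = m := by omega
  rcases Nat.lt_or_ge j 3 with hj3 | hj3
  · obtain rfl : j = 1 := by obtain ⟨i, hi⟩ := hjodd; omega
    rw [mul_one] at hm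
    linarith
  · exfalso
    have h1 : m * 3 ≤ n * (t + 1) := hm ▸ Nat.mul_le_mul_left m hj3
    nlinarith

end CfsgLib.CFun.LinearOdd
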