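import Cfsg.Agent.Lib.CFun.OddStable
import Cfsg.Agent.Lib.Qd.Section
import Cfsg.Agent.Lib.PGroup.ElementaryBasic
import Cfsg.Agent.Lib.Coprime.Fitting
import Cfsg.Agent.Lib.Invol.CharTwo
import Cfsg.Agent.Lib.Fusion.PrimeCoreQuotient

/-!
# Odd groups acting on a module of rank two
-/

set_option autoImplicit false
set_option linter.style.haveILetI false
set_option linter.unusedSectionVars false

open Subgroup
open scoped commutatorElement
open CfsgLib.Coprime (conj_mem_of_le_normalizer)

namespace CfsgLib.CFun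

universe u

section Matrices

variable {F : Type*} [Field F]

/-- A matrix commuting with a nonscalar two by two matrix is a polynomial in it. -/
theorem exists_eq_of_commute_two {M Q : Matrix (Fin 2) (Fin 2) F}
    (hM : ¬ ∃ c : F, M = c • 1) (h : Q * M = M * Q) : ∃ a b : F, Q = a • M + b • 1 := by
  have e := fun i j => congrArg (fun X : Matrix (Fin 2) (Fin 2) F => X i j) h
  have e00 := e 0 0
  have e01 := e 0 1
  have e10 := e 1 0
  simp only [Matrix.mul_apply, Fin.sum_univ_two] at e00 e01 e10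
  by_cases h01 : M 0 1 = 0
  · by_cases h10 : M 1 0 = 0
    · have hd : M 0 0 - M 1 1 ≠ 0 := by
        intro hd
        refine hM ⟨M 0 0, ?_⟩
        ext i j
        fin_cases i <;> fin_cases j <;> simp [h01, h10]
        exact (sub_eq_zero.1 hd).symm
      have q01 : Q 0 1 = 0 := by
        refine mul_right_cancel₀ hd ?_
        rw [zero_mul]
        linear_combination -e01 + (Q 0 0 - Q 1 1) * h01
      have q10 : Q 1 0 = 0 := by
        refine mul_right_cancel₀ hd ?_
        rw [zero_mul]
        linear_combination e10 + (Q 0 0 - Q 1 1) * h10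
      refine ⟨(Q 0 0 - Q 1 1) / (M 0 0 - M 1 1),
        Q 0 0 - (Q 0 0 - Q 1 1) / (M 0 0 - M 1 1) * M 0 0, ?_⟩
      ext i j
      fin_cases i <;> fin_cases j <;> simp [h01, h10, q01, q10]
      field_simp
      ring
    · refine ⟨Q 1 0 / M 1 0, Q 0 0 - Q 1 0 / M 1 0 * M 0 0, ?_⟩
      ext i j
      fin_cases i <;> fin_cases j <;> simp
      all_goals field_simp
      all_goals first
        | ring1
        | linear_combination e00
        | linear_combination -e00
        | linear_combination e10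
        | linear_combination -e10
  · refine ⟨Q 0 1 / M 0 1, Q 0 0 - Q 0 1 / M 0 1 * M 0 0, ?_⟩
    ext i j
    fin_cases i <;> fin_cases j <;> simp
    all_goals field_simp
    all_goals first
      | ring1
      | linear_combination e00
      | linear_combination -e00
      | linear_combination e01
      | linear_combination -e01

theorem cayley_two (M : Matrix (Fin 2) (Fin 2) F) :
    M * M = (M 0 0 + M 1 1) • M - M.det • 1 := by
  ext i j
  fin_cases i <;> fin_cases j <;>
    simp [Matrix.mul_apply, Fin.sum_univ_two, Matrix.det_fin_two] <;> ring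

theorem det_smul_add_one (M : Matrix (Fin 2) (Fin 2) F) (a b : F) :
    (a • M + b • 1).det = a ^ 2 * M.det + a * b * (M 0 0 + M 1 1) + b ^ 2 := by
  simp [Matrix.det_fin_two]
  ring

theorem trace_conj_two {M A B : Matrix (Fin 2) (Fin 2) F} (h : B * A = 1) :
    (A * M * B) 0 0 + (A * M * B) 1 1 = M 0 0 + M 1 1 := by
  rw [← Matrix.trace_fin_two, ← Matrix.trace_fin_two, Matrix.trace_mul_cycle, h, one_mul]

theorem pow_add_nilpotent {N : Matrix (Fin 2) (Fin 2) F} (hN : N * N = 0) (ε : F) :
    ∀ k : ℕ, (ε • 1 + N) ^ (k + 1) = ε ^ (k + 1) • 1 + (((k + 1 : ℕ) : F) * ε ^ k) • N := by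
  intro k
  induction k with
  | zero => simp
  | succ k ih =>
    rw [pow_succ, ih]
    simp only [add_mul, mul_add, smul_mul_assoc, mul_smul_comm, one_mul, mul_one, hN, smul_zero,
      add_zero, smul_smul]
    rw [smul_add, smul_smul, smul_smul, add_assoc, ← add_smul]
    congr 2
    · rw [← pow_succ']
    · push_cast; ring

/-- A solvable group of odd order invertible in `F` with a faithful two-dimensional representation
is abelian. -/
theorem commutator_eq_bot_of_rep_two {H : Type u} [Group H] [Finite H] [Group.IsSolvable H]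
    (hodd : Odd (Nat.card H)) (hm : (Nat.card H : F) ≠ 0) (h2 : (2 : F) ≠ 0)
    (R : H →* Matrix (Fin 2) (Fin 2) F) (hR : Function.Injective R) :
    commutator H = ⊥ := by
  by_contra hne
  obtain ⟨N, ⟨hNn, hNc, hN1⟩, hNmin⟩ := (Set.toFinite
    {N : Subgroup H | N.Normal ∧ N ≤ commutator H ∧ N ≠ ⊥}).exists_minimal
    ⟨commutator H, inferInstance, le_rfl, hne⟩
  haveI := hNn
  obtain ⟨habel, -⟩ := CfsgLib.Coprime.minimal_normal_solvable (G := H) hN1 fun M hMn hMN =>
    or_iff_not_imp_left.2 fun hM1 => le_antisymm hMN (hNmin ⟨hMn, hMN.trans hNc, hM1⟩ hMN)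
  have hdet : ∀ y ∈ commutator H, (R y).det = 1 := by
    intro y hy
    let d : H →* Fˣ := MonoidHom.toHomUnits (Matrix.detMonoidHom.comp R)
    have h1 : y ∈ d.ker := Abelianization.commutator_subset_ker d hy
    have h2 := congrArg Units.val (MonoidHom.mem_ker.1 h1)
    simpa [d] using h2
  obtain ⟨x, hxN, hx1⟩ := (bot_or_exists_ne_one N).resolve_left hN1
  have hdx := hdet x (hNc hxN)
  obtain ⟨j, hj⟩ := hodd
  have hpow : R x ^ (2 * j + 1) = 1 := by
    rw [← map_pow, ← hj, pow_card_eq_one', map_one]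
  have hns : ¬ ∃ c : F, R x = c • 1 := by
    rintro ⟨c, hc⟩
    have hc2 : c ^ 2 = 1 := by
      have := hdx
      rw [hc, Matrix.det_smul, Matrix.det_one, mul_one, Fintype.card_fin] at this
      exact this
    have h3 := congrFun (congrFun hpow 0) 0
    rw [hc, smul_pow, one_pow] at h3
    simp only [Matrix.smul_apply, Matrix.one_apply_eq, smul_eq_mul, mul_one] at h3
    rw [pow_succ, pow_mul, hc2, one_pow, one_mul] at h3
    exact hx1 (hR (by rw [hc, h3, one_smul, map_one]))
  set M := R x with hM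
  set t := M 0 0 + M 1 1 with ht
  have hsq : M * M = t • M - (1 : F) • 1 := by rw [ht, ← hdx]; exact cayley_two M
  have hdisc : t ^ 2 - 4 ≠ 0 := by
    intro h0
    set ε := t / 2 with hε
    have ht' : t = 2 * ε := by rw [hε]; field_simp
    have hε2 : ε ^ 2 = 1 := by
      have h4 : (4 : F) ≠ 0 := by
        have : (4 : F) = 2 * 2 := by norm_num
        rw [this]; exact mul_ne_zero h2 h2
      refine mul_left_cancel₀ h4 ?_
      rw [ht'] at h0
      linear_combination h0
    set K := M - ε • 1 with hK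
    have hKK : K * K = 0 := by
      rw [hK]
      simp only [sub_mul, mul_sub, smul_mul_assoc, mul_smul_comm, one_mul, mul_one, hsq, ht']
      match_scalars
      · ring
      · linear_combination hε2
    have h5 := pow_add_nilpotent hKK ε (2 * j)
    rw [show ε • (1 : Matrix (Fin 2) (Fin 2) F) + K = M by rw [hK]; abel, hpow] at h5
    have he1 : ε ^ (2 * j) = 1 := by rw [pow_mul, hε2, one_pow]
    rw [pow_succ, he1, one_mul, mul_one] at h5
    have hm' : ((2 * j + 1 : ℕ) : F) ≠ 0 := hj ▸ hm
    refine hns ⟨ε + (1 - ε) / ((2 * j + 1 : ℕ) : F), ?_⟩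
    have h6 : ((2 * j + 1 : ℕ) : F) • K = (1 - ε) • 1 := by
      rw [sub_smul, one_smul]
      exact eq_sub_of_add_eq (by rw [add_comm]; exact h5.symm)
    have h7 : K = ((1 - ε) / ((2 * j + 1 : ℕ) : F)) • 1 := by
      rw [div_eq_inv_mul, mul_smul, ← h6, smul_smul, inv_mul_cancel₀ hm', one_smul]
    rw [add_smul, ← h7, hK]
    abel
  have hcent : ∀ h : H, R h * M = M * R h := by
    intro h
    set y := h * x * h⁻¹ with hy
    have hyN : y ∈ N := hNn.conj_mem x hxN h
    have hRy : R y = R h * M * R h⁻¹ := by rw [hy, map_mul, map_mul]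
    obtain ⟨a, b, hab⟩ := exists_eq_of_commute_two hns (Q := R y)
      (by rw [hM, ← map_mul, ← map_mul, habel y hyN x hxN])
    have hinv : R h⁻¹ * R h = 1 := by rw [← map_mul, inv_mul_cancel, map_one]
    have htr : a * t + 2 * b = t := by
      have h3 := trace_conj_two (M := M) (A := R h) (B := R h⁻¹) hinv
      rw [← hRy, hab] at h3
      simp only [Matrix.add_apply, Matrix.smul_apply, Matrix.one_apply_eq, smul_eq_mul] at h3
      rw [ht]
      linear_combination h3
    have hdt : a ^ 2 + a * b * t + b ^ 2 = 1 := by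
      have h3 := hdet y (hNc hyN)
      rw [hab, det_smul_add_one, hdx, mul_one, ← ht] at h3
      exact h3
    have hpw : h ^ (2 * (j + 1)) = h := by
      rw [show 2 * (j + 1) = 2 * j + 1 + 1 by ring, pow_succ, ← hj, pow_card_eq_one', one_mul]
    have ha : (a - 1) * (a + 1) = 0 := by
      refine (mul_eq_zero.1 (show ((a - 1) * (a + 1)) * (t ^ 2 - 4) = 0 by
        linear_combination (-4 : F) * hdt + (2 * b + t - a * t + 2 * a * t) * htr)).resolve_right hdisc
    rcases mul_eq_zero.1 ha with ha1 | ha1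
    · have hb : b = 0 := by
        refine (mul_eq_zero.1 (show 2 * b = 0 by linear_combination htr - t * ha1)).resolve_left h2
      have : R y = R x := by rw [hab, sub_eq_zero.1 ha1, hb, one_smul, zero_smul, add_zero]
      have hyx : h * x * h⁻¹ = x := hR this
      rw [hM, ← map_mul, ← map_mul, mul_inv_eq_iff_eq_mul.1 hyx]
    · have hb : b = t := by
        refine mul_left_cancel₀ h2 ?_
        linear_combination htr - t * ha1
      have hinvx : y = x⁻¹ := by
        refine eq_inv_of_mul_eq_one_left (hR ?_)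
        rw [map_mul, map_one, hab, eq_neg_of_add_eq_zero_left ha1, hb, neg_smul, one_smul, add_mul,
          neg_mul, ← hM, hsq, smul_mul_assoc, one_mul, one_smul]
        abel
      have hsq' : ∀ n : ℕ, h ^ (2 * n) * x * (h ^ (2 * n))⁻¹ = x := by
        have h2x : h * (h * x * h⁻¹) * h⁻¹ = x := by
          rw [← hy, hinvx, show h * x⁻¹ * h⁻¹ = (h * x * h⁻¹)⁻¹ by group, ← hy, hinvx, inv_inv]
        intro n
        induction n with
        | zero => simp
        | succ n ih =>
          rw [show h ^ (2 * (n + 1)) * x * (h ^ (2 * (n + 1)))⁻¹ =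
            h * (h * (h ^ (2 * n) * x * (h ^ (2 * n))⁻¹) * h⁻¹) * h⁻¹ by
              rw [show 2 * (n + 1) = 2 * n + 1 + 1 by ring, pow_succ', pow_succ']; group, ih, h2x]
      have hfix := hsq' (j + 1)
      rw [hpw] at hfix
      rw [hM, ← map_mul, ← map_mul, mul_inv_eq_iff_eq_mul.1 hfix]
  refine hne ?_
  rw [_root_.commutator_def]
  refine commutator_eq_bot_iff_le_centralizer.2 ?_
  intro g _
  rw [mem_centralizer_iff]
  intro g' _
  obtain ⟨a, b, hab⟩ := exists_eq_of_commute_two hns (hcent g)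
  obtain ⟨c, d, hcd⟩ := exists_eq_of_commute_two hns (hcent g')
  refine hR ?_
  rw [map_mul, map_mul, hab, hcd]
  simp only [add_mul, mul_add, smul_mul_assoc, mul_smul_comm, one_mul, mul_one]
  match_scalars <;> ring

end Matrices

section Groups

variable {G : Type u} [Group G] [Finite G] {p : ℕ} [hp : Fact p.Prime]

/-- An element acts on a section of order `p` as a power map. -/
theorem exists_scalar_mod {V W : Subgroup G} (hV : Cfsg.IsElementaryAbelian p V) (hWV : W ≤ V)
    {g : G} (hg : g ∈ V) (hgen : ∀ v ∈ V, ∃ w ∈ W, ∃ i : ℕ, v = w * g ^ i) {x : G}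
    (hxV : x ∈ normalizer (V : Set G)) (hxW : x ∈ normalizer (W : Set G)) :
    ∃ m : ℕ, ∀ v ∈ V, (x * v * x⁻¹) * (v ^ m)⁻¹ ∈ W := by
  obtain ⟨w, hw, m, hm⟩ := hgen _ ((mem_normalizer_iff.1 hxV g).1 hg)
  refine ⟨m, fun v hv => ?_⟩
  have hcomm : ∀ {a b : G}, a ∈ V → b ∈ V → Commute a b := fun ha hb =>
    congrArg Subtype.val (hV.1.is_comm.comm (⟨_, ha⟩ : V) ⟨_, hb⟩)
  obtain ⟨w', hw', i, rfl⟩ := hgen v hv
  have h2 : x * (w' * g ^ i) * x⁻¹ = (x * w' * x⁻¹) * (w ^ i * g ^ (m * i)) := by
    rw [pow_mul, ← (hcomm (hWV hw) (pow_mem hg m)).mul_pow, ← hm, conj_pow]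
    group
  have hxw' : x * w' * x⁻¹ ∈ W := (mem_normalizer_iff.1 hxW w').1 hw'
  rw [h2, (hcomm (hWV hw') (pow_mem hg i)).mul_pow, ← pow_mul, mul_comm i m, mul_inv_rev,
    show (x * w' * x⁻¹) * (w ^ i * g ^ (m * i)) * ((g ^ (m * i))⁻¹ * (w' ^ m)⁻¹) =
      (x * w' * x⁻¹) * w ^ i * (w' ^ m)⁻¹ by group]
  exact mul_mem (mul_mem hxw' (pow_mem hw i)) (inv_mem (pow_mem hw' m))

/-- Generator of a section of prime order. -/
theorem exists_gen_mod {V W : Subgroup G} (hWV : W ≤ V) (hV : Cfsg.IsElementaryAbelian p V)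
    (hidx : W.relIndex V ≤ p) :
    ∃ g ∈ V, ∀ v ∈ V, ∃ w ∈ W, ∃ i : ℕ, v = w * g ^ i := by
  by_cases h : V ≤ W
  · exact ⟨1, one_mem _, fun v hv => ⟨v, h hv, 0, by simp⟩⟩
  obtain ⟨g, hgV, hgW⟩ := SetLike.not_le_iff_exists.1 h
  refine ⟨g, hgV, fun v hv => ?_⟩
  have hVp : IsPGroup p V := fun a => ⟨1, Subtype.ext (by rw [pow_one]; exact hV.2 a a.2)⟩
  set D := W ⊔ zpowers g with hD
  have hDV : D ≤ V := sup_le hWV (zpowers_le.2 hgV)
  have hmul := relIndex_mul_relIndex W D V le_sup_left hDV
  have hd1 : 1 < W.relIndex D := by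
    have h0 : W.relIndex D ≠ 0 := index_ne_zero_of_finite
    have h1 : W.relIndex D ≠ 1 := fun e => hgW (relIndex_eq_one.1 e (mem_sup_right (mem_zpowers g)))
    omega
  have hd2 : D.relIndex V = 1 := by
    obtain ⟨k, hk⟩ := hVp.index (W.subgroupOf V)
    change W.relIndex V = _ at hk
    have hkp : W.relIndex D ∣ p ^ k := hk ▸ hmul ▸ Dvd.intro _ rfl
    obtain ⟨l, -, hl⟩ := (Nat.dvd_prime_pow hp.out).1 hkp
    have hlp : p ≤ W.relIndex D := by
      rcases l with _ | l
      · simp [hl] at hd1
      · rw [hl, pow_succ]; exact Nat.le_mul_of_pos_left p (pow_pos hp.out.pos l)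
    have h0 : D.relIndex V ≠ 0 := index_ne_zero_of_finite
    by_contra h1
    have : W.relIndex D * 2 ≤ p := le_trans (Nat.mul_le_mul_left _ (by omega)) (hmul.le.trans hidx)
    have := hp.out.pos
    omega
  have hv' : v ∈ W ⊔ zpowers g := relIndex_eq_one.1 hd2 hv
  obtain ⟨w, hw, k, hk, e⟩ := CfsgLib.Coprime.mem_sup_exists (N := W) (H := zpowers g)
    (fun a ha => le_centralizer_iff.1 (show W ≤ centralizer (zpowers g : Set G) from fun y hy =>
      mem_centralizer_iff.2 fun b hb => congrArg Subtype.val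
        (hV.1.is_comm.comm (⟨b, (zpowers_le.2 hgV) hb⟩ : V) ⟨y, hWV hy⟩)) ha |>
        fun h => CfsgLib.Coprime.centralizer_le_normalizer_self W h) hv'
  obtain ⟨i, hi⟩ := (mem_powers_iff_mem_zpowers).2 hk
  exact ⟨w, hw, i, by rw [← e]; exact congrArg (w * ·) hi.symm⟩

/-- Commutators act trivially on sections of order at most `p`. -/
theorem commutator_mod {V W A : Subgroup G} (hWV : W ≤ V) (hV : Cfsg.IsElementaryAbelian p V)
    (hidx : W.relIndex V ≤ p) (hAV : A ≤ normalizer (V : Set G)) (hAW : A ≤ normalizer (W : Set G))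
    {x : G} (hx : x ∈ ⁅A, A⁆) {v : G} (hv : v ∈ V) : x * v * x⁻¹ * v⁻¹ ∈ W := by
  let K : Subgroup G :=
    { carrier := {y | y ∈ normalizer (V : Set G) ∧ y ∈ normalizer (W : Set G) ∧
        ∀ v ∈ V, y * v * y⁻¹ * v⁻¹ ∈ W}
      one_mem' := ⟨one_mem _, one_mem _, fun v _ => by simp⟩
      mul_mem' := by
        rintro a b ⟨ha, ha', ha''⟩ ⟨hb, hb', hb''⟩
        refine ⟨mul_mem ha hb, mul_mem ha' hb', fun v hv => ?_⟩
        have h1 := (mem_normalizer_iff.1 ha' _).1 (hb'' v hv)
        have h2 := mul_mem h1 (ha'' v hv)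
        convert h2 using 1
        group
      inv_mem' := by
        rintro a ⟨ha, ha', ha''⟩
        refine ⟨inv_mem ha, inv_mem ha', fun v hv => ?_⟩
        have h2 := (mem_normalizer_iff.1 (inv_mem ha') _).1 (ha'' v hv)
        convert inv_mem h2 using 1
        group }
  suffices h : ⁅A, A⁆ ≤ K from (h hx).2.2 v hv
  obtain ⟨g, hg, hgen⟩ := exists_gen_mod hWV hV hidx
  rw [commutator_le]
  intro a ha b hb
  have hmem : ∀ {c : G}, c ∈ A → c ∈ normalizer (V : Set G) ∧ c ∈ normalizer (W : Set G) :=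
    fun hc => ⟨hAV hc, hAW hc⟩
  obtain ⟨haV, haW⟩ := hmem ha
  obtain ⟨hbV, hbW⟩ := hmem hb
  have hN : ∀ {H : Subgroup G}, a ∈ H → b ∈ H → ⁅a, b⁆ ∈ H := fun h1 h2 => by
    rw [commutatorElement_def]
    exact mul_mem (mul_mem (mul_mem h1 h2) (inv_mem h1)) (inv_mem h2)
  refine ⟨hN haV hbV, hN haW hbW, fun v hv => ?_⟩
  obtain ⟨m, hm⟩ := exists_scalar_mod hV hWV hg hgen haV haW
  obtain ⟨n, hn⟩ := exists_scalar_mod hV hWV hg hgen hbV hbW
  have hcomm : ∀ {a b : G}, a ∈ V → b ∈ V → Commute a b := fun ha hb =>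
    congrArg Subtype.val (hV.1.is_comm.comm (⟨_, ha⟩ : V) ⟨_, hb⟩)
  set u := (b * a)⁻¹ * v * (b * a) with hu
  have huV : u ∈ V := by
    have := (mem_normalizer_iff.1 (inv_mem (mul_mem hbV haV)) v).1 hv
    rwa [inv_inv] at this
  -- `b a` and `a b` act as the same power map
  have key : ∀ {c d : G} {k l : ℕ}, c ∈ normalizer (W : Set G) → d ∈ normalizer (V : Set G) →
      (∀ v ∈ V, c * v * c⁻¹ * (v ^ k)⁻¹ ∈ W) →
      (∀ v ∈ V, d * v * d⁻¹ * (v ^ l)⁻¹ ∈ W) →
      (c * d) * u * (c * d)⁻¹ * (u ^ (l * k))⁻¹ ∈ W := by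
    intro c d k l hc hd hk hl
    have h1 := (mem_normalizer_iff.1 hc _).1 (hl u huV)
    have h2 := hk (u ^ l) (pow_mem huV l)
    have h3 := mul_mem h1 h2
    rw [pow_mul]
    convert h3 using 1
    group
  have h1 := key haW hbV hm hn
  have h2 := key hbW haV hn hm
  rw [mul_comm m n] at h2
  have h3 := mul_mem h1 (inv_mem h2)
  have e : (b * a) * u * (b * a)⁻¹ = v := by rw [hu]; group
  rw [e] at h3
  convert h3 using 1
  rw [hu, commutatorElement_def]
  group

/-- A `p'`-element stabilizing `V > W > 1` centralizes `V`. -/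
theorem centralizes_of_stab {V W A : Subgroup G} (hWV : W ≤ V) (hV : Cfsg.IsElementaryAbelian p V)
    (h1 : W.relIndex V ≤ p) (h2 : Nat.card W ≤ p) (hAV : A ≤ normalizer (V : Set G))
    (hAW : A ≤ normalizer (W : Set G)) {x : G} (hx : x ∈ ⁅A, A⁆) (hxp : (orderOf x).Coprime p) :
    x ∈ centralizer (V : Set G) := by
  have hVp : IsPGroup p V := fun a => ⟨1, Subtype.ext (by rw [pow_one]; exact hV.2 a a.2)⟩
  have hxA : x ∈ A := (commutator_le.2 fun a ha b hb => by
    rw [commutatorElement_def]
    exact mul_mem (mul_mem (mul_mem ha hb) (inv_mem ha)) (inv_mem hb)) hx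
  have hxV : zpowers x ≤ normalizer (V : Set G) := zpowers_le.2 (hAV hxA)
  have hcop : (Nat.card (zpowers x)).Coprime (Nat.card V) := by
    obtain ⟨k, hk⟩ := IsPGroup.iff_card.1 hVp
    rw [hk, Nat.card_zpowers]
    exact hxp.pow_right k
  have hW : zpowers x ≤ centralizer (W : Set G) := by
    refine zpowers_le.2 (mem_centralizer_iff.2 fun w hw => ?_)
    have h3 : Cfsg.IsElementaryAbelian p W :=
      ⟨⟨⟨fun a b => Subtype.ext (show (a : G) * b = b * a from congrArg Subtype.val
        (hV.1.is_comm.comm (⟨a, hWV a.2⟩ : V) ⟨b, hWV b.2⟩))⟩⟩, fun a ha => hV.2 a (hWV ha)⟩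
    have h4 := mem_bot.1 (commutator_mod (W := ⊥) bot_le h3 (by rw [relIndex_bot_left]; exact h2)
      hAW (by rw [normalizer_eq_top]; exact le_top) hx hw)
    rw [mul_inv_eq_one, mul_inv_eq_iff_eq_mul] at h4
    exact h4.symm
  refine CfsgLib.Coprime.le_centralizer_of_le_centralizer_commutator hxV hcop
    (Or.inl (CfsgLib.Coprime.isSolvable_of_isMulCommutative inferInstance))
    (hW.trans (centralizer_le (show ⁅V, zpowers x⁆ ≤ W from ?_))) (mem_zpowers x)
  rw [commutator_le]
  intro v hv y hy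
  obtain ⟨i, hi⟩ := (mem_powers_iff_mem_zpowers).2 hy
  have hxi : ∀ i : ℕ, x ^ i * v * (x ^ i)⁻¹ * v⁻¹ ∈ W := by
    intro i
    induction i with
    | zero => simp
    | succ i ih =>
      have h5 := (mem_normalizer_iff.1 (hAW hxA) _).1 ih
      have h6 := mul_mem h5 (commutator_mod hWV hV h1 hAV hAW hx hv)
      convert h6 using 1
      rw [pow_succ']
      group
  have := inv_mem (hxi i)
  rw [show (x ^ i) = y from hi] at this
  convert this using 1
  rw [commutatorElement_def]
  group

/-- For odd `A` acting on an elementary group of order at most `p²`, the `p'`-elements of `A'` act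
trivially. -/
theorem centralizes_of_rank_two {V A : Subgroup G} (hp2 : p ≠ 2) (hV : Cfsg.IsElementaryAbelian p V)
    (hVc : Nat.card V ≤ p ^ 2) (hAV : A ≤ normalizer (V : Set G)) (hAs : Group.IsSolvable A)
    (hodd : Odd (Nat.card A)) {x : G} (hx : x ∈ ⁅A, A⁆) (hxp : (orderOf x).Coprime p) :
    x ∈ centralizer (V : Set G) := by
  have hVp : IsPGroup p V := fun a => ⟨1, Subtype.ext (by rw [pow_one]; exact hV.2 a a.2)⟩
  obtain ⟨n, hn⟩ := IsPGroup.iff_card.1 hVp
  have hn2 : n ≤ 2 := by
    rw [hn] at hVc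
    exact (Nat.pow_le_pow_iff_right hp.out.one_lt).1 hVc
  by_cases hred : ∃ W : Subgroup G, W ≤ V ∧ A ≤ normalizer (W : Set G) ∧ W.relIndex V ≤ p ∧
      Nat.card W ≤ p
  · obtain ⟨W, hWV, hAW, h1, h2⟩ := hred
    exact centralizes_of_stab hWV hV h1 h2 hAV hAW hx hxp
  push Not at hred
  have hn' : n = 2 := by
    by_contra hne
    refine absurd (hred ⊥ bot_le (by rw [normalizer_eq_top]; exact le_top) ?_) ?_
    · rw [relIndex_bot_left, hn]
      exact (Nat.pow_le_pow_right hp.out.pos (show n ≤ 1 by omega)).trans (pow_one p).le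
    · rw [card_bot]; exact not_lt.2 hp.out.one_lt.le
  have hprop : ∀ W : Subgroup G, W ≤ V → A ≤ normalizer (W : Set G) → W = ⊥ ∨ W = V := by
    intro W hWV hAW
    obtain ⟨k, hk⟩ := IsPGroup.iff_card.1 (hVp.to_le hWV)
    have hmul : Nat.card W * W.relIndex V = Nat.card V := by
      rw [← Nat.card_congr (subgroupOfEquivOfLe hWV).toEquiv]
      exact card_mul_index _
    rw [hk, hn, hn'] at hmul
    have hk2 : k ≤ 2 := (Nat.pow_dvd_pow_iff_le_right hp.out.one_lt).1 (Dvd.intro _ hmul)
    interval_cases k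
    · exact Or.inl (card_eq_one.1 (by rw [hk, pow_zero]))
    · exfalso
      have h1 : W.relIndex V = p :=
        Nat.eq_of_mul_eq_mul_left hp.out.pos (by rw [pow_one] at hmul; rw [hmul, sq])
      exact absurd (hred W hWV hAW h1.le) (not_lt.2 (hk.trans (pow_one p)).le)
    · exact Or.inr (eq_of_le_of_card_ge hWV (by rw [hk, hn, hn']))
  set C := centralizer (V : Set G) with hC
  -- `p`-elements act trivially
  have hpel : ∀ a ∈ A, IsPGroup p (zpowers a) → a ∈ C := by
    intro a ha hap
    by_contra hac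
    set X := V ⊔ A with hX
    have hXn : X ≤ normalizer (V : Set G) := sup_le le_normalizer hAV
    have hXodd : Odd (Nat.card X) := by
      have h1 := CfsgLib.EABasic.card_sup_mul_card_inf_of_le_normalizer (H := A) (N := V) hAV
      rw [sup_comm] at h1
      have hpodd : Odd (p ^ n) := (hp.out.odd_of_ne_two hp2).pow
      have h2 : Odd (Nat.card A * Nat.card V) := hodd.mul (hn ▸ hpodd)
      rw [← h1] at h2
      exact (Nat.odd_mul.1 h2).1
    set V' := V.subgroupOf X
    haveI : V'.Normal := normal_subgroupOf_of_le_normalizer hXn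
    set a' : X := ⟨a, mem_sup_right ha⟩
    have hT : IsPGroup p ↥(V ⊔ zpowers a) :=
      hVp.to_sup_of_normal_left' hap (zpowers_le.2 (hAV ha))
    obtain ⟨t, htV, ht, hta⟩ := CfsgLib.Invol.exists_fixed_of_normalized hap hVp
      (fun h => by rw [h, card_bot] at hn; rw [hn'] at hn
                   exact absurd hn.symm (ne_of_gt (Nat.one_lt_pow (by norm_num) hp.out.one_lt)))
      (zpowers_le.2 (hAV ha))
    have hW : zpowers t ≤ V := zpowers_le.2 htV
    have hWidx : (zpowers t).relIndex V = p := by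
      have hmul : Nat.card (zpowers t) * (zpowers t).relIndex V = Nat.card V := by
        rw [← Nat.card_congr (subgroupOfEquivOfLe hW).toEquiv]
        exact card_mul_index _
      rw [Nat.card_zpowers, ht, hn, hn', sq] at hmul
      exact Nat.eq_of_mul_eq_mul_left hp.out.pos hmul
    have hmod : ∀ v ∈ V, a * v * a⁻¹ * v⁻¹ ∈ zpowers t := by
      intro v hv
      have hWn : a ∈ normalizer (zpowers t : Set G) := by
        refine centralizer_le_normalizer _ ?_
        refine mem_centralizer_iff.2 ?_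
        rintro _ ⟨i, rfl⟩
        exact ((show Commute t a from
          (mem_centralizer_singleton_iff.1 (hta (mem_zpowers a))).symm).zpow_left i)
      obtain ⟨g, hg, hgen⟩ := exists_gen_mod hW hV hWidx.le
      obtain ⟨m, hm⟩ := exists_scalar_mod hV hW hg hgen (hAV ha) hWn
      obtain ⟨k, hk⟩ := IsPGroup.iff_card.1 hap
      have hiter : ∀ i : ℕ, a ^ i * g * (a ^ i)⁻¹ * (g ^ (m ^ i))⁻¹ ∈ zpowers t := by
        intro i
        induction i with
        | zero => simp
        | succ i ih =>
          have h5 := (mem_normalizer_iff.1 hWn _).1 ih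
          have h6 := mul_mem h5 (hm (g ^ (m ^ i)) (pow_mem hg _))
          convert h6 using 1
          rw [← pow_mul, ← pow_succ, pow_succ']
          group
      have h1 := hiter (p ^ k)
      rw [show a ^ (p ^ k) = 1 by rw [← hk, Nat.card_zpowers, pow_orderOf_eq_one]] at h1
      rw [one_mul, inv_one, mul_one] at h1
      have hmm : g ^ (m ^ (p ^ k)) = g ^ m := by
        rw [pow_eq_pow_iff_modEq]
        refine Nat.ModEq.of_dvd (orderOf_dvd_of_pow_eq_one (hV.2 g hg)) ?_
        rw [← ZMod.natCast_eq_natCast_iff, Nat.cast_pow, ZMod.pow_card_pow]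
      rw [hmm] at h1
      obtain ⟨w, hw, i, rfl⟩ := hgen v hv
      have h2 := hm (w * g ^ i) hv
      have hcomm : Commute w (g ^ i) := congrArg Subtype.val
        (hV.1.is_comm.comm (⟨w, hW hw⟩ : V) ⟨g ^ i, pow_mem hg i⟩)
      have hcomm' : Commute g (g ^ m)⁻¹ := (Commute.self_pow g m).inv_right
      have h3 : g ^ i * ((g ^ m)⁻¹) ^ i ∈ zpowers t := by
        rw [← hcomm'.mul_pow]; exact pow_mem h1 i
      rw [hcomm.mul_pow] at h2
      have h4 := mul_mem (mul_mem h2 (pow_mem hw m)) (inv_mem (mul_mem hw h3))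
      convert h4 using 1
      rw [← pow_mul, ← inv_pow, ← pow_mul, inv_pow, mul_comm m i]
      group
    have hquad : ⁅⁅V', zpowers a'⁆, zpowers a'⁆ = ⊥ := by
      refine (map_eq_bot_iff_of_injective _ X.subtype_injective).1 (le_bot_iff.1 ?_)
      rw [Subgroup.map_commutator, Subgroup.map_commutator, map_subgroupOf_eq_of_le le_sup_left,
        MonoidHom.map_zpowers]
      have h1 : ⁅V, zpowers a⁆ ≤ zpowers t := by
        rw [commutator_le]
        intro v hv y hy
        obtain ⟨i, hi⟩ := (mem_powers_iff_mem_zpowers).2 hy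
        have hxi : ∀ i : ℕ, a ^ i * v * (a ^ i)⁻¹ * v⁻¹ ∈ zpowers t := by
          intro i
          induction i with
          | zero => simp
          | succ i ih =>
            have h5 : a * (a ^ i * v * (a ^ i)⁻¹ * v⁻¹) * a⁻¹ ∈ zpowers t := by
              obtain ⟨j, hj⟩ := ih
              rw [← hj]
              show a * t ^ j * a⁻¹ ∈ zpowers t
              rw [((show Commute a t from
                mem_centralizer_singleton_iff.1 (hta (mem_zpowers a))).zpow_right j).eq,
                mul_inv_cancel_right]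
              exact zpow_mem (mem_zpowers t) j
            have h6 := mul_mem h5 (hmod v hv)
            convert h6 using 1
            rw [pow_succ']
            group
        have := inv_mem (hxi i)
        rw [show (a ^ i) = y from hi] at this
        convert this using 1
        rw [commutatorElement_def]
        group
      refine le_bot_iff.2 (commutator_eq_bot_iff_le_centralizer.2 ?_)
      refine h1.trans (zpowers_le.2 (mem_centralizer_iff.2 ?_))
      rintro _ ⟨i, rfl⟩
      exact ((show Commute a t from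
        mem_centralizer_singleton_iff.1 (hta (mem_zpowers a))).zpow_left i)
    have hV'p : IsPGroup p V' := hVp.of_equiv (subgroupOfEquivOfLe le_sup_left).symm
    have hst := isPStableOn_of_odd hp2 hXodd V' hV'p a' hquad
    set C' := centralizer (V' : Set X)
    set π := QuotientGroup.mk' C'
    haveI := CfsgLib.Coprime.pCore_normal' (G := X ⧸ C') p
    obtain ⟨U, hU, hUm⟩ := CfsgLib.Fusion.exists_pGroup_map_eq π (Cfsg.pCore p (X ⧸ C'))
      (CfsgLib.Coprime.pCore_isPGroup p)
      (by rw [MonoidHom.range_eq_top.2 (QuotientGroup.mk'_surjective C')]; exact le_top)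
    set D := (Cfsg.pCore p (X ⧸ C')).comap π with hD
    set W := (V' ⊓ centralizer (D : Set X)).map X.subtype with hWdef
    have hWV : W ≤ V := (map_mono inf_le_left).trans (le_of_eq (map_subgroupOf_eq_of_le le_sup_left))
    have hXW : X ≤ normalizer (W : Set G) := fun y hy =>
      le_normalizer_map X.subtype ⟨⟨y, hy⟩,
        (normalizer_eq_top (V' ⊓ centralizer (D : Set X))).symm ▸ mem_top _, rfl⟩
    rcases hprop W hWV (le_sup_right.trans hXW) with hW0 | hW0
    · -- a `p`-group of the automizer fixes a point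
      have hV'ne : V' ≠ ⊥ := fun h => by
        have : V = ⊥ := by
          rw [← map_subgroupOf_eq_of_le (le_sup_left : V ≤ X), show V.subgroupOf X = ⊥ from h,
            Subgroup.map_bot]
        rw [this, card_bot, hn'] at hn
        exact absurd hn.symm (ne_of_gt (Nat.one_lt_pow (by norm_num) hp.out.one_lt))
      obtain ⟨s, hsV, hs, hsU⟩ := CfsgLib.Invol.exists_fixed_of_normalized hU hV'p hV'ne
        (by rw [normalizer_eq_top]; exact le_top)
      have hsD : s ∈ centralizer (D : Set X) := by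
        refine mem_centralizer_iff.2 fun d hd => ?_
        have hd' : π d ∈ U.map π := by rw [hUm]; exact hd
        obtain ⟨y, hy, hye⟩ := hd'
        have h1 : y⁻¹ * d ∈ C' := (QuotientGroup.eq (s := C')).1 hye
        have h2 : Commute s (y⁻¹ * d) := mem_centralizer_iff.1 h1 s hsV
        have h3 : Commute s y := (mem_centralizer_singleton_iff.1 (hsU hy)).symm
        have h4 := h3.mul_right h2
        rw [mul_inv_cancel_left] at h4
        exact h4.symm
      have : (s : G) ∈ W := mem_map_of_mem X.subtype (mem_inf.2 ⟨hsV, hsD⟩)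
      rw [hW0, mem_bot] at this
      rw [← Subgroup.orderOf_coe, this, orderOf_one] at hs
      exact hp.out.one_lt.ne hs
    · refine hac (mem_centralizer_iff.2 fun v hv => ?_)
      rw [← hW0] at hv
      obtain ⟨v', hv', rfl⟩ := hv
      exact congrArg Subtype.val (mem_centralizer_iff.1 hv'.2 a' (show π a' ∈ _ from hst)).symm
  -- so `A` acts as a `p'`-group
  letI : CommGroup V := { mul_comm := fun x y => hV.1.is_comm.comm x y }
  have hexp : ∀ v : Additive V, p • v = 0 := fun v => Subtype.ext (hV.2 _ v.toMul.2)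
  haveI : Finite (Additive V) := Finite.of_equiv V Additive.ofMul
  let cj : A → (Additive V →+ Additive V) := fun g =>
    AddMonoidHom.mk' (fun v : Additive V => Additive.ofMul (⟨(g : G) * (v.toMul : V) * (g : G)⁻¹,
      (Subgroup.mem_normalizer_iff.1 (hAV g.2) _).1 v.toMul.2⟩ : V))
      fun v w => congrArg Additive.ofMul (Subtype.ext (show
        (g : G) * (((v.toMul : V) : G) * ((w.toMul : V) : G)) * (g : G)⁻¹ =
        (g : G) * (v.toMul : V) * (g : G)⁻¹ * ((g : G) * (w.toMul : V) * (g : G)⁻¹) by group))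
  have hcj : ∀ (g : A) (v : Additive V),
      (((cj g v).toMul : V) : G) = (g : G) * (v.toMul : V) * (g : G)⁻¹ := fun _ _ => rfl
  have hvext : ∀ v w : Additive V, ((v.toMul : V) : G) = ((w.toMul : V) : G) → v = w :=
    fun v w h => Subtype.ext h
  obtain ⟨d, e, R, hM⟩ := CfsgLib.Qd.exists_matrixRep hexp cj
    (fun v => hvext _ _ (by rw [hcj]; simp))
    (fun g h v => hvext _ _ (by rw [hcj, hcj, hcj, Subgroup.coe_mul]; group))
  have hd : d = 2 := by
    have h1 : Nat.card (Additive V) = p ^ d := by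
      rw [Nat.card_congr e.toEquiv, Nat.card_fun, Nat.card_eq_fintype_card, ZMod.card, Nat.card_fin]
    rw [Nat.card_congr Additive.toMul, hn, hn'] at h1
    exact (Nat.pow_right_injective hp.out.two_le h1).symm
  subst hd
  let ρ : A →* (Matrix (Fin 2) (Fin 2) (ZMod p))ˣ := R.toHomUnits
  have hker : ∀ g : A, ρ g = 1 ↔ (g : G) ∈ C := by
    intro g
    rw [← Units.val_inj, MonoidHom.coe_toHomUnits, Units.val_one]
    constructor
    · intro hg
      rw [hC, mem_centralizer_iff]
      intro x hx
      have h1 := hM g (Additive.ofMul ⟨x, hx⟩)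
      rw [hg, Matrix.one_mulVec] at h1
      have h2 := hcj g (Additive.ofMul ⟨x, hx⟩)
      rw [← e.injective h1] at h2
      exact eq_mul_inv_iff_mul_eq.1 h2
    · intro hg
      refine Matrix.ext_of_mulVec_single fun i => ?_
      have h1 := hM g (e.symm (Pi.single i 1))
      rw [AddEquiv.apply_symm_apply] at h1
      rw [h1, Matrix.one_mulVec, show cj g (e.symm (Pi.single i 1)) = e.symm (Pi.single i 1) from
        hvext _ _ (by rw [hcj, ← mem_centralizer_iff.1 hg _ ((e.symm (Pi.single i 1)).toMul.2),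
          mul_inv_cancel_right]), AddEquiv.apply_symm_apply]
  set H := ρ.range
  haveI := hAs
  haveI : Group.IsSolvable H := Group.isSolvable_of_surjective ρ.rangeRestrict_surjective
  haveI : Finite H := Finite.of_surjective _ ρ.rangeRestrict_surjective
  have hHodd : Odd (Nat.card H) := hodd.of_dvd_nat (card_range_dvd ρ)
  have hHm : (Nat.card H : ZMod p) ≠ 0 := by
    rw [Ne, ZMod.natCast_eq_zero_iff]
    intro hpH
    obtain ⟨h, hh⟩ := exists_prime_orderOf_dvd_card' p hpH
    obtain ⟨g, hg⟩ := ρ.rangeRestrict_surjective h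
    obtain ⟨k, l, hl, hkl⟩ := Nat.exists_eq_pow_mul_and_not_dvd (orderOf_pos g).ne' p hp.out.ne_one
    have hgl : IsPGroup p (zpowers ((g : G) ^ l)) := by
      have h1 : ((g : G) ^ l) ^ p ^ k = 1 := by
        rw [← pow_mul, mul_comm, ← hkl, Subgroup.orderOf_mk, pow_orderOf_eq_one]
      obtain ⟨i, -, hi⟩ := (Nat.dvd_prime_pow hp.out).1 (orderOf_dvd_of_pow_eq_one h1)
      exact IsPGroup.of_card (n := i) (by rw [Nat.card_zpowers, hi])
    have h1 : ρ (g ^ l) = 1 := (hker _).2 (by
      rw [Subgroup.coe_pow]; exact hpel _ (pow_mem g.2 l) hgl)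
    have h2 : h ^ l = 1 := by rw [← hg, ← map_pow]; exact Subtype.ext h1
    exact hl (hh ▸ orderOf_dvd_of_pow_eq_one h2)
  have h2 : (2 : ZMod p) ≠ 0 := by
    intro h
    have h' : ((2 : ℕ) : ZMod p) = 0 := by simpa using h
    rw [ZMod.natCast_eq_zero_iff] at h'
    exact hp2 ((Nat.prime_dvd_prime_iff_eq hp.out Nat.prime_two).1 h')
  have habel := commutator_eq_bot_of_rep_two hHodd hHm h2
    ((Units.coeHom _).comp H.subtype) (Units.val_injective.comp H.subtype_injective)
  have hx' : x ∈ (commutator A).map A.subtype := by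
    rw [_root_.commutator_def, Subgroup.map_commutator, ← MonoidHom.range_eq_map, A.range_subtype]
    exact hx
  obtain ⟨x', hx', rfl⟩ := hx'
  refine (hker x').1 ?_
  have : ρ.rangeRestrict x' ∈ commutator H := by
    have h3 := mem_map_of_mem ρ.rangeRestrict hx'
    rw [_root_.commutator_def, Subgroup.map_commutator] at h3
    rw [_root_.commutator_def]
    exact commutator_mono le_top le_top h3
  rw [habel, mem_bot] at this
  exact congrArg Subtype.val this

end Groups

end CfsgLib.CFun
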