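import Cfsg.Agent.Lib.CFun.OddMeetExponent
import Cfsg.Agent.Lib.CFun.OddTypePBasic
import Mathlib.GroupTheory.SpecificGroups.ZGroup

/-!
# The alternatives for `F(M) ∩ F(M) ^ g`
-/

set_option autoImplicit false
set_option linter.style.haveILetI false
set_option linter.unusedSectionVars false

open Subgroup
open scoped commutatorElement
open CfsgLib.Coprime (conjBy conjBy_conjBy conjBy_one mem_conjBy conj_mem_conjBy card_conjBy
  IsSylowIn IsPiNum)

namespace CfsgLib.CFun.MeetStructure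

open CfsgLib.CFun.TauTwo CfsgLib.CFun.Lines CfsgLib.CFun.Kappa CfsgLib.CFun.Partner
open CfsgLib.CFun.ElemCent CfsgLib.CFun.FitTI

universe u

variable {G : Type u} [Group G] [Finite G]

/-- A nilpotent group with cyclic `p`-subgroups is cyclic. -/
theorem isCyclic_of_nilpotent_pGroups {V : Subgroup G} (hV : Group.IsNilpotent V)
    (h : ∀ (q : ℕ) (R : Subgroup G), q.Prime → R ≤ V → IsPGroup q R → IsCyclic R) :
    IsCyclic V := by
  haveI := hV
  haveI : IsZGroup V := by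
    refine ⟨fun q hq P => ?_⟩
    haveI := Fact.mk hq
    haveI := h q ((P : Subgroup V).map V.subtype) hq (map_subtype_le _) (P.2.map _)
    exact ((P : Subgroup V).equivMapOfInjective V.subtype V.subtype_injective).isCyclic.2
      inferInstance
  infer_instance

variable (hG : Cfsg.IsMinSimpleOddOrder G) {M : Subgroup G} (hM : IsCoatom M) {g x : G}
  {p : ℕ} [hp : Fact p.Prime] (h : Meet M g x) (hxp : x ^ p = 1)
include hG hM h hxp

/-- The prime of `x` is in `σ(M) \ β(M)`. -/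
theorem prime_facts : p ∈ Cfsg.sigma M ∧ p ∉ Cfsg.beta M ∧
    p ∣ Nat.card (Cfsg.fittingHallOf M) := by
  have hxσ := mem_sigmaCore hG hM h
  have hd : p ∣ orderOf x := by rw [orderOf_eq_prime hxp h.ne]
  refine ⟨Cosets.sigma_of_mem hG hM hxσ hp.out hd, not_beta_of_meet hG hM h hp.out hd, ?_⟩
  rw [fittingHall_eq hG hM h]
  exact hd.trans (Subgroup.orderOf_dvd_natCard _ hxσ)

section Nonabelian

variable (hS : ∀ S : Sylow p G, ¬ IsMulCommutative (S : Subgroup G))
include hS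

/-- `O_{p'}(H)` is cyclic, `O_p(H)` is the Sylow subgroup. -/
theorem hall_facts : IsCyclic (Cfsg.pPrimeCore p ↥(Cfsg.fittingHallOf M)) ∧
    ∃ S : Sylow p G, (S : Subgroup G) ≤ Cfsg.sigmaCore M ∧
      M ≤ normalizer ((S : Subgroup G) : Set G) ∧
      (∀ v ∈ Cfsg.sigmaCore M, (∃ n : ℕ, v ^ p ^ n = 1) → v ∈ (S : Subgroup G)) ∧
      Nat.card (Cfsg.pCore p ↥(Cfsg.fittingHallOf M)) = Nat.card ↥(S : Subgroup G) ∧
      ¬ IsMulCommutative (Cfsg.pCore p ↥(Cfsg.fittingHallOf M)) := by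
  rw [fittingHall_eq hG hM h]
  haveI := nilpotent hG hM h
  obtain ⟨S, hSσ, -, hSn, hmem⟩ := exists_sylow hG hM h hxp
  set V := Cfsg.pPrimeCore p ↥(Cfsg.sigmaCore M)
  refine ⟨?_, S, hSσ, hSn, hmem, ?_⟩
  · have hcV : IsCyclic ↥(V.map (Cfsg.sigmaCore M).subtype) := by
      refine isCyclic_of_nilpotent_pGroups ?_ fun q R hq hR hRq => ?_
      · exact Group.nilpotent_of_mulEquiv
          (V.equivMapOfInjective _ (Cfsg.sigmaCore M).subtype_injective)
      haveI := Fact.mk hq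
      rcases eq_or_ne q p with hqp | hqp
      · subst hqp
        suffices R = ⊥ by subst this; infer_instance
        refine card_eq_one.1 ((IsPGroup.iff_card.1 hRq).elim fun i hi => ?_)
        rcases i with _ | i
        · exact hi.trans (pow_zero q)
        refine absurd ?_ (CfsgLib.Coprime.pPrimeCore_not_dvd (G := ↥(Cfsg.sigmaCore M)) hq)
        rw [← card_map_of_injective (Cfsg.sigmaCore M).subtype_injective]
        exact (hi ▸ dvd_pow_self q i.succ_ne_zero).trans (card_dvd_of_le hR)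
      · exact cyclic_of_ne hG hM h hxp hS hqp (hR.trans (map_subtype_le _)) hRq
    exact (V.equivMapOfInjective _ (Cfsg.sigmaCore M).subtype_injective).isCyclic.2 hcV
  · set S' := (S : Subgroup G).subgroupOf (Cfsg.sigmaCore M) with hS'
    haveI : S'.Normal :=
      normal_subgroupOf_of_le_normalizer ((map_subtype_le _).trans hSn)
    have he : Cfsg.pCore p ↥(Cfsg.sigmaCore M) = S' := by
      refine le_antisymm (sSup_le fun N hN y hy => ?_)
        (CfsgLib.Coprime.le_pCore (S.2.of_equiv (subgroupOfEquivOfLe hSσ).symm))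
      obtain ⟨n, hn⟩ := hN.2 ⟨y, hy⟩
      exact hmem _ y.2 ⟨n, congrArg (fun t : N => ((t : ↥(Cfsg.sigmaCore M)) : G)) hn⟩
    rw [he]
    refine ⟨Nat.card_congr (subgroupOfEquivOfLe hSσ).toEquiv, fun hc => hS S ?_⟩
    haveI := hc
    have := Subgroup.map_isMulCommutative S' (Cfsg.sigmaCore M).subtype
    rwa [hS', map_subgroupOf_eq_of_le hSσ] at this

/-- The subgroup `F(M) ∩ F(M) ^ g` containing `x` has order `p`. -/
theorem card_inter {X : Subgroup G} (hXc : IsCyclic X) (hxX : x ∈ X)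
    (hX : ∀ y ∈ X, y ≠ 1 → Meet M g y) : Nat.card X = p := by
  obtain ⟨y, hy⟩ := hXc.exists_generator
  set y₀ : G := (y : G)
  have hy0 : ∀ a ∈ X, a ∈ zpowers y₀ := fun a ha => by
    obtain ⟨i, hi⟩ := mem_zpowers_iff.1 (hy ⟨a, ha⟩)
    exact ⟨i, congrArg Subtype.val hi⟩
  have hXy : X = zpowers y₀ := le_antisymm hy0 (zpowers_le.2 y.2)
  have hy1 : y₀ ≠ 1 := fun e => h.ne (by
    have := hy0 x hxX
    rw [e, zpowers_one_eq_bot, mem_bot] at this
    exact this)
  have hmeet := hX y₀ y.2 hy1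
  obtain ⟨j, hj⟩ : ∃ j, orderOf y₀ = p ^ j := by
    refine ⟨_, Nat.eq_prime_pow_of_unique_prime_dvd (orderOf_pos y₀).ne' (p := p)
      fun {d} hd hdd => ?_⟩
    haveI := Fact.mk hd
    exact orderOf_meet hG hM h hxp hS hmeet (hy0 x hxX) hdd
  rw [hXy, Nat.card_zpowers, hj]
  rcases j with _ | _ | j
  · exact absurd (orderOf_eq_one_iff.1 (hj.trans (pow_zero p))) hy1
  · exact pow_one p
  exfalso
  have hx' : (y₀ ^ p ^ (j + 1)) ^ p = 1 := by
    rw [← pow_mul, ← pow_succ, ← hj, pow_orderOf_eq_one]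
  have hne : y₀ ^ p ^ (j + 1) ≠ 1 := fun e => by
    have := orderOf_dvd_of_pow_eq_one e
    rw [hj, Nat.pow_dvd_pow_iff_le_right hp.out.one_lt] at this
    omega
  have hm' := hmeet.pow (pow_mem (mem_zpowers y₀) _) hne
  exact no_root hG hM hm' hx' hS
    (pow_mem (mem_sigmaCore hG hM hmeet) (p ^ j)) (by rw [← pow_mul, ← pow_succ])

/-- The exponent of `M / H` when `K = 1`. -/
theorem exponent_quotient {K U : Subgroup G} (d : Cfsg.IsSigmaDecomposition M K U)
    {q : ℕ} (hq : q.Prime) (hqd : q ∣ Nat.card (Cfsg.fittingHallOf M))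
    (hUK : ∀ u ∈ U ⊔ K, u ^ (q - 1) = 1) :
    Monoid.exponent (↥M ⧸ Cfsg.fittingHall ↥M) ∣ q - 1 := by
  rw [Monoid.exponent_dvd_iff_forall_pow_eq_one]
  intro t
  obtain ⟨m, rfl⟩ := QuotientGroup.mk'_surjective _ t
  have hE := Decomp.compl hG hM d
  obtain ⟨e, he, s, hs, hes⟩ := hE.2.2.2 (m : G) m.2
  have hsM : s ∈ M := map_subtype_le _ hs
  have hsH : (⟨s, hsM⟩ : M) ∈ Cfsg.fittingHall ↥M := by
    rw [← fittingHall_eq hG hM h] at hs
    obtain ⟨w, hw, hws⟩ := hs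
    rwa [show (⟨s, hsM⟩ : M) = w from Subtype.ext hws.symm]
  have hm : m = ⟨e, hE.1 he⟩ * ⟨s, hsM⟩ := Subtype.ext hes
  rw [hm, map_mul, (QuotientGroup.eq_one_iff _).2 hsH |>.trans rfl |> fun h1 =>
    show (QuotientGroup.mk' (Cfsg.fittingHall ↥M)) ⟨s, hsM⟩ = 1 from h1, mul_one, ← map_pow]
  rw [show (⟨e, hE.1 he⟩ : M) ^ (q - 1) = 1 from Subtype.ext (by
    rw [SubmonoidClass.coe_pow, OneMemClass.coe_one]
    exact hUK e (by rwa [sup_comm])), map_one]

/-- The two nonabelian alternatives. -/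
theorem alternatives {K U : Subgroup G} (d : Cfsg.IsSigmaDecomposition M K U) :
    (∀ q : ℕ, q.Prime → q ∣ Nat.card (Cfsg.fittingHallOf M) →
      Monoid.exponent (↥M ⧸ Cfsg.fittingHall ↥M) ∣ q - 1) ∨
    (Nat.card (Cfsg.pCore p ↥(Cfsg.fittingHallOf M)) = p ^ 3 ∧ K ≠ ⊥ ∧ U = ⊥ ∧
      (Cfsg.fittingHallOf M).relIndex M ∣ p + 1) := by
  by_cases hK : K = ⊥
  · refine Or.inl fun q hq hqd => exponent_quotient hG hM h hxp hS d hq hqd fun u hu => ?_
    rw [hK, sup_bot_eq] at hu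
    have h1 := exponent_dvd hG hM h hxp hS d hK hq (fittingHall_eq hG hM h ▸ hqd)
    have h2 := Monoid.exponent_dvd_iff_forall_pow_eq_one.1 h1 ⟨u, hu⟩
    exact congrArg Subtype.val h2
  obtain ⟨hU, hcK, -⟩ := kappa_facts hG hM h hxp hS d hK
  obtain ⟨-, S, hSσ, hSn, hmem, hc, -⟩ := hall_facts hG hM h hxp hS
  have hK' : ∀ q, Nat.card K ∣ q - 1 → ∀ u ∈ U ⊔ K, u ^ (q - 1) = 1 := fun q hd u hu => by
    rw [hU, bot_sup_eq] at hu
    exact orderOf_dvd_iff_pow_eq_one.1 ((Subgroup.orderOf_dvd_natCard K hu).trans hd)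
  rcases card_dvd_or hG hM h hxp hS d hK hSσ hSn hmem with h1 | ⟨h3, h1⟩
  · refine Or.inl fun q hq hqd => exponent_quotient hG hM h hxp hS d hq hqd (hK' q ?_)
    haveI := Fact.mk hq
    rcases eq_or_ne q p with rfl | hqp
    · exact h1
    · exact card_dvd_of_ne hG hM h hxp hS d hK hqp (fittingHall_eq hG hM h ▸ hqd)
  · refine Or.inr ⟨hc.trans h3, hK, hU, ?_⟩
    rw [fittingHall_eq hG hM h]
    have e1 := Kappa.card_of_compl hcK
    have e2 := CfsgLib.Coprime.card_mul_relIndex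
      (map_subtype_le _ : Cfsg.sigmaCore M ≤ M)
    rw [show (Cfsg.sigmaCore M).relIndex M = Nat.card K from
      Nat.eq_of_mul_eq_mul_left Nat.card_pos (e2.trans (e1.trans (mul_comm _ _)))]
    exact h1

end Nonabelian

omit h hxp hp in
/-- Either `M_σ` is abelian of rank two, or some prime has nonabelian Sylow subgroups. -/
theorem cases_of_meet {g x : G} (h : Meet M g x) :
    (Cfsg.fittingHallOf M = Cfsg.sigmaCore M ∧ IsMulCommutative (Cfsg.fittingHallOf M) ∧
      Cfsg.RankLE 2 (Cfsg.fittingHallOf M) ∧ ¬ Cfsg.RankLE 1 (Cfsg.fittingHallOf M) ∧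
      ∀ K U : Subgroup G, Cfsg.IsSigmaDecomposition M K U → K = ⊥) ∨
    ∃ (p : ℕ) (x' : G), p.Prime ∧ x' ∈ zpowers x ∧ Meet M g x' ∧ x' ^ p = 1 ∧
      ∀ S : Sylow p G, ¬ IsMulCommutative (S : Subgroup G) := by
  obtain ⟨p, W, hp, hW, hWc⟩ := exists_prime_line (H := zpowers x) (zpowers_ne_bot.2 h.ne)
  haveI := Fact.mk hp
  obtain ⟨w, hw, hw1, hwp, -⟩ := exists_gen hWc
  have hm := h.pow (hW hw) hw1
  by_cases hab : ∃ S : Sylow p G, IsMulCommutative (S : Subgroup G)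
  · obtain ⟨S, hSc⟩ := hab
    refine Or.inl ⟨fittingHall_eq hG hM h, ?_⟩
    rw [fittingHall_eq hG hM h]
    refine abelian_case hG hM hm hwp fun T => ?_
    obtain ⟨c, hc⟩ := exists_conjBy_sylow S T
    rw [hc]
    exact Subgroup.map_isMulCommutative _ _
  · exact Or.inr ⟨p, w, hp, hW hw, hm, hwp, fun S hS => hab ⟨S, hS⟩⟩

end CfsgLib.CFun.MeetStructure
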