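import Cfsg.Agent.Lib.CFun.OddMetacyclicAction
import Cfsg.Agent.Lib.PGroup.HeisenbergExtension
import Cfsg.Agent.Lib.PGroup.MetacyclicRecog
import Cfsg.Agent.Lib.PGroup.NormalRankTwo
import Cfsg.Agent.S0640

/-!
# Odd operators on `p`-groups of rank two

An odd `p`-group of rank at most two moved onto itself by coprime operators of odd order is abelian
or a central product of an extraspecial group of order `p^3` and exponent `p` with a cyclic group.
-/

set_option autoImplicit false
set_option linter.unusedSectionVars false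

open Subgroup
open scoped commutatorElement

namespace CfsgLib.CFun.RankTwoMoves

universe u

open CfsgLib.CFun.MetaAct (Moves)
open CfsgLib.Heisenberg

variable {R : Type u} [Group R] [Finite R] {p : ℕ} [hp : Fact p.Prime]

theorem three_lt (hp2 : p ≠ 2) (hR : IsPGroup p R) [Nontrivial R] (hrk : Cfsg.PRankLE p 2 R)
    {Θ : Subgroup (MulAut R)} (hodd : Odd (Nat.card Θ)) (hcop : (Nat.card Θ).Coprime p)
    (hmov : Moves Θ) : 3 < p := by
  have hΘ : Nat.card Θ ≠ 1 := fun h => by
    have hb : Θ = ⊥ := card_eq_one.1 h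
    refine bot_ne_top (α := Subgroup R) (hmov.eq_top fun θ hθ x => ?_)
    rw [hb, mem_bot] at hθ
    rw [hθ, MulAut.one_apply, inv_mul_cancel]
    exact one_mem _
  obtain ⟨q, hq, hqd⟩ := Nat.exists_prime_and_dvd hΘ
  have hqp : q ≠ p := fun h =>
    hp.out.coprime_iff_not_dvd.1 hcop.symm (h ▸ hqd)
  have hq2 : q ≠ 2 := fun h =>
    Nat.not_even_iff_odd.2 hodd (even_iff_two_dvd.2 (h ▸ hqd))
  have := (Cfsg.Agent.S0640.result hp2 hR hrk q hq hqp
    (hqd.trans (card_subgroup_dvd_card Θ))).2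
  have := hq.two_le
  omega

/-- The twisted case of the extension is impossible. -/
theorem twisted_false (hp3 : 3 < p) (hR : IsPGroup p R) {Θ : Subgroup (MulAut R)}
    (hodd : Odd (Nat.card Θ)) (hmov : Moves Θ) {E B : Subgroup R} {a b ζ z : R}
    (F : Frame p E B a b ζ) (hEθ : ∀ θ : MulAut R, ∀ x ∈ E, θ x ∈ E) [hBn : B.Normal]
    (htop : E ⊔ zpowers z = ⊤) (hzb : Commute z b) (hza : z⁻¹ * a * z = a * b)
    (hzp : z ^ p ∈ centralizer (E : Set R)) (hCz : centralizer (E : Set R) ≤ zpowers (z ^ p)) :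
    False := by
  haveI := F.En
  have hp2 : p ≠ 2 := by omega
  have hζc : ∀ (n : ℕ) (g : R), Commute (ζ ^ n) g := fun n g => (F.zcomm g n).symm
  have hζ1 : Commute ζ a := by simpa using hζc 1 a
  -- every element is an element of `E` times a power of `z`
  have hdec : ∀ r : R, ∃ e ∈ E, ∃ l : ℕ, r = e * z ^ l := fun r => by
    obtain ⟨e, he, v, hv, rfl⟩ := MetaAct.exists_mul_of_normal_left (htop.ge (mem_top r))
    obtain ⟨l, rfl⟩ := exists_nat_pow hv
    exact ⟨e, he, l, rfl⟩
  -- `z^p` is central and `p`-th powers are additive on `z`-powers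
  have hzc : ∀ g : R, Commute g (z ^ p) := fun g => by
    obtain ⟨e, he, l, rfl⟩ := hdec g
    exact ((Frame.commute_of_mem hzp he).symm).mul_left ((Commute.refl z).pow_pow l p)
  have hzpc : ∀ l : ℕ, (z ^ l) ^ p ∈ center R := fun l => by
    rw [← pow_mul, mul_comm, pow_mul]
    exact mem_center_iff.2 fun g => ((hzc g).pow_right l).eq
  have hab : ∀ {i j : ℕ}, a ^ i * b ^ j ∈ B → (i : ZMod p) = 0 := by
    intro i j h
    by_contra hi
    have h1 : a ^ i ∈ B := by
      have h2 := mul_mem h (inv_mem (pow_mem F.bB j))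
      rwa [mul_inv_cancel_right] at h2
    exact F.na ((zpowers_le.2 h1) (mem_zpowers_pow hR fun hd =>
      hi ((ZMod.natCast_eq_zero_iff _ _).2 hd)))
  -- `B` is the centralizer of `z` in `E` modulo the centre
  have hBθ : ∀ θ : MulAut R, ∀ x ∈ B, θ x ∈ B := by
    intro θ
    set B' := B.map (θ : R ≃* R).toMonoidHom with hB'
    haveI : B'.Normal := hBn.map _ (MulEquiv.surjective θ)
    suffices h : B' ≤ B from fun x hx => h (mem_map_of_mem _ hx)
    rintro _ ⟨x, hx, rfl⟩
    obtain ⟨i, β, hβ, e⟩ := F.decE _ (hEθ θ x (F.hBE hx))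
    by_cases hi : (p : ℕ) ∣ i
    · obtain ⟨q, rfl⟩ := hi
      show θ x ∈ B
      rw [e, pow_mul, F.apow_p, one_pow, mul_one]
      exact hβ
    exfalso
    have hxB' : β * a ^ i ∈ B' := e ▸ mem_map_of_mem _ hx
    have hβb : Commute β b := by
      obtain ⟨s, t, rfl⟩ := F.decB β hβ
      exact ((Commute.refl b).pow_left s).mul_left (hζc t b)
    -- `b ∈ B'` modulo the centre
    obtain ⟨T, hT⟩ := F.conja_gen hzb hza i
    have hβz : z⁻¹ * β * z = β := by
      obtain ⟨s, t, rfl⟩ := F.decB β hβ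
      exact cj_fix ((hzb.pow_right s).mul_right (hζc t z).symm)
    have h1 : (β * a ^ i)⁻¹ * (z⁻¹ * (β * a ^ i) * z) ∈ B' :=
      mul_mem (inv_mem hxB') (by simpa using (inferInstance : B'.Normal).conj_mem _ hxB' z⁻¹)
    rw [cj_mul, hβz, hT, mul_inv_rev, show (a ^ i)⁻¹ * β⁻¹ * (β * (a ^ i * (b ^ i * ζ ^ T))) =
      b ^ i * ζ ^ T by group] at h1
    have hζB' : ζ ∈ B' := by
      -- commute with `a` to reach the centre
      have h2 : (b ^ i * ζ ^ T)⁻¹ * (a⁻¹ * (b ^ i * ζ ^ T) * a) ∈ B' :=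
        mul_mem (inv_mem h1) (by simpa using (inferInstance : B'.Normal).conj_mem _ h1 a⁻¹)
      rw [cj_mul, show a⁻¹ * b ^ i * a = b ^ i * ζ ^ i by simpa using F.bpow 1 i,
        cj_fix (hζc T a).symm] at h2
      rw [show (b ^ i * ζ ^ T)⁻¹ * (b ^ i * ζ ^ i * ζ ^ T) = ζ ^ i by
        rw [mul_assoc (b ^ i), ← pow_add, add_comm, pow_add, ← mul_assoc (b ^ i), inv_mul_cancel_left]]
        at h2
      exact (zpowers_le.2 h2) (mem_zpowers_pow hR hi)
    have hbB' : b ∈ B' := by
      have h2 := mul_mem h1 (inv_mem (pow_mem hζB' T))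
      rw [mul_inv_cancel_right] at h2
      exact (zpowers_le.2 h2) (mem_zpowers_pow hR hi)
    have hBB' : B ≤ B' := fun y hy => by
      obtain ⟨s, t, rfl⟩ := F.decB y hy
      exact mul_mem (pow_mem hbB' s) (pow_mem hζB' t)
    have hEB' : E ≤ B' := fun y hy => by
      obtain ⟨s, β', hβ', rfl⟩ := F.decE y hy
      have h2 := mul_mem (inv_mem (hBB' hβ)) hxB'
      rw [inv_mul_cancel_left] at h2
      exact mul_mem (hBB' hβ') (pow_mem ((zpowers_le.2 h2) (mem_zpowers_pow hR hi)) s)
    have h3 : Nat.card E ≤ Nat.card B' := card_le_of_le hEB'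
    rw [hB', card_map_of_injective (MulEquiv.injective θ), F.cardE] at h3
    have h4 : Nat.card B < Nat.card E := Set.Finite.card_lt_card (Set.toFinite _)
      (show B < E from lt_of_le_not_ge F.hBE fun h => F.na (h F.aE))
    rw [F.cardE] at h4
    omega
  set W := centralizer (B : Set R) with hW
  haveI hWn : W.Normal := inferInstance
  have hzW : z ∈ W := mem_centralizer_iff.2 fun x hx => by
    obtain ⟨s, t, rfl⟩ := F.decB x hx
    exact ((hzb.symm.pow_left s).mul_left (hζc t z)).eq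
  have haW : a ∉ W := fun h => by
    have h1 : b * a = a * b := mem_centralizer_iff.1 h b F.bB
    have h2 := F.rel
    rw [mul_assoc, h1, inv_mul_cancel_left, left_eq_mul] at h2
    have h3 := F.ζo
    rw [h2, orderOf_one] at h3
    exact hp.out.one_lt.ne h3
  have hBW : B ≤ W := fun x hx => mem_centralizer_iff.2 fun y hy => by
    obtain ⟨s, t, rfl⟩ := F.decB x hx
    obtain ⟨s', t', rfl⟩ := F.decB y hy
    exact ((((Commute.refl b).pow_pow s' s).mul_left (hζc t' _)).mul_right
      ((hζc t _).symm)).eq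
  -- the scalar on `a` is one
  have hscalar : ∀ θ ∈ Θ, a⁻¹ * θ a ∈ W := by
    intro θ hθ
    obtain ⟨e, he, l, hl⟩ := hdec (θ z)
    obtain ⟨m, β, hβ, hm⟩ := F.decE _ (hEθ θ a F.aE)
    obtain ⟨s, t, hs⟩ := F.decB _ (hBθ θ b F.bB)
    obtain ⟨s', t', hs'⟩ := F.decB β hβ
    obtain ⟨me, βe, hβe, hme⟩ := F.decE e he
    obtain ⟨se, te, hse⟩ := F.decB βe hβe
    -- the image of `ζ`
    have hζθ : θ ζ = ζ ^ (m * s) := by
      have h := congrArg θ F.rel
      rw [map_mul, map_mul, map_inv, map_mul, hs, hm, hs'] at h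
      have e1 : (b ^ s' * ζ ^ t' * a ^ m)⁻¹ * (b ^ s * ζ ^ t) * (b ^ s' * ζ ^ t' * a ^ m) =
          b ^ s * ζ ^ t * ζ ^ (m * s) := by
        rw [show (b ^ s' * ζ ^ t' * a ^ m)⁻¹ * (b ^ s * ζ ^ t) * (b ^ s' * ζ ^ t' * a ^ m) =
          (a ^ m)⁻¹ * ((b ^ s' * ζ ^ t')⁻¹ * (b ^ s * ζ ^ t) * (b ^ s' * ζ ^ t')) * a ^ m by group,
          cj_fix ((((Commute.refl b).pow_pow s' s).mul_left (hζc t' _)).mul_right
            ((hζc t _).symm)), cj_mul, F.bpow, cj_fix (hζc t _).symm]
        rw [mul_assoc (b ^ s), (hζc (m * s) (ζ ^ t)).eq, ← mul_assoc]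
      rw [e1] at h
      exact (mul_left_cancel h).symm
    -- the image of `b`
    have hbθ : (s : ZMod p) = l * m := by
      have h := congrArg θ hza
      simp only [map_mul, map_inv] at h
      rw [hl, hm, hs, mul_inv_rev, show (z ^ l)⁻¹ * e⁻¹ * (β * a ^ m) * (e * z ^ l) =
        (z ^ l)⁻¹ * (e⁻¹ * (β * a ^ m) * e) * z ^ l by group] at h
      obtain ⟨T, hT⟩ : ∃ T : ℕ, e⁻¹ * (β * a ^ m) * e = β * a ^ m * ζ ^ T := by
        obtain ⟨i, hi⟩ := F.conjb e
        refine ⟨?_, ?_⟩
        · exact i * s' + m * (se * (p - 1))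
        rw [cj_mul, hs', cj_mul, cj_fix (hζc t' e).symm, cj_pow, hi]
        have h4 : e⁻¹ * a ^ m * e = a ^ m * ζ ^ (m * (se * (p - 1))) := by
          rw [cj_pow]
          have h5 : e⁻¹ * a * e = a * ζ ^ (se * (p - 1)) := by
            rw [hme, hse, show (b ^ se * ζ ^ te * a ^ me)⁻¹ * a * (b ^ se * ζ ^ te * a ^ me) =
              (a ^ me)⁻¹ * ((ζ ^ te)⁻¹ * ((b ^ se)⁻¹ * a * b ^ se) * ζ ^ te) * a ^ me by group]
            have h6 : (b ^ se)⁻¹ * a * b ^ se = a * ζ ^ (se * (p - 1)) := by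
              have h7 := F.bconja se
              have h8 : (b ^ se)⁻¹ * a * b ^ se * ζ ^ se = a := by
                rw [mul_assoc, ← (hζc se _).eq, ← mul_assoc, mul_assoc ((b ^ se)⁻¹)]
                exact h7
              have h9 : ζ ^ se * ζ ^ (se * (p - 1)) = 1 := by
                rw [← pow_add, show se + se * (p - 1) = p * se by
                  rw [Nat.mul_sub, mul_one, mul_comm p]
                  have := Nat.le_mul_of_pos_right se hp.out.pos
                  omega, pow_mul, F.zpow_p, one_pow]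
              conv_rhs => rw [← h8]
              rw [mul_assoc ((b ^ se)⁻¹ * a * b ^ se), h9, mul_one]
            rw [h6, cj_fix (hζc te _), cj_mul, cj_fix (hζc (se * (p - 1)) _).symm,
              cj_fix ((Commute.refl a).pow_left me)]
          rw [h5, (hζc _ a).symm.mul_pow, ← pow_mul, mul_comm (se * (p - 1))]
        rw [h4, (hζc i b).symm.mul_pow, ← pow_mul, pow_add, mul_assoc (b ^ s'),
          (hζc (i * s') (ζ ^ t')).eq, ← mul_assoc (b ^ s'), mul_assoc _ (ζ ^ (i * s')),
          (hζc (i * s') (a ^ m * ζ ^ (m * (se * (p - 1))))).eq, ← mul_assoc, ← mul_assoc,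
          mul_assoc _ (ζ ^ (m * (se * (p - 1)))), ← pow_add, ← pow_add,
          add_comm (m * (se * (p - 1)))]
      rw [hT] at h
      -- conjugate by `z^l`
      have hzl : ∀ k : ℕ, ∃ T : ℕ, (z ^ k)⁻¹ * a ^ m * z ^ k = a ^ m * (b ^ (k * m) * ζ ^ T) := by
        intro k
        induction k with
        | zero => exact ⟨0, by simp⟩
        | succ k ih =>
          obtain ⟨T₁, h₁⟩ := ih
          obtain ⟨T₂, h₂⟩ := F.conja_gen hzb hza m
          refine ⟨T₂ + T₁, ?_⟩
          rw [pow_succ, show (z ^ k * z)⁻¹ * a ^ m * (z ^ k * z) = z⁻¹ * ((z ^ k)⁻¹ * a ^ m * z ^ k) * z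
            by group, h₁, cj_mul, h₂, cj_fix ((hzb.pow_right _).mul_right (hζc T₁ z).symm),
            Nat.succ_mul, add_comm (k * m), pow_add b, pow_add ζ]
          rw [mul_assoc (a ^ m), mul_assoc (b ^ m), ← mul_assoc (ζ ^ T₂), (hζc T₂ (b ^ (k * m))).eq]
          simp only [mul_assoc]
      obtain ⟨T', hT'⟩ := hzl l
      rw [cj_mul, cj_mul, hT', cj_fix (hζc T _).symm, cj_fix (show Commute (z ^ l) β by
        rw [hs']; exact ((hzb.pow_pow l s').mul_right (hζc t' _).symm))] at h
      have h2 : b ^ (l * m) * (ζ ^ T' * ζ ^ T) = b ^ s * ζ ^ t := by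
        refine mul_left_cancel (a := β * a ^ m) ?_
        rw [← h]
        simp only [mul_assoc]
      -- compare the exponents of `b`
      have h3 : b ^ (l * m + s * (p - 1)) ∈ zpowers ζ := by
        have h4 : b ^ (l * m) = b ^ s * (ζ ^ t * (ζ ^ T' * ζ ^ T)⁻¹) := by
          rw [← mul_assoc, ← h2, mul_inv_cancel_right]
        have h5 : b ^ s * b ^ (s * (p - 1)) = 1 := by
          rw [← pow_add, show s + s * (p - 1) = p * s by
            rw [Nat.mul_sub, mul_one, mul_comm p]
            have := Nat.le_mul_of_pos_right s hp.out.pos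
            omega, pow_mul, F.bpow_p, one_pow]
        rw [pow_add, h4, mul_assoc (b ^ s), ← pow_add ζ T' T]
        have hc : Commute (ζ ^ t * (ζ ^ (T' + T))⁻¹) (b ^ (s * (p - 1))) :=
          (hζc t _).mul_left (hζc _ _).inv_left
        rw [hc.eq, ← mul_assoc, h5, one_mul]
        exact mul_mem (pow_mem (mem_zpowers _) _) (inv_mem (pow_mem (mem_zpowers _) _))
      by_contra hne'
      refine F.nb ((zpowers_le.2 h3) (mem_zpowers_pow hR fun hd => hne' ?_))
      have h6 := (ZMod.natCast_eq_zero_iff _ _).2 hd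
      rw [Nat.cast_add, Nat.cast_mul, Nat.cast_mul, Nat.cast_sub hp.out.one_le,
        ZMod.natCast_self, Nat.cast_one] at h6
      linear_combination (-1 : ZMod p) * h6
    -- the scalar on the cyclic centralizer
    have hζl : θ ζ = ζ ^ l := by
      obtain ⟨n, hn⟩ := exists_nat_pow (hCz ((center_le_centralizer (E : Set R)) F.hζ))
      have hcl : ⁅⁅commutator R, (⊤ : Subgroup R)⁆, (⊤ : Subgroup R)⁆ = ⊥ := by
        have h1 : commutator R ≤ B := by
          haveI := hBn
          rw [_root_.commutator_def, commutator_le]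
          have key : ∀ g : R, ∃ i j : ℕ, (g : R ⧸ B) = (a : R ⧸ B) ^ i * (z : R ⧸ B) ^ j := by
            intro g
            obtain ⟨e', he', j, rfl⟩ := hdec g
            obtain ⟨i, β', hβ', rfl⟩ := F.decE e' he'
            refine ⟨i, j, ?_⟩
            rw [QuotientGroup.mk_mul, QuotientGroup.mk_mul, (QuotientGroup.eq_one_iff β').2 hβ',
              one_mul, QuotientGroup.mk_pow, QuotientGroup.mk_pow]
          have hcom : Commute (a : R ⧸ B) (z : R ⧸ B) := by
            show ((a * z : R) : R ⧸ B) = ((z * a : R) : R ⧸ B)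
            rw [QuotientGroup.eq, show (a * z)⁻¹ * (z * a) = (z⁻¹ * a * z)⁻¹ * a by group, hza,
              mul_inv_rev, mul_assoc, inv_mul_cancel, mul_one]
            exact inv_mem F.bB
          intro x _ y _
          rw [← QuotientGroup.eq_one_iff, ← QuotientGroup.mk'_apply, map_commutatorElement,
            commutatorElement_eq_one_iff_mul_comm, QuotientGroup.mk'_apply, QuotientGroup.mk'_apply]
          obtain ⟨i, j, hx⟩ := key x
          obtain ⟨i', j', hy⟩ := key y
          rw [hx, hy]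
          exact ((((Commute.refl _).pow_pow i i').mul_right (hcom.pow_pow i j')).mul_left
            ((hcom.symm.pow_pow j i').mul_right ((Commute.refl _).pow_pow j j'))).eq
        have h2 : ⁅commutator R, (⊤ : Subgroup R)⁆ ≤ zpowers ζ := by
          rw [commutator_le]
          intro x hx g _
          obtain ⟨s'', t'', rfl⟩ := F.decB x (h1 hx)
          obtain ⟨i, hi⟩ := F.conjb g⁻¹
          rw [inv_inv] at hi
          have h3 : g * (b ^ s'' * ζ ^ t'') * g⁻¹ = b ^ s'' * ζ ^ t'' * ζ ^ (i * s'') := by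
            rw [show g * (b ^ s'' * ζ ^ t'') * g⁻¹ = (g * b * g⁻¹) ^ s'' * (g * ζ ^ t'' * g⁻¹) by
              rw [conj_pow]; group, hi, (hζc t'' g).symm.eq, mul_inv_cancel_right,
              (hζc i b).symm.mul_pow, ← pow_mul, mul_assoc, (hζc (i * s'') _).eq, ← mul_assoc]
          rw [commutatorElement_def, show b ^ s'' * ζ ^ t'' * g * (b ^ s'' * ζ ^ t'')⁻¹ * g⁻¹ =
            b ^ s'' * ζ ^ t'' * (g * (b ^ s'' * ζ ^ t'') * g⁻¹)⁻¹ by group, h3, mul_inv_rev,
            (hζc (i * s'') _).inv_left.eq, mul_inv_cancel_left]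
          exact inv_mem (pow_mem (mem_zpowers _) _)
        rw [eq_bot_iff]
        refine (commutator_mono h2 le_rfl).trans (le_of_eq ?_)
        rw [commutator_eq_bot_iff_le_centralizer, zpowers_le]
        exact center_le_centralizer _ F.hζ
      have hpow : (θ z) ^ p = (z ^ p) ^ l := by
        have h6 := CfsgLib.RankTwoOmega.mul_pow_of_central hp3 hcl (x := e) (y := z ^ l)
          (by rw [F.expo e he]; exact one_mem _) (hzpc l)
        rw [hl, h6, F.expo e he, one_mul, ← pow_mul, ← pow_mul, mul_comm]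
      rw [← hn, map_pow, map_pow, hpow, ← pow_mul (z ^ p) l n, ← pow_mul (z ^ p) n l, mul_comm l n]
    -- combine
    have hms : ((m * s : ℕ) : ZMod p) = l := by
      have h := hζθ.symm.trans hζl
      rwa [pow_eq_pow_iff_modEq, F.ζo, ← ZMod.natCast_eq_natCast_iff] at h
    have hl0 : (l : ZMod p) ≠ 0 := fun h0 => by
      obtain ⟨q, hq⟩ := (ZMod.natCast_eq_zero_iff _ _).1 h0
      have h7 := F.ζo
      rw [show ζ = 1 from θ.injective (by rw [map_one, hζl, hq, pow_mul, F.zpow_p, one_pow]),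
        orderOf_one] at h7
      exact hp.out.one_lt.ne h7
    have hm2 : (m : ZMod p) ^ 2 = 1 := by
      rw [Nat.cast_mul, hbθ] at hms
      exact mul_left_cancel₀ hl0 (by linear_combination hms)
    have hm1 : (m : ZMod p) = 1 := by
      -- iterate: an odd power is the identity
      have hiter : ∀ k : ℕ, ∃ β' ∈ B, ∃ n : ℕ, (θ ^ k) a = β' * a ^ n ∧ (n : ZMod p) = (m : ZMod p) ^ k := by
        intro k
        induction k with
        | zero => exact ⟨1, one_mem _, 1, by simp, by simp⟩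
        | succ k ih =>
          obtain ⟨β', hβ', n, hn, hn'⟩ := ih
          have hpowB : ∀ n : ℕ, ∃ β'' ∈ B, (β * a ^ m) ^ n = β'' * a ^ (m * n) := by
            intro n
            induction n with
            | zero => exact ⟨1, one_mem _, by simp⟩
            | succ n ihn =>
              obtain ⟨β'', hβ'', e''⟩ := ihn
              refine ⟨β'' * (a ^ (m * n) * β * (a ^ (m * n))⁻¹),
                mul_mem hβ'' (hBn.conj_mem _ hβ _), ?_⟩
              rw [pow_succ, e'', Nat.mul_succ, pow_add]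
              group
          obtain ⟨β'', hβ'', e''⟩ := hpowB n
          refine ⟨θ β' * β'', mul_mem (hBθ θ β' hβ') hβ'', m * n, ?_, by
            rw [Nat.cast_mul, hn', pow_succ']⟩
          rw [pow_succ', MulAut.mul_apply, hn, map_mul, map_pow, hm, e'', mul_assoc]
      obtain ⟨β', hβ', n, hn, hn'⟩ := hiter (Nat.card Θ)
      rw [show θ ^ Nat.card Θ = 1 from congrArg Subtype.val (pow_card_eq_one' (x := (⟨θ, hθ⟩ : Θ))),
        MulAut.one_apply] at hn
      have h10 : (n : ZMod p) = 1 := by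
        have h11 : a ^ (n + (p - 1)) ∈ B := by
          have h12 : a ^ n = β'⁻¹ * a := by rw [eq_inv_mul_iff_mul_eq]; exact hn.symm
          rw [pow_add, h12, mul_assoc, ← pow_succ',
            show p - 1 + 1 = p by have := hp.out.one_le; omega, F.apow_p, mul_one]
          exact inv_mem hβ'
        have h13 := hab (i := n + (p - 1)) (j := 0) (by simpa using h11)
        rw [Nat.cast_add, Nat.cast_sub hp.out.one_le, ZMod.natCast_self, Nat.cast_one] at h13
        linear_combination h13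
      rw [hn'] at h10
      obtain ⟨c, hc⟩ := hodd
      rwa [hc, pow_succ, pow_mul, hm2, one_pow, one_mul] at h10
    obtain ⟨q, hq⟩ : p ∣ m + (p - 1) := by
      rw [← ZMod.natCast_eq_zero_iff, Nat.cast_add, Nat.cast_sub hp.out.one_le, hm1,
        ZMod.natCast_self, Nat.cast_one]
      ring
    have hmq : a ^ m = a := by
      have h14 : a ^ m * a ^ p = a ^ (m + (p - 1)) * a := by
        rw [← pow_add, ← pow_succ]
        congr 1
        have := hp.out.one_le
        omega
      rwa [hq, pow_mul, F.apow_p, one_pow, mul_one, one_mul] at h14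
    rw [hm, hmq]
    exact hBW (by simpa [mul_assoc] using hBn.conj_mem _ hβ a⁻¹)
  refine haW ((hmov.eq_top fun θ hθ x => ?_).ge (mem_top a))
  obtain ⟨e, he, l, rfl⟩ := hdec x
  obtain ⟨i, β, hβ, rfl⟩ := F.decE e he
  have hθW : ∀ w ∈ W, θ w ∈ W := fun w hw => mem_centralizer_iff.2 fun y hy => by
    have h1 := hBθ θ⁻¹ y hy
    have h2 := congrArg θ (mem_centralizer_iff.1 hw _ h1)
    rwa [map_mul, map_mul, MulAut.apply_inv_self] at h2
  rw [← QuotientGroup.eq_one_iff]
  have h1 : ((θ a : R) : R ⧸ W) = a := ((QuotientGroup.eq).2 (hscalar θ hθ)).symm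
  have h2 : ∀ w ∈ W, ((θ w : R) : R ⧸ W) = 1 := fun w hw => (QuotientGroup.eq_one_iff _).2 (hθW w hw)
  simp only [map_mul, map_pow, QuotientGroup.mk_mul, QuotientGroup.mk_inv, QuotientGroup.mk_pow,
    h1, h2 z hzW, h2 β (hBW hβ), (QuotientGroup.eq_one_iff z).2 hzW,
    (QuotientGroup.eq_one_iff β).2 (hBW hβ), one_pow, one_mul, mul_one, inv_mul_cancel]

/-- The structure theorem. -/
theorem structure_of_moves (hp2 : p ≠ 2) (hR : IsPGroup p R) [Nontrivial R]
    (hrk : Cfsg.PRankLE p 2 R) {Θ : Subgroup (MulAut R)} (hodd : Odd (Nat.card Θ))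
    (hcop : (Nat.card Θ).Coprime p) (hmov : Moves Θ) :
    3 < p ∧ (IsMulCommutative R ∨ ∃ (E : Subgroup R) (z ζ : R), E ⊔ zpowers z = ⊤ ∧
      z ∈ centralizer (E : Set R) ∧ ¬ IsMulCommutative E ∧ Nat.card E = p ^ 3 ∧
      (∀ x ∈ E, x ^ p = 1) ∧ ζ ∈ zpowers z ∧ orderOf ζ = p ∧ ⁅E, E⁆ = zpowers ζ) := by
  have hp3 := three_lt hp2 hR hrk hodd hcop hmov
  refine ⟨hp3, ?_⟩
  have hrk' : ∀ E : Subgroup R, Cfsg.IsElementaryAbelian p E → Nat.card E ≤ p ^ 2 :=
    fun E hE => hrk E hE.1 hE.2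
  have hom : Cfsg.omegaOne p (⊤ : Subgroup R) = Subgroup.closure {x : R | x ^ p = 1} := by
    simp [Cfsg.omegaOne]
  set E := Subgroup.closure {x : R | x ^ p = 1} with hEdef
  have hexp : ∀ x ∈ E, x ^ p = 1 := CfsgLib.RankTwoOmega.closure_omega_exponent hp3 hR hrk'
  by_cases hE2 : Nat.card E ≤ p ^ 2
  · exact Or.inl (MetaAct.isMulCommutative_of_moves hp2 hR
      (CfsgLib.RankTwoOmega.isMetacyclic_of_omega hp3 _ R rfl hR (by rw [hom]; exact hE2)) hcop hmov)
  push Not at hE2
  right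
  obtain ⟨k, hk⟩ := IsPGroup.iff_card.1 (hR.to_subgroup E)
  have hE3 : Nat.card E ≤ p ^ 3 := by
    refine CfsgLib.RankTwoOmega.card_le_of_exponent (hR.to_subgroup E) hp2
      (fun x => Subtype.ext (hexp x x.2)) fun F hF => ?_
    have h1 := hrk (F.map E.subtype) ⟨⟨fun u v => ?_⟩⟩ ?_
    · rwa [card_map_of_injective E.subtype_injective] at h1
    · obtain ⟨u', hu', hue⟩ := u.2
      obtain ⟨v', hv', hve⟩ := v.2
      refine Subtype.ext ?_
      show (u : R) * v = v * u
      rw [← hue, ← hve, ← map_mul, ← map_mul]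
      exact congrArg _ (congrArg Subtype.val (hF.1.is_comm.comm (⟨u', hu'⟩ : F) ⟨v', hv'⟩))
    · rintro u ⟨u', hu', rfl⟩
      rw [← map_pow, hF.2 u' hu', map_one]
  have hcard : Nat.card E = p ^ 3 := by
    rw [hk] at hE2 hE3 ⊢
    have := (Nat.pow_lt_pow_iff_right hp.out.one_lt).1 hE2
    have := (Nat.pow_le_pow_iff_right hp.out.one_lt).1 hE3
    congr 1
    omega
  have hEchar : ∀ θ : MulAut R, ∀ x ∈ E, θ x ∈ E := by
    intro θ x hx
    have h1 : E.map (θ : R ≃* R).toMonoidHom ≤ E := by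
      rw [hEdef, MonoidHom.map_closure, closure_le]
      rintro _ ⟨y, hy, rfl⟩
      refine subset_closure ?_
      show θ y ^ p = 1
      rw [← map_pow, show y ^ p = 1 from hy, map_one]
    exact h1 (mem_map_of_mem _ hx)
  haveI hEn : E.Normal := ⟨fun x hx g => hEchar (MulAut.conj g) x hx⟩
  have hEnc : ¬ IsCyclic E := fun hc => by
    obtain ⟨g, hg⟩ := hc.exists_generator
    have h1 : Nat.card E ≤ p := by
      rw [← orderOf_eq_card_of_forall_mem_zpowers hg]
      exact Nat.le_of_dvd hp.out.pos (orderOf_dvd_of_pow_eq_one (Subtype.ext (hexp g g.2)))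
    rw [hcard] at h1
    have := Nat.pow_lt_pow_right hp.out.one_lt (show 1 < 3 by norm_num)
    rw [pow_one] at this
    omega
  obtain ⟨B, hBE, hBn, hBel, hB⟩ := CfsgLib.PGroup.exists_normal_rank_two hR hp2 E hEnc
  haveI := hBn
  obtain ⟨a, b, ζ, F⟩ := exists_frame hR hrk hBE hexp hcard hBel hB
  obtain ⟨z, htop, hinter, hCz, hcase⟩ := F.exists_gen hR hp2
  rcases hcase with hzC | ⟨hzb, hza, hzp, hCzp⟩
  · refine ⟨E, z, ζ, htop, hzC, fun hc => F.nb ?_, hcard, hexp, ?_, F.ζo, ?_⟩
    · have h := F.inter b (F.hBE F.bB) (congrArg Subtype.val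
        (hc.is_comm.comm (⟨b, F.hBE F.bB⟩ : E) ⟨a, F.aE⟩)) (Commute.refl b)
      exact h
    · exact (hinter.ge (mem_zpowers ζ)).2
    · refine le_antisymm ?_ (zpowers_le.2 ?_)
      · have hcE : ∀ {x : R}, x ∈ E → ∃ i j k : ℕ, x = b ^ j * ζ ^ k * a ^ i := fun hx => by
          obtain ⟨i, β, hβ, rfl⟩ := F.decE _ hx
          obtain ⟨j, k, rfl⟩ := F.decB β hβ
          exact ⟨i, j, k, rfl⟩
        haveI : (zpowers ζ).Normal := MetaAct.normal_of_central (zpowers_le.2 F.hζ)
        rw [commutator_le]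
        intro x hx y hy
        obtain ⟨i, j, k, rfl⟩ := hcE hx
        obtain ⟨i', j', k', rfl⟩ := hcE hy
        have hπ : Commute (b : R ⧸ zpowers ζ) (a : R ⧸ zpowers ζ) := by
          show ((b * a : R) : R ⧸ zpowers ζ) = ((a * b : R) : R ⧸ zpowers ζ)
          rw [QuotientGroup.eq, show (b * a)⁻¹ * (a * b) = (a⁻¹ * b * a)⁻¹ * b by group, F.rel,
            mul_inv_rev, mul_assoc, inv_mul_cancel, mul_one]
          exact inv_mem (mem_zpowers ζ)
        rw [← QuotientGroup.eq_one_iff, ← QuotientGroup.mk'_apply, map_commutatorElement,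
          commutatorElement_eq_one_iff_mul_comm]
        simp only [map_mul, map_pow, QuotientGroup.mk'_apply,
          (QuotientGroup.eq_one_iff ζ).2 (mem_zpowers ζ), one_pow, mul_one]
        exact ((((Commute.refl _).pow_pow j j').mul_right (hπ.pow_pow j i')).mul_left
          ((hπ.symm.pow_pow i j').mul_right ((Commute.refl _).pow_pow i i'))).eq
      · have h2 : ⁅b⁻¹, a⁻¹⁆ ∈ ⁅E, E⁆ :=
          commutator_mem_commutator (inv_mem (F.hBE F.bB)) (inv_mem F.aE)
        rwa [commutatorElement_def, inv_inv, inv_inv, show b⁻¹ * a⁻¹ * b * a = b⁻¹ * (a⁻¹ * b * a)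
          by group, F.rel, inv_mul_cancel_left] at h2
  · exact (twisted_false hp3 hR hodd hmov F hEchar htop hzb hza hzp hCzp).elim

end CfsgLib.CFun.RankTwoMoves
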