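import Cfsg.Agent.Lib.CFun.OddMeetStructure
import Cfsg.Agent.Lib.CFun.OddUFixed
import Cfsg.Agent.Lib.CFun.OddKappaDerived
import Cfsg.Agent.Lib.CFun.OddNarrowAut
import Cfsg.Agent.Lib.CFun.OddSCNAnchor
import Cfsg.Agent.Lib.CFun.OddRankTwoAction
import Cfsg.Agent.Lib.CFun.OddLinearTwo
import Cfsg.Agent.S1431

/-!
# The operators on a nonabelian `M_σ` when `F(M)` is not a TI-subset
-/

set_option autoImplicit false
set_option linter.style.haveILetI false
set_option linter.unusedSectionVars false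

open Subgroup
open scoped commutatorElement
open CfsgLib.Coprime (conjBy conjBy_conjBy conjBy_one mem_conjBy conj_mem_conjBy card_conjBy
  IsSylowIn IsPiNum)

namespace CfsgLib.CFun.MeetStructure

open CfsgLib.CFun.TauTwo CfsgLib.CFun.Lines CfsgLib.CFun.Kappa CfsgLib.CFun.Partner
open CfsgLib.CFun.ElemCent CfsgLib.CFun.FitTI

universe u

variable {G : Type u} [Group G] [Finite G]

/-- `u ^ (q - 1)` centralizes a normalized subgroup of order `q`. -/
theorem pow_pred_mem_centralizer {q : ℕ} [hq : Fact q.Prime] {W : Subgroup G}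
    (hWc : Nat.card W = q) {u : G} (hu : u ∈ normalizer (W : Set G)) :
    u ^ (q - 1) ∈ centralizer (W : Set G) := by
  refine mem_centralizer_iff.2 fun w hw => ?_
  have h1 := Narrow.scalarless_trivial (p := q) (H := W) (K := ⊥) (A := zpowers u) bot_le
    (by rw [normalizer_eq_top]; exact le_top) (zpowers_le.2 hu)
    (by rw [normalizer_eq_top]; exact le_top) (by rw [relIndex_bot_left, hWc])
    (Or.inr ⟨u, mem_zpowers u, rfl⟩) hw
  rw [mem_bot, mul_inv_eq_one, mul_inv_eq_iff_eq_mul] at h1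
  exact h1.symm

/-- A coprime operator trivial on a section and on the subgroup below it is trivial. -/
theorem conj_eq_of_mod {p : ℕ} {S Z : Subgroup G} (hS : IsPGroup p S) (hZS : Z ≤ S)
    {v y : G} (hv : (orderOf v).Coprime p) (hvZ : ∀ z ∈ Z, v * z * v⁻¹ = z)
    (hy : v * y * v⁻¹ * y⁻¹ ∈ Z) : v * y * v⁻¹ = y := by
  have h1 := CfsgLib.Coprime.eq_one_of_conj_eq_mul (a := v) (x := y) (u := v * y * v⁻¹ * y⁻¹)
    (by group) (hvZ _ hy) (by
      obtain ⟨i, hi⟩ := hS ⟨_, hZS hy⟩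
      exact (hv.pow_right i).coprime_dvd_right
        (orderOf_dvd_of_pow_eq_one (congrArg Subtype.val hi)))
  exact mul_inv_eq_one.1 h1

variable (hG : Cfsg.IsMinSimpleOddOrder G) {M : Subgroup G} (hM : IsCoatom M) {g x : G}
  {p : ℕ} [hp : Fact p.Prime] (h : Meet M g x) (hxp : x ^ p = 1)
  (hS : ∀ S : Sylow p G, ¬ IsMulCommutative (S : Subgroup G))
include hG hM h hxp hS

/-- The center socle of the Sylow subgroup has order `p`. -/
theorem card_centerSocle {S : Sylow p G} (hSσ : (S : Subgroup G) ≤ Cfsg.sigmaCore M)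
    (hmem : ∀ v ∈ Cfsg.sigmaCore M, (∃ n : ℕ, v ^ p ^ n = 1) → v ∈ (S : Subgroup G)) :
    Nat.card (centerSocle (S : Subgroup G) p) = p := by
  obtain ⟨N, A, hT⟩ := exists_torus hG hM h hxp
  exact (nonab_center_line hG hT.coatom hT.tau (hT.le.trans inf_le_right) hT.elem hT.card hS S
    fun a ha => hmem a (hT.le_sigmaCore ha) ⟨1, by rw [pow_one]; exact hT.elem.2 a ha⟩).2.1

/-- Each prime of `M_σ` has a subgroup of that order normal in `M`. -/
theorem exists_normal_line {q : ℕ} [hq : Fact q.Prime]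
    (hqd : q ∣ Nat.card (Cfsg.sigmaCore M)) :
    ∃ W : Subgroup G, W ≤ Cfsg.sigmaCore M ∧ Nat.card W = q ∧ M ≤ normalizer (W : Set G) := by
  rcases eq_or_ne q p with hqp | hqp
  · subst hqp
    obtain ⟨S, hSσ, -, hSn, hmem⟩ := exists_sylow hG hM h hxp
    exact ⟨_, centerSocle_le.trans hSσ, card_centerSocle hG hM h hxp hS hSσ hmem,
      hSn.trans (normalizer_le_normalizer_centerSocle _ _)⟩
  obtain ⟨P⟩ := (inferInstance : Nonempty (Sylow q (Cfsg.sigmaCore M)))
  have hP := CfsgLib.Coprime.isSylowIn_map P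
  have hc := cyclic_of_ne hG hM h hxp hS hqp hP.1 hP.isPGroup
  obtain ⟨W, hW, hWc⟩ := exists_line_of_dvd (t := q)
    (H := (P : Subgroup (Cfsg.sigmaCore M)).map (Cfsg.sigmaCore M).subtype) (by
      rw [card_map_of_injective (Cfsg.sigmaCore M).subtype_injective]
      exact P.dvd_card_of_dvd_card hqd)
  exact ⟨W, hW.trans hP.1, hWc,
    (sylow_normal hG hM h hP).trans (normalizer_le_normalizer_of_cyclic hc hW)⟩

/-- A regular element has order dividing `q - 1` for every prime `q` of `M_σ`. -/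
theorem pow_pred_of_regular {u : G} (hu : u ∈ M)
    (hreg : ∀ i : ℕ, u ^ i ≠ 1 → Cfsg.sigmaCore M ⊓ centralizer ({u ^ i} : Set G) = ⊥)
    {q : ℕ} (hq : q.Prime) (hqd : q ∣ Nat.card (Cfsg.sigmaCore M)) : u ^ (q - 1) = 1 := by
  haveI : Fact q.Prime := ⟨hq⟩
  obtain ⟨W, hWσ, hWc, hWn⟩ := exists_normal_line hG hM h hxp hS hqd
  by_contra hne
  refine line_ne_bot hWc (le_bot_iff.1 ?_)
  rw [← hreg _ hne]
  exact le_inf hWσ fun w hw => mem_centralizer_singleton_iff.2
    (mem_centralizer_iff.1 (pow_pred_mem_centralizer hWc (hWn hu)) w hw)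

/-- For `K = 1` the exponent of `M / M_σ` divides every `q - 1`. -/
theorem exponent_dvd {K U : Subgroup G} (d : Cfsg.IsSigmaDecomposition M K U) (hK : K = ⊥)
    {q : ℕ} (hq : q.Prime) (hqd : q ∣ Nat.card (Cfsg.sigmaCore M)) :
    Monoid.exponent U ∣ q - 1 := by
  obtain ⟨U₀, hU₀, hexp, hreg⟩ := UFixed.exists_regular_exponent hG hM d
  have hUM : U ≤ M := d.compl.1
  rw [← hexp, Monoid.exponent_dvd_iff_forall_pow_eq_one]
  intro u
  refine Subtype.ext ?_
  rw [SubmonoidClass.coe_pow, OneMemClass.coe_one]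
  refine pow_pred_of_regular hG hM h hxp hS (hUM (hU₀ u.2)) (fun i hi => ?_) hq hqd
  refine eq_bot_iff.2 fun y hy => ?_
  obtain ⟨hyσ, hyc⟩ := mem_inf.1 hy
  rw [mem_bot]
  by_contra hy1
  exact hi (hreg _ (pow_mem u.2 i) ⟨hUM (hU₀ (pow_mem u.2 i)), y, hyσ, hy1,
    (mem_centralizer_singleton_iff.1 hyc).symm⟩)

section Kappa

variable {K U : Subgroup G} (d : Cfsg.IsSigmaDecomposition M K U) (hK1 : K ≠ ⊥)
include d hK1

/-- The data for the case `K ≠ 1`. -/
theorem kappa_facts : U = ⊥ ∧ Cfsg.IsComplIn K (Cfsg.sigmaCore M) M ∧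
    (Nat.card ↥(Cfsg.sigmaCore M ⊓ centralizer (K : Set G))).Prime := by
  have hU : U = ⊥ := by
    by_contra hU
    exact false_of_U_ne_bot hG hM d h hK1 hU
  refine ⟨hU, ?_, (KappaDerived.exists_sylow_of_bot hG hM d hK1 hU).1⟩
  have := Decomp.compl hG hM d
  rwa [hU, sup_bot_eq] at this

omit hxp hS hp in
/-- An element of `K` centralizing a whole Sylow subgroup of `M_σ` is trivial. -/
theorem eq_one_of_centralizes {q : ℕ} [hq : Fact q.Prime] {R : Subgroup G}
    (hR : IsSylowIn q R (Cfsg.sigmaCore M)) (hqd : q ∣ Nat.card (Cfsg.sigmaCore M)) {v : G}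
    (hv : v ∈ K) (hc : R ≤ centralizer ({v} : Set G)) : v = 1 := by
  by_contra hv1
  have hle : R ≤ Cfsg.sigmaCore M ⊓ centralizer (K : Set G) := by
    rw [← fixed_eq hG hM d.hall hv hv1]
    exact le_inf hR.1 hc
  have hqR : q ∣ Nat.card R := by
    have := hR.toSylow.dvd_card_of_dvd_card hqd
    rwa [← card_map_of_injective (Cfsg.sigmaCore M).subtype_injective, hR.map_toSylow] at this
  refine ((Cfsg.Agent.S1431.result hG M hM K d.hall hK1).2.2.1 q hq.out
    (hqR.trans (card_dvd_of_le hle)) hR.toSylow).2.2 ?_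
  rwa [hR.map_toSylow]

/-- For primes other than `p`, `|K|` divides `q - 1`. -/
theorem card_dvd_of_ne {q : ℕ} [hq : Fact q.Prime] (hqp : q ≠ p)
    (hqd : q ∣ Nat.card (Cfsg.sigmaCore M)) : Nat.card K ∣ q - 1 := by
  haveI := d.cyclic
  obtain ⟨k, hk⟩ := IsCyclic.exists_generator (α := K)
  rw [← orderOf_eq_card_of_forall_mem_zpowers hk]
  refine orderOf_dvd_of_pow_eq_one (Subtype.ext ?_)
  rw [SubmonoidClass.coe_pow, OneMemClass.coe_one]
  obtain ⟨P⟩ := (inferInstance : Nonempty (Sylow q (Cfsg.sigmaCore M)))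
  have hP := CfsgLib.Coprime.isSylowIn_map P
  set R := (P : Subgroup (Cfsg.sigmaCore M)).map (Cfsg.sigmaCore M).subtype with hR
  have hc := cyclic_of_ne hG hM h hxp hS hqp hP.1 hP.isPGroup
  have hkM : ((k : G)) ∈ M := d.hall.1 k.2
  have hkR : (k : G) ∈ normalizer (R : Set G) := sylow_normal hG hM h hP hkM
  set v := (k : G) ^ (q - 1) with hv
  have hvK : v ∈ K := pow_mem k.2 _
  refine eq_one_of_centralizes hG hM h d hK1 hP hqd hvK fun r hr =>
    mem_centralizer_singleton_iff.2 ?_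
  refine (CfsgLib.PGroup.commute_of_fix_omega_odd
    (ms_ne_two hG (hqd.trans (card_subgroup_dvd_card _))) hP.isPGroup
    (pow_mem hkR _) (fun hd => ?_) (fun z hz hzq => ?_) r hr).symm.eq
  · have hqK : q ∣ Nat.card K := hd.trans (Subgroup.orderOf_dvd_natCard _ hvK)
    exact (d.hall.2.1 q hq.out hqK).2.2.1 ((sigmaCore_hall hG hM).1.2.1 q hq.out hqd)
  · by_cases hz1 : z = 1
    · rw [hz1]; exact Commute.one_right _
    have hW : zpowers z ≤ R := zpowers_le.2 hz
    have hWc : Nat.card (zpowers z) = q := by rw [Nat.card_zpowers, orderOf_eq_prime hzq hz1]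
    exact (mem_centralizer_iff.1 (pow_pred_mem_centralizer hWc
      (normalizer_le_normalizer_of_cyclic hc hW hkR)) z (mem_zpowers z)).symm

/-- The operators on the nonabelian Sylow subgroup. -/
theorem card_dvd_or {S : Sylow p G} (hSσ : (S : Subgroup G) ≤ Cfsg.sigmaCore M)
    (hSn : M ≤ normalizer ((S : Subgroup G) : Set G))
    (hmem : ∀ v ∈ Cfsg.sigmaCore M, (∃ n : ℕ, v ^ p ^ n = 1) → v ∈ (S : Subgroup G)) :
    Nat.card K ∣ p - 1 ∨
      (Nat.card ↥(S : Subgroup G) = p ^ 3 ∧ Nat.card K ∣ p + 1) := by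
  by_cases hdvd : Nat.card K ∣ p - 1
  · exact Or.inl hdvd
  right
  obtain ⟨-, hcK, hKp⟩ := kappa_facts hG hM h hxp hS d hK1
  haveI := d.cyclic
  obtain ⟨k, hk⟩ := IsCyclic.exists_generator (α := K)
  have hgen : ∀ a ∈ K, ∃ i : ℕ, (k : G) ^ i = a := fun a ha => by
    obtain ⟨i, hi⟩ := (mem_powers_iff_mem_zpowers (x := k)).2 (hk ⟨a, ha⟩)
    exact ⟨i, congrArg Subtype.val hi⟩
  set w : G := (k : G) ^ (p - 1) with hw
  have hw1 : w ≠ 1 := fun e => hdvd (by
    rw [← orderOf_eq_card_of_forall_mem_zpowers hk]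
    exact orderOf_dvd_of_pow_eq_one (Subtype.ext (by rw [SubmonoidClass.coe_pow, OneMemClass.coe_one]; exact e)))
  have hwK : w ∈ K := pow_mem k.2 _
  have hKM : K ≤ M := d.hall.1
  have hKS : K ≤ normalizer ((S : Subgroup G) : Set G) := hKM.trans hSn
  set Z := centerSocle (S : Subgroup G) p with hZdef
  have hZc : Nat.card Z = p := card_centerSocle hG hM h hxp hS hSσ hmem
  have hKZ : K ≤ normalizer (Z : Set G) := hKS.trans (normalizer_le_normalizer_centerSocle _ _)
  have hwZ : w ∈ centralizer (Z : Set G) := pow_pred_mem_centralizer hZc (hKZ k.2)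
  have hZσ : Z ≤ Cfsg.sigmaCore M := centerSocle_le.trans hSσ
  have hZfix : Z ≤ Cfsg.sigmaCore M ⊓ centralizer (K : Set G) := by
    rw [← fixed_eq hG hM d.hall hwK hw1]
    exact le_inf hZσ fun z hz => mem_centralizer_singleton_iff.2 (mem_centralizer_iff.1 hwZ z hz)
  have hfixZ : Cfsg.sigmaCore M ⊓ centralizer (K : Set G) = Z :=
    (eq_of_le_of_card_ge hZfix (le_of_eq (by
      rw [hZc]
      exact ((Nat.prime_dvd_prime_iff_eq hp.out hKp).1 (hZc ▸ card_dvd_of_le hZfix)).symm))).symm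
  have hKfix : ∀ v ∈ K, ∀ z ∈ Z, v * z * v⁻¹ = z := fun v hv z hz => by
    rw [mem_centralizer_iff.1 (mem_inf.1 (hZfix hz)).2 v hv, mul_inv_cancel_right]
  have hpσ : p ∈ Cfsg.sigma M := (sigmaCore_hall hG hM).1.2.1 p hp.out
    (hZc ▸ card_dvd_of_le hZσ)
  have hcopK : (Nat.card K).Coprime p :=
    (hp.out.coprime_iff_not_dvd.2 fun hd => (d.hall.2.1 p hp.out hd).2.2.1 hpσ).symm
  have hvp : ∀ v ∈ K, (orderOf v).Coprime p := fun v hv =>
    hcopK.coprime_dvd_left (Subgroup.orderOf_dvd_natCard _ hv)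
  have hSna := hS S
  -- no nontrivial element of `K` centralizes `S`
  have hfpS : ∀ v ∈ K, (∀ y ∈ (S : Subgroup G), v * y * v⁻¹ = y) → v = 1 := by
    intro v hv hc
    by_contra hv1
    refine hSna ?_
    have hle : (S : Subgroup G) ≤ Z := by
      rw [← hfixZ, ← fixed_eq hG hM d.hall hv hv1]
      exact le_inf hSσ fun y hy => mem_centralizer_singleton_iff.2
        (by conv_lhs => rw [← hc y hy]
            group)
    exact ⟨⟨fun a b => Subtype.ext ((hle a.2).2.2 b b.2).eq⟩⟩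
  have hp2 : p ≠ 2 := ms_ne_two hG (hZc ▸ card_subgroup_dvd_card Z)
  -- the rank is at most two
  have hrk : Cfsg.PRankLE p 2 ↥(S : Subgroup G) := by
    by_contra hr
    obtain ⟨N, A, hT⟩ := exists_torus hG hM h hxp
    have hAN : A ≤ N := hT.le.trans inf_le_right
    have hAS : A ≤ (S : Subgroup G) := fun a ha =>
      hmem a (hT.le_sigmaCore ha) ⟨1, by rw [pow_one]; exact hT.elem.2 a ha⟩
    have hnar : Cfsg.IsNarrow p ↥(S : Subgroup G) := by
      refine Narrow.isNarrow hp2 S.2 hr (E := A.subgroupOf (S : Subgroup G))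
        ⟨⟨⟨fun a b => Subtype.ext (Subtype.ext (commute_of_mem hT.elem a.2 b.2))⟩⟩,
          fun a ha => Subtype.ext (hT.elem.2 _ ha)⟩
        (by rw [Nat.card_congr (subgroupOfEquivOfLe hAS).toEquiv, hT.card]) fun B hB hle => ?_
      have hB' : Cfsg.IsElementaryAbelian p (B.map (S : Subgroup G).subtype) :=
        ⟨by haveI := hB.1; exact Subgroup.map_isMulCommutative _ _, by
          rintro _ ⟨b, hb, rfl⟩; rw [← map_pow, hB.2 b hb, map_one]⟩
      have := tau_max hG hT.coatom hT.tau hAN hT.elem hT.card hB'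
        (by rw [← map_subgroupOf_eq_of_le hAS]; exact map_mono hle)
      rw [← comap_map_eq_self_of_injective (S : Subgroup G).subtype_injective B, this]
      rfl
    refine hw1 (hfpS w hwK fun y hy => ?_)
    rw [← mem_centralizer_iff.1 (Narrow.scalarless_centralizes hp2 S.2 hr hnar
      (zpowers_le.2 (hKS k.2)) (Or.inr ⟨_, mem_zpowers _, rfl⟩) (hvp w hwK)) y hy,
      mul_inv_cancel_right]
  -- `[S, K] = S`
  have hKS' : ⁅(S : Subgroup G), K⁆ = (S : Subgroup G) := by
    have hle : ⁅(S : Subgroup G), K⁆ ≤ (S : Subgroup G) := commutator_le.2 fun a ha b hb => by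
      rw [commutatorElement_def, show a * b * a⁻¹ * b⁻¹ = a * (b * a⁻¹ * b⁻¹) by group]
      exact mul_mem ha ((mem_normalizer_iff.1 (hKS hb) _).1 (inv_mem ha))
    have hcop : (Nat.card K).Coprime (Nat.card ↥(S : Subgroup G)) := by
      obtain ⟨i, hi⟩ := IsPGroup.iff_card.1 S.2
      rw [hi]; exact hcopK.pow_right i
    have hsup := CfsgLib.Coprime.commutator_sup_centralizer hKS hcop
      (Or.inr (CfsgLib.Coprime.isSolvable_of_isNilpotent S.2.isNilpotent))
    have hfix : (S : Subgroup G) ⊓ centralizer (K : Set G) ≤ Z :=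
      (inf_le_inf_right _ hSσ).trans hfixZ.le
    set X := ⁅(S : Subgroup G), K⁆
    have hSX : (S : Subgroup G) ≤ X ⊔ Z := hsup.ge.trans (sup_le_sup_left hfix X)
    refine le_antisymm hle ?_
    have hXn : (S : Subgroup G) ≤ normalizer (X : Set G) := by
      intro y hy
      obtain ⟨a, ha, z, hz, rfl⟩ := CfsgLib.Coprime.mem_sup_exists (N := X) (H := Z)
        (fun z hz => CfsgLib.Coprime.centralizer_le_normalizer_self X
          (mem_centralizer_iff.2 fun w hw => (hz.2.2 w (hle hw)).symm.eq)) (hSX hy)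
      exact mul_mem (le_normalizer ha) (CfsgLib.Coprime.centralizer_le_normalizer_self X
        (mem_centralizer_iff.2 fun w hw => (hz.2.2 w (hle hw)).symm.eq))
    by_cases hD : (⁅(S : Subgroup G), (S : Subgroup G)⁆ : Subgroup G) = ⊥
    · refine absurd ⟨⟨fun a b => Subtype.ext ?_⟩⟩ hSna
      exact mem_centralizer_iff.1 ((commutator_eq_bot_iff_le_centralizer.1 hD) b.2) a a.2
    have hDX : (⁅(S : Subgroup G), (S : Subgroup G)⁆ : Subgroup G) ≤ X := by
      refine commutator_le.2 fun a ha b hb => ?_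
      obtain ⟨a', ha', z, hz, rfl⟩ := CfsgLib.Coprime.mem_sup_exists (N := X) (H := Z)
        ((centerSocle_le (X := (S : Subgroup G))).trans hXn) (hSX ha)
      obtain ⟨b', hb', z', hz', rfl⟩ := CfsgLib.Coprime.mem_sup_exists (N := X) (H := Z)
        ((centerSocle_le (X := (S : Subgroup G))).trans hXn) (hSX hb)
      have e : ⁅a' * z, b' * z'⁆ = ⁅a', b'⁆ := by
        have h1 : z' * (z⁻¹ * b'⁻¹) = z⁻¹ * b'⁻¹ * z' :=
          (hz'.2.2 _ (mul_mem (inv_mem hz.1) (inv_mem (hle hb')))).eq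
        have h2 : z * b' = b' * z := (hz.2.2 _ (hle hb')).eq
        have h3 : z' * z⁻¹ = z⁻¹ * z' := (hz'.2.2 _ (inv_mem hz.1)).eq
        rw [commutatorElement_def, commutatorElement_def, mul_inv_rev, mul_inv_rev]
        calc a' * z * (b' * z') * (z⁻¹ * a'⁻¹) * (z'⁻¹ * b'⁻¹)
            = a' * (z * b') * (z' * z⁻¹) * a'⁻¹ * z'⁻¹ * b'⁻¹ := by group
          _ = a' * (b' * z) * (z⁻¹ * z') * a'⁻¹ * z'⁻¹ * b'⁻¹ := by rw [h2, h3]
          _ = a' * b' * (z' * a'⁻¹) * z'⁻¹ * b'⁻¹ := by group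
          _ = a' * b' * (a'⁻¹ * z') * z'⁻¹ * b'⁻¹ := by
            rw [(hz'.2.2 _ (inv_mem (hle ha'))).eq]
          _ = a' * b' * a'⁻¹ * b'⁻¹ := by group
      rw [e, commutatorElement_def]
      exact mul_mem (mul_mem (mul_mem ha' hb') (inv_mem ha')) (inv_mem hb')
    obtain ⟨z, hz, hz1⟩ := centerSocle_ne_bot (X := (S : Subgroup G)) S.2
      (commutator_le.2 fun a ha b hb => mul_mem (mul_mem (mul_mem ha hb) (inv_mem ha)) (inv_mem hb))
      (fun y hy => FixLine.normalizer_le_normalizer_derived _ (le_normalizer hy)) hD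
    have hZX : Z ≤ X := by
      have : zpowers z = Z := eq_of_le_of_card_ge (zpowers_le.2 (mem_inf.1 hz).2)
        (by rw [Nat.card_zpowers, orderOf_eq_prime (mem_inf.1 hz).2.2.1 hz1, hZc])
      rw [← this]
      exact zpowers_le.2 (hDX (mem_inf.1 hz).1)
    exact hSX.trans (sup_le le_rfl hZX)
  haveI : Nontrivial ↥(S : Subgroup G) := by
    refine (nontrivial_iff_ne_bot _).2 fun e => ?_
    exact TauTwo.line_ne_bot hZc (le_bot_iff.1 (centerSocle_le.trans e.le))
  obtain ⟨-, hst⟩ := RankTwoMoves.structure_of_moves hp2 S.2 hrk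
    (Θ := (MetaAct.operHom hKS).range)
    (by
      exact ((hG.1.of_dvd_nat (card_subgroup_dvd_card K)).of_dvd_nat (card_range_dvd _)))
    (hcopK.coprime_dvd_left (card_range_dvd _)) (MetaAct.moves_of_commutator_eq hKS hKS')
  obtain ⟨E, z, ζ, htop, hzE, -, hEc, hEp, hζz, hζo, hEE⟩ := hst.resolve_left hSna
  -- the center is centralized by `K`
  have hcenter : ∀ y : ↥(S : Subgroup G), Commute z y := by
    intro y
    have : (⊤ : Subgroup ↥(S : Subgroup G)) ≤ centralizer ({z} : Set _) := by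
      rw [← htop]
      refine sup_le (fun a ha => mem_centralizer_singleton_iff.2 ?_) (zpowers_le.2 ?_)
      · exact mem_centralizer_iff.1 hzE a ha
      · exact mem_centralizer_singleton_iff.2 rfl
    exact (mem_centralizer_singleton_iff.1 (this (mem_top y))).symm
  set C := (center ↥(S : Subgroup G)).map (S : Subgroup G).subtype
  have hkC : (k : G) ∈ normalizer (C : Set G) :=
    CfsgLib.PGroup.normalizer_le_normalizer_map_char _ _ (hKS k.2)
  have hzC : ((z : ↥(S : Subgroup G)) : G) ∈ C :=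
    ⟨z, mem_center_iff.2 fun y => (hcenter y).symm.eq, rfl⟩
  have hzZ : ((z : ↥(S : Subgroup G)) : G) ∈ Z := by
    rw [← hfixZ]
    have h1 := CfsgLib.PGroup.commute_of_fix_omega_odd hp2 (S.2.to_le (map_subtype_le _)) hkC
      (fun hd => hp.out.coprime_iff_not_dvd.1 (hvp _ k.2).symm hd) (fun c hc hcp => by
        obtain ⟨c', hc', rfl⟩ := hc
        have hcZ : ((c' : ↥(S : Subgroup G)) : G) ∈ Z := ⟨c'.2, hcp, fun y hy =>
          (congrArg Subtype.val (mem_center_iff.1 hc' ⟨y, hy⟩) :).symm⟩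
        exact (mem_centralizer_iff.1 (mem_inf.1 (hZfix hcZ)).2 k k.2)) _ hzC
    refine mem_inf.2 ⟨hSσ z.2, mem_centralizer_iff.2 fun a ha => ?_⟩
    obtain ⟨i, rfl⟩ := hgen a ha
    exact (h1.pow_left i).eq
  have hζE : ζ ∈ E := by
    have hle : ⁅E, E⁆ ≤ E := commutator_le.2 fun a ha b hb =>
      mul_mem (mul_mem (mul_mem ha hb) (inv_mem ha)) (inv_mem hb)
    exact hle (hEE ▸ mem_zpowers ζ)
  have hztop : E = ⊤ := by
    refine top_le_iff.1 (htop.symm.le.trans (sup_le le_rfl (zpowers_le.2 ?_)))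
    by_cases hz1 : z = 1
    · rw [hz1]; exact one_mem _
    have hzp : z ^ p = 1 := Subtype.ext (by
      rw [SubmonoidClass.coe_pow, OneMemClass.coe_one]; exact hzZ.2.1)
    have hzo : orderOf z = p := orderOf_eq_prime hzp hz1
    have : zpowers ζ = zpowers z := eq_of_le_of_card_ge (zpowers_le.2 hζz)
      (by rw [Nat.card_zpowers, Nat.card_zpowers, hζo, hzo])
    exact zpowers_le.2 hζE (this.symm.le (mem_zpowers z))
  have hScard : Nat.card ↥(S : Subgroup G) = p ^ 3 := by
    rw [← hEc, hztop, card_top]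
  have hexp : ∀ y ∈ (S : Subgroup G), y ^ p = 1 := fun y hy =>
    congrArg Subtype.val (hEp ⟨y, hy⟩ (hztop ▸ mem_top _))
  refine ⟨hScard, ?_⟩
  -- semiregular action on the maximal subgroups of `S`
  have hZL : ∀ L : Subgroup G, L ≤ (S : Subgroup G) → Nat.card L = p ^ 2 →
      Z ≤ L ∧ Cfsg.IsElementaryAbelian p L := by
    intro L hLS hLc
    have hLab : Cfsg.IsElementaryAbelian p L :=
      ⟨IsPGroup.isMulCommutative_of_card_eq_prime_sq hLc, fun y hy => hexp y (hLS hy)⟩
    refine ⟨?_, hLab⟩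
    by_contra hnot
    refine hSna ?_
    have hcL : Z ≤ centralizer (L : Set G) := fun z hz =>
      mem_centralizer_iff.2 fun l hl => (hz.2.2 l (hLS hl)).symm.eq
    have hlt : L < L ⊔ Z := lt_of_le_of_ne le_sup_left fun e => hnot (e ▸ le_sup_right)
    have hle : L ⊔ Z ≤ (S : Subgroup G) := sup_le hLS centerSocle_le
    have heq : L ⊔ Z = (S : Subgroup G) := by
      refine eq_of_le_of_card_ge hle ?_
      obtain ⟨j, hj, hjc⟩ := (Nat.dvd_prime_pow hp.out).1 (hScard ▸ card_dvd_of_le hle)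
      have : Nat.card L < Nat.card ↥(L ⊔ Z) := Set.Finite.card_lt_card (Set.toFinite _) hlt
      rw [hLc, hjc] at this
      have := (Nat.pow_lt_pow_iff_right hp.out.one_lt).1 this
      rw [hScard, hjc]
      exact Nat.pow_le_pow_right hp.out.pos (by omega)
    refine ⟨⟨fun a b => Subtype.ext ?_⟩⟩
    obtain ⟨a', ha', z, hz, e⟩ := CfsgLib.Coprime.mem_sup_exists (N := L) (H := Z)
      (hcL.trans (CfsgLib.Coprime.centralizer_le_normalizer_self L)) (heq.ge a.2)
    obtain ⟨b', hb', z', hz', e'⟩ := CfsgLib.Coprime.mem_sup_exists (N := L) (H := Z)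
      (hcL.trans (CfsgLib.Coprime.centralizer_le_normalizer_self L)) (heq.ge b.2)
    show (a : G) * b = b * a
    have hab : Commute a' b' := commute_of_mem hLab ha' hb'
    have haz' : Commute a' z' := (hz'.2.2 a' (hLS ha')).symm
    have hzb : Commute z b' := hz.2.2 b' (hLS hb')
    have hzz : Commute z z' := hz.2.2 z' hz'.1
    rw [← e, ← e']
    exact ((hab.mul_right haz').mul_left (hzb.mul_right hzz)).eq
  have hmove : ∀ L : Subgroup G, L ≤ (S : Subgroup G) → Nat.card L = p ^ 2 →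
      (k : G) ∉ normalizer (L : Set G) := by
    intro L hLS hLc hkL
    obtain ⟨hZL', -⟩ := hZL L hLS hLc
    refine hw1 (hfpS w hwK fun y hy => ?_)
    have hSLn : (S : Subgroup G) ≤ normalizer (L : Set G) := by
      haveI : (L.subgroupOf (S : Subgroup G)).Normal :=
        Subgroup.normal_of_index_eq_minFac_card (by
          have h1 := CfsgLib.Coprime.card_mul_relIndex hLS
          rw [hLc, hScard, pow_succ _ 2] at h1
          rw [show (L.subgroupOf (S : Subgroup G)).index = L.relIndex (S : Subgroup G) from rfl,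
            Nat.eq_of_mul_eq_mul_left (pow_pos hp.out.pos 2) h1, hScard,
            Nat.pow_minFac (by norm_num), hp.out.minFac_eq])
      exact (normal_subgroupOf_iff_le_normalizer hLS).1 ‹_›
    have hsc : Narrow.Scalarless p (zpowers (k : G)) w := Or.inr ⟨_, mem_zpowers _, rfl⟩
    have hkS' : zpowers (k : G) ≤ normalizer ((S : Subgroup G) : Set G) := zpowers_le.2 (hKS k.2)
    have hLfix : ∀ l ∈ L, w * l * w⁻¹ = l := fun l hl =>
      conj_eq_of_mod S.2 centerSocle_le (hvp w hwK) (hKfix w hwK)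
        (Narrow.scalarless_trivial (p := p) hZL'
          (fun y hy => normalizer_le_normalizer_centerSocle _ _ (le_normalizer (hLS hy)))
          (zpowers_le.2 hkL) (zpowers_le.2 (hKZ k.2))
          (by
            have h1 := CfsgLib.Coprime.card_mul_relIndex hZL'
            rw [hZc, hLc, pow_two] at h1
            rw [Nat.eq_of_mul_eq_mul_left hp.out.pos h1]) hsc hl)
    exact conj_eq_of_mod S.2 hLS (hvp w hwK) hLfix
      (Narrow.scalarless_trivial (p := p) hLS hSLn hkS' (zpowers_le.2 hkL) (by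
        have h1 := CfsgLib.Coprime.card_mul_relIndex hLS
        rw [hLc, hScard, pow_succ _ 2] at h1
        rw [Nat.eq_of_mul_eq_mul_left (pow_pos hp.out.pos 2) h1]) hsc hy)
  have hstab : ∀ L : Subgroup G, L ≤ (S : Subgroup G) → Nat.card L = p ^ 2 →
      ∀ v ∈ K, v ∈ normalizer (L : Set G) → v = 1 := by
    intro L hLS hLc v hv hvL
    obtain ⟨hZL', hLe⟩ := hZL L hLS hLc
    have hkv : Commute (k : G) v := hall_commute hG hM d.hall k.2 hv
    set L' := conjBy (k : G) L with hL'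
    have hL'S : L' ≤ (S : Subgroup G) := by
      rintro _ ⟨l, hl, rfl⟩
      exact (mem_normalizer_iff.1 (hKS k.2) l).1 (hLS hl)
    have hL'c : Nat.card L' = p ^ 2 := by rw [hL', card_conjBy, hLc]
    obtain ⟨γ, hγ, hgenL⟩ := exists_gen_mod hZL' hLe (le_of_eq (by
      have h1 := CfsgLib.Coprime.card_mul_relIndex hZL'
      rw [hZc, hLc, pow_two] at h1
      exact Nat.eq_of_mul_eq_mul_left hp.out.pos h1))
    obtain ⟨m, hm⟩ := exists_scalar_mod hLe hZL' hγ hgenL hvL (hKZ hv)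
    have hsup : L ⊔ L' = (S : Subgroup G) := by
      refine eq_of_le_of_card_ge (sup_le hLS hL'S) ?_
      have hne : L' ≠ L := fun e => hmove L hLS hLc (CfsgLib.Coprime.conjBy_eq_self_iff.1 e)
      have hlt : L < L ⊔ L' := lt_of_le_of_ne le_sup_left fun e => hne
        (eq_of_le_of_card_ge (e ▸ le_sup_right) (by rw [hLc, hL'c]))
      obtain ⟨j, hj, hjc⟩ :=
        (Nat.dvd_prime_pow hp.out).1 (hScard ▸ card_dvd_of_le (sup_le hLS hL'S))
      have : Nat.card L < Nat.card ↥(L ⊔ L') := Set.Finite.card_lt_card (Set.toFinite _) hlt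
      rw [hLc, hjc] at this
      have := (Nat.pow_lt_pow_iff_right hp.out.one_lt).1 this
      rw [hScard, hjc]
      exact Nat.pow_le_pow_right hp.out.pos (by omega)
    -- `v` acts on `S / Z` as the power `m`
    have hact : ∀ y, y ∈ L ∨ y ∈ L' → ∃ c ∈ Z, v * y * v⁻¹ = c * y ^ m := by
      rintro y (hy | hy)
      · exact ⟨_, hm y hy, by rw [inv_mul_cancel_right]⟩
      · obtain ⟨l, hl, rfl⟩ := hy
        refine ⟨_, hm l hl, ?_⟩
        show v * (k * l * (k : G)⁻¹) * v⁻¹ = _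
        rw [show ((MulAut.conj (k : G)).toMonoidHom l) ^ m = (k : G) * l ^ m * (k : G)⁻¹ from
          conj_pow]
        calc v * (k * l * (k : G)⁻¹) * v⁻¹ = (v * k) * l * (v * k)⁻¹ := by group
          _ = k * (v * l * v⁻¹) * (k : G)⁻¹ := by rw [← hkv.eq]; group
          _ = k * (v * l * v⁻¹ * (l ^ m)⁻¹) * (k : G)⁻¹ * (k * l ^ m * (k : G)⁻¹) := by group
          _ = _ := by rw [hKfix _ k.2 _ (hm l hl)]
    have hZcomm : ∀ c ∈ Z, ∀ y ∈ (S : Subgroup G), Commute c y := fun c hc y hy => hc.2.2 y hy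
    -- the commutator of the two sides is fixed
    obtain ⟨l, hl, l', hl', hne⟩ : ∃ l ∈ L, ∃ l' ∈ L', ⁅l, l'⁆ ≠ 1 := by
      by_contra hno
      simp only [not_exists, not_and, not_not] at hno
      refine hSna ⟨⟨fun a b => Subtype.ext ?_⟩⟩
      have hLC : L' ≤ centralizer (L : Set G) := fun y hy => mem_centralizer_iff.2 fun l hl =>
        commutatorElement_eq_one_iff_mul_comm.1 (hno l hl y hy)
      have hL'e := (hZL L' hL'S hL'c).2
      have h2 : L ⊔ L' ≤ centralizer ((L ⊔ L' : Subgroup G) : Set G) := by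
        refine sup_le (le_centralizer_iff.1 (sup_le (fun y hy => mem_centralizer_iff.2 fun l hl =>
          commute_of_mem hLe hl hy) hLC)) (le_centralizer_iff.1 (sup_le
            (le_centralizer_iff.1 hLC) fun y hy => mem_centralizer_iff.2 fun l hl =>
              commute_of_mem hL'e hl hy))
      rw [hsup] at h2
      exact (mem_centralizer_iff.1 (h2 b.2) a a.2)
    have hcZ : ∀ a ∈ (S : Subgroup G), ∀ b ∈ (S : Subgroup G), ⁅a, b⁆ ∈ Z := by
      intro a ha b hb
      have h1 : ⁅(⟨a, ha⟩ : ↥(S : Subgroup G)), ⟨b, hb⟩⁆ ∈ ⁅E, E⁆ :=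
        commutator_mem_commutator (hztop ▸ mem_top _) (hztop ▸ mem_top _)
      rw [hEE] at h1
      have hζC : (ζ : G) ∈ Z := by
        refine ⟨ζ.2, hexp _ ζ.2, fun y hy => ?_⟩
        obtain ⟨i, hi⟩ := mem_zpowers_iff.1 hζz
        rw [← hi]
        exact (congrArg Subtype.val ((hcenter ⟨y, hy⟩).zpow_left i).eq :)
      obtain ⟨i, hi⟩ := mem_zpowers_iff.1 h1
      have := congrArg Subtype.val hi
      rw [SubgroupClass.coe_zpow] at this
      have h' : (ζ : G) ^ i = ⁅a, b⁆ := this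
      rw [← h']
      exact zpow_mem hζC i
    obtain ⟨c₁, hc₁, h₁⟩ := hact l (Or.inl hl)
    obtain ⟨c₂, hc₂, h₂⟩ := hact l' (Or.inr hl')
    have hlS := hLS hl
    have hl'S := hL'S hl'
    have e1 : v * ⁅l, l'⁆ * v⁻¹ = ⁅l ^ m, l' ^ m⁆ := by
      rw [show v * ⁅l, l'⁆ * v⁻¹ = ⁅v * l * v⁻¹, v * l' * v⁻¹⁆ by
        simp only [commutatorElement_def]; group, h₁, h₂]
      simp only [commutatorElement_def, mul_inv_rev]
      have q1 := (hZcomm c₂ hc₂ _ (inv_mem (pow_mem hlS m))).eq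
      have q2 := (hZcomm c₁ hc₁ _ (pow_mem hlS m)).eq
      have q3 := (hZcomm c₂ hc₂ _ (pow_mem hl'S m)).eq
      have q4 := (hZcomm c₁ hc₁ _ (pow_mem hl'S m)).eq
      have q5 := (hZcomm c₁ hc₁ _ hc₂.1).eq
      calc c₁ * l ^ m * (c₂ * l' ^ m) * ((l ^ m)⁻¹ * c₁⁻¹) * ((l' ^ m)⁻¹ * c₂⁻¹)
          = c₁ * l ^ m * (c₂ * l' ^ m) * (l ^ m)⁻¹ * (c₁⁻¹ * (l' ^ m)⁻¹) * c₂⁻¹ := by group
        _ = c₁ * l ^ m * (c₂ * l' ^ m) * (l ^ m)⁻¹ * ((l' ^ m)⁻¹ * c₁⁻¹) * c₂⁻¹ := by
          rw [((hZcomm c₁ hc₁ _ (inv_mem (pow_mem hl'S m))).inv_left).eq]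
        _ = c₁ * (l ^ m * c₂) * (l' ^ m * (l ^ m)⁻¹ * (l' ^ m)⁻¹) * (c₁⁻¹ * c₂⁻¹) := by group
        _ = c₁ * (c₂ * l ^ m) * (l' ^ m * (l ^ m)⁻¹ * (l' ^ m)⁻¹) * (c₁⁻¹ * c₂⁻¹) := by
          rw [(hZcomm c₂ hc₂ _ (pow_mem hlS m)).eq]
        _ = (c₁ * c₂) * ⁅l ^ m, l' ^ m⁆ * (c₂ * c₁)⁻¹ := by
          rw [commutatorElement_def]; group
        _ = _ := by
          rw [← q5]
          have hcomm := (hZcomm c₁ hc₁ _ (hcZ _ (pow_mem hlS m) _ (pow_mem hl'S m)).1).mul_left
            (hZcomm c₂ hc₂ _ (hcZ _ (pow_mem hlS m) _ (pow_mem hl'S m)).1)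
          rw [hcomm.eq, mul_inv_cancel_right, commutatorElement_def]
    have e2 : ⁅l ^ m, l' ^ m⁆ = ⁅l, l'⁆ ^ (m * m) := by
      have hcen : ∀ a b : ↥(S : Subgroup G), ⁅a, b⁆ ∈ center ↥(S : Subgroup G) := fun a b =>
        mem_center_iff.2 fun y => Subtype.ext
          ((hcZ a a.2 b b.2).2.2 y y.2).symm.eq
      have h3 := MetaAct.comm_pow_left hcen (⟨l, hlS⟩ : ↥(S : Subgroup G)) (⟨l', hl'S⟩ ^ m) m
      rw [MetaAct.comm_pow_right hcen (⟨l, hlS⟩ : ↥(S : Subgroup G)) ⟨l', hl'S⟩ m] at h3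
      rw [← pow_mul] at h3
      exact congrArg Subtype.val h3
    have hfix1 := hKfix v hv _ (hcZ l hlS l' hl'S)
    rw [e1, e2] at hfix1
    have hmm : p ∣ m * m - 1 ∧ 1 ≤ m * m := by
      have ho : orderOf ⁅l, l'⁆ = p := orderOf_eq_prime (hexp _ (hcZ l hlS l' hl'S).1) hne
      rcases Nat.eq_zero_or_pos (m * m) with h0 | h0
      · rw [h0, pow_zero] at hfix1
        exact absurd hfix1.symm hne
      refine ⟨ho ▸ orderOf_dvd_of_pow_eq_one ?_, h0⟩
      have := hfix1
      conv_lhs at this => rw [← Nat.sub_add_cancel (Nat.one_le_iff_ne_zero.2 h0.ne'), pow_succ]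
      rwa [mul_eq_right] at this
    have hv2 : v * v = 1 := by
      refine hfpS _ (mul_mem hv hv) fun y hy => ?_
      have hle : (S : Subgroup G) ≤ centralizer ({v * v} : Set G) := by
        rw [← hsup]
        have hone : ∀ y, y ∈ L ∨ y ∈ L' → y ∈ centralizer ({v * v} : Set G) := fun y hy => by
          have hyS : y ∈ (S : Subgroup G) := hy.elim (hLS ·) (hL'S ·)
          have hmem' : ∀ j : ℕ, y ^ j ∈ L ∨ y ^ j ∈ L' := fun j =>
            hy.imp (pow_mem · j) (pow_mem · j)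
          obtain ⟨c, hc, hy1⟩ := hact y hy
          obtain ⟨c', hc', hy2⟩ := hact _ (hmem' m)
          refine mem_centralizer_singleton_iff.2 ?_
          have h4 : v * v * y * (v * v)⁻¹ = y := by
            refine conj_eq_of_mod S.2 centerSocle_le (hvp _ (mul_mem hv hv))
              (hKfix _ (mul_mem hv hv)) ?_
            have h5 : v * v * y * (v * v)⁻¹ = c * c' * y ^ (m * m) := by
              calc v * v * y * (v * v)⁻¹ = v * (v * y * v⁻¹) * v⁻¹ := by group
                _ = v * (c * y ^ m) * v⁻¹ := by rw [hy1]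
                _ = (v * c * v⁻¹) * (v * y ^ m * v⁻¹) := by group
                _ = c * (c' * (y ^ m) ^ m) := by rw [hKfix v hv c hc, hy2]
                _ = _ := by rw [← pow_mul, mul_assoc]
            rw [h5]
            obtain ⟨j, hj⟩ := hmm.1
            rw [show m * m = p * j + 1 by omega, pow_succ, pow_mul, hexp y hyS, one_pow, one_mul,
              mul_inv_cancel_right]
            exact mul_mem hc hc'
          calc y * (v * v) = (v * v * y * (v * v)⁻¹) * (v * v) := by rw [h4]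
            _ = v * v * y := by group
        exact sup_le (fun y hy => hone y (Or.inl hy)) fun y hy => hone y (Or.inr hy)
      rw [← mem_centralizer_singleton_iff.1 (hle hy), mul_inv_cancel_right]
    by_contra hv1
    have ho : orderOf v = 2 := orderOf_eq_prime (by rw [pow_two]; exact hv2) hv1
    have hodd : Odd (orderOf v) := hG.1.of_dvd_nat ((orderOf_dvd_natCard v))
    rw [ho] at hodd
    exact absurd hodd (by decide)
  -- counting
  set 𝓛 := {L : Subgroup G // L ≤ (S : Subgroup G) ∧ Nat.card L = p ^ 2}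
  have hcount : Nat.card 𝓛 = p + 1 := by
    have hfib : ∀ L : 𝓛, Nat.card {y : G // y ∈ L.1 ∧ y ∉ Z} = p ^ 2 - p := by
      intro L
      have h1 : {y : G | y ∈ L.1 ∧ y ∉ Z} = (L.1 : Set G) \ (Z : Set G) := rfl
      show Nat.card ↥({y : G | y ∈ L.1 ∧ y ∉ Z}) = _
      rw [h1, Nat.card_coe_set_eq, Set.ncard_diff (hZL _ L.2.1 L.2.2).1]
      show (L.1 : Set G).ncard - (Z : Set G).ncard = _
      rw [← Nat.card_coe_set_eq, ← Nat.card_coe_set_eq]
      exact congrArg₂ (· - ·) L.2.2 hZc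
    let e : (Σ L : 𝓛, {y : G // y ∈ L.1 ∧ y ∉ Z}) → {y : G // y ∈ (S : Subgroup G) ∧ y ∉ Z} :=
      fun s => ⟨s.2.1, s.1.2.1 s.2.2.1, s.2.2.2⟩
    have hbij : Function.Bijective e := by
      have hspan : ∀ (L : 𝓛) (y : G), y ∈ L.1 → y ∉ Z → zpowers y ⊔ Z = L.1 := by
        intro L y hy hyZ
        have hle : zpowers y ⊔ Z ≤ L.1 := sup_le (zpowers_le.2 hy) (hZL _ L.2.1 L.2.2).1
        refine eq_of_le_of_card_ge hle ?_
        obtain ⟨j, hj, hjc⟩ := (Nat.dvd_prime_pow hp.out).1 (L.2.2 ▸ card_dvd_of_le hle)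
        have hlt : Z < zpowers y ⊔ Z := lt_of_le_of_ne le_sup_right fun e =>
          hyZ (e ▸ mem_sup_left (mem_zpowers y))
        have : Nat.card Z < Nat.card ↥(zpowers y ⊔ Z) :=
          Set.Finite.card_lt_card (Set.toFinite _) hlt
        rw [hZc, hjc] at this
        rw [L.2.2, hjc]
        have h1 : 1 < j := (Nat.pow_lt_pow_iff_right hp.out.one_lt).1 (by rwa [pow_one])
        exact Nat.pow_le_pow_right hp.out.pos h1
      constructor
      · rintro ⟨L, y, hy⟩ ⟨L', y', hy'⟩ heq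
        have hyy : y = y' := congrArg Subtype.val heq
        subst hyy
        have hLL : L = L' := Subtype.ext
          ((hspan L y hy.1 hy.2).symm.trans (hspan L' y hy'.1 hy.2))
        subst hLL
        rfl
      · rintro ⟨y, hy, hyZ⟩
        have hle : zpowers y ⊔ Z ≤ (S : Subgroup G) :=
          sup_le (zpowers_le.2 hy) centerSocle_le
        have hd : Nat.card ↥(zpowers y ⊔ Z) ∣ p ^ 2 := by
          have hn : zpowers y ≤ normalizer (Z : Set G) :=
            zpowers_le.2 (normalizer_le_normalizer_centerSocle _ _ (le_normalizer hy))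
          refine (CfsgLib.Coprime.card_sup_dvd_of_le_normalizer hn).trans ?_
          rw [hZc, Nat.card_zpowers, pow_two]
          exact mul_dvd_mul_right (orderOf_dvd_of_pow_eq_one (hexp y hy)) p
        obtain ⟨j, hj, hjc⟩ := (Nat.dvd_prime_pow hp.out).1 hd
        have hlt : Z < zpowers y ⊔ Z := lt_of_le_of_ne le_sup_right fun e =>
          hyZ (e ▸ mem_sup_left (mem_zpowers y))
        have : Nat.card Z < Nat.card ↥(zpowers y ⊔ Z) :=
          Set.Finite.card_lt_card (Set.toFinite _) hlt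
        rw [hZc, hjc] at this
        have h1 : 1 < j := (Nat.pow_lt_pow_iff_right hp.out.one_lt).1 (by rwa [pow_one])
        exact ⟨⟨⟨_, hle, by rw [hjc, show j = 2 by omega]⟩, y,
          mem_sup_left (mem_zpowers y), hyZ⟩, rfl⟩
    have h1 := Nat.card_congr (Equiv.ofBijective e hbij)
    haveI : Fintype 𝓛 := Fintype.ofFinite _
    rw [Nat.card_sigma, Finset.sum_congr rfl (fun L _ => hfib L), Finset.sum_const,
      Finset.card_univ, ← Nat.card_eq_fintype_card, smul_eq_mul] at h1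
    have h2 : Nat.card {y : G // y ∈ (S : Subgroup G) ∧ y ∉ Z} = p ^ 3 - p := by
      show Nat.card ↥((↑(S : Subgroup G) : Set G) \ (Z : Set G)) = _
      rw [Nat.card_coe_set_eq, Set.ncard_diff centerSocle_le, ← Nat.card_coe_set_eq,
        ← Nat.card_coe_set_eq]
      exact congrArg₂ (· - ·) hScard hZc
    rw [h2] at h1
    refine Nat.eq_of_mul_eq_mul_right ?_ (h1.trans ?_)
    · rw [Nat.sub_pos_iff_lt, pow_two]
      exact lt_mul_self hp.out.one_lt
    · rw [Nat.mul_sub]
      have : p ^ 3 = p ^ 2 * p := pow_succ p 2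
      have : (p + 1) * p ^ 2 = p ^ 2 * p + p ^ 2 := by ring
      have : (p + 1) * p = p ^ 2 + p := by ring
      omega
  -- orbit decomposition
  letI : MulAction K 𝓛 :=
    { smul := fun v L => ⟨conjBy (v : G) L.1, by
        rintro _ ⟨l, hl, rfl⟩
        exact (mem_normalizer_iff.1 (hKS v.2) l).1 (L.2.1 hl), by rw [card_conjBy, L.2.2]⟩
      one_smul := fun L => Subtype.ext (conjBy_one _)
      mul_smul := fun v w L => Subtype.ext (conjBy_conjBy _ _ _).symm }
  have hfree : ∀ L : 𝓛, MulAction.stabilizer K L = ⊥ := fun L => by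
    refine eq_bot_iff.2 fun v hv => mem_bot.2 (Subtype.ext ?_)
    exact hstab L.1 L.2.1 L.2.2 v v.2
      (CfsgLib.Coprime.conjBy_eq_self_iff.1 (congrArg Subtype.val (MulAction.mem_stabilizer_iff.1 hv)))
  rw [← hcount]
  haveI : Fintype (Quotient (MulAction.orbitRel K 𝓛)) := Fintype.ofFinite _
  rw [Nat.card_congr (MulAction.selfEquivSigmaOrbitsQuotientStabilizer K 𝓛), Nat.card_sigma]
  refine Finset.dvd_sum fun o _ => ?_
  rw [← Subgroup.index_eq_card, hfree, Subgroup.index_bot]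

end Kappa

end CfsgLib.CFun.MeetStructure
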