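import Cfsg.Agent.Lib.CFun.OddFittingTI
import Cfsg.Agent.Lib.CFun.OddTauTwoNonabelian
import Cfsg.Agent.Lib.CFun.OddSigmaTrivialInter
import Cfsg.Agent.Lib.CFun.OddRankTwoTower
import Cfsg.Agent.S1418
import Cfsg.Agent.S1419

/-!
# The structure of `M` when `F(M)` is not a TI-subset

For an element `x` of order `p` common to `F(M)` and `F(M) ^ g`, either the Sylow `p`-subgroups are
abelian and `M_σ` is abelian of rank two, or they are nonabelian, the other Sylow subgroups of `M_σ`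
are cyclic and `x` generates `F(M) ∩ F(M) ^ g`.
-/

set_option autoImplicit false
set_option linter.style.haveILetI false
set_option linter.unusedSectionVars false

open Subgroup
open scoped commutatorElement
open CfsgLib.Coprime (conjBy conjBy_conjBy conjBy_one mem_conjBy conj_mem_conjBy card_conjBy
  IsSylowIn IsPiNum)

namespace CfsgLib.CFun.MeetStructure

open CfsgLib.CFun.TauTwo CfsgLib.CFun.Lines CfsgLib.CFun.Kappa CfsgLib.CFun.Partner
open CfsgLib.CFun.ElemCent CfsgLib.CFun.FitTI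

universe u

variable {G : Type u} [Group G] [Finite G]

/-- A neighbour of `M` over `x` with a torus inside `M_σ`. -/
structure Torus (M N A : Subgroup G) (x : G) (p : ℕ) : Prop where
  coatom : IsCoatom N
  centralizer_le : centralizer ({x} : Set G) ≤ N
  compl : Cfsg.IsComplIn (M ⊓ N) (Cfsg.sigmaCore N) N
  sigma : p ∈ Cfsg.sigma M
  tau : p ∈ Cfsg.tau2 N
  le : A ≤ M ⊓ N
  le_sigmaCore : A ≤ Cfsg.sigmaCore M
  elem : Cfsg.IsElementaryAbelian p A
  card : Nat.card A = p ^ 2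

variable (hG : Cfsg.IsMinSimpleOddOrder G) {M : Subgroup G} (hM : IsCoatom M) {g x : G}
  {p : ℕ} [hp : Fact p.Prime] (h : Meet M g x) (hxp : x ^ p = 1)
include hG hM h hxp

theorem exists_torus : ∃ N A : Subgroup G, Torus M N A x p := by
  obtain ⟨N, hN, hxN, hD, hτ⟩ := exists_neighbour hG hM h
  obtain ⟨hpM, hpN⟩ := hτ p hp.out (by rw [orderOf_eq_prime hxp h.ne])
  obtain ⟨A, hA, hAσ, hAe, hA2, -⟩ := Neighbour.exists_torus_inter hG hM hN hpM hpN hD
  exact ⟨N, A, hN, hxN, hD, hpM, hpN, hA, hAσ, hAe, hA2⟩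

omit hxp hp in
theorem nilpotent : Group.IsNilpotent (Cfsg.sigmaCore M) :=
  fittingHall_eq hG hM h ▸ Chain.isNilpotent_fittingHallOf M

/-- The Sylow `p`-subgroup of `M_σ` is a Sylow subgroup of `G` containing all `p`-elements. -/
theorem exists_sylow : ∃ S : Sylow p G, (S : Subgroup G) ≤ Cfsg.sigmaCore M ∧
    x ∈ (S : Subgroup G) ∧ M ≤ normalizer ((S : Subgroup G) : Set G) ∧
    ∀ v ∈ Cfsg.sigmaCore M, (∃ n : ℕ, v ^ p ^ n = 1) → v ∈ (S : Subgroup G) := by
  obtain ⟨N, A, hT⟩ := exists_torus hG hM h hxp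
  haveI := nilpotent hG hM h
  obtain ⟨P⟩ := (inferInstance : Nonempty (Sylow p (Cfsg.sigmaCore M)))
  haveI : (P : Subgroup (Cfsg.sigmaCore M)).Normal :=
    Sylow.normal_of_normalizerCondition Group.normalizerCondition_of_isNilpotent P
  have hP := CfsgLib.Coprime.isSylowIn_map P
  have hP' := TauTwo.isSylowIn_of_relIndex hP (map_subtype_le _)
    fun hd => (sigmaCore_hall hG hM).1.2.2 p hp.out hT.sigma hd
  obtain ⟨-, S, hS⟩ := sigma_sylow hG hM hT.sigma hP'.toSylow
  rw [hP'.map_toSylow] at hS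
  have hmem : ∀ v ∈ Cfsg.sigmaCore M, (∃ n : ℕ, v ^ p ^ n = 1) → v ∈ (S : Subgroup G) := by
    rintro v hv ⟨n, hn⟩
    rw [hS]
    exact ⟨⟨v, hv⟩, RankTwoTower.mem_sylow_of_normal P ⟨n, Subtype.ext hn⟩, rfl⟩
  refine ⟨S, hS.le.trans (map_subtype_le _),
    hmem x (mem_sigmaCore hG hM h) ⟨1, by rwa [pow_one]⟩, ?_, hmem⟩
  rw [hS]
  exact sylow_normal hG hM h hP

/-- Elements of other prime power order commute with `x`. -/
theorem commute_of_ne {q : ℕ} [hq : Fact q.Prime] (hqp : q ≠ p) {v : G}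
    (hv : v ∈ Cfsg.sigmaCore M) {n : ℕ} (hn : v ^ q ^ n = 1) : v ∈ centralizer ({x} : Set G) := by
  haveI := nilpotent hG hM h
  refine mem_centralizer_singleton_iff.2 (congrArg Subtype.val
    (commute_of_coprime_order (x := (⟨v, hv⟩ : Cfsg.sigmaCore M))
      (y := ⟨x, mem_sigmaCore hG hM h⟩) (Nat.Coprime.of_dvd
        (orderOf_dvd_of_pow_eq_one (n := q ^ n) (Subtype.ext hn))
        (orderOf_dvd_of_pow_eq_one (n := p) (Subtype.ext hxp))
        (((Nat.coprime_primes hq.out hp.out).2 hqp).pow_left n))).eq :)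

/-- Abelian Sylow `p`-subgroups force an abelian `M_σ` of rank two. -/
theorem abelian_case (hab : ∀ S : Sylow p G, IsMulCommutative (S : Subgroup G)) :
    IsMulCommutative (Cfsg.sigmaCore M) ∧ Cfsg.RankLE 2 (Cfsg.sigmaCore M) ∧
      ¬ Cfsg.RankLE 1 (Cfsg.sigmaCore M) ∧ ∀ K U : Subgroup G,
        Cfsg.IsSigmaDecomposition M K U → K = ⊥ := by
  obtain ⟨N, A, hT⟩ := exists_torus hG hM h hxp
  obtain ⟨S, hSσ, hxS, -, hmem⟩ := exists_sylow hG hM h hxp
  have hle : Cfsg.sigmaCore M ≤ M ⊓ N := by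
    refine le_inf (map_subtype_le _) (le_trans ?_ hT.centralizer_le)
    refine CfsgLib.Fusion.le_of_forall_prime_pow fun q hq v hv ⟨n, hn⟩ => ?_
    haveI : Fact q.Prime := ⟨hq⟩
    rcases eq_or_ne q p with hqp | hqp
    · subst hqp
      haveI := hab S
      exact mem_centralizer_singleton_iff.2 (congrArg Subtype.val
        (mul_comm' (⟨v, hmem v hv ⟨n, hn⟩⟩ : (S : Subgroup G)) ⟨x, hxS⟩) :)
    · exact commute_of_ne hG hM h hxp hqp hv hn
  have hcomm : IsMulCommutative (Cfsg.sigmaCore M) :=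
    isMulCommutative_of_nilpotent hG hT.coatom (hle.trans inf_le_right) (nilpotent hG hM h)
      fun q hq hd => by
        haveI : Fact q.Prime := ⟨hq⟩
        exact Compl.compl_not_sigma hG hT.coatom hT.compl (hd.trans (card_dvd_of_le hle))
  refine ⟨hcomm, fun q hq => ?_, fun h1 => ?_, fun K U d => ?_⟩
  · haveI : Fact q.Prime := ⟨hq⟩
    exact RankTwoTower.pRankLE_of_injective (f := inclusion hle) (inclusion_injective hle)
      (Compl.compl_rank hG hT.coatom hT.compl q hq)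
  · have := h1 p hp.out (A.subgroupOf (Cfsg.sigmaCore M))
      ⟨⟨fun a b => Subtype.ext (Subtype.ext (commute_of_mem hT.elem a.2 b.2))⟩⟩
      fun a ha => Subtype.ext (hT.elem.2 _ ha)
    rw [Nat.card_congr (subgroupOfEquivOfLe hT.le_sigmaCore).toEquiv, hT.card] at this
    exact absurd this (not_le.2 (Nat.pow_lt_pow_right hp.out.one_lt one_lt_two))
  · by_contra hK1
    have hU : U = ⊥ := by
      by_contra hU
      exact false_of_U_ne_bot hG hM d h hK1 hU
    have hc : Cfsg.IsComplIn K (Cfsg.sigmaCore M) M := by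
      have := Decomp.compl hG hM d
      rwa [hU, sup_bot_eq] at this
    refine fixed_ne_bot hG hM d.hall (le_bot_iff.1 ((fixed_le_derived hG hM hc).trans
      (commutator_le.2 fun a ha b hb => ?_)))
    rw [mem_bot, commutatorElement_eq_one_iff_mul_comm]
    exact congrArg Subtype.val (hcomm.is_comm.comm (⟨a, ha⟩ : Cfsg.sigmaCore M) ⟨b, hb⟩)

section Nonabelian

variable (hS : ∀ S : Sylow p G, ¬ IsMulCommutative (S : Subgroup G))
include hS

/-- The Sylow subgroups at other primes are cyclic. -/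
theorem cyclic_of_ne {q : ℕ} [hq : Fact q.Prime] (hqp : q ≠ p) {R : Subgroup G}
    (hR : R ≤ Cfsg.sigmaCore M) (hRq : IsPGroup q R) : IsCyclic R := by
  by_cases hR1 : R = ⊥
  · subst hR1; infer_instance
  obtain ⟨N, A, hT⟩ := exists_torus hG hM h hxp
  have hRD : R ≤ M ⊓ N := by
    refine le_inf (hR.trans (map_subtype_le _)) fun v hv => hT.centralizer_le ?_
    obtain ⟨n, hn⟩ := hRq ⟨v, hv⟩
    exact commute_of_ne hG hM h hxp hqp (hR hv) (congrArg Subtype.val hn)
  have hqD : q ∣ Nat.card R := by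
    obtain ⟨i, hi⟩ := IsPGroup.iff_card.1 hRq
    rcases i with _ | i
    · exact absurd (card_eq_one.1 (hi.trans (pow_zero q))) hR1
    · rw [hi]; exact dvd_pow_self q i.succ_ne_zero
  have hqσ : q ∉ Cfsg.sigma N :=
    Compl.compl_not_sigma hG hT.coatom hT.compl (hqD.trans (card_dvd_of_le hRD))
  have hq2 : q ≠ 2 := ms_ne_two hG (hqD.trans (card_subgroup_dvd_card R))
  have hr2 : Cfsg.PRankLE q 2 N := by
    by_contra hno
    exact hqσ (alpha_subset_sigma hG hT.coatom ⟨hq.out, hno⟩)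
  refine Compl.isCyclic_of_rank_one hq2 hRq (RankTwoTower.pRankLE_of_injective
    (f := inclusion (hRD.trans inf_le_right)) (inclusion_injective _) ?_)
  by_contra hno
  obtain ⟨hτ, -, -⟩ := Cfsg.Agent.S1419.result hG N hT.coatom _ hT.compl p hT.tau hS A
    ⟨hT.le, hT.elem, hT.card⟩
  exact hqp (Set.mem_singleton_iff.1 (hτ ▸
    (show q ∈ Cfsg.tau2 N from ⟨hq.out, hqσ, hr2, hno⟩)))

/-- `x` is the line of the torus centralizing `N_σ`, hence not a `p`-th power in `M_σ ∩ C(x)`. -/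
theorem no_root {y : G} (hy : y ∈ Cfsg.sigmaCore M) (hyx : y ^ p = x) : False := by
  obtain ⟨N, A, hT⟩ := exists_torus hG hM h hxp
  obtain ⟨S, hSσ, hxS, -, hmem⟩ := exists_sylow hG hM h hxp
  have hyp : y ^ p ^ 2 = 1 := by rw [pow_two, pow_mul, hyx, hxp]
  have hAS : A ≤ (S : Subgroup G) := fun a ha =>
    hmem a (hT.le_sigmaCore ha) ⟨1, by rw [pow_one]; exact hT.elem.2 a ha⟩
  have hyS := hmem y hy ⟨2, hyp⟩
  have hyN : y ∈ M ⊓ N := mem_inf.2 ⟨map_subtype_le _ hy, hT.centralizer_le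
    (mem_centralizer_singleton_iff.2 (by rw [← hyx, ← pow_succ, pow_succ']))⟩
  have hAN : A ≤ N := hT.le.trans inf_le_right
  obtain ⟨⟨hDA, -⟩, -⟩ := Cfsg.Agent.S1418.result hG N hT.coatom _ hT.compl p hT.tau A
    ⟨hT.le, hT.elem, hT.card⟩
  have hyp' : IsPGroup p (zpowers y) := by
    obtain ⟨j, -, hj⟩ := (Nat.dvd_prime_pow hp.out).1 (orderOf_dvd_of_pow_eq_one hyp)
    exact IsPGroup.of_card (n := j) ((Nat.card_zpowers y).trans hj)
  have hyA : y ∈ centralizer (A : Set G) := tau_le_centralizer hG hT.coatom hT.tau hAN hT.elem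
    hT.card hyp' (zpowers_le.2 hyN.2) (zpowers_le.2 (hDA hyN)) (mem_zpowers y)
  have hcen := pow_central_of_centralizes hG hT.elem hT.card
    (fun _ => tau_max hG hT.coatom hT.tau hAN hT.elem hT.card) S hAS hyS hyA hyp
  have hSN : (S : Subgroup G) ≤ N := fun v hv => hT.centralizer_le
    (mem_centralizer_singleton_iff.2 (by rw [← hyx]; exact (hcen v hv).symm.eq))
  exact (nonab_not_le hG hT.coatom hT.tau hAN hT.elem hT.card hS S hAS).1 hSN

/-- A common element of prime power order has the order `p`. -/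
theorem orderOf_meet {g' y : G} (h' : Meet M g' y) (hyx : x ∈ zpowers y) {q : ℕ}
    [hq : Fact q.Prime] (hqy : q ∣ orderOf y) : q = p := by
  by_contra hqp
  obtain ⟨z, hz, hz1, hzq, -⟩ : ∃ z ∈ zpowers y, z ≠ 1 ∧ z ^ q = 1 ∧ True := by
    obtain ⟨W, hW, hWc⟩ := exists_line_of_dvd (t := q) (H := zpowers y)
      (by rw [Nat.card_zpowers]; exact hqy)
    obtain ⟨z, hz, hz1, hzq, -⟩ := exists_gen hWc
    exact ⟨z, hW hz, hz1, hzq, trivial⟩
  have hz' := h'.pow hz hz1
  obtain ⟨S, hSσ, hxS, -, -⟩ := exists_sylow hG hM h hxp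
  obtain ⟨N, A, hT⟩ := exists_torus hG hM hz' hzq
  have hSD : (S : Subgroup G) ≤ N := fun v hv => by
    obtain ⟨n, hn⟩ := S.2 ⟨v, hv⟩
    exact hT.centralizer_le
      (commute_of_ne hG hM hz' hzq (Ne.symm hqp) (hSσ hv) (congrArg Subtype.val hn))
  have hpd : p ∣ Nat.card ↥(S : Subgroup G) := by
    have := Subgroup.orderOf_dvd_natCard (S : Subgroup G) hxS
    rwa [orderOf_eq_prime hxp h.ne] at this
  have hpN : p ∉ Cfsg.sigma N := Compl.compl_not_sigma hG hT.coatom hT.compl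
    (hpd.trans (card_dvd_of_le (le_inf (hSσ.trans (map_subtype_le _)) hSD)))
  exact hS S (isMulCommutative_of_not_sigma hG hT.coatom hpN S.2 hSD)

end Nonabelian

end CfsgLib.CFun.MeetStructure
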