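import Cfsg.Agent.Lib.PGroup.RankTwoThree
import Cfsg.Agent.Lib.Coprime.Action
import Cfsg.Agent.Lib.Coprime.UniqueOrderP
import Cfsg.Agent.Lib.PGroup.MetacyclicOmega
import Cfsg.Prelude.Def_OddOrderLocal

/-!
# Coprime operators on metacyclic `p`-groups

An odd metacyclic `p`-group moved onto itself by a coprime operator group is abelian.
-/

set_option autoImplicit false
set_option linter.unusedSectionVars false

open Subgroup
open scoped commutatorElement

namespace CfsgLib.CFun.MetaAct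

universe u

variable {R : Type u} [Group R] {p : ℕ}

/-- `R` is generated by the displacements of `Θ`. -/
def Moves (Θ : Subgroup (MulAut R)) : Prop :=
  closure {r : R | ∃ θ ∈ Θ, ∃ x : R, r = x⁻¹ * θ x} = ⊤

theorem Moves.eq_top {Θ : Subgroup (MulAut R)} (h : Moves Θ) {N : Subgroup R}
    (hN : ∀ θ ∈ Θ, ∀ x : R, x⁻¹ * θ x ∈ N) : N = ⊤ :=
  eq_top_iff.2 (h ▸ (closure_le N).2 (by rintro r ⟨θ, hθ, x, rfl⟩; exact hN θ hθ x))

theorem exists_mul_of_normal_right {H N : Subgroup R} [N.Normal] {x : R} (h : x ∈ H ⊔ N) :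
    ∃ k ∈ H, ∃ n ∈ N, k * n = x := by
  rw [← SetLike.mem_coe, mul_normal H N] at h
  obtain ⟨k, hk, n, hn, e⟩ := h
  exact ⟨k, hk, n, hn, e⟩

theorem exists_mul_of_normal_left {H N : Subgroup R} [N.Normal] {x : R} (h : x ∈ N ⊔ H) :
    ∃ n ∈ N, ∃ k ∈ H, n * k = x :=
  CfsgLib.Coprime.mem_sup_exists (by rw [normalizer_eq_top]; exact le_top) h

theorem normal_of_commutator_le {N : Subgroup R} (h : commutator R ≤ N) : N.Normal :=
  ⟨fun n hn g => by
    have h1 : ⁅g, n⁆ ∈ N := h (by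
      rw [_root_.commutator_def]; exact commutator_mem_commutator (mem_top g) (mem_top n))
    have h2 := mul_mem h1 hn
    rwa [commutatorElement_def, inv_mul_cancel_right] at h2⟩

theorem normal_of_central {N : Subgroup R} (h : N ≤ center R) : N.Normal :=
  ⟨fun n hn g => by rw [mem_center_iff.1 (h hn) g, mul_inv_cancel_right]; exact hn⟩

/-- A coset fixed by all operators vanishes in every abelian quotient. -/
theorem pow_card_mem_of_fixed {Θ : Subgroup (MulAut R)} [Fintype Θ] (h : Moves Θ) {M : Subgroup R}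
    [M.Normal] (hab : commutator R ≤ M) {k : R} (hk : ∀ θ ∈ Θ, k⁻¹ * θ k ∈ M) :
    k ^ Fintype.card Θ ∈ M := by
  letI : CommGroup (R ⧸ M) :=
    { (inferInstance : Group (R ⧸ M)) with
      mul_comm := fun a b => by
        induction a using QuotientGroup.induction_on with
        | _ x =>
          induction b using QuotientGroup.induction_on with
          | _ y =>
            refine (QuotientGroup.eq).2 (hab ?_)
            rw [show (x * y)⁻¹ * (y * x) = ⁅y⁻¹, x⁻¹⁆ by rw [commutatorElement_def]; group,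
              _root_.commutator_def]
            exact commutator_mem_commutator (mem_top _) (mem_top _) }
  let f : R →* R ⧸ M :=
    { toFun := fun r => ∏ θ : Θ, QuotientGroup.mk' M ((θ : MulAut R) r)
      map_one' := Finset.prod_eq_one fun θ _ => by rw [map_one, map_one]
      map_mul' := fun a b => by rw [← Finset.prod_mul_distrib]; simp [map_mul] }
  have hf : f.ker = ⊤ := h.eq_top fun θ₀ hθ₀ x => by
    rw [MonoidHom.mem_ker, map_mul, map_inv, inv_mul_eq_one]
    show ∏ θ : Θ, QuotientGroup.mk' M ((θ : MulAut R) x) =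
      ∏ θ : Θ, QuotientGroup.mk' M ((θ : MulAut R) (θ₀ x))
    exact Fintype.prod_equiv (Equiv.mulRight (⟨θ₀, hθ₀⟩ : Θ)⁻¹) _ _ fun θ => by
      simp
  have h1 : f k = 1 := MonoidHom.mem_ker.1 (hf.ge (mem_top k))
  rw [← QuotientGroup.eq_one_iff]
  refine Eq.trans ?_ h1
  show ((k ^ Fintype.card Θ : R) : R ⧸ M) = ∏ θ : Θ, ((((θ : MulAut R) k) : R) : R ⧸ M)
  rw [Finset.prod_congr rfl fun (θ : Θ) _ =>
    ((QuotientGroup.eq).2 (hk (θ : MulAut R) θ.2)).symm, Finset.prod_const, Finset.card_univ]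
  rfl

section ClassTwo

variable (hc : ∀ x y : R, ⁅x, y⁆ ∈ center R)
include hc

theorem comm_mul_left (x y z : R) : ⁅x * y, z⁆ = ⁅x, z⁆ * ⁅y, z⁆ := by
  rw [commutatorElement_mul_left_eq_conj_mul, mem_center_iff.1 (hc y z) x,
    mul_inv_cancel_right, mem_center_iff.1 (hc y z) ⁅x, z⁆]

theorem comm_mul_right (x y z : R) : ⁅x, y * z⁆ = ⁅x, y⁆ * ⁅x, z⁆ := by
  rw [← inv_inj, commutatorElement_inv, comm_mul_left hc, mul_inv_rev, commutatorElement_inv,
    commutatorElement_inv]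
  exact mem_center_iff.1 (hc z x) ⁅y, x⁆

theorem comm_pow_left (x z : R) : ∀ n : ℕ, ⁅x ^ n, z⁆ = ⁅x, z⁆ ^ n
  | 0 => by rw [pow_zero, pow_zero, commutatorElement_one_left]
  | n + 1 => by rw [pow_succ, comm_mul_left hc, comm_pow_left x z n, pow_succ]

theorem comm_pow_right (x z : R) : ∀ n : ℕ, ⁅x, z ^ n⁆ = ⁅x, z⁆ ^ n
  | 0 => by rw [pow_zero, pow_zero, commutatorElement_one_right]
  | n + 1 => by rw [pow_succ, comm_mul_right hc, comm_pow_right x z n, pow_succ]

end ClassTwo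

variable [Finite R] [hp : Fact p.Prime]

/-- The automorphisms induced on a quotient. -/
def quotHom (Θ : Subgroup (MulAut R)) (N : Subgroup R) [N.Normal]
    (h : ∀ θ ∈ Θ, N.map (θ : R ≃* R).toMonoidHom = N) : Θ →* MulAut (R ⧸ N) where
  toFun θ := QuotientGroup.congr N N (θ : MulAut R) (h θ θ.2)
  map_one' := by
    ext x
    induction x using QuotientGroup.induction_on with
    | _ x => rfl
  map_mul' a b := by
    ext x
    induction x using QuotientGroup.induction_on with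
    | _ x => rfl

/-- The case of a derived group of order `p`. -/
theorem false_of_derived_prime (hp2 : p ≠ 2) (hR : IsPGroup p R) (hm : Cfsg.IsMetacyclic R)
    {Θ : Subgroup (MulAut R)} (hcop : (Nat.card Θ).Coprime p) (hmov : Moves Θ)
    (hd : Nat.card (commutator R) = p) : False := by
  classical
  haveI : Fintype Θ := Fintype.ofFinite _
  -- the derived group is central
  have hDc : ∀ d ∈ commutator R, d ∈ center R := by
    intro d hd'
    by_cases hd1 : d = 1
    · exact hd1 ▸ one_mem _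
    have hR' : ¬ commutator R ≤ ⊥ := fun h => by
      rw [le_bot_iff.1 h, card_bot] at hd
      exact hp.out.one_lt.ne hd
    obtain ⟨z, hz, hz1⟩ := (bot_or_exists_ne_one (center R ⊓ commutator R)).resolve_left fun h => by
      haveI : Nontrivial R := ⟨⟨d, 1, hd1⟩⟩
      haveI : Group.IsNilpotent R := hR.isNilpotent
      refine hR' (le_bot_iff.2 ?_)
      by_contra hne
      exact CfsgLib.Coprime.nilpotent_inf_center_ne_bot (commutator R) hne
        ((inf_comm _ _).trans h)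
    have h1 : zpowers z = commutator R := eq_of_le_of_card_ge (zpowers_le.2 hz.2) (by
      rw [hd]
      have h2 := card_dvd_of_le (zpowers_le.2 hz.2)
      rw [hd] at h2
      rcases (Nat.dvd_prime hp.out).1 h2 with h | h
      · exact absurd (zpowers_eq_bot.1 (card_eq_one.1 h)) hz1
      · exact h.ge)
    exact (h1.symm.le.trans (zpowers_le.2 hz.1)) hd'
  have hcomm : ∀ x y : R, ⁅x, y⁆ ∈ commutator R := fun x y => by
    rw [_root_.commutator_def]; exact commutator_mem_commutator (mem_top _) (mem_top _)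
  have hcen : ∀ x y : R, ⁅x, y⁆ ∈ center R := fun x y => hDc _ (hcomm x y)
  have hexp : ∀ c ∈ commutator R, c ^ p = 1 := fun c hc => orderOf_dvd_iff_pow_eq_one.1
    ((Subgroup.orderOf_dvd_natCard _ hc).trans hd.dvd)
  -- `p`-th powers
  have hp1 : ∀ x y : R, (x * y) ^ p = x ^ p * y ^ p :=
    CfsgLib.RankTwoThree.mul_pow_of_small hp2 (fun z hz => hDc z hz) hexp
  have hpk : ∀ k : ℕ, ∀ x y : R, (x * y) ^ p ^ k = x ^ p ^ k * y ^ p ^ k := by
    intro k
    induction k with
    | zero => simp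
    | succ k ih => intro x y; rw [pow_succ, pow_mul, pow_mul, pow_mul, ih, hp1]
  let φ : ℕ → (R →* R) := fun k => MonoidHom.mk' (fun x => x ^ p ^ k) (hpk k)
  have hpc : ∀ x : R, x ^ p ∈ center R := fun x => mem_center_iff.2 fun y => by
    refine (commutatorElement_eq_one_iff_mul_comm.1 ?_).symm
    rw [comm_pow_left hcen]
    exact hexp _ (hcomm x y)
  set D := commutator R with hD
  set M := (φ 1).range ⊔ D with hM
  have hMc : M ≤ center R := sup_le (by rintro _ ⟨x, rfl⟩; simpa [φ] using hpc x) fun d hd' => hDc d hd'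
  haveI hMn : M.Normal := normal_of_central hMc
  have hpM : ∀ x : R, x ^ p ∈ M := fun x => mem_sup_left ⟨x, by simp [φ]⟩
  have hDM : D ≤ M := le_sup_right
  have hMmem : ∀ {m : R}, m ∈ M → ∃ y : R, ∃ w ∈ D, m = y ^ p * w := by
    intro m hm'
    obtain ⟨_, ⟨y, rfl⟩, w, hw, rfl⟩ := exists_mul_of_normal_right hm'
    exact ⟨y, w, hw, by simp [φ]⟩
  have hMfr : M ≤ frattini R := by
    refine le_iInf fun C => le_iInf fun hC => ?_
    obtain ⟨hCn, hCi⟩ := CfsgLib.RankTwoThree.index_of_isCoatom hR hC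
    haveI := hCn
    refine sup_le ?_ ?_
    · rintro _ ⟨x, rfl⟩
      show x ^ p ^ 1 ∈ C
      rw [pow_one, ← hCi]
      exact C.pow_index_mem x
    · haveI : IsCyclic (R ⧸ C) := isCyclic_of_prime_card (p := p) (by rw [← index_eq_card, hCi])
      rw [hD, _root_.commutator_def, commutator_le]
      intro x _ y _
      rw [← QuotientGroup.eq_one_iff, ← QuotientGroup.mk'_apply, map_commutatorElement,
        commutatorElement_eq_one_iff_mul_comm]
      haveI := IsCyclic.commutative (α := R ⧸ C)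
      exact Std.Commutative.comm _ _
  have hnab : ∃ x y : R, ⁅x, y⁆ ≠ 1 := by
    by_contra hcon
    push Not at hcon
    have : D = ⊥ := by
      rw [hD, _root_.commutator_def, eq_bot_iff, commutator_le]
      exact fun x _ y _ => mem_bot.2 (hcon x y)
    rw [this, card_bot] at hd
    exact hp.out.one_lt.ne hd
  -- two generators modulo `M`
  have hgen2 : ∀ x y : R, x ∉ M → y ∉ zpowers x ⊔ M → ∀ r : R, r ∈ zpowers x ⊔ zpowers y ⊔ M := by
    obtain ⟨N, hNn, hNc, hq⟩ := hm
    obtain ⟨g, hg⟩ := hNc.exists_generator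
    obtain ⟨b, hb⟩ := hq.exists_generator
    obtain ⟨b, rfl⟩ := QuotientGroup.mk'_surjective N b
    have hab : ∀ r : R, ∃ i j : ℤ, r = (g : R) ^ i * b ^ j := by
      intro r
      obtain ⟨j, hj⟩ := mem_zpowers_iff.1 (hb (QuotientGroup.mk' N r))
      have h1 : r * (b ^ j)⁻¹ ∈ N := by
        rw [← QuotientGroup.eq_one_iff, ← QuotientGroup.mk'_apply, map_mul, map_inv, map_zpow, hj,
          mul_inv_cancel]
      obtain ⟨i, hi⟩ := hg ⟨_, h1⟩
      exact ⟨i, j, by rw [show ((g : R)) ^ i = r * (b ^ j)⁻¹ from congrArg Subtype.val hi,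
        inv_mul_cancel_right]⟩
    set π := QuotientGroup.mk' M
    have hexpQ : ∀ t : R ⧸ M, t ^ p = 1 := by
      intro t
      obtain ⟨t, rfl⟩ := QuotientGroup.mk'_surjective M t
      rw [← map_pow]
      exact (QuotientGroup.eq_one_iff _).2 (hpM t)
    have hcard : Nat.card (R ⧸ M) ≤ p * p := by
      have hz : ∀ t : R ⧸ M, Nat.card (zpowers t) ≤ p := fun t => by
        rw [Nat.card_zpowers]
        exact Nat.le_of_dvd hp.out.pos (orderOf_dvd_of_pow_eq_one (hexpQ t))
      refine le_trans ?_ (Nat.mul_le_mul (hz (π g)) (hz (π b)))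
      rw [← Nat.card_prod]
      refine Nat.card_le_card_of_surjective
        (fun q : zpowers (π g) × zpowers (π b) => (q.1 : R ⧸ M) * q.2) fun t => ?_
      obtain ⟨t, rfl⟩ := QuotientGroup.mk'_surjective M t
      obtain ⟨i, j, rfl⟩ := hab t
      exact ⟨(⟨_, i, rfl⟩, ⟨_, j, rfl⟩), by simp [π, map_mul, map_zpow]⟩
    intro x y hx hy r
    have hmapped : (zpowers x ⊔ zpowers y ⊔ M).map π = ⊤ := by
      set H₁ := (zpowers x ⊔ M).map π
      set H₂ := (zpowers x ⊔ zpowers y ⊔ M).map π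
      have h12 : H₁ < H₂ := lt_of_le_not_ge
        (map_mono (sup_le_sup_right le_sup_left M)) fun hle => hy (by
          obtain ⟨z, hz, e⟩ := hle (mem_map_of_mem π (mem_sup_left (mem_sup_right (mem_zpowers y))))
          have h := (QuotientGroup.eq).1 e
          have h2 := mul_mem hz (mem_sup_right (S := zpowers x) h)
          rwa [mul_inv_cancel_left] at h2)
      have h01 : (⊥ : Subgroup (R ⧸ M)) < H₁ := bot_lt_iff_ne_bot.2 fun h => hx (by
        rw [← QuotientGroup.eq_one_iff]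
        exact mem_bot.1 (h ▸ mem_map_of_mem π (mem_sup_left (mem_zpowers x))))
      refine eq_top_of_le_card _ (hcard.trans ?_)
      have hQ : IsPGroup p (R ⧸ M) := hR.to_quotient M
      have step : ∀ {A B : Subgroup (R ⧸ M)}, A < B → p * Nat.card A ≤ Nat.card B := by
        intro A B hAB
        obtain ⟨i, hi⟩ := IsPGroup.iff_card.1 (hQ.to_subgroup A)
        obtain ⟨j, hj⟩ := IsPGroup.iff_card.1 (hQ.to_subgroup B)
        have h1 : Nat.card A < Nat.card B := Set.Finite.card_lt_card (Set.toFinite _) hAB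
        rw [hi, hj] at h1 ⊢
        rw [← pow_succ']
        exact Nat.pow_le_pow_right hp.out.pos ((Nat.pow_lt_pow_iff_right hp.out.one_lt).1 h1)
      calc p * p = p * (p * Nat.card (⊥ : Subgroup (R ⧸ M))) := by rw [card_bot, mul_one]
        _ ≤ p * Nat.card H₁ := Nat.mul_le_mul_left _ (step h01)
        _ ≤ Nat.card H₂ := step h12
    obtain ⟨z, hz, e⟩ := hmapped.ge (mem_top (π r))
    have h := (QuotientGroup.eq).1 e
    have h2 := mul_mem hz (mem_sup_right (S := zpowers x ⊔ zpowers y) h)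
    rwa [mul_inv_cancel_left] at h2
  have hne : ∀ x y : R, x ∉ M → y ∉ zpowers x ⊔ M → ⁅x, y⁆ ≠ 1 := by
    intro x y hx hy h1
    have htop : zpowers x ⊔ zpowers y = ⊤ := frattini_nongenerating (eq_top_iff.2 fun r _ =>
      (sup_le_sup_left hMfr _) (hgen2 x y hx hy r))
    obtain ⟨u, v, huv⟩ := hnab
    have hcl : ∀ z : R, Commute x z → Commute y z → ∀ r : R, Commute r z := fun z hxz hyz r => by
      have : zpowers x ⊔ zpowers y ≤ centralizer ({z} : Set R) := sup_le
        (zpowers_le.2 (mem_centralizer_singleton_iff.2 hxz.eq))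
        (zpowers_le.2 (mem_centralizer_singleton_iff.2 hyz.eq))
      exact mem_centralizer_singleton_iff.1 (this (htop.ge (mem_top r)))
    have hxy : Commute x y := commutatorElement_eq_one_iff_mul_comm.1 h1
    have hx' : ∀ r : R, Commute r x := hcl x (Commute.refl x) hxy.symm
    have hy' : ∀ r : R, Commute r y := hcl y hxy (Commute.refl y)
    exact huv (commutatorElement_eq_one_iff_mul_comm.2 (hcl v (hx' v).symm (hy' v).symm u).eq)
  have hnM : ∀ θ : MulAut R, ∀ m ∈ M, θ m ∈ M := by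
    intro θ m hm'
    obtain ⟨y, w, hw, rfl⟩ := hMmem hm'
    rw [map_mul, map_pow]
    refine mul_mem (hpM _) (hDM ?_)
    exact (characteristic_iff_map_le.1 ((inferInstance : (commutator R).Characteristic)) θ) (mem_map_of_mem _ hw)
  have hMtop : M ≠ ⊤ := fun h => by
    obtain ⟨u, v, huv⟩ := hnab
    exact huv (commutatorElement_eq_one_iff_mul_comm.2
      (mem_center_iff.1 (hMc (h ▸ mem_top v)) u))
  -- the derived group consists of `p`-th powers
  obtain ⟨c, hc, hc1⟩ := (bot_or_exists_ne_one D).resolve_left fun h => by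
    rw [h, card_bot] at hd; exact hp.out.one_lt.ne hd
  have hgenD : ∀ {d : R}, d ∈ D → d ≠ 1 → ∀ e ∈ D, ∃ n : ℕ, d ^ n = e := by
    intro d hd' hd1 e he
    have h1 : zpowers d = D := eq_of_le_of_card_ge (zpowers_le.2 hd') (by
      rw [hd, Nat.card_zpowers, orderOf_eq_prime (hexp d hd') hd1])
    have h2 : e ∈ zpowers d := h1 ▸ he
    obtain ⟨n, hn⟩ := (IsOfFinOrder.mem_powers_iff_mem_zpowers (isOfFinOrder_of_finite d)).2 h2
    exact ⟨n, hn⟩
  have hroot : ∃ x : R, x ^ p = c := by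
    obtain ⟨N, hNn, hNc, hq⟩ := hm
    obtain ⟨g, hg⟩ := hNc.exists_generator
    have hDN : D ≤ N := by
      rw [hD, _root_.commutator_def, commutator_le]
      intro x _ y _
      rw [← QuotientGroup.eq_one_iff, ← QuotientGroup.mk'_apply, map_commutatorElement,
        commutatorElement_eq_one_iff_mul_comm]
      haveI := hq.commutative
      exact Std.Commutative.comm _ _
    obtain ⟨i, hi⟩ := hg ⟨c, hDN hc⟩
    have hi' : (g : R) ^ i = c := congrArg Subtype.val hi
    by_cases hpi : (p : ℤ) ∣ i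
    · obtain ⟨j, rfl⟩ := hpi
      exact ⟨(g : R) ^ j, by rw [← hi', ← zpow_natCast, ← zpow_mul, mul_comm]⟩
    exfalso
    obtain ⟨n, hn⟩ := IsPGroup.iff_orderOf.1 hR (g : R)
    have hco : IsCoprime i ((p : ℤ) ^ n) := ((Nat.prime_iff_prime_int.1 hp.out).coprime_iff_not_dvd.2
      hpi).symm.pow_right
    obtain ⟨s, t, hst⟩ := hco
    have hgc : (g : R) ∈ zpowers c := ⟨s, by
      show c ^ s = _
      rw [← hi', ← zpow_mul]
      nth_rewrite 2 [← zpow_one (g : R)]
      rw [← hst, zpow_add, mul_comm t, zpow_mul (g : R) ((p : ℤ) ^ n) t, ← Nat.cast_pow, zpow_natCast, ← hn,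
        pow_orderOf_eq_one, one_zpow, mul_one, mul_comm]⟩
    obtain ⟨b, hb⟩ := hq.exists_generator
    obtain ⟨b, rfl⟩ := QuotientGroup.mk'_surjective N b
    have htop : zpowers b ⊔ D = ⊤ := eq_top_iff.2 fun r _ => by
      obtain ⟨j, hj⟩ := mem_zpowers_iff.1 (hb (QuotientGroup.mk' N r))
      have h1 : r * (b ^ j)⁻¹ ∈ D := by
        have h2 : r * (b ^ j)⁻¹ ∈ N := by
          rw [← QuotientGroup.eq_one_iff, ← QuotientGroup.mk'_apply, map_mul, map_inv, map_zpow, hj,
            mul_inv_cancel]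
        obtain ⟨l, hl⟩ := hg ⟨_, h2⟩
        rw [show r * (b ^ j)⁻¹ = (g : R) ^ l from (congrArg Subtype.val hl).symm]
        exact zpow_mem ((zpowers_le.2 hc) hgc) l
      rw [show r = r * (b ^ j)⁻¹ * b ^ j by rw [inv_mul_cancel_right]]
      exact mul_mem (mem_sup_right h1) (mem_sup_left (zpow_mem (mem_zpowers b) j))
    have h2 : zpowers b = ⊤ := frattini_nongenerating
      (eq_top_iff.2 (htop ▸ sup_le_sup_left (hDM.trans hMfr) _))
    obtain ⟨u, v, huv⟩ := hnab
    obtain ⟨i', rfl⟩ := mem_zpowers_iff.1 (h2 ▸ mem_top u)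
    obtain ⟨j', rfl⟩ := mem_zpowers_iff.1 (h2 ▸ mem_top v)
    exact huv (commutatorElement_eq_one_iff_mul_comm.2 (Commute.zpow_zpow_self b i' j').eq)
  let S : Set ℕ := {k | 1 ≤ k ∧ ∃ x : R, x ^ p ^ k = c}
  have hSb : ∀ k ∈ S, k < Nat.card R := by
    rintro k ⟨-, x, hx⟩
    by_contra hle
    push Not at hle
    obtain ⟨n, hn⟩ := IsPGroup.iff_orderOf.1 hR x
    have hnk : n ≤ k := by
      have h1 : orderOf x ≤ Nat.card R := orderOf_le_card
      have h2 : n < p ^ n := Nat.lt_pow_self hp.out.one_lt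
      omega
    refine hc1 ?_
    rw [← hx, ← Nat.add_sub_cancel' hnk, pow_add, pow_mul, ← hn, pow_orderOf_eq_one, one_pow]
  obtain ⟨k, hkS, hkmax⟩ : ∃ k ∈ S, ∀ l ∈ S, l ≤ k := by
    refine Set.exists_max_image S id ((Set.finite_Iio (Nat.card R)).subset hSb) ⟨1, le_rfl, ?_⟩
    simpa using hroot
  obtain ⟨hk1, a₀, ha₀⟩ := hkS
  -- higher powers do not reach the derived group
  have htop_pow : ∀ y : R, y ^ p ^ (k + 1) ∈ D → y ^ p ^ (k + 1) = 1 := by
    intro y hy
    by_contra hne'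
    obtain ⟨n, hn⟩ := hgenD hy hne' c hc
    have := hkmax (k + 1) ⟨by omega, y ^ n, by rw [← pow_mul, mul_comm, pow_mul]; exact hn⟩
    omega
  set L := D.comap (φ k) with hL
  have ha₀L : a₀ ∈ L := show a₀ ^ p ^ k ∈ D by rw [ha₀]; exact hc
  have hwk : ∀ w ∈ D, w ^ p ^ k = 1 := fun w hw => by
    obtain ⟨k', rfl⟩ : ∃ k', k = k' + 1 := ⟨k - 1, by omega⟩
    rw [pow_succ', pow_mul, hexp w hw, one_pow]
  have hMpow : ∀ {m : R}, m ∈ M → ∃ y : R, m ^ p ^ k = y ^ p ^ (k + 1) := fun {m} hm' => by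
    obtain ⟨y, w, hw, rfl⟩ := hMmem hm'
    exact ⟨y, by rw [hpk, hwk w hw, mul_one, ← pow_mul, pow_succ']⟩
  have ha₀M : a₀ ∉ M := fun h => by
    obtain ⟨y, hy⟩ := hMpow h
    rw [ha₀] at hy
    exact hc1 (hy.trans (htop_pow y (hy ▸ hc)))
  have hθD : ∀ (θ : MulAut R) {d : R}, d ∈ D → θ d ∈ D := fun θ d hd' =>
    (characteristic_iff_map_le.1 ((inferInstance : (commutator R).Characteristic)) θ) (mem_map_of_mem _ hd')
  have hθL : ∀ θ : MulAut R, ∀ x ∈ L, θ x ∈ L := fun θ x hx => by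
    show θ x ^ p ^ k ∈ D
    rw [← map_pow]
    exact hθD θ hx
  have hnat : ∀ {x y : R}, y ∈ zpowers x → ∃ n : ℕ, x ^ n = y := fun {x y} h =>
    (IsOfFinOrder.mem_powers_iff_mem_zpowers (isOfFinOrder_of_finite x)).2 h
  -- the scalar comparison
  have hscalar : ∀ (θ : MulAut R) (y : R) (m l : ℕ), θ c = c ^ m →
      ⁅a₀, y⁆ ≠ 1 → θ ⁅a₀, y⁆ = ⁅a₀, y⁆ ^ (m * l) → (l : ZMod p) = 1 := by
    intro θ y m l hθc hy1 hθy
    have hord := orderOf_eq_prime (hexp _ (hcomm a₀ y)) hy1
    obtain ⟨n, hn⟩ := hgenD hc hc1 _ (hcomm a₀ y)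
    have h1 : θ ⁅a₀, y⁆ = ⁅a₀, y⁆ ^ m := by
      rw [← hn, map_pow, hθc, ← pow_mul, ← pow_mul, mul_comm]
    rw [h1, pow_eq_pow_iff_modEq, hord, ← ZMod.natCast_eq_natCast_iff, Nat.cast_mul] at hθy
    have hm0 : (m : ZMod p) ≠ 0 := by
      intro h0
      refine hc1 (θ.injective ?_)
      obtain ⟨q, hq⟩ := (ZMod.natCast_eq_zero_iff _ _).1 h0
      rw [map_one, hθc, hq, pow_mul, hexp c hc, one_pow]
    exact mul_left_cancel₀ hm0 (by rw [← hθy, mul_one])
  have hpow1 : ∀ (x : R) (l : ℕ), (l : ZMod p) = 1 → x⁻¹ * x ^ l ∈ M := by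
    intro x l hl
    obtain ⟨q, hq⟩ : p ∣ (l + (p - 1)) := by
      rw [← ZMod.natCast_eq_zero_iff, Nat.cast_add, Nat.cast_sub hp.out.one_le, hl,
        ZMod.natCast_self]
      ring
    have e : x⁻¹ * x ^ l = (x ^ p) ^ q * (x ^ p)⁻¹ := by
      rw [← pow_mul, ← hq]
      have : l + (p - 1) + 1 = l + p := by have := hp.out.one_le; omega
      rw [inv_mul_eq_iff_eq_mul, ← mul_assoc, eq_mul_inv_iff_mul_eq, ← pow_add, ← pow_succ',
        ← this]
    rw [e]
    exact mul_mem (pow_mem (hpM x) q) (inv_mem (hpM x))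
  -- commutators ignore `M`
  have hMcomm : ∀ {x m : R}, m ∈ M → ⁅x, m⁆ = 1 := fun {x m} hm' =>
    commutatorElement_eq_one_iff_mul_comm.2 (mem_center_iff.1 (hMc hm') x)
  have hMcomm' : ∀ {x m : R}, m ∈ M → ⁅m, x⁆ = 1 := fun {x m} hm' =>
    commutatorElement_eq_one_iff_mul_comm.2 (mem_center_iff.1 (hMc hm') x).symm
  haveI hAn : (zpowers a₀ ⊔ M).Normal := normal_of_commutator_le (hDM.trans le_sup_right)
  by_cases hLM : L ⊔ M = ⊤
  · -- every `p^k`-th power lies in the derived group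
    have hstep : ∀ x : R, ∃ r ∈ D, ∃ y : R, x ^ p ^ k = r * (y ^ p) ^ p ^ k := by
      intro x
      obtain ⟨l, hl, m, hm', rfl⟩ := exists_mul_of_normal_right (hLM.ge (mem_top x))
      obtain ⟨y, hy⟩ := hMpow hm'
      exact ⟨l ^ p ^ k, hl, y, by rw [hpk, hy, pow_succ', pow_mul]⟩
    have hiter : ∀ (n : ℕ) (x : R), ∃ r ∈ D, ∃ y : R, x ^ p ^ k = r * (y ^ p ^ n) ^ p ^ k := by
      intro n
      induction n with
      | zero => exact fun x => ⟨1, one_mem _, x, by simp⟩
      | succ n ih =>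
        intro x
        obtain ⟨r, hr, y, hy⟩ := ih x
        obtain ⟨r', hr', y', hy'⟩ := hstep y
        refine ⟨r * r' ^ p ^ n, mul_mem hr (pow_mem hr' _), y', ?_⟩
        rw [hy, ← pow_mul, mul_comm, pow_mul, hy', hpk, mul_assoc r, ← pow_mul (y' ^ p),
          ← pow_mul, ← pow_mul]
        ring_nf
    have hφD : ∀ x : R, x ^ p ^ k ∈ D := by
      intro x
      obtain ⟨n, hn⟩ := IsPGroup.iff_card.1 hR
      obtain ⟨r, hr, y, hy⟩ := hiter n x
      rw [hy, ← hn, pow_card_eq_one', one_pow, mul_one]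
      exact hr
    set K := (φ k).ker
    have hMK : M ≤ K := fun m hm' => by
      obtain ⟨y, hy⟩ := hMpow hm'
      rw [MonoidHom.mem_ker]
      show m ^ p ^ k = 1
      rw [hy]
      exact htop_pow y (hy ▸ hφD m)
    have hKmem : ∀ r : R, r ∈ zpowers a₀ ⊔ K := by
      intro r
      obtain ⟨n, hn⟩ := hgenD hc hc1 _ (hφD r)
      rw [show r = a₀ ^ n * ((a₀ ^ n)⁻¹ * r) by group]
      refine mul_mem (mem_sup_left (pow_mem (mem_zpowers _) _)) (mem_sup_right ?_)
      rw [MonoidHom.mem_ker]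
      show ((a₀ ^ n)⁻¹ * r) ^ p ^ k = 1
      rw [hpk, inv_pow, ← pow_mul, mul_comm, pow_mul, ha₀, hn, inv_mul_cancel]
    have ha₀K : a₀ ∉ K := fun h => hc1 (by rw [← ha₀]; exact h)
    obtain ⟨k₀, hk₀, hk₀M⟩ : ∃ k₀ ∈ K, k₀ ∉ M := by
      by_contra hcon
      push Not at hcon
      have hKM : K ≤ M := hcon
      have htop' : zpowers a₀ = ⊤ := frattini_nongenerating (eq_top_iff.2 fun r _ =>
        sup_le_sup_left (hKM.trans hMfr) _ (hKmem r))
      obtain ⟨u, v, huv⟩ := hnab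
      obtain ⟨i', rfl⟩ := mem_zpowers_iff.1 (htop' ▸ mem_top u)
      obtain ⟨j', rfl⟩ := mem_zpowers_iff.1 (htop' ▸ mem_top v)
      exact huv (commutatorElement_eq_one_iff_mul_comm.2 (Commute.zpow_zpow_self a₀ i' j').eq)
    have hk₀a : a₀ ∉ zpowers k₀ ⊔ M := fun h => ha₀K (sup_le (zpowers_le.2 hk₀) hMK h)
    have hk₀1 : ⁅a₀, k₀⁆ ≠ 1 := fun h => by
      refine hne k₀ a₀ hk₀M hk₀a ?_
      rw [← commutatorElement_inv, h, inv_one]
    haveI : (zpowers k₀ ⊔ M).Normal := normal_of_commutator_le (hDM.trans le_sup_right)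
    have hKeq : ∀ x ∈ K, ∃ l : ℕ, ∃ w ∈ M, x = k₀ ^ l * w := by
      intro x hx
      have hxm : x ∈ zpowers k₀ ⊔ M := by
        by_contra hnx
        exact ha₀K (sup_le (sup_le (zpowers_le.2 hk₀) (zpowers_le.2 hx)) hMK
          (hgen2 k₀ x hk₀M hnx a₀))
      obtain ⟨u, hu, w, hw, rfl⟩ := exists_mul_of_normal_right hxm
      obtain ⟨l, rfl⟩ := hnat hu
      exact ⟨l, w, hw, rfl⟩
    have hfix : ∀ θ ∈ Θ, k₀⁻¹ * θ k₀ ∈ M := by
      intro θ _
      obtain ⟨u, hu, k', hk', e⟩ := exists_mul_of_normal_right (hKmem (θ a₀))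
      obtain ⟨m, rfl⟩ := hnat hu
      obtain ⟨l', w', hw', rfl⟩ := hKeq k' hk'
      have hθK : θ k₀ ∈ K := by
        rw [MonoidHom.mem_ker]
        show θ k₀ ^ p ^ k = 1
        rw [← map_pow, show k₀ ^ p ^ k = 1 from hk₀, map_one]
      obtain ⟨l, w, hw, el⟩ := hKeq _ hθK
      have hθc : θ c = c ^ m := by
        rw [← ha₀, map_pow, ← e, hpk, show (k₀ ^ l' * w') ^ p ^ k = 1 from
          MonoidHom.mem_ker.1 hk', mul_one, ← pow_mul, mul_comm, pow_mul]
      have hl : (l : ZMod p) = 1 := by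
        refine hscalar θ k₀ m l hθc hk₀1 ?_
        rw [map_commutatorElement, ← e, el, comm_mul_right hcen, hMcomm hw, mul_one,
          comm_mul_left hcen, comm_mul_left hcen, hMcomm' hw', mul_one, comm_pow_left hcen,
          comm_pow_left hcen k₀, comm_pow_right hcen, comm_pow_right hcen, commutatorElement_self,
          one_pow, one_pow, mul_one, ← pow_mul, mul_comm]
      rw [el, ← mul_assoc]
      exact mul_mem (hpow1 _ _ hl) hw
    have h := pow_card_mem_of_fixed hmov hDM hfix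
    rw [← Nat.card_eq_fintype_card] at h
    obtain ⟨n, hn⟩ := IsPGroup.iff_orderOf.1 hR k₀
    have hco : (Nat.card Θ).Coprime (orderOf k₀) := hn ▸ hcop.pow_right n
    obtain ⟨e, he⟩ := exists_pow_eq_self_of_coprime hco
    exact hk₀M (he ▸ pow_mem h e)
  · -- `L ⊔ M` is a maximal subgroup
    have hLle : L ⊔ M ≤ zpowers a₀ ⊔ M := by
      refine sup_le (fun x hx => ?_) le_sup_right
      by_contra hnx
      exact hLM (eq_top_iff.2 fun r _ => sup_le_sup_right
        (sup_le (zpowers_le.2 ha₀L) (zpowers_le.2 hx)) M (hgen2 a₀ x ha₀M hnx r))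
    have htop' : zpowers a₀ ⊔ M ≠ ⊤ := fun h => by
      have h2 : zpowers a₀ = ⊤ := frattini_nongenerating (eq_top_iff.2 fun r hr =>
        sup_le_sup_left hMfr _ (h.ge hr))
      obtain ⟨u, v, huv⟩ := hnab
      obtain ⟨i', rfl⟩ := mem_zpowers_iff.1 (h2 ▸ mem_top u)
      obtain ⟨j', rfl⟩ := mem_zpowers_iff.1 (h2 ▸ mem_top v)
      exact huv (commutatorElement_eq_one_iff_mul_comm.2 (Commute.zpow_zpow_self a₀ i' j').eq)
    obtain ⟨y, -, hy⟩ := SetLike.exists_of_lt (lt_top_iff_ne_top.2 htop')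
    refine htop' (hmov.eq_top fun θ _ x => ?_)
    have ha : θ a₀ ∈ zpowers a₀ ⊔ M := hLle (mem_sup_left (hθL θ a₀ ha₀L))
    have hyA : y⁻¹ * θ y ∈ zpowers a₀ ⊔ M := by
      obtain ⟨u, hu, w, hw, e⟩ := exists_mul_of_normal_right ha
      obtain ⟨m, rfl⟩ := hnat hu
      have hr : θ y ∈ zpowers a₀ ⊔ zpowers y ⊔ M := hgen2 a₀ y ha₀M hy _
      rw [sup_right_comm] at hr
      obtain ⟨g, hg, v, hv, ey⟩ := exists_mul_of_normal_left hr
      obtain ⟨l, rfl⟩ := hnat hv
      have hθc : θ c = c ^ m := by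
        obtain ⟨z, hz⟩ := hMpow hw
        have h1 : θ c = c ^ m * z ^ p ^ (k + 1) := by
          rw [← ha₀, map_pow, ← e, hpk, hz, ← pow_mul, mul_comm, pow_mul]
        have h2 : z ^ p ^ (k + 1) ∈ D := by
          have h3 := mul_mem (inv_mem (pow_mem hc m)) (hθD θ hc)
          rwa [h1, inv_mul_cancel_left] at h3
        rw [h1, htop_pow z h2, mul_one]
      obtain ⟨u', hu', w', hw', rfl⟩ := exists_mul_of_normal_right hg
      obtain ⟨i, rfl⟩ := hnat hu'
      have hl : (l : ZMod p) = 1 := by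
        refine hscalar θ y m l hθc (hne a₀ y ha₀M hy) ?_
        rw [map_commutatorElement, ← e, ← ey, comm_mul_left hcen, hMcomm' hw, mul_one,
          comm_mul_right hcen, comm_mul_right hcen, hMcomm hw', mul_one, comm_pow_left hcen,
          comm_pow_left hcen a₀, comm_pow_right hcen, comm_pow_right hcen, commutatorElement_self,
          one_pow, one_pow, one_mul, ← pow_mul, mul_comm]
      rw [← ey, ← mul_assoc, show y⁻¹ * (a₀ ^ i * w') * y ^ l =
        (y⁻¹ * (a₀ ^ i * w') * y⁻¹⁻¹) * (y⁻¹ * y ^ l) by group]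
      exact mul_mem (hAn.conj_mem _ hg y⁻¹) (mem_sup_right (hpow1 y l hl))
    -- everything is a product of powers of `a₀`, `y` and elements of `M`
    let πA := QuotientGroup.mk' (zpowers a₀ ⊔ M)
    have hyq : πA (θ y) = πA y := ((QuotientGroup.eq).2 hyA).symm
    have hr : x ∈ zpowers a₀ ⊔ zpowers y ⊔ M := hgen2 a₀ y ha₀M hy x
    rw [sup_right_comm] at hr
    obtain ⟨g, hg, v, hv, rfl⟩ := exists_mul_of_normal_left hr
    obtain ⟨l, rfl⟩ := hnat hv
    have hθg : θ g ∈ zpowers a₀ ⊔ M := by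
      obtain ⟨u, hu, w, hw, rfl⟩ := exists_mul_of_normal_right hg
      obtain ⟨i, rfl⟩ := hnat hu
      rw [map_mul, map_pow]
      exact mul_mem (pow_mem ha i) (mem_sup_right (hnM θ w hw))
    rw [← QuotientGroup.eq_one_iff]
    show πA ((g * y ^ l)⁻¹ * θ (g * y ^ l)) = 1
    have hg1 : πA g = 1 := (QuotientGroup.eq_one_iff _).2 hg
    have hg2 : πA (θ g) = 1 := (QuotientGroup.eq_one_iff _).2 hθg
    rw [map_mul, map_inv, map_mul, map_pow, map_mul, map_pow, map_mul, map_pow, hg1, hg2, hyq,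
      one_mul, inv_mul_cancel]

/-- An odd metacyclic `p`-group moved onto itself by coprime operators is abelian. -/
theorem isMulCommutative_of_moves (hp2 : p ≠ 2) (hR : IsPGroup p R) (hm : Cfsg.IsMetacyclic R)
    {Θ : Subgroup (MulAut R)} (hcop : (Nat.card Θ).Coprime p) (hmov : Moves Θ) :
    IsMulCommutative R := by
  by_contra hab
  have hDne : commutator R ≠ ⊥ := fun h => hab ⟨⟨fun a b => by
    refine commutatorElement_eq_one_iff_mul_comm.1 (mem_bot.1 (h ▸ ?_))
    rw [_root_.commutator_def]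
    exact commutator_mem_commutator (mem_top a) (mem_top b)⟩⟩
  obtain ⟨N, hNn, hNc, hq⟩ := id hm
  have hDN : commutator R ≤ N := by
    rw [_root_.commutator_def, commutator_le]
    intro x _ y _
    rw [← QuotientGroup.eq_one_iff, ← QuotientGroup.mk'_apply, map_commutatorElement,
      commutatorElement_eq_one_iff_mul_comm]
    haveI := hq.commutative
    exact Std.Commutative.comm _ _
  haveI : IsCyclic (commutator R) :=
    isCyclic_of_injective (inclusion hDN) (inclusion_injective hDN)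
  obtain ⟨⟨c, hc⟩, hcg⟩ := IsCyclic.exists_generator (α := commutator R)
  have hDc : commutator R = zpowers c := le_antisymm (fun x hx => by
    obtain ⟨i, hi⟩ := hcg ⟨x, hx⟩
    exact ⟨i, congrArg Subtype.val hi⟩) (zpowers_le.2 hc)
  set N₀ := zpowers (c ^ p) with hN₀
  have hN₀D : N₀ ≤ commutator R := zpowers_le.2 (pow_mem hc p)
  have hmap : ∀ θ : MulAut R, ∀ x ∈ N₀, θ x ∈ N₀ := by
    intro θ x hx
    obtain ⟨i, rfl⟩ := mem_zpowers_iff.1 hx
    obtain ⟨j, hj⟩ := mem_zpowers_iff.1 (hDc ▸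
      (characteristic_iff_map_le.1 ((inferInstance : (commutator R).Characteristic)) θ) (mem_map_of_mem _ hc) :
        θ c ∈ zpowers c)
    rw [map_zpow, map_pow, show θ c = c ^ j from hj.symm, ← zpow_natCast, ← zpow_mul, ← zpow_mul]
    refine mem_zpowers_iff.2 ⟨j * i, ?_⟩
    rw [← zpow_natCast, ← zpow_mul]
    ring_nf
  haveI hN₀n : N₀.Normal := ⟨fun x hx g => hmap (MulAut.conj g) x hx⟩
  have hN₀θ : ∀ θ ∈ Θ, N₀.map (θ : R ≃* R).toMonoidHom = N₀ := fun θ _ =>
    eq_of_le_of_card_ge (by rintro _ ⟨x, hx, rfl⟩; exact hmap θ x hx)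
      (card_map_of_injective (MulEquiv.injective θ)).ge
  set π := QuotientGroup.mk' N₀
  have hdQ : Nat.card (commutator (R ⧸ N₀)) = p := by
    have e : commutator (R ⧸ N₀) = zpowers (π c) := by
      rw [_root_.commutator_def, ← map_top_of_surjective π (QuotientGroup.mk'_surjective _),
        ← map_commutator, ← _root_.commutator_def, hDc, MonoidHom.map_zpowers]
    rw [e, Nat.card_zpowers]
    refine orderOf_eq_prime ?_ fun h1 => ?_
    · rw [← map_pow]; exact (QuotientGroup.eq_one_iff _).2 (mem_zpowers _)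
    · have hc1 : c ≠ 1 := fun h => hDne (by rw [hDc, h, zpowers_one_eq_bot])
      obtain ⟨i, hi⟩ := mem_zpowers_iff.1 ((QuotientGroup.eq_one_iff c).1 h1)
      obtain ⟨n, hn⟩ := IsPGroup.iff_orderOf.1 hR c
      rw [← zpow_natCast, ← zpow_mul] at hi
      have h2 : c ^ ((p : ℤ) * i - 1) = 1 := by rw [zpow_sub, hi, zpow_one, mul_inv_cancel]
      have h3 : (p : ℤ) ∣ (p : ℤ) * i - 1 := by
        refine dvd_trans ?_ (orderOf_dvd_iff_zpow_eq_one.2 h2)
        rcases n with _ | n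
        · exact absurd (orderOf_eq_one_iff.1 (hn.trans (pow_zero p))) hc1
        · rw [hn]; exact_mod_cast dvd_pow_self p n.succ_ne_zero
      have h4 : (p : ℤ) ∣ 1 := by simpa using dvd_sub (dvd_mul_right (p : ℤ) i) h3
      exact (Nat.prime_iff_prime_int.1 hp.out).not_dvd_one h4
  set Θ' := (quotHom Θ N₀ hN₀θ).range
  refine false_of_derived_prime hp2 (hR.to_quotient N₀)
    (CfsgLib.RankTwoThree.metacyclic_of_surjective π (QuotientGroup.mk'_surjective _) hm)
    (Θ := Θ') (hcop.coprime_dvd_left (card_range_dvd _)) ?_ hdQ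
  refine eq_top_iff.2 ((map_top_of_surjective π (QuotientGroup.mk'_surjective _)) ▸ ?_)
  rw [← hmov, MonoidHom.map_closure, closure_le]
  rintro _ ⟨r, ⟨θ, hθ, x, rfl⟩, rfl⟩
  exact subset_closure ⟨_, ⟨⟨θ, hθ⟩, rfl⟩, π x, by rw [map_mul, map_inv]; rfl⟩

omit hp in
/-- Subgroups of metacyclic groups are metacyclic. -/
theorem metacyclic_subgroup (hm : Cfsg.IsMetacyclic R) (H : Subgroup R) : Cfsg.IsMetacyclic H := by
  obtain ⟨N, hNn, hNc, hq⟩ := hm
  refine ⟨((QuotientGroup.mk' N).comp H.subtype).ker, inferInstance, ?_,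
    isCyclic_of_injective _ (QuotientGroup.kerLift_injective ((QuotientGroup.mk' N).comp H.subtype))⟩
  refine isCyclic_of_injective (MonoidHom.codRestrict
    (H.subtype.comp (((QuotientGroup.mk' N).comp H.subtype).ker).subtype) N
    fun x => (QuotientGroup.eq_one_iff _).1 x.2) fun a b h => ?_
  have h1 : ((a : H) : R) = (b : H) := congrArg (fun z : N => (z : R)) h
  exact Subtype.ext (Subtype.ext h1)

section Subgroups

variable {G : Type u} [Group G] [Finite G]

omit hp in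
/-- The automorphisms of `R` induced by `A`. -/
def operHom {R A : Subgroup G} (hA : A ≤ normalizer (R : Set G)) : A →* MulAut R :=
  (Subgroup.normalizerMonoidHom R).comp (inclusion hA)

omit hp in
theorem moves_of_commutator_eq {R A : Subgroup G} (hA : A ≤ normalizer (R : Set G))
    (hRA : ⁅R, A⁆ = R) : Moves (operHom hA).range := by
  have hle : ⁅R, A⁆ ≤ R := hRA.le
  refine map_injective R.subtype_injective ?_
  rw [← MonoidHom.range_eq_map, range_subtype]
  refine le_antisymm (map_subtype_le _) ?_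
  conv_lhs => rw [← hRA]
  rw [commutator_le]
  intro r hr a ha
  have har : a * r * a⁻¹ ∈ R := CfsgLib.Coprime.conj_mem_of_le_normalizer hA ha hr
  refine ⟨(⟨r⁻¹, inv_mem hr⟩ : R)⁻¹ * (operHom hA ⟨a, ha⟩) ⟨r⁻¹, inv_mem hr⟩,
    subset_closure ⟨_, ⟨⟨a, ha⟩, rfl⟩, _, rfl⟩, ?_⟩
  show (r⁻¹)⁻¹ * (a * r⁻¹ * a⁻¹) = _
  rw [commutatorElement_def, inv_inv]
  group

/-- `[R, A] = R` makes an odd metacyclic `R` abelian. -/
theorem isMulCommutative_of_commutator_eq {R A : Subgroup G} (hp2 : p ≠ 2) (hR : IsPGroup p R)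
    (hm : Cfsg.IsMetacyclic R) (hA : A ≤ normalizer (R : Set G)) (hcop : (Nat.card A).Coprime p)
    (hRA : ⁅R, A⁆ = R) : IsMulCommutative R :=
  isMulCommutative_of_moves hp2 hR hm (hcop.coprime_dvd_left (card_range_dvd (operHom hA)))
    (moves_of_commutator_eq hA hRA)

/-- A subgroup of a group with at most `p^2` solutions of `x^p = 1` that avoids one of them is
cyclic. -/
theorem isCyclic_of_avoid {R X Y : Subgroup G} (hp2 : p ≠ 2) (hR : IsPGroup p R)
    (hm : Cfsg.IsMetacyclic R) (hX : X ≤ R) (hY : Y ≤ R) (hXY : X ⊓ Y = ⊥) (hY1 : Y ≠ ⊥) :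
    IsCyclic X := by
  obtain ⟨N, hNn, hNc, hq⟩ := hm
  haveI := hNn
  haveI := hNc
  obtain ⟨W, hWmem, hWcomm, hWc⟩ := CfsgLib.MetacyclicOmega.exists_omega hR hp2 hq
  obtain ⟨y, hy, hyo⟩ : ∃ y ∈ Y, orderOf y = p := by
    obtain ⟨k, hk⟩ := IsPGroup.iff_card.1 (hR.to_le hY)
    rcases k with _ | k
    · exact absurd (card_eq_one.1 (hk.trans (pow_zero p))) hY1
    obtain ⟨g, hg⟩ := exists_prime_orderOf_dvd_card' (G := Y) p (hk ▸ dvd_pow_self p k.succ_ne_zero)
    exact ⟨g, g.2, by rw [orderOf_coe, hg]⟩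
  refine CfsgLib.Coprime.isCyclic_of_unique_odd hp2 (hR.to_le hX)
    (CfsgLib.Coprime.uniqueOrderP_of_unique_subgroup fun H K hH hK => ?_)
  -- both meet the omega subgroup
  have hmem : ∀ {H : Subgroup X}, Nat.card H = p →
      (H.map X.subtype).subgroupOf R ≤ W ∧ Nat.card ((H.map X.subtype).subgroupOf R) = p := by
    intro H hH
    refine ⟨fun z hz => (hWmem z).2 ?_, ?_⟩
    · obtain ⟨h, hh, e⟩ := hz
      refine Subtype.ext ?_
      rw [Subgroup.coe_pow, show (z : G) = X.subtype h from e.symm, ← map_pow,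
        show h ^ p = 1 from hH ▸ congrArg Subtype.val (pow_card_eq_one' (x := (⟨h, hh⟩ : H))), map_one,
        Subgroup.coe_one]
    · rw [Nat.card_congr (subgroupOfEquivOfLe ((map_subtype_le H).trans hX)).toEquiv,
        card_map_of_injective X.subtype_injective, hH]
  obtain ⟨hH1, hH2⟩ := hmem hH
  obtain ⟨hK1, hK2⟩ := hmem hK
  refine map_injective X.subtype_injective ?_
  set H' := (H.map X.subtype).subgroupOf R
  set K' := (K.map X.subtype).subgroupOf R
  suffices h : H' = K' by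
    have := congrArg (Subgroup.map R.subtype) h
    rwa [map_subgroupOf_eq_of_le ((map_subtype_le H).trans hX),
      map_subgroupOf_eq_of_le ((map_subtype_le K).trans hX)] at this
  by_contra hne
  set y' : R := ⟨y, hY hy⟩
  have hyW : y' ∈ W := (hWmem y').2 (Subtype.ext (by
    rw [Subgroup.coe_pow, Subgroup.coe_one]; exact hyo ▸ pow_orderOf_eq_one y))
  have hlt : Nat.card H' < Nat.card ↥(H' ⊔ K') := Set.Finite.card_lt_card (Set.toFinite _)
    (show H' < H' ⊔ K' from lt_of_le_not_ge le_sup_left fun h =>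
      hne (eq_of_le_of_card_ge (le_sup_right.trans h) (by rw [hH2, hK2])).symm)
  have hlt2 : Nat.card ↥(H' ⊔ K') < Nat.card W := Set.Finite.card_lt_card (Set.toFinite _)
    (show H' ⊔ K' < W from lt_of_le_not_ge (sup_le hH1 hK1) fun h => by
      have h1 : H' ⊔ K' ≤ X.subgroupOf R :=
        sup_le (comap_mono (map_subtype_le H)) (comap_mono (map_subtype_le K))
      have h2 : y ∈ X ⊓ Y := ⟨h1 (h hyW), hy⟩
      rw [hXY, mem_bot] at h2
      rw [h2, orderOf_one] at hyo
      exact hp.out.one_lt.ne hyo)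
  obtain ⟨i, hi⟩ := IsPGroup.iff_card.1 (hR.to_subgroup (H' ⊔ K'))
  obtain ⟨j, hj⟩ := IsPGroup.iff_card.1 (hR.to_subgroup W)
  rw [hH2, hi] at hlt
  rw [hi, hj] at hlt2
  rw [hj] at hWc
  nth_rewrite 1 [← pow_one p] at hlt
  have h1 := (Nat.pow_lt_pow_iff_right hp.out.one_lt).1 hlt
  have h2 := (Nat.pow_lt_pow_iff_right hp.out.one_lt).1 hlt2
  have h3 := (Nat.pow_le_pow_iff_right hp.out.one_lt).1 hWc
  omega

end Subgroups

end CfsgLib.CFun.MetaAct
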