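import Cfsg.Agent.Lib.CFun.OddNarrowAut
import Cfsg.Agent.Lib.CFun.OddPLengthOne
import Cfsg.Agent.Lib.CFun.OddCriteria

/-!
# Solvable groups of odd order with a narrow Sylow subgroup
-/

set_option autoImplicit false
set_option linter.style.haveILetI false
set_option linter.unusedSectionVars false

open Subgroup
open scoped commutatorElement

namespace CfsgLib.CFun.Narrow

universe u

variable {G : Type u} [Group G] [Finite G] {p : ℕ} [hp : Fact p.Prime]

omit [Finite G] hp in
/-- Narrowness is invariant under isomorphism. -/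
theorem isNarrow_of_equiv {X Y : Type u} [Group X] [Group Y] (e : X ≃* Y) (h : Cfsg.IsNarrow p X) :
    Cfsg.IsNarrow p Y := by
  rcases h with h | ⟨R₀, R₁, h0, h1, h2, h3, h4⟩
  · refine Or.inl fun A hAc hAp => ?_
    haveI := hAc
    have h5 := h (A.map e.symm.toMonoidHom) inferInstance
      (by rintro _ ⟨a, ha, rfl⟩; rw [← map_pow, hAp a ha, map_one])
    rwa [Subgroup.card_map_of_injective e.symm.injective] at h5
  · refine Or.inr ⟨R₀.map e.toMonoidHom, R₁.map e.toMonoidHom, ?_, ?_, ?_, ?_, ?_⟩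
    · rw [Subgroup.card_map_of_injective e.injective, h0]
    · exact (R₁.equivMapOfInjective _ e.injective).isCyclic.1 h1
    · rw [← Subgroup.map_inf _ _ _ e.injective, h2, Subgroup.map_bot]
    · rintro _ ⟨a, ha, rfl⟩ _ ⟨b, hb, rfl⟩
      rw [← map_mul, ← map_mul, h3 a ha b hb]
    · rw [← Subgroup.map_sup, h4]
      ext y
      constructor
      · rintro ⟨x, hx, rfl⟩
        refine mem_centralizer_iff.2 ?_
        rintro _ ⟨r, hr, rfl⟩
        rw [← map_mul, ← map_mul, mem_centralizer_iff.1 hx r hr]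
      · intro hy
        refine ⟨e.symm y, mem_centralizer_iff.2 fun r hr => e.injective ?_, e.apply_symm_apply y⟩
        rw [map_mul, map_mul, e.apply_symm_apply]
        exact mem_centralizer_iff.1 hy _ (mem_map_of_mem _ hr)

variable [Group.IsSolvable G]

/-- The quotient by the `p′`-core is a `p`-group extended by an abelian group of exponent dividing
`p - 1`. -/
theorem narrow_data (hp2 : p ≠ 2) (S : Sylow p G) (hS : Cfsg.IsNarrow p ↥(S : Subgroup G))
    (hr : ¬ Cfsg.PRankLE p 2 ↥(S : Subgroup G)) (hlen : Cfsg.PLengthLE p 1 G) :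
    IsPGroup p (commutator (G ⧸ Cfsg.pPrimeCore p G)) ∧
      ∀ x : G ⧸ Cfsg.pPrimeCore p G, (orderOf x).Coprime p → x ^ (p - 1) = 1 := by
  set O := Cfsg.pPrimeCore p G with hO
  haveI : O.Normal := Subgroup.sSup_normal _ fun _ h => h.1
  haveI := CfsgLib.Coprime.pCore_normal' (G := G ⧸ O) p
  set π := QuotientGroup.mk' O
  set V := Cfsg.pCore p (G ⧸ O)
  have hVp : IsPGroup p V := CfsgLib.Coprime.pCore_isPGroup p
  set S' := S.mapSurjective (f := π) (QuotientGroup.mk'_surjective _)
  have hVS : V = (S' : Subgroup _) := by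
    have h1 := (hVp.toSylow (not_dvd_index_of_pLengthLE_one hlen)).3
      (hVp.to_sup_of_normal_left S'.2) le_sup_left
    exact le_antisymm (le_sup_left.trans (S'.3 (hVp.to_sup_of_normal_left S'.2) le_sup_right).le)
      (le_sup_right.trans h1.le)
  have hinj : Function.Injective (π.comp (S : Subgroup G).subtype) :=
    (injective_iff_map_eq_one _).2 fun x hx => Subtype.ext
      (CfsgLib.CFun.eq_one_of_mem_pPrimeCore S.2 x.2 ((QuotientGroup.eq_one_iff _).1 hx))
  have e : (S : Subgroup G) ≃* V := (MonoidHom.ofInjective hinj).trans (MulEquiv.subgroupCongr (by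
    rw [hVS, MonoidHom.range_comp, Subgroup.range_subtype]
    rfl))
  have hrV : ¬ Cfsg.PRankLE p 2 V := fun h => hr fun A hAc hAp => by
    haveI := hAc
    have h5 := h (A.map e.toMonoidHom) inferInstance
      (by rintro _ ⟨a, ha, rfl⟩; rw [← map_pow, hAp a ha, map_one])
    rwa [Subgroup.card_map_of_injective e.injective] at h5
  have hc : centralizer (V : Set (G ⧸ O)) ≤ V :=
    CfsgLib.Coprime.centralizer_pCore_le (CfsgLib.Coprime.pPrimeCore_quotient_eq_bot hp.out)
  have hone : ∀ x : G ⧸ O, (orderOf x).Coprime p → x ∈ centralizer (V : Set (G ⧸ O)) → x = 1 := by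
    intro x hx hxV
    obtain ⟨k, hk⟩ := hVp ⟨x, hc hxV⟩
    exact orderOf_eq_one_iff.1 (Nat.eq_one_of_dvd_coprimes (hx.pow_right k) dvd_rfl
      (orderOf_dvd_of_pow_eq_one (congrArg Subtype.val hk)))
  have hkill : ∀ x : G ⧸ O, Scalarless p (⊤ : Subgroup (G ⧸ O)) x → (orderOf x).Coprime p → x = 1 :=
    fun x hx hxp => hone x hxp (scalarless_centralizes hp2 hVp hrV (isNarrow_of_equiv e hS)
      (show ⊤ ≤ normalizer (V : Set (G ⧸ O)) by rw [normalizer_eq_top]) hx hxp)
  exact ⟨isPGroup_of_no_coprime fun x hx hxp => hkill x (Or.inl hx) hxp,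
    fun x hxp => hkill _ (Or.inr ⟨x, mem_top _, rfl⟩) (hxp.coprime_dvd_left (orderOf_pow_dvd _))⟩

/-- The standard consequences of narrow data. -/
theorem narrow_consequences (hp2 : p ≠ 2) (hcp : IsPGroup p (commutator (G ⧸ Cfsg.pPrimeCore p G)))
    (hle : ∀ q : ℕ, q.Prime → q ∣ (Cfsg.pPrimeCore p G).index → q ≤ p) :
    (commutator G ≤ Cfsg.pPrimePCore p G ∧
        ((Cfsg.pPrimePCore p G).index).Coprime p) ∧
      Cfsg.HasNormalPComplement p ↥(commutator G) ∧
      (∀ L : Subgroup ↥(commutator G), (Nat.card L).Coprime p → L ≤ Cfsg.pPrimeCore p ↥(commutator G)) ∧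
      (Odd (Nat.card G) → (p = 3 ∨ ∀ q : ℕ, q.Prime → q ∣ Nat.card G → p ≤ q) →
        Cfsg.HasNormalPComplement p G) := by
  set O := Cfsg.pPrimeCore p G with hO
  haveI : O.Normal := Subgroup.sSup_normal _ fun _ h => h.1
  have hOc : ¬ p ∣ Nat.card O := CfsgLib.Coprime.pPrimeCore_not_dvd hp.out
  haveI := CfsgLib.Coprime.pCore_normal' (G := G ⧸ O) p
  have hcV : commutator (G ⧸ O) ≤ Cfsg.pCore p (G ⧸ O) := CfsgLib.Coprime.le_pCore hcp
  have hmap : ∀ g ∈ commutator G, QuotientGroup.mk' O g ∈ commutator (G ⧸ O) := fun g hg => by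
    have h1 := Subgroup.mem_map_of_mem (QuotientGroup.mk' O) hg
    rw [_root_.commutator_def, Subgroup.map_commutator] at h1
    rw [_root_.commutator_def]
    exact Subgroup.commutator_mono le_top le_top h1
  have hidx : ¬ p ∣ (Cfsg.pCore p (G ⧸ O)).index := by
    obtain ⟨S⟩ : Nonempty (Sylow p (G ⧸ O)) := inferInstance
    have hVS : Cfsg.pCore p (G ⧸ O) ≤ (S : Subgroup (G ⧸ O)) := le_sup_left.trans
      (S.3 ((CfsgLib.Coprime.pCore_isPGroup p).to_sup_of_normal_left S.2) le_sup_right).le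
    haveI : (S : Subgroup (G ⧸ O)).Normal := ⟨fun s hs g => by
      have h1 : ⁅g, s⁆ ∈ (S : Subgroup (G ⧸ O)) :=
        hVS (hcV (commutator_mem_commutator (mem_top g) (mem_top s)))
      have := mul_mem h1 hs
      rwa [commutatorElement_def, inv_mul_cancel_right] at this⟩
    rw [le_antisymm hVS (CfsgLib.Coprime.le_pCore S.2)]
    exact S.not_dvd_index
  have hq' : IsPGroup p (↥(commutator G) ⧸ O.subgroupOf (commutator G)) := by
    intro y
    obtain ⟨x, rfl⟩ := QuotientGroup.mk'_surjective _ y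
    obtain ⟨k, hk⟩ := hcp ⟨_, hmap (x : G) x.2⟩
    refine ⟨k, (QuotientGroup.eq_one_iff _).2 ?_⟩
    show ((x ^ p ^ k : ↥(commutator G)) : G) ∈ O
    rw [Subgroup.coe_pow, ← QuotientGroup.eq_one_iff]
    exact congrArg Subtype.val hk
  have hNd : ¬ p ∣ Nat.card (O.subgroupOf (commutator G)) := fun h => hOc (h.trans (by
    rw [← Subgroup.card_map_of_injective (commutator G).subtype_injective]
    exact Subgroup.card_dvd_of_le (by rintro _ ⟨a, ha, rfl⟩; exact ha)))
  refine ⟨⟨fun x hx => hcV (hmap x hx), ?_⟩,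
    CfsgLib.CFun.normalPComplement_of_quotient _ hNd hq', fun L hL => ?_, fun hodd h =>
      CfsgLib.CFun.normalPComplement_of_quotient O hOc ?_⟩
  · rw [Cfsg.pPrimePCore, Subgroup.index_comap_of_surjective _ (QuotientGroup.mk'_surjective _)]
    exact (hp.out.coprime_iff_not_dvd.2 hidx).symm
  · refine le_trans (fun x hx => ?_) (CfsgLib.Coprime.le_pPrimeCore_of_not_dvd hp.out hNd)
    rw [← QuotientGroup.eq_one_iff]
    obtain ⟨k, hk⟩ := hq' (QuotientGroup.mk x)
    exact orderOf_eq_one_iff.1 (Nat.eq_one_of_dvd_coprimes (hL.pow_right k)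
      ((orderOf_map_dvd (QuotientGroup.mk' (O.subgroupOf (commutator G))) x).trans
        (Subgroup.orderOf_dvd_natCard L hx)) (orderOf_dvd_of_pow_eq_one hk))
  · refine IsPGroup.of_card (n := O.index.primeFactorsList.length) ?_
    rw [← Subgroup.index_eq_card]
    refine Nat.eq_prime_pow_of_unique_prime_dvd Subgroup.index_ne_zero_of_finite fun {q} hq hd => ?_
    have hqG : q ∣ Nat.card G := hd.trans (Subgroup.index_dvd_card O)
    rcases h with h3 | h3
    · subst h3
      have h1 := hle q hq hd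
      have h2 := hq.two_le
      interval_cases q
      · exact absurd (even_iff_two_dvd.2 hqG) (Nat.not_even_iff_odd.2 hodd)
      · rfl
    · exact le_antisymm (hle q hq hd) (h3 q hq hqG)

end CfsgLib.CFun.Narrow
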