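import Cfsg.Agent.Lib.CFun.OddTauTwoBase
import Cfsg.Agent.Lib.CFun.OddFpfCentralize
import Cfsg.Agent.S1394
import Cfsg.Agent.S1395
import Cfsg.Agent.S1451

/-!
# Elementary subgroups of order `p ^ 2` in a maximal subgroup
-/

set_option autoImplicit false
set_option linter.style.haveILetI false
set_option linter.unusedSectionVars false

open Subgroup
open scoped commutatorElement
open CfsgLib.Coprime (conjBy conjBy_conjBy conjBy_one mem_conjBy conj_mem_conjBy IsSylowIn)

namespace CfsgLib.CFun.TauTwo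

universe u

variable {G : Type u} [Group G] [Finite G] {p q : ℕ} [hp : Fact p.Prime] [hq : Fact q.Prime]

omit hp in
/-- A Sylow subgroup of a Hall subgroup is a Sylow subgroup. -/
theorem sylow_of_hall {π : Set ℕ} {H Q : Subgroup G} (hH : Cfsg.IsPiHall π H) (hqπ : q ∈ π)
    (hQ : IsSylowIn q Q H) : ∃ S : Sylow q G, (S : Subgroup G) = Q := by
  obtain ⟨S, hS⟩ := hQ.isPGroup.exists_le_sylow
  refine ⟨S, (eq_of_le_of_card_ge hS ?_).symm⟩
  have h0 : (Nat.card G).factorization q = (Nat.card H).factorization q := by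
    rw [← card_mul_index H, Nat.factorization_mul Nat.card_pos.ne' index_ne_zero_of_finite,
      Finsupp.add_apply, Nat.factorization_eq_zero_of_not_dvd (hH.2 q hq.out hqπ), add_zero]
  rw [hQ.2, S.card_eq_multiplicity, h0]

theorem mem_of_isPGroup {M : Subgroup G} {Y : Subgroup G} (hY : IsPGroup q Y) (hY1 : Y ≠ ⊥)
    (hYM : Y ≤ M) : q ∣ Nat.card M := by
  obtain ⟨k, hk⟩ := IsPGroup.iff_card.1 hY
  rcases k with _ | k
  · exact absurd (card_eq_one.1 (hk.trans (pow_zero q))) hY1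
  · exact (hk ▸ dvd_pow_self q k.succ_ne_zero : q ∣ Nat.card Y).trans (card_dvd_of_le hYM)

theorem eq_bot_of_not_dvd {Y : Subgroup G} (hY : IsPGroup q Y) (h : ¬ q ∣ Nat.card Y) : Y = ⊥ := by
  by_contra hne
  exact h (mem_of_isPGroup hY hne le_rfl)

theorem isPGroup_commutator {Y A : Subgroup G} (hY : IsPGroup q Y)
    (hAY : A ≤ normalizer (Y : Set G)) : IsPGroup q ↥(⁅Y, A⁆ : Subgroup G) :=
  hY.to_le (le_normalizer_iff_commutator_le_left.1 hAY)

theorem le_inf_centralizer_line {A B Y : Subgroup G} (hA : Cfsg.IsElementaryAbelian p A)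
    (hB : B ≤ A) (hY : A ≤ normalizer (Y : Set G)) :
    A ≤ normalizer ((Y ⊓ centralizer (B : Set G) : Subgroup G) : Set G) :=
  CfsgLib.Coprime.inf_le_normalizer hY (le_normalizer_centralizer_line hA hB)

theorem isElementaryAbelian_line {B : Subgroup G} (hB : Nat.card B = p) :
    Cfsg.IsElementaryAbelian p B := by
  haveI := isCyclic_line hB
  exact ⟨inferInstance, fun x hx => by
    have h := pow_card_eq_one' (x := (⟨x, hx⟩ : B))
    rw [hB] at h
    exact congrArg Subtype.val h⟩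

omit hp in
/-- Subgroups of exponent `q` of a cyclic group have order at most `q`. -/
theorem card_le_of_cyclic {C Y : Subgroup G} (hC : IsCyclic C) (hYC : Y ≤ C)
    (hY : ∀ y ∈ Y, y ^ q = 1) : Nat.card Y ≤ q := by
  haveI := hC
  haveI : IsCyclic Y := isCyclic_of_injective (Subgroup.inclusion hYC) (inclusion_injective _)
  obtain ⟨g, hg⟩ := IsCyclic.exists_generator (α := Y)
  rw [← orderOf_eq_card_of_forall_mem_zpowers hg]
  exact Nat.le_of_dvd hq.out.pos (orderOf_dvd_of_pow_eq_one (Subtype.ext (hY g g.2)))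

omit hp in
theorem eq_of_cyclic {C Y Z : Subgroup G} (hC : IsCyclic C) (hYC : Y ≤ C) (hZC : Z ≤ C)
    (hY : ∀ y ∈ Y, y ^ q = 1) (hZ : ∀ z ∈ Z, z ^ q = 1) (hY1 : Y ≠ ⊥) : Z ≤ Y := by
  have hmul : ∀ y ∈ Y ⊔ Z, y ^ q = 1 := by
    haveI := hC
    have hle : Y ⊔ Z ≤ C := sup_le hYC hZC
    intro y hy
    obtain ⟨a, ha, b, hb, rfl⟩ := CfsgLib.Coprime.mem_sup_exists (N := Y) (H := Z)
      (fun z hz => CfsgLib.Coprime.centralizer_le_normalizer_self Y (mem_centralizer_iff.2 fun w hw =>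
        congrArg Subtype.val (IsMulCommutative.is_comm.comm (⟨w, hYC hw⟩ : C) ⟨z, hZC hz⟩))) hy
    have hc : Commute a b :=
      congrArg Subtype.val (IsMulCommutative.is_comm.comm (⟨a, hYC ha⟩ : C) ⟨b, hZC hb⟩)
    rw [hc.mul_pow, hY a ha, hZ b hb, one_mul]
  have h1 := card_le_of_cyclic hC (sup_le hYC hZC) hmul
  have h2 : q ≤ Nat.card Y := by
    obtain ⟨y, hy, hy1⟩ := (bot_or_exists_ne_one Y).resolve_left hY1
    rw [← orderOf_eq_prime (hY y hy) hy1]
    exact Nat.le_of_dvd Nat.card_pos (Subgroup.orderOf_dvd_natCard Y hy)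
  exact le_sup_right.trans (eq_of_le_of_card_ge (le_sup_left : Y ≤ Y ⊔ Z) (h1.trans h2)).ge

section MinSimple

variable (hG : Cfsg.IsMinSimpleOddOrder G) {M L : Subgroup G}
include hG

omit hp in
theorem isPGroup_le_sigmaCore (hM : IsCoatom M) (hq' : q ∈ Cfsg.sigma M) {Y : Subgroup G}
    (hY : IsPGroup q Y) (hYM : Y ≤ M) : Y ≤ Cfsg.sigmaCore M := by
  obtain ⟨P, hP⟩ := (hY.of_equiv (subgroupOfEquivOfLe hYM).symm).exists_le_sylow
  exact fun y hy => ⟨⟨y, hYM hy⟩, sigma_sylow_le_piCore hG hM hq' P (hP hy), rfl⟩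

omit hp in
theorem not_dvd_sigmaCore (hM : IsCoatom M) (hq' : q ∉ Cfsg.sigma M) :
    ¬ q ∣ Nat.card (Cfsg.sigmaCore M) := fun h =>
  hq' ((sigmaCore_hall hG hM).1.2.1 q hq.out h)

omit hp hq in
theorem sigmaCore_solvable (hM : IsCoatom M) : Group.IsSolvable (Cfsg.sigmaCore M) := by
  haveI := ms_solvable hG hM.1
  exact CfsgLib.Coprime.isSolvable_of_le (map_subtype_le _) inferInstance

omit hp in
theorem sigma_of_sylow (hM : IsCoatom M) (S : Sylow q G) (hSM : (S : Subgroup G) ≤ M)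
    (hN : normalizer ((S : Subgroup G) : Set G) ≤ M) (hq' : q ∣ Nat.card M) :
    q ∈ Cfsg.sigma M := by
  refine ⟨hq.out, hq', S.subtype hSM, ?_⟩
  rw [Sylow.coe_subtype, map_subgroupOf_eq_of_le hSM]
  exact hN

omit hp in
theorem sylow_normalizer_le (hM : IsCoatom M) (hq' : q ∈ Cfsg.sigma M) (S : Sylow q G)
    (hSM : (S : Subgroup G) ≤ M) : normalizer ((S : Subgroup G) : Set G) ≤ M := by
  have h := (sigma_sylow hG hM hq' (S.subtype hSM)).1
  rwa [Sylow.coe_subtype, map_subgroupOf_eq_of_le hSM] at h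

omit hp in
theorem exists_sylow_of_sigma (hM : IsCoatom M) (hq' : q ∈ Cfsg.sigma M) {U : Subgroup G}
    (hU : IsPGroup q U) (hUM : U ≤ M) : ∃ S : Sylow q G, U ≤ (S : Subgroup G) ∧
      (S : Subgroup G) ≤ M := by
  obtain ⟨P, hP⟩ := (hU.of_equiv (subgroupOfEquivOfLe hUM).symm).exists_le_sylow
  obtain ⟨-, S, hS⟩ := sigma_sylow hG hM hq' P
  exact ⟨S, fun u hu => hS.ge ⟨⟨u, hUM hu⟩, hP hu, rfl⟩, hS.le.trans (map_subtype_le _)⟩

omit hp hq in
theorem derived_nilpotent (hM : IsCoatom M) (hα : ∀ r, r ∉ Cfsg.alpha M) :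
    Group.IsNilpotent ↥(⁅M, M⁆ : Subgroup G) := by
  haveI := ms_solvable hG hM.1
  have h1 := commutator_isNilpotent_of_rank_two (G := ↥M)
    (hG.1.of_dvd_nat (card_subgroup_dvd_card M))
    fun s hs => haveI : Fact s.Prime := ⟨hs⟩
      pRankLE_subgroup (pRankLE_two_of_not_alpha hs (hα s)) _
  rw [map_commutator_self]
  haveI := h1
  exact Group.nilpotent_of_mulEquiv
    ((commutator M).equivMapOfInjective M.subtype M.subtype_injective)

omit hp in
theorem sylow_normal_of_derived (hM : IsCoatom M) (hα : ∀ r, r ∉ Cfsg.alpha M) (S : Sylow q G)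
    (hS : (S : Subgroup G) ≤ ⁅M, M⁆) (hS1 : (S : Subgroup G) ≠ ⊥) :
    normalizer ((S : Subgroup G) : Set G) = M := by
  haveI := derived_nilpotent hG hM hα
  set D : Subgroup G := ⁅M, M⁆
  haveI hn : ((S.subtype hS : Sylow q D) : Subgroup D).Normal :=
    Sylow.normal_of_normalizerCondition Group.normalizerCondition_of_isNilpotent _
  have hMD : M ≤ normalizer (D : Set G) :=
    PGroup.le_normalizer_commutator le_normalizer le_normalizer
  refine ms_normalizer_eq hG hM (hS.trans (commutator_le_self M)) hS1 fun m hm => ?_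
  refine CfsgLib.Coprime.conjBy_eq_self_iff.1 (eq_of_le_of_card_ge (fun x hx => ?_)
    (CfsgLib.Coprime.card_conjBy m _).ge)
  obtain ⟨y, hy, rfl⟩ := hx
  have hxD : m * y * m⁻¹ ∈ D := (mem_normalizer_iff.1 (hMD hm) y).1 (hS hy)
  obtain ⟨k, hk⟩ := S.2 ⟨y, hy⟩
  have h1 := RankTwoTower.mem_sylow_of_normal (S.subtype hS : Sylow q D) (y := ⟨m * y * m⁻¹, hxD⟩)
    ⟨k, Subtype.ext (by
      show (m * y * m⁻¹) ^ q ^ k = 1
      rw [conj_pow, show y ^ q ^ k = 1 from congrArg Subtype.val hk, mul_one, mul_inv_cancel])⟩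
  exact (mem_subgroupOf.1 h1 :)

omit hp hq in
theorem sigmaCore_ne_bot (hM : IsCoatom M) : Cfsg.sigmaCore M ≠ ⊥ := by
  intro hb
  by_cases hα : ∀ r, r ∉ Cfsg.alpha M
  swap
  · push_neg at hα
    obtain ⟨r, hr⟩ := hα
    haveI : Fact r.Prime := ⟨hr.1⟩
    obtain ⟨V, hV, -, hV3⟩ := alpha_elementary_le_alphaCore hG hM hr
    rw [le_bot_iff.1 (hV.trans ((alphaCore_le_sigmaCore hG hM).trans hb.le)), card_bot] at hV3
    exact (Nat.one_lt_pow three_ne_zero hr.1.one_lt).ne hV3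
  haveI := ms_solvable hG hM.1
  have hne : (Nat.card M).primeFactors.Nonempty := Nat.nonempty_primeFactors.2
    (lt_of_le_of_ne Nat.card_pos fun h => ms_coatom_ne_bot hG hM (card_eq_one.1 h.symm))
  set r := (Nat.card M).primeFactors.max' hne with hr
  have hrm := (Nat.card M).primeFactors.max'_mem hne
  rw [← hr] at hrm
  obtain ⟨hrp, hrd, -⟩ := Nat.mem_primeFactors.1 hrm
  haveI : Fact r.Prime := ⟨hrp⟩
  obtain ⟨N, hNc, hN1, hN2⟩ := (Cfsg.Agent.S1451.result (G := ↥M)
    (hG.1.of_dvd_nat (card_subgroup_dvd_card M))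
    (Or.inl fun s hs => haveI : Fact s.Prime := ⟨hs⟩
      pRankLE_two_of_not_alpha hs (hα s))).2.2 (r - 1)
  have hNr : IsPGroup r N := CfsgLib.Coprime.isPGroup_iff_isPiNum.2 fun s hs hd => by
    obtain ⟨-, hlt⟩ := hN1 s hs hd
    have hle : s ≤ r := Finset.le_max' _ _
      (Nat.mem_primeFactors.2 ⟨hs, hd.trans (card_subgroup_dvd_card N), Nat.card_pos.ne'⟩)
    exact Set.mem_singleton_iff.2 (by omega)
  have hidx : ¬ r ∣ N.index := hN2 r hrp ⟨hrp, by have := hrp.pos; omega⟩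
  haveI := hNc
  set P : Sylow r M := hNr.toSylow hidx
  haveI : (P : Subgroup M).Normal := (inferInstance : N.Normal)
  have hP1 : (P : Subgroup M).map M.subtype ≠ ⊥ := fun e => by
    have h1 : Nat.card ↥((P : Subgroup M).map M.subtype) = Nat.card (P : Subgroup M) :=
      card_map_of_injective M.subtype_injective
    rw [e, card_bot] at h1
    exact hidx (by
      have h2 := card_mul_index (P : Subgroup M)
      rw [← h1, one_mul] at h2
      exact (show (P : Subgroup M) = N from rfl) ▸ h2 ▸ hrd)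
  have hrσ : r ∈ Cfsg.sigma M := ⟨hrp, hrd, P, (ms_normalizer_eq hG hM (map_subtype_le _) hP1
    (fun m hm => le_normalizer_map M.subtype ⟨⟨m, hm⟩,
      (normalizer_eq_top (P : Subgroup M)).symm ▸ mem_top _, rfl⟩)).le⟩
  exact hP1 (le_bot_iff.1 (hb ▸ isPGroup_le_sigmaCore hG hM hrσ (P.2.map _) (map_subtype_le _)))

section Elementary

variable {A : Subgroup G} (hAe : Cfsg.IsElementaryAbelian p A) (hA2 : Nat.card A = p ^ 2)
include hAe hA2

omit hq in
/-- An elementary subgroup of order `p ^ 2` which is not maximal is a uniqueness subgroup. -/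
theorem unique_of_not_max {B : Subgroup G} (hB : Cfsg.IsElementaryAbelian p B) (hAB : A ≤ B)
    (hne : B ≠ A) : Cfsg.InUniqueMaximal A := by
  have hp1 : Nat.card A < Nat.card B := lt_of_le_of_ne (card_le_of_le hAB)
    fun e => hne (eq_of_le_of_card_ge hAB e.ge).symm
  refine uniqueness_theorem hG (ms_isPGroup_ne_top hG (isPGroup_of_elementary hAe)) ?_ (Or.inr ?_)
  · exact fun h => not_pRankLE_of_elementary le_rfl hAe
      (by rw [hA2]; exact Nat.pow_lt_pow_right hp.out.one_lt one_lt_two) (h p hp.out)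
  · exact fun h => not_pRankLE_of_elementary
      ((le_centralizer_of_comm hB.1).trans (centralizer_le hAB)) hB (hA2 ▸ hp1) (h p hp.out)

variable (hAmax : ∀ B : Subgroup G, Cfsg.IsElementaryAbelian p B → A ≤ B → B = A)
include hAmax

/-- A fixed point of `A` of order `r ∈ σ(M)` puts `p` into `σ(M)`. -/
theorem mem_sigma_of_fixed {r : ℕ} [hr : Fact r.Prime] (hM : IsCoatom M) (hAM : A ≤ M)
    (hrσ : r ∈ Cfsg.sigma M)
    (hrC : r ∣ Nat.card ↥(Cfsg.sigmaCore M ⊓ centralizer (A : Set G)))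
    (h : centralizer (A : Set G) ≤ M ∨ ∀ s, s ∉ Cfsg.alpha M) : p ∈ Cfsg.sigma M := by
  by_contra hpσ
  have hrp : r ≠ p := fun e => hpσ (e ▸ hrσ)
  have hAp := isPGroup_of_elementary hAe
  have hrA : ¬ r ∣ Nat.card A := fun hd => hrp
    ((Nat.prime_dvd_prime_iff_eq hr.out hp.out).1 (hr.out.dvd_of_dvd_pow (hA2 ▸ hd)))
  have hT := transitivityHypothesis hG hAe hA2 hAmax
  have htr := Cfsg.Agent.S1394.result hG A hT (not_rankLE_one_center hG hAe hA2) r hr.out hrA
    (hrC.trans (card_dvd_of_le inf_le_right))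
  obtain ⟨P, hAP⟩ := hAp.exists_le_sylow
  have hPtop : (P : Subgroup G) ≠ ⊤ := ms_isPGroup_ne_top hG P.2
  have hPπ : ∀ s : ℕ, s.Prime → s ∣ Nat.card (P : Subgroup G) → s ∣ Nat.card A := fun s hs hd => by
    obtain ⟨k, hk⟩ := IsPGroup.iff_card.1 P.2
    rw [(Nat.prime_dvd_prime_iff_eq hs hp.out).1 (hs.dvd_of_dvd_pow (hk ▸ hd)), hA2]
    exact dvd_pow_self p two_ne_zero
  haveI := P.2.isNilpotent
  obtain ⟨-, -, hsub, hd⟩ := Cfsg.Agent.S1395.result hG A hT r hr.out hrA (P : Subgroup G) hPtop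
    hPπ hAP (CfsgLib.PGroup.isSubnormal_of_isNilpotent _) htr
  obtain ⟨Q', hQ', -⟩ := exists_isMaxInv_ge (A := (P : Subgroup G)) (IsPGroup.of_bot (p := r))
    (by rw [Subgroup.normalizer_eq_top]; exact le_top)
  have hQ'm := (isMaxInv_iff (A := (P : Subgroup G))).2 hQ'
  obtain ⟨hPD, hNP⟩ := hd Q' hQ'm
  -- an invariant Sylow subgroup of the group
  haveI := sigmaCore_solvable hG hM
  have hcop : (Nat.card A).Coprime (Nat.card (Cfsg.sigmaCore M)) := by
    rw [hA2]
    exact (hp.out.coprime_iff_not_dvd.2 (not_dvd_sigmaCore hG hM hpσ)).pow_left 2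
  obtain ⟨Q, hQ, hAQ⟩ := CfsgLib.Coprime.exists_invariant_sylow
    (hAM.trans (sigmaCore_normal hG M)) hcop (Or.inr inferInstance) r
  obtain ⟨S, rfl⟩ := sylow_of_hall (sigmaCore_hall hG hM).2 hrσ hQ
  have hSM : (S : Subgroup G) ≤ M := hQ.1.trans (map_subtype_le _)
  have hNS := sylow_normalizer_le hG hM hrσ S hSM
  have hSmax : IsMaxInv A r (S : Subgroup G) := ⟨S.2, hAQ, fun R hR _ hle => S.3 hR hle⟩
  obtain ⟨θ, hθ, hθQ⟩ := htr _ (isMaxInv_iff.2 hSmax) _ (hsub hQ'm)
  have hθC : θ ∈ centralizer (A : Set G) := piCoreOf_le _ hθ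
  have hNQ' : normalizer (Q' : Set G) ≤ conjBy θ M := by
    rw [hθQ]
    refine (le_of_eq (map_equiv_normalizer_eq _ (MulAut.conj θ)).symm).trans ?_
    exact map_mono hNS
  have hS1 : (S : Subgroup G) ≠ ⊥ := fun e => by
    have h1 : (S : Subgroup G).index = Nat.card G := by rw [e, index_bot]
    exact S.not_dvd_index (h1 ▸ (hrC.trans (card_subgroup_dvd_card _)))
  rcases h with hCM | hα
  · refine hpσ (sigma_of_sylow hG hM P ?_ ?_ ((hA2 ▸ dvd_pow_self p two_ne_zero :
      p ∣ Nat.card A).trans (card_dvd_of_le hAM)))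
    · exact le_normalizer.trans (hNP.le.trans (sup_le
        ((piCoreOf_le _).trans ((centralizer_le hAP).trans hCM))
        (inf_le_right.trans (hNQ'.trans (conjBy_le_of_mem (hCM hθC) le_rfl)))))
    · exact hNP.le.trans (sup_le ((piCoreOf_le _).trans ((centralizer_le hAP).trans hCM))
        (inf_le_right.trans (hNQ'.trans (conjBy_le_of_mem (hCM hθC) le_rfl))))
  · have hPN : (P : Subgroup G) ≤ ⁅normalizer (Q' : Set G), normalizer (Q' : Set G)⁆ := by
      refine fun x hx => hPD ⟨hx, ?_⟩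
      exact commutator_mono le_normalizer le_rfl (sylow_le_commutator_normalizer hG P hx)
    have hP0 : conjBy θ⁻¹ (P : Subgroup G) ≤ ⁅M, M⁆ := by
      intro x hx
      rw [mem_conjBy, inv_inv] at hx
      have h1 : θ * x * θ⁻¹ ∈ ⁅conjBy θ M, conjBy θ M⁆ := commutator_mono hNQ' hNQ' (hPN hx)
      rw [show ⁅conjBy θ M, conjBy θ M⁆ = conjBy θ ⁅M, M⁆ from (map_commutator M M _).symm,
        mem_conjBy] at h1
      rwa [show θ⁻¹ * (θ * x * θ⁻¹) * θ = x by group] at h1
    set P₀ : Sylow p G := θ⁻¹ • P with hP₀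
    have e : (P₀ : Subgroup G) = conjBy θ⁻¹ (P : Subgroup G) := rfl
    have hpd : p ∣ Nat.card M :=
      (hA2 ▸ dvd_pow_self p two_ne_zero : p ∣ Nat.card A).trans (card_dvd_of_le hAM)
    have hP1 : (P₀ : Subgroup G) ≠ ⊥ := fun e' => by
      have h1 : (P₀ : Subgroup G).index = Nat.card G := by rw [e', index_bot]
      exact P₀.not_dvd_index (h1 ▸ hpd.trans (card_subgroup_dvd_card M))
    exact hpσ (sigma_of_sylow hG hM P₀ (e ▸ hP0.trans (commutator_le_self M))
      (sylow_normal_of_derived hG hM hα P₀ (e ▸ hP0) hP1).le hpd)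

end Elementary

omit hp in
/-- An elementary subgroup of order `q ^ 2`, `q ∉ σ(L)`, does not centralize `L_σ`. -/
theorem no_elementary_centralizes_sigmaCore (hL : IsCoatom L) (hqσ : q ∉ Cfsg.sigma L)
    {B : Subgroup G} (hBL : B ≤ L) (hBe : Cfsg.IsElementaryAbelian q B)
    (hB2 : Nat.card B = q ^ 2) (hBC : Cfsg.sigmaCore L ≤ centralizer (B : Set G)) : False := by
  have hmax : ∀ E : Subgroup G, Cfsg.IsElementaryAbelian q E → B ≤ E → E = B := by
    intro E hE hBE
    by_contra hne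
    have hU := unique_of_not_max hG hBe hB2 hE hBE hne
    have hEL : E ≤ L := le_of_unique hG hU hL hBL hBE
      (ms_isPGroup_ne_top hG (isPGroup_of_elementary hE))
    refine hqσ (alpha_subset_sigma hG hL ⟨hq.out, not_pRankLE_of_elementary hEL hE ?_⟩)
    exact hB2 ▸ lt_of_le_of_ne (card_le_of_le hBE) fun e => hne (eq_of_le_of_card_ge hBE e.ge).symm
  have hBnc : ¬ IsCyclic B := not_isCyclic_of_elementary hBe hB2.ge
  have h : centralizer (B : Set G) ≤ L ∨ ∀ s, s ∉ Cfsg.alpha L := by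
    by_cases hα : ∀ s, s ∉ Cfsg.alpha L
    · exact Or.inr hα
    push_neg at hα
    obtain ⟨s, hs⟩ := hα
    haveI : Fact s.Prime := ⟨hs.1⟩
    obtain ⟨V, hV, hVe, hV3⟩ := alpha_elementary_le_alphaCore hG hL hs
    have hVC : B ≤ centralizer (V : Set G) := le_centralizer_iff.1
      ((hV.trans (alphaCore_le_sigmaCore hG hL)).trans hBC)
    obtain ⟨-, hBU⟩ := unique_of_centralizes_elementary hG
      (unique_elementary_three hG hVe hV3.ge) hL (hV.trans (map_subtype_le _)) hVC hBe hBnc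
    refine Or.inl (le_of_unique hG hBU hL hBL (le_centralizer_of_comm hBe.1) fun e => ?_)
    obtain ⟨b, hb, hb1⟩ := (bot_or_exists_ne_one B).resolve_left fun e => hBnc (isCyclic_of_ambient e)
    exact ms_centralizer_singleton_ne_top hG hb1
      (top_le_iff.1 (e ▸ centralizer_le (Set.singleton_subset_iff.2 hb)))
  have hne : Nat.card (Cfsg.sigmaCore L) ≠ 1 := fun e => sigmaCore_ne_bot hG hL (card_eq_one.1 e)
  obtain ⟨r, hr, hrd⟩ := Nat.exists_prime_and_dvd hne
  haveI : Fact r.Prime := ⟨hr⟩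
  refine hqσ (mem_sigma_of_fixed hG hBe hB2 hmax hL hBL ((sigmaCore_hall hG hL).1.2.1 r hr hrd)
    ?_ h)
  rwa [inf_eq_left.2 hBC]

omit hp in
/-- The `q`-core is cyclic outside `σ`. -/
theorem core_cyclic (hL : IsCoatom L) (hqσ : q ∉ Cfsg.sigma L) : IsCyclic (core L q) := by
  by_contra hnc
  have hdvd : q ∣ Nat.card G := (mem_of_isPGroup isPGroup_core
    (fun e => hnc (isCyclic_of_ambient e)) le_rfl).trans (card_subgroup_dvd_card _)
  obtain ⟨B, hB, -, hBe, hB2⟩ := exists_normal_elementary_two (ms_ne_two hG hdvd) isPGroup_core hnc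
  refine no_elementary_centralizes_sigmaCore hG hL hqσ (hB.trans core_le) hBe hB2 ?_
  refine (le_centralizer_of_inf_eq_bot ((map_subtype_le _).trans le_normalizer_core)
    (core_le.trans (sigmaCore_normal hG L)) ?_).trans (centralizer_le hB)
  rw [inf_comm]
  exact inf_eq_bot_of_isPGroup isPGroup_core (not_dvd_sigmaCore hG hL hqσ)

end MinSimple

end CfsgLib.CFun.TauTwo
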