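import Cfsg.Agent.Lib.CFun.OddTauTwoTorus
import Cfsg.Agent.Lib.CFun.OddFpfCentralize
import Cfsg.Agent.Lib.CFun.OddTauTwoFitting
import Mathlib.GroupTheory.SemidirectProduct

/-!
# Invariant lines in the socle of an abelian Sylow subgroup at a `τ₂`-prime

When the `τ₁ ∪ τ₃`-elements of the complement `E` act regularly on `M_σ`, `E` normalizes a line of
`A` without fixed points on `M_σ`.
-/

set_option autoImplicit false
set_option linter.style.haveILetI false
set_option linter.unusedSectionVars false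

open Subgroup
open scoped commutatorElement
open CfsgLib.Coprime (conjBy conjBy_conjBy conjBy_one mem_conjBy IsSylowIn)

namespace CfsgLib.CFun.TauTwo

universe u

variable {G : Type u} [Group G] [Finite G] {p : ℕ} [hp : Fact p.Prime]

/-- The `τ₁ ∪ τ₃`-elements of `E` act regularly on `M_σ`. -/
def RegularTauOneThree (M E : Subgroup G) : Prop :=
  ∀ e ∈ E, e ≠ 1 → (∀ q : ℕ, q.Prime → q ∣ orderOf e → q ∈ Cfsg.tau1 M ∪ Cfsg.tau3 M) →
    Cfsg.sigmaCore M ⊓ centralizer ({e} : Set G) = ⊥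

omit hp in
/-- Two commuting automorphisms of prime order `r` generating a noncyclic group have fixed points. -/
theorem pair_false {r : ℕ} [Fact r.Prime] {V : Subgroup G} (hV : IsMulCommutative V) (hV1 : V ≠ ⊥)
    (hcop : r.Coprime (Nat.card V)) {y z : G} (hy : y ∈ normalizer (V : Set G))
    (hz : z ∈ normalizer (V : Set G)) (hyr : y ^ r ∈ centralizer (V : Set G))
    (hzr : z ^ r ∈ centralizer (V : Set G)) (hyz : ⁅y, z⁆ ∈ centralizer (V : Set G))
    (hfix : ∀ i : ℕ, ∀ v ∈ V, (y * z ^ i) * v = v * (y * z ^ i) → v = 1)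
    (hfixz : ∀ v ∈ V, z * v = v * z → v = 1) : False := by
  set N := normalizer (V : Set G) with hN
  let ρ : N →* MulAut V :=
    { toFun := fun n =>
        { toFun := fun v => ⟨n * v * (n : G)⁻¹, (mem_normalizer_iff.1 n.2 _).1 v.2⟩
          invFun := fun v => ⟨(n : G)⁻¹ * v * n, by
            have h := (mem_normalizer_iff.1 (inv_mem n.2) (v : G)).1 v.2
            rwa [inv_inv] at h⟩
          left_inv := fun v => Subtype.ext (by show _ * (_ * _ * _) * _ = _; group)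
          right_inv := fun v => Subtype.ext (by show _ * (_ * _ * _) * _ = _; group)
          map_mul' := fun a b => Subtype.ext (by
            show _ * (_ * _) * _ = (_ * _ * _) * (_ * _ * _); group) }
      map_one' := MulEquiv.ext fun v => Subtype.ext (by show (1 : G) * _ * (1 : G)⁻¹ = _; simp)
      map_mul' := fun m n => MulEquiv.ext fun v => Subtype.ext (by
        show ((m : G) * n) * _ * ((m : G) * n)⁻¹ = m * (n * _ * (n : G)⁻¹) * (m : G)⁻¹
        group) }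
  have hρ1 : ∀ n : N, (n : G) ∈ centralizer (V : Set G) → ρ n = 1 := fun n hn =>
    MulEquiv.ext fun v => Subtype.ext (by
      show (n : G) * v * (n : G)⁻¹ = v
      rw [← mem_centralizer_iff.1 hn v v.2, mul_inv_cancel_right])
  have hρfix : ∀ (n : N) (v : V), ρ n v = v → (n : G) * v = v * n := fun n v h =>
    mul_inv_eq_iff_eq_mul.1 (congrArg Subtype.val h)
  set f := ρ ⟨y, hy⟩ with hf
  set g := ρ ⟨z, hz⟩ with hg
  have hfr : f ^ r = 1 := by rw [hf, ← map_pow]; exact hρ1 _ hyr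
  have hgr : g ^ r = 1 := by rw [hg, ← map_pow]; exact hρ1 _ hzr
  have hfg : Commute f g := by
    refine commutatorElement_eq_one_iff_mul_comm.1 ?_
    rw [hf, hg, ← map_commutatorElement]
    exact hρ1 _ hyz
  haveI : Finite (MulAut V) :=
    Finite.of_injective (fun f : MulAut V => (f : V → V)) DFunLike.coe_injective
  haveI : Finite (SemidirectProduct V (MulAut V) (MonoidHom.id _)) :=
    Finite.of_equiv _ SemidirectProduct.equivProd.symm
  set ι : V →* SemidirectProduct V (MulAut V) (MonoidHom.id _) := SemidirectProduct.inl with hι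
  set W := ι.range with hW
  have hWn : ∀ x, x ∈ normalizer (W : Set (SemidirectProduct V (MulAut V) (MonoidHom.id _))) := by
    haveI : W.Normal := by
      rw [hW, hι, SemidirectProduct.range_inl_eq_ker_rightHom]; infer_instance
    intro x
    rw [normalizer_eq_top]
    exact mem_top _
  have hWc : IsMulCommutative W := ⟨⟨by
    rintro ⟨_, a, rfl⟩ ⟨_, b, rfl⟩
    exact Subtype.ext (by rw [Subgroup.coe_mul, Subgroup.coe_mul, ← map_mul, ← map_mul, hV.1.1 a b])⟩⟩
  have hWcard : Nat.card W = Nat.card V := (Nat.card_congr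
    (MonoidHom.ofInjective SemidirectProduct.inl_injective).toEquiv).symm
  have hfixed : ∀ (a : MulAut V), (∀ v : V, a v = v → v = 1) →
      W ⊓ centralizer {SemidirectProduct.inr a} ≤ ⊥ := by
    rintro a ha _ ⟨⟨v, rfl⟩, hv⟩
    have h1 := SemidirectProduct.inl_aut (φ := MonoidHom.id (MulAut V)) a v
    rw [← mem_centralizer_singleton_iff.1 hv, map_inv, mul_inv_cancel_right] at h1
    rw [ha v (SemidirectProduct.inl_injective h1), map_one]
    exact one_mem _
  have hle := CfsgLib.Coprime.abelian_le_of_centralizers_le (r := r) (V := W) (W := ⊥) hWc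
    (y := SemidirectProduct.inr f) (z := SemidirectProduct.inr g)
    (by rw [← map_pow, hfr, map_one]) (by rw [← map_pow, hgr, map_one])
    (hfg.map (SemidirectProduct.inr : MulAut V →* _)) (hWn _) (hWn _) (hWcard.symm ▸ hcop)
    (fun i => by
      rw [← map_pow, ← map_mul]
      refine hfixed _ fun v hv => Subtype.ext (hfix i.val v v.2 ?_)
      have hv' : ρ (⟨y, hy⟩ * ⟨z, hz⟩ ^ i.val) v = v := by rw [map_mul, map_pow]; exact hv
      exact hρfix _ v hv')
    (hfixed _ fun v hv => Subtype.ext (hfixz v v.2 (hρfix _ v hv)))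
  refine hV1 (card_eq_one.1 (hWcard ▸ card_eq_one.2 (le_bot_iff.1 hle)))

/-- Fixing three lines of a rank two elementary group means normalizing every subgroup. -/
theorem normalizes_all_of_three {A : Subgroup G} (hA : Cfsg.IsElementaryAbelian p A)
    {L₁ L₂ L₃ : Subgroup G} (h₁ : L₁ ≤ A) (h₁c : Nat.card L₁ = p) (h₂ : L₂ ≤ A)
    (h₂c : Nat.card L₂ = p) (h₃ : L₃ ≤ A) (h₃c : Nat.card L₃ = p) (h12 : L₂ ≠ L₁) (h13 : L₃ ≠ L₁)
    (h23 : L₃ ≠ L₂) (hA2 : Nat.card A = p ^ 2) {e : G}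
    (he₁ : e ∈ normalizer (L₁ : Set G)) (he₂ : e ∈ normalizer (L₂ : Set G))
    (he₃ : e ∈ normalizer (L₃ : Set G)) {W : Subgroup G} (hW : W ≤ A) :
    e ∈ normalizer (W : Set G) := by
  have gen : ∀ L : Subgroup G, Nat.card L = p → ∀ x ∈ L, x ≠ 1 → zpowers x = L := by
    intro L hL x hx hx1
    refine eq_of_le_of_card_ge (zpowers_le.2 hx) (le_of_eq ?_)
    rw [hL]
    exact (zpowers_card (isElementaryAbelian_line hL) hx hx1).symm
  have key : ∀ L : Subgroup G, L ≤ A → Nat.card L = p → e ∈ normalizer (L : Set G) →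
      ∃ x ∈ L, x ≠ 1 ∧ ∃ m : ℤ, e * x * e⁻¹ = x ^ m := by
    intro L _ hL hn
    obtain ⟨x, hx, hx1⟩ := (bot_or_exists_ne_one L).resolve_left fun e => line_ne_bot hL e
    obtain ⟨m, hm⟩ := mem_zpowers_iff.1 ((gen L hL x hx hx1).ge ((mem_normalizer_iff.1 hn x).1 hx))
    exact ⟨x, hx, hx1, m, hm.symm⟩
  obtain ⟨a, ha, ha1, m₁, hm₁⟩ := key L₁ h₁ h₁c he₁
  obtain ⟨b, hb, hb1, m₂, hm₂⟩ := key L₂ h₂ h₂c he₂
  obtain ⟨c, hc, hc1, m₃, hm₃⟩ := key L₃ h₃ h₃c he₃
  have hab : Commute a b := commute_of_mem hA (h₁ ha) (h₂ hb)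
  have hinf : L₁ ⊓ L₂ = ⊥ := by
    refine le_bot_iff.1 fun x ⟨hx1', hx2'⟩ => mem_bot.2 ?_
    by_contra hx
    exact h12 ((gen L₂ h₂c x hx2' hx).symm.trans (gen L₁ h₁c x hx1' hx))
  have hsup : A ≤ L₂ ⊔ L₁ := (sup_lines hA2 h₂ h₁ h₂c h₁c h12.symm).ge
  have hcomm : L₂ ≤ normalizer (L₁ : Set G) :=
    h₂.trans ((le_centralizer_line hA h₁).trans (CfsgLib.Coprime.centralizer_le_normalizer_self _))
  have split : ∀ x ∈ A, ∃ i j : ℤ, x = a ^ i * b ^ j := by
    intro x hx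
    obtain ⟨u, hu, v, hv, huv⟩ := CfsgLib.Coprime.mem_sup_exists hcomm (sup_comm L₁ L₂ ▸ hsup hx)
    obtain ⟨i, hi⟩ := mem_zpowers_iff.1 ((gen L₁ h₁c a ha ha1).ge hu)
    obtain ⟨j, hj⟩ := mem_zpowers_iff.1 ((gen L₂ h₂c b hb hb1).ge hv)
    exact ⟨i, j, by rw [hi, hj, huv]⟩
  obtain ⟨i, j, hij⟩ := split c (h₃ hc)
  have hone : ∀ (x : G) (k : ℤ), x ∈ A → x ≠ 1 → (x ^ k = 1 ↔ (p : ℤ) ∣ k) := fun x k hx hx1 => by
    rw [← orderOf_dvd_iff_zpow_eq_one, orderOf_eq_prime (hA.2 x hx) hx1]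
  have e1 : a ^ (i * m₁) * b ^ (j * m₂) = a ^ (i * m₃) * b ^ (j * m₃) := by
    have h := hm₃
    rw [hij, ← conj_mul, ← conj_zpow, ← conj_zpow, hm₁, hm₂, ((hab.zpow_zpow i j)).mul_zpow,
      ← zpow_mul, ← zpow_mul, ← zpow_mul, ← zpow_mul] at h
    rwa [mul_comm m₁ i, mul_comm m₂ j] at h
  have e2 : a ^ (i * (m₁ - m₃)) = b ^ (j * (m₃ - m₂)) := by
    rw [mul_sub, mul_sub, zpow_sub, zpow_sub]
    rw [mul_inv_eq_iff_eq_mul, mul_assoc, ← ((hab.zpow_zpow (i * m₃) (j * m₂))).inv_right.eq,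
      ← mul_assoc, eq_mul_inv_iff_mul_eq, e1, ((hab.zpow_zpow (i * m₃) (j * m₃))).eq]
  have h0 : a ^ (i * (m₁ - m₃)) = 1 ∧ b ^ (j * (m₃ - m₂)) = 1 := by
    have h : a ^ (i * (m₁ - m₃)) ∈ L₁ ⊓ L₂ :=
      mem_inf.2 ⟨zpow_mem ha _, e2 ▸ zpow_mem hb _⟩
    rw [hinf, mem_bot] at h
    exact ⟨h, e2 ▸ h⟩
  have hi : ¬ (p : ℤ) ∣ i := fun hd => by
    rw [(hone a i (h₁ ha) ha1).2 hd, one_mul] at hij
    exact h23 ((gen L₃ h₃c c hc hc1).symm.trans (gen L₂ h₂c c (hij ▸ zpow_mem hb _) hc1))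
  have hj : ¬ (p : ℤ) ∣ j := fun hd => by
    rw [(hone b j (h₂ hb) hb1).2 hd, mul_one] at hij
    exact h13 ((gen L₃ h₃c c hc hc1).symm.trans (gen L₁ h₁c c (hij ▸ zpow_mem ha _) hc1))
  have hpz : Prime (p : ℤ) := Nat.prime_iff_prime_int.1 hp.out
  have ha3 : a ^ m₁ = a ^ m₃ := by
    rw [← mul_inv_eq_one, ← zpow_sub]
    exact (hone a _ (h₁ ha) ha1).2
      ((hpz.dvd_mul.1 ((hone a _ (h₁ ha) ha1).1 h0.1)).resolve_left hi)
  have hb3 : b ^ m₂ = b ^ m₃ := by
    rw [eq_comm, ← mul_inv_eq_one, ← zpow_sub]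
    exact (hone b _ (h₂ hb) hb1).2
      ((hpz.dvd_mul.1 ((hone b _ (h₂ hb) hb1).1 h0.2)).resolve_left hj)
  refine CfsgLib.Coprime.conjBy_eq_self_iff.1 (eq_of_le_of_card_ge ?_
    (CfsgLib.Coprime.card_conjBy e W).ge)
  rintro _ ⟨w, hw, rfl⟩
  obtain ⟨k, l, hkl⟩ := split w (hW hw)
  show e * w * e⁻¹ ∈ W
  have hpw : e * w * e⁻¹ = w ^ m₃ := by
    rw [hkl, ← conj_mul, ← conj_zpow, ← conj_zpow, hm₁, hm₂, ha3, hb3, ← zpow_mul, ← zpow_mul,
      ((hab.zpow_zpow k l)).mul_zpow, ← zpow_mul, ← zpow_mul, mul_comm m₃ k, mul_comm m₃ l]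
  rw [hpw]
  exact zpow_mem hw _

variable (hG : Cfsg.IsMinSimpleOddOrder G) {M E A : Subgroup G} (hM : IsCoatom M)
  (hE : Cfsg.IsComplIn E (Cfsg.sigmaCore M) M) (hpt : p ∈ Cfsg.tau2 M) (hAE : A ≤ E)
  (hAe : Cfsg.IsElementaryAbelian p A) (hA2 : Nat.card A = p ^ 2)
include hG hM hE hpt hAE hAe hA2

/-- Elements at other `τ₂`-primes centralize `A`. -/
theorem tau_element_centralizes {q : ℕ} [hq : Fact q.Prime] (hqt : q ∈ Cfsg.tau2 M) (hqp : q ≠ p)
    {h : G} (hhE : h ∈ E) {n : ℕ} (hh : h ^ q ^ n = 1) : h ∈ centralizer (A : Set G) := by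
  obtain ⟨B, hBE, hBe, hB2⟩ := Compl.exists_elementary_compl hG hM hE hqt
  have hAM : A ≤ M := hAE.trans hE.1
  have hAN : E ≤ normalizer (A : Set G) :=
    compl_le_normalizer hG hM hE hpt hAE hAe hA2
  have hBN : E ≤ normalizer (B : Set G) :=
    compl_le_normalizer hG hM hE hqt hBE hBe hB2
  obtain ⟨S, hBS⟩ := (isPGroup_of_elementary hBe).exists_le_sylow
  have hab : IsMulCommutative (S : Subgroup G) := by
    by_contra hna
    have hall : ∀ T : Sylow q G, ¬ IsMulCommutative (T : Subgroup G) := fun T hT => by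
      obtain ⟨g, hg⟩ := exists_conjBy_sylow T S
      exact hna (hg ▸ (haveI := hT; Subgroup.map_isMulCommutative _ _))
    refine hqp.symm (nonab_tau_eq hG hM hqt (hBE.trans hE.1) hBe hB2 hall hpt hAM hAe hA2 ?_)
    refine le_centralizer_of_inf_eq_bot (hAE.trans hBN) (hBE.trans hAN) ?_
    exact inf_eq_bot_of_isPGroup (isPGroup_of_elementary hAe)
      (not_dvd_of_prime_pow hqp.symm (isPGroup_of_elementary hBe))
  have hSE := torus_le_compl hG hM hE hqt hBE hBe hB2 S hBS hab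
  have hEN : E ≤ normalizer ((S : Subgroup G) : Set G) :=
    hBN.trans (torus_normalizer_eq hG hM hE hqt hBE hBe hB2 S hBS hab).ge
  have hhS : h ∈ (S : Subgroup G) := by
    have hz : IsPGroup q (zpowers h) := by
      obtain ⟨j, -, hj⟩ := (Nat.dvd_prime_pow hq.out).1 (orderOf_dvd_of_pow_eq_one hh)
      exact IsPGroup.of_card (n := j) ((Nat.card_zpowers h).trans hj)
    exact (S.3 (IsPGroup.to_sup_of_normal_left' S.2 hz ((zpowers_le.2 hhE).trans hEN))
      le_sup_left).le (mem_sup_right (mem_zpowers h))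
  exact tau_centralizes_not_sigma hG hM hpt hAM hAe hA2 hqt.2.1 hqp S.2 (hSE.trans hE.1)
    (hAE.trans hEN) hhS

variable (S : Sylow p G) (hAS : A ≤ (S : Subgroup G)) (hab : IsMulCommutative (S : Subgroup G))
  (hreg : RegularTauOneThree M E)
include hAS hab

theorem sylow_compl_mem {e : G} (he : e ∈ E) {n : ℕ} (hen : e ^ p ^ n = 1) :
    e ∈ (S : Subgroup G) := by
  have hz : IsPGroup p (zpowers e) := by
    obtain ⟨j, -, hj⟩ := (Nat.dvd_prime_pow hp.out).1 (orderOf_dvd_of_pow_eq_one hen)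
    exact IsPGroup.of_card (n := j) ((Nat.card_zpowers e).trans hj)
  exact (S.3 (IsPGroup.to_sup_of_normal_left' S.2 hz ((zpowers_le.2 he).trans
    ((compl_le_normalizer hG hM hE hpt hAE hAe hA2).trans
      (torus_normalizer_eq hG hM hE hpt hAE hAe hA2 S hAS hab).ge))) le_sup_left).le
    (mem_sup_right (mem_zpowers e))

include hreg

/-- No element of `E` of prime power order acts irreducibly on `A`. -/
theorem exists_line_normalized {q : ℕ} [hq : Fact q.Prime] {h : G} (hhE : h ∈ E) {n : ℕ}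
    (hhn : h ^ q ^ n = 1) :
    ∃ L : Subgroup G, L ≤ A ∧ Nat.card L = p ∧ h ∈ normalizer (L : Set G) := by
  by_contra hirr
  have hno : ∀ L : Subgroup G, L ≤ A → Nat.card L = p → h ∉ normalizer (L : Set G) :=
    fun L h1 h2 h3 => hirr ⟨L, h1, h2, h3⟩
  have hAM : A ≤ M := hAE.trans hE.1
  have hEN : E ≤ normalizer (A : Set G) := compl_le_normalizer hG hM hE hpt hAE hAe hA2
  have hhN : h ∈ normalizer (A : Set G) := hEN hhE
  obtain ⟨a₀, ha₀, ha₀1⟩ := (bot_or_exists_ne_one A).resolve_left fun e => by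
    rw [e, card_bot] at hA2
    exact (Nat.one_lt_pow two_ne_zero hp.out.one_lt).ne hA2
  obtain ⟨L₀, hL₀, hL₀c⟩ : ∃ L₀ : Subgroup G, L₀ ≤ A ∧ Nat.card L₀ = p :=
    ⟨zpowers a₀, zpowers_le.2 ha₀, zpowers_card hAe ha₀ ha₀1⟩
  have hnC : h ∉ centralizer (A : Set G) := fun hc => hno L₀ hL₀ hL₀c
    (CfsgLib.Coprime.centralizer_le_normalizer_self _ (centralizer_le hL₀ hc))
  have hqp : q ≠ p := by
    rintro rfl
    exact hnC (torus_le_centralizer S hAS hab
      (sylow_compl_mem hG hM hE hpt hAE hAe hA2 S hAS hab hhE hhn))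
  obtain ⟨k, hk⟩ : ∃ k, orderOf h = q ^ (k + 1) := by
    obtain ⟨j, -, hj⟩ := (Nat.dvd_prime_pow hq.out).1 (orderOf_dvd_of_pow_eq_one hhn)
    rcases j with _ | j
    · exact absurd (orderOf_eq_one_iff.1 (hj.trans (pow_zero q)) ▸ one_mem _) hnC
    exact ⟨j, hj⟩
  have hqE : q ∣ Nat.card E :=
    ((dvd_pow_self q k.succ_ne_zero).trans hk.symm.dvd).trans (Subgroup.orderOf_dvd_natCard E hhE)
  have hqM : q ∣ Nat.card M := hqE.trans (card_dvd_of_le hE.1)
  have hqσ : q ∉ Cfsg.sigma M := Compl.compl_not_sigma hG hM hE hqE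
  have hr2 : Cfsg.PRankLE q 2 M :=
    pRankLE_two_of_not_alpha hq.out fun ha => hqσ (alpha_subset_sigma hG hM ha)
  have hr1 : Cfsg.PRankLE q 1 M := by
    by_contra hr
    exact hnC (tau_element_centralizes hG hM hE hpt hAE hAe hA2
      (mem_tau_iff.2 ⟨hqσ, hr2, hr⟩) hqp hhE hhn)
  have hq1 : q ∈ Cfsg.tau1 M := by
    refine ⟨hq.out, hqσ, hqM, fun hd => hnC ?_, hr1⟩
    exact normalizer_derived_le hG hM hE hpt hAE hAe hA2 S hAS hab
      (commutator_mono hEN hEN (Compl.mem_derived_of_tau3 hG hM hE ⟨hq.out, hqσ, hd, hr1⟩ hhE hhn))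
  set z := h ^ q ^ k with hz
  have hzq : z ^ q = 1 := by rw [hz, ← pow_mul, ← pow_succ, ← hk, pow_orderOf_eq_one]
  have hz1 : z ≠ 1 := fun e1 => by
    have hd := orderOf_dvd_of_pow_eq_one e1
    rw [hk] at hd
    exact absurd ((Nat.pow_dvd_pow_iff_le_right hq.out.one_lt).1 hd) (by omega)
  have hzE : z ∈ E := pow_mem hhE _
  have hzo : orderOf z = q := orderOf_eq_prime hzq hz1
  have hzfix : Cfsg.sigmaCore M ⊓ centralizer ({z} : Set G) = ⊥ := hreg z hzE hz1 fun r hr hrd => by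
    rw [hzo, Nat.prime_dvd_prime_iff_eq hr hq.out] at hrd
    exact hrd ▸ Or.inl hq1
  have hhZ : h ∈ normalizer ((zpowers z : Subgroup G) : Set G) :=
    CfsgLib.Coprime.centralizer_le_normalizer_self _ ((centralizer_zpowers z).ge
      (mem_centralizer_singleton_iff.2 (Commute.self_pow h (q ^ k)).eq))
  have hzC : z ∈ centralizer (A : Set G) := by
    by_contra hzC
    set R := ⁅A, zpowers z⁆ with hR
    have hRA : R ≤ A := le_normalizer_iff_commutator_le_left.1 (zpowers_le.2 (hEN hzE))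
    have hnil := tau_nilpotent hG hM hpt hAM hAe hA2
    have hKR : Cfsg.sigmaCore M ≤ centralizer (R : Set G) := by
      refine CfsgLib.Fusion.le_of_forall_prime_pow fun l hl v hv ⟨i, hi⟩ => ?_
      haveI : Fact l.Prime := ⟨hl⟩
      by_cases hv1 : v = 1
      · rw [hv1]; exact one_mem _
      obtain ⟨P⟩ := (inferInstance : Nonempty (Sylow l ↥(Cfsg.sigmaCore M)))
      haveI := hnil
      haveI : (P : Subgroup ↥(Cfsg.sigmaCore M)).Normal :=
        Sylow.normal_of_normalizerCondition Group.normalizerCondition_of_isNilpotent P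
      set V := (P : Subgroup ↥(Cfsg.sigmaCore M)).map (Cfsg.sigmaCore M).subtype with hV
      have hvV : v ∈ V := ⟨⟨v, hv⟩, RankTwoTower.mem_sylow_of_normal P ⟨i, Subtype.ext hi⟩, rfl⟩
      have hMV : M ≤ normalizer (V : Set G) := by
        intro m hm
        refine CfsgLib.Coprime.conjBy_eq_self_iff.1 (eq_of_le_of_card_ge ?_
          (CfsgLib.Coprime.card_conjBy m _).ge)
        rintro _ ⟨_, ⟨w, hw, rfl⟩, rfl⟩
        obtain ⟨j, hj⟩ := P.2 ⟨w, hw⟩
        exact ⟨⟨_, (mem_normalizer_iff.1 (sigmaCore_normal hG M hm) _).1 w.2⟩,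
          RankTwoTower.mem_sylow_of_normal P ⟨j, Subtype.ext (by
            show (m * w * m⁻¹) ^ l ^ j = 1
            rw [conj_pow, show (w : G) ^ l ^ j = 1 from congrArg Subtype.val (congrArg Subtype.val hj),
              mul_one, mul_inv_cancel])⟩, rfl⟩
      have hV1 : V ≠ ⊥ := fun e1 => hv1 (mem_bot.1 (e1 ▸ hvV))
      have hlσ : l ∈ Cfsg.sigma M := (sigmaCore_hall hG hM).1.2.1 l hl
        (mem_of_isPGroup (P.2.map _) hV1 (map_subtype_le _))
      have hlp : l ≠ p := fun e1 => hpt.2.1 (e1 ▸ hlσ)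
      have hlq : l ≠ q := fun e1 => hqσ (e1 ▸ hlσ)
      have hcz := CfsgLib.CFun.FpfComm.commutator_le_centralizer (K := A) (P.2.map _) hq.out hlq.symm hzq
        (hMV (hE.1 hzE)) (hEN hzE) (hAM.trans hMV) (hG.1.of_dvd_nat (card_subgroup_dvd_card A))
        (not_dvd_of_prime_pow hqp (isPGroup_of_elementary hAe))
        (not_dvd_of_prime_pow hlp (isPGroup_of_elementary hAe))
        (fun w hw hcw => mem_bot.1 (hzfix.le (mem_inf.2
          ⟨map_subtype_le _ hw, mem_centralizer_singleton_iff.2 hcw.symm⟩)))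
      exact le_centralizer_iff.1 hcz hvV
    have hR1 : R ≠ ⊥ := fun e1 => hzC ((le_centralizer_iff.1
      (commutator_eq_bot_iff_le_centralizer.1 e1)) (mem_zpowers z))
    have hRne : R ≠ A := fun e1 => sigmaCore_ne_bot hG hM (le_bot_iff.1 ((le_inf le_rfl (e1 ▸ hKR)).trans
      (tau_fixed_eq_bot hG hM hpt hAM hAe hA2).le))
    have hRc : Nat.card R = p :=
      ((card_pSq_cases hA2 hRA).resolve_left hR1).resolve_right hRne
    exact hno R hRA hRc (CfsgLib.CFun.le_normalizer_commutator (H := zpowers h) (zpowers_le.2 hhN)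
      (zpowers_le.2 hhZ) (mem_zpowers h))
  -- a maximal subgroup containing the normalizer of `⟨z⟩`
  have hZ1 : zpowers z ≠ ⊥ := fun e1 => hz1 (zpowers_eq_bot.1 e1)
  have hZq : IsPGroup q (zpowers z) :=
    IsPGroup.of_card (n := 1) (by rw [Nat.card_zpowers, hzo, pow_one])
  obtain ⟨H, hH, hNH⟩ := (eq_top_or_exists_le_coatom _).resolve_left
    (ms_normalizer_ne_top hG hZ1 (ms_isPGroup_ne_top hG hZq))
  have hhH : h ∈ H := hNH hhZ
  have hAH : A ≤ H := le_trans (le_centralizer_iff.1 (zpowers_le.2 hzC))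
    ((CfsgLib.Coprime.centralizer_le_normalizer_self _).trans hNH)
  have hhp : (orderOf h).Coprime p := by
    rw [hk]; exact ((Nat.coprime_primes hq.out hp.out).2 hqp).pow_left _
  have hhq : IsPGroup q (zpowers h) :=
    IsPGroup.of_card (n := k + 1) ((Nat.card_zpowers h).trans hk)
  have hqH : q ∉ Cfsg.sigma H := fun hc => hnC (derived_centralizes hG hM hE hpt hAE hAe hA2 S hAS hab
    hH hAH (sigmaCore_le_derived hG hH
      (isPGroup_le_sigmaCore hG hH hc hhq (zpowers_le.2 hhH) (mem_zpowers h))) hhN hhp)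
  have hqdH : q ∣ Nat.card H :=
    ((dvd_pow_self q k.succ_ne_zero).trans hk.symm.dvd).trans (Subgroup.orderOf_dvd_natCard H hhH)
  have hq2 : q ≠ 2 := ms_ne_two hG (hqM.trans (card_subgroup_dvd_card M))
  have hnr1 : ¬ Cfsg.PRankLE q 1 H := by
    intro hr
    obtain ⟨P, hP⟩ := (hhq.of_equiv (subgroupOfEquivOfLe (zpowers_le.2 hhH)).symm).exists_le_sylow
    have hrk : Cfsg.PRankLE q 1 ↥((P : Subgroup H).map H.subtype) := fun B hBc hBp => by
      rw [Nat.card_congr (equivMapOfInjective B _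
        (inclusion_injective (map_subtype_le (P : Subgroup H)))).toEquiv]
      refine hr _ (Subgroup.map_isMulCommutative B _) ?_
      rintro _ ⟨b, hb, rfl⟩
      rw [← map_pow, hBp b hb, map_one]
    have hcyc := Compl.isCyclic_of_rank_one hq2 (P.2.map _) hrk
    have hzP : zpowers z ≤ (P : Subgroup H).map H.subtype := zpowers_le.2
      (show z ∈ _ from hz ▸ pow_mem (⟨⟨h, hhH⟩, hP (mem_zpowers h :), rfl⟩ :
        h ∈ (P : Subgroup H).map H.subtype) _)
    exact hqH ⟨hq.out, hqdH, P, (normalizer_le_normalizer_of_cyclic hcyc hzP).trans hNH⟩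
  have hqtH : q ∈ Cfsg.tau2 H := mem_tau_iff.2 ⟨hqH,
    pRankLE_two_of_not_alpha hq.out (fun ha => hqH (alpha_subset_sigma hG hH ha)), hnr1⟩
  obtain ⟨B₀, hB₀H, hB₀e, hB₀2⟩ := exists_elementary_of_not_pRankLE hnr1
  set N' := H ⊓ normalizer (A : Set G) with hN'
  have hfac : H ≤ Cfsg.sigmaCore H ⊔ N' := by
    rcases sigma_or_tau hG hM hE hpt hAE hAe hA2 S hAS hab hAH with hpH | hptH
    swap
    · exact tau_frattini hG hAe hA2 hH hAH hptH
    intro y hy
    refine mem_sup_right (mem_inf.2 ⟨hy, CfsgLib.Coprime.conjBy_eq_self_iff.1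
      (eq_of_le_of_card_ge ?_ (CfsgLib.Coprime.card_conjBy y A).ge)⟩)
    haveI := tau_nilpotent hG hH hqtH hB₀H hB₀e hB₀2
    set K := Cfsg.sigmaCore H with hK
    have hAK : A ≤ K := isPGroup_le_sigmaCore hG hH hpH (isPGroup_of_elementary hAe) hAH
    obtain ⟨P⟩ := (inferInstance : Nonempty (Sylow p K))
    haveI : (P : Subgroup K).Normal :=
      Sylow.normal_of_normalizerCondition Group.normalizerCondition_of_isNilpotent P
    have inP : ∀ a ∈ K, a ^ p = 1 → a ∈ (P : Subgroup K).map K.subtype := fun a ha hap =>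
      ⟨⟨a, ha⟩, RankTwoTower.mem_sylow_of_normal P ⟨1, Subtype.ext (by rw [pow_one]; exact hap)⟩, rfl⟩
    obtain ⟨S', hPS'⟩ := (P.2.map K.subtype).exists_le_sylow
    have hAS' : A ≤ (S' : Subgroup G) := fun a ha => hPS' (inP a (hAK ha) (hAe.2 a ha))
    have hab' : IsMulCommutative (S' : Subgroup G) := by
      obtain ⟨g, hg⟩ := exists_conjBy_sylow S S'
      rw [hg]
      haveI := hab
      exact Subgroup.map_isMulCommutative _ _
    rintro _ ⟨a, ha, rfl⟩
    have hya : y * a * y⁻¹ ∈ K :=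
      (mem_normalizer_iff.1 (sigmaCore_normal hG H hy) _).1 (hAK ha)
    have hyp : (y * a * y⁻¹) ^ p = 1 := by
      rw [conj_pow, hAe.2 a ha, mul_one, mul_inv_cancel]
    exact torus_mem hG hM hE hpt hAE hAe hA2 S' hAS' hab' (hPS' (inP _ hya hyp)) hyp
  have hidx : ¬ q ∣ N'.relIndex H := by
    intro hd
    refine not_dvd_sigmaCore hG hH hqH (hd.trans ?_)
    have hK := sigmaCore_normal hG H
    have h1 : Nat.card H ∣ Nat.card N' * Nat.card (Cfsg.sigmaCore H) := by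
      conv_lhs => rw [le_antisymm hfac (sup_le (map_subtype_le _) inf_le_left), sup_comm]
      exact CfsgLib.Coprime.card_sup_dvd_of_le_normalizer (inf_le_left.trans hK)
    rw [← CfsgLib.Coprime.card_mul_relIndex (inf_le_left : N' ≤ H)] at h1
    exact Nat.dvd_of_mul_dvd_mul_left Nat.card_pos h1
  obtain ⟨Q, hQ⟩ := (hhq.of_equiv (subgroupOfEquivOfLe
    (zpowers_le.2 (mem_inf.2 ⟨hhH, hhN⟩ : h ∈ N'))).symm).exists_le_sylow
  have hQH : IsSylowIn q ((Q : Subgroup N').map N'.subtype) H :=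
    isSylowIn_of_relIndex (CfsgLib.Coprime.isSylowIn_map Q) inf_le_left hidx
  set Q' := (Q : Subgroup N').map N'.subtype with hQ'
  have hhQ : h ∈ Q' := ⟨⟨h, mem_inf.2 ⟨hhH, hhN⟩⟩, hQ (mem_zpowers h :), rfl⟩
  obtain ⟨P₀, hP₀⟩ := ((isPGroup_of_elementary hB₀e).of_equiv
    (subgroupOfEquivOfLe hB₀H).symm).exists_le_sylow
  obtain ⟨x, hxH, hxQ⟩ := (CfsgLib.Coprime.isSylowIn_map P₀).exists_conj hQH
  have hBQ : conjBy x B₀ ≤ Q' :=
    hxQ ▸ map_mono (fun b hb => ⟨⟨b, hB₀H hb⟩, hP₀ hb, rfl⟩)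
  haveI hQab : IsMulCommutative Q' :=
    isMulCommutative_of_not_sigma hG hH hqH (Q.2.map _) ((map_subtype_le _).trans inf_le_left)
  obtain ⟨b, hbB, hbZ⟩ : ∃ b ∈ conjBy x B₀, b ∉ zpowers z := by
    by_contra hall
    push Not at hall
    have h1 := card_dvd_of_le (hall : conjBy x B₀ ≤ zpowers z)
    rw [CfsgLib.Coprime.card_conjBy, hB₀2, Nat.card_zpowers, hzo] at h1
    exact absurd (Nat.le_of_dvd hq.out.pos h1) (not_le.2 (lt_self_pow₀ hq.out.one_lt one_lt_two))
  have hbq : b ^ q = 1 := by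
    obtain ⟨b', hb', rfl⟩ := hbB
    show (x * b' * x⁻¹) ^ q = 1
    rw [conj_pow, hB₀e.2 b' hb', mul_one, mul_inv_cancel]
  have hbh : Commute b h := congrArg Subtype.val (hQab.1.1 ⟨b, hBQ hbB⟩ ⟨h, hhQ⟩)
  have hbN : b ∈ normalizer (A : Set G) := (map_subtype_le _ (hBQ hbB) : b ∈ N').2
  have hbM : b ∉ M := by
    intro hbM
    have hze : Cfsg.IsElementaryAbelian q (zpowers z) := isElementaryAbelian_line (by
      rw [Nat.card_zpowers, hzo])
    obtain ⟨he, hlt⟩ := elementary_sup_zpowers hze hbq ((centralizer_zpowers z).ge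
      (mem_centralizer_singleton_iff.2 (hbh.pow_right _).eq)) hbZ
    refine not_pRankLE_of_elementary (sup_le (zpowers_le.2 (hE.1 hzE)) (zpowers_le.2 hbM)) he ?_ hr1
    rw [pow_one]
    rwa [Nat.card_zpowers, hzo] at hlt
  -- elements commuting with `h` act without fixed points or trivially
  have hfixc : ∀ c ∈ normalizer (A : Set G), Commute c h → c ∉ centralizer (A : Set G) →
      ∀ a ∈ A, c * a = a * c → a = 1 := by
    intro c hc hch hcC a ha hca
    set W := A ⊓ centralizer (zpowers c : Set G) with hW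
    have haW : a ∈ W := mem_inf.2 ⟨ha, (centralizer_zpowers c).ge
      (mem_centralizer_singleton_iff.2 hca.symm)⟩
    rcases card_pSq_cases hA2 (inf_le_left : W ≤ A) with hb | hp' | hall
    · exact mem_bot.1 (hb ▸ haW)
    · refine absurd (CfsgLib.Coprime.inf_le_normalizer (zpowers_le.2 hhN) (zpowers_le.2 ?_)
        (mem_zpowers h)) (hno W inf_le_left hp')
      refine CfsgLib.Coprime.normalizer_le_normalizer_centralizer _
        (CfsgLib.Coprime.centralizer_le_normalizer_self _ ((centralizer_zpowers c).ge ?_))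
      exact mem_centralizer_singleton_iff.2 hch.symm.eq
    · exact absurd (le_centralizer_iff.1 ((hall ▸ inf_le_right : A ≤ centralizer (zpowers c : Set G)))
        (mem_zpowers c)) hcC
  classical
  have hex : ∃ i, h ^ q ^ i ∈ centralizer (A : Set G) := ⟨k, hzC⟩
  obtain ⟨i, hi⟩ : ∃ i, Nat.find hex = i + 1 := by
    refine ⟨Nat.find hex - 1, (Nat.succ_pred_eq_of_ne_zero fun e1 => hnC ?_).symm⟩
    have h1 := Nat.find_spec hex
    rwa [e1, pow_zero, pow_one] at h1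
  set w := h ^ q ^ i with hw
  have hwC : w ∉ centralizer (A : Set G) := Nat.find_min hex (by omega)
  have hwq : w ^ q ∈ centralizer (A : Set G) := by
    rw [hw, ← pow_mul, ← pow_succ, ← hi]; exact Nat.find_spec hex
  have hwN : w ∈ normalizer (A : Set G) := pow_mem hhN _
  have hwh : Commute w h := (Commute.self_pow h _).symm
  refine pair_false (r := q) hAe.1 (fun e1 => by
      rw [e1, card_bot] at hA2
      exact absurd hA2.symm (Nat.one_lt_pow two_ne_zero hp.out.one_lt).ne')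
    (by rw [hA2]; exact ((Nat.coprime_primes hq.out hp.out).2 hqp).pow_right 2)
    hbN hwN (hbq ▸ one_mem _) hwq (by
      rw [commutatorElement_eq_one_iff_mul_comm.2 (hbh.pow_right _).eq]; exact one_mem _)
    (fun j a ha hc => hfixc _ (mul_mem hbN (pow_mem hwN j)) (hbh.mul_left (hwh.pow_left j))
      (fun hcC => hbM ?_) a ha hc)
    (fun a ha hc => hfixc w hwN hwh hwC a ha hc)
  have h1 : b * w ^ j ∈ M :=
    (centralizer_le_compl hG hM hE hpt hAE hAe hA2).trans hE.1 hcC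
  have h2 : w ^ j ∈ M := pow_mem (pow_mem (hE.1 hhE) _) _
  have h3 := mul_mem h1 (inv_mem h2)
  rwa [mul_inv_cancel_right] at h3

omit hreg in
/-- Lines moved inside `N(A)` keep their `E`-invariance. -/
theorem invariant_conj {L : Subgroup G} (hL : L ≤ A) {w : G} (hw : w ∈ normalizer (A : Set G))
    {e : G} (he : e ∈ normalizer (A : Set G)) (heL : e ∈ normalizer (L : Set G)) :
    conjBy w L ≤ A ∧ e ∈ normalizer (conjBy w L : Set G) := by
  refine ⟨(map_mono hL).trans (CfsgLib.Coprime.conjBy_eq_self_iff.2 hw).le, ?_⟩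
  refine CfsgLib.Coprime.conjBy_eq_self_iff.1 ?_
  have hc : ⁅w⁻¹, e⁆ ∈ normalizer (L : Set G) :=
    CfsgLib.Coprime.centralizer_le_normalizer_self _ (centralizer_le hL
      (normalizer_derived_le hG hM hE hpt hAE hAe hA2 S hAS hab
        (commutator_mem_commutator (inv_mem hw) he)))
  rw [conjBy_conjBy, show e * w = w * (⁅w⁻¹, e⁆ * e) by rw [commutatorElement_def]; group,
    ← conjBy_conjBy, ← conjBy_conjBy, CfsgLib.Coprime.conjBy_eq_self_iff.2 heL,
    CfsgLib.Coprime.conjBy_eq_self_iff.2 hc]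

/-- `E` normalizes a line of `A`. -/
theorem exists_invariant_line :
    ∃ L : Subgroup G, L ≤ A ∧ Nat.card L = p ∧ E ≤ normalizer (L : Set G) := by
  have hEN : E ≤ normalizer (A : Set G) := compl_le_normalizer hG hM hE hpt hAE hAe hA2
  obtain ⟨a₀, ha₀, ha₀1⟩ := (bot_or_exists_ne_one A).resolve_left fun e => by
    rw [e, card_bot] at hA2
    exact (Nat.one_lt_pow two_ne_zero hp.out.one_lt).ne hA2
  obtain ⟨L₀, hL₀, hL₀c⟩ : ∃ L₀ : Subgroup G, L₀ ≤ A ∧ Nat.card L₀ = p :=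
    ⟨zpowers a₀, zpowers_le.2 ha₀, zpowers_card hAe ha₀ ha₀1⟩
  by_cases hall : ∀ L : Subgroup G, L ≤ A → Nat.card L = p → E ≤ normalizer (L : Set G)
  · exact ⟨L₀, hL₀, hL₀c, hall L₀ hL₀ hL₀c⟩
  push Not at hall
  obtain ⟨L₁, hL₁, hL₁c, hEL₁⟩ := hall
  obtain ⟨r, hr, h, hhE, ⟨n, hhn⟩, hhL₁⟩ : ∃ r : ℕ, r.Prime ∧ ∃ h ∈ E, (∃ n, h ^ r ^ n = 1) ∧
      h ∉ normalizer (L₁ : Set G) := by
    by_contra hno
    push Not at hno
    exact hEL₁ (CfsgLib.Fusion.le_of_forall_prime_pow fun r hr x hx hn => hno r hr x hx hn)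
  haveI : Fact r.Prime := ⟨hr⟩
  obtain ⟨L, hL, hLc, hhL⟩ :=
    exists_line_normalized hG hM hE hpt hAE hAe hA2 S hAS hab hreg hhE hhn
  refine ⟨L, hL, hLc, fun a ha => ?_⟩
  by_contra haL
  have h1 := invariant_conj hG hM hE hpt hAE hAe hA2 S hAS hab hL (hEN ha) (hEN hhE) hhL
  have h2 := invariant_conj hG hM hE hpt hAE hAe hA2 S hAS hab hL (pow_mem (hEN ha) 2) (hEN hhE) hhL
  refine hhL₁ (normalizes_all_of_three hAe hL hLc h1.1 (by rw [CfsgLib.Coprime.card_conjBy, hLc])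
    h2.1 (by rw [CfsgLib.Coprime.card_conjBy, hLc]) ?_ ?_ ?_ hA2 hhL h1.2 h2.2 hL₁)
  · exact fun e1 => haL (CfsgLib.Coprime.conjBy_eq_self_iff.1 e1)
  · intro e1
    refine haL ?_
    have h3 := CfsgLib.Coprime.conjBy_eq_self_iff.1 e1
    obtain ⟨m, hm⟩ := hG.1.of_dvd_nat (orderOf_dvd_natCard a)
    have h4 : (a ^ 2) ^ (m + 1) = a := by
      rw [← pow_mul, show 2 * (m + 1) = orderOf a + 1 by omega, pow_succ, pow_orderOf_eq_one, one_mul]
    exact h4 ▸ pow_mem h3 _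
  · intro e1
    refine haL (CfsgLib.Coprime.conjBy_eq_self_iff.1 ?_)
    have h3 := congrArg (conjBy a⁻¹) e1
    rwa [conjBy_conjBy, conjBy_conjBy, inv_mul_cancel, conjBy_one, sq, ← mul_assoc, inv_mul_cancel,
      one_mul] at h3

/-- `E` normalizes a line of `A` without fixed points on `M_σ`. -/
theorem exists_invariant_fpf_line :
    ∃ L : Subgroup G, L ≤ A ∧ Nat.card L = p ∧ E ≤ normalizer (L : Set G) ∧
      Cfsg.sigmaCore M ⊓ centralizer (L : Set G) = ⊥ := by
  obtain ⟨L, hL, hLc, hEL⟩ := exists_invariant_line hG hM hE hpt hAE hAe hA2 S hAS hab hreg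
  by_cases hfix : Cfsg.sigmaCore M ⊓ centralizer (L : Set G) = ⊥
  · exact ⟨L, hL, hLc, hEL, hfix⟩
  have hEN : E ≤ normalizer (A : Set G) := compl_le_normalizer hG hM hE hpt hAE hAe hA2
  obtain ⟨-, ⟨-, -, hNnot⟩, huniq⟩ := Cfsg.Agent.S1418.result hG M hM E hE p hpt A ⟨hAE, hAe, hA2⟩
  obtain ⟨w, hw, hwM⟩ : ∃ w ∈ normalizer (A : Set G), w ∉ M := by
    by_contra hno
    push Not at hno
    exact hNnot hno
  obtain ⟨hCL, hCu⟩ := huniq L hL hLc hfix
  have hNL : normalizer (L : Set G) ≤ M := by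
    intro y hy
    rw [← ms_normalizer_self hG hM]
    refine CfsgLib.Coprime.conjBy_eq_self_iff.1 (hCu _ (isCoatom_conjBy y hM) ?_)
    refine le_trans (le_of_eq ?_) (map_mono hCL)
    exact (CfsgLib.Coprime.conjBy_eq_self_iff.2
      (CfsgLib.Coprime.normalizer_le_normalizer_centralizer L hy)).symm
  have hwL : w ∉ normalizer (L : Set G) := fun h => hwM (hNL h)
  obtain ⟨D, hD, hDc, hDfix⟩ := tau_fixed_point_free hG hM hpt (hAE.trans hE.1) hAe hA2
  refine ⟨D, hD, hDc, fun e he => ?_, hDfix⟩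
  have h1 := invariant_conj hG hM hE hpt hAE hAe hA2 S hAS hab hL hw (hEN he) (hEL he)
  have h2 := invariant_conj hG hM hE hpt hAE hAe hA2 S hAS hab hL (pow_mem hw 2) (hEN he) (hEL he)
  refine normalizes_all_of_three hAe hL hLc h1.1 (by rw [CfsgLib.Coprime.card_conjBy, hLc]) h2.1
    (by rw [CfsgLib.Coprime.card_conjBy, hLc]) ?_ ?_ ?_ hA2 (hEL he) h1.2 h2.2 hD
  · exact fun e1 => hwL (CfsgLib.Coprime.conjBy_eq_self_iff.1 e1)
  · intro e1
    refine hwL ?_
    have h3 := CfsgLib.Coprime.conjBy_eq_self_iff.1 e1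
    obtain ⟨m, hm⟩ := hG.1.of_dvd_nat (orderOf_dvd_natCard w)
    have h4 : (w ^ 2) ^ (m + 1) = w := by
      rw [← pow_mul, show 2 * (m + 1) = orderOf w + 1 by omega, pow_succ, pow_orderOf_eq_one, one_mul]
    exact h4 ▸ pow_mem h3 _
  · intro e1
    refine hwL (CfsgLib.Coprime.conjBy_eq_self_iff.1 ?_)
    have h3 := congrArg (conjBy w⁻¹) e1
    rwa [conjBy_conjBy, conjBy_conjBy, inv_mul_cancel, conjBy_one, sq, ← mul_assoc, inv_mul_cancel,
      one_mul] at h3

end CfsgLib.CFun.TauTwo
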