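import Cfsg.Agent.Lib.CFun.OddTauTwoTorus
import Cfsg.Agent.Lib.CFun.OddTauTwoLines
import Cfsg.Agent.Lib.CFun.OddTauTwoCentral
import Cfsg.Agent.Lib.CFun.OddSCNUnique
import Cfsg.Agent.S1403
import Cfsg.Agent.S1409
import Cfsg.Agent.S1420

/-!
# Shared `σ`-primes of two maximal subgroups

Tools for the prime action of complements on `σ`-cores: transfer of primes with large rank,
centralization of `σ`-cores by common `p`-subgroups, and the exclusion of rank two in centralizers.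
-/

set_option autoImplicit false
set_option linter.style.haveILetI false
set_option linter.unusedSectionVars false

open Subgroup
open scoped commutatorElement
open CfsgLib.Coprime (conjBy conjBy_conjBy conjBy_one mem_conjBy conj_mem_conjBy IsSylowIn IsHallIn)

namespace CfsgLib.CFun.TauTwo

universe u

variable {G : Type u} [Group G] [Finite G] {p : ℕ} [hp : Fact p.Prime]

omit hp in
/-- `H` is not a conjugate of `M`. -/
def NotConj (M H : Subgroup G) : Prop := ∀ g : G, conjBy g M ≠ H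

omit hp in
theorem NotConj.symm {M H : Subgroup G} (h : NotConj M H) : NotConj H M := fun g e =>
  h g⁻¹ (by rw [← e, conjBy_conjBy, inv_mul_cancel, conjBy_one])

omit hp in
theorem NotConj.ne {M H : Subgroup G} (h : NotConj M H) : H ≠ M := fun e =>
  h 1 (by rw [conjBy_one, e])

/-- Over an element of order `p` in a noncyclic `p`-group lies an elementary subgroup of order
`p ^ 2`. -/
theorem exists_elementary_over (hp2 : p ≠ 2) {T : Subgroup G} (hT : IsPGroup p T)
    (hnc : ¬ IsCyclic T) {P : Subgroup G} (hPT : P ≤ T) (hP : Nat.card P = p) :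
    ∃ A : Subgroup G, P ≤ A ∧ A ≤ T ∧ Cfsg.IsElementaryAbelian p A ∧ Nat.card A = p ^ 2 := by
  obtain ⟨z, hz, hz1⟩ : ∃ z ∈ P, z ≠ 1 := (bot_or_exists_ne_one P).resolve_left (line_ne_bot hP)
  have hzp : z ^ p = 1 := orderOf_dvd_iff_pow_eq_one.1 (hP ▸ orderOf_dvd_natCard P hz)
  have hPz : zpowers z = P := eq_of_le_of_card_ge (zpowers_le.2 hz)
    (by rw [Nat.card_zpowers, orderOf_eq_prime hzp hz1, hP])
  suffices h : ∃ y ∈ T, y ∉ P ∧ y ^ p = 1 ∧ Commute z y by
    obtain ⟨y, hy, hyP, hyp, hc⟩ := h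
    have hPe := isElementaryAbelian_line hP
    obtain ⟨hAe, hlt⟩ := elementary_sup_zpowers hPe hyp (mem_centralizer_iff.2 fun w hw => by
      obtain ⟨i, rfl⟩ := mem_zpowers_iff.1 (hPz.symm.le hw)
      exact (hc.zpow_left i).eq) hyP
    refine ⟨P ⊔ zpowers y, le_sup_left, sup_le hPT (zpowers_le.2 hy), hAe, ?_⟩
    have hy1 : y ≠ 1 := fun e => hyP (e ▸ one_mem P)
    have h1 : Nat.card ↥(P ⊔ zpowers y) ∣ Nat.card P * Nat.card (zpowers y) := by
      refine CfsgLib.Coprime.card_sup_dvd_of_le_normalizer ?_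
      refine le_trans (fun w hw => ?_) (CfsgLib.Coprime.centralizer_le_normalizer_self _)
      obtain ⟨i, rfl⟩ := mem_zpowers_iff.1 (hPz.symm.le hw)
      refine mem_centralizer_iff.2 fun x hx => ?_
      obtain ⟨j, rfl⟩ := mem_zpowers_iff.1 hx
      exact ((hc.zpow_left i).zpow_right j).eq.symm
    rw [hP, Nat.card_zpowers, orderOf_eq_prime hyp hy1, ← pow_two] at h1
    obtain ⟨i, hi, hi'⟩ := (Nat.dvd_prime_pow hp.out).1 h1
    have h2 : 1 < i := by
      by_contra hle
      rw [hP, hi'] at hlt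
      have := Nat.pow_le_pow_right hp.out.pos (not_lt.1 hle)
      simp at this
      omega
    rw [hi', show i = 2 by omega]
  obtain ⟨E, hET, hTE, hEe, hE2⟩ := exists_normal_elementary_two hp2 hT hnc
  obtain ⟨w, hw, hw1⟩ := centerSocle_ne_bot (q := p) hT le_rfl le_normalizer
    (fun e => hnc (e ▸ isCyclic_of_ambient (G := G) rfl))
  obtain ⟨hwT, hwp, hwc⟩ := (mem_inf.1 hw).2
  by_cases hwP : w ∈ P
  · obtain ⟨y, hy, hyP⟩ := SetLike.exists_of_lt (show P ⊓ E < E from
      lt_of_le_of_ne inf_le_right fun e => by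
        have := card_le_of_le (inf_eq_right.1 e)
        rw [hP, hE2] at this
        exact absurd (lt_of_lt_of_le (lt_self_pow₀ hp.out.one_lt (by norm_num)) this) (lt_irrefl _))
    have hPw : zpowers w = P := eq_of_le_of_card_ge (zpowers_le.2 hwP)
      (by rw [Nat.card_zpowers, orderOf_eq_prime hwp hw1, hP])
    obtain ⟨i, rfl⟩ := mem_zpowers_iff.1 (hPw.ge hz)
    exact ⟨y, hET hy, fun h => hyP (mem_inf.2 ⟨h, hy⟩), hEe.2 y hy,
      (hwc y (hET hy)).zpow_left i⟩
  · exact ⟨w, hwT, hwP, hwp, (hwc z (hPT hz)).symm⟩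

variable (hG : Cfsg.IsMinSimpleOddOrder G) {M H : Subgroup G}
include hG

omit hp in
/-- A maximal subgroup over a nontrivial proper normalizer. -/
theorem exists_coatom_normalizer {X : Subgroup G} (hX : X ≠ ⊥) (hX' : X ≠ ⊤) :
    ∃ L : Subgroup G, IsCoatom L ∧ normalizer (X : Set G) ≤ L :=
  (eq_top_or_exists_le_coatom _).resolve_left (ms_normalizer_ne_top hG hX hX')

omit hp in
/-- Every subgroup of `M` without primes of `σ(M)` lies in a complement of `M_σ`. -/
theorem exists_complement (hM : IsCoatom M) {K : Subgroup G} (hKM : K ≤ M)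
    (hK : ∀ r : ℕ, r.Prime → r ∣ Nat.card K → r ∉ Cfsg.sigma M) :
    ∃ E : Subgroup G, Cfsg.IsComplIn E (Cfsg.sigmaCore M) M ∧ K ≤ E := by
  obtain ⟨E, ⟨hEM, hEσ, hEi⟩, hKE⟩ := IsHallIn.exists_ge (π := (Cfsg.sigma M)ᶜ)
    (ms_solvable hG hM.1) hKM fun r hr hrd => hK r hr hrd
  refine ⟨E, ⟨hEM, map_subtype_le _, ?_, fun m hm => ?_⟩, hKE⟩
  · refine inf_eq_bot_of_coprime ?_
    refine Nat.coprime_of_dvd fun r hr h1 h2 => hEσ r hr h1 ((sigmaCore_hall hG hM).1.2.1 r hr h2)
  · have hsup : E ⊔ Cfsg.sigmaCore M = M := by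
      refine le_antisymm (sup_le hEM (map_subtype_le _)) ?_
      refine (eq_of_le_of_card_ge (sup_le hEM (map_subtype_le _)) (Nat.le_of_dvd Nat.card_pos ?_)).ge
      have hcop : (E.relIndex M).Coprime ((Cfsg.sigmaCore M).relIndex M) :=
        Nat.coprime_of_dvd fun r hr h1 h2 => (sigmaCore_hall hG hM).1.2.2 r hr
          (not_not.1 (hEi r hr h1)) h2
      have h1 : Nat.card M ∣ Nat.card ↥(E ⊔ Cfsg.sigmaCore M) * E.relIndex M := by
        rw [← CfsgLib.Coprime.card_mul_relIndex hEM]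
        exact mul_dvd_mul_right (card_dvd_of_le le_sup_left) _
      have h2 : Nat.card M ∣
          Nat.card ↥(E ⊔ Cfsg.sigmaCore M) * (Cfsg.sigmaCore M).relIndex M := by
        rw [← CfsgLib.Coprime.card_mul_relIndex (map_subtype_le (Cfsg.piCore (Cfsg.sigma M) ↥M))]
        exact mul_dvd_mul_right (card_dvd_of_le le_sup_right) _
      have h3 := Nat.dvd_gcd h1 h2
      rwa [Nat.gcd_mul_left, hcop, mul_one] at h3
    rw [← hsup] at hm
    obtain ⟨n, hn, k, hk, rfl⟩ := CfsgLib.Coprime.mem_sup_exists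
      (hEM.trans (sigmaCore_normal hG M)) (sup_comm E (Cfsg.sigmaCore M) ▸ hm)
    exact ⟨k, hk, k⁻¹ * n * k, (mem_normalizer_iff''.1 (sigmaCore_normal hG M (hEM hk)) n).1 hn,
      by group⟩

/-- Ideal primes: elementary subgroups of order `p ^ 2` are uniqueness subgroups. -/
theorem ideal_unique (hid : Cfsg.IsIdealPrime p G) {A : Subgroup G}
    (hAe : Cfsg.IsElementaryAbelian p A) (hA2 : Nat.card A = p ^ 2) :
    Cfsg.InUniqueMaximal A := by
  obtain ⟨S, hAS⟩ := (isPGroup_of_elementary hAe).exists_le_sylow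
  obtain ⟨B, -, hBe, hAB⟩ := hid.2.2 S A hAS hAe hA2
  exact unique_of_not_max hG hAe hA2 hBe hAB.le hAB.ne'

omit hp in
/-- A prime of rank three in `H` lying in `σ(M)` makes `H` conjugate to `M`. -/
theorem alpha_not_sigma (hM : IsCoatom M) (hH : IsCoatom H) (hnc : NotConj M H) {r : ℕ}
    (hr : r ∈ Cfsg.alpha H) : r ∉ Cfsg.sigma M := by
  intro hrM
  haveI : Fact r.Prime := ⟨hr.1⟩
  obtain ⟨V, hVH, hVe, hV3⟩ := exists_elementary_of_not_pRankLE hr.2
  obtain ⟨S, hVS, hSH⟩ := exists_sylow_of_sigma hG hH (alpha_subset_sigma hG hH hr)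
    (isPGroup_of_elementary hVe) hVH
  obtain ⟨R, -, hRM⟩ := exists_sylow_of_sigma hG hM hrM (IsPGroup.of_bot (p := r)) bot_le
  obtain ⟨g, hg⟩ := exists_conjBy_sylow R S
  refine hnc g ((unique_elementary_three hG hVe hV3.ge).unique ⟨isCoatom_conjBy g hM, ?_⟩ ⟨hH, hVH⟩)
  exact hVS.trans (hg.le.trans (map_mono hRM))

omit hp in
/-- A prime shared by `σ(M)` and `σ(L)` with `L_σ` nilpotent makes `L` conjugate to `M`. -/
theorem sigma_nilpotent_conj {L : Subgroup G} (hM : IsCoatom M) (hL : IsCoatom L)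
    (hnil : Group.IsNilpotent (Cfsg.sigmaCore L)) {r : ℕ} (hrM : r ∈ Cfsg.sigma M)
    (hrL : r ∈ Cfsg.sigma L) (hnc : NotConj M L) : False := by
  haveI : Fact r.Prime := ⟨hrM.1⟩
  obtain ⟨R, -, hRL⟩ := exists_sylow_of_sigma hG hL hrL (IsPGroup.of_bot (p := r)) bot_le
  obtain ⟨R', -, hR'M⟩ := exists_sylow_of_sigma hG hM hrM (IsPGroup.of_bot (p := r)) bot_le
  have hR1 : (R : Subgroup G) ≠ ⊥ := fun e => by
    have h1 : (R : Subgroup G).index = Nat.card G := by rw [e, index_bot]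
    exact R.not_dvd_index (h1 ▸ hrL.2.1.trans (card_subgroup_dvd_card _))
  obtain ⟨g, hg⟩ := exists_conjBy_sylow R R'
  have h1 : conjBy g L ≤ M := by
    rw [← normalizer_sylow_nilpotent hG hL hnil R (isPGroup_le_sigmaCore hG hL hrL R.2 hRL) hR1,
      ← normalizer_conjBy, ← hg]
    exact sylow_normalizer_le hG hM hrM R' hR'M
  exact hnc.symm g (((isCoatom_conjBy g hL).le_iff.1 h1).resolve_left hM.1).symm

/-- `L = L_β N_L(S)` for a Sylow subgroup `S` at a prime of `σ(L)` outside `β(L)`. -/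
theorem sigma_factor {L : Subgroup G} (hL : IsCoatom L) (hpσ : p ∈ Cfsg.sigma L)
    (hpβ : p ∉ Cfsg.beta L) (S : Sylow p G) (hSL : (S : Subgroup G) ≤ L) :
    L ≤ Cfsg.piCoreOf (Cfsg.beta L) L ⊔ (L ⊓ normalizer ((S : Subgroup G) : Set G)) := by
  haveI := ms_solvable hG hL.1
  obtain ⟨hhall, -⟩ := Cfsg.Agent.S1414.result hG L hL
  set D := Cfsg.piCoreOf (Cfsg.beta L) L with hDdef
  have hSd : (S : Subgroup G) ≤ ⁅L, L⁆ :=
    (isPGroup_le_sigmaCore hG hL hpσ S.2 hSL).trans (sigmaCore_le_derived hG hL)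
  have hD : coCore L p ≤ D ⊔ centralizer ((S : Subgroup G) : Set G) := by
    refine le_of_invariant_sylows (hSL.trans le_normalizer_coCore) ?_
      (Or.inl (CfsgLib.Coprime.isSolvable_of_isNilpotent S.2.isNilpotent))
      fun r hr hrd R hR hRr hSR => ?_
    · obtain ⟨k, hk⟩ := IsPGroup.iff_card.1 S.2
      rw [hk]; exact (hp.out.coprime_iff_not_dvd.2 not_dvd_coCore).pow_left k
    haveI : Fact r.Prime := ⟨hr⟩
    have hrp : r ≠ p := fun e => not_dvd_coCore (e ▸ hrd)
    have hRL : R ≤ L := hR.trans coCore_le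
    by_cases hrb : r ∈ Cfsg.beta L
    · refine le_trans ?_ le_sup_left
      haveI : (D.subgroupOf L).Normal := normal_subgroupOf_of_le_normalizer
        (le_normalizer_piCoreOf (A := L) (X := L) le_rfl)
      have h1 : R.subgroupOf L ≤ D.subgroupOf L := le_normal_of_coprime_index (by
        obtain ⟨k, hk⟩ := IsPGroup.iff_card.1 hRr
        rw [Nat.card_congr (subgroupOfEquivOfLe hRL).toEquiv, hk]
        exact (hr.coprime_iff_not_dvd.2 (hhall.2.2 r hr hrb)).pow_left k)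
      exact fun x hx => h1 (show (⟨x, hRL hx⟩ : L) ∈ R.subgroupOf L from hx)
    · refine le_trans (le_centralizer_iff.1 fun s hs => ?_) le_sup_right
      obtain ⟨n, hn⟩ := S.2 ⟨s, hs⟩
      exact derived_centralizes_non_beta hG hL hrb hRL hRr (hSd hs)
        (Nat.Coprime.coprime_dvd_left (orderOf_dvd_of_pow_eq_one (congrArg Subtype.val hn :))
          (((Nat.coprime_primes hp.out hr).2 hrp.symm).pow_left n))
        (hSR hs)
  refine (factor_of_pLength_one (ms_pLengthLE_one hG hL.1) hSL S.2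
    (fun U hU _ hle => S.3 hU hle)).trans (sup_le ?_ le_sup_right)
  have hD' : coCore L p ≤ D ⊔ centralizer ((S : Subgroup G) : Set G) := hD
  intro x hx
  obtain ⟨d, hd, c, hc, rfl⟩ := CfsgLib.Coprime.mem_sup_exists (N := D)
    (H := centralizer ((S : Subgroup G) : Set G))
    (((CfsgLib.Coprime.centralizer_le_normalizer_self _).trans
      (sylow_normalizer_le hG hL hpσ S hSL)).trans
      (le_normalizer_piCoreOf (A := L) (X := L) le_rfl)) (hD' hx)
  refine mul_mem (mem_sup_left hd) (mem_sup_right (mem_inf.2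
    ⟨?_, CfsgLib.Coprime.centralizer_le_normalizer_self _ hc⟩))
  exact sylow_normalizer_le hG hL hpσ S hSL (CfsgLib.Coprime.centralizer_le_normalizer_self _ hc)

/-- A prime subgroup of rank one does not have its normalizer in `M`. -/
theorem rank_one_normalizer (hM : IsCoatom M) (hpσ : p ∉ Cfsg.sigma M)
    (hr1 : Cfsg.PRankLE p 1 M) {P : Subgroup G} (hPc : Nat.card P = p) :
    ¬ normalizer (P : Set G) ≤ M := fun h =>
  (normalizer_prime_subgroup hG hM hpσ hPc h).1.2 hr1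

/-- At a prime of rank one, maximal subgroups over `N(P)` are not conjugate to `M`. -/
theorem rank_one_not_conj (hM : IsCoatom M) (hpσ : p ∉ Cfsg.sigma M)
    (hr1 : Cfsg.PRankLE p 1 M) {P L : Subgroup G} (hPc : Nat.card P = p)
    (hNP : normalizer (P : Set G) ≤ L) : NotConj M L := by
  intro g e
  refine rank_one_normalizer hG hM hpσ hr1 (P := conjBy g⁻¹ P)
    (by rw [CfsgLib.Coprime.card_conjBy]; exact hPc) ?_
  rw [normalizer_conjBy]
  refine le_trans (map_mono hNP) (le_of_eq ?_)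
  rw [← e]
  exact (conjBy_conjBy g⁻¹ g M).trans (by rw [inv_mul_cancel, conjBy_one])

/-- A maximal subgroup containing `N(P)`, for `P` of order `p`, has `p ∈ σ ∪ τ₂`. -/
theorem normalizer_sigma_or_tau {L P : Subgroup G} (hL : IsCoatom L) (hPc : Nat.card P = p)
    (hNP : normalizer (P : Set G) ≤ L) : p ∈ Cfsg.sigma L ∨ p ∈ Cfsg.tau2 L := by
  by_cases h : p ∈ Cfsg.sigma L
  · exact Or.inl h
  · exact Or.inr (mem_tau_iff.2 ⟨h, (normalizer_prime_subgroup hG hL h hPc hNP).1⟩)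

/-- Common `p`-subgroups, `p ∈ σ(L)`, centralize `M_σ ∩ L`. -/
theorem centralizes_of_sigma {L : Subgroup G} (hM : IsCoatom M) (hL : IsCoatom L)
    (hnc : NotConj M L) (hpM : p ∉ Cfsg.sigma M) (hpL : p ∈ Cfsg.sigma L) {T : Subgroup G}
    (hT : IsPGroup p T) (hTM : T ≤ M) (hTL : T ≤ L) :
    T ≤ centralizer ((Cfsg.sigmaCore M ⊓ L : Subgroup G) : Set G) := by
  set X := Cfsg.sigmaCore M ⊓ L with hX
  have hTX : T ≤ normalizer (X : Set G) := CfsgLib.Coprime.inf_le_normalizer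
    (hTM.trans (sigmaCore_normal hG M)) (hTL.trans le_normalizer)
  have hcop : (Nat.card T).Coprime (Nat.card X) := by
    obtain ⟨k, hk⟩ := IsPGroup.iff_card.1 hT
    rw [hk]
    exact (hp.out.coprime_iff_not_dvd.2 fun h =>
      not_dvd_sigmaCore hG hM hpM (h.trans (card_dvd_of_le inf_le_left))).pow_left k
  refine le_centralizer_iff.1 (le_of_invariant_sylows hTX hcop
    (Or.inl (CfsgLib.Coprime.isSolvable_of_isNilpotent hT.isNilpotent))
    fun r hr hrd R hR hRr hTR => le_centralizer_iff.1 ?_)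
  haveI : Fact r.Prime := ⟨hr⟩
  have hrM : r ∈ Cfsg.sigma M :=
    (sigmaCore_hall hG hM).1.2.1 r hr (hrd.trans (card_dvd_of_le inf_le_left))
  have hrp : r ≠ p := fun e => hpM (e ▸ hrM)
  have hrβ : r ∉ Cfsg.beta L := fun h => alpha_not_sigma hG hM hL hnc h.1 hrM
  have hTd : T ≤ ⁅L, L⁆ :=
    (isPGroup_le_sigmaCore hG hL hpL hT hTL).trans (sigmaCore_le_derived hG hL)
  intro t ht
  obtain ⟨n, hn⟩ := hT ⟨t, ht⟩
  exact derived_centralizes_non_beta hG hL hrβ (hR.trans inf_le_right) hRr (hTd ht)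
    (Nat.Coprime.coprime_dvd_left (orderOf_dvd_of_pow_eq_one (congrArg Subtype.val hn :))
      (((Nat.coprime_primes hp.out hr).2 hrp.symm).pow_left n))
    (hTR ht)

/-- Common `p`-subgroups over `P` centralize `M_σ ∩ L` when `N(P) ≤ L`. -/
theorem centralizes_of_normalizer {L P T : Subgroup G} (hM : IsCoatom M) (hL : IsCoatom L)
    (hpM : p ∉ Cfsg.sigma M) (hr1 : Cfsg.PRankLE p 1 M) (hPc : Nat.card P = p)
    (hNP : normalizer (P : Set G) ≤ L) (hT : IsPGroup p T) (hTM : T ≤ M) (hTL : T ≤ L)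
    (hPT : P ≤ T) : T ≤ centralizer ((Cfsg.sigmaCore M ⊓ L : Subgroup G) : Set G) := by
  have hnc := rank_one_not_conj hG hM hpM hr1 hPc hNP
  rcases normalizer_sigma_or_tau hG hL hPc hNP with hσ | hτ
  · exact centralizes_of_sigma hG hM hL hnc hpM hσ hT hTM hTL
  have hp2 : p ≠ 2 := ms_ne_two hG
    ((mem_of_isPGroup hT (fun e => line_ne_bot hPc (le_bot_iff.1 (hPT.trans e.le))) hTM).trans
      (card_subgroup_dvd_card M))
  set X := Cfsg.sigmaCore M ⊓ L with hX
  have hTX : T ≤ normalizer (X : Set G) := CfsgLib.Coprime.inf_le_normalizer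
    (hTM.trans (sigmaCore_normal hG M)) (hTL.trans le_normalizer)
  have hcop : (Nat.card T).Coprime (Nat.card X) := by
    obtain ⟨k, hk⟩ := IsPGroup.iff_card.1 hT
    rw [hk]
    exact (hp.out.coprime_iff_not_dvd.2 fun h =>
      not_dvd_sigmaCore hG hM hpM (h.trans (card_dvd_of_le inf_le_left))).pow_left k
  refine le_centralizer_iff.1 (le_of_invariant_sylows hTX hcop
    (Or.inl (CfsgLib.Coprime.isSolvable_of_isNilpotent hT.isNilpotent))
    fun r hr hrd R hR hRr hTR => le_centralizer_iff.1 ?_)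
  haveI : Fact r.Prime := ⟨hr⟩
  have hrM : r ∈ Cfsg.sigma M :=
    (sigmaCore_hall hG hM).1.2.1 r hr (hrd.trans (card_dvd_of_le inf_le_left))
  have hrp : r ≠ p := fun e => hpM (e ▸ hrM)
  have hRL : R ≤ L := hR.trans inf_le_right
  -- a complement containing `R` and `T`
  obtain ⟨hpσL, hpr2, hpr1⟩ := mem_tau_iff.1 hτ
  have hnil : Group.IsNilpotent (Cfsg.sigmaCore L) := by
    obtain ⟨B, hBL, hBe, hB2⟩ := exists_elementary_of_not_pRankLE hpr1
    exact tau_nilpotent hG hL hτ hBL hBe hB2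
  have hσ' : ∀ s : ℕ, s.Prime → s ∣ Nat.card ↥(R ⊔ T) → s ∉ Cfsg.sigma L := by
    intro s hs hsd hsL
    have h1 := hsd.trans (sup_comm R T ▸ CfsgLib.Coprime.card_sup_dvd_of_le_normalizer hTR)
    obtain ⟨a, ha⟩ := IsPGroup.iff_card.1 hRr
    obtain ⟨b, hb⟩ := IsPGroup.iff_card.1 hT
    rw [ha, hb] at h1
    rcases hs.dvd_mul.1 h1 with h | h
    · exact hpσL ((Nat.prime_dvd_prime_iff_eq hs hp.out).1 (hs.dvd_of_dvd_pow h) ▸ hsL)
    · exact sigma_nilpotent_conj hG hM hL hnil hrM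
        ((Nat.prime_dvd_prime_iff_eq hs hr).1 (hs.dvd_of_dvd_pow h) ▸ hsL) hnc
  obtain ⟨E, hE, hRTE⟩ := exists_complement hG hL (sup_le hRL hTL) hσ'
  have hRE : R ≤ E := le_sup_left.trans hRTE
  have hTE : T ≤ E := le_sup_right.trans hRTE
  obtain ⟨A, hAE, hAe, hA2⟩ := Compl.exists_elementary_compl hG hL hE hτ
  obtain ⟨⟨hEA, hsub⟩, -, -⟩ := Cfsg.Agent.S1418.result hG L hL E hE p hτ A ⟨hAE, hAe, hA2⟩
  have hPA : P ≤ A := hsub P (hPT.trans hTE) hPc
  suffices h : ∃ W : Subgroup G, IsPGroup p W ∧ T ≤ W ∧ R ≤ normalizer (W : Set G) by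
    obtain ⟨W, hW, hTW, hRW⟩ := h
    intro t ht
    refine mem_centralizer_iff.2 fun x hx => ?_
    have hTW' : t ∈ W := hTW ht
    have h1 : x * t * x⁻¹ * t⁻¹ ∈ W :=
      mul_mem ((mem_normalizer_iff.1 (hRW hx) t).1 hTW') (inv_mem hTW')
    have h2 : x * t * x⁻¹ * t⁻¹ ∈ R := by
      have := mul_mem hx ((mem_normalizer_iff.1 (hTR ht) x⁻¹).1 (inv_mem hx))
      simpa only [mul_assoc] using this
    have h3 : W ⊓ R = ⊥ := inf_eq_bot_of_coprime (by
      obtain ⟨a, ha⟩ := IsPGroup.iff_card.1 hRr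
      obtain ⟨b, hb⟩ := IsPGroup.iff_card.1 hW
      rw [ha, hb]
      exact Nat.Coprime.pow b a ((Nat.coprime_primes hp.out hr).2 hrp.symm))
    exact mul_inv_eq_iff_eq_mul.1 (mul_inv_eq_one.1 (mem_bot.1 (h3 ▸ mem_inf.2 ⟨h1, h2⟩)))
  obtain ⟨S, hAS⟩ := (isPGroup_of_elementary hAe).exists_le_sylow
  by_cases hab : IsMulCommutative (S : Subgroup G)
  · refine ⟨S, S.2, fun t ht => ?_, hRE.trans (hEA.trans
      (torus_normalizer_eq hG hL hE hτ hAE hAe hA2 S hAS hab).ge)⟩
    obtain ⟨n, hn⟩ := hT ⟨t, ht⟩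
    exact sylow_compl_mem hG hL hE hτ hAE hAe hA2 S hAS hab (hTE ht) (congrArg Subtype.val hn :)
  · refine ⟨A, isPGroup_of_elementary hAe, ?_, hRE.trans hEA⟩
    have hS : ∀ S' : Sylow p G, ¬ IsMulCommutative (S' : Subgroup G) := fun S' h' => hab <| by
      haveI := h'
      exact ⟨⟨fun a b => (S'.equiv S).symm.injective (by rw [map_mul, map_mul, mul_comm'])⟩⟩
    have hAL := hAE.trans hE.1
    -- `T = P`
    suffices hTP : T ≤ P by exact hTP.trans hPA
    intro t ht
    by_contra htP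
    haveI := Compl.isCyclic_of_rank_one hp2 hT
      (RankTwoTower.pRankLE_of_injective (f := inclusion hTM) (inclusion_injective hTM) hr1)
    obtain ⟨n, hn⟩ := hT ⟨t, ht⟩
    -- an element of order `p ^ 2`
    have htn : orderOf t ∣ p ^ n := orderOf_dvd_of_pow_eq_one (congrArg Subtype.val hn :)
    obtain ⟨k, -, hk⟩ := (Nat.dvd_prime_pow hp.out).1 htn
    have hk2 : 2 ≤ k := by
      by_contra hle
      apply htP
      have htp : t ^ p = 1 := orderOf_dvd_iff_pow_eq_one.1 (by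
        rw [hk]; exact (pow_dvd_pow p (show k ≤ 1 by omega)).trans (by rw [pow_one]))
      exact eq_of_cyclic (C := T) inferInstance hPT (zpowers_le.2 ht)
        (fun y hy => orderOf_dvd_iff_pow_eq_one.1 (hPc ▸ orderOf_dvd_natCard P hy))
        (fun y hy => by obtain ⟨i, rfl⟩ := mem_zpowers_iff.1 hy
                        rw [← zpow_natCast, ← zpow_mul, mul_comm, zpow_mul, zpow_natCast, htp,
                          one_zpow])
        (line_ne_bot hPc) (mem_zpowers t)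
    set x := t ^ p ^ (k - 2) with hxdef
    have hxT : x ∈ T := pow_mem ht _
    have hxo : orderOf x = p ^ 2 := by
      rw [hxdef, orderOf_pow_of_dvd (pow_ne_zero _ hp.out.ne_zero)
        (hk ▸ pow_dvd_pow p (Nat.sub_le k 2)), hk, Nat.pow_div (Nat.sub_le k 2) hp.out.pos]
      congr 1
      omega
    obtain ⟨Q, hTQ⟩ := hT.exists_le_sylow
    -- `T` centralizes `A`
    have hTC : T ≤ centralizer (A : Set G) :=
      tau_le_centralizer hG hL hτ hAL hAe hA2 hT hTL (hTE.trans hEA)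
    have hUp : IsPGroup p ↥(A ⊔ T) :=
      (isPGroup_of_elementary hAe).to_sup_of_normal_left' hT (hTE.trans hEA)
    obtain ⟨S₁, hS₁⟩ := hUp.exists_le_sylow
    have hAS₁ : A ≤ (S₁ : Subgroup G) := le_sup_left.trans hS₁
    have hc := pow_central_of_centralizes hG hAe hA2 (fun _ => tau_max hG hL hτ hAL hAe hA2) S₁
      hAS₁ (hS₁ (mem_sup_right hxT)) (hTC hxT)
      (orderOf_dvd_iff_pow_eq_one.1 hxo.dvd)
    have hxp : orderOf (x ^ p) = p := by
      rw [orderOf_pow_of_dvd hp.out.ne_zero (hxo ▸ dvd_pow_self p (by norm_num)), hxo, pow_two,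
        Nat.mul_div_cancel _ hp.out.pos]
    have hxP : zpowers (x ^ p) = P := eq_of_le_of_card_ge
      (eq_of_cyclic (C := T) inferInstance hPT (zpowers_le.2 (pow_mem hxT p))
        (fun y hy => orderOf_dvd_iff_pow_eq_one.1 (hPc ▸ orderOf_dvd_natCard P hy))
        (fun y hy => orderOf_dvd_iff_pow_eq_one.1 (by
          refine (orderOf_dvd_natCard _ hy).trans ?_
          rw [Nat.card_zpowers, hxp]))
        (line_ne_bot hPc))
      (by rw [Nat.card_zpowers, hxp, hPc])
    refine (nonab_not_le hG hL hτ hAL hAe hA2 hS S₁ hAS₁).1 ?_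
    refine le_trans (fun s hs => ?_)
      ((CfsgLib.Coprime.centralizer_le_normalizer_self P).trans hNP)
    rw [← hxP, centralizer_zpowers]
    exact mem_centralizer_singleton_iff.2 (hc s hs).eq.symm

/-- An element of order `q`, `q ∈ σ(M)`, has no elementary subgroup of order `p ^ 2` in its
centralizer meeting `M`, when `M` has `p`-rank one and `p` is not ideal. -/
theorem no_rank_two_centralizer {q : ℕ} [hq : Fact q.Prime] (hM : IsCoatom M)
    (hqM : q ∈ Cfsg.sigma M) {Z : Subgroup G} (hZ : Nat.card Z = q) (hZM : Z ≤ M)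
    {A : Subgroup G} (hAe : Cfsg.IsElementaryAbelian p A) (hA2 : Nat.card A = p ^ 2)
    (hAZ : A ≤ centralizer (Z : Set G)) (hr1 : Cfsg.PRankLE p 1 M)
    (hid : ¬ Cfsg.IsIdealPrime p G) (hAM : A ⊓ M ≠ ⊥) (hpq : p ≠ q) : False := by
  have hlt : p ^ 1 < Nat.card A := by
    rw [hA2]; exact Nat.pow_lt_pow_right hp.out.one_lt one_lt_two
  have hAnM : ¬ A ≤ M := fun h => not_pRankLE_of_elementary h hAe hlt hr1
  have hZp : IsPGroup q Z := IsPGroup.of_card (n := 1) (by rw [hZ, pow_one])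
  have hZ1 : Z ≠ ⊥ := line_ne_bot hZ
  obtain ⟨H, hH, hNZ⟩ := exists_coatom_normalizer hG hZ1 (ms_isPGroup_ne_top hG hZp)
  have hAH : A ≤ H :=
    hAZ.trans ((CfsgLib.Coprime.centralizer_le_normalizer_self Z).trans hNZ)
  have hne : H ≠ M := fun e => hAnM (e ▸ hAH)
  obtain ⟨Q, hQ⟩ := (hZp.of_equiv
    (subgroupOfEquivOfLe (le_inf hZM (le_normalizer.trans hNZ))).symm).exists_le_sylow
  set S := (Q : Subgroup ↥(M ⊓ H)).map (M ⊓ H).subtype with hS
  have hSp : IsPGroup q S := Q.2.map _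
  have hSMH : S ≤ M ⊓ H := map_subtype_le _
  have hZS : Z ≤ S := fun z hz =>
    ⟨⟨z, le_inf hZM (le_normalizer.trans hNZ) hz⟩, hQ hz, rfl⟩
  have hSmax : ∀ U : Subgroup G, IsPGroup q U → U ≤ M ⊓ H → S ≤ U → U = S :=
    fun U h1 h2 h3 => sylow_map_max Q h1 h2 h3
  have hnc : NotConj M H := fun g e =>
    other_not_conj hG hM hqM hZp hZ1 hZM hH hne hNZ g e.symm
  have hNS := other_normalizer_le hG hM hqM hZp hZ1 hZM hH hne hNZ hSp hSMH hZS hSmax
  have hSy := fun U => other_sylow hG hM hqM hZp hZ1 hZM hH hne hNZ hSp hSMH hZS hSmax (U := U)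
  have hpH : p ∈ Cfsg.sigma H ∨ p ∈ Cfsg.tau2 H := by
    by_cases h : p ∈ Cfsg.sigma H
    · exact Or.inl h
    · exact Or.inr (mem_tau_iff.2 ⟨h,
        pRankLE_two_of_not_alpha hp.out fun h' => h (alpha_subset_sigma hG hH h'),
        not_pRankLE_of_elementary hAH hAe hlt⟩)
  rcases normalizer_sigma_or_tau hG hH hZ hNZ with hqH | hqH
  · rcases hpH with hpσ | hpτ
    · obtain ⟨R, hSR, hRH⟩ := exists_sylow_of_sigma hG hH hqH hSp (hSMH.trans inf_le_right)
      have hRS : (R : Subgroup G) = S := hSy _ R.2 hRH hSR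
      obtain ⟨R', -, hc⟩ := exists_commuting_sylow hG hH hqH
        (fun h => alpha_not_sigma hG hM hH hnc h.1 hqM) hpσ (fun h => hid h.2) hpq.symm R hRH
      have hR'M : (R' : Subgroup G) ≤ M := by
        refine le_trans ?_ hNS
        rw [← hRS]
        exact (le_centralizer_iff.1 hc).trans
          (CfsgLib.Coprime.centralizer_le_normalizer_self _)
      obtain ⟨T, hAT⟩ := (isPGroup_of_elementary hAe).exists_le_sylow
      obtain ⟨g, hg⟩ := exists_conjBy_sylow T R'
      refine not_pRankLE_of_elementary (E := conjBy g A) ((map_mono hAT).trans (hg.ge.trans hR'M))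
        ?_ (by rw [CfsgLib.Coprime.card_conjBy]; exact hlt) hr1
      exact CfsgLib.Fusion.isElementaryAbelian_map _ hAe
    · exact sigma_nilpotent_conj hG hM hH (tau_nilpotent hG hH hpτ hAH hAe hA2) hqM hqH hnc
  · obtain ⟨hqσ, -, hqr1⟩ := mem_tau_iff.1 hqH
    have hq2 : q ≠ 2 := ms_ne_two hG
      ((mem_of_isPGroup hZp hZ1 hZM).trans (card_subgroup_dvd_card M))
    have hSH : S ≤ H := hSMH.trans inf_le_right
    have hSnc : ¬ IsCyclic S := fun hc => hqr1 (pRankLE_of_sylow (sylowOfMax hSp hSH hSy) (by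
      rw [coe_sylowOfMax, map_subgroupOf_eq_of_le hSH]
      intro E hEc hEe
      haveI := hc
      refine (card_le_of_cyclic (C := E) inferInstance le_rfl fun y hy => hEe y hy).trans
        (le_of_eq (pow_one q).symm)))
    obtain ⟨B, hBS, -, hBe, hB2⟩ := exists_normal_elementary_two hq2 hSp hSnc
    have hBM : B ≤ M := hBS.trans (hSMH.trans inf_le_left)
    have hBH : B ≤ H := hBS.trans hSH
    have hCB : centralizer (B : Set G) ≤ M :=
      (Cfsg.Agent.S1416.result hG M hM q B ⟨hBM, hBe, hB2⟩).1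
    have hinf := tau_inf_eq_bot hG hH hqH hBH hBe hB2 hM hne.symm hBM
    rcases hpH with hpσ | hpτ
    · exact hAM (le_bot_iff.1 (hinf ▸ le_inf (inf_le_left.trans (isPGroup_le_sigmaCore hG hH hpσ
        (isPGroup_of_elementary hAe) hAH)) inf_le_right))
    · obtain ⟨E, hE, hBE⟩ := exists_complement hG hH hBH (fun s hs hsd => by
        rw [hB2] at hsd
        rw [(Nat.prime_dvd_prime_iff_eq hs hq.out).1 (hs.dvd_of_dvd_pow hsd)]
        exact hqσ)
      obtain ⟨B', hB'E, hB'e, hB'2⟩ := Compl.exists_elementary_compl hG hH hE hpτ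
      refine not_pRankLE_of_elementary ((fun b hb => ?_) : B' ≤ M) hB'e
        (by rw [hB'2]; exact Nat.pow_lt_pow_right hp.out.one_lt one_lt_two) hr1
      exact hCB (tau_element_centralizes hG hH hE hqH hBE hBe hB2 hpτ hpq (hB'E hb) (n := 1)
        (by rw [pow_one]; exact hB'e.2 b hb))

end CfsgLib.CFun.TauTwo
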