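import Cfsg.Agent.Lib.CFun.OddPLengthProper

/-!
# Fusion in a Sylow subgroup of a minimal simple group of odd order

Every proper subgroup has `p`-length one, so the normalizer of a Sylow subgroup controls fusion.
-/

set_option autoImplicit false
set_option linter.style.haveILetI false
set_option linter.unusedSectionVars false

open Subgroup
open scoped commutatorElement
open CfsgLib.Coprime (conjBy conjBy_conjBy conjBy_one conjBy_eq_self_iff mem_conjBy conj_mem_conjBy
  conj_mem_of_le_normalizer card_conjBy)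

namespace CfsgLib.CFun

universe u

variable {G : Type u} [Group G] [Finite G] {p : ℕ} [hp : Fact p.Prime]

/-- In a subgroup of `p`-length one the `p′`-core supplements a Sylow normalizer. -/
theorem factor_of_pLength_one {H T : Subgroup G} [Group.IsSolvable H]
    (hlen : Cfsg.PLengthLE p 1 H) (hTH : T ≤ H) (hT : IsPGroup p T)
    (hmax : ∀ U : Subgroup G, IsPGroup p U → U ≤ H → T ≤ U → U = T) :
    H ≤ coCore H p ⊔ (H ⊓ normalizer (T : Set G)) := by
  set S := sylowOfMax hT hTH hmax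
  haveI : (Cfsg.pPrimeCore p H).Normal := Subgroup.sSup_normal _ fun _ h => h.1
  haveI := CfsgLib.Coprime.pCore_normal' (G := ↥H ⧸ Cfsg.pPrimeCore p H) p
  set π := QuotientGroup.mk' (Cfsg.pPrimeCore p H)
  set V := Cfsg.pCore p (↥H ⧸ Cfsg.pPrimeCore p H)
  set S' := S.mapSurjective (f := π) (QuotientGroup.mk'_surjective _)
  have hVS : V = (S' : Subgroup _) := by
    have h1 := ((CfsgLib.Coprime.pCore_isPGroup (G := ↥H ⧸ Cfsg.pPrimeCore p H) p).toSylow
      (not_dvd_index_of_pLengthLE_one hlen)).3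
      ((CfsgLib.Coprime.pCore_isPGroup p).to_sup_of_normal_left S'.2) le_sup_left
    exact le_antisymm (le_sup_left.trans (S'.3
      ((CfsgLib.Coprime.pCore_isPGroup p).to_sup_of_normal_left S'.2) le_sup_right).le)
      (le_sup_right.trans h1.le)
  have hn : ((T.subgroupOf H).map π).Normal := by
    rw [show (T.subgroupOf H).map π = V from hVS.symm ▸ rfl]; infer_instance
  obtain ⟨-, hf⟩ := sup_normalizer_of_map_normal
    (hT.of_equiv (subgroupOfEquivOfLe hTH).symm) hn
  intro x hx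
  have h1 := mem_map_of_mem H.subtype (hf.ge (mem_top (⟨x, hx⟩ : H)))
  rw [Subgroup.map_sup] at h1
  refine (sup_le_sup_left (le_inf (map_subtype_le _) ?_) _) h1
  refine (le_normalizer_map H.subtype).trans (le_of_eq ?_)
  rw [map_subgroupOf_eq_of_le hTH]

variable (hG : Cfsg.IsMinSimpleOddOrder G)
include hG

/-- Conjugates inside a Sylow subgroup differ by its normalizer and the centralizer. -/
theorem sylow_fusion (P : Sylow p G) {X : Subgroup G} (hXP : X ≤ (P : Subgroup G)) {g : G}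
    (hg : conjBy g X ≤ (P : Subgroup G)) :
    ∃ y ∈ normalizer ((P : Subgroup G) : Set G), ∃ c ∈ centralizer (X : Set G), g = y * c := by
  suffices key : ∀ (n : ℕ) (X : Subgroup G), Nat.card G - Nat.card X = n → X ≤ (P : Subgroup G) →
      ∀ g : G, conjBy g X ≤ (P : Subgroup G) →
      ∃ y ∈ normalizer ((P : Subgroup G) : Set G), ∃ c ∈ centralizer (X : Set G), g = y * c from
    key _ X rfl hXP g hg
  intro n
  induction n using Nat.strongRecOn with
  | ind n ih =>
  intro X hn hXP g hg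
  by_cases hX1 : X = ⊥
  · exact ⟨1, one_mem _, g, by simp [hX1, mem_centralizer_iff], (one_mul g).symm⟩
  have hXp : IsPGroup p X := P.2.to_le hXP
  by_cases hXeq : X = (P : Subgroup G)
  · refine ⟨g, ?_, 1, one_mem _, (mul_one _).symm⟩
    subst hXeq
    exact conjBy_eq_self_iff.1 (eq_of_le_of_card_ge hg (card_conjBy g _).ge)
  have ih' : ∀ {Y : Subgroup G}, X < Y → Y ≤ (P : Subgroup G) → ∀ h : G,
      conjBy h Y ≤ (P : Subgroup G) →
      ∃ y ∈ normalizer ((P : Subgroup G) : Set G), ∃ c ∈ centralizer (X : Set G), h = y * c := by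
    intro Y hlt hYP h hh
    have h1 : Nat.card X < Nat.card Y := Set.Finite.card_lt_card (Set.toFinite _) hlt
    have := card_le_card_group Y
    obtain ⟨m, hm, c, hc, e⟩ := ih _ (by omega) Y rfl hYP h hh
    exact ⟨m, hm, c, centralizer_le hlt.le hc, e⟩
  set N := normalizer (X : Set G) with hN
  set Y₁ := N ⊓ (P : Subgroup G) with hY₁
  have hlt₁ : X < Y₁ := lt_of_le_not_ge (le_inf le_normalizer hXP)
    (CfsgLib.Invol.normalizer_grows P.2 hXP hXeq)
  have hPg : IsPGroup p (conjBy g⁻¹ (P : Subgroup G)) := P.2.map _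
  have hXg : X ≤ conjBy g⁻¹ (P : Subgroup G) := fun x hx => by
    rw [mem_conjBy, inv_inv]; exact hg (conj_mem_conjBy hx)
  have hlt₂ : X < N ⊓ conjBy g⁻¹ (P : Subgroup G) := by
    refine lt_of_le_not_ge (le_inf le_normalizer hXg) (CfsgLib.Invol.normalizer_grows hPg hXg ?_)
    intro e
    refine hXeq (eq_of_le_of_card_ge hXP ?_)
    rw [← card_conjBy g⁻¹ (P : Subgroup G), ← e]
  -- a Sylow subgroup of the normalizer inside `P`
  obtain ⟨R₀, hR₀⟩ := ((P.2.to_le (inf_le_right : Y₁ ≤ _)).of_equiv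
    (subgroupOfEquivOfLe (inf_le_left : Y₁ ≤ N)).symm).exists_le_sylow
  set T₁ := (R₀ : Subgroup N).map N.subtype with hT₁
  have hT₁p : IsPGroup p T₁ := R₀.2.map _
  have hY₁T₁ : Y₁ ≤ T₁ := fun y hy => ⟨⟨y, hy.1⟩, hR₀ hy, rfl⟩
  obtain ⟨S', hS'⟩ := hT₁p.exists_le_sylow
  obtain ⟨h, hh⟩ := MulAction.exists_smul_eq G S' P
  have hhT₁ : conjBy h T₁ ≤ (P : Subgroup G) := by
    rw [← hh]
    exact map_mono hS'
  obtain ⟨m₁, hm₁, c₁, hc₁, e₁⟩ := ih' hlt₁ inf_le_right h ((map_mono hY₁T₁).trans hhT₁)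
  have hc₁N : c₁ ∈ N := CfsgLib.Coprime.centralizer_le_normalizer_self X hc₁
  set R := (⟨c₁, hc₁N⟩ : N) • R₀ with hR
  set T := (R : Subgroup N).map N.subtype with hTdef
  have hTeq : T = conjBy c₁ T₁ := by
    rw [hTdef, hR, Sylow.coe_subgroup_smul]
    ext x
    constructor
    · rintro ⟨_, ⟨y, hy, rfl⟩, rfl⟩
      exact conj_mem_conjBy (g := c₁) (show (y : G) ∈ T₁ from ⟨y, hy, rfl⟩)
    · rintro ⟨_, ⟨y, hy, rfl⟩, rfl⟩
      exact ⟨⟨c₁, hc₁N⟩ * y * ⟨c₁, hc₁N⟩⁻¹, ⟨y, hy, rfl⟩, rfl⟩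
  have hTP : T ≤ (P : Subgroup G) := by
    rw [hTeq, show c₁ = m₁⁻¹ * h by rw [e₁, inv_mul_cancel_left], ← conjBy_conjBy]
    exact (map_mono hhT₁).trans (conjBy_eq_self_iff.2 (inv_mem hm₁)).le
  have hTp : IsPGroup p T := R.2.map _
  have hXT : X ≤ T := by
    rw [hTeq]
    conv_lhs => rw [← conjBy_eq_self_iff.2 hc₁N]
    exact map_mono (hlt₁.le.trans hY₁T₁)
  have hTN : T ≤ N := map_subtype_le _
  have hXT' : X < T := by
    refine lt_of_le_not_ge hXT fun hle => ?_
    have h1 : Nat.card Y₁ ≤ Nat.card X := by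
      calc Nat.card Y₁ ≤ Nat.card T₁ := card_le_of_le hY₁T₁
        _ = Nat.card T := by rw [hTeq, card_conjBy]
        _ ≤ Nat.card X := card_le_of_le hle
    exact absurd (Set.Finite.card_lt_card (Set.toFinite _) hlt₁) (not_lt.2 h1)
  have hNtop : N ≠ ⊤ := ms_normalizer_ne_top hG hX1 (ms_isPGroup_ne_top hG hXp)
  haveI : Group.IsSolvable N := ms_solvable hG hNtop
  -- the normalizer factorizes
  have hfac : ∀ k ∈ N, ∃ y ∈ normalizer ((P : Subgroup G) : Set G),
      ∃ c ∈ centralizer (X : Set G), k = y * c := by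
    intro k hk
    have hkk := factor_of_pLength_one (ms_pLengthLE_one hG hNtop) hTN hTp
      (fun U hU hUN hTU => sylow_map_max R hU hUN hTU) hk
    rw [← SetLike.mem_coe, sup_comm, coe_mul_of_left_le_normalizer_right _ _
      (inf_le_left.trans le_normalizer_coCore)] at hkk
    obtain ⟨s, hs, o, ho, rfl⟩ := hkk
    have hoC : o ∈ centralizer (X : Set G) :=
      le_centralizer_of_inf_eq_bot (coCore_le.trans le_rfl) (le_normalizer.trans le_normalizer_coCore)
        ((inf_comm _ _).trans (inf_eq_bot_of_isPGroup hXp not_dvd_coCore)) ho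
    obtain ⟨m, hm, c, hc, e⟩ := ih' hXT' hTP s (by rw [conjBy_eq_self_iff.2 hs.2]; exact hTP)
    exact ⟨m, hm, c * o, mul_mem hc hoC, by show s * o = m * (c * o); rw [e, mul_assoc]⟩
  -- the second normalizer
  obtain ⟨R₂, hR₂⟩ := ((hPg.to_le (inf_le_right : N ⊓ conjBy g⁻¹ (P : Subgroup G) ≤ _)).of_equiv
    (subgroupOfEquivOfLe (inf_le_left : N ⊓ conjBy g⁻¹ (P : Subgroup G) ≤ N)).symm).exists_le_sylow
  obtain ⟨k, hk⟩ := MulAction.exists_smul_eq N R₂ R
  set Y₃ := conjBy (k : G) (N ⊓ conjBy g⁻¹ (P : Subgroup G)) with hY₃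
  have hY₃T : Y₃ ≤ T := by
    rintro _ ⟨y, hy, rfl⟩
    refine ⟨k * ⟨y, hy.1⟩ * k⁻¹, ?_, rfl⟩
    rw [← hk, Sylow.coe_subgroup_smul]
    exact ⟨⟨y, hy.1⟩, hR₂ hy, rfl⟩
  have hlt₃ : X < Y₃ := by
    refine lt_of_le_not_ge ?_ fun hle => ?_
    · conv_lhs => rw [← conjBy_eq_self_iff.2 k.2]
      exact map_mono hlt₂.le
    · have h2 : Nat.card ↥(N ⊓ conjBy g⁻¹ (P : Subgroup G)) ≤ Nat.card X := by
        rw [← card_conjBy (k : G)]; exact card_le_of_le hle
      exact absurd (Set.Finite.card_lt_card (Set.toFinite _) hlt₂) (not_lt.2 h2)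
  obtain ⟨m₂, hm₂, c₂, hc₂, e₂⟩ := ih' hlt₃ (hY₃T.trans hTP) (g * (k : G)⁻¹) (by
    rw [hY₃, conjBy_conjBy, inv_mul_cancel_right]
    refine le_trans (map_mono inf_le_right) ?_
    change conjBy g (conjBy g⁻¹ (P : Subgroup G)) ≤ (P : Subgroup G)
    rw [conjBy_conjBy, mul_inv_cancel, conjBy_one])
  obtain ⟨m₃, hm₃, c₃, hc₃, e₃⟩ := hfac k k.2
  have hm₃N : m₃ ∈ N := by
    rw [show m₃ = (k : G) * c₃⁻¹ by rw [e₃, mul_inv_cancel_right]]
    exact mul_mem k.2 (inv_mem (CfsgLib.Coprime.centralizer_le_normalizer_self X hc₃))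
  refine ⟨m₂ * m₃, mul_mem hm₂ hm₃, (m₃⁻¹ * c₂ * m₃⁻¹⁻¹) * c₃, mul_mem
    (conj_mem_of_le_normalizer (CfsgLib.Coprime.normalizer_le_normalizer_centralizer X)
      (inv_mem hm₃N) hc₂) hc₃, ?_⟩
  calc g = g * (k : G)⁻¹ * (k : G) := by group
    _ = m₂ * c₂ * (m₃ * c₃) := by rw [e₂, e₃]
    _ = _ := by group

/-- A Sylow subgroup lies in the derived group of its normalizer. -/
theorem sylow_le_commutator_normalizer (P : Sylow p G) :
    (P : Subgroup G) ≤ ⁅(P : Subgroup G), normalizer ((P : Subgroup G) : Set G)⁆ := by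
  have h1 : (P : Subgroup G).focalSubgroup ≤ ⁅(P : Subgroup G), normalizer ((P : Subgroup G) : Set G)⁆ := by
    refine CfsgLib.Fusion.focalSubgroup_le_of_control fun x hx g hg => ?_
    obtain ⟨y, hy, c, hc, rfl⟩ := sylow_fusion hG P (zpowers_le.2 hx) (g := g) (by
      rw [show conjBy g (zpowers x) = zpowers (g * x * g⁻¹) from MonoidHom.map_zpowers _ _]
      exact zpowers_le.2 hg)
    refine ⟨y, hy, ?_⟩
    have h2 : x * c = c * x := mem_centralizer_iff.1 hc x (mem_zpowers x)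
    rw [show y * c * x * (y * c)⁻¹ = y * (c * x * c⁻¹) * y⁻¹ by group, ← h2, mul_inv_cancel_right]
  haveI : IsSimpleGroup G := hG.2.1
  have hperf : commutator G = ⊤ := by
    refine ((inferInstance : (commutator G).Normal).eq_bot_or_eq_top).resolve_left fun h => ?_
    refine ms_isSolvable_top hG (CfsgLib.Coprime.isSolvable_of_isMulCommutative ⟨⟨fun a b => ?_⟩⟩)
    have h3 : ⁅(a : G), (b : G)⁆ ∈ commutator G := by
      rw [_root_.commutator_def]; exact commutator_mem_commutator (mem_top _) (mem_top _)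
    rw [h, mem_bot] at h3
    exact Subtype.ext (commutatorElement_eq_one_iff_mul_comm.1 h3)
  have h4 := CfsgLib.Fusion.commutator_inf_eq_focal (CfsgLib.Fusion.coprime_card_focalQuotient P)
  rw [hperf, top_inf_eq] at h4
  exact h4.le.trans h1

/-- The normalizer in `P` of a subgroup of `P` has index prime to `p` in the whole normalizer. -/
theorem sylow_normalizer_not_dvd (P : Sylow p G) {Q : Subgroup G} (hQP : Q ≤ (P : Subgroup G)) :
    ¬ p ∣ ((P : Subgroup G) ⊓ normalizer (Q : Set G)).relIndex (normalizer (Q : Set G)) := by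
  set N := normalizer (Q : Set G)
  set T₀ := (P : Subgroup G) ⊓ N
  obtain ⟨R, hR⟩ := ((P.2.to_le (inf_le_left : T₀ ≤ _)).of_equiv
    (subgroupOfEquivOfLe (inf_le_right : T₀ ≤ N)).symm).exists_le_sylow
  set T := (R : Subgroup N).map N.subtype with hT
  have hTp : IsPGroup p T := R.2.map _
  have hT₀T : T₀ ≤ T := fun x hx => ⟨⟨x, hx.2⟩, hR hx, rfl⟩
  obtain ⟨S', hS'⟩ := hTp.exists_le_sylow
  obtain ⟨h, hh⟩ := MulAction.exists_smul_eq G S' P
  have hhT : conjBy h T ≤ (P : Subgroup G) := by rw [← hh]; exact map_mono hS'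
  have hQT₀ : Q ≤ T₀ := le_inf hQP le_normalizer
  obtain ⟨y, hy, c, hc, e⟩ := sylow_fusion hG P hQP (g := h)
    ((map_mono (hQT₀.trans hT₀T)).trans hhT)
  have hQh : conjBy h Q = conjBy y Q := by
    rw [e, ← conjBy_conjBy,
      conjBy_eq_self_iff.2 (CfsgLib.Coprime.centralizer_le_normalizer_self Q hc)]
  have hle : conjBy h T ≤ (P : Subgroup G) ⊓ normalizer (conjBy y Q : Set G) := by
    refine le_inf hhT ?_
    rw [← hQh]
    exact (map_mono (map_subtype_le _)).trans (le_normalizer_map _)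
  have h1 : Nat.card T ≤ Nat.card T₀ := by
    have hfull : conjBy y T₀ = (P : Subgroup G) ⊓ normalizer (conjBy y Q : Set G) := by
      show (T₀).map _ = _
      rw [Subgroup.map_inf _ _ _ (MulAut.conj y).injective,
        map_normalizer_eq_of_bijective Q (f := (MulAut.conj y).toMonoidHom) (MulAut.conj y).bijective]
      exact congrArg₂ (· ⊓ ·) (conjBy_eq_self_iff.2 hy) rfl
    rw [← card_conjBy y T₀, hfull, ← card_conjBy h T]
    exact card_le_of_le hle
  have h2 : T₀ = T := eq_of_le_of_card_ge hT₀T h1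
  show ¬ p ∣ T₀.relIndex N
  rw [h2, hT, relIndex, subgroupOf, comap_map_eq_self_of_injective N.subtype_injective]
  exact R.not_dvd_index

end CfsgLib.CFun
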