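import Cfsg.Agent.Lib.CFun.OddPrimeActionBase
import Cfsg.Agent.Lib.CFun.OddFixLine
import Cfsg.Agent.Lib.CFun.OddZgroupLength
import Cfsg.Agent.Lib.CFun.OddSylowFusion

/-!
# Commuting elements of prime order in a complement act alike on the `σ`-core

For `p ∈ τ₁(M)`, a subgroup `P` of order `p` and a subgroup `R` of prime order centralizing it,
no nontrivial `q`-subgroup `Q` of `C(P) ∩ M_σ` satisfies `[Q, R] = Q`.
-/

set_option autoImplicit false
set_option linter.style.haveILetI false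
set_option linter.unusedSectionVars false

open Subgroup
open scoped commutatorElement
open CfsgLib.Coprime (conjBy conjBy_conjBy conjBy_one mem_conjBy conj_mem_conjBy IsSylowIn)

namespace CfsgLib.CFun.TauTwo

universe u

variable {G : Type u} [Group G] [Finite G] {p : ℕ} [hp : Fact p.Prime]

/-- Invariant Sylow subgroups of `L` inside a normal subgroup `D` of index prime to `p`. -/
theorem exists_invariant_max {L D K P : Subgroup G} (hDL : D ≤ L)
    (hLD : L ≤ normalizer (D : Set G)) (hidx : ¬ p ∣ D.relIndex L) (hKL : K ≤ L)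
    (hcop : (Nat.card K).Coprime (Nat.card D)) (hsol : Group.IsSolvable D) (hP : IsPGroup p P)
    (hPL : P ≤ L) (hKP : K ≤ normalizer (P : Set G)) :
    ∃ T : Subgroup G, IsPGroup p T ∧ T ≤ D ∧ P ≤ T ∧ K ≤ normalizer (T : Set G) ∧
      ∀ U : Subgroup G, IsPGroup p U → U ≤ L → T ≤ U → U = T := by
  have hPD : P ≤ D := by
    haveI : (D.subgroupOf L).Normal := normal_subgroupOf_of_le_normalizer hLD
    have h1 : P.subgroupOf L ≤ D.subgroupOf L := le_normal_of_coprime_index (by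
      obtain ⟨k, hk⟩ := IsPGroup.iff_card.1 hP
      rw [Nat.card_congr (subgroupOfEquivOfLe hPL).toEquiv, hk]
      exact (hp.out.coprime_iff_not_dvd.2 hidx).pow_left k)
    exact fun x hx => h1 (show (⟨x, hPL hx⟩ : L) ∈ P.subgroupOf L from hx)
  obtain ⟨T, hT, hPT, hKT⟩ := CfsgLib.Coprime.le_invariant_sylow (hKL.trans hLD) hcop
    (Or.inr hsol) hPD hP hKP
  exact ⟨T, hT.isPGroup, hT.1, hPT, hKT,
    fun U hU hUL hTU => max_of_isSylowIn (isSylowIn_of_relIndex hT hDL hidx) hU hUL hTU⟩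

omit hp in
/-- Commutator subgroups modulo a normal subgroup. -/
theorem not_dvd_derived_of_factor {H D N : Subgroup G} {s : ℕ} (hs : s.Prime)
    (hHD : H ≤ normalizer (D : Set G)) (hDH : D ≤ H) (hNH : N ≤ H) (h : H ≤ D ⊔ N)
    (hsD : ¬ s ∣ Nat.card D) (hsN : ¬ s ∣ Nat.card ↥(⁅N, N⁆ : Subgroup G)) :
    ¬ s ∣ Nat.card ↥(⁅H, H⁆ : Subgroup G) := by
  intro hd
  have h1 := hd.trans (card_dvd_of_le ((derived_le_of_factor hHD hDH hNH h).trans
    (sup_comm D ⁅N, N⁆).le))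
  exact (hs.dvd_mul.1 (h1.trans (CfsgLib.Coprime.card_sup_dvd_of_le_normalizer
    (((commutator_le_self N).trans hNH).trans hHD)))).elim hsN hsD

/-- A Frattini argument. -/
theorem exists_mul_normalizer_sylow {C Q : Subgroup G} (hQ : IsSylowIn p Q C) {n : G}
    (hn : n ∈ normalizer (C : Set G)) : ∃ c ∈ C, c⁻¹ * n ∈ normalizer (Q : Set G) := by
  obtain ⟨c, hc, h⟩ := hQ.exists_conj (hQ.conjBy hn)
  refine ⟨c, hc, CfsgLib.Coprime.conjBy_eq_self_iff.1 ?_⟩
  rw [← conjBy_conjBy, ← h, conjBy_conjBy, inv_mul_cancel, conjBy_one]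

/-- An operator group with fixed elements of order `p` in a uniqueness position. -/
theorem centralizes_sylow_of_ideal (hG : Cfsg.IsMinSimpleOddOrder G)
    (hid : Cfsg.IsIdealPrime p G) {L H : Subgroup G} (hL : IsCoatom L) (hH : IsCoatom H)
    (hne : H ≠ L) {r : ℕ} [hr : Fact r.Prime] {R : Subgroup G} (hR : Nat.card R = r)
    (hRH : centralizer (R : Set G) ≤ H) {Q T P : Subgroup G}
    (hrp : r ≠ p) (hQc : (⁅Q, R⁆ : Subgroup G) = Q) (hRQ : R ≤ normalizer (Q : Set G))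
    (hrQ : ¬ r ∣ Nat.card Q) (hpQ : ¬ p ∣ Nat.card Q) (hT : IsPGroup p T) (hTL : T ≤ L)
    (hRT : R ≤ normalizer (T : Set G)) (hQT : Q ≤ normalizer (T : Set G)) (hPT : P ≤ T)
    (hP : Nat.card P = p) (hPR : P ≤ centralizer (R : Set G))
    (hPQ : P ≤ centralizer (Q : Set G)) : Q ≤ centralizer (T : Set G) := by
  obtain ⟨a, ha, ha1⟩ : ∃ a ∈ R, a ≠ 1 :=
    (bot_or_exists_ne_one R).resolve_left (line_ne_bot hR)
  have hap : a ^ r = 1 := orderOf_dvd_iff_pow_eq_one.1 (hR ▸ orderOf_dvd_natCard R ha)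
  have haR : zpowers a = R := eq_of_le_of_card_ge (zpowers_le.2 ha)
    (by rw [Nat.card_zpowers, orderOf_eq_prime hap ha1, hR])
  have hp2 : p ≠ 2 := ms_ne_two hG ((dvd_of_eq hP.symm).trans (card_subgroup_dvd_card P))
  refine FixLine.le_centralizer_of_fixed_commute hp2 hr.out hrp hap (hRQ ha) (haR.symm ▸ hQc)
    (hG.1.of_dvd_nat (card_subgroup_dvd_card Q)) hrQ hpQ _ T le_rfl hT (hRT ha) hQT
    fun x hx hxp hax u hu => ?_
  suffices hxP : x ∈ P by exact mem_centralizer_iff.1 (hPQ hxP) u hu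
  have hPW : P ≤ T ⊓ centralizer (R : Set G) := le_inf hPT hPR
  have hxW : x ∈ T ⊓ centralizer (R : Set G) := by
    refine mem_inf.2 ⟨hx, ?_⟩
    rw [← haR, centralizer_zpowers]
    exact mem_centralizer_singleton_iff.2 hax.symm
  by_cases hc : IsCyclic ↥(T ⊓ centralizer (R : Set G))
  · exact eq_of_cyclic hc hPW (zpowers_le.2 hxW)
      (fun y hy => orderOf_dvd_iff_pow_eq_one.1 (hP ▸ orderOf_dvd_natCard P hy))
      (fun y hy => by obtain ⟨i, rfl⟩ := mem_zpowers_iff.1 hy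
                      rw [← zpow_natCast, ← zpow_mul, mul_comm, zpow_mul, zpow_natCast, hxp,
                        one_zpow])
      (line_ne_bot hP) (mem_zpowers x)
  · exfalso
    obtain ⟨V, -, hVW, hVe, hV2⟩ := exists_elementary_over hp2
      (hT.to_inf_left : IsPGroup p ↥(T ⊓ centralizer (R : Set G))) hc hPW hP
    exact hne ((ideal_unique hG hid hVe hV2).unique
      ⟨hH, hVW.trans (inf_le_right.trans hRH)⟩ ⟨hL, hVW.trans (inf_le_left.trans hTL)⟩)

variable (hG : Cfsg.IsMinSimpleOddOrder G)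
include hG

/-- A maximal subgroup containing a Sylow subgroup of `L` at a prime of `α(L)` is `L`. -/
theorem eq_of_alpha_sylow_le {L H T : Subgroup G} (hL : IsCoatom L) (hH : IsCoatom H)
    (hpα : p ∈ Cfsg.alpha L) (hT : IsPGroup p T) (hTL : T ≤ L)
    (hmax : ∀ U : Subgroup G, IsPGroup p U → U ≤ L → T ≤ U → U = T) (hTH : T ≤ H) : H = L := by
  have h3 : ¬ Cfsg.PRankLE p 2 T := fun h => hpα.2 (pRankLE_of_sylow (sylowOfMax hT hTL hmax) (by
    rw [coe_sylowOfMax, map_subgroupOf_eq_of_le hTL]; exact h))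
  obtain ⟨V, hVT, hVe, hV3⟩ := exists_elementary_of_not_pRankLE h3
  exact (unique_elementary_three hG hVe hV3.ge).unique ⟨hH, hVT.trans hTH⟩ ⟨hL, hVT.trans hTL⟩

/-- A prime of `σ(L)` outside `β(L)` is not ideal. -/
theorem not_ideal_of_sigma_not_beta {L : Subgroup G} (hL : IsCoatom L) (hpσ : p ∈ Cfsg.sigma L)
    (hpβ : p ∉ Cfsg.beta L) : ¬ Cfsg.IsIdealPrime p G := by
  intro hid
  have hr2 : Cfsg.PRankLE p 2 L :=
    pRankLE_two_of_not_alpha hp.out fun h => hpβ ⟨h, hid⟩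
  obtain ⟨S, -, hSL⟩ := exists_sylow_of_sigma hG hL hpσ (IsPGroup.of_bot (p := p)) bot_le
  exact hid.2.1 (pRankLE_of_sylow_top S
    (RankTwoTower.pRankLE_of_injective (f := inclusion hSL) (inclusion_injective hSL) hr2))

omit hp in
/-- Outside `σ`, a prime is in `τ₂` or has rank one. -/
theorem tau_or_rank_one {L : Subgroup G} (hL : IsCoatom L) {r : ℕ} (hr : r.Prime)
    (hrσ : r ∉ Cfsg.sigma L) : r ∈ Cfsg.tau2 L ∨ Cfsg.PRankLE r 1 L := by
  haveI : Fact r.Prime := ⟨hr⟩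
  by_cases h : Cfsg.PRankLE r 1 L
  · exact Or.inr h
  · exact Or.inl (mem_tau_iff.2
      ⟨hrσ, pRankLE_two_of_not_alpha hr fun h' => hrσ (alpha_subset_sigma hG hL h'), h⟩)

omit hG in
/-- Two commuting subgroups `P`, `R` of prime order and a `q`-group `Q` moved by `R` and fixed
by `P`. -/
structure ActConfig (M P R Q : Subgroup G) (p r q : ℕ) : Prop where
  coatom : IsCoatom M
  tau : p ∈ Cfsg.tau1 M
  leP : P ≤ M
  cardP : Nat.card P = p
  cardR : Nat.card R = r
  leR : R ≤ M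
  commR : R ≤ centralizer (P : Set G)
  rp : r ≠ p
  rnot : r ∉ Cfsg.sigma M
  isQ : IsPGroup q Q
  leQ : Q ≤ Cfsg.sigmaCore M
  commQ : Q ≤ centralizer (P : Set G)
  normQ : R ≤ normalizer (Q : Set G)
  comm : (⁅Q, R⁆ : Subgroup G) = Q
  neQ : Q ≠ ⊥

variable {r q : ℕ} [hr : Fact r.Prime] [hq : Fact q.Prime] {M P R Q L : Subgroup G}

omit hp hr in
theorem ActConfig.sigma_mem (h : ActConfig M P R Q p r q) : q ∈ Cfsg.sigma M :=
  (sigmaCore_hall hG h.coatom).1.2.1 q hq.out (mem_of_isPGroup h.isQ h.neQ h.leQ)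

omit hp hr in
theorem ActConfig.q_ne_p (h : ActConfig M P R Q p r q) : q ≠ p := fun e =>
  h.tau.2.1 (e ▸ h.sigma_mem hG)

omit hp hr in
theorem ActConfig.q_ne_r (h : ActConfig M P R Q p r q) : q ≠ r := fun e =>
  h.rnot (e ▸ h.sigma_mem hG)

omit hp hr in
theorem ActConfig.leQM (h : ActConfig M P R Q p r q) : Q ≤ M :=
  h.leQ.trans (map_subtype_le _)

omit hr in
theorem ActConfig.le_over (h : ActConfig M P R Q p r q)
    (hNP : normalizer (P : Set G) ≤ L) : P ≤ L ∧ R ≤ L ∧ Q ≤ L :=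
  ⟨le_normalizer.trans hNP,
    h.commR.trans ((CfsgLib.Coprime.centralizer_le_normalizer_self _).trans hNP),
    h.commQ.trans ((CfsgLib.Coprime.centralizer_le_normalizer_self _).trans hNP)⟩

omit hr in
theorem ActConfig.not_conj (h : ActConfig M P R Q p r q)
    (hNP : normalizer (P : Set G) ≤ L) : NotConj M L :=
  rank_one_not_conj hG h.coatom h.tau.2.1 h.tau.2.2.2.2 h.cardP hNP

theorem ActConfig.r_not_sigma (h : ActConfig M P R Q p r q) (hL : IsCoatom L)
    (hNP : normalizer (P : Set G) ≤ L) : r ∉ Cfsg.sigma L := by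
  intro hrL
  obtain ⟨-, hRL, hQL⟩ := h.le_over hG hNP
  have h1 := centralizes_of_sigma hG h.coatom hL (h.not_conj hG hNP) h.rnot hrL
    (IsPGroup.of_card (n := 1) (by rw [h.cardR, pow_one])) h.leR hRL
  refine h.neQ (h.comm.symm.trans (commutator_eq_bot_iff_le_centralizer.2 ?_))
  exact le_centralizer_iff.1 (h1.trans (centralizer_le (le_inf h.leQ hQL)))

theorem ActConfig.not_dvd_Q (h : ActConfig M P R Q p r q) :
    ¬ r ∣ Nat.card Q ∧ ¬ p ∣ Nat.card Q :=
  ⟨not_dvd_of_isPGroup (h.q_ne_r hG) h.isQ, not_dvd_of_isPGroup (h.q_ne_p hG) h.isQ⟩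

theorem ActConfig.dvd_sup (h : ActConfig M P R Q p r q) {s : ℕ} (hs : s.Prime)
    (hd : s ∣ Nat.card ↥(R ⊔ Q ⊔ P)) : s = r ∨ s = q ∨ s = p := by
  have h1 : R ⊔ Q ≤ normalizer (P : Set G) :=
    (sup_le h.commR h.commQ).trans (CfsgLib.Coprime.centralizer_le_normalizer_self _)
  rcases hs.dvd_mul.1 (hd.trans (CfsgLib.Coprime.card_sup_dvd_of_le_normalizer h1)) with h2 | h2
  · rcases hs.dvd_mul.1 (h2.trans (CfsgLib.Coprime.card_sup_dvd_of_le_normalizer h.normQ))
      with h3 | h3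
    · rw [h.cardR] at h3; exact Or.inl ((Nat.prime_dvd_prime_iff_eq hs hr.out).1 h3)
    · obtain ⟨k, hk⟩ := IsPGroup.iff_card.1 h.isQ
      rw [hk] at h3
      exact Or.inr (Or.inl ((Nat.prime_dvd_prime_iff_eq hs hq.out).1 (hs.dvd_of_dvd_pow h3)))
  · rw [h.cardP] at h2; exact Or.inr (Or.inr ((Nat.prime_dvd_prime_iff_eq hs hp.out).1 h2))

theorem ActConfig.dvd_sup_two (h : ActConfig M P R Q p r q) {s : ℕ} (hs : s.Prime)
    (hd : s ∣ Nat.card ↥(R ⊔ Q)) : s = r ∨ s = q := by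
  rcases hs.dvd_mul.1 (hd.trans (CfsgLib.Coprime.card_sup_dvd_of_le_normalizer h.normQ))
    with h3 | h3
  · rw [h.cardR] at h3; exact Or.inl ((Nat.prime_dvd_prime_iff_eq hs hr.out).1 h3)
  · obtain ⟨k, hk⟩ := IsPGroup.iff_card.1 h.isQ
    rw [hk] at h3
    exact Or.inr ((Nat.prime_dvd_prime_iff_eq hs hq.out).1 (hs.dvd_of_dvd_pow h3))

/-- `p ∈ τ₂(L)` is impossible. -/
theorem ActConfig.no_tau (h : ActConfig M P R Q p r q) (hL : IsCoatom L)
    (hNP : normalizer (P : Set G) ≤ L) (hτ : p ∈ Cfsg.tau2 L) : False := by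
  obtain ⟨hPL, hRL, hQL⟩ := h.le_over hG hNP
  obtain ⟨hpσ, hpr2, hpr1⟩ := mem_tau_iff.1 hτ
  have hqσ : q ∉ Cfsg.sigma L := fun hqL => by
    obtain ⟨B, hBL, hBe, hB2⟩ := exists_elementary_of_not_pRankLE hpr1
    exact sigma_nilpotent_conj hG h.coatom hL (tau_nilpotent hG hL hτ hBL hBe hB2)
      (h.sigma_mem hG) hqL (h.not_conj hG hNP)
  obtain ⟨E, hE, hKE⟩ := exists_complement hG hL (sup_le (sup_le hRL hQL) hPL) fun s hs hsd => by
    rcases h.dvd_sup hG hs hsd with rfl | rfl | rfl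
    exacts [h.r_not_sigma hG hL hNP, hqσ, hpσ]
  have hRE : R ≤ E := (le_sup_left.trans le_sup_left).trans hKE
  have hQE : Q ≤ E := (le_sup_right.trans le_sup_left).trans hKE
  have hPE : P ≤ E := le_sup_right.trans hKE
  obtain ⟨A, hAE, hAe, hA2⟩ := Compl.exists_elementary_compl hG hL hE hτ
  obtain ⟨⟨hEA, hsub⟩, -, -⟩ := Cfsg.Agent.S1418.result hG L hL E hE p hτ A ⟨hAE, hAe, hA2⟩
  have hPA : P ≤ A := hsub P hPE h.cardP
  set Y := core (⁅E, E⁆ : Subgroup G) q with hY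
  have hQd : Q ≤ ⁅E, E⁆ := h.comm ▸ commutator_mono hQE hRE
  haveI := (Cfsg.Agent.S1420.result hG L hL E hE).2.1
  have hQY : Q ≤ Y := by
    refine ZLen.le_core_of_normal hQd (le_trans (fun x hx => ?_)
      (CfsgLib.Coprime.centralizer_le_normalizer_self _)) h.isQ
    exact mem_centralizer_iff.2 fun y hy =>
      (congrArg Subtype.val (mul_comm' (⟨y, hQd hy⟩ : ↥(⁅E, E⁆ : Subgroup G)) ⟨x, hx⟩) :)
  have hEY : E ≤ normalizer (Y : Set G) :=
    (le_normalizer.trans (FixLine.normalizer_le_normalizer_derived E)).trans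
      (ZLen.normalizer_le_normalizer_core _ q)
  have hAY : Y ≤ centralizer (A : Set G) :=
    tau_centralizes_not_sigma hG hL hτ (hAE.trans hE.1) hAe hA2 hqσ (h.q_ne_p hG) isPGroup_core
      (core_le.trans ((commutator_le_self E).trans hE.1)) (hAE.trans hEY)
  obtain ⟨z, hzo⟩ := exists_prime_orderOf_dvd_card' q (mem_of_isPGroup h.isQ h.neQ le_rfl)
  have hZQ : zpowers (z : G) ≤ Q := zpowers_le.2 z.2
  refine no_rank_two_centralizer hG h.coatom (h.sigma_mem hG)
    (Z := zpowers (z : G)) (by rw [Nat.card_zpowers, orderOf_coe, hzo]) (hZQ.trans (h.leQM hG)) hAe hA2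
    ((le_centralizer_iff.1 (hQY.trans hAY)).trans (centralizer_le hZQ)) h.tau.2.2.2.2
    (not_ideal_of_rank_two hG hL hpr2 hpr1) (fun e => line_ne_bot h.cardP
      (le_bot_iff.1 (e ▸ le_inf hPA h.leP))) (h.q_ne_p hG).symm

/-- The case `q ∉ σ(L)`. -/
theorem ActConfig.no_sigma_q (h : ActConfig M P R Q p r q) (hL : IsCoatom L)
    (hNP : normalizer (P : Set G) ≤ L) (hqσ : q ∉ Cfsg.sigma L) : False := by
  obtain ⟨hPL, hRL, hQL⟩ := h.le_over hG hNP
  obtain hpσ | hτ := normalizer_sigma_or_tau hG hL h.cardP hNP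
  swap
  · exact h.no_tau hG hL hNP hτ
  have hrσ := h.r_not_sigma hG hL hNP
  have hnc := h.not_conj hG hNP
  obtain ⟨hpM', hMr1⟩ := h.tau.2.2.2
  obtain ⟨E, hE, hKE⟩ := exists_complement hG hL (sup_le hRL hQL) fun s hs hsd => by
    rcases h.dvd_sup_two hG hs hsd with rfl | rfl
    exacts [hrσ, hqσ]
  have hRE : R ≤ E := le_sup_left.trans hKE
  have hQE : Q ≤ E := le_sup_right.trans hKE
  have hQd : Q ≤ ⁅L, L⁆ := h.comm ▸ commutator_mono hQL hRL
  have hr1 : Cfsg.PRankLE r 1 L := by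
    rcases tau_or_rank_one hG hL hr.out hrσ with hrt | hr1
    swap
    · exact hr1
    exfalso
    obtain ⟨B, hBE, hBe, hB2⟩ := Compl.exists_elementary_compl hG hL hE hrt
    obtain ⟨⟨hEB, hsub⟩, -, -⟩ := Cfsg.Agent.S1418.result hG L hL E hE r hrt B ⟨hBE, hBe, hB2⟩
    have hRB : R ≤ B := hsub R hRE h.cardR
    have hQB : (⁅Q, R⁆ : Subgroup G) ≤ B := commutator_le.2 fun u hu v hv => by
      rw [commutatorElement_def]
      exact mul_mem ((mem_normalizer_iff.1 (hEB (hQE hu)) v).1 (hRB hv)) (inv_mem (hRB hv))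
    rw [h.comm] at hQB
    exact h.neQ ((inf_eq_left.2 hQB).symm.trans
      (inf_eq_bot_of_isPGroup h.isQ (not_dvd_of_isPGroup (h.q_ne_r hG).symm
        (isPGroup_of_elementary hBe))))
  obtain ⟨z, hzo⟩ := exists_prime_orderOf_dvd_card' q (mem_of_isPGroup h.isQ h.neQ le_rfl)
  set Z := zpowers (z : G) with hZdef
  have hZQ : Z ≤ Q := zpowers_le.2 z.2
  have hZc : Nat.card Z = q := by rw [hZdef, Nat.card_zpowers, orderOf_coe, hzo]
  have hZp : IsPGroup q Z := IsPGroup.of_card (n := 1) (by rw [hZc, pow_one])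
  have hq2 : q ≠ 2 := ms_ne_two hG ((dvd_of_eq hZc.symm).trans (card_subgroup_dvd_card Z))
  have hqr1 : Cfsg.PRankLE q 1 L := by
    rcases tau_or_rank_one hG hL hq.out hqσ with hqt | hqr1
    swap
    · exact hqr1
    exfalso
    obtain ⟨B, hBE, hBe, hB2⟩ := Compl.exists_elementary_compl hG hL hE hqt
    obtain ⟨⟨-, hsub⟩, -, huniq⟩ := Cfsg.Agent.S1418.result hG L hL E hE q hqt B ⟨hBE, hBe, hB2⟩
    have hPσ : P ≤ Cfsg.sigmaCore L :=
      isPGroup_le_sigmaCore hG hL hpσ (IsPGroup.of_card (n := 1) (by rw [h.cardP, pow_one])) hPL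
    have hZL : centralizer (Z : Set G) ≤ L :=
      (huniq Z (hsub Z (hZQ.trans hQE) hZc) hZc fun e => line_ne_bot h.cardP (le_bot_iff.1
        (e ▸ le_inf hPσ ((le_centralizer_iff.1 h.commQ).trans (centralizer_le hZQ))))).1
    obtain ⟨S, hZS, hSM⟩ :=
      exists_sylow_of_sigma hG h.coatom (h.sigma_mem hG) hZp (hZQ.trans (h.leQM hG))
    by_cases hc : IsCyclic (S : Subgroup G)
    · obtain ⟨S', hBS'⟩ := (isPGroup_of_elementary hBe).exists_le_sylow
      obtain ⟨g, hg⟩ := exists_conjBy_sylow S' S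
      have h1 := card_le_of_cyclic (q := q) hc ((map_mono hBS').trans hg.ge : conjBy g B ≤ S)
        (fun y hy => by obtain ⟨b, hb, rfl⟩ := hy; rw [← map_pow, hBe.2 b hb, map_one])
      rw [CfsgLib.Coprime.card_conjBy, hB2] at h1
      exact absurd h1 (not_le.2 (lt_self_pow₀ hq.out.one_lt (by norm_num)))
    · obtain ⟨B', hZB', hB'S, hB'e, hB'2⟩ := exists_elementary_over hq2 S.2 hc hZS hZc
      have hB'L : B' ≤ L := (le_centralizer_line hB'e hZB').trans hZL
      have hinf := tau_inf_eq_bot hG hL hqt hB'L hB'e hB'2 h.coatom hnc.ne.symm (hB'S.trans hSM)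
      exact line_ne_bot h.cardP (le_bot_iff.1 (hinf ▸ le_inf hPσ h.leP))
  have hQsol : Group.IsSolvable ↥(R ⊔ Q) := CfsgLib.Coprime.isSolvable_of_le (sup_le hRL hQL) (ms_solvable hG hL.1)
  have hCZ : centralizer (Q : Set G) ≤ centralizer (Z : Set G) := centralizer_le hZQ
  obtain ⟨H, hH, hNZ⟩ := exists_coatom_normalizer hG (line_ne_bot hZc) (ms_isPGroup_ne_top hG hZp)
  have hCH : centralizer (Z : Set G) ≤ H :=
    (CfsgLib.Coprime.centralizer_le_normalizer_self _).trans hNZ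
  have hPp : IsPGroup p P := IsPGroup.of_card (n := 1) (by rw [h.cardP, pow_one])
  have hKP : R ⊔ Q ≤ normalizer (P : Set G) :=
    (sup_le h.commR h.commQ).trans (CfsgLib.Coprime.centralizer_le_normalizer_self _)
  by_cases hpβ : p ∈ Cfsg.beta L
  · obtain ⟨hhall, -⟩ := betaCore_hall hG hL
    obtain ⟨T, hT, hTD, hPT, hKT, hTmax⟩ := exists_invariant_max (hhall.1)
      (le_normalizer_piCoreOf (A := L) (X := L) le_rfl)
      (fun hd => hhall.2.2 p hp.out hpβ hd) (sup_le hRL hQL)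
      (Nat.coprime_of_dvd fun s hs h1 h2 => by
        have h3 : s ∈ Cfsg.sigma L := alpha_subset_sigma hG hL (hhall.2.1 s hs h2).1
        rcases h.dvd_sup_two hG hs h1 with rfl | rfl
        exacts [hrσ h3, hqσ h3]) (CfsgLib.Coprime.isSolvable_of_le hhall.1 (ms_solvable hG hL.1)) hPp hPL hKP
    obtain ⟨H₁, hH₁, hNR⟩ := exists_coatom_normalizer hG (line_ne_bot h.cardR)
      (ms_isPGroup_ne_top hG (IsPGroup.of_card (p := r) (n := 1) (by rw [h.cardR, pow_one])))
    have hne : H₁ ≠ L := fun e =>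
      rank_one_normalizer hG hL hrσ hr1 h.cardR (e ▸ hNR)
    have hQT := centralizes_sylow_of_ideal hG hpβ.2 hL hH₁ hne h.cardR
      ((CfsgLib.Coprime.centralizer_le_normalizer_self _).trans hNR) h.rp h.comm h.normQ
      (h.not_dvd_Q hG).1 (h.not_dvd_Q hG).2 hT (hTD.trans hhall.1) (le_sup_left.trans hKT)
      (le_sup_right.trans hKT) hPT h.cardP (le_centralizer_iff.1 h.commR)
      (le_centralizer_iff.1 h.commQ)
    have hHL : H = L := eq_of_alpha_sylow_le hG hL hH hpβ.1 hT (hTD.trans hhall.1) hTmax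
      (((le_centralizer_iff.1 hQT).trans hCZ).trans hCH)
    exact rank_one_normalizer hG hL hqσ hqr1 hZc (hHL ▸ hNZ)
  have hσhall := (sigmaCore_hall hG hL).1
  obtain ⟨T, hT, hTD, hPT, hKT, hTmax⟩ := exists_invariant_max hσhall.1
    (sigmaCore_normal hG L) (fun hd => hσhall.2.2 p hp.out hpσ hd) (sup_le hRL hQL)
    (Nat.coprime_of_dvd fun s hs h1 h2 => by
      rcases h.dvd_sup_two hG hs h1 with rfl | rfl
      exacts [hrσ (hσhall.2.1 _ hs h2), hqσ (hσhall.2.1 _ hs h2)])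
    (sigmaCore_solvable hG hL) hPp hPL hKP
  have hTL : T ≤ L := hTD.trans hσhall.1
  obtain ⟨S, hS, hSL⟩ := exists_sylow_of_sigma hG hL hpσ hT hTL
  obtain rfl : (S : Subgroup G) = T := hTmax _ S.2 hSL hS
  have hQT : Q ≤ centralizer ((S : Subgroup G) : Set G) := fun x hx => by
    obtain ⟨k, hk⟩ := h.isQ ⟨x, hx⟩
    exact derived_centralizes_non_beta hG hL hpβ hSL S.2 (hQd hx)
      (Nat.Coprime.coprime_dvd_left (orderOf_dvd_of_pow_eq_one (congrArg Subtype.val hk :))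
        (((Nat.coprime_primes hq.out hp.out).2 (h.q_ne_p hG)).pow_left k))
      ((le_sup_right.trans hKT) hx)
  have hid := not_ideal_of_sigma_not_beta hG hL hpσ hpβ
  have hp2 : p ≠ 2 := ms_ne_two hG ((dvd_of_eq h.cardP.symm).trans (card_subgroup_dvd_card P))
  have hSZ : (S : Subgroup G) ≤ centralizer (Z : Set G) := (le_centralizer_iff.1 hQT).trans hCZ
  by_cases hc : IsCyclic (S : Subgroup G)
  swap
  · obtain ⟨A, hPA, hAS, hAe, hA2⟩ := exists_elementary_over hp2 S.2 hc hPT h.cardP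
    exact no_rank_two_centralizer hG h.coatom (h.sigma_mem hG) hZc (hZQ.trans (h.leQM hG)) hAe hA2
      (hAS.trans hSZ) hMr1 hid (fun e => line_ne_bot h.cardP
        (le_bot_iff.1 (e ▸ le_inf hPA h.leP))) (h.q_ne_p hG).symm
  -- the Sylow subgroup is cyclic and lies in the derived group of `H`
  have hCS : centralizer ((S : Subgroup G) : Set G) ≤ L :=
    (CfsgLib.Coprime.centralizer_le_normalizer_self _).trans (sylow_normalizer_le hG hL hpσ S hSL)
  set C := centralizer ((S : Subgroup G) : Set G) with hC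
  have hZC : Z ≤ C := hZQ.trans hQT
  obtain ⟨Q₀, hQ₀⟩ := (hZp.of_equiv (subgroupOfEquivOfLe hZC).symm).exists_le_sylow
  set Q₁ := (Q₀ : Subgroup C).map C.subtype with hQ₁
  have hZQ₁ : Z ≤ Q₁ := fun x hx => ⟨⟨x, hZC hx⟩, hQ₀ hx, rfl⟩
  have hQ₁c : IsCyclic Q₁ := Compl.isCyclic_of_rank_one hq2 (Q₀.2.map _)
    (RankTwoTower.pRankLE_of_injective (f := inclusion ((map_subtype_le _).trans hCS))
      (inclusion_injective _) hqr1)
  have hSH : (S : Subgroup G) ≤ ⁅H, H⁆ := by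
    refine (sylow_le_commutator_normalizer hG S).trans (commutator_le.2 fun s hs n hn => ?_)
    obtain ⟨c, hc', hm⟩ := exists_mul_normalizer_sylow (p := q)
      (CfsgLib.Coprime.isSylowIn_map Q₀)
      (CfsgLib.Coprime.normalizer_le_normalizer_centralizer _ hn)
    have hmH : c⁻¹ * n ∈ H := hNZ (normalizer_le_normalizer_of_cyclic hQ₁c hZQ₁ hm)
    have hmS : c⁻¹ * n ∈ normalizer ((S : Subgroup G) : Set G) :=
      mul_mem (inv_mem (CfsgLib.Coprime.centralizer_le_normalizer_self _ hc')) hn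
    have h1 : ⁅s, c⁻¹ * n⁆ ∈ (S : Subgroup G) := by
      rw [commutatorElement_def, mul_assoc, mul_assoc]
      refine mul_mem hs ?_
      rw [← mul_assoc]
      exact (mem_normalizer_iff.1 hmS _).1 (inv_mem hs)
    have h2 : c * s = s * c := (mem_centralizer_iff.1 hc' s hs).symm
    have h3 : c * ⁅s, c⁻¹ * n⁆ = ⁅s, c⁻¹ * n⁆ * c := (mem_centralizer_iff.1 hc' _ h1).symm
    have h4 : ⁅s, n⁆ = ⁅s, c⁻¹ * n⁆ := by
      calc ⁅s, n⁆ = (s * c) * (c⁻¹ * n) * s⁻¹ * n⁻¹ := by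
            rw [commutatorElement_def]; group
        _ = c * ⁅s, c⁻¹ * n⁆ * c⁻¹ := by
            rw [← h2, commutatorElement_def]; group
        _ = ⁅s, c⁻¹ * n⁆ := by rw [h3, mul_inv_cancel_right]
    rw [h4]
    exact commutator_mem_commutator (hCH (hSZ hs)) hmH
  have hpH : p ∣ Nat.card ↥(⁅H, H⁆ : Subgroup G) :=
    (h.cardP ▸ card_dvd_of_le (hPT.trans hSH))
  by_cases hne : H = M
  · exact hpM' (hne ▸ hpH)
  have hqM := h.sigma_mem hG
  have hZM : Z ≤ M := hZQ.trans (h.leQM hG)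
  have hZ1 := line_ne_bot hZc
  have hPH : P ≤ H := (hPT.trans hSZ).trans hCH
  obtain ⟨U₀, hU₀⟩ := (hZp.of_equiv
    (subgroupOfEquivOfLe (le_inf hZM (le_normalizer.trans hNZ))).symm).exists_le_sylow
  set U := (U₀ : Subgroup ↥(M ⊓ H)).map (M ⊓ H).subtype with hU
  have hUp : IsPGroup q U := U₀.2.map _
  have hUMH : U ≤ M ⊓ H := map_subtype_le _
  have hZU : Z ≤ U := fun x hx =>
    ⟨⟨x, le_inf hZM (le_normalizer.trans hNZ) hx⟩, hU₀ hx, rfl⟩
  have hUmax : ∀ V : Subgroup G, IsPGroup q V → V ≤ M ⊓ H → U ≤ V → V = U :=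
    fun V h1 h2 h3 => sylow_map_max U₀ h1 h2 h3
  have hncH : NotConj M H := fun g e =>
    other_not_conj hG h.coatom hqM hZp hZ1 hZM hH hne hNZ g e.symm
  have hNU := other_normalizer_le hG h.coatom hqM hZp hZ1 hZM hH hne hNZ hUp hUMH hZU hUmax
  have hUy := fun V => other_sylow hG h.coatom hqM hZp hZ1 hZM hH hne hNZ hUp hUMH hZU hUmax
    (U := V)
  have hUH : U ≤ H := hUMH.trans inf_le_right
  have hMd : ¬ p ∣ Nat.card ↥(⁅H ⊓ M, H ⊓ M⁆ : Subgroup G) :=
    fun hd => hpM' (hd.trans (card_dvd_of_le (commutator_mono inf_le_right inf_le_right)))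
  rcases normalizer_sigma_or_tau hG hH hZc hNZ with hqH | hqH
  · obtain ⟨W, hUW, hWH⟩ := exists_sylow_of_sigma hG hH hqH hUp hUH
    have hWU : (W : Subgroup G) = U := hUy _ W.2 hWH hUW
    refine not_dvd_derived_of_factor hp.out (le_normalizer_piCoreOf (A := H) (X := H) le_rfl)
      (betaCore_hall hG hH).1.1 inf_le_left
      ((sigma_factor hG hH hqH (fun hb => alpha_not_sigma hG h.coatom hH hncH hb.1 hqM)
        W hWH).trans (sup_le_sup_left (le_inf inf_le_left (inf_le_right.trans ?_)) _))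
      (fun hd => hid (((betaCore_hall hG hH).1.2.1 p hp.out hd).2)) hMd hpH
    rw [hWU]; exact hNU
  · obtain ⟨hqσH, -, hqrH⟩ := mem_tau_iff.1 hqH
    have hUnc : ¬ IsCyclic U := fun hc => hqrH (pRankLE_of_sylow (sylowOfMax hUp hUH hUy) (by
      rw [coe_sylowOfMax, map_subgroupOf_eq_of_le hUH]
      intro V hVc hVe
      haveI := hc
      exact (card_le_of_cyclic (C := V) inferInstance le_rfl fun y hy => hVe y hy).trans
        (le_of_eq (pow_one q).symm)))
    obtain ⟨B, hBU, -, hBe, hB2⟩ := exists_normal_elementary_two hq2 hUp hUnc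
    have hBM : B ≤ M := hBU.trans (hUMH.trans inf_le_left)
    have hBnc : ¬ IsCyclic B := fun hc => by
      have h1 := card_le_of_cyclic (q := q) hc (le_refl B) hBe.2
      rw [hB2] at h1
      exact absurd h1 (not_le.2 (lt_self_pow₀ hq.out.one_lt (by norm_num)))
    obtain ⟨E₀, hE₀, -⟩ := exists_complement hG h.coatom (bot_le : (⊥ : Subgroup G) ≤ M)
      (fun s hs hsd => by rw [card_bot] at hsd; exact absurd hsd hs.not_dvd_one)
    have hNB := (Cfsg.Agent.S1420.result hG M h.coatom E₀ hE₀).2.2.1 q B hqM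
      (isPGroup_of_elementary hBe) hBM hBnc
    obtain ⟨F, hF, hBF⟩ := exists_complement hG hH (hBU.trans hUH) fun s hs hsd => by
      rw [hB2] at hsd
      rw [(Nat.prime_dvd_prime_iff_eq hs hq.out).1 (hs.dvd_of_dvd_pow hsd)]
      exact hqσH
    have hFM : F ≤ H ⊓ M := le_inf hF.1 ((Cfsg.Agent.S1418.result hG H hH F hF q hqH B
      ⟨hBF, hBe, hB2⟩).1.1.trans hNB)
    have hinf := tau_inf_eq_bot hG hH hqH (hBU.trans hUH) hBe hB2 h.coatom (Ne.symm hne) hBM
    refine not_dvd_derived_of_factor hp.out (sigmaCore_normal hG H) (map_subtype_le _) inf_le_left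
      (fun x hx => ?_) (fun hd => ?_) hMd hpH
    · obtain ⟨a, ha, b, hb, rfl⟩ := hF.2.2.2 x hx
      exact mul_mem (mem_sup_right (hFM ha)) (mem_sup_left hb)
    · exact line_ne_bot h.cardP (le_bot_iff.1 (hinf ▸ le_inf (isPGroup_le_sigmaCore hG hH
        ((sigmaCore_hall hG hH).1.2.1 p hp.out hd) hPp hPH) h.leP))

/-- No `q`-subgroup of `C(P) ∩ M_σ` is moved by a commuting subgroup of prime order. -/
theorem ActConfig.elim (h : ActConfig M P R Q p r q) : False := by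
  have hPp : IsPGroup p P := IsPGroup.of_card (n := 1) (by rw [h.cardP, pow_one])
  have hRp : IsPGroup r R := IsPGroup.of_card (n := 1) (by rw [h.cardR, pow_one])
  obtain ⟨L, hL, hNP⟩ := exists_coatom_normalizer hG (line_ne_bot h.cardP)
    (ms_isPGroup_ne_top hG hPp)
  by_cases hqL : q ∈ Cfsg.sigma L
  swap
  · exact h.no_sigma_q hG hL hNP hqL
  obtain hpσ | hτ := normalizer_sigma_or_tau hG hL h.cardP hNP
  swap
  · exact h.no_tau hG hL hNP hτ
  obtain ⟨hPL, hRL, hQL⟩ := h.le_over hG hNP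
  have hM := h.coatom
  have hrσ := h.r_not_sigma hG hL hNP
  have hnc := h.not_conj hG hNP
  have hqM := h.sigma_mem hG
  obtain ⟨hpM', hMr1⟩ := h.tau.2.2.2
  have hqβL : q ∉ Cfsg.beta L := fun hb => alpha_not_sigma hG hM hL hnc hb.1 hqM
  have hqβM : q ∉ Cfsg.beta M := fun hb => alpha_not_sigma hG hL hM hnc.symm hb.1 hqL
  obtain ⟨S, -, hSM⟩ := exists_sylow_of_sigma hG hM hqM (IsPGroup.of_bot (p := q)) bot_le
  obtain ⟨S', -, hS'L⟩ := exists_sylow_of_sigma hG hL hqL (IsPGroup.of_bot (p := q)) bot_le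
  obtain ⟨g, hg⟩ := exists_conjBy_sylow S S'
  by_cases hpβ : p ∈ Cfsg.beta L
  swap
  · have hN : L ⊓ normalizer ((S' : Subgroup G) : Set G) ≤ conjBy g M := by
      rw [hg, normalizer_conjBy]
      exact inf_le_right.trans (map_mono (sylow_normalizer_le hG hM hqM S hSM))
    refine not_dvd_derived_of_factor hp.out
      (le_normalizer_piCoreOf (A := L) (X := L) le_rfl) (betaCore_hall hG hL).1.1 inf_le_left
      (sigma_factor hG hL hqL hqβL S' hS'L)
      (fun hd => hpβ ((betaCore_hall hG hL).1.2.1 p hp.out hd)) (fun hd => hpM' ?_)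
      ((h.cardP ▸ card_dvd_of_le ((isPGroup_le_sigmaCore hG hL hpσ hPp hPL).trans
        (sigmaCore_le_derived hG hL))))
    have h1 := hd.trans (card_dvd_of_le (commutator_mono hN hN))
    rwa [← map_commutator, CfsgLib.Coprime.card_conjBy] at h1
  -- `p ∈ β(L)`
  obtain ⟨E, hE, hRE⟩ := exists_complement hG hM h.leR fun s hs hsd => by
    rw [h.cardR] at hsd; rw [(Nat.prime_dvd_prime_iff_eq hs hr.out).1 hsd]; exact h.rnot
  have hr1 : Cfsg.PRankLE r 1 M := by
    rcases tau_or_rank_one hG hM hr.out h.rnot with hrt | hr1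
    swap
    · exact hr1
    exfalso
    obtain ⟨B, hBE, hBe, hB2⟩ := Compl.exists_elementary_compl hG hM hE hrt
    exact sigma_nilpotent_conj hG hL hM (tau_nilpotent hG hM hrt (hBE.trans hE.1) hBe hB2)
      hqL hqM hnc.symm
  have hrτ : r ∈ Cfsg.tau1 M := by
    refine ⟨hr.out, h.rnot, h.cardR ▸ card_dvd_of_le h.leR, fun hd => ?_, hr1⟩
    refine h.neQ (h.comm.symm.trans (commutator_eq_bot_iff_le_centralizer.2
      (le_centralizer_iff.1 fun x hx => ?_)))
    have hxr : x ^ r ^ 1 = 1 := by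
      rw [pow_one]; exact orderOf_dvd_iff_pow_eq_one.1 (h.cardR ▸ orderOf_dvd_natCard R hx)
    have hxd : x ∈ ⁅M, M⁆ := commutator_mono hE.1 hE.1
      (Compl.mem_derived_of_tau3 hG hM hE ⟨hr.out, h.rnot, hd, hr1⟩ (hRE hx) hxr)
    exact derived_centralizes_non_beta hG hM hqβM (h.leQM hG) h.isQ hxd
      (Nat.Coprime.coprime_dvd_left (orderOf_dvd_of_pow_eq_one hxr)
        (((Nat.coprime_primes hr.out hq.out).2 (h.q_ne_r hG).symm).pow_left 1))
      (h.normQ hx)
  have hr1L : Cfsg.PRankLE r 1 L := by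
    rcases tau_or_rank_one hG hL hr.out hrσ with hrt | hr1L
    swap
    · exact hr1L
    exfalso
    obtain ⟨B, hBL, hBe, hB2⟩ := exists_elementary_of_not_pRankLE (mem_tau_iff.1 hrt).2.2
    exact sigma_nilpotent_conj hG hM hL (tau_nilpotent hG hL hrt hBL hBe hB2) hqM hqL hnc
  obtain ⟨H₁, hH₁, hNR⟩ := exists_coatom_normalizer hG (line_ne_bot h.cardR)
    (ms_isPGroup_ne_top hG hRp)
  have hne : H₁ ≠ L := fun e => rank_one_normalizer hG hL hrσ hr1L h.cardR (e ▸ hNR)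
  have hnc₁ := rank_one_not_conj hG hM h.rnot hr1 h.cardR hNR
  have hRH₁ : centralizer (R : Set G) ≤ H₁ :=
    (CfsgLib.Coprime.centralizer_le_normalizer_self _).trans hNR
  have hKP : R ⊔ Q ≤ normalizer (P : Set G) :=
    (sup_le h.commR h.commQ).trans (CfsgLib.Coprime.centralizer_le_normalizer_self _)
  obtain ⟨hhall, -⟩ := betaCore_hall hG hL
  obtain ⟨T, hT, hTD, hPT, hKT, hTmax⟩ := exists_invariant_max hhall.1
    (le_normalizer_piCoreOf (A := L) (X := L) le_rfl) (fun hd => hhall.2.2 p hp.out hpβ hd)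
    (sup_le hRL hQL) (Nat.coprime_of_dvd fun s hs h1 h2 => by
      have h3 := hhall.2.1 s hs h2
      rcases h.dvd_sup_two hG hs h1 with rfl | rfl
      exacts [hrσ (alpha_subset_sigma hG hL h3.1), hqβL h3])
    (CfsgLib.Coprime.isSolvable_of_le hhall.1 (ms_solvable hG hL.1)) hPp hPL hKP
  have hTL : T ≤ L := hTD.trans hhall.1
  have hQT := centralizes_sylow_of_ideal hG hpβ.2 hL hH₁ hne h.cardR hRH₁ h.rp h.comm h.normQ
    (h.not_dvd_Q hG).1 (h.not_dvd_Q hG).2 hT hTL (le_sup_left.trans hKT)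
    (le_sup_right.trans hKT) hPT h.cardP (le_centralizer_iff.1 h.commR)
    (le_centralizer_iff.1 h.commQ)
  obtain ⟨z, hzo⟩ := exists_prime_orderOf_dvd_card' q (mem_of_isPGroup h.isQ h.neQ le_rfl)
  set Z := zpowers (z : G) with hZdef
  have hZQ : Z ≤ Q := zpowers_le.2 z.2
  have hZc : Nat.card Z = q := by rw [hZdef, Nat.card_zpowers, orderOf_coe, hzo]
  obtain ⟨H, hH, hNZ⟩ := exists_coatom_normalizer hG (line_ne_bot hZc)
    (ms_isPGroup_ne_top hG (IsPGroup.of_card (p := q) (n := 1) (by rw [hZc, pow_one])))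
  have hCH : centralizer (Q : Set G) ≤ H := (centralizer_le hZQ).trans
    ((CfsgLib.Coprime.centralizer_le_normalizer_self _).trans hNZ)
  have hHL : H = L := eq_of_alpha_sylow_le hG hL hH hpβ.1 hT hTL hTmax
    ((le_centralizer_iff.1 hQT).trans hCH)
  -- a prime in `β(M)`
  obtain ⟨hhallM, -⟩ := betaCore_hall hG hM
  obtain ⟨s, hs, hsd⟩ : ∃ s : ℕ, s.Prime ∧ s ∣ Nat.card ↥(Cfsg.piCoreOf (Cfsg.beta M) M) := by
    refine Nat.exists_prime_and_dvd fun e => ?_
    have h1 : M ≤ normalizer ((S : Subgroup G) : Set G) := by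
      have h2 := sigma_factor hG hM hqM hqβM S hSM
      rw [card_eq_one.1 e, bot_sup_eq] at h2
      exact h2.trans inf_le_right
    have h2 : conjBy g M ≤ L := by
      refine (map_mono h1 : conjBy g M ≤ conjBy g (normalizer ((S : Subgroup G) : Set G))).trans ?_
      show conjBy g (normalizer ((S : Subgroup G) : Set G)) ≤ L
      rw [← normalizer_conjBy, ← hg]
      exact sylow_normalizer_le hG hL hqL S' hS'L
    exact hnc g (((isCoatom_conjBy g hM).le_iff.1 h2).resolve_left hL.1).symm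
  haveI : Fact s.Prime := ⟨hs⟩
  have hsβ : s ∈ Cfsg.beta M := hhallM.2.1 s hs hsd
  have hsσ : s ∈ Cfsg.sigma M := alpha_subset_sigma hG hM hsβ.1
  obtain ⟨Ts, hTs, hTsD, -, hKTs, hTsmax⟩ := exists_invariant_max (p := s) hhallM.1
    (le_normalizer_piCoreOf (A := M) (X := M) le_rfl) (fun hd => hhallM.2.2 s hs hsβ hd)
    (sup_le (sup_le h.leR (h.leQM hG)) h.leP) (Nat.coprime_of_dvd fun t ht h1 h2 => by
      have h3 := hhallM.2.1 t ht h2
      rcases h.dvd_sup hG ht h1 with rfl | rfl | rfl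
      exacts [h.rnot (alpha_subset_sigma hG hM h3.1), hqβM h3,
        h.tau.2.1 (alpha_subset_sigma hG hM h3.1)])
    (CfsgLib.Coprime.isSolvable_of_le hhallM.1 (ms_solvable hG hM.1)) (IsPGroup.of_bot (p := s) (G := G)) bot_le
    (by rw [normalizer_eq_top (H := (⊥ : Subgroup G))]; exact le_top)
  have hTsM : Ts ≤ M := hTsD.trans hhallM.1
  have hRTs : R ≤ normalizer (Ts : Set G) := (le_sup_left.trans le_sup_left).trans hKTs
  have hQTs : Q ≤ normalizer (Ts : Set G) := (le_sup_right.trans le_sup_left).trans hKTs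
  have hPTs : P ≤ normalizer (Ts : Set G) := le_sup_right.trans hKTs
  have hsq : q ≠ s := fun e => hqβM (e ▸ hsβ)
  have hsr : r ≠ s := fun e => h.rnot (e ▸ hsσ)
  obtain ⟨a, ha, ha1⟩ : ∃ a ∈ R, a ≠ 1 :=
    (bot_or_exists_ne_one R).resolve_left (line_ne_bot h.cardR)
  have hap : a ^ r = 1 := orderOf_dvd_iff_pow_eq_one.1 (h.cardR ▸ orderOf_dvd_natCard R ha)
  have haR : zpowers a = R := eq_of_le_of_card_ge (zpowers_le.2 ha)
    (by rw [Nat.card_zpowers, orderOf_eq_prime hap ha1, h.cardR])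
  obtain ⟨x, hxT, -, hax, u, hu, hux⟩ : ∃ x ∈ Ts, x ^ s = 1 ∧ a * x = x * a ∧
      ∃ u ∈ Q, ¬ Commute u x := by
    by_contra hno
    simp only [not_exists, not_and, not_not] at hno
    have hs2 : s ≠ 2 := ms_ne_two hG (hsσ.2.1.trans (card_subgroup_dvd_card M))
    have h1 : Q ≤ centralizer (Ts : Set G) := FixLine.le_centralizer_of_fixed_commute hs2 hr.out
      hsr hap (h.normQ ha) (haR.symm ▸ h.comm)
      (hG.1.of_dvd_nat (card_subgroup_dvd_card Q)) (h.not_dvd_Q hG).1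
      (not_dvd_of_isPGroup hsq h.isQ) _ Ts le_rfl hTs (hRTs ha) hQTs hno
    exact hnc.ne (eq_of_alpha_sylow_le hG hM hL hsβ.1 hTs hTsM hTsmax
      (hHL ▸ (le_centralizer_iff.1 h1).trans hCH))
  have hxR : x ∈ centralizer (R : Set G) := by
    rw [← haR, centralizer_zpowers]
    exact mem_centralizer_singleton_iff.2 hax.symm
  have hxP : x ∉ centralizer (P : Set G) := fun hxC => by
    have hxL : x ∈ L := hNP (CfsgLib.Coprime.centralizer_le_normalizer_self _ hxC)
    have huσ : u ∈ Cfsg.sigmaCore L := isPGroup_le_sigmaCore hG hL hqL h.isQ hQL hu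
    have h1 : u * x * u⁻¹ * x⁻¹ ∈ Cfsg.piCoreOf (Cfsg.beta M) M :=
      mul_mem ((mem_normalizer_iff.1
        ((le_normalizer_piCoreOf (A := M) (X := M) le_rfl) (h.leQM hG hu)) x).1 (hTsD hxT))
        (inv_mem (hTsD hxT))
    have h2 : u * x * u⁻¹ * x⁻¹ ∈ Cfsg.sigmaCore L := by
      rw [mul_assoc u x, mul_assoc u]
      exact mul_mem huσ ((mem_normalizer_iff.1 (sigmaCore_normal hG L hxL) _).1 (inv_mem huσ))
    have h3 : Cfsg.piCoreOf (Cfsg.beta M) M ⊓ Cfsg.sigmaCore L = ⊥ :=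
      inf_eq_bot_of_coprime (Nat.coprime_of_dvd fun t ht h4 h5 =>
        alpha_not_sigma hG hL hM hnc.symm (hhallM.2.1 t ht h4).1
          ((sigmaCore_hall hG hL).1.2.1 t ht h5))
    exact hux (mul_inv_eq_iff_eq_mul.1 (mul_inv_eq_one.1
      (mem_bot.1 (h3 ▸ mem_inf.2 ⟨h1, h2⟩))))
  set W := Ts ⊓ centralizer (R : Set G) with hW
  have hPW : P ≤ normalizer (W : Set G) := CfsgLib.Coprime.inf_le_normalizer hPTs
    ((le_centralizer_iff.1 h.commR).trans le_normalizer)
  have hWp : IsPGroup s W := hTs.to_inf_left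
  have hWW : (⁅W, P⁆ : Subgroup G) ≤ W := commutator_le.2 fun w hw v hv => by
    rw [commutatorElement_def, mul_assoc, mul_assoc]
    refine mul_mem hw ?_
    rw [← mul_assoc]
    exact (mem_normalizer_iff.1 (hPW hv) _).1 (inv_mem hw)
  have hsp : s ≠ p := fun e => h.tau.2.1 (e ▸ hsσ)
  have hnew : ActConfig M R P (⁅W, P⁆ : Subgroup G) r p s :=
    { coatom := hM
      tau := hrτ
      leP := h.leR
      cardP := h.cardR
      cardR := h.cardP
      leR := h.leP
      commR := le_centralizer_iff.1 h.commR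
      rp := h.rp.symm
      rnot := h.tau.2.1
      isQ := hWp.to_le hWW
      leQ := (hWW.trans inf_le_left).trans
        (isPGroup_le_sigmaCore hG hM hsσ hTs hTsM)
      commQ := hWW.trans inf_le_right
      normQ := fun v hv => FixLine.mem_normalizer_commutator (hPW hv) (le_normalizer hv)
      comm := CfsgLib.Coprime.commutator_commutator_eq hPW (by
        obtain ⟨k, hk⟩ := IsPGroup.iff_card.1 hWp
        rw [hk, h.cardP]
        exact ((Nat.coprime_primes hp.out hs).2 hsp.symm).pow_right k)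
        (Or.inl (CfsgLib.Coprime.isSolvable_of_isNilpotent hPp.isNilpotent))
      neQ := fun e => hxP (commutator_eq_bot_iff_le_centralizer.1 e (mem_inf.2 ⟨hxT, hxR⟩)) }
  exact hnew.no_sigma_q hG hH₁ hNR fun hsH => alpha_not_sigma hG hH₁ hM hnc₁.symm hsβ.1 hsH

end CfsgLib.CFun.TauTwo
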