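import Cfsg.Agent.Lib.CFun.OddFpfCentralize
import Cfsg.Agent.Lib.CFun.OddCores
import Cfsg.Agent.Lib.CFun.OddDerivedFitting

/-!
# Prime action without fixed points on the Fitting subgroup (BG 3.8)
-/

set_option autoImplicit false
set_option linter.style.haveILetI false
set_option linter.unusedSectionVars false

open Subgroup
open scoped commutatorElement
open CfsgLib.Coprime (conj_mem_of_le_normalizer)

namespace CfsgLib.CFun.FpfComm

universe u

variable {G : Type u} [Group G] [Finite G] [Group.IsSolvable G] {K : Subgroup G} [K.Normal]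

omit [Finite G] [Group.IsSolvable G] in
theorem fittingOf_normal : (Cfsg.fittingOf K).Normal := by
  haveI := CfsgLib.Coprime.fitting_characteristic (G := K)
  exact CfsgLib.Coprime.map_subtype_normal_of_characteristic K (Cfsg.fittingSubgroup K)

omit [Finite G] [Group.IsSolvable G] in
theorem core_normal (s : ℕ) : (core K s).Normal := by
  haveI := CfsgLib.Coprime.pCore_characteristic (G := K) s
  exact CfsgLib.Coprime.map_subtype_normal_of_characteristic K (Cfsg.pCore s K)

/-- Modulo the Fitting subgroup a fixed-point-free element of prime order centralizes. -/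
theorem mem_fitting_sup_of_fpf {r : ℕ} (hr : r.Prime) {x : G} (hx : orderOf x = r)
    (hodd : Odd (Nat.card K)) (hrK : ¬ r ∣ Nat.card K)
    (hfix : ∀ v ∈ Cfsg.fittingOf K, x * v = v * x → v = 1) :
    K ≤ Cfsg.fittingOf K ⊔ (K ⊓ centralizer (zpowers x : Set G)) := by
  classical
  haveI := fittingOf_normal (K := K)
  set F := Cfsg.fittingOf K with hF
  set A := zpowers x with hA
  have hxr : x ^ r = 1 := hx ▸ pow_orderOf_eq_one x
  have hAn : ∀ (N : Subgroup G) [N.Normal], A ≤ normalizer (N : Set G) := fun N _ => by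
    rw [normalizer_eq_top]; exact le_top
  have hAsol : Group.IsSolvable A :=
    CfsgLib.Coprime.isSolvable_of_isMulCommutative inferInstance
  have hcop : ∀ {Y : Subgroup G}, Y ≤ K → (Nat.card A).Coprime (Nat.card Y) := fun hY => by
    rw [hA, Nat.card_zpowers, hx]
    exact (hr.coprime_iff_not_dvd.2 hrK).coprime_dvd_right (card_dvd_of_le hY)
  set π := QuotientGroup.mk' F
  set Kb := K.map π with hKb
  haveI hKbn : Kb.Normal := Subgroup.Normal.map inferInstance π (QuotientGroup.mk'_surjective F)
  -- the images of the cores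
  have hcore : ∀ q : ℕ, q.Prime → core Kb q ≤ centralizer ({π x} : Set (G ⧸ F)) := by
    intro q hq
    haveI : Fact q.Prime := ⟨hq⟩
    haveI := core_normal (K := Kb) q
    set P := K ⊓ (core Kb q).comap π with hP
    haveI : P.Normal := Subgroup.normal_inf_normal _ _
    have hPK : P ≤ K := inf_le_left
    have hqP : ∀ y ∈ P, ∀ {s n : ℕ}, s.Prime → s ≠ q → y ^ s ^ n = 1 → y ∈ F := by
      intro y hy s n hs hsq hyn
      obtain ⟨m, hm⟩ := isPGroup_core (H := Kb) (s := q) ⟨π y, (mem_inf.1 hy).2⟩
      refine (QuotientGroup.eq_one_iff y).1 (orderOf_eq_one_iff.1 (Nat.eq_one_of_dvd_coprimes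
        (((Nat.coprime_primes hs hq).2 hsq).pow n m) (orderOf_dvd_of_pow_eq_one ?_)
        (orderOf_dvd_of_pow_eq_one ?_)))
      · show π y ^ s ^ n = 1
        rw [← map_pow, hyn, map_one]
      · exact (congrArg Subtype.val hm :)
    set N₁ := P ⊓ ⨅ (p : ℕ) (_ : p.Prime ∧ p ≠ q), centralizer (core K p : Set G) with hN₁
    haveI : N₁.Normal := by
      refine @Subgroup.normal_inf_normal G _ _ _ inferInstance ?_
      refine ⟨fun n hn g => mem_iInf.2 fun p => mem_iInf.2 fun hp => ?_⟩
      haveI := core_normal (K := K) p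
      haveI : (centralizer (core K p : Set G)).Normal := Subgroup.normal_centralizer
      exact Subgroup.Normal.conj_mem inferInstance n (mem_iInf.1 (mem_iInf.1 hn p) hp) g
    have hN₁F : N₁ ≤ F := by
      have hnil : Group.IsNilpotent N₁ := by
        refine isNilpotent_of_prime_powers_commute fun s t hs ht hst u v hu hv => ?_
        have key : ∀ {s : ℕ}, s.Prime → s ≠ q → ∀ {u v : N₁}, (∃ i, u ^ s ^ i = 1) →
            Commute u v := by
          intro s hs hsq u v hu
          obtain ⟨i, hi⟩ := hu
          haveI : Fact s.Prime := ⟨hs⟩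
          have hu' : (u : G) ^ s ^ i = 1 := congrArg Subtype.val hi
          have huF : (u : G) ∈ F := hqP _ (inf_le_left (b := ⨅ (p : ℕ) (_ : p.Prime ∧ p ≠ q),
            centralizer (core K p : Set G)) u.2) hs hsq hu'
          obtain ⟨m, -, hm⟩ := (Nat.dvd_prime_pow hs).1 (orderOf_dvd_of_pow_eq_one hu')
          have huc : (u : G) ∈ core K s := le_core_of_le_fittingOf (zpowers_le.2 huF)
            (IsPGroup.of_card (n := m) (by rw [Nat.card_zpowers, hm])) (mem_zpowers _)
          exact Subtype.ext (mem_centralizer_iff.1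
            (mem_iInf.1 (mem_iInf.1 (mem_inf.1 v.2).2 s) ⟨hs, hsq⟩) _ huc)
        rcases eq_or_ne s q with e | hsq
        · exact (key ht.out (fun e' => hst (e.trans e'.symm)) hv).symm
        · exact key hs.out hsq hu
      have hNK : N₁ ≤ K := inf_le_left.trans hPK
      haveI : (N₁.subgroupOf K).Normal := inferInstance
      haveI : Group.IsNilpotent (N₁.subgroupOf K) :=
        Group.nilpotent_of_mulEquiv (subgroupOfEquivOfLe hNK).symm
      have h1 := CfsgLib.Coprime.le_fitting (N := N₁.subgroupOf K) inferInstance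
      rw [← map_subgroupOf_eq_of_le hNK]
      exact map_mono h1
    have hW : P ≤ (centralizer ({π x} : Set (G ⧸ F))).comap π := by
      refine le_of_invariant_sylows (hAn P) (hcop hPK) (Or.inl hAsol) fun s hs _ Q hQP hQ hAQ y hy => ?_
      rcases eq_or_ne s q with rfl | hsq
      swap
      · obtain ⟨n, hn⟩ := hQ ⟨y, hy⟩
        rw [mem_comap, show π y = 1 from (QuotientGroup.eq_one_iff y).2
          (hqP y (hQP hy) hs hsq (congrArg Subtype.val hn :))]
        exact one_mem _
      haveI : Fact s.Prime := ⟨hs⟩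
      have hQA : ⁅Q, A⁆ ≤ F := by
        refine le_trans (le_inf ?_ (le_iInf fun p => le_iInf fun hp => ?_)) hN₁F
        · refine le_trans ?_ hQP
          rw [commutator_le]
          intro u hu b hb
          rw [commutatorElement_def, show u * b * u⁻¹ * b⁻¹ = u * (b * u⁻¹ * b⁻¹) by group]
          exact mul_mem hu (conj_mem_of_le_normalizer hAQ hb (inv_mem hu))
        · haveI := core_normal (K := K) p
          haveI : Fact p.Prime := ⟨hp.1⟩
          by_cases hpc : core K p = ⊥
          · rw [hpc]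
            exact fun u _ => mem_centralizer_iff.2 fun w hw => by
              rw [mem_bot.1 hw, one_mul, mul_one]
          have hrp : r ≠ p := by
            rintro rfl
            obtain ⟨j, hj⟩ := IsPGroup.iff_card.1 (isPGroup_core (H := K) (s := r))
            rcases j with _ | j
            · exact hpc (card_eq_one.1 (hj.trans (pow_zero r)))
            · exact hrK (((dvd_pow_self r j.succ_ne_zero).trans hj.symm.dvd).trans
                (card_dvd_of_le core_le))
          refine commutator_le_centralizer (isPGroup_core (H := K) (s := p)) hr hrp hxr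
            (hAn _ (mem_zpowers x)) (hAQ (mem_zpowers x)) (by rw [normalizer_eq_top]; exact le_top)
            (hodd.of_dvd_nat (card_dvd_of_le (hQP.trans hPK)))
            (fun h => hrK (h.trans (card_dvd_of_le (hQP.trans hPK))))
            (not_dvd_of_isPGroup hp.2.symm hQ) fun v hv hc => hfix v (core_le_fittingOf hv) hc
      have h1 : π ⁅y, x⁆ = 1 :=
        (QuotientGroup.eq_one_iff _).2 (hQA (commutator_mem_commutator hy (mem_zpowers x)))
      rw [map_commutatorElement, commutatorElement_eq_one_iff_commute] at h1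
      exact mem_comap.2 (mem_centralizer_singleton_iff.2 h1)
    intro z hz
    obtain ⟨k, hk, rfl⟩ := core_le hz
    exact hW ⟨hk, hz⟩
  -- the image of `x` centralizes `K` modulo `F`
  set Ab := A.map π with hAb
  have hAE : Ab ≤ centralizer (Cfsg.fittingOf Kb : Set (G ⧸ F)) := by
    rw [hAb, MonoidHom.map_zpowers, zpowers_le]
    refine mem_centralizer_iff.2 fun e he => ?_
    exact mem_centralizer_singleton_iff.1 (fittingOf_le_of_cores hcore he)
  have hKbA : ⁅Kb, Ab⁆ ≤ Kb := commutator_le_left _ _
  have hc1 : ⁅Kb, Ab⁆ ≤ centralizer (Cfsg.fittingOf Kb : Set (G ⧸ F)) := by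
    haveI := fittingOf_normal (K := Kb)
    rw [← commutator_eq_bot_iff_le_centralizer]
    refine commutator_commutator_eq_bot_of_rotate ?_ ?_
    · rw [(commutator_eq_bot_iff_le_centralizer.2 hAE), commutator_bot_left]
    · rw [eq_bot_iff]
      refine (commutator_mono (commutator_le_left (Cfsg.fittingOf Kb) Kb) le_rfl).trans ?_
      rw [Subgroup.commutator_comm]
      exact (commutator_eq_bot_iff_le_centralizer.2 hAE).le
  have hc2 : Ab ≤ centralizer ((⁅Kb, Ab⁆ : Subgroup (G ⧸ F)) : Set (G ⧸ F)) := by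
    refine hAE.trans (centralizer_le ?_)
    exact (le_inf hKbA hc1).trans centralizer_fittingOf_le
  have hc3 : Ab ≤ centralizer (Kb : Set (G ⧸ F)) := by
    refine CfsgLib.Coprime.le_centralizer_of_le_centralizer_commutator
      (by rw [normalizer_eq_top]; exact le_top) ?_ (Or.inl ?_) hc2
    · exact ((hcop le_rfl).coprime_dvd_left (card_map_dvd _ _)).coprime_dvd_right (card_map_dvd _ _)
    · exact CfsgLib.Coprime.isSolvable_of_isMulCommutative inferInstance
  intro k hk
  have hkF : ∀ b ∈ A, b * k * b⁻¹ * k⁻¹ ∈ F := fun b hb => by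
    rw [← commutatorElement_def, ← QuotientGroup.eq_one_iff]
    show π ⁅b, k⁆ = 1
    rw [map_commutatorElement, commutatorElement_eq_one_iff_commute]
    exact (mem_centralizer_iff.1 (hc3 (mem_map_of_mem π hb)) _ (mem_map_of_mem π hk)).symm
  have hFK : F ≤ K := fittingOf_le
  obtain ⟨n, hn, hnC⟩ := CfsgLib.Coprime.exists_fixed_in_coset (hAn F) (hcop hFK) (Or.inl hAsol)
    (by rw [normalizer_eq_top]; exact mem_top k) hkF
  rw [show k = k * n * n⁻¹ by group]
  exact mul_mem (mem_sup_right (mem_inf.2 ⟨mul_mem hk (hFK hn), hnC⟩))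
    (mem_sup_left (inv_mem hn))

/-- BG 3.8. -/
theorem commutator_le_fittingOf {R : Subgroup G} (hodd : Odd (Nat.card G))
    (hcop : (Nat.card K).Coprime (Nat.card R))
    (hprime : ∀ x ∈ R, x ≠ 1 → K ⊓ centralizer ({x} : Set G) = K ⊓ centralizer (R : Set G))
    (hF : Cfsg.fittingOf K ⊓ centralizer (R : Set G) = ⊥) : ⁅K, R⁆ ≤ Cfsg.fittingOf K := by
  haveI := fittingOf_normal (K := K)
  by_cases hR : R = ⊥
  · rw [hR, commutator_bot_right]; exact bot_le
  obtain ⟨r, hr, hd⟩ := Nat.exists_prime_and_dvd (fun e : Nat.card R = 1 => hR (card_eq_one.1 e))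
  haveI : Fact r.Prime := ⟨hr⟩
  obtain ⟨x, hx⟩ := exists_prime_orderOf_dvd_card' r hd
  have hxo : orderOf (x : G) = r := by rw [Subgroup.orderOf_coe, hx]
  have hx1 : (x : G) ≠ 1 := fun e => hr.ne_one (by rw [← hxo, e, orderOf_one])
  have hKC := hprime x x.2 hx1
  have h1 := mem_fitting_sup_of_fpf (K := K) hr hxo (hodd.of_dvd_nat (card_subgroup_dvd_card K))
    (fun h => hr.not_dvd_one ((Nat.eq_one_of_dvd_coprimes hcop h hd) ▸ dvd_rfl)) fun v hv hc => by
      have hv' : v ∈ K ⊓ centralizer ({(x : G)} : Set G) :=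
        ⟨fittingOf_le hv, mem_centralizer_singleton_iff.2 hc.symm⟩
      rw [hKC] at hv'
      have := mem_inf.2 ⟨hv, (mem_inf.1 hv').2⟩
      rwa [hF, mem_bot] at this
  rw [commutator_le]
  intro k hk r' hr'
  obtain ⟨f, hf, c, hc, rfl⟩ := CfsgLib.Coprime.mem_sup_exists
    (N := Cfsg.fittingOf K) (by rw [normalizer_eq_top]; exact le_top) (h1 hk)
  have hcx : c ∈ K ⊓ centralizer (R : Set G) := by
    rw [← hKC]
    exact ⟨(mem_inf.1 hc).1, mem_centralizer_singleton_iff.2
      (mem_centralizer_iff.1 (mem_inf.1 hc).2 _ (mem_zpowers _)).symm⟩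
  have hcr : c * r' = r' * c := (mem_centralizer_iff.1 (mem_inf.1 hcx).2 r' hr').symm
  have e : ⁅f * c, r'⁆ = f * (r' * f⁻¹ * r'⁻¹) := by
    rw [commutatorElement_def, show f * c * r' * (f * c)⁻¹ * r'⁻¹ =
      f * (c * r' * c⁻¹) * f⁻¹ * r'⁻¹ by group, hcr]
    group
  rw [e]
  exact mul_mem hf (Subgroup.Normal.conj_mem inferInstance _ (inv_mem hf) r')

end CfsgLib.CFun.FpfComm
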