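import Cfsg.Agent.Lib.CFun.OddNonabelianUnique

/-!
# Centralizers of elements of order `p ∈ σ(M)`
-/

set_option autoImplicit false
set_option linter.style.haveILetI false
set_option linter.unusedSectionVars false

open Subgroup
open scoped commutatorElement
open CfsgLib.Coprime (conjBy conjBy_conjBy conjBy_one mem_conjBy conj_mem_conjBy IsSylowIn)

namespace CfsgLib.CFun.TauTwo

universe u

variable {G : Type u} [Group G] [Finite G] {p : ℕ} [hp : Fact p.Prime]

/-- With a normal `p`-complement the `p`-part of the derived group is that of the Sylow subgroup. -/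
theorem derived_inf_sylow {K : Type u} [Group K] [Finite K] (hK : Cfsg.HasNormalPComplement p K)
    (P : Sylow p K) {y : K} (hy : y ∈ (P : Subgroup K)) (hy' : y ∈ commutator K) :
    y ∈ ⁅(P : Subgroup K), (P : Subgroup K)⁆ := by
  have hN := CfsgLib.Fusion.hasNormalPComplement_iff_not_dvd.1 hK
  set N := Cfsg.pResidual p K with hNdef
  haveI : N.Normal := CfsgLib.Fusion.pResidual_normal
  have htop : (P : Subgroup K) ⊔ N = ⊤ := by
    rw [← index_eq_one]
    by_contra h1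
    obtain ⟨q, hq, hqd⟩ := Nat.exists_prime_and_dvd h1
    by_cases hqp : q = p
    · subst hqp
      exact P.not_dvd_index (hqd.trans (index_dvd_of_le le_sup_left))
    haveI : Fact q.Prime := ⟨hq⟩
    obtain ⟨Q⟩ := (inferInstance : Nonempty (Sylow q K))
    have hQN : (Q : Subgroup K) ≤ N := fun x hx => by
      obtain ⟨k, hk⟩ := Q.2 ⟨x, hx⟩
      exact CfsgLib.Fusion.mem_pResidual (Nat.Coprime.coprime_dvd_left
        (orderOf_dvd_of_pow_eq_one (congrArg Subtype.val hk :))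
        (((Nat.coprime_primes hq hp.out).2 hqp).pow_left k))
    exact Q.not_dvd_index (hqd.trans (index_dvd_of_le (hQN.trans le_sup_right)))
  set π := QuotientGroup.mk' N
  have hπP : (P : Subgroup K).map π = ⊤ := by
    have h := congrArg (Subgroup.map π) htop
    rw [Subgroup.map_sup, QuotientGroup.map_mk'_self, sup_bot_eq,
      map_top_of_surjective _ (QuotientGroup.mk'_surjective N)] at h
    exact h
  have h1 : π y ∈ (⁅(P : Subgroup K), (P : Subgroup K)⁆).map π := by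
    rw [map_commutator, hπP]
    rw [_root_.commutator_def] at hy'
    exact ((map_commutator _ _ π).le.trans (commutator_mono le_top le_top)) (mem_map_of_mem π hy')
  obtain ⟨d, hd, hdy⟩ := h1
  have hn : d⁻¹ * y ∈ N := QuotientGroup.eq.1 hdy
  have hP : d⁻¹ * y ∈ (P : Subgroup K) :=
    mul_mem (inv_mem (commutator_le_self _ hd)) hy
  obtain ⟨k, hk⟩ := P.2 ⟨_, hP⟩
  have h2 : d⁻¹ * y = 1 := orderOf_eq_one_iff.1 (Nat.eq_one_of_dvd_coprimes
    ((hp.out.coprime_iff_not_dvd.2 hN).pow_left k)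
    (orderOf_dvd_of_pow_eq_one (congrArg Subtype.val hk :)) (Subgroup.orderOf_dvd_natCard N hn))
  rwa [← inv_mul_eq_one.1 h2]

variable (hG : Cfsg.IsMinSimpleOddOrder G)
include hG

/-- Elements of order `p` in the derived group of a nonabelian Sylow subgroup have uniqueness
centralizers. -/
theorem exists_unique_centralizing (S : Sylow p G) (hna : ¬ IsMulCommutative (S : Subgroup G))
    {x : G} (hx : x ∈ ⁅(S : Subgroup G), (S : Subgroup G)⁆) (hxp : x ^ p = 1) :
    ∃ U : Subgroup G, U ≤ (S : Subgroup G) ∧ Cfsg.InUniqueMaximal U ∧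
      U ≤ centralizer ({x} : Set G) := by
  have hxS : x ∈ (S : Subgroup G) := commutator_le_self _ hx
  by_cases hcen : ∀ s ∈ (S : Subgroup G), Commute x s
  · exact ⟨(S : Subgroup G), le_rfl, inUniqueMaximal_of_nonabelian hG S.2 hna,
      fun s hs => mem_centralizer_singleton_iff.2 (hcen s hs).eq.symm⟩
  have hS1 : (S : Subgroup G) ≠ ⊥ := fun e => hcen fun s hs => by
    rw [e, mem_bot] at hs; rw [hs]; exact Commute.one_right x
  have hp2 : p ≠ 2 := ms_ne_two hG ((mem_of_isPGroup S.2 hS1 le_rfl).trans (card_subgroup_dvd_card _))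
  by_cases hr : Cfsg.PRankLE p 2 ↥(S : Subgroup G)
  · exfalso
    obtain ⟨P₁, P₂, hsup, hcomm, -, hcard, -, hP₂, -⟩ :=
      (Cfsg.Agent.S1412.result hG p S hr).resolve_left hna
    haveI := hP₂
    have hn : P₂ ≤ normalizer (P₁ : Set G) := fun b hb =>
      CfsgLib.Coprime.centralizer_le_normalizer_self P₁
        (mem_centralizer_iff.2 fun a ha => hcomm a ha b hb)
    have hP₁p : IsPGroup p P₁ := S.2.to_le (hsup ▸ le_sup_left)
    have key : ∀ a ∈ (S : Subgroup G), ∀ b ∈ (S : Subgroup G), ∀ s ∈ (S : Subgroup G),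
        Commute ⁅a, b⁆ s := by
      intro a ha b hb s hs
      obtain ⟨a₁, ha₁, a₂, ha₂, rfl⟩ := CfsgLib.Coprime.mem_sup_exists hn (hsup.ge ha)
      obtain ⟨b₁, hb₁, b₂, hb₂, rfl⟩ := CfsgLib.Coprime.mem_sup_exists hn (hsup.ge hb)
      obtain ⟨s₁, hs₁, s₂, hs₂, rfl⟩ := CfsgLib.Coprime.mem_sup_exists hn (hsup.ge hs)
      have h2 : a₂ * b₂ = b₂ * a₂ := congrArg Subtype.val
        (IsMulCommutative.is_comm.comm (⟨a₂, ha₂⟩ : P₂) ⟨b₂, hb₂⟩)
      have e : ⁅a₁ * a₂, b₁ * b₂⁆ = ⁅a₁, b₁⁆ := by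
        calc ⁅a₁ * a₂, b₁ * b₂⁆ = a₁ * (a₂ * b₁) * b₂ * a₂⁻¹ * a₁⁻¹ * b₂⁻¹ * b₁⁻¹ := by
              rw [commutatorElement_def]; group
          _ = a₁ * b₁ * (a₂ * b₂) * a₂⁻¹ * a₁⁻¹ * b₂⁻¹ * b₁⁻¹ := by
              rw [← hcomm b₁ hb₁ a₂ ha₂]; group
          _ = a₁ * b₁ * (b₂ * a₁⁻¹) * b₂⁻¹ * b₁⁻¹ := by rw [h2]; group
          _ = ⁅a₁, b₁⁆ := by
              rw [← hcomm a₁⁻¹ (inv_mem ha₁) b₂ hb₂, commutatorElement_def]; group
      rw [e]
      refine Commute.mul_right ?_ (hcomm _ (mul_mem (mul_mem (mul_mem ha₁ hb₁) (inv_mem ha₁))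
        (inv_mem hb₁)) s₂ hs₂)
      have h1 : ⁅(⟨a₁, ha₁⟩ : P₁), ⟨b₁, hb₁⟩⁆ ∈ center P₁ :=
        CfsgLib.MetacyclicOmega.commutator_le_center_of_card (R := P₁) (p := p) hP₁p hcard
          (commutator_mem_commutator (mem_top _) (mem_top _))
      exact (congrArg Subtype.val (mem_center_iff.1 h1 ⟨s₁, hs₁⟩).symm :)
    have hle : ⁅(S : Subgroup G), (S : Subgroup G)⁆ ≤ centralizer ((S : Subgroup G) : Set G) :=
      commutator_le.2 fun a ha b hb => mem_centralizer_iff.2 fun s hs => (key a ha b hb s hs).eq.symm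
    exact hcen fun s hs => (mem_centralizer_iff.1 (hle hx) s hs).symm
  -- rank at least three
  have hxZ : x ∉ centerSocle (S : Subgroup G) p := fun h => hcen h.2.2
  obtain ⟨hE, hlt⟩ := elementary_sup_zpowers (isElementaryAbelian_centerSocle (S : Subgroup G) p) hxp
    (mem_centralizer_iff.2 fun z hz => (hz.2.2 x hxS).eq) hxZ
  set E := centerSocle (S : Subgroup G) p ⊔ zpowers x with hEdef
  have hES : E ≤ (S : Subgroup G) := sup_le centerSocle_le (zpowers_le.2 hxS)
  have hEx : ∀ {V : Subgroup G}, Cfsg.IsElementaryAbelian p V → E ≤ V →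
      V ≤ centralizer ({x} : Set G) := fun hV hle v hv => mem_centralizer_singleton_iff.2
    (commute_of_mem hV hv (hle (mem_sup_right (mem_zpowers x)))).eq
  obtain ⟨k, hk⟩ := IsPGroup.iff_card.1 (isPGroup_of_elementary hE)
  obtain ⟨z, ⟨-, hz⟩, hz1⟩ := centerSocle_ne_bot (q := p) S.2 le_rfl le_normalizer hS1
  have hZp : p ≤ Nat.card (centerSocle (S : Subgroup G) p) := by
    exact (orderOf_eq_prime hz.2.1 hz1).ge.trans
      (Nat.le_of_dvd Nat.card_pos (Subgroup.orderOf_dvd_natCard _ hz))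
  have hk2 : 2 ≤ k := by
    by_contra hlt'
    exact absurd (hZp.trans_lt hlt) (not_lt.2 ((hk.le.trans (Nat.pow_le_pow_right hp.out.pos
      (show k ≤ 1 by omega))).trans (pow_one p).le))
  rcases hk2.eq_or_lt with e | h3
  swap
  · exact ⟨E, hES, unique_elementary_three hG hE (hk ▸ Nat.pow_le_pow_right hp.out.pos h3),
      hEx hE le_rfl⟩
  have hE2 : Nat.card E = p ^ 2 := by rw [hk, ← e]
  by_cases hmax : ∀ B : Subgroup G, B ≤ (S : Subgroup G) → Cfsg.IsElementaryAbelian p B → E ≤ B → B = E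
  swap
  · push_neg at hmax
    obtain ⟨B, hBS, hB, hEB, hne⟩ := hmax
    obtain ⟨i, hi⟩ := IsPGroup.iff_card.1 (isPGroup_of_elementary hB)
    have h1 : Nat.card E < Nat.card B := lt_of_le_of_ne (card_le_of_le hEB)
      fun e' => hne (eq_of_le_of_card_ge hEB e'.ge).symm
    rw [hE2, hi, Nat.pow_lt_pow_iff_right hp.out.one_lt] at h1
    exact ⟨B, hBS, unique_elementary_three hG hB (hi ▸ Nat.pow_le_pow_right hp.out.pos h1), hEx hB hEB⟩
  exfalso
  set R := ↥(S : Subgroup G)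
  set E' : Subgroup R := E.subgroupOf (S : Subgroup G) with hE'def
  have hE'e : Cfsg.IsElementaryAbelian p E' := ⟨⟨⟨fun a b => Subtype.ext (Subtype.ext
    (commute_of_mem hE a.2 b.2).eq)⟩⟩, fun w hw => Subtype.ext (hE.2 _ hw)⟩
  have hE'2 : Nat.card E' = p ^ 2 := by
    rw [Nat.card_congr (subgroupOfEquivOfLe hES).toEquiv, hE2]
  have hE'max : ∀ B : Subgroup R, Cfsg.IsElementaryAbelian p B → E' ≤ B → B = E' := by
    intro B hB hEB
    haveI := hB.1
    have h1 : B.map (S : Subgroup G).subtype = E := hmax _ (map_subtype_le _)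
      ⟨inferInstance, by rintro _ ⟨b, hb, rfl⟩; rw [← map_pow, hB.2 b hb, map_one]⟩
      fun a ha => ⟨⟨a, hES ha⟩, hEB ha, rfl⟩
    exact le_antisymm (fun b hb => h1.le (mem_map_of_mem _ hb)) hEB
  obtain ⟨-, -, -, hidx, hinf⟩ := Narrow.maximal_two hp2 S.2 hr hE'e hE'2 hE'max
  set T : Subgroup R := centralizer (Narrow.omegaSecond p R : Set R) with hT
  haveI : T.Characteristic :=
    Narrow.centralizer_characteristic Narrow.omegaSecond_characteristic
  haveI : T.Normal := inferInstance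
  have hcT : commutator R ≤ T := by
    haveI : IsCyclic (R ⧸ T) := isCyclic_of_prime_card (p := p) (by rw [← index_eq_card, hidx])
    exact Subgroup.Normal.quotient_commutative_iff_commutator_le.1 ⟨⟨fun a b =>
      (IsMulCommutative.is_comm.comm a b)⟩⟩
  obtain ⟨x', hx', hxx'⟩ : ∃ x' ∈ commutator R, (x' : G) = x := by
    rw [map_commutator_self] at hx
    exact hx
  have h1 : x' ∈ Narrow.omegaCenter p R := hinf ▸ ⟨by
    show (x' : G) ∈ E; rw [hxx']; exact mem_sup_right (mem_zpowers x), hcT hx'⟩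
  refine hcen fun s hs => ?_
  rw [← hxx']
  exact (congrArg Subtype.val (mem_center_iff.1 (Narrow.pow_of_mem_omegaCenter h1).1 ⟨s, hs⟩).symm :)

/-- Elements of order `p` in `β` or in the derived group of `M_σ`. -/
theorem sigma_centralizer_unique {M : Subgroup G} (hM : IsCoatom M) (hpσ : p ∈ Cfsg.sigma M) {X : Subgroup G}
    (hXM : X ≤ M) (hX : Nat.card X = p) (P : Sylow p ↥(Cfsg.sigmaCore M))
    (h : p ∈ Cfsg.beta M ∨ X ≤ ⁅Cfsg.sigmaCore M, Cfsg.sigmaCore M⁆) :
    (centralizer (X : Set G) ≤ M ∧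
      ∀ L : Subgroup G, IsCoatom L → centralizer (X : Set G) ≤ L → L = M) ∧
      Cfsg.InUniqueMaximal ((P : Subgroup ↥(Cfsg.sigmaCore M)).map (Cfsg.sigmaCore M).subtype) := by
  obtain ⟨S, hS⟩ := sylow_of_hall (sigmaCore_hall hG hM).2 hpσ (CfsgLib.Coprime.isSylowIn_map P)
  rw [← hS]
  have hSM : (S : Subgroup G) ≤ M := hS.le.trans ((map_subtype_le _).trans (map_subtype_le _))
  obtain ⟨x, hx, hx1⟩ := (bot_or_exists_ne_one X).resolve_left (line_ne_bot hX)
  have hxp : x ^ p = 1 := (isElementaryAbelian_line hX).2 x hx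
  have hXx : zpowers x = X := eq_of_le_of_card_ge (zpowers_le.2 hx)
    (by rw [hX, Nat.card_zpowers, orderOf_eq_prime hxp hx1])
  rw [← hXx, centralizer_zpowers]
  by_cases hpb : p ∈ Cfsg.beta M
  · refine ⟨beta_centralizer hG hM hpb (hXM hx) hxp hx1, ?_⟩
    have hr : ¬ Cfsg.PRankLE p 2 ↥(S : Subgroup G) := fun hr => hpb.2.2.1 (pRankLE_of_sylow_top S hr)
    obtain ⟨V, hV, hVe, hV3⟩ := exists_elementary_of_not_pRankLE hr
    exact inUniqueMaximal_mono hG (unique_elementary_three hG hVe hV3.ge) hV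
      (ms_isPGroup_ne_top hG S.2)
  have hXd := h.resolve_left hpb
  have hpK : p ∣ Nat.card (Cfsg.sigmaCore M) := hX ▸ card_dvd_of_le (hXd.trans (commutator_le_self _))
  have hpM : p ∣ Nat.card M := hpK.trans (card_dvd_of_le (map_subtype_le _))
  have hnc := ((Cfsg.Agent.S1414.result hG M hM).2.2.2.2 p hp.out hpM hpb).2.1
  have hxK : x ∈ (Cfsg.sigmaCore M) := commutator_le_self _ (hXd hx)
  obtain ⟨Q, hQ⟩ := (show IsPGroup p (zpowers (⟨x, hxK⟩ : (Cfsg.sigmaCore M))) from IsPGroup.of_card (n := 1)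
    (by rw [Nat.card_zpowers, Subgroup.orderOf_mk, orderOf_eq_prime hxp hx1, pow_one])).exists_le_sylow
  obtain ⟨k, hk⟩ := MulAction.exists_smul_eq (Cfsg.sigmaCore M) Q P
  have hkM : (k : G) ∈ M := map_subtype_le _ k.2
  have hxd : (⟨x, hxK⟩ : (Cfsg.sigmaCore M)) ∈ commutator (Cfsg.sigmaCore M) := by
    have h1 := hXd hx
    rw [map_commutator_self] at h1
    obtain ⟨w, hw, hwx⟩ := h1
    have e : w = ⟨x, hxK⟩ := Subtype.ext hwx
    rwa [e] at hw
  set x' : (Cfsg.sigmaCore M) := k * ⟨x, hxK⟩ * k⁻¹ with hx'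
  have hx'P : x' ∈ (P : Subgroup (Cfsg.sigmaCore M)) := by
    rw [← hk, Sylow.coe_subgroup_smul]
    exact ⟨⟨x, hxK⟩, hQ (mem_zpowers _), rfl⟩
  have hx'd : x' ∈ commutator (Cfsg.sigmaCore M) := Subgroup.Normal.conj_mem inferInstance _ hxd k
  have h2 := derived_inf_sylow hnc P hx'P hx'd
  have hxS : (x' : G) ∈ ⁅(S : Subgroup G), (S : Subgroup G)⁆ := by
    have h3 := mem_map_of_mem (Cfsg.sigmaCore M).subtype h2
    rw [map_commutator] at h3
    rw [hS]; exact h3
  have hx'p : (x' : G) ^ p = 1 := by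
    show (k * x * (k : G)⁻¹) ^ p = 1
    rw [conj_pow, hxp, mul_one, mul_inv_cancel]
  have hx'1 : (x' : G) ≠ 1 := fun e => hx1 (by
    have h4 := congrArg (fun w => (k : G)⁻¹ * w * k) e
    simpa [hx', mul_assoc] using h4)
  have hna : ¬ IsMulCommutative (S : Subgroup G) := fun hc => hx'1 (by
    have h5 : ⁅(S : Subgroup G), (S : Subgroup G)⁆ = ⊥ :=
      commutator_eq_bot_iff_le_centralizer.2 (le_centralizer_of_comm hc)
    rw [h5, mem_bot] at hxS
    exact hxS)
  obtain ⟨U, hUS, hU, hUC⟩ := exists_unique_centralizing hG S hna hxS hx'p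
  refine ⟨?_, inUniqueMaximal_mono hG hU hUS (ms_isPGroup_ne_top hG S.2)⟩
  have hc : ∀ g : G, g ∈ centralizer ({x} : Set G) ↔
      (k : G) * g * (k : G)⁻¹ ∈ centralizer ({(x' : G)} : Set G) := by
    intro g
    rw [mem_centralizer_singleton_iff, mem_centralizer_singleton_iff]
    show _ ↔ (k : G) * g * (k : G)⁻¹ * ((k : G) * x * (k : G)⁻¹) =
      (k : G) * x * (k : G)⁻¹ * ((k : G) * g * (k : G)⁻¹)
    constructor
    · intro e
      calc (k : G) * g * (k : G)⁻¹ * ((k : G) * x * (k : G)⁻¹) = k * (g * x) * (k : G)⁻¹ := by group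
        _ = _ := by rw [e]; group
    · intro e
      calc g * x = (k : G)⁻¹ * ((k : G) * g * (k : G)⁻¹ * ((k : G) * x * (k : G)⁻¹)) * k := by group
        _ = x * g := by rw [e]; group
  have hle' : centralizer ({(x' : G)} : Set G) ≤ M := le_of_unique hG hU hM (hUS.trans hSM) hUC
    (ms_centralizer_singleton_ne_top hG hx'1)
  refine ⟨fun g hg => ?_, fun L hL hCL => ?_⟩
  · have h6 := hle' ((hc g).1 hg)
    have h7 := mul_mem (mul_mem (inv_mem hkM) h6) hkM
    rwa [show (k : G)⁻¹ * (k * g * (k : G)⁻¹) * k = g by group] at h7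
  · have h6 : conjBy (k : G) L = M := hU.unique ⟨isCoatom_conjBy _ hL, fun u hu => by
      rw [mem_conjBy]
      refine hCL ((hc _).2 ?_)
      rw [show (k : G) * ((k : G)⁻¹ * u * (k : G)) * (k : G)⁻¹ = u by group]
      exact hUC hu⟩ ⟨hM, hUS.trans hSM⟩
    have h7 := congrArg (conjBy (k : G)⁻¹) h6
    rwa [conjBy_conjBy, inv_mul_cancel, conjBy_one,
      CfsgLib.Coprime.conjBy_eq_self_iff.2 (le_normalizer (inv_mem hkM))] at h7

end CfsgLib.CFun.TauTwo
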