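import Cfsg.Agent.Lib.CFun.OddPrimeActionCore
import Cfsg.Agent.S1411
import Cfsg.Agent.S1423
import Cfsg.Agent.S1428

/-!
# Fixed points of `τ₁`-elements on `σ`-cores

A subgroup `P` of order `p ∈ τ₁(M)` fixes only elements of `[S, S]` in an invariant Sylow subgroup
`S` at a prime outside `β(M)`; hence `M` is the only maximal subgroup containing the centralizer
of an element of prime order of `C(P) ∩ M_σ`.
-/

set_option autoImplicit false
set_option linter.style.haveILetI false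
set_option linter.unusedSectionVars false

open Subgroup
open scoped commutatorElement
open CfsgLib.Coprime (conjBy conjBy_conjBy conjBy_one mem_conjBy conj_mem_conjBy IsSylowIn IsHallIn)

namespace CfsgLib.CFun.TauOne

open CfsgLib.CFun.TauTwo

universe u

variable {G : Type u} [Group G] [Finite G]

/-- A subgroup containing every element of prime power order of `V` contains `V`. -/
theorem le_of_prime_power_elements {V W : Subgroup G}
    (h : ∀ t : ℕ, t.Prime → ∀ v ∈ V, (∃ n : ℕ, v ^ t ^ n = 1) → v ∈ W) : V ≤ W := by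
  refine inf_eq_left.1 (eq_of_le_of_card_ge inf_le_left (Nat.le_of_dvd Nat.card_pos ?_))
  refine (Nat.dvd_iff_prime_pow_dvd_dvd _ _).2 fun t k ht hk => ?_
  haveI : Fact t.Prime := ⟨ht⟩
  obtain ⟨H, hH⟩ := Sylow.exists_subgroup_card_pow_prime (G := V) t hk
  have hHp : IsPGroup t H := IsPGroup.of_card hH
  have hle : H.map V.subtype ≤ V ⊓ W := fun x hx => by
    obtain ⟨y, hy, rfl⟩ := hx
    obtain ⟨n, hn⟩ := hHp ⟨y, hy⟩
    exact mem_inf.2 ⟨y.2, h t ht y y.2 ⟨n, by
      simpa using congrArg (fun z : H => ((z : V) : G)) hn⟩⟩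
  calc t ^ k = Nat.card ↥(H.map V.subtype) := by
        rw [card_map_of_injective V.subtype_injective, hH]
    _ ∣ _ := card_dvd_of_le hle

variable {p : ℕ} [hp : Fact p.Prime] (hG : Cfsg.IsMinSimpleOddOrder G) {M : Subgroup G}
include hG

/-- A `p`-subgroup over `P` centralizes the fixed points of `P`, when `M` has `p`-rank one. -/
theorem fixed_of_line (hM : IsCoatom M) (hpσ : p ∉ Cfsg.sigma M) (hr1 : Cfsg.PRankLE p 1 M)
    {P T : Subgroup G} (hPc : Nat.card P = p) (hT : IsPGroup p T) (hTM : T ≤ M) (hPT : P ≤ T) :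
    Cfsg.sigmaCore M ⊓ centralizer (P : Set G) ≤ centralizer (T : Set G) := by
  have hp2 : p ≠ 2 := ms_ne_two hG ((dvd_of_eq hPc.symm).trans (card_subgroup_dvd_card P))
  have hTc : IsCyclic T := Compl.isCyclic_of_rank_one hp2 hT
    (RankTwoTower.pRankLE_of_injective (f := inclusion hTM) (inclusion_injective hTM) hr1)
  obtain ⟨L, hL, hNP⟩ := exists_coatom_normalizer hG (line_ne_bot hPc)
    (ms_isPGroup_ne_top hG (IsPGroup.of_card (n := 1) (by rw [hPc, pow_one])))
  have hTab : T ≤ centralizer (P : Set G) := fun t ht => mem_centralizer_iff.2 fun y hy => by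
    haveI := hTc
    exact (congrArg Subtype.val (mul_comm' (⟨y, hPT hy⟩ : T) ⟨t, ht⟩) :)
  have hTL : T ≤ L :=
    hTab.trans ((CfsgLib.Coprime.centralizer_le_normalizer_self _).trans hNP)
  refine le_trans (le_inf inf_le_left (inf_le_right.trans ?_)) (le_centralizer_iff.1
    (centralizes_of_normalizer hG hM hL hpσ hr1 hPc hNP hT hTM hTL hPT))
  exact (CfsgLib.Coprime.centralizer_le_normalizer_self _).trans hNP

omit hp in
/-- A subgroup of prime order commuting with `P`, `p ∈ τ₁(M)`, centralizes its fixed points. -/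
theorem fixed_le_commuting (hM : IsCoatom M) (hpt : p ∈ Cfsg.tau1 M) {P : Subgroup G}
    (hPM : P ≤ M) (hPc : Nat.card P = p) {r : ℕ} (hr : r.Prime) {R : Subgroup G}
    (hRc : Nat.card R = r) (hRM : R ≤ M) (hRP : R ≤ centralizer (P : Set G))
    (hrσ : r ∉ Cfsg.sigma M) :
    Cfsg.sigmaCore M ⊓ centralizer (P : Set G) ≤ centralizer (R : Set G) := by
  obtain ⟨E, hE, hKE⟩ := exists_complement hG hM (sup_le hRM hPM) fun s hs hsd => by
    have h1 := hsd.trans (CfsgLib.Coprime.card_sup_dvd_of_le_normalizer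
      (hRP.trans (CfsgLib.Coprime.centralizer_le_normalizer_self _)))
    rw [hRc, hPc] at h1
    rcases hs.dvd_mul.1 h1 with h | h
    · rw [(Nat.prime_dvd_prime_iff_eq hs hr).1 h]; exact hrσ
    · rw [(Nat.prime_dvd_prime_iff_eq hs hpt.1).1 h]; exact hpt.2.1
  exact (Cfsg.Agent.S1428.result hG M hM E hE p hpt P (le_sup_right.trans hKE) hPc R
    (le_inf (le_sup_left.trans hKE) hRP) (by rw [hRc]; exact hr)).trans inf_le_right

omit hp in
/-- An element of prime power order and rank one commuting with `P` centralizes its fixed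
points. -/
theorem fixed_le_element (hM : IsCoatom M) (hpt : p ∈ Cfsg.tau1 M) {P : Subgroup G} (hPM : P ≤ M)
    (hPc : Nat.card P = p) {t : ℕ} [ht : Fact t.Prime] {v : G} (hvM : v ∈ M)
    (hv : ∃ n : ℕ, v ^ t ^ n = 1) (hvP : v ∈ centralizer (P : Set G)) (htσ : t ∉ Cfsg.sigma M)
    (ht1 : Cfsg.PRankLE t 1 M) :
    Cfsg.sigmaCore M ⊓ centralizer (P : Set G) ≤ centralizer ({v} : Set G) := by
  by_cases hv1 : v = 1
  · subst hv1
    exact fun x _ => mem_centralizer_singleton_iff.2 (by simp)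
  obtain ⟨n, hn⟩ := hv
  obtain ⟨i, -, hi⟩ := (Nat.dvd_prime_pow ht.out).1 (orderOf_dvd_of_pow_eq_one hn)
  have hi1 : i ≠ 0 := fun e => hv1 (orderOf_eq_one_iff.1 (by rw [hi, e, pow_zero]))
  obtain ⟨y, hy⟩ := exists_prime_orderOf_dvd_card' (G := zpowers v) t
    (by rw [Nat.card_zpowers, hi]; exact dvd_pow_self t hi1)
  set R := zpowers (y : G) with hRdef
  have hRv : R ≤ zpowers v := zpowers_le.2 y.2
  have hRc : Nat.card R = t := by rw [hRdef, Nat.card_zpowers, orderOf_coe, hy]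
  have h1 := fixed_le_commuting hG hM hpt hPM hPc ht.out hRc (hRv.trans (zpowers_le.2 hvM))
    (hRv.trans (zpowers_le.2 hvP)) htσ
  have h2 := fixed_of_line hG hM htσ ht1 hRc
    (IsPGroup.of_card (n := i) (by rw [Nat.card_zpowers, hi])) (zpowers_le.2 hvM) hRv
  rw [← centralizer_zpowers v]
  exact (le_inf inf_le_left h1).trans h2

/-- The fixed points of `P` in an invariant Sylow subgroup at a prime outside `β(M)` lie in its
derived subgroup. -/
theorem fixed_le_derived_sylow (hM : IsCoatom M) {q : ℕ} [hq : Fact q.Prime]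
    (hqM : q ∈ Cfsg.sigma M) (hqβ : q ∉ Cfsg.beta M) (hpt : p ∈ Cfsg.tau1 M) {P : Subgroup G}
    (hPM : P ≤ M) (hPc : Nat.card P = p) (S : Sylow q G) (hSM : (S : Subgroup G) ≤ M)
    (hPS : P ≤ normalizer ((S : Subgroup G) : Set G)) :
    (S : Subgroup G) ⊓ centralizer (P : Set G) ≤ ⁅(S : Subgroup G), (S : Subgroup G)⁆ := by
  set C := (S : Subgroup G) ⊓ centralizer (P : Set G) with hC
  by_cases hC1 : C = ⊥
  · rw [hC1]; exact bot_le
  have hSσ : (S : Subgroup G) ≤ Cfsg.sigmaCore M := isPGroup_le_sigmaCore hG hM hqM S.2 hSM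
  have hCσ : C ≤ Cfsg.sigmaCore M ⊓ centralizer (P : Set G) := inf_le_inf_right _ hSσ
  set N := normalizer ((S : Subgroup G) : Set G) with hN
  have hNM : N ≤ M := sylow_normalizer_le hG hM hqM S hSM
  have hPp : IsPGroup p P := IsPGroup.of_card (n := 1) (by rw [hPc, pow_one])
  have hqp : q ≠ p := fun e => hpt.2.1 (e ▸ hqM)
  have hNsol : Group.IsSolvable N := ms_solvable hG (ms_ne_top_of_le hG hM hNM)
  obtain ⟨V, hVh, hPV⟩ := IsHallIn.exists_ge (π := {t : ℕ | t ≠ q}) hNsol hPS fun s hs hsd => by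
    rw [hPc] at hsd
    rw [(Nat.prime_dvd_prime_iff_eq hs hp.out).1 hsd]
    exact hqp.symm
  obtain ⟨hVN, hVπ, hVi⟩ := hVh
  have hVq : ¬ q ∣ Nat.card V := fun h => hVπ q hq.out h rfl
  have hcompl : Cfsg.IsComplIn (S : Subgroup G) V N := by
    refine ⟨le_normalizer, hVN, inf_eq_bot_of_isPGroup S.2 hVq, fun m hm => ?_⟩
    have hsup : (S : Subgroup G) ⊔ V = N := by
      refine eq_of_le_of_card_ge (sup_le le_normalizer hVN) (Nat.le_of_dvd Nat.card_pos ?_)
      have h1 : Nat.card N ∣ Nat.card ↥((S : Subgroup G) ⊔ V) * V.relIndex N := by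
        rw [← CfsgLib.Coprime.card_mul_relIndex hVN]
        exact mul_dvd_mul_right (card_dvd_of_le le_sup_right) _
      have h2 : Nat.card N ∣ Nat.card ↥((S : Subgroup G) ⊔ V) * (S : Subgroup G).relIndex N := by
        rw [← CfsgLib.Coprime.card_mul_relIndex (H := (S : Subgroup G)) (L := N) le_normalizer]
        exact mul_dvd_mul_right (card_dvd_of_le le_sup_left) _
      have hcop : (V.relIndex N).Coprime ((S : Subgroup G).relIndex N) :=
        Nat.coprime_of_dvd fun t ht h3 h4 => by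
          obtain rfl : t = q := by simpa using hVi t ht h3
          exact S.not_dvd_index (h4.trans (relIndex_dvd_index_of_le le_normalizer))
      have h5 := Nat.dvd_gcd h1 h2
      rwa [Nat.gcd_mul_left, hcop, mul_one] at h5
    rw [← hsup] at hm
    obtain ⟨a, ha, b, hb, e⟩ := CfsgLib.Coprime.mem_sup_exists hVN hm
    exact ⟨a, ha, b, hb, e.symm⟩
  have hSV := (Cfsg.Agent.S1411.result hG q S V hcompl).1
  have hder := fixed_le_derived_of_commutator_eq (K := (S : Subgroup G)) (E := V) hVN (by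
    obtain ⟨k, hk⟩ := IsPGroup.iff_card.1 S.2
    rw [hk]; exact ((hq.out.coprime_iff_not_dvd.2 hVq).symm).pow_right k) hSV.symm
  suffices hVC : V ≤ centralizer (C : Set G) from
    le_trans (le_inf inf_le_left (le_centralizer_iff.1 hVC)) hder
  have hcent : ∀ v ∈ V, v ∈ ⁅M, M⁆ → v ∈ centralizer ((S : Subgroup G) : Set G) := fun v hv hvd =>
    derived_centralizes_non_beta hG hM hqβ hSM S.2 hvd
      ((hq.out.coprime_iff_not_dvd.2 fun h => hVq (h.trans (orderOf_dvd_natCard V hv))).symm)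
      (hVN hv)
  have hVM : V ≤ M := hVN.trans hNM
  -- a Hall `τ₁`-subgroup of `V` containing `P`
  obtain ⟨W, hWh, hPW⟩ := IsHallIn.exists_ge (π := Cfsg.tau1 M)
    (ms_solvable hG (ms_ne_top_of_le hG hM hVM)) hPV fun s hs hsd => by
    rw [hPc] at hsd
    rw [(Nat.prime_dvd_prime_iff_eq hs hp.out).1 hsd]
    exact hpt
  obtain ⟨hWV, hWπ, -⟩ := id hWh
  have hWM : W ≤ M := hWV.trans hVM
  have hWd : W ⊓ ⁅M, M⁆ = ⊥ := inf_eq_bot_of_coprime
    (Nat.coprime_of_dvd fun s hs h1 h2 => (hWπ s hs h1).2.2.2.1 h2)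
  refine le_of_prime_power_elements fun t ht v hv hvn => ?_
  haveI : Fact t.Prime := ⟨ht⟩
  by_cases hv1 : v = 1
  · subst hv1; exact one_mem _
  have hsub : centralizer ((S : Subgroup G) : Set G) ≤ centralizer (C : Set G) :=
    centralizer_le inf_le_left
  obtain ⟨n, hn⟩ := id hvn
  have hvt : IsPGroup t (zpowers v) := by
    obtain ⟨i, -, hi⟩ := (Nat.dvd_prime_pow ht).1 (orderOf_dvd_of_pow_eq_one hn)
    exact IsPGroup.of_card (n := i) (by rw [Nat.card_zpowers, hi])
  have htM : t ∣ Nat.card M :=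
    mem_of_isPGroup hvt (zpowers_ne_bot.2 hv1) (zpowers_le.2 (hVM hv))
  by_cases htσ : t ∈ Cfsg.sigma M
  · exact hsub (hcent v hv (sigmaCore_le_derived hG hM
      (isPGroup_le_sigmaCore hG hM htσ hvt (zpowers_le.2 (hVM hv)) (mem_zpowers v))))
  rcases tau_or_rank_one hG hM ht htσ with htt | ht1
  · exfalso
    -- no prime of `τ₂(M)`
    obtain ⟨E, hE, hPE⟩ := exists_complement hG hM hPM fun s hs hsd => by
      rw [hPc] at hsd; rw [(Nat.prime_dvd_prime_iff_eq hs hp.out).1 hsd]; exact hpt.2.1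
    obtain ⟨A, hAE, hAe, hA2⟩ := Compl.exists_elementary_compl hG hM hE htt
    obtain ⟨⟨hEA, -⟩, -, -⟩ := Cfsg.Agent.S1418.result hG M hM E hE t htt A ⟨hAE, hAe, hA2⟩
    have hAM : A ≤ M := hAE.trans hE.1
    have hnil := tau_nilpotent hG hM htt hAM hAe hA2
    have hS1 : (S : Subgroup G) ≠ ⊥ := fun e => hC1 (le_bot_iff.1 (e ▸ inf_le_left))
    have hNeq : N = M := normalizer_sylow_nilpotent hG hM hnil S hSσ hS1
    have hAp : IsPGroup t A := isPGroup_of_elementary hAe
    have htp : t ≠ p := fun e => (mem_tau_iff.1 htt).2.2 (e ▸ hpt.2.2.2.2)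
    have hPA : P ≤ normalizer (A : Set G) := hPE.trans hEA
    have hcop : (Nat.card P).Coprime (Nat.card A) := by
      rw [hPc, hA2]; exact ((Nat.coprime_primes hp.out ht).2 htp.symm).pow_right 2
    have hAA : (⁅A, P⁆ : Subgroup G) ≤ A := commutator_le.2 fun a ha x hx => by
      rw [commutatorElement_def, mul_assoc, mul_assoc]
      refine mul_mem ha ?_
      rw [← mul_assoc]
      exact (mem_normalizer_iff.1 (hPA hx) _).1 (inv_mem ha)
    have h1 : (⁅A, P⁆ : Subgroup G) ≤ centralizer (C : Set G) := fun a ha => by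
      refine hsub ?_
      obtain ⟨k, hk⟩ := hAp ⟨a, hAA ha⟩
      exact derived_centralizes_non_beta hG hM hqβ hSM S.2 (commutator_mono hAM hPM ha)
        (Nat.Coprime.coprime_dvd_left (orderOf_dvd_of_pow_eq_one (congrArg Subtype.val hk :))
          (((Nat.coprime_primes ht hq.out).2 fun e => htσ (e ▸ hqM)).pow_left k))
        (hNeq.ge (hAM (hAA ha)))
    have h2 : A ⊓ centralizer (P : Set G) ≤ centralizer (C : Set G) := fun a ha => by
      by_cases ha1 : a = 1
      · subst ha1; exact one_mem _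
      have h3 := fixed_le_commuting hG hM hpt hPM hPc ht
        (TauTwo.zpowers_card hAe ha.1 ha1) (zpowers_le.2 (hAM ha.1)) (zpowers_le.2 ha.2) htσ
      exact (le_centralizer_iff.1 (hCσ.trans h3)) (mem_zpowers a)
    have h4 : A ≤ centralizer (C : Set G) :=
      (CfsgLib.Coprime.commutator_sup_centralizer hPA hcop
        (Or.inl (CfsgLib.Coprime.isSolvable_of_isNilpotent hPp.isNilpotent))).ge.trans
        (sup_le h1 h2)
    exact hC1 (le_bot_iff.1 ((le_inf (inf_le_left.trans hSσ) (le_centralizer_iff.1 h4)).trans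
      (tau_fixed_eq_bot hG hM htt hAM hAe hA2).le))
  by_cases htd : t ∣ Nat.card ↥(⁅M, M⁆ : Subgroup G)
  · refine hsub (hcent v hv ?_)
    obtain ⟨E, hE, hvE⟩ := exists_complement hG hM (zpowers_le.2 (hVM hv)) fun s hs hsd => by
      obtain ⟨k, hk⟩ := IsPGroup.iff_card.1 hvt
      rw [hk] at hsd
      rw [(Nat.prime_dvd_prime_iff_eq hs ht).1 (hs.dvd_of_dvd_pow hsd)]; exact htσ
    exact commutator_mono hE.1 hE.1 (Compl.mem_derived_of_tau3 hG hM hE ⟨ht, htσ, htd, ht1⟩
      (hvE (mem_zpowers v)) hn)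
  -- `t ∈ τ₁(M)`
  obtain ⟨u, hu, huW⟩ := hWh.exists_conj_le (ms_solvable hG (ms_ne_top_of_le hG hM hVM))
    (zpowers_le.2 hv) fun s hs hsd => by
      obtain ⟨k, hk⟩ := IsPGroup.iff_card.1 hvt
      rw [hk] at hsd
      rw [(Nat.prime_dvd_prime_iff_eq hs ht).1 (hs.dvd_of_dvd_pow hsd)]
      exact ⟨ht, htσ, htM, htd, ht1⟩
  have hwW : u * v * u⁻¹ ∈ W := huW (conj_mem_conjBy (mem_zpowers v))
  set w := u * v * u⁻¹ with hw
  have hwP : w ∈ centralizer (P : Set G) := mem_centralizer_iff.2 fun x hx => by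
    have h1 : x * w * x⁻¹ * w⁻¹ ∈ W ⊓ ⁅M, M⁆ := mem_inf.2
      ⟨mul_mem (mul_mem (mul_mem (hPW hx) hwW) (inv_mem (hPW hx))) (inv_mem hwW),
        commutator_mem_commutator (hPM hx) (hWM hwW)⟩
    rw [hWd, mem_bot, mul_inv_eq_one] at h1
    exact mul_inv_eq_iff_eq_mul.1 h1
  have hwn : ∃ n : ℕ, w ^ t ^ n = 1 := ⟨n, by rw [hw, conj_pow, hn, mul_one, mul_inv_cancel]⟩
  have hwC : C ≤ centralizer ({w} : Set G) :=
    hCσ.trans (fixed_le_element hG hM hpt hPM hPc (hWM hwW) hwn hwP htσ ht1)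
  refine mem_centralizer_iff.2 fun c hc => ?_
  -- `u` normalizes `C`
  have huc : u * c * u⁻¹ ∈ C := by
    refine mem_inf.2 ⟨(mem_normalizer_iff.1 (hVN hu) _).1 hc.1, mem_centralizer_iff.2 fun x hx => ?_⟩
    have hk : u⁻¹ * x * u * x⁻¹ ∈ centralizer ((S : Subgroup G) : Set G) := by
      refine hcent _ (mul_mem (mul_mem (mul_mem (inv_mem hu) (hPV hx)) hu) (inv_mem (hPV hx))) ?_
      have := commutator_mem_commutator (inv_mem (hVM hu)) (hPM hx)
      rwa [commutatorElement_def, inv_inv] at this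
    have h1 : c * (u⁻¹ * x * u * x⁻¹) = (u⁻¹ * x * u * x⁻¹) * c :=
      mem_centralizer_iff.1 hk c hc.1
    have h2 : x * c = c * x := mem_centralizer_iff.1 hc.2 x hx
    calc x * (u * c * u⁻¹) = u * ((u⁻¹ * x * u * x⁻¹) * (x * c)) * u⁻¹ := by group
      _ = u * ((u⁻¹ * x * u * x⁻¹) * c * x) * u⁻¹ := by rw [h2]; group
      _ = u * (c * (u⁻¹ * x * u * x⁻¹) * x) * u⁻¹ := by rw [h1]
      _ = (u * c * u⁻¹) * x := by group
  have h3 : (u * c * u⁻¹) * w = w * (u * c * u⁻¹) := mem_centralizer_singleton_iff.1 (hwC huc)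
  have h4 := congrArg (fun y => u⁻¹ * y * u) h3
  simp only [hw] at h4
  simpa [mul_assoc] using h4

/-- `M` is the only maximal subgroup over the centralizer of an element of prime order fixed by
`P`, `p ∈ τ₁(M)`. -/
theorem unique_of_fixed (hM : IsCoatom M) (hpt : p ∈ Cfsg.tau1 M) {P : Subgroup G} (hPM : P ≤ M)
    (hPc : Nat.card P = p) {q : ℕ} [hq : Fact q.Prime] {X : Subgroup G} (hX : Nat.card X = q)
    (hXσ : X ≤ Cfsg.sigmaCore M ⊓ centralizer (P : Set G)) :
    centralizer (X : Set G) ≤ M ∧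
      ∀ L : Subgroup G, IsCoatom L → centralizer (X : Set G) ≤ L → L = M := by
  have hXM : X ≤ M := (hXσ.trans inf_le_left).trans (map_subtype_le _)
  have hXp : IsPGroup q X := IsPGroup.of_card (n := 1) (by rw [hX, pow_one])
  have hqM : q ∈ Cfsg.sigma M := (sigmaCore_hall hG hM).1.2.1 q hq.out
    (hX ▸ card_dvd_of_le (hXσ.trans inf_le_left))
  have P0 : Sylow q ↥(Cfsg.sigmaCore M) := default
  refine (Cfsg.Agent.S1423.result hG M hM q hqM X hXM hX P0 ?_).1
  by_cases hqβ : q ∈ Cfsg.beta M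
  · exact Or.inl hqβ
  refine Or.inr ?_
  obtain ⟨T, hT, hXT, hPT⟩ := CfsgLib.Coprime.le_invariant_sylow
    (K := Cfsg.sigmaCore M) (A := P) (hPM.trans (sigmaCore_normal hG M)) (by
      rw [hPc]; exact hp.out.coprime_iff_not_dvd.2 (not_dvd_sigmaCore hG hM hpt.2.1))
    (Or.inr (sigmaCore_solvable hG hM)) (hXσ.trans inf_le_left) hXp
    ((le_centralizer_iff.1 (hXσ.trans inf_le_right)).trans
      (CfsgLib.Coprime.centralizer_le_normalizer_self _))
  obtain ⟨S, hS⟩ := sylow_of_hall (sigmaCore_hall hG hM).2 hqM hT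
  have h1 := fixed_le_derived_sylow hG hM hqM hqβ hpt hPM hPc S
    (by rw [hS]; exact hT.1.trans (map_subtype_le _)) (by rw [hS]; exact hPT)
  rw [hS] at h1
  exact ((le_inf hXT (hXσ.trans inf_le_right)).trans h1).trans (commutator_mono hT.1 hT.1)

end CfsgLib.CFun.TauOne
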