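import Cfsg.Agent.Lib.CFun.OddStable
import Cfsg.Agent.Lib.CFun.OddPrelimSCN
import Cfsg.Agent.Lib.CFun.OddRankTwo
import Cfsg.Agent.Lib.PGroup.Basic
import Cfsg.Agent.Lib.Coprime.Solvable
import Cfsg.Agent.S1466
import Cfsg.Agent.S1467

/-!
# Puig's subgroup in odd solvable groups

The Puig series is transported into the ambient group; `Z(L(S))` is normal when the `p'`-core is
trivial.
-/

set_option autoImplicit false
set_option linter.style.haveILetI false
set_option linter.unusedSectionVars false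

open Subgroup
open scoped commutatorElement
open CfsgLib.Coprime (conjBy)

namespace CfsgLib.CFun.Puig

universe u v

variable {G : Type u} [Group G]

/-- One Puig step inside `S`. -/
def stepIn (S X : Subgroup G) : Subgroup G :=
  sSup {A : Subgroup G | A ≤ S ∧ IsMulCommutative A ∧ X ≤ normalizer (A : Set G)}

/-- The Puig series inside `S`. -/
def seqIn (S : Subgroup G) : ℕ → Subgroup G
  | 0 => ⊥
  | n + 1 => stepIn S (seqIn S n)

/-- `L(S)` inside the group. -/
def upperIn (S : Subgroup G) : Subgroup G := ⨅ n : ℕ, seqIn S (2 * n + 1)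

/-- `L_*(S)` inside the group. -/
def lowerIn (S : Subgroup G) : Subgroup G := ⨆ n : ℕ, seqIn S (2 * n)

theorem stepIn_le (S X : Subgroup G) : stepIn S X ≤ S := sSup_le fun _ h => h.1

theorem stepIn_anti (S : Subgroup G) {X Y : Subgroup G} (h : X ≤ Y) : stepIn S Y ≤ stepIn S X :=
  sSup_le_sSup fun _ hA => ⟨hA.1, hA.2.1, h.trans hA.2.2⟩

theorem upperIn_le (S : Subgroup G) : upperIn S ≤ S := (iInf_le _ 0).trans (stepIn_le S _)

variable {K : Type v} [Group K] {H : Type u} [Group H] (φ : K →* H)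

theorem map_puigStep (hφ : Function.Injective φ) (X : Subgroup K) :
    (Cfsg.puigStep X).map φ = stepIn φ.range (X.map φ) := by
  refine le_antisymm (map_le_iff_le_comap.2 (sSup_le fun A hA => map_le_iff_le_comap.1 ?_)) ?_
  · refine le_sSup (α := Subgroup H) ⟨(map_mono le_top).trans (MonoidHom.range_eq_map φ).ge,
      (haveI := hA.1; Subgroup.map_isMulCommutative A φ), ?_⟩
    exact (map_mono hA.2).trans (le_normalizer_map φ)
  · refine sSup_le fun B hB => ?_
    obtain ⟨hBr, hBc, hBn⟩ := hB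
    have hmap : (B.comap φ).map φ = B := map_comap_eq_self hBr
    have hA : B.comap φ ∈ {A : Subgroup K | IsMulCommutative A ∧ X ≤ normalizer (A : Set K)} := by
      refine ⟨⟨⟨fun a b => Subtype.ext (hφ ?_)⟩⟩, fun x hx => ?_⟩
      · rw [Subgroup.coe_mul, Subgroup.coe_mul, map_mul, map_mul]
        exact congrArg Subtype.val (hBc.1.1 ⟨φ a, a.2⟩ ⟨φ b, b.2⟩)
      · refine mem_normalizer_iff.2 fun k => ?_
        rw [mem_comap, mem_comap, map_mul, map_mul, map_inv]
        exact mem_normalizer_iff.1 (hBn (mem_map_of_mem φ hx)) (φ k)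
    have hle : B.comap φ ≤ Cfsg.puigStep X := le_sSup hA
    exact hmap ▸ map_mono hle

theorem map_puigSeq (hφ : Function.Injective φ) (n : ℕ) :
    (Cfsg.puigSeq K n).map φ = seqIn φ.range n := by
  induction n with
  | zero => exact map_bot φ
  | succ n ih =>
    show (Cfsg.puigStep (Cfsg.puigSeq K n)).map φ = _
    rw [map_puigStep φ hφ, ih]
    rfl

theorem map_puigLower (hφ : Function.Injective φ) :
    (Cfsg.puigLower K).map φ = lowerIn φ.range := by
  rw [Cfsg.puigLower, Subgroup.map_iSup, lowerIn]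
  simp only [map_puigSeq φ hφ]

theorem map_puigSubgroup (hφ : Function.Injective φ) :
    (Cfsg.puigSubgroup K).map φ = upperIn φ.range := by
  rw [Cfsg.puigSubgroup, map_iInf φ hφ, upperIn]
  simp only [map_puigSeq φ hφ]

theorem map_center_puig (hφ : Function.Injective φ) :
    ((center (Cfsg.puigSubgroup K)).map (Cfsg.puigSubgroup K).subtype).map φ =
      upperIn φ.range ⊓ centralizer (upperIn φ.range : Set H) := by
  rw [← map_puigSubgroup φ hφ]
  set L := Cfsg.puigSubgroup K
  ext x
  constructor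
  · rintro ⟨_, ⟨z, hz, rfl⟩, rfl⟩
    refine mem_inf.2 ⟨mem_map_of_mem φ z.2, mem_centralizer_iff.2 ?_⟩
    rintro _ ⟨l, hl, rfl⟩
    rw [← map_mul, ← map_mul]
    exact congrArg φ (congrArg Subtype.val (mem_center_iff.1 hz ⟨l, hl⟩))
  · rintro ⟨⟨k, hk, rfl⟩, hc⟩
    refine ⟨k, ⟨⟨k, hk⟩, mem_center_iff.2 fun l => Subtype.ext (hφ ?_), rfl⟩, rfl⟩
    show φ ((l : K) * k) = φ (k * (l : K))
    rw [map_mul, map_mul]
    exact mem_centralizer_iff.1 hc _ (mem_map_of_mem φ l.2)

variable [Finite G]

theorem seq_facts (S : Subgroup G) :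
    (∀ n, seqIn S (2 * n) ≤ lowerIn S) ∧ lowerIn S ≤ upperIn S ∧
      stepIn S (lowerIn S) = upperIn S ∧ stepIn S (upperIn S) = lowerIn S := by
  have hφ := S.subtype_injective
  obtain ⟨-, -, -, -, hle, h1, h2⟩ := Cfsg.Agent.S1467.result (G := S)
  have e : S.subtype.range = S := S.range_subtype
  refine ⟨fun n => le_iSup (fun n => seqIn S (2 * n)) n, ?_, ?_, ?_⟩
  · have := map_mono (f := S.subtype) hle
    rwa [map_puigLower _ hφ, map_puigSubgroup _ hφ, e] at this
  · have := congrArg (Subgroup.map S.subtype) h1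
    rwa [map_puigStep _ hφ, map_puigLower _ hφ, map_puigSubgroup _ hφ, e] at this
  · have := congrArg (Subgroup.map S.subtype) h2
    rwa [map_puigStep _ hφ, map_puigLower _ hφ, map_puigSubgroup _ hφ, e] at this

/-- Squeezing: `L` is unchanged on passing to a subgroup containing it. -/
theorem upperIn_eq_of_le {S R : Subgroup G} (hR : R ≤ S) (hL : upperIn S ≤ R) :
    upperIn R = upperIn S := by
  obtain ⟨hS0, hSle, hS1, hS2⟩ := seq_facts S
  obtain ⟨hR0, -, hR1, -⟩ := seq_facts R
  have hlow : ∀ n, seqIn R (2 * n) ≤ lowerIn S ∧ upperIn S ≤ seqIn R (2 * n + 1) := by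
    intro n
    induction n with
    | zero =>
      refine ⟨bot_le, ?_⟩
      show upperIn S ≤ stepIn R (seqIn R 0)
      rw [← hS1]
      refine sSup_le fun A hA => le_sSup ⟨?_, hA.2.1, (bot_le : (⊥ : Subgroup G) ≤ _)⟩
      exact (le_sSup hA).trans (hS1.le.trans hL)
    | succ n ih =>
      have h1 : seqIn R (2 * (n + 1)) ≤ lowerIn S := by
        show stepIn R (seqIn R (2 * n + 1)) ≤ _
        rw [← hS2]
        exact sSup_le fun A hA => le_sSup ⟨hA.1.trans hR, hA.2.1, ih.2.trans hA.2.2⟩
      refine ⟨h1, ?_⟩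
      show upperIn S ≤ stepIn R (seqIn R (2 * (n + 1)))
      rw [← hS1]
      refine sSup_le fun A hA => le_sSup ⟨?_, hA.2.1, h1.trans hA.2.2⟩
      exact (le_sSup hA).trans (hS1.le.trans hL)
  refine le_antisymm ?_ (le_iInf fun n => (hlow n).2)
  have hup : ∀ n, seqIn S (2 * n) ≤ lowerIn R ∧ upperIn R ≤ seqIn S (2 * n + 1) := by
    intro n
    induction n with
    | zero =>
      refine ⟨bot_le, ?_⟩
      show upperIn R ≤ stepIn S (seqIn S 0)
      rw [← hR1]
      exact sSup_le fun A hA => le_sSup ⟨hA.1.trans hR, hA.2.1, (bot_le : (⊥ : Subgroup G) ≤ _)⟩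
    | succ n ih =>
      have h1 : seqIn S (2 * (n + 1)) ≤ lowerIn R := by
        obtain ⟨-, -, -, hR2⟩ := seq_facts R
        show stepIn S (seqIn S (2 * n + 1)) ≤ _
        rw [← hR2]
        refine sSup_le fun A hA => le_sSup ⟨?_, hA.2.1, ih.2.trans hA.2.2⟩
        exact ((le_sSup hA).trans ((hS0 (n + 1)).trans hSle)).trans hL
      refine ⟨h1, ?_⟩
      show upperIn R ≤ stepIn S (seqIn S (2 * (n + 1)))
      rw [← hR1]
      exact sSup_le fun A hA => le_sSup ⟨hA.1.trans hR, hA.2.1, h1.trans hA.2.2⟩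
  exact le_iInf fun n => (hup n).2

theorem normalizer_le_seqIn (S : Subgroup G) :
    ∀ n, normalizer (S : Set G) ≤ normalizer (seqIn S n : Set G) := by
  intro n
  induction n with
  | zero => show _ ≤ normalizer ((⊥ : Subgroup G) : Set G); rw [normalizer_eq_top (H := (⊥ : Subgroup G))]; exact le_top
  | succ n ih =>
    intro g hg
    refine CfsgLib.Coprime.conjBy_eq_self_iff.1 (eq_of_le_of_card_ge ?_
      (CfsgLib.Coprime.card_conjBy g _).ge)
    show (stepIn S (seqIn S n)).map _ ≤ _
    rw [stepIn, map_le_iff_le_comap]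
    refine sSup_le fun A hA => map_le_iff_le_comap.1 (le_sSup ⟨?_, ?_, ?_⟩)
    · exact (map_mono hA.1).trans (CfsgLib.Coprime.conjBy_eq_self_iff.2 hg).le
    · haveI := hA.2.1; exact Subgroup.map_isMulCommutative A _
    · exact (CfsgLib.Coprime.conjBy_eq_self_iff.2 (ih hg)).ge.trans
        ((map_mono hA.2.2).trans (le_normalizer_map _))

theorem normalizer_le_upperIn (S : Subgroup G) :
    normalizer (S : Set G) ≤ normalizer (upperIn S : Set G) := fun g hg => by
  refine mem_normalizer_iff.2 fun x => ?_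
  rw [upperIn, mem_iInf, mem_iInf]
  exact forall_congr' fun n => mem_normalizer_iff.1 (normalizer_le_seqIn S _ hg) x

variable {p : ℕ} [hp : Fact p.Prime]

/-- The centralizer in a `p`-group of any positive term lies in it. -/
theorem centralizer_seqIn_le {T : Subgroup G} (hT : IsPGroup p T) :
    (∀ n : ℕ, T ⊓ centralizer (seqIn T (n + 1) : Set G) ≤ seqIn T (n + 1)) ∧
      T ⊓ centralizer (lowerIn T : Set G) ≤ lowerIn T := by
  by_cases hne : T = ⊥
  · subst hne
    exact ⟨fun n => inf_le_left.trans bot_le, inf_le_left.trans bot_le⟩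
  haveI := (nontrivial_iff_ne_bot T).2 hne
  obtain ⟨hseq, ⟨-, hlow⟩, -⟩ := Cfsg.Agent.S1466.result p hT
  have key : ∀ X : Subgroup T, centralizer (X : Set T) ≤ X →
      T ⊓ centralizer ((X.map T.subtype : Subgroup G) : Set G) ≤ X.map T.subtype := by
    rintro X hX x ⟨hxT, hxC⟩
    refine ⟨⟨x, hxT⟩, hX (mem_centralizer_iff.2 fun y hy => Subtype.ext ?_), rfl⟩
    exact mem_centralizer_iff.1 hxC _ (mem_map_of_mem T.subtype hy)
  refine ⟨fun n => ?_, ?_⟩
  · have h := key _ (hseq (n + 1) n.succ_pos).2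
    rwa [map_puigSeq _ T.subtype_injective, T.range_subtype] at h
  · have h := key _ hlow
    rwa [map_puigLower _ T.subtype_injective, T.range_subtype] at h

variable [Group.IsSolvable G] (hp2 : p ≠ 2) (hodd : Odd (Nat.card G))
include hp2 hodd

/-- Abelian subgroups normalized by a normal `p`-subgroup act on it inside `O_p`. -/
theorem map_le_pCore_of_family {P : Subgroup G} [hPn : P.Normal] (hP : IsPGroup p P)
    {S : Set (Subgroup G)}
    (hS : ∀ B ∈ S, IsMulCommutative B ∧ IsPGroup p B ∧ P ≤ normalizer (B : Set G)) :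
    (sSup S).map (QuotientGroup.mk' (centralizer (P : Set G))) ≤
      Cfsg.pCore p (G ⧸ centralizer (P : Set G)) := by
  rw [map_le_iff_le_comap]
  refine sSup_le fun B hB => map_le_iff_le_comap.1 ?_
  obtain ⟨hBc, -, hPB⟩ := hS B hB
  set C := centralizer (P : Set G) with hC
  rintro _ ⟨b, hb, rfl⟩
  have hst := isPStableOn_of_odd hp2 hodd P hP
  refine hst b (le_bot_iff.1 ?_)
  have hb' : zpowers b ≤ B := zpowers_le.2 hb
  refine (commutator_mono (commutator_mono le_rfl hb') hb').trans ?_
  haveI := hBc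
  refine (commutator_mono (le_normalizer_iff_commutator_le_right.1 hPB) le_rfl).trans ?_
  exact (commutator_eq_bot_iff_le_centralizer.2 (le_centralizer B)).le

/-- With trivial `p'`-core such a family lies in `O_p(G)`. -/
theorem le_pCore_of_family (hO : Cfsg.pPrimeCore p G = ⊥) {P : Subgroup G} [hPn : P.Normal]
    (hP : IsPGroup p P) (hCP : Cfsg.pCore p G ⊓ centralizer (P : Set G) ≤ P) {S : Set (Subgroup G)}
    (hS : ∀ B ∈ S, IsMulCommutative B ∧ IsPGroup p B ∧ P ≤ normalizer (B : Set G)) :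
    sSup S ≤ Cfsg.pCore p G := by
  have hT : IsPGroup p (Cfsg.pCore p G) := (CfsgLib.Coprime.pCore_isPGroup p)
  haveI := CfsgLib.Coprime.pCore_normal' (G := G) p
  set C := centralizer (P : Set G) with hC
  have hC' : IsPGroup p C := by
    refine isPGroup_of_no_coprime fun x hx hxp => ?_
    have hz : zpowers x ≤ centralizer (Cfsg.pCore p G : Set G) := by
      refine CfsgLib.Coprime.pq_lemma (P := P) (Q := zpowers x) (U := Cfsg.pCore p G) hP ?_ hT ?_ ?_
        ?_ ?_
      · rw [Nat.card_zpowers]; exact hxp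
      · exact le_centralizer_iff.1 (zpowers_le.2 hx)
      · rw [normalizer_eq_top]; exact le_top
      · rw [normalizer_eq_top]; exact le_top
      · exact hCP.trans (le_centralizer_iff.1 (zpowers_le.2 hx))
    obtain ⟨n, hn⟩ := hT ⟨x, CfsgLib.Coprime.centralizer_pCore_le hO (zpowers_le.1 hz)⟩
    exact orderOf_eq_one_iff.1 (Nat.eq_one_of_dvd_coprimes (hxp.symm.pow_left n)
      (orderOf_dvd_of_pow_eq_one (congrArg Subtype.val hn :)) dvd_rfl)
  set π := QuotientGroup.mk' C
  have hK : IsPGroup p ↥((Cfsg.pCore p (G ⧸ C)).comap π) :=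
    (CfsgLib.Coprime.pCore_isPGroup p).comap_of_ker_isPGroup π
      (by rw [show π.ker = C from QuotientGroup.ker_mk' C]; exact hC')
  haveI := CfsgLib.Coprime.pCore_normal' (G := G ⧸ C) p
  refine (map_le_iff_le_comap.1 (map_le_pCore_of_family hp2 hodd hP hS)).trans ?_
  haveI : ((Cfsg.pCore p (G ⧸ C)).comap π).Normal := inferInstance
  exact CfsgLib.Coprime.le_pCore hK

/-- `L_*(S) ≤ L_*(T) ≤ L(T) ≤ L(S)`. -/
theorem inclusion_chain (hO : Cfsg.pPrimeCore p G = ⊥) (S : Sylow p G) :
    lowerIn (S : Subgroup G) ≤ lowerIn (Cfsg.pCore p G) ∧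
      lowerIn (Cfsg.pCore p G) ≤ upperIn (Cfsg.pCore p G) ∧
      upperIn (Cfsg.pCore p G) ≤ upperIn (S : Subgroup G) := by
  set T := Cfsg.pCore p G with hTdef
  have hT : IsPGroup p T := (CfsgLib.Coprime.pCore_isPGroup p)
  haveI := CfsgLib.Coprime.pCore_normal' (G := G) p
  have hTS : T ≤ S := by
    obtain ⟨Q, hQ⟩ := hT.exists_le_sylow
    obtain ⟨g, hg⟩ := MulAction.exists_smul_eq G Q S
    intro t ht
    rw [← hg]
    refine ⟨g⁻¹ * t * g, hQ ?_, show g * (g⁻¹ * t * g) * g⁻¹ = t by group⟩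
    have := Subgroup.Normal.conj_mem (inferInstanceAs T.Normal) t ht g⁻¹
    rwa [inv_inv] at this
  have key : ∀ n, seqIn (S : Subgroup G) (2 * n) ≤ seqIn T (2 * n) ∧
      seqIn T (2 * n + 1) ≤ seqIn (S : Subgroup G) (2 * n + 1) := by
    intro n
    induction n with
    | zero =>
      refine ⟨bot_le, ?_⟩
      exact sSup_le fun A hA => le_sSup ⟨hA.1.trans hTS, hA.2.1, (bot_le : (⊥ : Subgroup G) ≤ _)⟩
    | succ n ih =>
      have h1 : seqIn (S : Subgroup G) (2 * (n + 1)) ≤ seqIn T (2 * (n + 1)) := by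
        set P := seqIn T (2 * n + 1) with hPdef
        haveI : P.Normal := normalizer_eq_top_iff.1 (top_le_iff.1 (le_trans
          (by rw [normalizer_eq_top]) (normalizer_le_seqIn T (2 * n + 1))))
        have hPT : P ≤ T := stepIn_le T _
        refine sSup_le fun A hA => le_sSup ⟨?_, hA.2.1, ?_⟩
        · have hsup := le_pCore_of_family hp2 hodd hO (hT.to_le hPT)
            ((centralizer_seqIn_le hT).1 (2 * n))
            (S := {A : Subgroup G | A ≤ (S : Subgroup G) ∧ IsMulCommutative A ∧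
              seqIn (S : Subgroup G) (2 * n + 1) ≤ normalizer (A : Set G)})
            fun B hB => ⟨hB.2.1, S.2.to_le hB.1, ih.2.trans hB.2.2⟩
          exact (le_sSup hA).trans hsup
        · exact ih.2.trans hA.2.2
      refine ⟨h1, ?_⟩
      exact sSup_le fun A hA => le_sSup ⟨hA.1.trans hTS, hA.2.1, h1.trans hA.2.2⟩
  exact ⟨iSup_mono fun n => (key n).1, (seq_facts T).2.1, iInf_mono fun n => (key n).2⟩

/-- `Z(L(S))` is normal when the `p'`-core is trivial. -/
theorem center_upperIn_normal (hO : Cfsg.pPrimeCore p G = ⊥) (S : Sylow p G) :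
    (upperIn (S : Subgroup G) ⊓ centralizer (upperIn (S : Subgroup G) : Set G)).Normal := by
  set T := Cfsg.pCore p G with hTdef
  have hT : IsPGroup p T := (CfsgLib.Coprime.pCore_isPGroup p)
  haveI hTn := CfsgLib.Coprime.pCore_normal' (G := G) p
  obtain ⟨h1, h2, h3⟩ := inclusion_chain hp2 hodd hO S
  obtain ⟨-, hSle, hS1, -⟩ := seq_facts (S : Subgroup G)
  set LS := upperIn (S : Subgroup G) with hLS
  set Z := LS ⊓ centralizer (LS : Set G) with hZ
  set LT := upperIn T with hLT
  set X := LT ⊓ centralizer (LT : Set G) with hX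
  have hLSS : LS ≤ S := upperIn_le _
  have hLTn : ∀ g : G, g ∈ normalizer (LT : Set G) := fun g =>
    normalizer_le_upperIn T (by rw [normalizer_eq_top]; exact mem_top g)
  have hXn : ∀ g : G, g ∈ normalizer (X : Set G) := fun g =>
    CfsgLib.Coprime.inf_le_normalizer (A := ⊤) (fun x _ => hLTn x)
      (fun x _ => CfsgLib.Coprime.normalizer_le_normalizer_centralizer LT (hLTn x)) (mem_top g)
  haveI : X.Normal := normalizer_eq_top_iff.1 (eq_top_iff.2 fun g _ => hXn g)
  have hXlow : X ≤ lowerIn (S : Subgroup G) :=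
    le_trans (le_inf ((inf_le_left.trans h3).trans hLSS)
      (inf_le_right.trans (centralizer_le (h1.trans h2)))) (centralizer_seqIn_le S.2).2
  have hXp : IsPGroup p X := S.2.to_le ((hXlow.trans hSle).trans hLSS)
  have hZX : Z ≤ X := by
    have hZlow : Z ≤ lowerIn (S : Subgroup G) :=
      le_trans (le_inf (inf_le_left.trans hLSS) (inf_le_right.trans (centralizer_le hSle)))
        (centralizer_seqIn_le S.2).2
    exact le_inf (hZlow.trans (h1.trans h2)) (inf_le_right.trans (centralizer_le h3))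
  set C := centralizer (X : Set G) with hC
  haveI := CfsgLib.Coprime.pCore_normal' (G := G ⧸ C) p
  set π := QuotientGroup.mk' C with hπ
  set K := (Cfsg.pCore p (G ⧸ C)).comap π with hK
  haveI hKn : K.Normal := inferInstance
  have hLSK : LS ≤ K := by
    rw [← hS1]
    exact map_le_iff_le_comap.1 (map_le_pCore_of_family hp2 hodd hXp
      (S := {A : Subgroup G | A ≤ (S : Subgroup G) ∧ IsMulCommutative A ∧
        lowerIn (S : Subgroup G) ≤ normalizer (A : Set G)})
      fun B hB => ⟨hB.2.1, S.2.to_le hB.1, hXlow.trans hB.2.2⟩)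
  set R := (S : Subgroup G) ⊓ K with hR
  have hRp : IsPGroup p R := S.2.to_le inf_le_left
  have hLR : upperIn R = LS := upperIn_eq_of_le inf_le_left (le_inf hLSS hLSK)
  have hRidx : ¬ p ∣ R.relIndex K := by
    rw [hR, inf_relIndex_right]
    intro h
    exact S.not_dvd_index (h.trans (CfsgLib.PGroup.relIndex_dvd_index_normal_right _ K))
  have hKle : K ≤ R ⊔ C := by
    rw [← relIndex_eq_one]
    by_contra hne
    obtain ⟨r, hr, hrd⟩ := Nat.exists_prime_and_dvd hne
    have hrp : r = p := by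
      have h4 : r ∣ C.relIndex K := hrd.trans (relIndex_dvd_of_le_left K le_sup_right)
      have h5 : C.relIndex K = Nat.card (Cfsg.pCore p (G ⧸ C)) := by
        have hmap : K.map π = Cfsg.pCore p (G ⧸ C) :=
          map_comap_eq_self_of_surjective (QuotientGroup.mk'_surjective C) _
        rw [← hmap, ← relIndex_ker, QuotientGroup.ker_mk']
      obtain ⟨j, hj⟩ := IsPGroup.iff_card.1 (CfsgLib.Coprime.pCore_isPGroup (G := G ⧸ C) p)
      rw [h5, hj] at h4
      exact (Nat.prime_dvd_prime_iff_eq hr hp.out).1 (hr.dvd_of_dvd_pow h4)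
    exact hRidx (hrp ▸ hrd.trans (relIndex_dvd_of_le_left K le_sup_left))
  have hKZ : K ≤ normalizer (Z : Set G) := by
    refine hKle.trans (sup_le ?_ ?_)
    · exact inf_le_left.trans (CfsgLib.Coprime.inf_le_normalizer
        (le_normalizer.trans (normalizer_le_upperIn _))
        ((le_normalizer.trans (normalizer_le_upperIn _)).trans
          (CfsgLib.Coprime.normalizer_le_normalizer_centralizer LS)))
    · exact (centralizer_le hZX).trans (CfsgLib.Coprime.centralizer_le_normalizer_self Z)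
  have hNR : normalizer (R : Set G) ≤ normalizer (Z : Set G) := by
    rw [hZ, ← hLR]
    exact CfsgLib.Coprime.inf_le_normalizer (normalizer_le_upperIn R)
      ((normalizer_le_upperIn R).trans (CfsgLib.Coprime.normalizer_le_normalizer_centralizer _))
  have hfr : K ⊔ normalizer (R : Set G) = ⊤ := by
    refine eq_top_iff.2 fun g _ => ?_
    have hgR : conjBy g R ≤ K := (map_mono inf_le_right).trans
      (CfsgLib.Coprime.conjBy_eq_self_iff.2 (by rw [normalizer_eq_top]; exact mem_top g)).le
    have hsyl : CfsgLib.Coprime.IsSylowIn p R K := by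
      refine ⟨inf_le_right, ?_⟩
      obtain ⟨j, hj⟩ := IsPGroup.iff_card.1 hRp
      rw [← CfsgLib.Coprime.card_mul_relIndex (inf_le_right : R ≤ K),
        Nat.factorization_mul Nat.card_pos.ne' (fun e : R.relIndex K = 0 => hRidx (e.symm ▸ dvd_zero p)), Finsupp.add_apply,
        Nat.factorization_eq_zero_of_not_dvd hRidx, add_zero, hj, hp.out.factorization_pow,
        Finsupp.single_eq_same]
    obtain ⟨k, hk, hkR⟩ := hsyl.exists_conj
      (hsyl.conjBy (g := g) (by rw [normalizer_eq_top]; exact mem_top g))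
    have h6 : k⁻¹ * g ∈ normalizer (R : Set G) := by
      refine CfsgLib.Coprime.conjBy_eq_self_iff.1 ?_
      rw [← CfsgLib.Coprime.conjBy_conjBy, ← hkR, CfsgLib.Coprime.conjBy_conjBy, inv_mul_cancel,
        CfsgLib.Coprime.conjBy_one]
    rw [show g = k * (k⁻¹ * g) by group]
    exact mul_mem (mem_sup_left hk) (mem_sup_right h6)
  exact normalizer_eq_top_iff.1 (top_le_iff.1 (hfr.ge.trans (sup_le hKZ hNR)))

/-- `O_{p'}(G) N_G(Z(L(S))) = G`. -/
theorem puig_factor (S : Sylow p G) :
    Cfsg.pPrimeCore p G ⊔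
      normalizer ((upperIn (S : Subgroup G) ⊓
        centralizer (upperIn (S : Subgroup G) : Set G) : Subgroup G) : Set G) = ⊤ := by
  set K := Cfsg.pPrimeCore p G with hK
  set π := QuotientGroup.mk' K with hπ
  have hπs := QuotientGroup.mk'_surjective K
  set φ := π.comp (S : Subgroup G).subtype with hφ
  have hinj : Function.Injective φ :=
    (injective_iff_map_eq_one _).2 fun x hx => Subtype.ext (eq_one_of_mem_pPrimeCore S.2 x.2
      ((QuotientGroup.eq_one_iff _).1 hx))
  have hrange : φ.range = ((S.mapSurjective hπs : Sylow p (G ⧸ K)) : Subgroup (G ⧸ K)) := by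
    rw [hφ, MonoidHom.range_comp, Subgroup.range_subtype, Sylow.coe_mapSurjective]
  have h1 := map_center_puig φ hinj
  rw [hφ, ← Subgroup.map_map, map_center_puig _ (S : Subgroup G).subtype_injective,
    Subgroup.range_subtype, ← hφ, hrange] at h1
  haveI : Group.IsSolvable (G ⧸ K) := Group.isSolvable_of_surjective hπs
  have hn := center_upperIn_normal hp2 (hodd.of_dvd_nat (card_quotient_dvd_card K))
    (CfsgLib.Coprime.pPrimeCore_quotient_eq_bot hp.out) (S.mapSurjective hπs)
  rw [← h1] at hn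
  exact (sup_normalizer_of_map_normal
    (S.2.to_le (inf_le_left.trans (upperIn_le _))) hn).2

end CfsgLib.CFun.Puig
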