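import Cfsg.Agent.Lib.CFun.OddRankThreeAction

/-!
# Signalizers of an abelian subgroup self-centralizing in a Sylow subgroup
-/

set_option autoImplicit false
set_option linter.style.haveILetI false
set_option linter.unusedSectionVars false

open Subgroup
open scoped commutatorElement
open CfsgLib.Coprime (conjBy conjBy_conjBy conjBy_one conjBy_eq_self_iff mem_conjBy conj_mem_conjBy
  conj_mem_of_le_normalizer card_conjBy IsSylowIn)

namespace CfsgLib.CFun

universe u

variable {G : Type u} [Group G] [Finite G] {p : ℕ} [hp : Fact p.Prime]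

/-- A subgroup of order prime to the index of a normal subgroup lies in it. -/
theorem le_normal_of_coprime_index {H : Type u} [Group H] [Finite H] {X N : Subgroup H} [N.Normal]
    (h : (Nat.card X).Coprime N.index) : X ≤ N := by
  have h1 : Nat.card ↥(X.map (QuotientGroup.mk' N)) = 1 :=
    Nat.eq_one_of_dvd_coprimes h (card_map_dvd _ _)
      (by rw [Subgroup.index_eq_card]; exact card_subgroup_dvd_card _)
  intro x hx
  have h2 := mem_map_of_mem (QuotientGroup.mk' N) hx
  rw [card_eq_one.1 h1, mem_bot] at h2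
  exact (QuotientGroup.eq_one_iff x).1 h2

/-- The data of an abelian `p`-subgroup of rank three with its elementary subgroup of order `p³`. -/
structure SCNData (p : ℕ) (A E : Subgroup G) : Prop where
  hG : Cfsg.IsMinSimpleOddOrder G
  pgroup : IsPGroup p A
  abel : A ≤ centralizer (A : Set G)
  le : E ≤ A
  elem : Cfsg.IsElementaryAbelian p E
  card : Nat.card E = p ^ 3
  hyp : Cfsg.TransitivityHypothesis A
  loc : ∀ X : Subgroup G, X ≠ ⊤ → A ≤ X → ∀ Y : Subgroup G, Y ≤ X →
    A ≤ normalizer (Y : Set G) → ¬ p ∣ Nat.card Y → Y ≤ coCore X p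

/-- An SCN of rank three gives the data. -/
theorem scnData_of_scn (hG : Cfsg.IsMinSimpleOddOrder G) (P : Sylow p G) {A : Subgroup G}
    (hA : Cfsg.IsSCN (P : Subgroup G) A) {E : Subgroup G} (hEA : E ≤ A)
    (hE : Cfsg.IsElementaryAbelian p E) (hE3 : Nat.card E = p ^ 3) : SCNData p A E := by
  obtain ⟨hAP, hPA, hAc⟩ := hA
  have hp2 : p ≠ 2 := ms_ne_two hG ((hE3 ▸ dvd_pow_self p (by norm_num)).trans
    (card_subgroup_dvd_card E))
  have hAp : IsPGroup p A := P.2.to_le hAP
  have hA1 : A ≠ ⊥ := by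
    rintro rfl
    have h1 := card_le_of_le hEA
    rw [hE3, card_bot] at h1
    exact absurd h1 (not_le.2 (Nat.one_lt_pow (by norm_num) hp.out.one_lt))
  have hA2 : A ≠ ⊤ := ms_isPGroup_ne_top hG hAp
  have key : ∀ X : Subgroup G, X ≠ ⊤ → ∀ hAX : A ≤ X, ∀ K : Subgroup X, (Nat.card K).Coprime p →
      A.subgroupOf X ≤ normalizer (K : Set X) → K ≤ Cfsg.pPrimeCore p X := by
    intro X hX hAX K hK hAK
    haveI := ms_solvable hG hX
    refine le_pPrimeCore_of_invariant pCons_of_isSolvable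
      (hAp.of_equiv (subgroupOfEquivOfLe hAX).symm)
      (fun x hx hxp => scn_full P ⟨hAP, hPA, hAc⟩ x ?_ ?_) (fun h => absurd h hp2) hK hAK
    · exact mem_centralizer_iff.2 fun b hb =>
        congrArg Subtype.val (mem_centralizer_iff.1 hx ⟨b, hAX hb⟩ hb)
    · have h1 := hxp.map X.subtype
      rwa [MonoidHom.map_zpowers] at h1
  refine ⟨hG, hAp, hAc.symm.le.trans inf_le_right, hEA, hE, hE3,
    transitivityHypothesis_of_local hAp hA1 hA2 key, fun X hX hAX Y hYX hAY hY => ?_⟩
  have h1 := key X hX hAX (Y.subgroupOf X)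
    (by rw [Nat.card_congr (subgroupOfEquivOfLe hYX).toEquiv]
        exact (hp.out.coprime_iff_not_dvd.2 hY).symm)
    (fun a ha => mem_normalizer_iff.2 fun y => mem_normalizer_iff.1 (hAY ha) (y : G))
  exact fun y hy => ⟨⟨y, hYX hy⟩, h1 hy, rfl⟩

/-- The conjugating group. -/
local notation "Θ" A => Cfsg.piCoreOf (Cfsg.primesNotDvd (Nat.card A)) (centralizer (A : Set G))

variable {A E : Subgroup G}

theorem SCNData.p_dvd (d : SCNData p A E) : p ∣ Nat.card A :=
  (d.card ▸ dvd_pow_self p (by norm_num : 3 ≠ 0)).trans (card_dvd_of_le d.le)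

theorem SCNData.ne_two (d : SCNData p A E) : p ≠ 2 :=
  ms_ne_two d.hG (d.p_dvd.trans (card_subgroup_dvd_card A))

theorem SCNData.le_centralizer (d : SCNData p A E) {b : G} (hb : b ∈ E) :
    A ≤ centralizer ({b} : Set G) :=
  d.abel.trans (centralizer_le (by simpa using d.le hb))

theorem SCNData.theta_le (d : SCNData p A E) {b : G} (hb : b ∈ E) :
    (Θ A) ≤ centralizer ({b} : Set G) :=
  (piCoreOf_le _).trans (centralizer_le (by simpa using d.le hb))

theorem SCNData.theta_not_dvd (d : SCNData p A E) : ¬ p ∣ Nat.card (Θ A) := fun h =>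
  (isPiNum_piCoreOf _ p hp.out h).2 d.p_dvd

theorem SCNData.le_normalizer_theta (d : SCNData p A E) : A ≤ normalizer ((Θ A) : Set G) :=
  le_normalizer_piCoreOf d.abel

theorem SCNData.data (d : SCNData p A E) {t : ℕ} [Fact t.Prime] (ht : t ≠ p) : TransData A t :=
  ⟨d.hyp, d.hG.2.1, d.hG.2.2.1, d.hG.2.2.2, not_dvd_of_isPGroup ht.symm d.pgroup⟩

theorem SCNData.trans (d : SCNData p A E) {t : ℕ} [Fact t.Prime] (ht : t ≠ p) : IsTrans A t :=
  fun Q₁ Q₂ h₁ h₂ => (d.data ht).transitive_three (p := p)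
    (le_inf d.le (d.le.trans d.abel)) d.elem d.card.ge ht h₁ h₂

theorem SCNData.inv_conj (d : SCNData p A E) {c : G} (hc : c ∈ Θ A) {Y : Subgroup G}
    (hY : A ≤ normalizer (Y : Set G)) : A ≤ normalizer (conjBy c Y : Set G) :=
  le_normalizer_conjBy (piCoreOf_le _ hc) hY

theorem SCNData.inv_inf (d : SCNData p A E) {b : G} (hb : b ∈ E) {Y : Subgroup G}
    (hY : A ≤ normalizer (Y : Set G)) :
    A ≤ normalizer ((Y ⊓ centralizer ({b} : Set G) : Subgroup G) : Set G) :=
  CfsgLib.Coprime.inf_le_normalizer hY ((d.le_centralizer hb).trans le_normalizer)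

theorem SCNData.le_local (d : SCNData p A E) {b : G} (hb : b ∈ E) (hb1 : b ≠ 1) {Y : Subgroup G}
    (hYb : Y ≤ centralizer ({b} : Set G)) (hAY : A ≤ normalizer (Y : Set G)) (hY : ¬ p ∣ Nat.card Y) :
    Y ≤ coCore (centralizer ({b} : Set G)) p :=
  d.loc _ (ms_centralizer_singleton_ne_top d.hG hb1) (d.le_centralizer hb) Y hYb hAY hY

omit hp in
theorem conjBy_inf_centralizer {c b : G} (hc : c ∈ centralizer ({b} : Set G)) (S : Subgroup G) :
    conjBy c (S ⊓ centralizer ({b} : Set G)) = conjBy c S ⊓ centralizer ({b} : Set G) := by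
  have h : conjBy c (centralizer ({b} : Set G)) = centralizer ({b} : Set G) :=
    conjBy_eq_self_iff.2 (le_normalizer hc)
  conv_rhs => rw [← h]
  exact Subgroup.map_inf _ _ _ (MulAut.conj c).injective

/-- Maximal invariant subgroups meet centralizers in invariant Sylow subgroups, unique up to `Θ`. -/
theorem SCNData.sylow_inf (d : SCNData p A E) {t : ℕ} [Fact t.Prime] (ht : t ≠ p) {S : Subgroup G}
    (hS : IsMaxInv A t S) {b : G} (hb : b ∈ E) (hb1 : b ≠ 1) :
    IsSylowIn t (S ⊓ centralizer ({b} : Set G)) (coCore (centralizer ({b} : Set G)) p) ∧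
      ∀ T' : Subgroup G, IsSylowIn t T' (coCore (centralizer ({b} : Set G)) p) →
        A ≤ normalizer (T' : Set G) → ∃ c ∈ Θ A, T' = conjBy c (S ⊓ centralizer ({b} : Set G)) := by
  set C := centralizer ({b} : Set G) with hCdef
  set H := coCore C p
  set T := S ⊓ C
  have hTp : IsPGroup t T := hS.1.to_le inf_le_left
  have hTH : T ≤ H := d.le_local hb hb1 inf_le_right (d.inv_inf hb hS.2.1)
    (not_dvd_of_isPGroup ht hTp)
  have hT : Nat.card T ≤ t ^ (Nat.card H).factorization t := by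
    obtain ⟨k, hk⟩ := IsPGroup.iff_card.1 hTp
    rw [hk]
    refine Nat.pow_le_pow_right (Fact.out : t.Prime).pos ?_
    exact ((Fact.out : t.Prime).pow_dvd_iff_le_factorization Nat.card_pos.ne').1
      (hk ▸ card_dvd_of_le hTH)
  have key : ∀ T' : Subgroup G, IsSylowIn t T' H → A ≤ normalizer (T' : Set G) →
      ∃ c ∈ Θ A, T' = conjBy c T := by
    intro T' hT' hAT'
    obtain ⟨S', hS', hle⟩ := exists_isMaxInv_ge hT'.isPGroup hAT'
    obtain ⟨c, hc, e⟩ := d.trans ht S S' hS hS'
    refine ⟨c, hc, eq_of_le_of_card_ge ?_ ?_⟩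
    · rw [conjBy_inf_centralizer (d.theta_le hb hc)]
      exact le_inf (e ▸ hle) (hT'.1.trans coCore_le)
    · rw [card_conjBy, hT'.2]; exact hT
  refine ⟨⟨hTH, le_antisymm hT ?_⟩, key⟩
  obtain ⟨T', hT', hAT'⟩ := CfsgLib.Coprime.exists_invariant_sylow (A := A) (K := H)
    ((d.le_centralizer hb).trans le_normalizer_coCore) (by
      obtain ⟨n, hn⟩ := IsPGroup.iff_card.1 d.pgroup
      rw [hn]
      exact (hp.out.coprime_iff_not_dvd.2 not_dvd_coCore).pow_left n)
    (Or.inl (CfsgLib.Coprime.isSolvable_of_isMulCommutative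
      ⟨⟨fun x y => Subtype.ext (mem_centralizer_iff.1 (d.abel y.2) _ x.2)⟩⟩)) t
  obtain ⟨c, -, e⟩ := key T' hT' hAT'
  rw [← hT'.2, e, card_conjBy]

/-- When the rank at the smaller prime is at most two, it normalizes a Sylow subgroup at the
larger one. -/
theorem SCNData.exists_normalizing (d : SCNData p A E) {u v : ℕ} [Fact u.Prime] [Fact v.Prime]
    (hu : u ≠ p) (hv : v ≠ p) (huv : u < v) {Su Sv : Subgroup G} (hSu : IsMaxInv A u Su)
    (hSv : IsMaxInv A v Sv) {b : G} (hb : b ∈ E) (hb1 : b ≠ 1)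
    (hr : Cfsg.PRankLE u 2 ↥(Su ⊓ centralizer ({b} : Set G))) :
    ∃ c ∈ Θ A, Su ⊓ centralizer ({b} : Set G) ≤
      normalizer (conjBy c (Sv ⊓ centralizer ({b} : Set G)) : Set G) := by
  set C := centralizer ({b} : Set G) with hCdef
  set H := coCore C p with hHdef
  obtain ⟨hTu, hTu'⟩ := d.sylow_inf hu hSu hb hb1
  obtain ⟨hTv, -⟩ := d.sylow_inf hv hSv hb hb1
  rcases eq_or_ne (Su ⊓ C) ⊥ with h | hne
  · exact ⟨1, one_mem _, h ▸ bot_le⟩
  have hu2 : u ≠ 2 := ms_ne_two d.hG <| by
    obtain ⟨k, hk⟩ := IsPGroup.iff_card.1 hTu.isPGroup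
    rcases k with _ | k
    · exact absurd (card_eq_one.1 (by rw [hk, pow_zero])) hne
    · exact (hk ▸ dvd_pow_self u k.succ_ne_zero).trans (card_subgroup_dvd_card _)
  haveI : Group.IsSolvable H := ms_solvable d.hG fun e =>
    ms_centralizer_singleton_ne_top d.hG hb1 (top_le_iff.1 (e ▸ coCore_le))
  have hrH : Cfsg.PRankLE u 2 H := pRankLE_of_sylow hTu.toSylow (by rw [hTu.map_toSylow]; exact hr)
  haveI : (Cfsg.pPrimeCore u H).Normal := Subgroup.sSup_normal _ fun _ h => h.1
  have hvidx : ¬ v ∣ (Cfsg.pPrimeCore u H).index := fun hd => by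
    have := le_of_dvd_index_pPrimeCore hu2 (d.hG.1.of_dvd_nat (card_subgroup_dvd_card H)) hrH
      Fact.out hd
    omega
  have hvN : (hTv.toSylow : Subgroup H) ≤ Cfsg.pPrimeCore u H := by
    refine le_normal_of_coprime_index ?_
    rw [← card_map_of_injective H.subtype_injective, hTv.map_toSylow, hTv.2]
    exact ((Fact.out : v.Prime).coprime_iff_not_dvd.2 hvidx).pow_left _
  have hfr := Sylow.normalizer_sup_eq_top' hTv.toSylow hvN
  set K := H ⊓ normalizer ((Sv ⊓ C : Subgroup G) : Set G) with hKdef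
  have hHK : H ≤ K ⊔ coCore H u := by
    intro x hx
    have h1 := mem_map_of_mem H.subtype (hfr.ge (mem_top (⟨x, hx⟩ : H)))
    rw [Subgroup.map_sup] at h1
    refine (sup_le_sup_right (le_inf (map_subtype_le _) ?_) _) h1
    refine (le_normalizer_map H.subtype).trans (le_of_eq ?_)
    rw [hTv.map_toSylow]
  have hKn : K ≤ normalizer (coCore H u : Set G) := inf_le_left.trans le_normalizer_coCore
  have hAH : A ≤ normalizer (H : Set G) := (d.le_centralizer hb).trans le_normalizer_coCore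
  have hAK : A ≤ normalizer (K : Set G) :=
    CfsgLib.Coprime.inf_le_normalizer hAH ((d.inv_inf hb hSv.2.1).trans le_normalizer)
  have hKp : ¬ p ∣ Nat.card K := fun h => not_dvd_coCore (H := C) (h.trans (card_dvd_of_le inf_le_left))
  obtain ⟨T', hT', hAT'⟩ := CfsgLib.Coprime.exists_invariant_sylow (A := A) (K := K) hAK (by
      obtain ⟨n, hn⟩ := IsPGroup.iff_card.1 d.pgroup
      rw [hn]
      exact (hp.out.coprime_iff_not_dvd.2 hKp).pow_left n)
    (Or.inl (CfsgLib.Coprime.isSolvable_of_isMulCommutative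
      ⟨⟨fun x y => Subtype.ext (mem_centralizer_iff.1 (d.abel y.2) _ x.2)⟩⟩)) u
  have hfac : (Nat.card K).factorization u = (Nat.card H).factorization u := by
    refine le_antisymm (((Fact.out : u.Prime).pow_dvd_iff_le_factorization Nat.card_pos.ne').1
      ((Nat.ordProj_dvd _ _).trans (card_dvd_of_le inf_le_left))) ?_
    refine ((Fact.out : u.Prime).pow_dvd_iff_le_factorization Nat.card_pos.ne').1 ?_
    have hmul := CfsgLib.EABasic.card_sup_mul_card_inf_of_le_normalizer hKn
    have h1 : Nat.card H ∣ Nat.card K * Nat.card (coCore H u) :=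
      (card_dvd_of_le hHK).trans ⟨_, hmul.symm⟩
    refine Nat.Coprime.dvd_of_dvd_mul_right (Nat.Coprime.pow_left _ ?_)
      ((Nat.ordProj_dvd _ _).trans h1)
    exact (Fact.out : u.Prime).coprime_iff_not_dvd.2 not_dvd_coCore
  obtain ⟨c, hc, e⟩ := hTu' T' ⟨hT'.1.trans inf_le_left, hT'.2.trans (by rw [hfac])⟩ hAT'
  refine ⟨c⁻¹, inv_mem hc, ?_⟩
  have h2 : conjBy c⁻¹ T' ≤ normalizer (conjBy c⁻¹ (Sv ⊓ C) : Set G) :=
    (map_mono (hT'.1.trans inf_le_right)).trans (le_normalizer_map _)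
  rwa [e, conjBy_conjBy, inv_mul_cancel, conjBy_one] at h2

end CfsgLib.CFun
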