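import Cfsg.Agent.Lib.CFun.OddTildeCover
import Cfsg.Agent.Lib.CFun.OddUFixed
import Cfsg.Agent.Lib.CFun.OddSectionAction

/-!
# The sets `A(M)` and `A₀(M)`
-/

set_option autoImplicit false
set_option linter.style.haveILetI false
set_option linter.unusedSectionVars false

open Subgroup
open CfsgLib.Coprime (conjBy conj_mem_conjBy)

namespace CfsgLib.CFun.SigmaSets

open CfsgLib.CFun.TauTwo CfsgLib.CFun.Lines CfsgLib.CFun.Kappa CfsgLib.CFun.Partner
open CfsgLib.CFun.Inter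

universe u

variable {G : Type u} [Group G] [Finite G]
variable (hG : Cfsg.IsMinSimpleOddOrder G) {M K U : Subgroup G} (hM : IsCoatom M)
  (d : Cfsg.IsSigmaDecomposition M K U)
include hG hM d

/-- `κ(M)'`-elements of `M` lie in `U M_σ`. -/
theorem mem_sup_of_not_kappa {x : G} (hx : x ∈ M)
    (h : ∀ p : ℕ, p.Prime → p ∣ orderOf x → p ∉ Cfsg.kappa M) : x ∈ U ⊔ Cfsg.sigmaCore M := by
  obtain ⟨u, hu, b, hb, e⟩ := d.compl.2.2.2 x hx
  obtain ⟨s, hs, k, hk, e'⟩ := CfsgLib.Coprime.mem_sup_exists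
    (d.hall.1.trans (TauTwo.sigmaCore_normal hG M)) (sup_comm K _ ▸ hb)
  set V := U ⊔ Cfsg.sigmaCore M
  set f := QuotientGroup.mk' (V.subgroupOf (normalizer (V : Set G)))
  have hMV := UFixed.le_normalizer_sup hG hM d
  have hxN := hMV hx
  have hkN := hMV (d.hall.1 hk)
  have husV : u * s ∈ V := mul_mem (mem_sup_left hu) (mem_sup_right hs)
  have hfx : f ⟨x, hxN⟩ = f ⟨k, hkN⟩ := by
    rw [show (⟨x, hxN⟩ : normalizer (V : Set G)) = ⟨u * s, le_normalizer husV⟩ * ⟨k, hkN⟩ from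
      Subtype.ext (show x = u * s * k by rw [e, ← e', mul_assoc]), map_mul,
      show f ⟨u * s, le_normalizer husV⟩ = 1 from Sect.mk_eq_one.2 husV, one_mul]
  refine Sect.mk_eq_one (x := ⟨x, hxN⟩).1 (orderOf_eq_one_iff.1 ?_)
  refine Nat.eq_one_of_dvd_coprimes (k := orderOf (f ⟨x, hxN⟩)) (a := Nat.card K) (b := orderOf x)
    (Nat.coprime_of_dvd fun p hp h1 h2 => h p hp h2 (d.hall.2.1 p hp h1))
    (hfx ▸ (orderOf_map_dvd f _).trans ((orderOf_mk k hkN).dvd.trans (orderOf_dvd_natCard _ hk)))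
    ((orderOf_map_dvd f _).trans (orderOf_mk x hxN).dvd)

/-- `K ∩ U M_σ = 1`. -/
theorem kappa_inf_sup {k : G} (hk : k ∈ K) (hkV : k ∈ U ⊔ Cfsg.sigmaCore M) : k = 1 := by
  have hU : U ≤ normalizer (Cfsg.sigmaCore M : Set G) :=
    d.compl.1.trans (TauTwo.sigmaCore_normal hG M)
  obtain ⟨s, hs, u, hu, e⟩ := CfsgLib.Coprime.mem_sup_exists hU (sup_comm U _ ▸ hkV)
  have h1 : u ∈ U ⊓ (K ⊔ Cfsg.sigmaCore M) := mem_inf.2 ⟨hu, by
    rw [show u = s⁻¹ * k by rw [← e, inv_mul_cancel_left]]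
    exact mul_mem (inv_mem (mem_sup_right hs)) (mem_sup_left hk)⟩
  rw [d.compl.2.2.1, mem_bot] at h1
  have h2 : k ∈ K ⊓ Cfsg.sigmaCore M := mem_inf.2 ⟨hk, by rw [← e, h1, mul_one]; exact hs⟩
  rwa [Decomp.hall_inf hG hM d.hall, mem_bot] at h2

/-- `A₀(M) \ A(M)` consists of the conjugates of `Ẑ` under `M`. -/
theorem a0_diff_a (hK1 : K ≠ ⊥) :
    {a : G | ∃ m ∈ M, ∃ z ∈ Zhat.zhat M K, a = m * z * m⁻¹} =
      Cfsg.sigmaA0 M K \ Cfsg.sigmaA M U := by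
  have hMV := UFixed.le_normalizer_sup hG hM d
  ext a
  constructor
  · rintro ⟨m, hm, z, hz, rfl⟩
    obtain ⟨c, b, e, hc, hc1, hb, hb1, hcb, hcz, hbz⟩ := exists_parts hG hM d.hall hz
    have hbM : b ∈ M := map_subtype_le _ (mem_inf.1 hb).1
    have hzM : z ∈ M := e ▸ mul_mem (d.hall.1 hc) hbM
    refine ⟨⟨⟨mul_mem (mul_mem hm hzM) (inv_mem hm), m * b * m⁻¹,
      (mem_normalizer_iff.1 (TauTwo.sigmaCore_normal hG M hm) b).1 (mem_inf.1 hb).1,
      fun e' => hb1 (conj_eq_one_iff.1 e'), ?_⟩, ?_⟩, ?_⟩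
    · have h1 : Commute z b := by
        rw [e]
        exact hcb.mul_left (Commute.refl b)
      exact ((Commute.conj_iff m).2 h1).eq
    · rintro ⟨k, hk, -, m', hm', e'⟩
      obtain ⟨p, hp, hpd⟩ := Nat.exists_prime_and_dvd fun e'' => hb1 (orderOf_eq_one_iff.1 e'')
      have hord : orderOf z = orderOf k := by
        rw [← (MulAut.conj m).orderOf_eq z, ← (MulAut.conj m').orderOf_eq k]
        exact congrArg orderOf e'
      have hpk : p ∈ Cfsg.kappa M := d.hall.2.1 p hp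
        ((hpd.trans ((orderOf_dvd_natCard _ hbz).trans (Nat.card_zpowers z).dvd)).trans
          (hord ▸ orderOf_dvd_natCard _ hk))
      exact hpk.2.2.1 ((sigmaCore_hall hG hM).1.2.1 p hp
        (hpd.trans (orderOf_dvd_natCard _ (mem_inf.1 hb).1)))
    · rintro ⟨-, hV⟩
      have hzV : z ∈ U ⊔ Cfsg.sigmaCore M := (mem_normalizer_iff.1 (hMV hm) z).2 hV
      refine hc1 (kappa_inf_sup hG hM d hc ?_)
      rw [show c = z * b⁻¹ by rw [e, mul_inv_cancel_right]]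
      exact mul_mem hzV (inv_mem (mem_sup_right (mem_inf.1 hb).1))
  · rintro ⟨⟨⟨haM, y, hy, hy1, hay⟩, hnK⟩, hnA⟩
    obtain ⟨s, t, hsa, hta, hst, hsσ, htσ⟩ := Star.exists_part (Cfsg.sigma M) a
    have hsM : s ∈ M := zpowers_le.2 haM hsa
    have htM : t ∈ M := zpowers_le.2 haM hta
    have hsσM : s ∈ Cfsg.sigmaCore M :=
      zpowers_le.1 (le_sigmaCore_of_isPiNum hG hM (zpowers_le.2 hsM)
        fun p hp hd => hsσ p hp (by rwa [Nat.card_zpowers] at hd))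
    have hyt : Commute y t := by
      obtain ⟨i, rfl⟩ := mem_zpowers_iff.1 hta
      exact (Commute.zpow_right (show Commute y a from hay.symm) i)
    have hV : (∀ p : ℕ, p.Prime → p ∣ orderOf t → p ∉ Cfsg.kappa M) → False := fun h =>
      hnA ⟨⟨haM, y, hy, hy1, hay⟩, hst ▸ mul_mem (mem_sup_right hsσM)
        (mem_sup_of_not_kappa hG hM d htM h)⟩
    rcases Cover.kappa_or_tau2 hG hM hy hy1 htM hyt htσ with hκ | hτ
    · by_cases ht1 : t = 1
      · exact (hV fun p hp hd => absurd (Nat.dvd_one.1 (by rwa [ht1, orderOf_one] at hd)) hp.ne_one).elim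
      obtain ⟨-, -, m, hm, hmK, -⟩ := Cover.kappa_case hG hM hy hy1 htM hyt d.hall ht1 hκ
      have hmt1 : m * t * m⁻¹ ≠ 1 := fun e => ht1 (conj_eq_one_iff.1 e)
      have hcst : Commute s t := by
        obtain ⟨i, rfl⟩ := mem_zpowers_iff.1 hsa
        obtain ⟨j, rfl⟩ := mem_zpowers_iff.1 hta
        exact (Commute.refl a).zpow_zpow i j
      have hms : m * s * m⁻¹ ∈ Cfsg.sigmaCore M ⊓ centralizer (K : Set G) := by
        rw [← fixed_eq hG hM d.hall hmK hmt1]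
        exact mem_inf.2 ⟨(mem_normalizer_iff.1 (TauTwo.sigmaCore_normal hG M hm) s).1 hsσM,
          mem_centralizer_singleton_iff.2 ((Commute.conj_iff m).2 hcst).eq⟩
      by_cases hs1 : s = 1
      · refine absurd ⟨m * t * m⁻¹, hmK, hmt1, m⁻¹, inv_mem hm, ?_⟩ hnK
        rw [hst, hs1]; group
      refine ⟨m⁻¹, inv_mem hm, (m * t * m⁻¹) * (m * s * m⁻¹),
        Cover.mul_mem_zhat hG hM d.hall hmK hmt1 hms (fun e => hs1 (conj_eq_one_iff.1 e)), ?_⟩
      rw [hst, hcst.eq]; group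
    · exact (hV fun p hp hd hκ => (hτ p hp hd).2.2.2 (kappa_tau1 hG hM hκ).2.2.2.2).elim

/-- `A₀(M) \ A(M)` is a TI-subset. -/
theorem a0_diff_a_ti (hK1 : K ≠ ⊥) : Cfsg.IsTISubset (Cfsg.sigmaA0 M K \ Cfsg.sigmaA M U) := by
  rw [← a0_diff_a hG hM d hK1]
  intro g hg x hx hgx
  by_contra
  have hMX : M ≤ normalizer {a : G | ∃ m ∈ M, ∃ z ∈ Zhat.zhat M K, a = m * z * m⁻¹} := by
    intro m hm
    refine mem_set_normalizer_iff.2 fun a => ⟨?_, ?_⟩
    · rintro ⟨m', hm', z, hz, rfl⟩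
      exact ⟨m * m', mul_mem hm hm', z, hz, by group⟩
    · rintro ⟨m', hm', z, hz, e⟩
      exact ⟨m⁻¹ * m', mul_mem (inv_mem hm) hm', z, hz, by
        rw [show a = m⁻¹ * (m * a * m⁻¹) * m by group, e]; group⟩
  obtain ⟨m, hm, z, hz, rfl⟩ := hx
  obtain ⟨m', hm', z', hz', e⟩ := hgx
  have h := zhat_transporter hG hM d.hall hK1 (g := m'⁻¹ * g * m) hz (by
    have e' : m'⁻¹ * g * m * z * (m'⁻¹ * g * m)⁻¹ = z' := by
      rw [show m'⁻¹ * g * m * z * (m'⁻¹ * g * m)⁻¹ = m'⁻¹ * (g * (m * z * m⁻¹) * g⁻¹) * m' by group,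
        e]
      group
    rw [e']; exact hz')
  refine hg (hMX ?_)
  have h' : m'⁻¹ * g * m ∈ M := sup_le d.hall.1 (inf_le_left.trans (map_subtype_le _)) h
  rw [show g = m' * (m'⁻¹ * g * m) * m⁻¹ by group]
  exact mul_mem (mul_mem hm' h') (inv_mem hm)

end CfsgLib.CFun.SigmaSets
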