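import Cfsg.Agent.Lib.CFun.OddPrimeActionTauOne

/-!
# Nonconjugate maximal subgroups have disjoint sets `σ`

If two maximal subgroups share a prime of `σ`, they share a Sylow subgroup with its normalizer;
a prime of `τ₁` for both subgroups acts on it without fixed points, and the fixed points of this
prime in the two `β`-cores give a contradiction.
-/

set_option autoImplicit false
set_option linter.style.haveILetI false
set_option linter.unusedSectionVars false

open Subgroup
open scoped commutatorElement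
open CfsgLib.Coprime (conjBy conjBy_conjBy conjBy_one mem_conjBy conj_mem_conjBy IsSylowIn IsHallIn)

namespace CfsgLib.CFun.Disjoint

open CfsgLib.CFun.TauTwo CfsgLib.CFun.TauOne

universe u

variable {G : Type u} [Group G] [Finite G]

/-- A complement to a Sylow subgroup in its normalizer. -/
theorem exists_compl_sylow {q : ℕ} [hq : Fact q.Prime] (S : Sylow q G)
    (hsol : Group.IsSolvable ↥(normalizer ((S : Subgroup G) : Set G))) :
    ∃ V : Subgroup G,
      Cfsg.IsComplIn (S : Subgroup G) V (normalizer ((S : Subgroup G) : Set G)) ∧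
        ¬ q ∣ Nat.card V := by
  set N := normalizer ((S : Subgroup G) : Set G) with hN
  obtain ⟨V, hVh, -⟩ := IsHallIn.exists_ge (π := {t : ℕ | t ≠ q}) hsol
    (bot_le : (⊥ : Subgroup G) ≤ N) fun s hs hsd => by
      rw [card_bot] at hsd; exact absurd hsd hs.not_dvd_one
  obtain ⟨hVN, hVπ, hVi⟩ := hVh
  have hVq : ¬ q ∣ Nat.card V := fun h => hVπ q hq.out h rfl
  refine ⟨V, ⟨le_normalizer, hVN, inf_eq_bot_of_isPGroup S.2 hVq, fun m hm => ?_⟩, hVq⟩
  have hsup : (S : Subgroup G) ⊔ V = N := by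
    refine eq_of_le_of_card_ge (sup_le le_normalizer hVN) (Nat.le_of_dvd Nat.card_pos ?_)
    have h1 : Nat.card N ∣ Nat.card ↥((S : Subgroup G) ⊔ V) * V.relIndex N := by
      rw [← CfsgLib.Coprime.card_mul_relIndex hVN]
      exact mul_dvd_mul_right (card_dvd_of_le le_sup_right) _
    have h2 : Nat.card N ∣ Nat.card ↥((S : Subgroup G) ⊔ V) * (S : Subgroup G).relIndex N := by
      rw [← CfsgLib.Coprime.card_mul_relIndex (H := (S : Subgroup G)) (L := N) le_normalizer]
      exact mul_dvd_mul_right (card_dvd_of_le le_sup_left) _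
    have hcop : (V.relIndex N).Coprime ((S : Subgroup G).relIndex N) :=
      Nat.coprime_of_dvd fun t ht h3 h4 => by
        obtain rfl : t = q := by simpa using hVi t ht h3
        exact S.not_dvd_index (h4.trans (relIndex_dvd_index_of_le le_normalizer))
    have h5 := Nat.dvd_gcd h1 h2
    rwa [Nat.gcd_mul_left, hcop, mul_one] at h5
  rw [← hsup] at hm
  obtain ⟨a, ha, b, hb, e⟩ := CfsgLib.Coprime.mem_sup_exists hVN hm
  exact ⟨a, ha, b, hb, e.symm⟩

variable (hG : Cfsg.IsMinSimpleOddOrder G)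
include hG

/-- The normalizer of a subgroup whose centralizer has a unique maximal overgroup. -/
theorem normalizer_le_of_unique {M X : Subgroup G} (hM : IsCoatom M)
    (h : centralizer (X : Set G) ≤ M ∧
      ∀ L : Subgroup G, IsCoatom L → centralizer (X : Set G) ≤ L → L = M) :
    normalizer (X : Set G) ≤ M := by
  intro g hg
  have h1 := h.2 _ (isCoatom_conjBy g hM)
    ((CfsgLib.Coprime.conjBy_eq_self_iff.2
      (CfsgLib.Coprime.normalizer_le_normalizer_centralizer X hg)).ge.trans (map_mono h.1))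
  rw [← ms_normalizer_self hG hM]
  exact CfsgLib.Coprime.conjBy_eq_self_iff.1 h1

/-- Two maximal subgroups with a common Sylow subgroup at a common prime of `σ`, and a common
prime `t` of `τ₁` whose element of order `t` acts on it without fixed points. -/
structure SharedPair (M L S P : Subgroup G) (t q : ℕ) : Prop where
  coatomM : IsCoatom M
  coatomL : IsCoatom L
  nconj : NotConj M L
  tauM : t ∈ Cfsg.tau1 M
  tauL : t ∈ Cfsg.tau1 L
  leP : P ≤ M ⊓ L
  cardP : Nat.card P = t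
  sigM : q ∈ Cfsg.sigma M
  sigL : q ∈ Cfsg.sigma L
  isSylow : ∃ S' : Sylow q G, (S' : Subgroup G) = S
  leS : S ≤ M ⊓ L
  normS : normalizer (S : Set G) ≤ M ⊓ L
  actS : P ≤ normalizer (S : Set G)
  comm : (⁅S, P⁆ : Subgroup G) = S

omit hG in
theorem SharedPair.symm {M L S P : Subgroup G} {t q : ℕ} (h : SharedPair M L S P t q) :
    SharedPair L M S P t q where
  coatomM := h.coatomL
  coatomL := h.coatomM
  nconj := h.nconj.symm
  tauM := h.tauL
  tauL := h.tauM
  leP := inf_comm M L ▸ h.leP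
  cardP := h.cardP
  sigM := h.sigL
  sigL := h.sigM
  isSylow := h.isSylow
  leS := inf_comm M L ▸ h.leS
  normS := inf_comm M L ▸ h.normS
  actS := h.actS
  comm := h.comm

variable {t q : ℕ} [ht : Fact t.Prime] [hq : Fact q.Prime] {M L S P L₁ : Subgroup G}

theorem SharedPair.not_beta (h : SharedPair M L S P t q) : q ∉ Cfsg.beta M := fun hb =>
  alpha_not_sigma hG h.coatomL h.coatomM h.nconj.symm hb.1 h.sigL

theorem SharedPair.coprime (h : SharedPair M L S P t q) :
    (Nat.card ↥(S ⊔ P)).Coprime (Nat.card ↥(Cfsg.piCoreOf (Cfsg.beta M) M)) := by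
  obtain ⟨S', rfl⟩ := h.isSylow
  refine Nat.coprime_of_dvd fun r hr h1 h2 => ?_
  have h3 := (betaCore_hall hG h.coatomM).1.2.1 r hr h2
  rw [sup_comm] at h1
  rcases hr.dvd_mul.1 (h1.trans (CfsgLib.Coprime.card_sup_dvd_of_le_normalizer h.actS))
    with h4 | h4
  · rw [h.cardP] at h4
    obtain rfl := (Nat.prime_dvd_prime_iff_eq hr ht.out).1 h4
    exact h.tauM.2.1 (alpha_subset_sigma hG h.coatomM h3.1)
  · obtain ⟨k, hk⟩ := IsPGroup.iff_card.1 S'.2
    rw [hk] at h4
    obtain rfl := (Nat.prime_dvd_prime_iff_eq hr hq.out).1 (hr.dvd_of_dvd_pow h4)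
    exact h.not_beta hG h3

/-- A `β`-prime of `M` with a fixed element of `P`. -/
theorem SharedPair.exists_fixed (h : SharedPair M L S P t q) :
    ∃ s ∈ Cfsg.beta M, ∃ x ∈ M ⊓ centralizer (P : Set G), x ^ s = 1 ∧ x ≠ 1 := by
  obtain ⟨S', rfl⟩ := h.isSylow
  have hM := h.coatomM
  obtain ⟨hhall, -⟩ := betaCore_hall hG hM
  obtain ⟨s, hs, hsd⟩ : ∃ s : ℕ, s.Prime ∧ s ∣ Nat.card ↥(Cfsg.piCoreOf (Cfsg.beta M) M) := by
    refine Nat.exists_prime_and_dvd fun e => ?_
    have h2 := sigma_factor hG hM h.sigM (h.not_beta hG) S' (h.leS.trans inf_le_left)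
    rw [card_eq_one.1 e, bot_sup_eq] at h2
    have h3 : M ≤ L := h2.trans (inf_le_right.trans (h.normS.trans inf_le_right))
    exact h.nconj 1 (by rw [conjBy_one]; exact ((hM.le_iff.1 h3).resolve_left h.coatomL.1).symm)
  haveI : Fact s.Prime := ⟨hs⟩
  have hsβ : s ∈ Cfsg.beta M := hhall.2.1 s hs hsd
  have hKM : (S' : Subgroup G) ⊔ P ≤ M :=
    sup_le (h.leS.trans inf_le_left) (h.leP.trans inf_le_left)
  obtain ⟨T, hT, hTD, -, hKT, hTmax⟩ := exists_invariant_max (p := s) hhall.1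
    (le_normalizer_piCoreOf (A := M) (X := M) le_rfl) (fun hd => hhall.2.2 s hs hsβ hd) hKM
    (h.coprime hG) (CfsgLib.Coprime.isSolvable_of_le hhall.1 (ms_solvable hG hM.1))
    (IsPGroup.of_bot (p := s) (G := G)) bot_le
    (by rw [normalizer_eq_top (H := (⊥ : Subgroup G))]; exact le_top)
  have hTM : T ≤ M := hTD.trans hhall.1
  obtain ⟨a, ha, ha1⟩ : ∃ a ∈ P, a ≠ 1 :=
    (bot_or_exists_ne_one P).resolve_left (line_ne_bot h.cardP)
  have hat : a ^ t = 1 := orderOf_dvd_iff_pow_eq_one.1 (h.cardP ▸ orderOf_dvd_natCard P ha)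
  have haP : zpowers a = P := eq_of_le_of_card_ge (zpowers_le.2 ha)
    (by rw [Nat.card_zpowers, orderOf_eq_prime hat ha1, h.cardP])
  by_contra hno
  simp only [not_exists, not_and, not_not] at hno
  have hs2 : s ≠ 2 := ms_ne_two hG
    ((alpha_dvd_card hG hsβ.1).trans (card_subgroup_dvd_card M))
  have hts : t ≠ s := fun e => h.tauM.2.1 (e ▸ alpha_subset_sigma hG hM hsβ.1)
  have hsq : q ≠ s := fun e => h.not_beta hG (e ▸ hsβ)
  have htq : q ≠ t := fun e => h.tauM.2.1 (e ▸ h.sigM)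
  have h1 : (S' : Subgroup G) ≤ centralizer (T : Set G) :=
    FixLine.le_centralizer_of_fixed_commute hs2 ht.out hts hat (h.actS ha) (haP.symm ▸ h.comm)
      (hG.1.of_dvd_nat (card_subgroup_dvd_card _)) (not_dvd_of_isPGroup htq S'.2)
      (not_dvd_of_isPGroup hsq S'.2) _ T le_rfl hT ((le_sup_right.trans hKT) ha)
      (le_sup_left.trans hKT) fun x hx hxs hax u hu => by
        have hxC : x ∈ centralizer (P : Set G) := by
          rw [← haP, centralizer_zpowers]
          exact mem_centralizer_singleton_iff.2 hax.symm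
        rw [hno s hsβ x (mem_inf.2 ⟨hTM hx, hxC⟩) hxs]
        exact Commute.one_right u
  have hTL : T ≤ L := (le_centralizer_iff.1 h1).trans
    ((CfsgLib.Coprime.centralizer_le_normalizer_self _).trans (h.normS.trans inf_le_right))
  exact h.nconj.ne (eq_of_alpha_sylow_le hG hM h.coatomL hsβ.1 hT hTM hTmax hTL)

/-- No element of a `β`-prime of `L` in `M` centralizes `P`. -/
theorem SharedPair.no_element (h : SharedPair M L S P t q) (hL₁ : IsCoatom L₁) (hne : L₁ ≠ L)
    (hCP : centralizer (P : Set G) ≤ L₁) {s : ℕ} [hs : Fact s.Prime] (hsβ : s ∈ Cfsg.beta L)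
    {y : G} (hyM : y ∈ M) (hyP : y ∈ centralizer (P : Set G)) (hys : y ^ s = 1) (hy1 : y ≠ 1) :
    False := by
  obtain ⟨S', rfl⟩ := h.isSylow
  have hM := h.coatomM
  have hL := h.coatomL
  have hPM : P ≤ M := h.leP.trans inf_le_left
  have hsσL : s ∈ Cfsg.sigma L := alpha_subset_sigma hG hL hsβ.1
  have hsσM : s ∉ Cfsg.sigma M := alpha_not_sigma hG hM hL h.nconj hsβ.1
  have hts : t ≠ s := fun e => h.tauL.2.1 (e ▸ hsσL)
  -- a complement of `M_σ` inside `M ⊓ L`
  obtain ⟨E, hEh, hPE⟩ := IsHallIn.exists_ge (π := (Cfsg.sigma M)ᶜ)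
    (ms_solvable hG (ms_ne_top_of_le hG hM (inf_le_left : M ⊓ L ≤ M))) h.leP fun r hr hrd => by
      rw [h.cardP] at hrd
      rw [(Nat.prime_dvd_prime_iff_eq hr ht.out).1 hrd]
      exact h.tauM.2.1
  obtain ⟨hED, hEπ, hEi⟩ := hEh
  have hEM : IsHallIn (Cfsg.sigma M)ᶜ E M := by
    refine ⟨hED.trans inf_le_left, hEπ, fun r hr hrd => ?_⟩
    rw [← relIndex_mul_relIndex E (M ⊓ L) M hED inf_le_left] at hrd
    rcases hr.dvd_mul.1 hrd with h1 | h1
    · exact hEi r hr h1
    intro hrσ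
    obtain ⟨hhall, -⟩ := betaCore_hall hG hM
    have h2 := sigma_factor hG hM h.sigM (h.not_beta hG) S' (h.leS.trans inf_le_left)
    have h3 : M ≤ (M ⊓ L) ⊔ Cfsg.piCoreOf (Cfsg.beta M) M := h2.trans
      (sup_le le_sup_right ((le_inf inf_le_left
        (inf_le_right.trans (h.normS.trans inf_le_right))).trans le_sup_left))
    have h4 : Nat.card ↥(M ⊓ L) * (M ⊓ L).relIndex M ∣
        Nat.card ↥(M ⊓ L) * Nat.card ↥(Cfsg.piCoreOf (Cfsg.beta M) M) := by
      rw [CfsgLib.Coprime.card_mul_relIndex inf_le_left]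
      exact (card_dvd_of_le h3).trans (CfsgLib.Coprime.card_sup_dvd_of_le_normalizer
        (inf_le_left.trans (le_normalizer_piCoreOf (A := M) (X := M) le_rfl)))
    exact hrσ (alpha_subset_sigma hG hM (hhall.2.1 r hr
      (h1.trans (Nat.dvd_of_mul_dvd_mul_left Nat.card_pos h4))).1)
  have hKP : zpowers y ≤ normalizer (P : Set G) :=
    (zpowers_le.2 hyP).trans (CfsgLib.Coprime.centralizer_le_normalizer_self _)
  obtain ⟨m, hm, hmK⟩ := hEM.exists_conj_le (ms_solvable hG hM.1)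
    (sup_le (zpowers_le.2 hyM) hPM) fun r hr hrd => by
      have h1 := hrd.trans (CfsgLib.Coprime.card_sup_dvd_of_le_normalizer hKP)
      rw [Nat.card_zpowers, orderOf_eq_prime hys hy1, h.cardP] at h1
      rcases hr.dvd_mul.1 h1 with h2 | h2
      · rw [(Nat.prime_dvd_prime_iff_eq hr hs.out).1 h2]; exact hsσM
      · rw [(Nat.prime_dvd_prime_iff_eq hr ht.out).1 h2]; exact h.tauM.2.1
  have hEsol : Group.IsSolvable E := ms_solvable hG (ms_ne_top_of_le hG hM hEM.1)
  obtain ⟨T₀, hT₀h, hPT₀⟩ := IsHallIn.exists_ge (π := {t}) hEsol hPE fun r hr hrd => by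
    rw [h.cardP] at hrd; exact (Nat.prime_dvd_prime_iff_eq hr ht.out).1 hrd
  have hPm : conjBy m P ≤ E := (map_mono le_sup_right).trans hmK
  obtain ⟨e, he, heT⟩ := hT₀h.exists_conj_le hEsol hPm fun r hr hrd => by
    rw [CfsgLib.Coprime.card_conjBy, h.cardP] at hrd
    exact (Nat.prime_dvd_prime_iff_eq hr ht.out).1 hrd
  have hT₀p : IsPGroup t T₀ := by
    obtain ⟨k, hk⟩ : ∃ k, Nat.card T₀ = t ^ k :=
      ⟨_, Nat.eq_prime_pow_of_unique_prime_dvd Nat.card_pos.ne' fun {r} hr hrd =>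
        hT₀h.2.1 r hr hrd⟩
    exact IsPGroup.of_card hk
  have ht2 : t ≠ 2 := ms_ne_two hG ((dvd_of_eq h.cardP.symm).trans (card_subgroup_dvd_card P))
  have hT₀c : IsCyclic T₀ := Compl.isCyclic_of_rank_one ht2 hT₀p
    (RankTwoTower.pRankLE_of_injective (f := inclusion (hT₀h.1.trans hEM.1))
      (inclusion_injective _) h.tauM.2.2.2.2)
  set g := e * m with hg
  have hgP : conjBy g P = P := by
    have hc : Nat.card ↥(conjBy g P) = t := by rw [CfsgLib.Coprime.card_conjBy, h.cardP]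
    refine eq_of_le_of_card_ge (eq_of_cyclic (q := t) hT₀c hPT₀ (by rw [hg, ← conjBy_conjBy]; exact heT)
      (fun y hy => orderOf_dvd_iff_pow_eq_one.1 (h.cardP ▸ orderOf_dvd_natCard P hy))
      (fun y hy => orderOf_dvd_iff_pow_eq_one.1 (hc ▸ orderOf_dvd_natCard _ hy))
      (line_ne_bot h.cardP)) (by rw [hc, h.cardP])
  set z := g * y * g⁻¹ with hz
  have hzE : z ∈ E := by
    have h1 : m * y * m⁻¹ ∈ E := hmK (conj_mem_conjBy (mem_sup_left (mem_zpowers y)))
    rw [hz, hg, show e * m * y * (e * m)⁻¹ = e * (m * y * m⁻¹) * e⁻¹ by group]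
    exact mul_mem (mul_mem he h1) (inv_mem he)
  have hzP : z ∈ centralizer (P : Set G) := mem_centralizer_iff.2 fun x hx => by
    rw [← hgP] at hx
    obtain ⟨x', hx', rfl⟩ := hx
    show g * x' * g⁻¹ * (g * y * g⁻¹) = g * y * g⁻¹ * (g * x' * g⁻¹)
    rw [show g * x' * g⁻¹ * (g * y * g⁻¹) = g * (x' * y) * g⁻¹ by group,
      mem_centralizer_iff.1 hyP x' hx']
    group
  have hzs : z ^ s = 1 := by rw [hz, conj_pow, hys, mul_one, mul_inv_cancel]
  have hz1 : z ≠ 1 := fun e1 => hy1 (by simpa [hz] using e1)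
  set Y := zpowers z with hY
  have hYc : Nat.card Y = s := by rw [hY, Nat.card_zpowers, orderOf_eq_prime hzs hz1]
  have hYp : IsPGroup s Y := IsPGroup.of_card (n := 1) (by rw [hYc, pow_one])
  have hzD : z ∈ M ⊓ L := hED hzE
  have hYS : Y ≤ centralizer ((S' : Subgroup G) : Set G) :=
    (centralizes_of_sigma hG hM hL h.nconj hsσM hsσL hYp (zpowers_le.2 hzD.1)
      (zpowers_le.2 hzD.2)).trans (centralizer_le (le_inf
        (isPGroup_le_sigmaCore hG hM h.sigM S'.2 (h.leS.trans inf_le_left))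
        (h.leS.trans inf_le_right)))
  have hSPY : (S' : Subgroup G) ⊔ P ≤ normalizer (Y : Set G) :=
    (sup_le (le_centralizer_iff.1 hYS) (le_centralizer_iff.1 (zpowers_le.2 hzP))).trans
      (CfsgLib.Coprime.centralizer_le_normalizer_self _)
  obtain ⟨hhall, -⟩ := betaCore_hall hG hL
  obtain ⟨T, hT, hTD, hYT, hKT, hTmax⟩ := exists_invariant_max (p := s) hhall.1
    (le_normalizer_piCoreOf (A := L) (X := L) le_rfl) (fun hd => hhall.2.2 s hs.out hsβ hd)
    (sup_le (h.leS.trans inf_le_right) (h.leP.trans inf_le_right))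
    (h.symm.coprime hG) (CfsgLib.Coprime.isSolvable_of_le hhall.1 (ms_solvable hG hL.1))
    hYp (zpowers_le.2 hzD.2) hSPY
  have hTL : T ≤ L := hTD.trans hhall.1
  obtain ⟨a, ha, ha1⟩ : ∃ a ∈ P, a ≠ 1 :=
    (bot_or_exists_ne_one P).resolve_left (line_ne_bot h.cardP)
  have hat : a ^ t = 1 := orderOf_dvd_iff_pow_eq_one.1 (h.cardP ▸ orderOf_dvd_natCard P ha)
  have haP : zpowers a = P := eq_of_le_of_card_ge (zpowers_le.2 ha)
    (by rw [Nat.card_zpowers, orderOf_eq_prime hat ha1, h.cardP])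
  have hs2 : s ≠ 2 := ms_ne_two hG ((dvd_of_eq hYc.symm).trans (card_subgroup_dvd_card Y))
  have hsq : q ≠ s := fun e => hsσM (e ▸ h.sigM)
  have htq : q ≠ t := fun e => h.tauM.2.1 (e ▸ h.sigM)
  have h1 : (S' : Subgroup G) ≤ centralizer (T : Set G) :=
    FixLine.le_centralizer_of_fixed_commute hs2 ht.out hts hat (h.actS ha) (haP.symm ▸ h.comm)
      (hG.1.of_dvd_nat (card_subgroup_dvd_card _)) (not_dvd_of_isPGroup htq S'.2)
      (not_dvd_of_isPGroup hsq S'.2) _ T le_rfl hT ((le_sup_right.trans hKT) ha)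
      (le_sup_left.trans hKT) fun x hx hxs hax u hu => by
        have hxC : x ∈ centralizer (P : Set G) := by
          rw [← haP, centralizer_zpowers]
          exact mem_centralizer_singleton_iff.2 hax.symm
        suffices hxY : x ∈ Y by exact mem_centralizer_iff.1 (hYS hxY) u hu
        have hYW : Y ≤ T ⊓ centralizer (P : Set G) := le_inf hYT (zpowers_le.2 hzP)
        by_cases hc : IsCyclic ↥(T ⊓ centralizer (P : Set G))
        · exact eq_of_cyclic (q := s) hc hYW (zpowers_le.2 (mem_inf.2 ⟨hx, hxC⟩))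
            (fun w hw => orderOf_dvd_iff_pow_eq_one.1 (hYc ▸ orderOf_dvd_natCard Y hw))
            (fun w hw => by
              obtain ⟨i, rfl⟩ := mem_zpowers_iff.1 hw
              rw [← zpow_natCast, ← zpow_mul, mul_comm, zpow_mul, zpow_natCast, hxs, one_zpow])
            (line_ne_bot hYc) (mem_zpowers x)
        · exfalso
          obtain ⟨V, -, hVW, hVe, hV2⟩ := exists_elementary_over hs2
            (hT.to_inf_left : IsPGroup s ↥(T ⊓ centralizer (P : Set G))) hc hYW hYc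
          exact hne ((ideal_unique hG hsβ.2 hVe hV2).unique
            ⟨hL₁, hVW.trans (inf_le_right.trans hCP)⟩ ⟨hL, hVW.trans (inf_le_left.trans hTL)⟩)
  have hTM : T ≤ M := (le_centralizer_iff.1 h1).trans
    ((CfsgLib.Coprime.centralizer_le_normalizer_self _).trans (h.normS.trans inf_le_left))
  exact h.nconj.symm.ne (eq_of_alpha_sylow_le hG hL hM hsβ.1 hT hTL hTmax hTM)

/-- An element normalizing a line inside a normal `s`-subgroup of cyclic type. -/
theorem normalizer_line_of_normal {s : ℕ} [hs : Fact s.Prime] {K N X : Subgroup G}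
    (hK : K ≤ L₁) (hr1 : Cfsg.PRankLE s 1 L₁) (hNK : N ≤ K) (hKN : K ≤ normalizer (N : Set G))
    (hN : IsPGroup s N) (hN1 : N ≠ ⊥) (hXK : X ≤ K) (hX : Nat.card X = s) :
    K ≤ normalizer (X : Set G) := by
  have hXp : IsPGroup s X := IsPGroup.of_card (n := 1) (by rw [hX, pow_one])
  have hs2 : s ≠ 2 := ms_ne_two hG ((dvd_of_eq hX.symm).trans (card_subgroup_dvd_card X))
  have hc : IsCyclic ↥(N ⊔ X) := Compl.isCyclic_of_rank_one hs2
    (hN.to_sup_of_normal_left' hXp (hXK.trans hKN))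
    (RankTwoTower.pRankLE_of_injective (f := inclusion ((sup_le hNK hXK).trans hK))
      (inclusion_injective _) hr1)
  obtain ⟨z, hz⟩ := exists_prime_orderOf_dvd_card' s
    (mem_of_isPGroup hN hN1 le_rfl)
  have hz1 : (z : G) ≠ 1 := fun e => hs.out.ne_one (hz.symm.trans
    (orderOf_eq_one_iff.2 (Subtype.ext e)))
  have hXN : X ≤ N := by
    refine le_trans (eq_of_cyclic (q := s) (Y := zpowers (z : G)) hc
      ((zpowers_le.2 z.2).trans le_sup_left) le_sup_right
      (fun w hw => orderOf_dvd_iff_pow_eq_one.1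
        ((orderOf_dvd_natCard _ hw).trans (by rw [Nat.card_zpowers, orderOf_coe, hz])))
      (fun w hw => orderOf_dvd_iff_pow_eq_one.1 (hX ▸ orderOf_dvd_natCard X hw))
      (zpowers_ne_bot.2 hz1)) (zpowers_le.2 z.2)
  haveI := hc
  have hNc : IsCyclic N := isCyclic_of_injective (inclusion (le_sup_left : N ≤ N ⊔ X))
    (inclusion_injective _)
  exact hKN.trans (normalizer_le_normalizer_of_cyclic hNc hXN)

/-- No shared pair. -/
theorem SharedPair.elim (h : SharedPair M L S P t q) : False := by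
  have hM := h.coatomM
  have hL := h.coatomL
  have hPp : IsPGroup t P := IsPGroup.of_card (n := 1) (by rw [h.cardP, pow_one])
  obtain ⟨L₁, hL₁, hNP⟩ := exists_coatom_normalizer hG (line_ne_bot h.cardP)
    (ms_isPGroup_ne_top hG hPp)
  have hCP : centralizer (P : Set G) ≤ L₁ :=
    (CfsgLib.Coprime.centralizer_le_normalizer_self _).trans hNP
  have hncM := rank_one_not_conj hG hM h.tauM.2.1 h.tauM.2.2.2.2 h.cardP hNP
  have hncL := rank_one_not_conj hG hL h.tauL.2.1 h.tauL.2.2.2.2 h.cardP hNP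
  obtain ⟨s, hsβ, x, hx, hxs, hx1⟩ := h.exists_fixed hG
  obtain ⟨r, hrβ, y, hy, hyr, hy1⟩ := h.symm.exists_fixed hG
  haveI : Fact s.Prime := ⟨hsβ.1.1⟩
  haveI : Fact r.Prime := ⟨hrβ.1.1⟩
  have hrank : ∀ {w : ℕ} [Fact w.Prime] {N : Subgroup G}, IsCoatom N → NotConj N L₁ →
      w ∈ Cfsg.beta N → Cfsg.PRankLE w 1 L₁ := by
    intro w _ N hN hnc hwβ
    have hwσ := alpha_not_sigma hG hL₁ hN hnc.symm hwβ.1
    rcases tau_or_rank_one hG hL₁ Fact.out hwσ with h1 | h1
    · exact absurd hwβ.2 (not_ideal_of_rank_two hG hL₁ (mem_tau_iff.1 h1).2.1 (mem_tau_iff.1 h1).2.2)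
    · exact h1
  have hCsol : Group.IsSolvable ↥(centralizer (P : Set G)) :=
    ms_solvable hG (ms_ne_top_of_le hG hL₁ hCP)
  obtain ⟨K, hKh, hxK⟩ := IsHallIn.exists_ge (π := {s, r}) hCsol (zpowers_le.2 hx.2)
    fun w hw hwd => by
      rw [Nat.card_zpowers, orderOf_eq_prime hxs hx1] at hwd
      exact Or.inl ((Nat.prime_dvd_prime_iff_eq hw (Fact.out : s.Prime)).1 hwd)
  obtain ⟨c, hc, hcy⟩ := hKh.exists_conj_le hCsol (zpowers_le.2 hy.2) fun w hw hwd => by
    rw [Nat.card_zpowers, orderOf_eq_prime hyr hy1] at hwd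
    exact Or.inr ((Nat.prime_dvd_prime_iff_eq hw (Fact.out : r.Prime)).1 hwd)
  have hKC : K ≤ centralizer (P : Set G) := hKh.1
  have hKL₁ : K ≤ L₁ := hKC.trans hCP
  have hKsol : Group.IsSolvable K := ms_solvable hG (ms_ne_top_of_le hG hL₁ hKL₁)
  have hxK' : x ∈ K := hxK (mem_zpowers x)
  haveI := hKsol
  haveI : Nontrivial K := ⟨⟨⟨x, hxK'⟩, 1, fun e => hx1 (congrArg Subtype.val e :)⟩⟩
  obtain ⟨N₀, w, hN₀n, hN₀1, hw, hN₀p, -⟩ :=
    CfsgLib.Coprime.exists_normal_pGroup_of_isSolvable (G := K)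
  haveI : Fact w.Prime := ⟨hw⟩
  set N := N₀.map K.subtype with hN
  have hNp : IsPGroup w N := hN₀p.map _
  have hNK : N ≤ K := map_subtype_le _
  have hN1 : N ≠ ⊥ := fun e => hN₀1 ((map_eq_bot_iff_of_injective _ K.subtype_injective).1 e)
  have hKN : K ≤ normalizer (N : Set G) := by
    haveI : (N.subgroupOf K).Normal := by
      rw [hN, subgroupOf, comap_map_eq_self_of_injective K.subtype_injective]; exact hN₀n
    exact (normal_subgroupOf_iff_le_normalizer hNK).1 inferInstance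
  have hwd : w ∣ Nat.card K := mem_of_isPGroup hNp hN1 hNK
  have hy' : c * y * c⁻¹ ∈ K := hcy (conj_mem_conjBy (mem_zpowers y))
  rcases hKh.2.1 w hw hwd with rfl | rfl
  · have hXc : Nat.card (zpowers x) = w := by rw [Nat.card_zpowers, orderOf_eq_prime hxs hx1]
    have h1 := normalizer_line_of_normal hG hKL₁ (hrank hM hncM hsβ) hNK hKN hNp hN1 hxK hXc
    have h2 := normalizer_le_of_unique hG hM (X := zpowers x) (by
      rw [centralizer_zpowers]; exact beta_centralizer hG hM hsβ hx.1 hxs hx1)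
    exact h.no_element hG hL₁ hncL.ne hCP hrβ (h2 (h1 hy')) (hKC hy')
      (by rw [conj_pow, hyr, mul_one, mul_inv_cancel]) fun e => hy1 (by simpa using e)
  · have hXc : Nat.card (zpowers (c * y * c⁻¹)) = w := by
      rw [Nat.card_zpowers, orderOf_eq_prime
        (show (c * y * c⁻¹) ^ w = 1 by rw [conj_pow, hyr, mul_one, mul_inv_cancel])
        fun e => hy1 (by simpa using e)]
    have h1 := normalizer_line_of_normal hG hKL₁ (hrank hL hncL hrβ) hNK hKN hNp hN1
      (zpowers_le.2 hy') hXc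
    have h2 := normalizer_le_of_unique hG hL (X := zpowers y) (by
      rw [centralizer_zpowers]; exact beta_centralizer hG hL hrβ hy.1 hyr hy1)
    have h3 : c⁻¹ * x * c ∈ normalizer (zpowers y : Set G) := by
      have h4 : conjBy c⁻¹ (zpowers (c * y * c⁻¹)) = zpowers y := by
        show (zpowers (c * y * c⁻¹)).map (MulAut.conj c⁻¹).toMonoidHom = _
        rw [MonoidHom.map_zpowers]
        congr 1
        simp [mul_assoc]
      rw [← h4, normalizer_conjBy, mem_conjBy]
      simpa [mul_assoc] using h1 hxK'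
    refine h.symm.no_element hG hL₁ hncM.ne hCP hsβ (h2 h3)
      (mul_mem (mul_mem (inv_mem hc) hx.2) hc) ?_ ?_
    · rw [show c⁻¹ * x * c = c⁻¹ * x * c⁻¹⁻¹ by group, conj_pow, hxs, mul_one, mul_inv_cancel]
    · intro e
      exact hx1 (by simpa [mul_assoc] using congrArg (fun z => c * z * c⁻¹) e)

omit ht in
/-- No common Sylow subgroup at a common prime of `σ` for nonconjugate maximal subgroups. -/
theorem sylow_shared_false (hM : IsCoatom M) (hL : IsCoatom L) (hnc : NotConj M L)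
    (S : Sylow q G) (hSM : (S : Subgroup G) ≤ M) (hSL : (S : Subgroup G) ≤ L)
    (hqM : q ∈ Cfsg.sigma M) (hqL : q ∈ Cfsg.sigma L) : False := by
  have hNM := sylow_normalizer_le hG hM hqM S hSM
  have hNL := sylow_normalizer_le hG hL hqL S hSL
  have hqβM : q ∉ Cfsg.beta M := fun hb => alpha_not_sigma hG hL hM hnc.symm hb.1 hqL
  have hqβL : q ∉ Cfsg.beta L := fun hb => alpha_not_sigma hG hM hL hnc hb.1 hqM
  obtain ⟨V, hV, hVq⟩ := exists_compl_sylow S (ms_solvable hG (ms_ne_top_of_le hG hM hNM))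
  have hVM : V ≤ M := hV.2.1.trans hNM
  have hVL : V ≤ L := hV.2.1.trans hNL
  have hSV := (Cfsg.Agent.S1411.result hG q S V hV).1
  have hS1 : (S : Subgroup G) ≠ ⊥ := fun e => by
    have h1 : (S : Subgroup G).index = Nat.card G := by rw [e, index_bot]
    exact S.not_dvd_index (h1 ▸ hqM.2.1.trans (card_subgroup_dvd_card M))
  obtain ⟨t, htp, v, hv, ⟨n, hn⟩, hvS⟩ : ∃ t : ℕ, t.Prime ∧ ∃ v ∈ V, (∃ n : ℕ, v ^ t ^ n = 1) ∧
      v ∉ centralizer ((S : Subgroup G) : Set G) := by
    by_contra hno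
    simp only [not_exists, not_and, not_not] at hno
    refine hS1 (hSV.trans (commutator_eq_bot_iff_le_centralizer.2 (le_centralizer_iff.1 ?_)))
    exact le_of_prime_power_elements fun t ht v hv hn => hno t ht v hv hn
  haveI : Fact t.Prime := ⟨htp⟩
  have hv1 : v ≠ 1 := fun e => hvS (e ▸ one_mem _)
  obtain ⟨i, -, hi⟩ := (Nat.dvd_prime_pow htp).1 (orderOf_dvd_of_pow_eq_one hn)
  have hvt : IsPGroup t (zpowers v) := IsPGroup.of_card (n := i) (by rw [Nat.card_zpowers, hi])
  have hvSN : v ∈ normalizer ((S : Subgroup G) : Set G) := hV.2.1 hv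
  have htau : ∀ {N N' : Subgroup G}, IsCoatom N → IsCoatom N' → NotConj N N' →
      (S : Subgroup G) ≤ N → q ∈ Cfsg.sigma N → q ∈ Cfsg.sigma N' → q ∉ Cfsg.beta N →
      V ≤ N → t ∈ Cfsg.tau1 N := by
    intro N N' hN hN' hnc' hSN hqN hqN' hqβ hVN
    have hout : v ∉ ⁅N, N⁆ := fun hd => hvS (derived_centralizes_non_beta hG hN hqβ hSN S.2 hd
      ((hq.out.coprime_iff_not_dvd.2 fun h => hVq (h.trans (orderOf_dvd_natCard V hv))).symm) hvSN)
    have htσ : t ∉ Cfsg.sigma N := fun h => hout (sigmaCore_le_derived hG hN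
      (isPGroup_le_sigmaCore hG hN h hvt (zpowers_le.2 (hVN hv)) (mem_zpowers v)))
    have htN : t ∣ Nat.card N :=
      mem_of_isPGroup hvt (zpowers_ne_bot.2 hv1) (zpowers_le.2 (hVN hv))
    rcases tau_or_rank_one hG hN htp htσ with htt | ht1
    · exfalso
      obtain ⟨B, hBN, hBe, hB2⟩ := exists_elementary_of_not_pRankLE (mem_tau_iff.1 htt).2.2
      exact sigma_nilpotent_conj hG hN' hN (tau_nilpotent hG hN htt hBN hBe hB2) hqN' hqN
        hnc'.symm
    · refine ⟨htp, htσ, htN, fun hd => ?_, ht1⟩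
      obtain ⟨E, hE, hvE⟩ := exists_complement hG hN (zpowers_le.2 (hVN hv)) fun s hs hsd => by
        rw [Nat.card_zpowers, hi] at hsd
        rw [(Nat.prime_dvd_prime_iff_eq hs htp).1 (hs.dvd_of_dvd_pow hsd)]; exact htσ
      exact hout (commutator_mono hE.1 hE.1 (Compl.mem_derived_of_tau3 hG hN hE
        ⟨htp, htσ, hd, ht1⟩ (hvE (mem_zpowers v)) hn))
  have htM := htau hM hL hnc hSM hqM hqL hqβM hVM
  have htL := htau hL hM hnc.symm hSL hqL hqM hqβL hVL
  obtain ⟨y, hy⟩ := exists_prime_orderOf_dvd_card' (G := zpowers v) t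
    (mem_of_isPGroup hvt (zpowers_ne_bot.2 hv1) le_rfl)
  set P := zpowers (y : G) with hPdef
  have hPv : P ≤ zpowers v := zpowers_le.2 y.2
  have hPc : Nat.card P = t := by rw [hPdef, Nat.card_zpowers, orderOf_coe, hy]
  have hPM : P ≤ M := hPv.trans (zpowers_le.2 (hVM hv))
  have hPL : P ≤ L := hPv.trans (zpowers_le.2 (hVL hv))
  have hPS : P ≤ normalizer ((S : Subgroup G) : Set G) := hPv.trans (zpowers_le.2 hvSN)
  have hSσ := isPGroup_le_sigmaCore hG hM hqM S.2 hSM
  have hC : (S : Subgroup G) ⊓ centralizer (P : Set G) = ⊥ := by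
    by_contra hne
    obtain ⟨z, hz⟩ := exists_prime_orderOf_dvd_card'
      (G := ↥((S : Subgroup G) ⊓ centralizer (P : Set G))) q
      (mem_of_isPGroup S.2.to_inf_left hne le_rfl)
    have hXc : Nat.card (zpowers (z : G)) = q := by rw [Nat.card_zpowers, orderOf_coe, hz]
    have hXC : zpowers (z : G) ≤ (S : Subgroup G) ⊓ centralizer (P : Set G) := zpowers_le.2 z.2
    have hSσL := isPGroup_le_sigmaCore hG hL hqL S.2 hSL
    have h1 := unique_of_fixed hG hM htM hPM hPc hXc (hXC.trans (inf_le_inf_right _ hSσ))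
    have h2 := unique_of_fixed hG hL htL hPL hPc hXc (hXC.trans (inf_le_inf_right _ hSσL))
    exact hnc 1 (by rw [conjBy_one]; exact (h1.2 L hL h2.1).symm)
  have hcomm : (⁅(S : Subgroup G), P⁆ : Subgroup G) = S := by
    have h1 := CfsgLib.Coprime.commutator_sup_centralizer hPS (by
      obtain ⟨k, hk⟩ := IsPGroup.iff_card.1 S.2
      rw [hk, hPc]
      exact ((Nat.coprime_primes htp hq.out).2 fun e => htM.2.1 (e ▸ hqM)).pow_right k)
      (Or.inr (CfsgLib.Coprime.isSolvable_of_isNilpotent S.2.isNilpotent))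
    rwa [hC, sup_bot_eq] at h1
  exact SharedPair.elim hG (M := M) (L := L) (S := (S : Subgroup G)) (P := P) (t := t) (q := q)
    ⟨hM, hL, hnc, htM, htL, le_inf hPM hPL, hPc, hqM, hqL, ⟨S, rfl⟩, le_inf hSM hSL,
      le_inf hNM hNL, hPS, hcomm⟩

omit ht hq in
/-- Maximal subgroups sharing a prime of `σ` are conjugate. -/
theorem exists_conj_of_sigma (hM : IsCoatom M) (hL : IsCoatom L) {q : ℕ}
    (hqM : q ∈ Cfsg.sigma M) (hqL : q ∈ Cfsg.sigma L) : ∃ g : G, conjBy g M = L := by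
  haveI : Fact q.Prime := ⟨hqM.1⟩
  by_contra hno
  simp only [not_exists] at hno
  obtain ⟨S, -, hSM⟩ := exists_sylow_of_sigma hG hM hqM (IsPGroup.of_bot (p := q)) bot_le
  obtain ⟨S', -, hS'L⟩ := exists_sylow_of_sigma hG hL hqL (IsPGroup.of_bot (p := q)) bot_le
  obtain ⟨g, hg⟩ := exists_conjBy_sylow S' S
  have hSL : (S : Subgroup G) ≤ conjBy g L := hg.le.trans (map_mono hS'L)
  refine sylow_shared_false hG hM (isCoatom_conjBy g hL) (fun a e => hno (g⁻¹ * a) ?_) S hSM hSL
    hqM ?_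
  · rw [← conjBy_conjBy, e, conjBy_conjBy, inv_mul_cancel, conjBy_one]
  · refine sigma_of_sylow hG (isCoatom_conjBy g hL) S hSL ?_ ?_
    · rw [hg, normalizer_conjBy]
      exact map_mono (sylow_normalizer_le hG hL hqL S' hS'L)
    · rw [CfsgLib.Coprime.card_conjBy]; exact hqL.2.1

omit ht in
/-- A prime of `σ(M)` is in no `σ` of a nonconjugate maximal subgroup. -/
theorem not_sigma (hM : IsCoatom M) (hL : IsCoatom L) (hnc : NotConj M L)
    (hqM : q ∈ Cfsg.sigma M) : q ∉ Cfsg.sigma L := fun hqL => by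
  obtain ⟨g, hg⟩ := exists_conj_of_sigma hG hM hL hqM hqL
  exact hnc g hg

end CfsgLib.CFun.Disjoint
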