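import Cfsg.Agent.Lib.CFun.OddSigmaCosets

/-!
# The conjugates of the cosets `x R(x)`

The conjugates of the cosets `x R(x)`, `x ∈ M_σ` nontrivial, number `(|M_σ| - 1) |G : M|`, and those
of nonconjugate maximal subgroups are distinct.
-/

set_option autoImplicit false
set_option linter.style.haveILetI false
set_option linter.unusedSectionVars false

open Subgroup
open CfsgLib.Coprime (conjBy conjBy_conjBy conjBy_one mem_conjBy conj_mem_conjBy)

namespace CfsgLib.CFun.Tilde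

open CfsgLib.CFun.TauTwo CfsgLib.CFun.Disjoint CfsgLib.CFun.ElemCent CfsgLib.CFun.Cosets

universe u

variable {G : Type u} [Group G] [Finite G] (hG : Cfsg.IsMinSimpleOddOrder G) {M N : Subgroup G}
include hG

/-- Conjugation carries `M_σ` to `(M ^ g)_σ`. -/
theorem conj_mem_sigmaCore (hM : IsCoatom M) (g : G) {x : G} (hx : x ∈ Cfsg.sigmaCore M) :
    g * x * g⁻¹ ∈ Cfsg.sigmaCore (conjBy g M) := by
  refine zpowers_le.1 (le_sigmaCore_of_isPiNum hG (isCoatom_conjBy g hM)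
    (zpowers_le.2 (conj_mem_conjBy (map_subtype_le _ hx : x ∈ M))) fun p hp hpd => ?_)
  haveI : Fact p.Prime := ⟨hp⟩
  rw [Nat.card_zpowers, show orderOf (g * x * g⁻¹) = orderOf x from (MulAut.conj g).orderOf_eq x] at hpd
  refine mem_sigma_conjBy hG (isCoatom_conjBy g hM) (g := g⁻¹) ?_
  rw [conjBy_conjBy, inv_mul_cancel, conjBy_one]
  exact sigma_of_mem hG hM hx hp hpd

omit [Finite G] hG in
/-- Conjugation carries centralizers to centralizers. -/
theorem conjBy_centralizer (g x : G) :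
    conjBy g (centralizer ({x} : Set G)) = centralizer ({g * x * g⁻¹} : Set G) := by
  ext y
  simp only [mem_centralizer_singleton_iff]
  constructor
  · rintro ⟨w, hw, rfl⟩
    have hw' : w * x = x * w := mem_centralizer_singleton_iff.1 hw
    show g * w * g⁻¹ * (g * x * g⁻¹) = g * x * g⁻¹ * (g * w * g⁻¹)
    rw [show g * w * g⁻¹ * (g * x * g⁻¹) = g * (w * x) * g⁻¹ by group, hw']
    group
  · intro h
    refine ⟨g⁻¹ * y * g, mem_centralizer_singleton_iff.2 ?_, ?_⟩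
    · have h2 := congrArg (fun z => g⁻¹ * z * g) h
      simpa [mul_assoc] using h2
    · show g * (g⁻¹ * y * g) * g⁻¹ = y
      group

/-- `R(x)` when `C(x)` is not in `M`. -/
theorem support_eq (hM : IsCoatom M) {x : G} (hx : x ∈ Cfsg.sigmaCore M) (hx1 : x ≠ 1)
    (hxM : ¬ centralizer ({x} : Set G) ≤ M) :
    ∃ N : Subgroup G, IsCoatom N ∧ centralizer ({x} : Set G) ≤ N ∧
      (∀ L : Subgroup G, IsCoatom L → centralizer ({x} : Set G) ≤ L → L = N) ∧ NotConj M N ∧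
      Cfsg.IsComplIn (M ⊓ N) (Cfsg.sigmaCore N) N ∧ Cfsg.sigmaCore N = Cfsg.fittingHallOf N ∧
      Cfsg.supportR M x = Cfsg.sigmaCore N ⊓ centralizer ({x} : Set G) := by
  obtain ⟨N, hN, hxN, huniq, hnc, -, hD, hnil⟩ := exists_data hG hM hx hx1 hxM
  refine ⟨N, hN, hxN, huniq, hnc, hD, (fittingHallOf_eq hG hN hnil).symm, ?_⟩
  have h : ¬ centralizer ({x} : Set G) ≤ M ∧
      ∃! L : Subgroup G, IsCoatom L ∧ centralizer ({x} : Set G) ≤ L :=
    ⟨hxM, N, ⟨hN, hxN⟩, fun L hL => huniq L hL.1 hL.2⟩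
  unfold Cfsg.supportR
  rw [dif_pos h]
  have e : Classical.choose h.2.exists = N :=
    huniq _ (Classical.choose_spec h.2.exists).1 (Classical.choose_spec h.2.exists).2
  rw [e, fittingHallOf_eq hG hN hnil]

/-- Conjugation carries `R(x)` to `R(x ^ g)`. -/
theorem conj_mem_support (hM : IsCoatom M) (g : G) {x : G} (hx : x ∈ Cfsg.sigmaCore M) (hx1 : x ≠ 1)
    {r : G} (hr : r ∈ Cfsg.supportR M x) :
    g * r * g⁻¹ ∈ Cfsg.supportR (conjBy g M) (g * x * g⁻¹) := by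
  by_cases hxM : centralizer ({x} : Set G) ≤ M
  · rw [Cfsg.supportR, dif_neg (fun h => h.1 hxM), mem_bot] at hr
    rw [hr, mul_one, mul_inv_cancel]
    exact one_mem _
  obtain ⟨N, hN, hxN, -, -, -, -, hR⟩ := support_eq hG hM hx hx1 hxM
  have hxM' : ¬ centralizer ({g * x * g⁻¹} : Set G) ≤ conjBy g M := by
    rw [← conjBy_centralizer]
    exact fun h => hxM fun c hc => by
      obtain ⟨w, hw, e⟩ := h (conj_mem_conjBy hc)
      exact (MulAut.conj g).injective e ▸ hw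
  obtain ⟨N', -, -, huniq, -, -, -, hR'⟩ := support_eq hG (isCoatom_conjBy g hM)
    (conj_mem_sigmaCore hG hM g hx) (fun e => hx1 (by simpa using e)) hxM'
  have hN' : conjBy g N = N' :=
    huniq _ (isCoatom_conjBy g hN) (by rw [← conjBy_centralizer]; exact map_mono hxN)
  rw [hR] at hr
  rw [hR', ← hN']
  refine mem_inf.2 ⟨conj_mem_sigmaCore hG hN g hr.1, ?_⟩
  rw [← conjBy_centralizer]
  exact conj_mem_conjBy hr.2

/-- Conjugation preserves the order of `R(x)`. -/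
theorem card_support_conj (hM : IsCoatom M) (g : G) {x : G} (hx : x ∈ Cfsg.sigmaCore M)
    (hx1 : x ≠ 1) :
    Nat.card ↥(Cfsg.supportR (conjBy g M) (g * x * g⁻¹)) = Nat.card ↥(Cfsg.supportR M x) := by
  have hle : ∀ {M : Subgroup G} (g : G) {x : G}, IsCoatom M → x ∈ Cfsg.sigmaCore M → x ≠ 1 →
      conjBy g (Cfsg.supportR M x) ≤ Cfsg.supportR (conjBy g M) (g * x * g⁻¹) := by
    rintro M g x hM hx hx1 _ ⟨r, hr, rfl⟩
    exact conj_mem_support hG hM g hx hx1 hr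
  refine le_antisymm ?_ ?_
  · have h := hle g⁻¹ (isCoatom_conjBy g hM) (conj_mem_sigmaCore hG hM g hx)
      (fun e => hx1 (by simpa using e))
    rw [conjBy_conjBy, inv_mul_cancel, conjBy_one, inv_inv,
      show g⁻¹ * (g * x * g⁻¹) * g = x by group] at h
    exact (CfsgLib.Coprime.card_conjBy g⁻¹ _).ge.trans (card_le_of_le h)
  · exact (CfsgLib.Coprime.card_conjBy g _).ge.trans (card_le_of_le (hle g hM hx hx1))

/-- `C(x) = C_M(x) R(x)`. -/
theorem centralizer_split (hM : IsCoatom M) {x : G} (hx : x ∈ Cfsg.sigmaCore M) (hx1 : x ≠ 1) :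
    Cfsg.IsComplIn (M ⊓ centralizer ({x} : Set G)) (Cfsg.supportR M x)
        (centralizer ({x} : Set G)) ∧
      centralizer ({x} : Set G) ≤ normalizer (Cfsg.supportR M x : Set G) ∧
      (Nat.card ↥(M ⊓ centralizer ({x} : Set G))).Coprime (Nat.card ↥(Cfsg.supportR M x)) := by
  by_cases hxM : centralizer ({x} : Set G) ≤ M
  · have e : Cfsg.supportR M x = ⊥ := by rw [Cfsg.supportR, dif_neg (fun h => h.1 hxM)]
    rw [e]
    refine ⟨⟨inf_le_right, bot_le, inf_bot_eq _, fun c hc => ⟨c, mem_inf.2 ⟨hxM hc, hc⟩, 1,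
      one_mem _, (mul_one c).symm⟩⟩, by rw [normalizer_eq_top (H := (⊥ : Subgroup G))]; exact le_top,
      by rw [card_bot]; exact Nat.coprime_one_right _⟩
  obtain ⟨N, hN, hxN, -, -, hD, -, hR⟩ := support_eq hG hM hx hx1 hxM
  have hxD : x ∈ M ⊓ N := mem_inf.2
    ⟨map_subtype_le _ hx, hxN (mem_centralizer_singleton_iff.2 rfl)⟩
  have h := centralizer_compl hG hD hxD hxN
  have e : M ⊓ N ⊓ centralizer ({x} : Set G) = M ⊓ centralizer ({x} : Set G) := by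
    rw [inf_assoc, inf_eq_right.2 hxN]
  rw [e] at h
  rw [hR]
  refine ⟨h, CfsgLib.Coprime.inf_le_normalizer (hxN.trans (sigmaCore_normal hG N)) le_normalizer, ?_⟩
  exact ((compl_coprime hG hN hD).coprime_dvd_left
    (card_dvd_of_le (le_inf inf_le_left (inf_le_right.trans hxN)))).coprime_dvd_right
    (card_dvd_of_le inf_le_left)

/-- Each conjugate of `M` containing `x` is the image of `M` under a unique element of `R(x)`. -/
theorem existsUnique_conj (hM : IsCoatom M) {x : G} (hx : x ∈ Cfsg.sigmaCore M) (hx1 : x ≠ 1)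
    {g : G} (hg : x ∈ conjBy g M) :
    ∃! r : G, r ∈ Cfsg.supportR M x ∧ conjBy r M = conjBy g M := by
  obtain ⟨⟨-, hRC, hinf, hprod⟩, -, -⟩ := centralizer_split hG hM hx hx1
  have hself : ∀ m ∈ M, conjBy m M = M := fun m hm =>
    CfsgLib.Coprime.conjBy_eq_self_iff.2 (by rw [ms_normalizer_self hG hM]; exact hm)
  obtain ⟨m, hm, c, hc, e⟩ := fusion hG hM hx hx1 (g := g⁻¹) (by
    obtain ⟨w, hw, rfl⟩ := hg
    show g⁻¹ * (g * w * g⁻¹) * g⁻¹⁻¹ ∈ M
    simpa [mul_assoc] using hw)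
  obtain ⟨a, ha, b, hb, rfl⟩ := hprod c hc
  have hg' : g = b⁻¹ * (a⁻¹ * m⁻¹) := by rw [← inv_inv g, e]; group
  refine ⟨b⁻¹, ⟨inv_mem hb, ?_⟩, fun r hr => ?_⟩
  · rw [hg', ← conjBy_conjBy b⁻¹ (a⁻¹ * m⁻¹), hself _ (mul_mem (inv_mem ha.1) (inv_mem hm))]
  · have h1 : conjBy (b * r) M = M := by
      rw [← conjBy_conjBy, hr.2, hg', conjBy_conjBy, mul_inv_cancel_left,
        hself _ (mul_mem (inv_mem ha.1) (inv_mem hm))]
    have h2 : b * r ∈ M := by
      rw [← ms_normalizer_self hG hM]; exact CfsgLib.Coprime.conjBy_eq_self_iff.1 h1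
    have h3 : b * r ∈ M ⊓ centralizer ({x} : Set G) ⊓ Cfsg.supportR M x :=
      mem_inf.2 ⟨mem_inf.2 ⟨h2, hRC (mul_mem hb hr.1)⟩, mul_mem hb hr.1⟩
    rw [hinf, mem_bot] at h3
    exact eq_inv_of_mul_eq_one_right h3

/-- Conjugates of cosets of nonconjugate maximal subgroups differ. -/
theorem tilde_disjoint (hM : IsCoatom M) (hN : IsCoatom N) (hnc : NotConj M N) :
    Cfsg.tildeOf M ((Cfsg.sigmaCore M : Set G) \ {1}) ∩
      Cfsg.tildeOf N ((Cfsg.sigmaCore N : Set G) \ {1}) = ∅ := by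
  refine Set.eq_empty_iff_forall_notMem.2 fun w hw => ?_
  obtain ⟨⟨a, ⟨ha, ha1⟩, r, hr, g, rfl⟩, ⟨b, ⟨hb, hb1⟩, s, hs, h, e⟩⟩ := hw
  have e1 : a * r = (g⁻¹ * h) * b * (g⁻¹ * h)⁻¹ * ((g⁻¹ * h) * s * (g⁻¹ * h)⁻¹) := by
    calc a * r = g⁻¹ * (g * (a * r) * g⁻¹) * g := by group
      _ = g⁻¹ * (h * (b * s) * h⁻¹) * g := by rw [e]
      _ = _ := by group
  obtain ⟨-, k, hk⟩ := coset_eq hG hM (isCoatom_conjBy (g⁻¹ * h) hN) ha (by simpa using ha1)
    (conj_mem_sigmaCore hG hN _ hb) (fun e => hb1 (Set.mem_singleton_iff.2 (conj_eq_one_iff.1 e))) hr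
    (conj_mem_support hG hN _ hb (by simpa using hb1) hs) e1
  refine hnc ((g⁻¹ * h)⁻¹ * k) ?_
  rw [← conjBy_conjBy, hk, conjBy_conjBy, inv_mul_cancel, conjBy_one]

/-- The elements `g` carrying `x` into `M` form `M C(x)`. -/
theorem card_transporter (hM : IsCoatom M) {x : G} (hx : x ∈ Cfsg.sigmaCore M) (hx1 : x ≠ 1) :
    Set.ncard {g : G | g * x * g⁻¹ ∈ Cfsg.sigmaCore M} =
      Nat.card M * Nat.card ↥(Cfsg.supportR M x) := by
  obtain ⟨⟨-, hRC, hinf, hprod⟩, -, -⟩ := centralizer_split hG hM hx hx1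
  rw [← Nat.card_coe_set_eq, ← Nat.card_prod]
  refine (Nat.card_eq_of_bijective
    (fun p : M × ↥(Cfsg.supportR M x) => (⟨(p.1 : G) * p.2, ?_⟩ :
      ↥{g : G | g * x * g⁻¹ ∈ Cfsg.sigmaCore M})) ⟨?_, ?_⟩).symm
  · have h := mem_centralizer_singleton_iff.1 (hRC p.2.2)
    show (p.1 : G) * p.2 * x * ((p.1 : G) * p.2)⁻¹ ∈ Cfsg.sigmaCore M
    rw [mul_assoc (p.1 : G), h,
      show (p.1 : G) * (x * p.2) * ((p.1 : G) * p.2)⁻¹ = p.1 * x * (p.1 : G)⁻¹ by group]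
    exact (mem_normalizer_iff.1 (sigmaCore_normal hG M p.1.2) x).1 hx
  · rintro ⟨m, r⟩ ⟨m', r'⟩ e
    have e' : (m : G) * r = m' * r' := congrArg Subtype.val e
    have h1 : (m' : G)⁻¹ * m = r' * (r : G)⁻¹ := by
      rw [eq_mul_inv_iff_mul_eq, mul_assoc, e', inv_mul_cancel_left]
    have h2 : (r' : G) * (r : G)⁻¹ ∈ M ⊓ centralizer ({x} : Set G) ⊓ Cfsg.supportR M x :=
      mem_inf.2 ⟨mem_inf.2 ⟨h1 ▸ mul_mem (inv_mem m'.2) m.2,
        hRC (mul_mem r'.2 (inv_mem r.2))⟩, mul_mem r'.2 (inv_mem r.2)⟩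
    rw [hinf, mem_bot, mul_inv_eq_one] at h2
    obtain rfl : r' = r := Subtype.ext h2
    exact Prod.ext (Subtype.ext (mul_right_cancel e')) rfl
  · rintro ⟨g, hg⟩
    obtain ⟨m, hm, c, hc, rfl⟩ := fusion hG hM hx hx1 (g := g) (map_subtype_le _ hg)
    obtain ⟨a, ha, b, hb, rfl⟩ := hprod c hc
    exact ⟨(⟨m * a, mul_mem hm ha.1⟩, ⟨b, hb⟩), Subtype.ext (mul_assoc m a b)⟩

/-- The number of conjugates of the cosets `x R(x)`. -/
theorem ncard_tilde (hM : IsCoatom M) :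
    Set.ncard (Cfsg.tildeOf M ((Cfsg.sigmaCore M : Set G) \ {1})) =
      (Nat.card (Cfsg.sigmaCore M) - 1) * M.index := by
  classical
  haveI := Fintype.ofFinite G
  set A : Finset G := ((Cfsg.sigmaCore M : Set G) \ {1}).toFinset with hA
  set X : Finset (G × G × G) := Finset.univ ×ˢ (A.biUnion fun a =>
    (Cfsg.supportR M a : Set G).toFinset.image fun r => (a, r)) with hX
  set φ : G × G × G → G := fun p => p.1 * (p.2.1 * p.2.2) * p.1⁻¹ with hφ
  have hXmem : ∀ p, p ∈ X ↔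
      p.2.1 ∈ Cfsg.sigmaCore M ∧ p.2.1 ≠ 1 ∧ p.2.2 ∈ Cfsg.supportR M p.2.1 := by
    rintro ⟨g, a, r⟩
    simp [hX, hA, and_assoc]
  have hT : Cfsg.tildeOf M ((Cfsg.sigmaCore M : Set G) \ {1}) = ↑(X.image φ) := by
    ext w
    simp only [Finset.coe_image, Set.mem_image, Finset.mem_coe, hXmem]
    constructor
    · rintro ⟨a, ⟨ha, ha1⟩, r, hr, y, rfl⟩
      exact ⟨(y, a, r), ⟨ha, by simpa using ha1, hr⟩, rfl⟩
    · rintro ⟨⟨y, a, r⟩, ⟨ha, ha1, hr⟩, rfl⟩
      exact ⟨a, ⟨ha, by simpa using ha1⟩, r, hr, y, rfl⟩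
  rw [hT, Set.ncard_coe_finset]
  set F : G × G × G → ℚ := fun p => 1 / (Nat.card ↥(Cfsg.supportR M p.2.1) : ℚ) with hF
  have hMσ : ∀ m ∈ M, conjBy m M = M := fun m hm =>
    CfsgLib.Coprime.conjBy_eq_self_iff.2 (by rw [ms_normalizer_self hG hM]; exact hm)
  have hfib : ∀ w ∈ X.image φ, ∑ p ∈ X.filter (fun p => φ p = w), F p = (Nat.card M : ℚ) := by
    intro w hw
    obtain ⟨⟨g₀, a₀, r₀⟩, hp₀, rfl⟩ := Finset.mem_image.1 hw
    obtain ⟨ha₀, ha₀1, hr₀⟩ := (hXmem _).1 hp₀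
    dsimp only at ha₀ ha₀1 hr₀
    obtain ⟨⟨-, hRC, -, hprod⟩, hN, -⟩ := centralizer_split hG hM ha₀ ha₀1
    have hkey : ∀ h : G, h * a₀ * h⁻¹ ∈ Cfsg.sigmaCore M →
        h * r₀ * h⁻¹ ∈ Cfsg.supportR M (h * a₀ * h⁻¹) ∧
          Nat.card ↥(Cfsg.supportR M (h * a₀ * h⁻¹)) = Nat.card ↥(Cfsg.supportR M a₀) := by
      intro h hh
      obtain ⟨m, hm, c, hc, rfl⟩ := fusion hG hM ha₀ ha₀1 (g := h) (map_subtype_le _ hh)
      have e1 : m * c * a₀ * (m * c)⁻¹ = m * a₀ * m⁻¹ := by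
        rw [mul_assoc m, mem_centralizer_singleton_iff.1 hc]; group
      rw [e1]
      have h1 := conj_mem_support hG hM m ha₀ ha₀1 ((mem_normalizer_iff.1 (hN hc) r₀).1 hr₀)
      have h2 := card_support_conj hG hM m ha₀ ha₀1
      rw [hMσ m hm] at h1 h2
      exact ⟨by rwa [show m * c * r₀ * (m * c)⁻¹ = m * (c * r₀ * c⁻¹) * m⁻¹ by group], h2⟩
    have hcard : (X.filter fun p => φ p = φ (g₀, a₀, r₀)).card =
        Nat.card M * Nat.card ↥(Cfsg.supportR M a₀) := by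
      rw [← card_transporter hG hM ha₀ ha₀1, ← Set.ncard_coe_finset]
      refine Set.ncard_congr (fun p _ => p.1⁻¹ * g₀) ?_ ?_ ?_
      · rintro ⟨g, a, r⟩ hp
        simp only [Finset.coe_filter, Set.mem_setOf_eq, hXmem, hφ] at hp
        obtain ⟨⟨ha, ha1, hr⟩, e⟩ := hp
        have e1 : a * r = g⁻¹ * g₀ * a₀ * (g⁻¹ * g₀)⁻¹ * (g⁻¹ * g₀ * r₀ * (g⁻¹ * g₀)⁻¹) := by
          calc a * r = g⁻¹ * (g * (a * r) * g⁻¹) * g := by group
            _ = g⁻¹ * (g₀ * (a₀ * r₀) * g₀⁻¹) * g := by rw [e]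
            _ = _ := by group
        have h2 := (coset_eq hG hM (isCoatom_conjBy (g⁻¹ * g₀) hM) ha ha1
          (conj_mem_sigmaCore hG hM _ ha₀) (fun e => ha₀1 (conj_eq_one_iff.1 e)) hr
          (conj_mem_support hG hM _ ha₀ ha₀1 hr₀) e1).1
        show g⁻¹ * g₀ * a₀ * (g⁻¹ * g₀)⁻¹ ∈ Cfsg.sigmaCore M
        rw [← h2]; exact ha
      · rintro ⟨g, a, r⟩ ⟨g', a', r'⟩ hp hp' e
        simp only [Finset.coe_filter, Set.mem_setOf_eq, hXmem, hφ] at hp hp'
        obtain ⟨⟨ha, ha1, hr⟩, e1⟩ := hp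
        obtain ⟨⟨ha', ha'1, hr'⟩, e1'⟩ := hp'
        obtain rfl : g = g' := inv_injective (mul_right_cancel e)
        have e2 : a * r = a' * r' :=
          mul_left_cancel (mul_right_cancel (e1.trans e1'.symm))
        obtain rfl := (coset_eq hG hM hM ha ha1 ha' ha'1 hr hr' e2).1
        obtain rfl := mul_left_cancel e2
        rfl
      · intro h hh
        refine ⟨(g₀ * h⁻¹, h * a₀ * h⁻¹, h * r₀ * h⁻¹), ?_, by group⟩
        simp only [Finset.coe_filter, Set.mem_setOf_eq, hXmem, hφ]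
        exact ⟨⟨hh, fun e => ha₀1 (conj_eq_one_iff.1 e), (hkey h hh).1⟩, by group⟩
    have hconst : ∀ p ∈ X.filter (fun p => φ p = φ (g₀, a₀, r₀)),
        F p = 1 / (Nat.card ↥(Cfsg.supportR M a₀) : ℚ) := by
      rintro ⟨g, a, r⟩ hp
      obtain ⟨hp, e⟩ := Finset.mem_filter.1 hp
      obtain ⟨ha, ha1, hr⟩ := (hXmem _).1 hp
      simp only [hφ] at e
      have e1 : a * r = g⁻¹ * g₀ * a₀ * (g⁻¹ * g₀)⁻¹ * (g⁻¹ * g₀ * r₀ * (g⁻¹ * g₀)⁻¹) := by
        calc a * r = g⁻¹ * (g * (a * r) * g⁻¹) * g := by group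
          _ = g⁻¹ * (g₀ * (a₀ * r₀) * g₀⁻¹) * g := by rw [e]
          _ = _ := by group
      have h2 := (coset_eq hG hM (isCoatom_conjBy (g⁻¹ * g₀) hM) ha ha1
        (conj_mem_sigmaCore hG hM _ ha₀) (fun e => ha₀1 (conj_eq_one_iff.1 e)) hr
        (conj_mem_support hG hM _ ha₀ ha₀1 hr₀) e1).1
      simp only [hF]
      dsimp only at ha h2 ⊢
      rw [h2, (hkey _ (h2 ▸ ha)).2]
    rw [Finset.sum_congr rfl hconst, Finset.sum_const, hcard, nsmul_eq_mul]
    have hne : (Nat.card ↥(Cfsg.supportR M a₀) : ℚ) ≠ 0 := Nat.cast_ne_zero.2 Nat.card_pos.ne'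
    push_cast
    field_simp
  have htot : ∑ p ∈ X, F p = (Nat.card G : ℚ) * A.card := by
    rw [hX, Finset.sum_product]
    refine (Finset.sum_congr rfl fun g _ => (?_ : _ = (A.card : ℚ))).trans
      (by rw [Finset.sum_const, Finset.card_univ, ← Nat.card_eq_fintype_card, nsmul_eq_mul])
    rw [Finset.sum_biUnion]
    · rw [← nsmul_one A.card, ← Finset.sum_const]
      refine Finset.sum_congr rfl fun a _ => ?_
      rw [Finset.sum_image fun r _ r' _ e => (Prod.mk.injEq _ _ _ _ ▸ e).2]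
      simp only [hF]
      rw [Finset.sum_const, ← Set.ncard_eq_toFinset_card', nsmul_eq_mul]
      rw [← Nat.card_coe_set_eq]
      exact mul_one_div_cancel (Nat.cast_ne_zero.2 Nat.card_pos.ne')
    · intro a _ b _ hab
      simp only [Function.onFun, Finset.disjoint_left, Finset.mem_image]
      rintro _ ⟨r, -, rfl⟩ ⟨r', -, e⟩
      exact hab (congrArg Prod.fst e).symm
  rw [← Finset.sum_fiberwise_of_maps_to (g := φ) (fun p hp => Finset.mem_image_of_mem φ hp) F,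
    Finset.sum_congr rfl hfib, Finset.sum_const, nsmul_eq_mul] at htot
  have hAc : A.card = Nat.card (Cfsg.sigmaCore M) - 1 := by
    rw [hA, ← Set.ncard_eq_toFinset_card',
      Set.ncard_diff_singleton_of_mem (SetLike.mem_coe.2 (one_mem _)), ← Nat.card_coe_set_eq]
    rfl
  rw [hAc] at htot
  have h3 : (X.image φ).card * Nat.card M =
      (Nat.card (Cfsg.sigmaCore M) - 1) * M.index * Nat.card M := by
    rw [mul_assoc, M.index_mul_card, mul_comm _ (Nat.card G)]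
    exact_mod_cast htot
  exact Nat.eq_of_mul_eq_mul_right Nat.card_pos h3

end CfsgLib.CFun.Tilde
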