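import Cfsg.Agent.Lib.CFun.OddLineTools

/-!
# Nonregular `τ₃`-lines

Let `R` be a line at a prime of `τ₃(M)` with fixed points on `M_σ` and `L` a maximal subgroup
over `N(R)`. Then no line of a complement of `M_σ` through `R` moves `R`.
-/

set_option autoImplicit false
set_option linter.style.haveILetI false
set_option linter.unusedSectionVars false

open Subgroup
open scoped commutatorElement
open CfsgLib.Coprime (conjBy conjBy_conjBy conjBy_one mem_conjBy conj_mem_conjBy IsSylowIn IsHallIn)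

namespace CfsgLib.CFun.TauThree

open CfsgLib.CFun.TauTwo CfsgLib.CFun.TauOne CfsgLib.CFun.Disjoint CfsgLib.CFun.ElemCent
open CfsgLib.CFun.Lines

universe u

variable {G : Type u} [Group G] [Finite G]

/-- A nonregular `τ₃`-line `R` of `M` and a maximal subgroup over its normalizer. -/
structure Setup (M L R : Subgroup G) (r : ℕ) : Prop where
  coatom : IsCoatom M
  coatomL : IsCoatom L
  tau : r ∈ Cfsg.tau3 M
  cardR : Nat.card R = r
  leR : R ≤ M
  fixed : Cfsg.sigmaCore M ⊓ centralizer (R : Set G) ≠ ⊥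
  normR : normalizer (R : Set G) ≤ L

variable (hG : Cfsg.IsMinSimpleOddOrder G)
include hG

/-- Two fixed lines of a common `τ₁`-line give an element centralizing it in the other group. -/
theorem exists_cross {M L : Subgroup G} (hM : IsCoatom M) (hL : IsCoatom L) {p : ℕ}
    [hp : Fact p.Prime] (hpM : p ∈ Cfsg.tau1 M) (hpL : p ∈ Cfsg.tau1 L) {P : Subgroup G}
    (hPM : P ≤ M) (hPL : P ≤ L) (hPc : Nat.card P = p) {q t : ℕ} [hq : Fact q.Prime]
    [ht : Fact t.Prime] {X Y : Subgroup G} (hXc : Nat.card X = q) (hYc : Nat.card Y = t)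
    (hX : X ≤ Cfsg.sigmaCore M ⊓ centralizer (P : Set G))
    (hY : Y ≤ Cfsg.sigmaCore L ⊓ centralizer (P : Set G)) :
    ∃ (w : ℕ) (z : G), w.Prime ∧ z ^ w = 1 ∧ z ≠ 1 ∧ z ∈ centralizer (P : Set G) ∧
      ((w ∈ Cfsg.sigma L ∧ z ∈ M) ∨ (w ∈ Cfsg.sigma M ∧ z ∈ L)) := by
  obtain ⟨L₁, hL₁, hNP⟩ := exists_coatom_normalizer hG (line_ne_bot hPc)
    (ms_isPGroup_ne_top hG (IsPGroup.of_card (n := 1) (by rw [hPc, pow_one])))
  have hCP : centralizer (P : Set G) ≤ L₁ :=
    (CfsgLib.Coprime.centralizer_le_normalizer_self _).trans hNP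
  have hqM : q ∈ Cfsg.sigma M :=
    (sigmaCore_hall hG hM).1.2.1 q hq.out (hXc ▸ card_dvd_of_le (hX.trans inf_le_left))
  have htL : t ∈ Cfsg.sigma L :=
    (sigmaCore_hall hG hL).1.2.1 t ht.out (hYc ▸ card_dvd_of_le (hY.trans inf_le_left))
  have hrank : ∀ {N : Subgroup G} {w : ℕ} [Fact w.Prime] {W : Subgroup G}, IsCoatom N →
      p ∈ Cfsg.tau1 N → P ≤ N → Nat.card W = w → w ∈ Cfsg.sigma N →
      W ≤ Cfsg.sigmaCore N ⊓ centralizer (P : Set G) → Cfsg.PRankLE w 1 L₁ := by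
    intro N w _ W hN hpN hPN hWc hwN hW
    have hnc := rank_one_not_conj hG hN hpN.2.1 hpN.2.2.2.2 hPc hNP
    have hpσ := normalizer_sigma_of_fixed hG hN hpN.2.1 hpN.2.2.2.2 hPN hPc hWc hW hL₁ hNP
    have hWC : W ≤ centralizer (P : Set G) := hW.trans inf_le_right
    have hwσ : w ∉ Cfsg.sigma L₁ := not_sigma hG hN hL₁ hnc hwN
    rcases tau_or_rank_one hG hL₁ Fact.out hwσ with hwt | hw1
    swap
    · exact hw1
    exfalso
    obtain ⟨F, hF, hWF⟩ := exists_complement hG hL₁ (hWC.trans hCP) fun s hs hsd => by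
      rw [hWc] at hsd; rw [(Nat.prime_dvd_prime_iff_eq hs (Fact.out : w.Prime)).1 hsd]; exact hwσ
    obtain ⟨B, hBF, hBe, hB2⟩ := Compl.exists_elementary_compl hG hL₁ hF hwt
    obtain ⟨⟨-, hsub⟩, -, huniq⟩ := Cfsg.Agent.S1418.result hG L₁ hL₁ F hF w hwt B ⟨hBF, hBe, hB2⟩
    have hP : P ≤ Cfsg.sigmaCore L₁ ⊓ centralizer (W : Set G) := le_inf
      (isPGroup_le_sigmaCore hG hL₁ hpσ (IsPGroup.of_card (n := 1) (by rw [hPc, pow_one]))
        (le_normalizer.trans hNP)) (le_centralizer_iff.1 hWC)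
    have hCW := (huniq W (hsub W hWF hWc) hWc
      fun e => line_ne_bot hPc (le_bot_iff.1 (e ▸ hP))).1
    exact hnc.ne ((unique_of_fixed hG hN hpN hPN hPc hWc hW).2 L₁ hL₁ hCW)
  have hqr := hrank hM hpM hPM hXc hqM hX
  have htr := hrank hL hpL hPL hYc htL hY
  have hCsol : Group.IsSolvable ↥(centralizer (P : Set G)) :=
    ms_solvable hG (ms_ne_top_of_le hG hL₁ hCP)
  obtain ⟨K, hKh, hXK⟩ := IsHallIn.exists_ge (π := {q, t}) hCsol (hX.trans inf_le_right)
    fun w hw hwd => by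
      rw [hXc] at hwd
      exact Or.inl ((Nat.prime_dvd_prime_iff_eq hw hq.out).1 hwd)
  obtain ⟨c, hc, hcY⟩ := hKh.exists_conj_le hCsol (hY.trans inf_le_right) fun w hw hwd => by
    rw [hYc] at hwd
    exact Or.inr ((Nat.prime_dvd_prime_iff_eq hw ht.out).1 hwd)
  have hKC : K ≤ centralizer (P : Set G) := hKh.1
  have hKL₁ : K ≤ L₁ := hKC.trans hCP
  obtain ⟨x, hx, hx1, hxq, hxX⟩ := exists_gen hXc
  obtain ⟨y, hy, hy1, hyt, hyY⟩ := exists_gen hYc
  haveI := ms_solvable hG (ms_ne_top_of_le hG hL₁ hKL₁)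
  haveI : Nontrivial K := ⟨⟨⟨x, hXK hx⟩, 1, fun e => hx1 (congrArg Subtype.val e :)⟩⟩
  obtain ⟨N₀, w, hN₀n, hN₀1, hw, hN₀p, -⟩ :=
    CfsgLib.Coprime.exists_normal_pGroup_of_isSolvable (G := K)
  haveI : Fact w.Prime := ⟨hw⟩
  set N := N₀.map K.subtype with hN
  have hNp : IsPGroup w N := hN₀p.map _
  have hNK : N ≤ K := map_subtype_le _
  have hN1 : N ≠ ⊥ := fun e => hN₀1 ((map_eq_bot_iff_of_injective _ K.subtype_injective).1 e)
  have hKN : K ≤ normalizer (N : Set G) := by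
    haveI : (N.subgroupOf K).Normal := by
      rw [hN, subgroupOf, comap_map_eq_self_of_injective K.subtype_injective]; exact hN₀n
    exact (normal_subgroupOf_iff_le_normalizer hNK).1 inferInstance
  have hy' : c * y * c⁻¹ ∈ K := hcY (conj_mem_conjBy hy)
  rcases hKh.2.1 w hw (mem_of_isPGroup hNp hN1 hNK) with rfl | rfl
  · have h1 := normalizer_line_of_normal hG hKL₁ hqr hNK hKN hNp hN1 hXK hXc
    have h2 := normalizer_le_of_unique hG hM (unique_of_fixed hG hM hpM hPM hPc hXc hX)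
    exact ⟨t, c * y * c⁻¹, ht.out, by rw [conj_pow, hyt, mul_one, mul_inv_cancel],
      fun e => hy1 (by simpa using e), hKC hy', Or.inl ⟨htL, h2 (h1 hy')⟩⟩
  · have h1 := normalizer_line_of_normal hG hKL₁ htr hNK hKN hNp hN1 hcY
      (by rw [CfsgLib.Coprime.card_conjBy, hYc])
    have h2 := normalizer_le_of_unique hG hL (unique_of_fixed hG hL hpL hPL hPc hYc hY)
    have h3 : c⁻¹ * x * c ∈ normalizer (Y : Set G) := by
      have h4 : conjBy c⁻¹ (conjBy c Y) = Y := by rw [conjBy_conjBy, inv_mul_cancel, conjBy_one]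
      rw [← h4, normalizer_conjBy, mem_conjBy]
      simpa [mul_assoc] using h1 (hXK hx)
    refine ⟨q, c⁻¹ * x * c, hq.out, ?_, fun e => hx1 ?_,
      mul_mem (mul_mem (inv_mem hc) ((hX.trans inf_le_right) hx)) hc, Or.inr ⟨hqM, h2 h3⟩⟩
    · rw [show c⁻¹ * x * c = c⁻¹ * x * c⁻¹⁻¹ by group, conj_pow, hxq, mul_one, mul_inv_cancel]
    · simpa [mul_assoc] using congrArg (fun z => c * z * c⁻¹) e

/-- An element centralizing a line of rank one has a conjugate with this property in a complement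
through the line. -/
theorem conj_into_compl {M E : Subgroup G} (hM : IsCoatom M)
    (hE : Cfsg.IsComplIn E (Cfsg.sigmaCore M) M) {p : ℕ} [hp : Fact p.Prime]
    (hpσ : p ∉ Cfsg.sigma M) (hr1 : Cfsg.PRankLE p 1 M) {P : Subgroup G} (hPE : P ≤ E)
    (hPc : Nat.card P = p) {w : ℕ} [hw : Fact w.Prime] (hwσ : w ∉ Cfsg.sigma M) {z : G}
    (hzM : z ∈ M) (hzP : z ∈ centralizer (P : Set G)) (hzw : z ^ w = 1) (hz1 : z ≠ 1) :
    ∃ z' ∈ E, z' ∈ centralizer (P : Set G) ∧ z' ^ w = 1 ∧ z' ≠ 1 := by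
  have hPM : P ≤ M := hPE.trans hE.1
  have hKP : zpowers z ≤ normalizer (P : Set G) :=
    (zpowers_le.2 hzP).trans (CfsgLib.Coprime.centralizer_le_normalizer_self _)
  obtain ⟨m, hm, hmK⟩ := (compl_isHall hG hM hE).exists_conj_le (ms_solvable hG hM.1)
    (sup_le (zpowers_le.2 hzM) hPM) fun r hr hrd => by
      have h1 := hrd.trans (CfsgLib.Coprime.card_sup_dvd_of_le_normalizer hKP)
      rw [Nat.card_zpowers, orderOf_eq_prime hzw hz1, hPc] at h1
      rcases hr.dvd_mul.1 h1 with h2 | h2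
      · rw [(Nat.prime_dvd_prime_iff_eq hr hw.out).1 h2]; exact hwσ
      · rw [(Nat.prime_dvd_prime_iff_eq hr hp.out).1 h2]; exact hpσ
  have hEsol : Group.IsSolvable E := Compl.compl_solvable hG hM hE
  obtain ⟨T₀, hT₀h, hPT₀⟩ := IsHallIn.exists_ge (π := {p}) hEsol hPE fun r hr hrd => by
    rw [hPc] at hrd; exact (Nat.prime_dvd_prime_iff_eq hr hp.out).1 hrd
  obtain ⟨e, he, heT⟩ := hT₀h.exists_conj_le hEsol ((map_mono le_sup_right).trans hmK)
    fun r hr hrd => by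
      change r ∣ Nat.card ↥(conjBy m P) at hrd
      rw [CfsgLib.Coprime.card_conjBy, hPc] at hrd
      exact (Nat.prime_dvd_prime_iff_eq hr hp.out).1 hrd
  have hT₀p : IsPGroup p T₀ := IsPGroup.of_card (Nat.eq_prime_pow_of_unique_prime_dvd
    Nat.card_pos.ne' fun {r} hr hrd => hT₀h.2.1 r hr hrd)
  have hT₀c : IsCyclic T₀ := Compl.isCyclic_of_rank_one
    (ms_ne_two hG ((dvd_of_eq hPc.symm).trans (card_subgroup_dvd_card P))) hT₀p
    (RankTwoTower.pRankLE_of_injective (f := inclusion (hT₀h.1.trans hE.1))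
      (inclusion_injective _) hr1)
  set g := e * m with hg
  have hgP : conjBy g P = P := by
    have hc : Nat.card ↥(conjBy g P) = p := by rw [CfsgLib.Coprime.card_conjBy, hPc]
    refine eq_of_le_of_card_ge (eq_of_cyclic (q := p) hT₀c hPT₀
      (by rw [hg, ← conjBy_conjBy]; exact heT)
      (fun y hy => orderOf_dvd_iff_pow_eq_one.1 (hPc ▸ orderOf_dvd_natCard P hy))
      (fun y hy => orderOf_dvd_iff_pow_eq_one.1 (hc ▸ orderOf_dvd_natCard _ hy))
      (line_ne_bot hPc)) (by rw [hc, hPc])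
  refine ⟨g * z * g⁻¹, ?_, mem_centralizer_iff.2 fun x hx => ?_,
    by rw [conj_pow, hzw, mul_one, mul_inv_cancel], fun e1 => hz1 (by simpa using e1)⟩
  · have h1 : m * z * m⁻¹ ∈ E := hmK (conj_mem_conjBy (mem_sup_left (mem_zpowers z)))
    rw [hg, show e * m * z * (e * m)⁻¹ = e * (m * z * m⁻¹) * e⁻¹ by group]
    exact mul_mem (mul_mem he h1) (inv_mem he)
  · rw [← hgP] at hx
    obtain ⟨x', hx', rfl⟩ := hx
    show g * x' * g⁻¹ * (g * z * g⁻¹) = g * z * g⁻¹ * (g * x' * g⁻¹)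
    rw [show g * x' * g⁻¹ * (g * z * g⁻¹) = g * (x' * z) * g⁻¹ by group,
      mem_centralizer_iff.1 hzP x' hx']
    group

variable {M L R E : Subgroup G} {r : ℕ} [hr : Fact r.Prime]

theorem Setup.nconj (h : Setup M L R r) : NotConj M L :=
  rank_one_not_conj hG h.coatom h.tau.2.1 h.tau.2.2.2 h.cardR h.normR

theorem Setup.sigma_L (h : Setup M L R r) : r ∈ Cfsg.sigma L := by
  obtain ⟨q, X, hq, hX, hXc⟩ := exists_prime_line h.fixed
  haveI : Fact q.Prime := ⟨hq⟩
  exact normalizer_sigma_of_fixed hG h.coatom h.tau.2.1 h.tau.2.2.2 h.leR h.cardR hXc hX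
    h.coatomL h.normR

theorem Setup.le_sigmaCore (h : Setup M L R r) : R ≤ Cfsg.sigmaCore L :=
  isPGroup_le_sigmaCore hG h.coatomL (h.sigma_L hG)
    (IsPGroup.of_card (n := 1) (by rw [h.cardR, pow_one])) (le_normalizer.trans h.normR)

theorem Setup.inter_eq (h : Setup M L R r) :
    Cfsg.sigmaCore M ⊓ L = Cfsg.sigmaCore M ⊓ centralizer (R : Set G) := by
  refine le_antisymm (le_inf inf_le_left (le_centralizer_iff.1 ?_)) (le_inf inf_le_left
    (inf_le_right.trans ((CfsgLib.Coprime.centralizer_le_normalizer_self _).trans h.normR)))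
  exact centralizes_of_sigma hG h.coatom h.coatomL (h.nconj hG) h.tau.2.1 (h.sigma_L hG)
    (IsPGroup.of_card (n := 1) (by rw [h.cardR, pow_one])) h.leR (le_normalizer.trans h.normR)

theorem Setup.compl_le (h : Setup M L R r) (hE : Cfsg.IsComplIn E (Cfsg.sigmaCore M) M)
    (hRE : R ≤ E) : E ≤ L :=
  (tau3_line hG h.coatom hE h.tau hRE h.cardR).2.trans h.normR

/-- `τ₂(M)` is empty. -/
theorem Setup.not_tau2 (h : Setup M L R r) {t : ℕ} (ht : t ∈ Cfsg.tau2 M) : False := by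
  have hM := h.coatom
  obtain ⟨E, hE, hRE⟩ := exists_complement hG hM h.leR fun s hs hsd => by
    rw [h.cardR] at hsd; rw [(Nat.prime_dvd_prime_iff_eq hs hr.out).1 hsd]; exact h.tau.2.1
  haveI : Fact t.Prime := ⟨ht.1⟩
  obtain ⟨A, hAE, hAe, hA2⟩ := Compl.exists_elementary_compl hG hM hE ht
  have hAM : A ≤ M := hAE.trans hE.1
  have hAL : A ≤ L := hAE.trans (h.compl_le hG hE hRE)
  by_cases htL : t ∈ Cfsg.sigma L
  · refine h.fixed (le_bot_iff.1 (le_trans (le_inf inf_le_left ?_)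
      (tau_fixed_eq_bot hG hM ht hAM hAe hA2).le))
    refine (h.inter_eq hG).ge.trans (le_centralizer_iff.1 ?_)
    exact centralizes_of_sigma hG hM h.coatomL (h.nconj hG) (mem_tau_iff.1 ht).1 htL
      (isPGroup_of_elementary hAe) hAM hAL
  · have htL' : t ∈ Cfsg.tau2 L := by
      rcases tau_or_rank_one hG h.coatomL ht.1 htL with h2 | h1
      · exact h2
      · exact absurd h1 (not_pRankLE_of_elementary hAL hAe
          (by rw [hA2]; exact Nat.pow_lt_pow_right (Fact.out : t.Prime).one_lt one_lt_two))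
    have hinf := tau_inf_eq_bot hG h.coatomL htL' hAL hAe hA2 hM (h.nconj hG).ne.symm hAM
    exact line_ne_bot h.cardR (le_bot_iff.1 (hinf ▸ le_inf (h.le_sigmaCore hG) h.leR))

theorem Setup.rank_one (h : Setup M L R r) {t : ℕ} (ht : t.Prime) (htσ : t ∉ Cfsg.sigma M) :
    Cfsg.PRankLE t 1 M :=
  (tau_or_rank_one hG h.coatom ht htσ).resolve_left fun h2 => h.not_tau2 hG h2

/-- Lines of `C(R) ∩ M_σ`. -/
theorem Setup.line (h : Setup M L R r) {q : ℕ} [hq : Fact q.Prime] {X : Subgroup G}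
    (hXc : Nat.card X = q) (hX : X ≤ Cfsg.sigmaCore M ⊓ L) :
    q ∈ Cfsg.sigma M ∧ q ∉ Cfsg.sigma L ∧ Cfsg.PRankLE q 1 L ∧ normalizer (X : Set G) ≤ M := by
  have hM := h.coatom
  have hL := h.coatomL
  have hnc := h.nconj hG
  have hqM : q ∈ Cfsg.sigma M :=
    (sigmaCore_hall hG hM).1.2.1 q hq.out (hXc ▸ card_dvd_of_le (hX.trans inf_le_left))
  have hqL : q ∉ Cfsg.sigma L := not_sigma hG hM hL hnc hqM
  have hRX : R ≤ Cfsg.sigmaCore L ⊓ centralizer (X : Set G) :=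
    le_inf (h.le_sigmaCore hG) (le_centralizer_iff.1 ((hX.trans (h.inter_eq hG).le).trans inf_le_right))
  have hq1 : Cfsg.PRankLE q 1 L := by
    rcases tau_or_rank_one hG hL hq.out hqL with hqt | hq1
    swap
    · exact hq1
    exfalso
    obtain ⟨F, hF, hXF⟩ := exists_complement hG hL (hX.trans inf_le_right) fun s hs hsd => by
      rw [hXc] at hsd; rw [(Nat.prime_dvd_prime_iff_eq hs hq.out).1 hsd]; exact hqL
    obtain ⟨B, hBF, hBe, hB2⟩ := Compl.exists_elementary_compl hG hL hF hqt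
    obtain ⟨⟨-, hsub⟩, -, huniq⟩ := Cfsg.Agent.S1418.result hG L hL F hF q hqt B ⟨hBF, hBe, hB2⟩
    obtain ⟨hCL, hun⟩ := huniq X (hsub X hXF hXc) hXc
      fun e => line_ne_bot h.cardR (le_bot_iff.1 (e ▸ hRX))
    obtain ⟨a, ha, ha1, -, haX⟩ := exists_gen hXc
    rw [← haX, centralizer_zpowers] at hCL
    simp only [← haX, centralizer_zpowers] at hun
    have haM : ¬ centralizer ({a} : Set G) ≤ M := fun hle => hnc.ne (hun M hM hle).symm
    obtain ⟨N, hN, haN, -, -, -, hD, -⟩ := exists_data hG hM (hX ha).1 ha1 haM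
    have hNL : N = L := hun N hN haN
    subst hNL
    exact line_ne_bot h.cardR (le_bot_iff.1 (hD.2.2.1 ▸
      le_inf (le_inf h.leR (le_normalizer.trans h.normR)) (h.le_sigmaCore hG)))
  exact ⟨hqM, hqL, hq1, normalizer_le_of_fixed hG hL hqL hq1 (hX.trans inf_le_right) hXc h.cardR
    hRX hM ((hX.trans inf_le_left).trans (map_subtype_le _)) hqM⟩

/-- No line of a complement moves `R`. -/
theorem Setup.no_prime_mover (h : Setup M L R r) (hE : Cfsg.IsComplIn E (Cfsg.sigmaCore M) M)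
    (hRE : R ≤ E) {p : ℕ} [hp : Fact p.Prime] {P : Subgroup G} (hPE : P ≤ E)
    (hPc : Nat.card P = p) : P ≤ centralizer (R : Set G) := by
  by_contra hmove
  have hM := h.coatom
  have hL := h.coatomL
  have hnc := h.nconj hG
  have hPM : P ≤ M := hPE.trans hE.1
  have hEL := h.compl_le hG hE hRE
  have hPL : P ≤ L := hPE.trans hEL
  have hPp : IsPGroup p P := IsPGroup.of_card (n := 1) (by rw [hPc, pow_one])
  have hpσ : p ∉ Cfsg.sigma M := Compl.compl_not_sigma hG hM hE (hPc ▸ card_dvd_of_le hPE)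
  have hp1 := h.rank_one hG hp.out hpσ
  obtain ⟨hRd, hER⟩ := tau3_line hG hM hE h.tau hRE h.cardR
  have hPR : P ≤ normalizer (R : Set G) := hPE.trans hER
  have hpτ : p ∈ Cfsg.tau1 M := by
    refine ⟨hp.out, hpσ, hPc ▸ card_dvd_of_le hPM, fun hd => hmove fun x hx => ?_, hp1⟩
    have hPd := (tau3_line hG hM hE ⟨hp.out, hpσ, hd, hp1⟩ hPE hPc).1
    exact mem_centralizer_iff.2 fun y hy => derived_commute_compl hG hM hE (hRd hy) (hPd hx)
  have hpr : p ≠ r := fun e => hpτ.2.2.2.1 (e ▸ h.tau.2.2.1)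
  have hK : Cfsg.sigmaCore M ⊓ centralizer (P : Set G) ≤ centralizer (R : Set G) → False := by
    intro hfix
    have h1 := le_normalizer_of_centralized hE hER
      (sigmaCore_le_centralizer_of_mover hG hM hpσ h.tau.2.1 hpr hPM hPc h.leR h.cardR hPR hmove
        hfix)
    exact hnc.ne ((hM.le_iff.1 (h1.trans h.normR)).resolve_left hL.1)
  have hKL : Cfsg.sigmaCore M ⊓ centralizer (P : Set G) ≤ L → False := fun hle =>
    hK (((le_inf inf_le_left hle).trans (h.inter_eq hG).le).trans inf_le_right)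
  obtain ⟨q₀, X₀, hq₀, hX₀, hX₀c⟩ := exists_prime_line (H := Cfsg.sigmaCore M ⊓ centralizer (P : Set G))
    fun e => hK (e ▸ bot_le)
  haveI : Fact q₀.Prime := ⟨hq₀⟩
  by_cases hpL : p ∈ Cfsg.sigma L
  · exact hKL (inf_le_right.trans ((CfsgLib.Coprime.centralizer_le_normalizer_self _).trans
      (normalizer_le_of_fixed hG hM hpσ hp1 hPM hPc hX₀c hX₀ hL hPL hpL)))
  -- no line of `C(P)` in `M_σ ∩ L` is at a prime of `τ₁(L)`
  set C := Cfsg.sigmaCore M ⊓ L with hC
  have hCR : C ≤ centralizer (R : Set G) := (h.inter_eq hG).le.trans inf_le_right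
  have hexcl : ∀ {q : ℕ} [Fact q.Prime] {X : Subgroup G}, Nat.card X = q → X ≤ C →
      X ≤ centralizer (P : Set G) → q ∈ Cfsg.tau1 L → False := by
    intro q _ X hXc hXC hXP hq1
    refine hmove (le_centralizer_iff.1 fun x hx => ?_)
    exact fixed_le_commuting hG hL hq1 (hXC.trans inf_le_right) hXc hp.out hPc hPL
      (le_centralizer_iff.1 hXP) hpL (mem_inf.2 ⟨h.le_sigmaCore hG hx,
        le_centralizer_iff.1 (hXC.trans hCR) hx⟩)
  -- a line of `M_σ ∩ L` at a prime of `τ₃(L)` normalized by `P`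
  have hPC : P ≤ normalizer (C : Set G) := CfsgLib.Coprime.inf_le_normalizer
    (hPM.trans (sigmaCore_normal hG M)) (hPL.trans le_normalizer)
  have hcop : (Nat.card P).Coprime (Nat.card C) := by
    rw [hPc]
    exact hp.out.coprime_iff_not_dvd.2 fun hd =>
      not_dvd_sigmaCore hG hM hpσ (hd.trans (card_dvd_of_le inf_le_left))
  obtain ⟨q, X, hq, hXC, hXc, hXP, hq3⟩ : ∃ (q : ℕ) (X : Subgroup G), q.Prime ∧ X ≤ C ∧
      Nat.card X = q ∧ P ≤ normalizer (X : Set G) ∧ q ∈ Cfsg.tau3 L := by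
    by_cases hC1 : C ⊓ centralizer (P : Set G) = ⊥
    · have hCd : C ≤ ⁅L, L⁆ := by
        have h1 := CfsgLib.Coprime.commutator_sup_centralizer hPC hcop
          (Or.inl (CfsgLib.Coprime.isSolvable_of_isNilpotent hPp.isNilpotent))
        rw [hC1, sup_bot_eq] at h1
        exact h1.ge.trans (commutator_mono inf_le_right hPL)
      have hC0 : C ≠ ⊥ := fun e => h.fixed ((h.inter_eq hG).symm.trans e)
      obtain ⟨q, hq, hqd⟩ := Nat.exists_prime_and_dvd fun e => hC0 (card_eq_one.1 e)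
      haveI : Fact q.Prime := ⟨hq⟩
      obtain ⟨Q, hQ, hPQ⟩ := CfsgLib.Coprime.exists_invariant_sylow hPC hcop
        (Or.inl (CfsgLib.Coprime.isSolvable_of_isNilpotent hPp.isNilpotent)) q
      obtain ⟨X, hXQ, hXc⟩ := exists_line_of_dvd (H := Q) (t := q) (by
        by_contra hnd
        have h1 := hQ.toSylow.not_dvd_index
        rw [← card_mul_index (hQ.toSylow : Subgroup C)] at hqd
        refine (hq.dvd_mul.1 hqd).elim (fun h2 => hnd ?_) h1
        rwa [← hQ.map_toSylow, card_map_of_injective C.subtype_injective])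
      obtain ⟨-, hqL, hq1, -⟩ := h.line hG hXc (hXQ.trans hQ.1)
      have hQc : IsCyclic Q := Compl.isCyclic_of_rank_one
        (ms_ne_two hG (hqd.trans (card_subgroup_dvd_card C))) hQ.isPGroup
        (RankTwoTower.pRankLE_of_injective (f := inclusion (hQ.1.trans inf_le_right))
          (inclusion_injective _) hq1)
      exact ⟨q, X, hq, hXQ.trans hQ.1, hXc,
        hPQ.trans (normalizer_le_normalizer_of_cyclic hQc hXQ), hq, hqL,
        hXc ▸ card_dvd_of_le ((hXQ.trans hQ.1).trans hCd), hq1⟩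
    · obtain ⟨q, X, hq, hX, hXc⟩ := exists_prime_line hC1
      haveI : Fact q.Prime := ⟨hq⟩
      obtain ⟨-, hqL, hq1, -⟩ := h.line hG hXc (hX.trans inf_le_left)
      refine ⟨q, X, hq, hX.trans inf_le_left, hXc, (le_centralizer_iff.1
        (hX.trans inf_le_right)).trans (CfsgLib.Coprime.centralizer_le_normalizer_self _),
        hq, hqL, ?_, hq1⟩
      by_contra hnd
      exact hexcl hXc (hX.trans inf_le_left) (hX.trans inf_le_right)
        ⟨hq, hqL, hXc ▸ card_dvd_of_le ((hX.trans inf_le_left).trans inf_le_right), hnd, hq1⟩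
  haveI : Fact q.Prime := ⟨hq⟩
  obtain ⟨hqM, hqL, -, hNX⟩ := h.line hG hXc hXC
  have hXL : X ≤ L := hXC.trans inf_le_right
  obtain ⟨F, hF, hKF⟩ := exists_complement hG hL (sup_le hPL hXL) fun s hs hsd => by
    have h1 := hsd.trans (CfsgLib.Coprime.card_sup_dvd_of_le_normalizer hXP)
    rw [hPc, hXc] at h1
    rcases hs.dvd_mul.1 h1 with h2 | h2
    · rw [(Nat.prime_dvd_prime_iff_eq hs hp.out).1 h2]; exact hpL
    · rw [(Nat.prime_dvd_prime_iff_eq hs hq).1 h2]; exact hqL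
  have hPF : P ≤ F := le_sup_left.trans hKF
  have hXF : X ≤ F := le_sup_right.trans hKF
  obtain ⟨hXd, hFX⟩ := tau3_line hG hL hF hq3 hXF hXc
  have hFM : F ≤ M := hFX.trans hNX
  have hnτL : ∀ {w : ℕ}, w ∈ Cfsg.tau2 L → w ∈ Cfsg.sigma M := by
    intro w hw
    haveI : Fact w.Prime := ⟨hw.1⟩
    by_contra hwσ
    obtain ⟨B, hBF, hBe, hB2⟩ := Compl.exists_elementary_compl hG hL hF hw
    exact not_pRankLE_of_elementary (hBF.trans hFM) hBe
      (by rw [hB2]; exact Nat.pow_lt_pow_right (Fact.out : w.Prime).one_lt one_lt_two)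
      (h.rank_one hG hw.1 hwσ)
  have hpτL : p ∈ Cfsg.tau1 L := by
    refine ⟨hp.out, hpL, hPc ▸ card_dvd_of_le hPL, fun hd => ?_,
      (tau_or_rank_one hG hL hp.out hpL).resolve_left fun h2 => hpσ (hnτL h2)⟩
    have h1 := hd.trans (card_dvd_of_le (Compl.derived_le_sup hG hL hF))
    rw [sup_comm] at h1
    rcases hp.out.dvd_mul.1 (h1.trans (CfsgLib.Coprime.card_sup_dvd_of_le_normalizer
      ((commutator_le_self F).trans (hF.1.trans (sigmaCore_normal hG L))))) with h2 | h2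
    · exact hpτ.2.2.2.1 (h2.trans (card_dvd_of_le (commutator_mono hFM hFM)))
    · exact not_dvd_sigmaCore hG hL hpL h2
  -- `P` moves `X`
  have hXmove : ¬ P ≤ centralizer (X : Set G) := by
    intro hPcX
    refine tau3_line_not_central hG hL hF hq3 hXF hXc
      (TauOne.le_of_prime_power_elements fun w hw f hf hfn => ?_)
    haveI : Fact w.Prime := ⟨hw⟩
    by_cases hf1 : f = 1
    · subst hf1; exact one_mem _
    obtain ⟨hfp, hwf, W, hWf, hWc⟩ := exists_line_pow hfn hf1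
    have hwF : w ∣ Nat.card F := hwf.trans (orderOf_dvd_natCard _ hf)
    have hwL : w ∉ Cfsg.sigma L := Compl.compl_not_sigma hG hL hF hwF
    have hσC : w ∈ Cfsg.sigma M → ∀ g ∈ M, g ∈ L → IsPGroup w (zpowers g) → g ∈ C :=
      fun hwM g hgM hgL hg => mem_inf.2
        ⟨isPGroup_le_sigmaCore hG hM hwM hg (zpowers_le.2 hgM) (mem_zpowers g), hgL⟩
    have hw1 : Cfsg.PRankLE w 1 L := by
      rcases tau_or_rank_one hG hL hw hwL with h2 | h1
      · exact (h.line hG hWc (hWf.trans (zpowers_le.2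
          (hσC (hnτL h2) f (hFM hf) (hF.1 hf) hfp)))).2.2.1
      · exact h1
    obtain ⟨n, hn⟩ := id hfn
    by_cases hwd : w ∣ Nat.card ↥(⁅L, L⁆ : Subgroup G)
    · exact mem_centralizer_iff.2 fun x hx => derived_commute_compl hG hL hF (hXd hx)
        (Compl.mem_derived_of_tau3 hG hL hF ⟨hw, hwL, hwd, hw1⟩ hf hn)
    have hwτ : w ∈ Cfsg.tau1 L := ⟨hw, hwL, hwF.trans (card_dvd_of_le hF.1), hwd, hw1⟩
    obtain ⟨u, hu, huP⟩ := tau1_conj_commute hG hL hF hpτL hPF hPc hf fun s hs hsd => by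
      rw [(Nat.prime_dvd_prime_iff_eq hs hw).1
        (hs.dvd_of_dvd_pow (hsd.trans (orderOf_dvd_of_pow_eq_one hn)))]
      exact hwτ
    set f' := u * f * u⁻¹ with hf'
    have hf'F : f' ∈ F := mul_mem (mul_mem hu hf) (inv_mem hu)
    have hf'n : ∃ n : ℕ, f' ^ w ^ n = 1 := ⟨n, by rw [hf', conj_pow, hn, mul_one, mul_inv_cancel]⟩
    have hf'1 : f' ≠ 1 := fun e => hf1 (by simpa [hf'] using e)
    have hwM : w ∉ Cfsg.sigma M := fun hwM => by
      obtain ⟨hp', -, U, hU, hUc⟩ := exists_line_pow hf'n hf'1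
      exact hexcl hUc (hU.trans (zpowers_le.2 (hσC hwM f' (hFM hf'F) (hF.1 hf'F) hp')))
        (hU.trans (zpowers_le.2 huP)) hwτ
    have h1 := fixed_le_element hG hM hpτ hPM hPc (hFM hf'F) hf'n huP hwM (h.rank_one hG hw hwM)
    refine mem_centralizer_iff.2 fun x hx => ?_
    have h2 : u * x * u⁻¹ * f' = f' * (u * x * u⁻¹) := by
      have hx' : u * x * u⁻¹ ∈ X := (mem_normalizer_iff.1 (hFX hu) x).1 hx
      exact mem_centralizer_singleton_iff.1
        (h1 (mem_inf.2 ⟨(hXC hx').1, le_centralizer_iff.1 hPcX hx'⟩))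
    have h3 := congrArg (fun y => u⁻¹ * y * u) h2
    simpa [hf', mul_assoc] using h3
  -- fixed points on `L_σ`
  obtain ⟨t, Y, ht, hY, hYc⟩ := exists_prime_line (H := Cfsg.sigmaCore L ⊓ centralizer (P : Set G)) (by
    intro e
    have h1 := le_normalizer_of_centralized hF hFX
      (sigmaCore_le_centralizer_of_mover hG hL hpL hqL (fun e' => hpσ (e'.symm ▸ hqM)) hPL hPc hXL
        hXc hXP hXmove (e ▸ bot_le))
    exact hnc.symm.ne ((hL.le_iff.1 (h1.trans hNX)).resolve_left hM.1))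
  haveI : Fact t.Prime := ⟨ht⟩
  have htL : t ∈ Cfsg.sigma L :=
    (sigmaCore_hall hG hL).1.2.1 t ht (hYc ▸ card_dvd_of_le (hY.trans inf_le_left))
  -- an element of `σ(L)` centralizing `P` in `M ⊓ L`
  have hfin : ∀ {w : ℕ} [Fact w.Prime] {W : Subgroup G}, Nat.card W = w → w ∈ Cfsg.sigma L →
      W ≤ Cfsg.sigmaCore L ⊓ centralizer (P : Set G) → W ≤ M → False := by
    intro w _ W hWc hwL hW hWM
    refine hKL ((fixed_le_commuting hG hM hpτ hPM hPc Fact.out hWc hWM (hW.trans inf_le_right)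
      (fun hwM => not_sigma hG hM hL hnc hwM hwL)).trans ?_)
    exact (unique_of_fixed hG hL hpτL hPL hPc hWc hW).1
  obtain ⟨w, z, hw, hzw, hz1, hzP, hcase⟩ := exists_cross hG hM hL hpτ hpτL hPM hPL hPc hX₀c hYc hX₀ hY
  haveI : Fact w.Prime := ⟨hw⟩
  have hzc : ∀ {z' : G}, z' ^ w = 1 → z' ≠ 1 → Nat.card (zpowers z') = w := fun h1 h2 => by
    rw [Nat.card_zpowers, orderOf_eq_prime h1 h2]
  rcases hcase with ⟨hwL, hzM⟩ | ⟨hwM, hzL⟩
  · obtain ⟨z', hz'E, hz'P, hz'w, hz'1⟩ := conj_into_compl hG hM hE hpσ hp1 hPE hPc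
      (fun hwM => not_sigma hG hM hL hnc hwM hwL) hzM hzP hzw hz1
    exact hfin (hzc hz'w hz'1) hwL (le_inf (isPGroup_le_sigmaCore hG hL hwL
      (IsPGroup.of_card (n := 1) (by rw [hzc hz'w hz'1, pow_one])) (zpowers_le.2 (hEL hz'E)))
      (zpowers_le.2 hz'P)) (zpowers_le.2 (hE.1 hz'E))
  · have hwL : w ∉ Cfsg.sigma L := not_sigma hG hM hL hnc hwM
    obtain ⟨z', hz'F, hz'P, hz'w, hz'1⟩ := conj_into_compl hG hL hF hpL hpτL.2.2.2.2 hPF hPc
      hwL hzL hzP hzw hz1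
    have hz'σ : zpowers z' ≤ Cfsg.sigmaCore M := isPGroup_le_sigmaCore hG hM hwM
      (IsPGroup.of_card (n := 1) (by rw [hzc hz'w hz'1, pow_one])) (zpowers_le.2 (hFM hz'F))
    have h1 := (fixed_le_commuting hG hL hpτL hPL hPc hw (hzc hz'w hz'1)
      (zpowers_le.2 (hF.1 hz'F)) (zpowers_le.2 hz'P) hwL).trans
      (unique_of_fixed hG hM hpτ hPM hPc (hzc hz'w hz'1) (le_inf hz'σ (zpowers_le.2 hz'P))).1
    exact hfin hYc htL hY (hY.trans h1)

end CfsgLib.CFun.TauThree
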