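import Cfsg.Agent.S1416
import Cfsg.Agent.S1412
import Cfsg.Agent.Lib.CFun.OddNarrow
import Cfsg.Agent.Lib.Coprime.ControlLift

/-!
# Sylow subgroups at primes of `τ₂(M)` are abelian
-/

set_option autoImplicit false
set_option linter.style.haveILetI false
set_option linter.unusedSectionVars false

open Subgroup
open scoped commutatorElement
open CfsgLib.Coprime (conjBy conjBy_conjBy conjBy_one mem_conjBy conj_mem_conjBy)

namespace CfsgLib.CFun.TauTwo

universe u

variable {G : Type u} [Group G] [Finite G] {p : ℕ} [hp : Fact p.Prime]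

theorem mem_tau_iff {M : Subgroup G} : p ∈ Cfsg.tau2 M ↔
    p ∉ Cfsg.sigma M ∧ Cfsg.PRankLE p 2 M ∧ ¬ Cfsg.PRankLE p 1 M :=
  ⟨fun h => h.2, fun h => ⟨hp.out, h⟩⟩

/-- The centralizer in a Sylow subgroup of a maximal elementary subgroup of order `p ^ 2` is
abelian. -/
theorem isMulCommutative_inf_centralizer (hG : Cfsg.IsMinSimpleOddOrder G) {A : Subgroup G}
    (hAe : Cfsg.IsElementaryAbelian p A) (hA2 : Nat.card A = p ^ 2)
    (hAmax : ∀ B : Subgroup G, Cfsg.IsElementaryAbelian p B → A ≤ B → B = A)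
    (S : Sylow p G) (hAS : A ≤ (S : Subgroup G)) :
    IsMulCommutative ↥((S : Subgroup G) ⊓ centralizer (A : Set G)) := by
  have hp2 : p ≠ 2 := ms_ne_two hG (dvd_card hG hAe hA2)
  by_cases hr : Cfsg.PRankLE p 2 ↥(S : Subgroup G)
  · rcases Cfsg.Agent.S1412.result hG p S hr with h | ⟨P₁, P₂, hsup, hcomm, -, -, hexp, hP₂, -⟩
    · refine ⟨⟨fun a b => Subtype.ext ?_⟩⟩
      exact (congrArg Subtype.val (h.is_comm.comm (⟨a, a.2.1⟩ : (S : Subgroup G)) ⟨b, b.2.1⟩) :)
    haveI := hP₂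
    have key : ∀ x ∈ (S : Subgroup G) ⊓ centralizer (A : Set G),
        ∃ a ∈ A, ∃ b ∈ P₂, a ∈ P₁ ∧ a * b = x := by
      rintro x ⟨hx, hxC⟩
      have hP₁₂ : P₂ ≤ normalizer (P₁ : Set G) := fun b hb =>
        CfsgLib.Coprime.centralizer_le_normalizer_self P₁
          (mem_centralizer_iff.2 fun a ha => hcomm a ha b hb)
      obtain ⟨a, ha, b, hb, rfl⟩ := CfsgLib.Coprime.mem_sup_exists hP₁₂ (hsup.ge hx)
      refine ⟨a, ?_, b, hb, ha, rfl⟩
      refine mem_of_pow hAe hA2 hAmax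
        (by rw [← hexp]; exact (congrArg Subtype.val (Monoid.pow_exponent_eq_one (⟨a, ha⟩ : P₁)) :))
        (mem_centralizer_iff.2 fun w hw => ?_)
      -- `P₂` is central in `S`
      have hbw : b * w = w * b := by
        obtain ⟨a', ha', b', hb', rfl⟩ := CfsgLib.Coprime.mem_sup_exists hP₁₂ (hsup.ge (hAS hw))
        have h2 : b * b' = b' * b := congrArg Subtype.val
          (IsMulCommutative.is_comm.comm (⟨b, hb⟩ : P₂) ⟨b', hb'⟩)
        calc b * (a' * b') = b * a' * b' := by group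
          _ = a' * b * b' := by rw [hcomm a' ha' b hb]
          _ = a' * (b * b') := by group
          _ = a' * b' * b := by rw [h2]; group
      have h1 : w * (a * b) = a * b * w := mem_centralizer_iff.1 hxC w hw
      calc w * a = w * (a * b) * b⁻¹ := by group
        _ = a * (b * w) * b⁻¹ := by rw [h1]; group
        _ = a * w := by rw [hbw]; group
    refine ⟨⟨fun x y => Subtype.ext ?_⟩⟩
    show (x : G) * y = y * x
    obtain ⟨a, ha, b, hb, haP, hx⟩ := key x x.2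
    obtain ⟨c, hc, d, hd, hcP, hy⟩ := key y y.2
    rw [← hx, ← hy]
    have h2 : b * d = d * b := congrArg Subtype.val
      (IsMulCommutative.is_comm.comm (⟨b, hb⟩ : P₂) ⟨d, hd⟩)
    calc a * b * (c * d) = a * (b * c) * d := by group
      _ = a * c * (b * d) := by rw [← hcomm c hcP b hb]; group
      _ = c * a * (d * b) := by rw [(commute_of_mem hAe ha hc).eq, h2]
      _ = c * (a * d) * b := by group
      _ = c * d * (a * b) := by rw [hcomm a haP d hd]; group
  -- rank at least three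
  set R := ↥(S : Subgroup G)
  set E : Subgroup R := A.subgroupOf (S : Subgroup G) with hEdef
  have hE : Cfsg.IsElementaryAbelian p E := ⟨⟨⟨fun a b => Subtype.ext (Subtype.ext
    (commute_of_mem hAe a.2 b.2).eq)⟩⟩, fun x hx => Subtype.ext (hAe.2 _ hx)⟩
  have hE2 : Nat.card E = p ^ 2 := by
    rw [Nat.card_congr (subgroupOfEquivOfLe hAS).toEquiv, hA2]
  have hEmax : ∀ B : Subgroup R, Cfsg.IsElementaryAbelian p B → E ≤ B → B = E := by
    intro B hB hEB
    haveI := hB.1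
    have h1 : B.map (S : Subgroup G).subtype = A := hAmax _
      ⟨inferInstance, by rintro _ ⟨b, hb, rfl⟩; rw [← map_pow, hB.2 b hb, map_one]⟩
      fun a ha => ⟨⟨a, hAS ha⟩, hEB ha, rfl⟩
    exact le_antisymm (fun b hb => h1.le (mem_map_of_mem _ hb)) hEB
  obtain ⟨e, heE, heT, hce, hthin⟩ := Narrow.exists_thin hp2 S.2 hr hE hE2 hEmax
  obtain ⟨-, hZ, -, hidx, -⟩ := Narrow.maximal_two hp2 S.2 hr hE hE2 hEmax
  set T : Subgroup R := centralizer (Narrow.omegaSecond p R : Set R) with hT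
  haveI : T.Characteristic := Narrow.centralizer_characteristic Narrow.omegaSecond_characteristic
  haveI : T.Normal := inferInstance
  -- `T ∩ C(e)` is cyclic
  have hcyc : IsCyclic ↥(T ⊓ centralizer ({e} : Set R)) := by
    by_contra hnc
    obtain ⟨F, hF, -, hFe, hF2⟩ := exists_normal_elementary_two hp2
      (S.2.to_subgroup (T ⊓ centralizer ({e} : Set R))) hnc
    have h1 : F ≤ Narrow.omegaCenter p R := fun x hx => hthin x (hF hx).1
      (mem_centralizer_singleton_iff.1 (hF hx).2) (hFe.2 x hx)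
    have h2 := card_le_of_le h1
    rw [hF2, hZ] at h2
    nlinarith [hp.out.two_le]
  have htop : T ⊔ zpowers e = ⊤ := by
    rw [← index_eq_one]
    have h1 : (T ⊔ zpowers e).index ∣ p :=
      (index_dvd_of_le (le_sup_left : T ≤ T ⊔ zpowers e)).trans hidx.dvd
    rcases (Nat.dvd_prime hp.out).1 h1 with h | h
    · exact h
    · exfalso
      have h3 := relIndex_mul_index (le_sup_left : T ≤ T ⊔ zpowers e)
      rw [h, hidx] at h3
      have h4 : T.relIndex (T ⊔ zpowers e) = 1 :=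
        Nat.eq_of_mul_eq_mul_right hp.out.pos (h3.trans (one_mul p).symm)
      exact heT (relIndex_eq_one.1 h4 (mem_sup_right (mem_zpowers e)))
  have key : ∀ x ∈ centralizer ({e} : Set R),
      ∃ t ∈ T ⊓ centralizer ({e} : Set R), ∃ i : ℤ, t * e ^ i = x := by
    intro x hx
    obtain ⟨t, ht, y, hy, rfl⟩ := CfsgLib.Coprime.mem_sup_exists
      (by rw [normalizer_eq_top]; exact le_top) (htop.ge (mem_top x))
    obtain ⟨i, rfl⟩ := hy
    refine ⟨t, ⟨ht, ?_⟩, i, rfl⟩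
    have h1 : t * e ^ i * e = e * (t * e ^ i) := mem_centralizer_singleton_iff.1 hx
    refine mem_centralizer_singleton_iff.2 ?_
    calc t * e = t * e ^ i * e * e ^ (-i) := by group
      _ = e * t := by rw [h1]; group
  refine ⟨⟨fun x y => Subtype.ext ?_⟩⟩
  show (x : G) * y = y * x
  have hmem : ∀ z : G, (hz : z ∈ (S : Subgroup G) ⊓ centralizer (A : Set G)) →
      (⟨z, hz.1⟩ : R) ∈ centralizer ({e} : Set R) := fun z hz => by
    rw [hce]
    exact mem_centralizer_iff.2 fun a ha => Subtype.ext (mem_centralizer_iff.1 hz.2 _ ha)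
  obtain ⟨t, ht, i, hx⟩ := key _ (hmem x x.2)
  obtain ⟨t', ht', j, hy⟩ := key _ (hmem y y.2)
  haveI := hcyc
  have htt : t * t' = t' * t := congrArg Subtype.val
    (IsMulCommutative.is_comm.comm (⟨t, ht⟩ : ↥(T ⊓ centralizer ({e} : Set R))) ⟨t', ht'⟩)
  have c1 : Commute t e := mem_centralizer_singleton_iff.1 ht.2
  have c2 : Commute t' e := mem_centralizer_singleton_iff.1 ht'.2
  have hc : Commute (t * e ^ i) (t' * e ^ j) :=
    (((show Commute t t' from htt).mul_right (c1.zpow_right j))).mul_left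
      ((c2.zpow_right i).symm.mul_right ((Commute.refl e).zpow_zpow i j))
  rw [hx, hy] at hc
  exact congrArg Subtype.val hc.eq

/-- Elements of order `p` of an overgroup centralizing `A` lie in `A`. -/
theorem normalizer_le_normalizer_of_omega {A T : Subgroup G}
    (hAe : Cfsg.IsElementaryAbelian p A) (hA2 : Nat.card A = p ^ 2)
    (hAmax : ∀ B : Subgroup G, Cfsg.IsElementaryAbelian p B → A ≤ B → B = A)
    (hAT : A ≤ T) (hTC : T ≤ centralizer (A : Set G)) :
    normalizer (T : Set G) ≤ normalizer (A : Set G) := fun y hy => by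
  refine CfsgLib.Coprime.conjBy_eq_self_iff.1 (eq_of_le_of_card_ge ?_
    (CfsgLib.Coprime.card_conjBy y A).ge)
  rintro _ ⟨a, ha, rfl⟩
  exact mem_of_pow hAe hA2 hAmax (by rw [← map_pow, hAe.2 a ha, map_one])
    (hTC ((mem_normalizer_iff.1 hy a).1 (hAT ha)))

/-- Lines other than the fixed one are permuted transitively. -/
theorem conj_lines {A T Z₀ L₁ L₂ : Subgroup G} (hAe : Cfsg.IsElementaryAbelian p A)
    (hA2 : Nat.card A = p ^ 2) (hT : IsPGroup p T) (hAT : A ≤ T) {g : G} (hg : g ∈ T)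
    (hgA : g ∈ normalizer (A : Set G)) (hgC : g ∉ centralizer (A : Set G))
    (hgZ : g ∈ centralizer (Z₀ : Set G))
    (hZ : Z₀ ≤ A) (hZc : Nat.card Z₀ = p) (h₁ : L₁ ≤ A) (h₁c : Nat.card L₁ = p) (h₁ne : L₁ ≠ Z₀)
    (h₂ : L₂ ≤ A) (h₂c : Nat.card L₂ = p) (h₂ne : L₂ ≠ Z₀) :
    ∃ i : ℤ, conjBy (g ^ i) L₁ = L₂ := by
  set R := A ⊔ zpowers g with hR
  have hRp : IsPGroup p R := hT.to_le (sup_le hAT (zpowers_le.2 hg))
  have hRA : R ≤ normalizer (A : Set G) := sup_le le_normalizer (zpowers_le.2 hgA)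
  have hA1 : A ≠ ⊥ := fun e => line_ne_bot h₁c (le_bot_iff.1 (h₁.trans e.le))
  have hlt := Narrow.commutator_lt (R := R) hRp le_sup_left hRA hA1
  have hgR : g ∈ R := mem_sup_right (mem_zpowers g)
  have hZ₁ := sup_lines hA2 hZ h₁ hZc h₁c h₁ne
  have hnot : ∀ B : Subgroup G, B ≤ A → Nat.card B = p → B ≠ Z₀ →
      g ∉ centralizer (B : Set G) := by
    intro B hB hBc hne hgB
    apply hgC
    have h1 := sup_lines hA2 hZ hB hZc hBc hne
    exact le_centralizer_iff.1 (h1.ge.trans (sup_le (le_centralizer_iff.1 (zpowers_le.2 hgZ))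
      (le_centralizer_iff.1 (zpowers_le.2 hgB)))) (mem_zpowers g)
  -- commutators with `g` lie in `Z₀`
  have hle : ⁅A, R⁆ ≤ Z₀ := by
    rcases card_pSq_cases hA2 hlt.le with h | h | h
    · exact h.le.trans bot_le
    · set L₃ : Subgroup G := ⁅A, R⁆ with hL₃
      by_contra hne
      have h3 : L₃ ≠ Z₀ := fun e => hne e.le
      refine hnot L₃ hlt.le h h3 ?_
      have hL₃n : R ≤ normalizer (L₃ : Set G) :=
        PGroup.le_normalizer_commutator hRA le_normalizer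
      have hlt' := Narrow.commutator_lt (R := R) hRp (hlt.le.trans le_sup_left) hL₃n (line_ne_bot h)
      rcases card_pSq_cases hA2 (hlt'.le.trans hlt.le) with e | e | e
      · exact le_centralizer_iff.1 (commutator_eq_bot_iff_le_centralizer.1 e) hgR
      · exact absurd (eq_of_le_of_card_ge hlt'.le (by rw [h, e])) hlt'.ne
      · exact absurd (le_antisymm hlt'.le (hlt.le.trans e.ge)) hlt'.ne
    · exact absurd h hlt.ne
  obtain ⟨a, ha, ha1⟩ := (bot_or_exists_ne_one L₁).resolve_left (line_ne_bot h₁c)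
  have hL₁ : zpowers a = L₁ := eq_of_le_of_card_ge (zpowers_le.2 ha)
    (by rw [h₁c, zpowers_card hAe (h₁ ha) ha1])
  set z := g * a * g⁻¹ * a⁻¹ with hz
  have hzZ : z ∈ Z₀ := hle (by
    have h1 := inv_mem (commutator_mem_commutator (h₁ ha) hgR)
    rwa [commutatorElement_inv, commutatorElement_def] at h1)
  have hz1 : z ≠ 1 := fun e => hnot L₁ h₁ h₁c h₁ne (by
    rw [← hL₁, centralizer_zpowers, mem_centralizer_singleton_iff]
    rwa [hz, mul_inv_eq_one, mul_inv_eq_iff_eq_mul] at e)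
  have hZz : zpowers z = Z₀ := eq_of_le_of_card_ge (zpowers_le.2 hzZ)
    (by rw [hZc, zpowers_card hAe (hZ hzZ) hz1])
  have hza : Commute z a := commute_of_mem hAe (hZ hzZ) (h₁ ha)
  have hga : g * a * g⁻¹ = z * a := by rw [hz]; group
  have hgz : Commute g z := (mem_centralizer_iff.1 hgZ z hzZ).symm
  have hpow : ∀ i : ℤ, g ^ i * a * (g ^ i)⁻¹ = z ^ i * a := by
    intro i
    induction i using Int.induction_on with
    | zero => simp
    | succ i ih =>
      calc g ^ ((i : ℤ) + 1) * a * (g ^ ((i : ℤ) + 1))⁻¹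
          = g * (g ^ (i : ℤ) * a * (g ^ (i : ℤ))⁻¹) * g⁻¹ := by group
        _ = g * z ^ (i : ℤ) * a * g⁻¹ := by rw [ih]; group
        _ = z ^ (i : ℤ) * (g * a * g⁻¹) := by rw [(hgz.zpow_right _).eq]; group
        _ = z ^ ((i : ℤ) + 1) * a := by rw [hga]; group
    | pred i ih =>
      have h1 : g⁻¹ * a * g = z⁻¹ * a := by
        have h2 : g⁻¹ * (z * a) * g = a := by rw [← hga]; group
        have h3 : g⁻¹ * z = z * g⁻¹ := (hgz.inv_left).eq
        calc g⁻¹ * a * g = z⁻¹ * (z * g⁻¹) * a * g := by group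
          _ = z⁻¹ * (g⁻¹ * (z * a) * g) := by rw [← h3]; group
          _ = z⁻¹ * a := by rw [h2]
      calc g ^ (-(i : ℤ) - 1) * a * (g ^ (-(i : ℤ) - 1))⁻¹
          = g⁻¹ * (g ^ (-(i : ℤ)) * a * (g ^ (-(i : ℤ)))⁻¹) * g := by group
        _ = g⁻¹ * z ^ (-(i : ℤ)) * a * g := by rw [ih]; group
        _ = z ^ (-(i : ℤ)) * (g⁻¹ * a * g) := by rw [(hgz.inv_left.zpow_right _).eq]; group
        _ = z ^ (-(i : ℤ) - 1) * a := by rw [h1]; group
  obtain ⟨b, hb, hb1⟩ := (bot_or_exists_ne_one L₂).resolve_left (line_ne_bot h₂c)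
  have hL₂ : zpowers b = L₂ := eq_of_le_of_card_ge (zpowers_le.2 hb)
    (by rw [h₂c, zpowers_card hAe (h₂ hb) hb1])
  obtain ⟨z', hz', a', ha', hzb⟩ := CfsgLib.Coprime.mem_sup_exists
    ((h₁.trans (le_centralizer_line hAe hZ)).trans (CfsgLib.Coprime.centralizer_le_normalizer_self _))
    (hZ₁.ge (h₂ hb))
  rw [← hZz] at hz'
  rw [← hL₁] at ha'
  obtain ⟨k, rfl⟩ := hz'
  obtain ⟨j, rfl⟩ := ha'
  -- `a ^ j` generates `L₁`
  have haj : a ^ j ≠ 1 := fun e => h₂ne (by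
    rw [← hL₂]
    refine eq_of_le_of_card_ge (zpowers_le.2 ?_) (by rw [hZc, zpowers_card hAe (h₂ hb) hb1])
    rw [← hzb, show (fun m : ℤ => a ^ m) j = 1 from e, mul_one]
    exact zpow_mem hzZ k)
  have hgen : zpowers (a ^ j) = L₁ := eq_of_le_of_card_ge
    (zpowers_le.2 (zpow_mem ha j))
    (by rw [h₁c, zpowers_card hAe (zpow_mem (h₁ ha) j) haj])
  obtain ⟨m, hm⟩ : a ∈ zpowers (a ^ j) := hgen.ge ha
  refine ⟨k * m, eq_of_le_of_card_ge ?_ (by rw [h₂c, CfsgLib.Coprime.card_conjBy, h₁c])⟩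
  rw [← hL₁]
  show (zpowers a).map _ ≤ L₂
  rw [MonoidHom.map_zpowers, zpowers_le]
  show g ^ (k * m) * a * (g ^ (k * m))⁻¹ ∈ L₂
  have hbm : b ^ m = z ^ (k * m) * a := by
    rw [← hzb]
    show (z ^ k * a ^ j) ^ m = _
    rw [(hza.zpow_zpow k j).mul_zpow, ← zpow_mul]
    exact congrArg _ hm
  rw [hpow, ← hbm]
  exact zpow_mem hb m

section MinSimple

variable (hG : Cfsg.IsMinSimpleOddOrder G) {M : Subgroup G}
include hG

variable {A : Subgroup G} (hM : IsCoatom M) (hpt : p ∈ Cfsg.tau2 M) (hAM : A ≤ M)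
  (hAe : Cfsg.IsElementaryAbelian p A) (hA2 : Nat.card A = p ^ 2)
include hM hpt hAM hAe hA2

theorem tau_max {B : Subgroup G} (hB : Cfsg.IsElementaryAbelian p B) (hAB : A ≤ B) : B = A :=
  elementary_two_maximal hG hM hpt.2.2.1 hAM hAe hA2 hB hAB

theorem tau_centralizer_le : centralizer (A : Set G) ≤ M :=
  (Cfsg.Agent.S1416.result hG M hM p A ⟨hAM, hAe, hA2⟩).1

theorem tau_line : ∃ A₀ : Subgroup G, A₀ ≤ A ∧ Nat.card A₀ = p ∧
    normalizer (A₀ : Set G) ≤ M ∧
      ∀ L : Subgroup G, IsCoatom L → normalizer (A₀ : Set G) ≤ L → L = M := by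
  by_contra h
  refine hpt.2.1 ((Cfsg.Agent.S1416.result hG M hM p A ⟨hAM, hAe, hA2⟩).2 fun A₀ h₁ h₂ h₃ => ?_).1
  exact h ⟨A₀, h₁, h₂, h₃⟩

/-- A maximal `p`-subgroup of `M` over `A` is abelian. -/
theorem tau_sylow_abelian {T : Subgroup G} (hT : IsPGroup p T) (hTM : T ≤ M) (hAT : A ≤ T)
    (hmax : ∀ U : Subgroup G, IsPGroup p U → U ≤ M → T ≤ U → U = T) :
    IsMulCommutative T ∧ T ≤ centralizer (A : Set G) ∧
      normalizer (T : Set G) ≤ normalizer (A : Set G) ∧ ¬ normalizer (T : Set G) ≤ M := by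
  have hAmax : ∀ B : Subgroup G, Cfsg.IsElementaryAbelian p B → A ≤ B → B = A :=
    fun B => tau_max hG hM hpt hAM hAe hA2
  have hpd : p ∣ Nat.card M :=
    (hA2 ▸ dvd_pow_self p two_ne_zero : p ∣ Nat.card A).trans (card_dvd_of_le hAM)
  have hN : ¬ normalizer (T : Set G) ≤ M := fun h => hpt.2.1 (by
    refine ⟨hp.out, hpd, sylowOfMax hT hTM hmax, ?_⟩
    rwa [coe_sylowOfMax, map_subgroupOf_eq_of_le hTM])
  obtain ⟨S, hTS⟩ := hT.exists_le_sylow
  suffices hTC : T ≤ centralizer (A : Set G) by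
    refine ⟨?_, hTC, normalizer_le_normalizer_of_omega hAe hA2 hAmax hAT hTC, hN⟩
    haveI := isMulCommutative_inf_centralizer hG hAe hA2 hAmax S (hAT.trans hTS)
    exact ⟨⟨fun a b => Subtype.ext (congrArg Subtype.val (IsMulCommutative.is_comm.comm
      (⟨a, hTS a.2, hTC a.2⟩ : ↥((S : Subgroup G) ⊓ centralizer (A : Set G)))
      ⟨b, hTS b.2, hTC b.2⟩) :)⟩⟩
  by_contra hTC
  -- a noncentral `A` in `T`
  set Z₀ := centerSocle T p with hZ₀
  have hZA : Z₀ ≤ A := fun z hz => mem_of_pow hAe hA2 hAmax hz.2.1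
    (mem_centralizer_iff.2 fun a ha => (hz.2.2 a (hAT ha)).symm.eq)
  have hT1 : T ≠ ⊥ := fun e => hTC (e ▸ bot_le)
  obtain ⟨z, ⟨-, hz⟩, hz1⟩ := centerSocle_ne_bot (q := p) hT le_rfl le_normalizer hT1
  have hZc : Nat.card Z₀ = p := by
    rcases card_pSq_cases hA2 hZA with h | h | h
    · exact absurd (mem_bot.1 (h.le hz)) hz1
    · exact h
    · exact absurd (fun t ht => mem_centralizer_iff.2 fun a ha => ((h.ge ha).2.2 t ht).eq) hTC
  have hNTZ : normalizer (T : Set G) ≤ normalizer (Z₀ : Set G) :=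
    normalizer_le_normalizer_centerSocle T p
  obtain ⟨g, hg, hgn, hgC⟩ := CfsgLib.Coprime.ControlLift.exists_normalizer_not_mem hT
    (inf_le_left : T ⊓ centralizer (A : Set G) ≤ T) (fun h => hTC (h.trans inf_le_right))
  have hgA : g ∈ normalizer (A : Set G) := by
    refine CfsgLib.Coprime.conjBy_eq_self_iff.1 (eq_of_le_of_card_ge ?_
      (CfsgLib.Coprime.card_conjBy g A).ge)
    rintro _ ⟨a, ha, rfl⟩
    exact mem_of_pow hAe hA2 hAmax (by rw [← map_pow, hAe.2 a ha, map_one])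
      ((mem_normalizer_iff.1 hgn a).1 ⟨hAT ha, le_centralizer_of_comm hAe.1 ha⟩).2
  have hgC' : g ∉ centralizer (A : Set G) := fun h => hgC ⟨hg, h⟩
  have hgZ : g ∈ centralizer (Z₀ : Set G) := mem_centralizer_iff.2 fun y hy => (hy.2.2 g hg).eq
  obtain ⟨y, hy, hyM⟩ := SetLike.not_le_iff_exists.1 hN
  obtain ⟨A₀, hA₀, hA₀c, hNA₀, huniq⟩ := tau_line hG hM hpt hAM hAe hA2
  have hA₀ne : A₀ ≠ Z₀ := fun e => hN (hNTZ.trans (e ▸ hNA₀))
  have hA'T : conjBy y A ≤ T := by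
    rintro _ ⟨a, ha, rfl⟩
    exact (mem_normalizer_iff.1 hy a).1 (hAT ha)
  have hA'e : Cfsg.IsElementaryAbelian p (conjBy y A) := by
    haveI := hAe.1
    exact ⟨inferInstanceAs (IsMulCommutative ↥(A.map (MulAut.conj y).toMonoidHom)),
      by rintro _ ⟨a, ha, rfl⟩; rw [← map_pow, hAe.2 a ha, map_one]⟩
  obtain ⟨A₁, hA₁, hA₁c, hNA₁, huniq₁⟩ := tau_line hG hM hpt (hA'T.trans hTM) hA'e
    (by rw [CfsgLib.Coprime.card_conjBy, hA2])
  have hA₁ne : A₁ ≠ Z₀ := fun e => hN (hNTZ.trans (e ▸ hNA₁))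
  have h2A : conjBy y⁻¹ A₁ ≤ A := by
    intro x hx
    rw [mem_conjBy, inv_inv] at hx
    have h := hA₁ hx
    rw [mem_conjBy] at h
    rwa [show y⁻¹ * (y * x * y⁻¹) * y = x by group] at h
  have h2ne : conjBy y⁻¹ A₁ ≠ Z₀ := fun e => hA₁ne (by
    have h := congrArg (conjBy y) e
    rw [conjBy_conjBy, mul_inv_cancel, conjBy_one,
      CfsgLib.Coprime.conjBy_eq_self_iff.2 (hNTZ hy)] at h
    exact h)
  obtain ⟨i, hi⟩ := conj_lines hAe hA2 hT hAT hg hgA hgC' hgZ hZA hZc hA₀ hA₀c hA₀ne h2A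
    (by rw [CfsgLib.Coprime.card_conjBy, hA₁c]) h2ne
  have hgi : g ^ i ∈ M := zpow_mem (hTM hg) i
  have h1 : normalizer ((conjBy y⁻¹ A₁ : Subgroup G) : Set G) ≤ M := by
    rw [← hi, normalizer_conjBy]
    exact conjBy_le_of_mem hgi hNA₀
  have h2 : normalizer (A₁ : Set G) ≤ conjBy y M := by
    rw [normalizer_conjBy] at h1
    intro x hx
    rw [mem_conjBy]
    exact h1 (by simpa using conj_mem_conjBy (g := y⁻¹) hx)
  refine hyM (ms_normalizer_self hG hM ▸ ?_)
  exact CfsgLib.Coprime.conjBy_eq_self_iff.1 (huniq₁ _ (isCoatom_conjBy y hM) h2)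

end MinSimple

end CfsgLib.CFun.TauTwo
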