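import Cfsg.Agent.S1394
import Cfsg.Agent.S1396
import Cfsg.Agent.S1410
import Cfsg.Agent.S1411
import Cfsg.Agent.S1412
import Cfsg.Agent.Lib.CFun.OddBeta
import Cfsg.Agent.Lib.CFun.OddSCNUnique
import Cfsg.Agent.Lib.CFun.OddOvergroup
import Cfsg.Agent.Lib.CFun.OddRankTwoTower
import Cfsg.Agent.Lib.CFun.OddSylowFusion
import Cfsg.Agent.Lib.CFun.OddNarrowAut

/-!
# Maximal elementary subgroups of order `p ^ 2`: preliminaries
-/

set_option autoImplicit false
set_option linter.style.haveILetI false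
set_option linter.unusedSectionVars false

open Subgroup
open scoped commutatorElement
open CfsgLib.Coprime (conjBy mem_conjBy conj_mem_of_le_normalizer)

namespace CfsgLib.CFun.TauTwo

universe u

variable {G : Type u} [Group G] [Finite G] {p : ℕ} [hp : Fact p.Prime]

theorem commute_of_mem {A : Subgroup G} (hA : Cfsg.IsElementaryAbelian p A) {a b : G} (ha : a ∈ A)
    (hb : b ∈ A) : Commute a b :=
  congrArg Subtype.val (hA.1.is_comm.comm (⟨a, ha⟩ : A) ⟨b, hb⟩)

theorem centralizer_zpowers (a : G) :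
    centralizer ((zpowers a : Subgroup G) : Set G) = centralizer ({a} : Set G) := by
  rw [zpowers_eq_closure, centralizer_closure]

theorem le_centralizer_line {A B : Subgroup G} (hA : Cfsg.IsElementaryAbelian p A) (hB : B ≤ A) :
    A ≤ centralizer (B : Set G) :=
  (le_centralizer_of_comm hA.1).trans (centralizer_le hB)

theorem le_normalizer_centralizer_line {A B : Subgroup G} (hA : Cfsg.IsElementaryAbelian p A)
    (hB : B ≤ A) : A ≤ normalizer (centralizer (B : Set G) : Set G) :=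
  ((le_centralizer_line hA hB).trans (CfsgLib.Coprime.centralizer_le_normalizer_self B)).trans
    (CfsgLib.Coprime.normalizer_le_normalizer_centralizer B)

theorem zpowers_card {A : Subgroup G} (hA : Cfsg.IsElementaryAbelian p A) {a : G} (ha : a ∈ A)
    (ha1 : a ≠ 1) : Nat.card (zpowers a) = p := by
  rw [Nat.card_zpowers]
  exact orderOf_eq_prime (hA.2 a ha) ha1

theorem isCyclic_line {B : Subgroup G} (hB : Nat.card B = p) : IsCyclic B :=
  isCyclic_of_prime_card hB

theorem line_ne_bot {B : Subgroup G} (hB : Nat.card B = p) : B ≠ ⊥ := fun e => by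
  rw [e, card_bot] at hB
  exact hp.out.one_lt.ne hB

theorem card_pSq_cases {A W : Subgroup G} (hA2 : Nat.card A = p ^ 2) (hW : W ≤ A) :
    W = ⊥ ∨ Nat.card W = p ∨ W = A := by
  obtain ⟨k, hk, hc⟩ := (Nat.dvd_prime_pow hp.out).1 (hA2 ▸ card_dvd_of_le hW)
  interval_cases k
  · exact Or.inl (card_eq_one.1 (hc.trans (pow_zero p)))
  · exact Or.inr (Or.inl (hc.trans (pow_one p)))
  · exact Or.inr (Or.inr (eq_of_le_of_card_ge hW (by rw [hA2, hc])))

theorem sup_lines {A B B' : Subgroup G} (hA2 : Nat.card A = p ^ 2) (hB : B ≤ A) (hB' : B' ≤ A)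
    (hBc : Nat.card B = p) (hB'c : Nat.card B' = p) (hne : B' ≠ B) : B ⊔ B' = A := by
  rcases card_pSq_cases hA2 (sup_le hB hB') with h | h | h
  · exact absurd (le_bot_iff.1 (le_sup_left.trans h.le)) (line_ne_bot hBc)
  · exfalso
    have e1 := eq_of_le_of_card_ge (le_sup_left : B ≤ B ⊔ B') (by rw [h, hBc])
    have e2 := eq_of_le_of_card_ge (le_sup_right : B' ≤ B ⊔ B') (by rw [h, hB'c])
    exact hne (e2.trans e1.symm)
  · exact h

theorem exists_line_ne {A B : Subgroup G} (hA : Cfsg.IsElementaryAbelian p A)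
    (hA2 : Nat.card A = p ^ 2) (hBc : Nat.card B = p) :
    ∃ B' : Subgroup G, B' ≤ A ∧ Nat.card B' = p ∧ B' ≠ B := by
  obtain ⟨a, ha, haB⟩ := SetLike.not_le_iff_exists.1 (show ¬ A ≤ B from fun h => by
    have h1 := Nat.le_of_dvd hp.out.pos (hBc ▸ hA2 ▸ card_dvd_of_le h)
    nlinarith [hp.out.two_le])
  exact ⟨zpowers a, zpowers_le.2 ha, zpowers_card hA ha (fun e => haB (e ▸ one_mem B)),
    fun e => haB (e ▸ mem_zpowers a)⟩

/-- Coprime generation by the centralizers of the lines. -/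
theorem le_of_lines {A Y W : Subgroup G} (hA : Cfsg.IsElementaryAbelian p A)
    (hA2 : Nat.card A = p ^ 2) (hAY : A ≤ normalizer (Y : Set G))
    (hcop : (Nat.card A).Coprime (Nat.card Y))
    (h : ∀ B : Subgroup G, B ≤ A → Nat.card B = p → Y ⊓ centralizer (B : Set G) ≤ W) : Y ≤ W := by
  haveI := hA.1
  refine CfsgLib.Coprime.le_of_centralizers_le (not_isCyclic_of_elementary hA hA2.ge) hAY hcop
    fun a ha ha1 => ?_
  rw [← centralizer_zpowers]
  exact h _ (zpowers_le.2 ha) (zpowers_card hA ha ha1)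

section MinSimple

variable (hG : Cfsg.IsMinSimpleOddOrder G)
include hG

omit hp in
theorem ms_ne_top_of_le {H L : Subgroup G} (hL : IsCoatom L) (h : H ≤ L) : H ≠ ⊤ :=
  fun e => hL.1 (top_le_iff.1 (e ▸ h))

/-- An element of order `r` at a prime of `β(M)` has its centralizer only in `M`. -/
theorem beta_centralizer {M : Subgroup G} {r : ℕ} [hr : Fact r.Prime] (hM : IsCoatom M)
    (hrb : r ∈ Cfsg.beta M) {z : G} (hzM : z ∈ M) (hzr : z ^ r = 1) (hz1 : z ≠ 1) :
    centralizer ({z} : Set G) ≤ M ∧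
      ∀ L : Subgroup G, IsCoatom L → centralizer ({z} : Set G) ≤ L → L = M := by
  obtain ⟨hα, -, -, hid⟩ := hrb
  have hzo : orderOf z = r := orderOf_eq_prime hzr hz1
  obtain ⟨P, hP⟩ := (show IsPGroup r (zpowers (⟨z, hzM⟩ : M)) from IsPGroup.of_card (n := 1)
    (by rw [Nat.card_zpowers, Subgroup.orderOf_mk, hzo, pow_one])).exists_le_sylow
  obtain ⟨-, S, hS⟩ := sigma_sylow hG hM (alpha_subset_sigma hG hM hα) P
  have hzS : z ∈ (S : Subgroup G) := hS.symm ▸ ⟨⟨z, hzM⟩, hP (mem_zpowers _), rfl⟩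
  have hSM : (S : Subgroup G) ≤ M := hS.le.trans (map_subtype_le _)
  have hSr : ¬ Cfsg.PRankLE r 2 ↥(S : Subgroup G) := fun h => hα.2
    (pRankLE_of_sylow P (hS ▸ h))
  have hnc : ¬ IsCyclic ↥(S : Subgroup G) := fun h => hSr fun E hEc hEe => by
    haveI := h
    obtain ⟨g, hg⟩ := IsCyclic.exists_generator (α := E)
    rw [← orderOf_eq_card_of_forall_mem_zpowers hg]
    refine (Nat.le_of_dvd hr.out.pos (orderOf_dvd_of_pow_eq_one
      (Subtype.ext (hEe g g.2)))).trans ?_
    exact Nat.le_self_pow two_ne_zero r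
  have hr2 : r ≠ 2 := ms_ne_two hG (hzo ▸ orderOf_dvd_natCard z)
  obtain ⟨E₀, hE₀S, hSE₀, hE₀, hE₀c⟩ := exists_normal_elementary_two hr2 S.2 hnc
  have hE₀ne : E₀ ≠ ⊥ := fun e => by
    rw [e, card_bot] at hE₀c
    exact (Nat.one_lt_pow two_ne_zero hr.out.one_lt).ne hE₀c
  have hcardz : Nat.card (zpowers z) = r := by rw [Nat.card_zpowers, hzo]
  -- a commuting partner of `z`
  obtain ⟨u, hu, huz⟩ : ∃ u ∈ (S : Subgroup G), u ^ r = 1 ∧ Commute u z ∧ u ∉ zpowers z := by
    by_cases hzE : z ∈ E₀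
    · obtain ⟨u, hu, hne⟩ := SetLike.not_le_iff_exists.1 (show ¬ E₀ ≤ zpowers z from fun h => by
        have h1 := Nat.le_of_dvd hr.out.pos (hcardz ▸ hE₀c ▸ card_dvd_of_le h)
        nlinarith [hr.out.two_le])
      exact ⟨u, hE₀S hu, hE₀.2 u hu, commute_of_mem hE₀ hu hzE, hne⟩
    · obtain ⟨u, hu, hu1⟩ := centerSocle_ne_bot (q := r) S.2 hE₀S hSE₀ hE₀ne
      obtain ⟨hu0, hu'⟩ := mem_inf.1 hu
      refine ⟨u, hu'.1, hu'.2.1, hu'.2.2 _ hzS, fun hz' => hzE ?_⟩
      have h1 : zpowers u = zpowers z := eq_of_le_of_card_ge (zpowers_le.2 hz') (by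
        rw [Nat.card_zpowers, Nat.card_zpowers, hzo, orderOf_eq_prime hu'.2.1 hu1])
      exact zpowers_le.2 hu0 (h1 ▸ mem_zpowers z)
  have hzZ : Cfsg.IsElementaryAbelian r (zpowers z) := ⟨inferInstance, fun x hx => by
    rw [← hcardz]
    exact orderOf_dvd_iff_pow_eq_one.1 (Subgroup.orderOf_dvd_natCard _ hx)⟩
  obtain ⟨hE, hlt⟩ := elementary_sup_zpowers hzZ huz.1 (mem_centralizer_iff.2 fun y hy => by
    obtain ⟨i, rfl⟩ := hy
    exact ((huz.2.1.symm).zpow_left i).eq) huz.2.2
  set E := zpowers z ⊔ zpowers u with hEdef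
  have hES : E ≤ (S : Subgroup G) := sup_le (zpowers_le.2 hzS) (zpowers_le.2 hu)
  have hzE : z ∈ E := mem_sup_left (mem_zpowers _)
  obtain ⟨V, hVS, hV, hV3, hzV⟩ : ∃ V : Subgroup G, V ≤ (S : Subgroup G) ∧
      Cfsg.IsElementaryAbelian r V ∧ r ^ 3 ≤ Nat.card V ∧ z ∈ V := by
    obtain ⟨j, hj⟩ := IsPGroup.iff_card.1 (isPGroup_of_elementary hE)
    rw [hcardz, hj] at hlt
    have hj2 : 2 ≤ j := by
      by_contra hlt'
      exact absurd hlt (not_lt.2 ((Nat.pow_le_pow_right hr.out.pos (show j ≤ 1 by omega)).trans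
        (pow_one r).le))
    rcases hj2.eq_or_lt with e | h3
    · obtain ⟨B, hBS, hB, hEB⟩ := hid S E hES hE (by rw [hj, ← e])
      refine ⟨B, hBS, hB, ?_, hEB.le hzE⟩
      obtain ⟨i, hi⟩ := IsPGroup.iff_card.1 (isPGroup_of_elementary hB)
      have h1 : Nat.card E < Nat.card B := Set.Finite.card_lt_card (Set.toFinite _) hEB
      rw [hj, hi, Nat.pow_lt_pow_iff_right hr.out.one_lt, ← e] at h1
      rw [hi]
      exact Nat.pow_le_pow_right hr.out.pos h1
    · exact ⟨E, hES, hE, hj ▸ Nat.pow_le_pow_right hr.out.pos h3, hzE⟩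
  have hU := unique_elementary_three hG hV hV3
  have hVC : V ≤ centralizer ({z} : Set G) := fun v hv => mem_centralizer_singleton_iff.2
    (commute_of_mem hV hv hzV).eq
  have hne := ms_centralizer_singleton_ne_top hG hz1
  exact ⟨le_of_unique hG hU hM (hVS.trans hSM) hVC hne,
    fun L hL hCL => hU.unique ⟨hL, hVC.trans hCL⟩ ⟨hM, hVS.trans hSM⟩⟩

section Derived

variable {L : Subgroup G} {q : ℕ} [hq : Fact q.Prime]

omit hG hp in
theorem map_commutator_self (L : Subgroup G) : ⁅L, L⁆ = (commutator L).map L.subtype := by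
  rw [_root_.commutator_def, map_commutator, ← MonoidHom.range_eq_map, range_subtype]

omit hp hq in
theorem sigmaCore_normal (L : Subgroup G) : L ≤ normalizer (Cfsg.sigmaCore L : Set G) := fun g hg => by
  have h1 : (⟨g, hg⟩ : L) ∈ normalizer (Cfsg.piCore (Cfsg.sigma L) L : Set L) := by
    rw [normalizer_eq_top]; exact mem_top _
  exact le_normalizer_map L.subtype ⟨⟨g, hg⟩, h1, rfl⟩

omit hp in
/-- Elements of coprime orders in the derived group commute modulo `M_σ`. -/
theorem derived_commute (hL : IsCoatom L) {x a : G} (hx : x ∈ ⁅L, L⁆) {n : ℕ} (hxq : x ^ q ^ n = 1)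
    (ha : a ∈ ⁅L, L⁆) (hac : (orderOf a).Coprime q) : ⁅x, a⁆ ∈ Cfsg.sigmaCore L := by
  haveI : Group.IsSolvable L := ms_solvable hG hL.1
  set Oα := Cfsg.piCore (Cfsg.alpha L) ↥L
  haveI := (alpha_quotient_commutator hG hL).1
  set D := commutator (↥L ⧸ Oα)
  set π := QuotientGroup.mk' Oα
  have hmap : (commutator L).map π ≤ D := by
    rw [_root_.commutator_def, map_commutator]
    exact commutator_mono le_top le_top
  rw [map_commutator_self] at hx ha
  obtain ⟨x', hx', rfl⟩ := hx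
  obtain ⟨a', ha', rfl⟩ := ha
  have hxD : π x' ∈ D := hmap (mem_map_of_mem π hx')
  have haD : π a' ∈ D := hmap (mem_map_of_mem π ha')
  -- in a nilpotent group elements of coprime order commute
  obtain ⟨S⟩ := (inferInstance : Nonempty (Sylow q D))
  haveI hSn : (S : Subgroup D).Normal :=
    Sylow.normal_of_normalizerCondition Group.normalizerCondition_of_isNilpotent S
  have hx1 : (⟨π x', hxD⟩ : D) ∈ (S : Subgroup D) := RankTwoTower.mem_sylow_of_normal S ⟨n, Subtype.ext (by
    show π x' ^ q ^ n = 1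
    rw [← map_pow, show x' ^ q ^ n = 1 from Subtype.ext hxq, map_one])⟩
  have hcom : (⟨π a', haD⟩ : D) ∈ centralizer (S : Set D) := by
    refine CfsgLib.Fusion.le_of_forall_prime_pow (H := zpowers (⟨π a', haD⟩ : D)) ?_ (mem_zpowers _)
    intro r hr w hw ⟨j, hj⟩
    haveI : Fact r.Prime := ⟨hr⟩
    rcases eq_or_ne r q with rfl | hne
    · have hd : orderOf w ∣ orderOf a' :=
        ((Subgroup.orderOf_dvd_natCard _ hw).trans (Nat.card_zpowers _).dvd).trans
          ((orderOf_injective D.subtype D.subtype_injective ⟨π a', haD⟩).symm.dvd.trans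
            (orderOf_map_dvd π a'))
      rw [orderOf_injective L.subtype L.subtype_injective] at hac
      have h1 : w = 1 := orderOf_eq_one_iff.1 (Nat.eq_one_of_dvd_coprimes (hac.pow_right j) hd
        (orderOf_dvd_of_pow_eq_one hj))
      rw [h1]; exact one_mem _
    · exact mem_centralizer_iff.2 fun y hy => by
        obtain ⟨i, hi⟩ := S.2 ⟨y, hy⟩
        exact (RankTwoTower.commute_of_coprime hne.symm ⟨i, congrArg Subtype.val hi⟩ ⟨j, hj⟩).eq
  have h1 : π ⁅x', a'⁆ = 1 := by
    rw [map_commutatorElement, commutatorElement_eq_one_iff_commute]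
    exact (congrArg Subtype.val (mem_centralizer_iff.1 hcom _ hx1) :)
  have h2 : ⁅x', a'⁆ ∈ Oα := (QuotientGroup.eq_one_iff _).1 h1
  exact alphaCore_le_sigmaCore hG hL ⟨_, h2, map_commutatorElement L.subtype x' a'⟩

omit hp hq in
/-- Outside `β(L)` the derived group centralizes coprimely normalized subgroups. -/
theorem derived_centralizes_non_beta (hL : IsCoatom L) {r : ℕ} [hr : Fact r.Prime]
    (hrb : r ∉ Cfsg.beta L) {R : Subgroup G} (hRL : R ≤ L) (hR : IsPGroup r R) {x : G}
    (hx : x ∈ ⁅L, L⁆) (hxr : (orderOf x).Coprime r) (hxR : x ∈ normalizer (R : Set G)) :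
    x ∈ centralizer (R : Set G) := by
  rw [map_commutator_self] at hx
  obtain ⟨x', hx', rfl⟩ := hx
  refine mem_centralizer_iff.2 fun ρ hρ => ?_
  by_cases hrL : r ∣ Nat.card L
  swap
  · obtain ⟨k, hk⟩ := IsPGroup.iff_card.1 hR
    rcases k with _ | k
    · rw [card_eq_one.1 (hk.trans (pow_zero r))] at hρ
      rw [mem_bot.1 hρ, one_mul, mul_one]
    · exact absurd ((hk ▸ dvd_pow_self r k.succ_ne_zero : r ∣ Nat.card R).trans
        (card_dvd_of_le hRL)) hrL
  have hnd := CfsgLib.Fusion.hasNormalPComplement_iff_not_dvd.1 (not_beta_data hG hL hrL hrb).2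
  haveI hDn := CfsgLib.Fusion.pResidual_normal (G := ↥(commutator L)) (p := r)
  haveI : (Cfsg.pResidual r ↥(commutator L)).Characteristic := by
    refine characteristic_iff_map_le.2 fun φ => ?_
    unfold Cfsg.pResidual
    rw [MonoidHom.map_closure]
    refine closure_mono ?_
    rintro _ ⟨w, hw, rfl⟩
    show Nat.Coprime _ _
    rw [orderOf_injective φ.toMonoidHom φ.injective]
    exact hw
  set D := (Cfsg.pResidual r ↥(commutator L)).map (commutator L).subtype with hD
  haveI : D.Normal := CfsgLib.Coprime.map_subtype_normal_of_characteristic _ _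
  rw [orderOf_injective L.subtype L.subtype_injective] at hxr
  have hxD : x' ∈ D := ⟨⟨x', hx'⟩, CfsgLib.Fusion.mem_pResidual
    (by rw [Subgroup.orderOf_mk]; exact hxr), rfl⟩
  set c : L := ⁅x', (⟨ρ, hRL hρ⟩ : L)⁆ with hc
  have hcD : c ∈ D := by
    rw [hc, commutatorElement_def, mul_assoc, mul_assoc]
    exact mul_mem hxD (by
      rw [← mul_assoc]; exact Subgroup.Normal.conj_mem inferInstance _ (inv_mem hxD) _)
  have hcR : (c : G) ∈ R := by
    show (x' : G) * ρ * (x' : G)⁻¹ * ρ⁻¹ ∈ R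
    exact mul_mem ((mem_normalizer_iff.1 hxR ρ).1 hρ) (inv_mem hρ)
  obtain ⟨k, hk⟩ := IsPGroup.iff_card.1 hR
  have hd2 : orderOf c ∣ Nat.card ↥(Cfsg.pResidual r ↥(commutator L)) :=
    (Subgroup.orderOf_dvd_natCard D hcD).trans (card_map_dvd _ _)
  have hc1 : c = 1 := orderOf_eq_one_iff.1 (Nat.eq_one_of_dvd_coprimes
    ((hr.out.coprime_iff_not_dvd.2 hnd).pow_left k)
    (by rw [← Subgroup.orderOf_coe, ← hk]; exact Subgroup.orderOf_dvd_natCard R hcR) hd2)
  rw [hc, commutatorElement_eq_one_iff_commute] at hc1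
  exact (congrArg Subtype.val hc1.symm.eq :)

omit hp in
/-- A `q`-element of the derived group centralizing `M_σ` lies in the `q`-core. -/
theorem mem_core_of_centralizes (hL : IsCoatom L) (hqs : q ∉ Cfsg.sigma L) {x : G}
    (hx : x ∈ ⁅L, L⁆) {n : ℕ} (hxq : x ^ q ^ n = 1)
    (hxC : x ∈ centralizer (Cfsg.sigmaCore L : Set G)) : x ∈ core L q := by
  set U : Subgroup G := ⁅L, L⁆ ⊓ centralizer (Cfsg.sigmaCore L : Set G) with hU
  have hUL : U ≤ L := inf_le_left.trans (commutator_le_self L)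
  have hUn : L ≤ normalizer (U : Set G) := CfsgLib.Coprime.inf_le_normalizer
    (PGroup.le_normalizer_commutator le_normalizer le_normalizer)
    ((sigmaCore_normal hG L).trans (CfsgLib.Coprime.normalizer_le_normalizer_centralizer _))
  have hnil : Group.IsNilpotent U := by
    refine isNilpotent_of_prime_powers_commute fun r s _ _ hrs u v hu hv => ?_
    obtain ⟨i, hi⟩ := hu
    obtain ⟨j, hj⟩ := hv
    have hu' : (u : G) ^ r ^ i = 1 := congrArg Subtype.val hi
    have hv' : (v : G) ^ s ^ j = 1 := congrArg Subtype.val hj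
    set c := ⁅(u : G), (v : G)⁆ with hc
    have hcS : c ∈ Cfsg.sigmaCore L := derived_commute hG (q := r) hL (mem_inf.1 u.2).1 hu'
      (mem_inf.1 v.2).1 ((((Nat.coprime_primes Fact.out Fact.out).2 hrs.symm).pow_left j).coprime_dvd_left
        (orderOf_dvd_of_pow_eq_one hv'))
    have hcu : Commute c (u : G) := mem_centralizer_iff.1 (mem_inf.1 u.2).2 c hcS
    have hcv : Commute c (v : G) := mem_centralizer_iff.1 (mem_inf.1 v.2).2 c hcS
    have h1 : c ^ s ^ j = 1 := by
      have e : (u : G) * v * (u : G)⁻¹ = c * v := by rw [hc]; group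
      have h := congrArg (fun w => w ^ s ^ j) e
      simp only [conj_pow, hcv.mul_pow, hv', mul_one, mul_inv_cancel] at h
      exact h.symm
    have h2 : c ^ r ^ i = 1 := by
      have e : (v : G) * (u : G) * (v : G)⁻¹ = c⁻¹ * u := by rw [hc]; group
      have h := congrArg (fun w => w ^ r ^ i) e
      simp only [conj_pow, hcu.inv_left.mul_pow, hu', mul_one, mul_inv_cancel, inv_pow] at h
      exact inv_eq_one.1 h.symm
    have hc1 : c = 1 := orderOf_eq_one_iff.1 (Nat.eq_one_of_dvd_coprimes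
      (Nat.Coprime.pow _ _ ((Nat.coprime_primes Fact.out Fact.out).2 hrs.symm))
      (orderOf_dvd_of_pow_eq_one h1) (orderOf_dvd_of_pow_eq_one h2))
    exact Subtype.ext (commutatorElement_eq_one_iff_commute.1 hc1).eq
  haveI : (U.subgroupOf L).Normal := (normal_subgroupOf_iff_le_normalizer hUL).2 hUn
  haveI := hnil
  haveI : Group.IsNilpotent (U.subgroupOf L) :=
    Group.nilpotent_of_mulEquiv (subgroupOfEquivOfLe hUL).symm
  obtain ⟨Q⟩ := (inferInstance : Nonempty (Sylow q (U.subgroupOf L)))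
  haveI hQn : (Q : Subgroup (U.subgroupOf L)).Normal :=
    Sylow.normal_of_normalizerCondition Group.normalizerCondition_of_isNilpotent Q
  haveI := Q.characteristic_of_normal hQn
  haveI : ((Q : Subgroup (U.subgroupOf L)).map (U.subgroupOf L).subtype).Normal :=
    CfsgLib.Coprime.map_subtype_normal_of_characteristic (U.subgroupOf L)
      (Q : Subgroup (U.subgroupOf L))
  have hxU : x ∈ U := mem_inf.2 ⟨hx, hxC⟩
  refine ⟨⟨x, hUL hxU⟩, CfsgLib.Coprime.le_pCore (Q.2.map (U.subgroupOf L).subtype) ?_, rfl⟩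
  exact ⟨⟨⟨x, hUL hxU⟩, hxU⟩, RankTwoTower.mem_sylow_of_normal Q
    ⟨n, Subtype.ext (Subtype.ext hxq)⟩, rfl⟩

end Derived

section MaxElementary

variable {A : Subgroup G} (hAe : Cfsg.IsElementaryAbelian p A) (hA2 : Nat.card A = p ^ 2)
  (hAmax : ∀ B : Subgroup G, Cfsg.IsElementaryAbelian p B → A ≤ B → B = A)
include hAe hA2 hAmax

omit hG in
theorem mem_of_pow {u : G} (hu : u ^ p = 1) (huC : u ∈ centralizer (A : Set G)) : u ∈ A := by
  by_contra hn
  obtain ⟨h1, h2⟩ := elementary_sup_zpowers hAe hu huC hn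
  rw [hAmax _ h1 le_sup_left] at h2
  exact lt_irrefl _ h2

omit hAmax in
theorem dvd_card : p ∣ Nat.card G :=
  ((hA2 ▸ dvd_pow_self p two_ne_zero : p ∣ Nat.card A)).trans (card_subgroup_dvd_card A)

theorem transitivityHypothesis : Cfsg.TransitivityHypothesis A :=
  Cfsg.Agent.S1396.result hG p (dvd_card hG hAe hA2) A (isPGroup_of_elementary hAe) hAe.1
    (Or.inl ⟨fun x hx => ⟨fun h => mem_of_pow hAe hA2 hAmax h hx, fun h => hAe.2 x h⟩,
      fun H hH => Cfsg.Agent.S1410.result hG p H hH⟩)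

omit hAmax in
theorem not_rankLE_one_center : ¬ Cfsg.RankLE 1 ↥(A ⊓ centralizer (A : Set G)) := by
  intro h
  have hle : A ≤ A ⊓ centralizer (A : Set G) := le_inf le_rfl (le_centralizer_of_comm hAe.1)
  refine not_pRankLE_of_elementary hle hAe ?_ (h p hp.out)
  rw [hA2]
  exact Nat.pow_lt_pow_right hp.out.one_lt one_lt_two

/-- The action of `N(A)` on `A`: either its image moves everything or a line is fixed by the
normalizer of a Sylow subgroup. -/
theorem normalizer_action {A₀ : Subgroup G} (hA₀ : A₀ ≤ A)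
    (h : ⁅A, normalizer (A : Set G)⁆ ≤ A₀) :
    A₀ = A ∨ (Nat.card A₀ = p ∧
      ∃ P : Sylow p G, normalizer ((P : Subgroup G) : Set G) ≤ normalizer (A₀ : Set G)) := by
  obtain ⟨P, hAP⟩ := (isPGroup_of_elementary hAe).exists_le_sylow
  have hp2 : p ≠ 2 := ms_ne_two hG (dvd_card hG hAe hA2)
  set Z := centerSocle (P : Subgroup G) p with hZ
  have hZA : Z ≤ A := fun z hz => mem_of_pow hAe hA2 hAmax hz.2.1
    (mem_centralizer_iff.2 fun a ha => (hz.2.2 a (hAP ha)).symm.eq)
  have hNZ := normalizer_le_normalizer_centerSocle (P : Subgroup G) p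
  by_cases hZeq : Z = A
  · refine Or.inl (le_antisymm hA₀ ?_)
    have hcen : ∀ a ∈ A, ∀ y ∈ (P : Subgroup G), Commute a y := fun a ha => (hZeq.ge ha).2.2
    -- the rank of `P` is two, so `P` is abelian
    have hrk : Cfsg.PRankLE p 2 ↥(P : Subgroup G) := by
      intro E hEc hEe
      haveI := hEc
      have hsub : E.map (P : Subgroup G).subtype ≤ A := by
        rintro _ ⟨e, he, rfl⟩
        exact mem_of_pow hAe hA2 hAmax (congrArg Subtype.val (hEe e he) :)
          (mem_centralizer_iff.2 fun a ha => (hcen a ha _ e.2).eq)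
      rw [← card_map_of_injective (P : Subgroup G).subtype_injective, ← hA2]
      exact card_le_of_le hsub
    have hPab : IsMulCommutative (P : Subgroup G) := by
      rcases Cfsg.Agent.S1412.result hG p P hrk with h1 | ⟨P₁, P₂, hsup, -, hna, -, hexp, -, -⟩
      · exact h1
      · exfalso
        refine hna ⟨⟨fun a b => Subtype.ext ?_⟩⟩
        have hP₁ : P₁ ≤ (P : Subgroup G) := hsup ▸ le_sup_left
        have haA : ∀ a : P₁, (a : G) ∈ A := fun a => mem_of_pow hAe hA2 hAmax
          (by rw [← hexp]; exact (congrArg Subtype.val (Monoid.pow_exponent_eq_one a) :))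
          (mem_centralizer_iff.2 fun w hw => (hcen w hw _ (hP₁ a.2)).eq)
        exact (commute_of_mem hAe (haA a) (haA b)).eq
    set N := normalizer ((P : Subgroup G) : Set G) with hN
    have hNA : N ≤ normalizer (A : Set G) := hZeq ▸ hNZ
    have hPN := sylow_le_commutator_normalizer hG P
    have hPn : ((P : Subgroup G).subgroupOf N).Normal :=
      (normal_subgroupOf_iff_le_normalizer le_normalizer).2 le_rfl
    have hcop : (Nat.card ↥((P : Subgroup G).subgroupOf N)).Coprime
        ((P : Subgroup G).subgroupOf N).index := by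
      obtain ⟨k, hk⟩ := IsPGroup.iff_card.1 P.2
      rw [Nat.card_congr (subgroupOfEquivOfLe le_normalizer).toEquiv, hk]
      exact (hp.out.coprime_iff_not_dvd.2 fun hd =>
        P.not_dvd_index (hd.trans (relIndex_dvd_index_of_le le_normalizer))).pow_left k
    obtain ⟨V₀, hV₀⟩ := exists_right_complement'_of_coprime hcop
    set V := V₀.map N.subtype with hV
    have hVN : V ≤ N := map_subtype_le _
    have hPV : (P : Subgroup G) = ⁅(P : Subgroup G), V⁆ := (Cfsg.Agent.S1411.result hG p P V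
      ⟨le_normalizer, hVN, le_bot_iff.1 fun x ⟨hxP, y, hy, e⟩ => by
          have h1 : y ∈ ((P : Subgroup G).subgroupOf N) ⊓ V₀ :=
            ⟨by change N.subtype y ∈ (P : Subgroup G); rw [e]; exact hxP, hy⟩
          rw [disjoint_iff.1 hV₀.disjoint, mem_bot] at h1
          rw [← e, h1]; exact mem_bot.2 rfl,
        fun m hm => by
          obtain ⟨⟨⟨a, ha⟩, ⟨b, hb⟩⟩, e⟩ := hV₀.2 ⟨m, hm⟩
          exact ⟨a, ha, b, mem_map_of_mem _ hb, (congrArg Subtype.val e).symm⟩⟩).1
    have hVc : (Nat.card V).Coprime p := by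
      refine (hp.out.coprime_iff_not_dvd.2 fun hd => ?_).symm
      rw [hV, card_map_of_injective N.subtype_injective, ← hV₀.symm.index_eq_card] at hd
      exact P.not_dvd_index (hd.trans (relIndex_dvd_index_of_le le_normalizer))
    have hcopP : (Nat.card V).Coprime (Nat.card ↥(P : Subgroup G)) := by
      obtain ⟨k, hk⟩ := IsPGroup.iff_card.1 P.2
      rw [hk]; exact hVc.pow_right k
    have hbot := CfsgLib.Coprime.centralizer_inf_commutator_eq_bot hPab hVN hcopP
    rw [← hPV] at hbot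
    have hA₀0 : ∀ a ∈ A, a ∈ ⁅A, V⁆ ⊔ (A ⊓ centralizer (V : Set G)) := fun a ha =>
      (CfsgLib.Coprime.commutator_sup_centralizer (hVN.trans hNA)
        (hcopP.coprime_dvd_right (card_dvd_of_le hAP))
        (Or.inr (CfsgLib.Coprime.isSolvable_of_isMulCommutative hAe.1))).ge ha
    intro a ha
    refine (show ⁅A, V⁆ ⊔ (A ⊓ centralizer (V : Set G)) ≤ A₀ from
      sup_le ((commutator_mono le_rfl (hVN.trans hNA)).trans h) ?_) (hA₀0 a ha)
    intro c hc
    have h2 : c ∈ ((P : Subgroup G) ⊓ centralizer (V : Set G)) ⊓ (P : Subgroup G) :=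
      ⟨⟨hAP hc.1, hc.2⟩, hAP hc.1⟩
    rw [hbot, mem_bot] at h2
    rw [h2]; exact one_mem _
  -- a line is central in `P`
  have hAC : ¬ (P : Subgroup G) ≤ centralizer (A : Set G) := fun hle => hZeq (le_antisymm hZA
    fun a ha => ⟨hAP ha, hAe.2 a ha, fun y hy => mem_centralizer_iff.1 (hle hy) a ha⟩)
  set C := (P : Subgroup G) ⊓ centralizer (A : Set G) with hC
  haveI : Group.IsNilpotent ↥(P : Subgroup G) := P.2.isNilpotent
  obtain ⟨g, hg, hgN, hgC⟩ : ∃ g, g ∈ (P : Subgroup G) ∧ g ∈ normalizer (C : Set G) ∧ g ∉ C := by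
    have h1 := Group.normalizerCondition_of_isNilpotent (G := ↥(P : Subgroup G))
      (C.subgroupOf P) (lt_top_iff_ne_top.2 fun e => hAC
        (le_trans (subgroupOf_eq_top.1 e) inf_le_right))
    obtain ⟨g, hg, hg'⟩ := SetLike.exists_of_lt h1
    exact ⟨g, g.2, mem_normalizer_iff.2 fun z => ⟨fun hz => by
        have := (mem_normalizer_iff.1 hg ⟨z, (mem_inf.1 hz).1⟩).1 hz
        exact this, fun hz => by
        have hzP : z ∈ (P : Subgroup G) := by
          have := mul_mem (mul_mem (inv_mem g.2) (mem_inf.1 hz).1) g.2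
          rwa [show (g : G)⁻¹ * ((g : G) * z * (g : G)⁻¹) * g = z by group] at this
        exact (mem_normalizer_iff.1 hg ⟨z, hzP⟩).2 hz⟩, hg'⟩
  have hgA : g ∈ normalizer (A : Set G) := by
    refine CfsgLib.Coprime.conjBy_eq_self_iff.1 (eq_of_le_of_card_ge (fun x hx => ?_)
      (CfsgLib.Coprime.card_conjBy g A).ge)
    obtain ⟨a, ha, rfl⟩ := hx
    have haC : a ∈ C := ⟨hAP ha, le_centralizer_of_comm hAe.1 ha⟩
    exact mem_of_pow hAe hA2 hAmax (by rw [← map_pow, hAe.2 a ha, map_one])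
      (mem_inf.1 ((mem_normalizer_iff.1 hgN a).1 haC)).2
  rcases card_pSq_cases hA2 hA₀ with h0 | h0 | h0
  · exfalso
    rw [h0, le_bot_iff] at h
    refine hgC ⟨hg, mem_centralizer_iff.2 fun a ha => ?_⟩
    exact (commutatorElement_eq_one_iff_mul_comm.1
      (mem_bot.1 (h ▸ commutator_mem_commutator ha hgA)))
  · refine Or.inr ⟨h0, P, ?_⟩
    suffices hA₀Z : A₀ = Z by rw [hA₀Z]; exact hNZ
    have hg0 : g ∈ normalizer (A₀ : Set G) := by
      refine CfsgLib.Coprime.conjBy_eq_self_iff.1 (eq_of_le_of_card_ge (fun x hx => ?_)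
        (CfsgLib.Coprime.card_conjBy g A₀).ge)
      obtain ⟨a, ha, rfl⟩ := hx
      have h1 := inv_mem (h (commutator_mem_commutator (hA₀ ha) hgA))
      rw [commutatorElement_inv] at h1
      show g * a * g⁻¹ ∈ A₀
      rw [show g * a * g⁻¹ = ⁅g, a⁆ * a by group]
      exact mul_mem h1 ha
    -- a `p`-element fixes a line pointwise
    have hfixA₀ : g ∈ centralizer (A₀ : Set G) := by
      have hcyc := isCyclic_line h0
      refine mem_centralizer_iff.2 fun a ha => ?_
      by_contra hne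
      have hR : IsPGroup p ↥(A₀ ⊔ zpowers g) := P.2.to_le
        (sup_le (hA₀.trans hAP) (zpowers_le.2 hg))
      have hlt := Narrow.commutator_lt (R := A₀ ⊔ zpowers g) hR le_sup_left
        (sup_le le_normalizer (zpowers_le.2 hg0)) (line_ne_bot h0)
      rcases card_pSq_cases hA2 (hlt.le.trans hA₀) with e | e | e
      · exact hne (commutatorElement_eq_one_iff_mul_comm.1 (mem_bot.1 (e ▸
          commutator_mem_commutator ha (mem_sup_right (mem_zpowers g)))))
      · exact hlt.ne (eq_of_le_of_card_ge hlt.le (by rw [h0, e]))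
      · exact hlt.ne (le_antisymm hlt.le (hA₀.trans e.ge))
    refine eq_of_le_of_card_ge ?_ ?_ |>.symm
    · -- central elements of order `p` are fixed by `g`
      intro z hz
      by_contra hzn
      have hz1 : z ≠ 1 := fun e => hzn (e ▸ one_mem A₀)
      have hsup := sup_lines hA2 hA₀ (zpowers_le.2 (hZA hz)) h0
        (zpowers_card hAe (hZA hz) hz1) (fun e => hzn (e ▸ mem_zpowers z))
      refine hgC ⟨hg, le_centralizer_iff.1 (hsup.ge.trans (sup_le ?_ ?_)) (mem_zpowers g)⟩
      · exact le_centralizer_iff.1 (zpowers_le.2 hfixA₀)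
      · exact zpowers_le.2 (mem_centralizer_iff.2 fun y hy => by
          obtain ⟨i, rfl⟩ := hy
          exact ((hz.2.2 g hg).symm.zpow_left i).eq)
    · obtain ⟨z, hz, hz1⟩ := centerSocle_ne_bot (q := p) P.2 (le_refl (P : Subgroup G)) le_normalizer
        (fun e => hAC (e ▸ bot_le))
      rw [h0, ← zpowers_card hAe (hZA (mem_inf.1 hz).2) hz1]
      exact card_le_of_le (zpowers_le.2 (mem_inf.1 hz).2)
  · exact Or.inl h0

end MaxElementary

end MinSimple

end CfsgLib.CFun.TauTwo
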