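import Cfsg.Agent.Lib.CFun.OddTauTwoTheorem

/-!
# A maximal subgroup none of whose lines in `A` determine it
-/

set_option autoImplicit false
set_option linter.style.haveILetI false
set_option linter.unusedSectionVars false

open Subgroup
open scoped commutatorElement
open CfsgLib.Coprime (conjBy conjBy_conjBy conjBy_one mem_conjBy conj_mem_conjBy IsSylowIn)

namespace CfsgLib.CFun.TauTwo

universe u

variable {G : Type u} [Group G] [Finite G] {p : ℕ} [hp : Fact p.Prime]

theorem exists_conjBy_sylow {q : ℕ} [Fact q.Prime] (S T : Sylow q G) :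
    ∃ g : G, (T : Subgroup G) = conjBy g (S : Subgroup G) := by
  obtain ⟨g, hg⟩ := MulAction.exists_smul_eq G S T
  exact ⟨g, by rw [← hg]; rfl⟩

theorem isCoatom_conjBy {M : Subgroup G} (g : G) (hM : IsCoatom M) : IsCoatom (conjBy g M) :=
  (OrderIso.isCoatom_iff (MulAut.conj g).mapSubgroup M).2 hM

theorem normalizer_conjBy (g : G) (X : Subgroup G) :
    normalizer ((conjBy g X : Subgroup G) : Set G) = conjBy g (normalizer (X : Set G)) :=
  (map_equiv_normalizer_eq X (MulAut.conj g)).symm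

theorem exists_line_not_le {A Y W : Subgroup G} (hA : Cfsg.IsElementaryAbelian p A)
    (hA2 : Nat.card A = p ^ 2) (hAY : A ≤ normalizer (Y : Set G))
    (hcop : (Nat.card A).Coprime (Nat.card Y)) (h : ¬ Y ≤ W) :
    ∃ B : Subgroup G, B ≤ A ∧ Nat.card B = p ∧ ¬ Y ⊓ centralizer (B : Set G) ≤ W := by
  by_contra h'
  push_neg at h'
  exact h (le_of_lines hA hA2 hAY hcop h')

section MinSimple

variable (hG : Cfsg.IsMinSimpleOddOrder G) {M : Subgroup G}
include hG

section Main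

variable {A : Subgroup G} (hM : IsCoatom M) (hAM : A ≤ M) (hAe : Cfsg.IsElementaryAbelian p A)
  (hA2 : Nat.card A = p ^ 2)
  (hbad : ∀ A₀ : Subgroup G, A₀ ≤ A → Nat.card A₀ = p →
    ∃ L : Subgroup G, IsCoatom L ∧ L ≠ M ∧ normalizer (A₀ : Set G) ≤ L)
include hM hAM hAe hA2 hbad

theorem exists_other {A₀ : Subgroup G} (hA₀ : A₀ ≤ A) (hc : Nat.card A₀ = p) :
    ∃ L : Subgroup G, IsCoatom L ∧ L ≠ M ∧ normalizer (A₀ : Set G) ≤ L ∧ A ≤ L ∧
      centralizer (A₀ : Set G) ≤ L ∧ centralizer (A : Set G) ≤ L := by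
  obtain ⟨L, hL, hLM, hNL⟩ := hbad A₀ hA₀ hc
  have hCL := (CfsgLib.Coprime.centralizer_le_normalizer_self A₀).trans hNL
  exact ⟨L, hL, hLM, hNL, (le_centralizer_line hAe hA₀).trans hCL, hCL,
    (centralizer_le hA₀).trans hCL⟩

theorem exists_line : ∃ A₀ : Subgroup G, A₀ ≤ A ∧ Nat.card A₀ = p := by
  obtain ⟨a, ha, ha1⟩ := (bot_or_exists_ne_one A).resolve_left fun e => by
    rw [e, card_bot] at hA2
    exact (Nat.one_lt_pow two_ne_zero hp.out.one_lt).ne hA2
  exact ⟨zpowers a, zpowers_le.2 ha, zpowers_card hAe ha ha1⟩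

theorem not_unique_inf : ¬ Cfsg.InUniqueMaximal (M ⊓ centralizer (A : Set G)) := by
  intro hU
  obtain ⟨A₀, hA₀, hc⟩ := exists_line hG hM hAM hAe hA2 hbad
  obtain ⟨L, hL, hLM, -, -, -, hCL⟩ := exists_other hG hM hAM hAe hA2 hbad hA₀ hc
  exact hLM (hU.unique ⟨hL, inf_le_right.trans hCL⟩ ⟨hM, inf_le_left⟩)

theorem maximal_elementary {B : Subgroup G} (hB : Cfsg.IsElementaryAbelian p B) (hAB : A ≤ B) :
    B = A := by
  by_contra hne
  refine not_unique_inf hG hM hAM hAe hA2 hbad (inUniqueMaximal_mono hG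
    (unique_of_not_max hG hAe hA2 hB hAB hne) (le_inf hAM (le_centralizer_of_comm hAe.1))
    (ne_top_of_le_ne_top hM.1 inf_le_left))

theorem not_mem_alpha : p ∉ Cfsg.alpha M := by
  intro hα
  obtain ⟨P, hP⟩ := ((isPGroup_of_elementary hAe).of_equiv
    (subgroupOfEquivOfLe hAM).symm).exists_le_sylow
  set T := (P : Subgroup M).map M.subtype with hT
  have hAT : A ≤ T := fun a ha => ⟨⟨a, hAM ha⟩, hP ha, rfl⟩
  have hTp : IsPGroup p T := P.2.map _
  have hT3 : ¬ Cfsg.PRankLE p 2 T := fun h => hα.2 (pRankLE_of_sylow P h)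
  obtain ⟨V, hV, hVe, hV3⟩ := exists_elementary_of_not_pRankLE hT3
  have hT1 : T ≠ ⊥ := fun e => by
    have h1 := card_le_of_le (hAT.trans e.le)
    rw [hA2, card_bot] at h1
    nlinarith [hp.out.two_le]
  obtain ⟨z, ⟨-, hz⟩, hz1⟩ := centerSocle_ne_bot (q := p) hTp le_rfl le_normalizer hT1
  have hzA : z ∈ A := mem_of_pow hAe hA2 (fun _ h1 h2 => maximal_elementary hG hM hAM hAe hA2 hbad h1 h2)
    hz.2.1 (mem_centralizer_iff.2 fun a ha => (hz.2.2 a (hAT ha)).symm.eq)
  obtain ⟨L, hL, hLM, -, -, hCL, -⟩ := exists_other hG hM hAM hAe hA2 hbad (zpowers_le.2 hzA)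
    (zpowers_card hAe hzA hz1)
  refine hLM ((unique_elementary_three hG hVe hV3.ge).unique ⟨hL, ?_⟩
    ⟨hM, hV.trans (map_subtype_le _)⟩)
  refine le_trans ?_ hCL
  rw [centralizer_zpowers]
  exact fun v hv => mem_centralizer_singleton_iff.2 (hz.2.2 v (hV hv)).eq.symm

theorem alpha_empty : ∀ q, q ∉ Cfsg.alpha M := by
  intro q hqα
  haveI : Fact q.Prime := ⟨hqα.1⟩
  have hpα := not_mem_alpha hG hM hAM hAe hA2 hbad
  have hqp : q ≠ p := fun e => hpα (e ▸ hqα)
  have hAmax := fun B => maximal_elementary hG hM hAM hAe hA2 hbad (B := B)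
  have hAp := isPGroup_of_elementary hAe
  have hαM : Cfsg.alphaCore M ≤ M := map_subtype_le _
  haveI := ms_solvable hG hM.1
  have hcop : (Nat.card A).Coprime (Nat.card (Cfsg.alphaCore M)) := by
    rw [hA2]
    exact (hp.out.coprime_iff_not_dvd.2 fun h =>
      hpα ((alphaCore_hall hG hM).1.2.1 p hp.out h)).pow_left 2
  have hAα : A ≤ normalizer (Cfsg.alphaCore M : Set G) :=
    hAM.trans ((normal_subgroupOf_iff_le_normalizer hαM).1 (by
      rw [Cfsg.alphaCore, Subgroup.subgroupOf, comap_map_eq_self_of_injective M.subtype_injective]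
      infer_instance))
  obtain ⟨Q, hQ, hAQ⟩ := CfsgLib.Coprime.exists_invariant_sylow hAα hcop
    (Or.inr (CfsgLib.Coprime.isSolvable_of_le hαM inferInstance)) q
  obtain ⟨S, rfl⟩ := sylow_of_hall (alphaCore_hall hG hM).2 hqα hQ
  have hSM : (S : Subgroup G) ≤ M := hQ.1.trans hαM
  have hS3 : ¬ Cfsg.PRankLE q 2 ↥(S : Subgroup G) := fun h => hqα.2 (by
    refine pRankLE_of_sylow (S.subtype hSM) ?_
    rwa [Sylow.coe_subtype, map_subgroupOf_eq_of_le hSM])
  obtain ⟨V, hV, hVe, hV3⟩ := exists_elementary_of_not_pRankLE hS3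
  have hVU := unique_elementary_three hG hVe hV3.ge
  have hSnc : ¬ IsCyclic ↥(S : Subgroup G) := fun hc => by
    have h1 := card_le_of_cyclic hc hV hVe.2
    rw [hV3] at h1
    exact absurd h1 (not_le.2 (lt_self_pow₀ hqα.1.one_lt (by norm_num)))
  have hq2 : q ≠ 2 := ms_ne_two hG ((hV3 ▸ dvd_pow_self q (Nat.succ_ne_zero 2) :
    q ∣ Nat.card V).trans (card_subgroup_dvd_card V))
  set U := upperSocle hqα.1 hq2 (S : Subgroup G) with hU
  have hUS : U ≤ (S : Subgroup G) := upperSocle_le _ _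
  have hUe : ∀ u ∈ U, u ^ q = 1 := fun u hu => hu.2.1
  have hAU : A ≤ normalizer (U : Set G) := hAQ.trans (le_normalizer_upperSocle _ _ _)
  have hUA : ¬ U ≤ centralizer (A : Set G) := by
    intro hle
    have hUC : U ≤ Cfsg.alphaCore M ⊓ centralizer (A : Set G) := le_inf (hUS.trans hQ.1) hle
    by_cases hUc : IsCyclic U
    · exact absurd (card_le_of_cyclic hUc le_rfl hUe) (not_le.2 (lt_card_upperSocle hq2 S.2 hSnc))
    obtain ⟨E, hE, -, hEe, hE2⟩ := exists_normal_elementary_two hq2 (S.2.to_le hUS) hUc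
    refine not_unique_inf hG hM hAM hAe hA2 hbad (alpha_centralizer_unique hG hM hAM ?_ fun h =>
      not_pRankLE_of_elementary (hE.trans hUC) hEe ?_ (h q hqα.1))
    · intro s hs hd
      rw [(Nat.prime_dvd_prime_iff_eq hs hp.out).1 (hs.dvd_of_dvd_pow (hA2 ▸ hd))]
      exact hpα
    · rw [hE2]; exact Nat.pow_lt_pow_right hqα.1.one_lt one_lt_two
  have hcopU : (Nat.card A).Coprime (Nat.card U) := coprime_of_primes hqp hAp (S.2.to_le hUS)
  obtain ⟨B, hB, hBc, hBU⟩ := exists_line_not_le hAe hA2 hAU hcopU hUA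
  obtain ⟨L, hL, hLM, hNB, hAL, hCB, -⟩ := exists_other hG hM hAM hAe hA2 hbad hB hBc
  set Y := U ⊓ centralizer (B : Set G) with hY
  have hAY : A ≤ normalizer (Y : Set G) := le_inf_centralizer_line hAe hB hAU
  set X : Subgroup G := ⁅Y, A⁆ with hX
  have hXY : X ≤ Y := le_normalizer_iff_commutator_le_left.1 hAY
  have hYq : IsPGroup q Y := S.2.to_le (inf_le_left.trans hUS)
  have hXq : IsPGroup q X := hYq.to_le hXY
  have hX1 : X ≠ ⊥ := fun e => hBU (commutator_eq_bot_iff_le_centralizer.1 e)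
  have hXA : (⁅X, A⁆ : Subgroup G) = X := CfsgLib.Coprime.commutator_commutator_eq hAY
    (coprime_of_primes hqp hAp hYq)
    (Or.inl (CfsgLib.Coprime.isSolvable_of_isMulCommutative hAe.1))
  have hAX : A ≤ normalizer (X : Set G) := PGroup.le_normalizer_commutator hAY le_normalizer
  have hXB : X ≤ centralizer (B : Set G) := hXY.trans inf_le_right
  have hXL : X ≤ L := hXB.trans hCB
  obtain ⟨w, hw, hw1⟩ := (bot_or_exists_ne_one X).resolve_left hX1
  obtain ⟨E, hEU, hEM, hEw⟩ := centralizer_upperSocle_le hG hM hq2 S.2 hSM hS3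
    (show w ∈ upperSocle (Fact.out : q.Prime) hq2 (S : Subgroup G) from (hXY.trans inf_le_left) hw)
  have hCw : centralizer ({w} : Set G) ≤ M :=
    le_of_unique hG hEU hM hEM hEw (ms_centralizer_singleton_ne_top hG hw1)
  have hqσM : q ∈ Cfsg.sigma M := alpha_subset_sigma hG hM hqα
  have hqσL : q ∉ Cfsg.sigma L := by
    intro hqσL
    obtain ⟨T, hXT, hTL⟩ := exists_sylow_of_sigma hG hL hqσL hXq hXL
    obtain ⟨g, hg⟩ := exists_conjBy_sylow S T
    have hST : (S : Subgroup G) ≤ conjBy g⁻¹ L := by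
      intro s hs
      rw [mem_conjBy, inv_inv]
      exact hTL (hg.ge (conj_mem_conjBy hs))
    have e : conjBy g⁻¹ L = M := hVU.unique ⟨isCoatom_conjBy _ hL, hV.trans hST⟩ ⟨hM, hV.trans hSM⟩
    have hgX : conjBy g⁻¹ X ≤ M := e ▸ map_mono hXL
    obtain ⟨m, hm, c, hc, hmc⟩ := sigma_fusion hG hM hqσM hXq hX1
      (hXY.trans (inf_le_left.trans (hUS.trans hSM))) hgX
    have hcM : c ∈ M := hCw (centralizer_le (Set.singleton_subset_iff.2 hw) hc)
    have hgM : g ∈ M := by
      rw [← inv_inv g]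
      exact inv_mem (hmc ▸ mul_mem hm hcM)
    apply hLM
    have h2 : conjBy g (conjBy g⁻¹ L) = conjBy g M := by rw [e]
    rw [conjBy_conjBy, mul_inv_cancel, conjBy_one,
      CfsgLib.Coprime.conjBy_eq_self_iff.2 (le_normalizer hgM)] at h2
    exact h2
  have hσC : Cfsg.sigmaCore L ≤ centralizer (X : Set G) :=
    sigmaCore_le_centralizer hG hAe hA2 hAmax hL hAL hB hBc hNB hXL hXq hqp hqσL hAX hXA hB hBc hXB
      fun hNA => (commutator_normalizer_le hG hAe hA2 hL hAL hXL hXq hAX hXA hqσL hqp hNA).trans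
        (inf_centralizer_eq_line hAe hA2 hXA hX1 hB hBc hXB).le
  have hXO := le_core_of_centralizes hG hL hqσL hXq (hXA.ge.trans (commutator_mono hXL hAL)) hσC
  have hXe : ∀ x ∈ X, x ^ q = 1 := fun x hx => hUe x ((hXY.trans inf_le_left) hx)
  have hNX := normalizer_eq_of_le_core hG hL hqσL hXO hXe hX1
  have hXc := card_le_of_cyclic (core_cyclic hG hL hqσL) hXO hXe
  have hXw : X = zpowers w := (eq_of_le_of_card_ge (zpowers_le.2 hw) (hXc.trans_eq (by
    rw [Nat.card_zpowers, orderOf_eq_prime (hXe w hw) hw1]))).symm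
  have hXne : normalizer (X : Set G) ≠ ⊤ := hNX.symm ▸ hL.1
  have h1 : normalizer (X : Set G) ≤ M := le_of_unique hG hEU hM hEM (by
    rw [hXw]
    exact (hEw.trans (centralizer_zpowers w).ge).trans
      (CfsgLib.Coprime.centralizer_le_normalizer_self _)) hXne
  rw [hNX] at h1
  exact hLM ((hL.le_iff.1 h1).resolve_left hM.1).symm

theorem sigma_mem : p ∈ Cfsg.sigma M := by
  by_contra hpσ
  have hα := alpha_empty hG hM hAM hAe hA2 hbad
  have hAmax := fun B => maximal_elementary hG hM hAM hAe hA2 hbad (B := B)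
  have hAp := isPGroup_of_elementary hAe
  have hC : Cfsg.sigmaCore M ⊓ centralizer (A : Set G) = ⊥ := by
    by_contra hne
    obtain ⟨r, hr, hrd⟩ := Nat.exists_prime_and_dvd fun e => hne (card_eq_one.1 e)
    haveI : Fact r.Prime := ⟨hr⟩
    exact hpσ (mem_sigma_of_fixed hG hAe hA2 hAmax hM hAM
      ((sigmaCore_hall hG hM).1.2.1 r hr (hrd.trans (card_dvd_of_le inf_le_left))) hrd (Or.inr hα))
  obtain ⟨q, hq, hqd⟩ := Nat.exists_prime_and_dvd
    fun e => sigmaCore_ne_bot hG hM (card_eq_one.1 e)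
  haveI : Fact q.Prime := ⟨hq⟩
  have hqσ := (sigmaCore_hall hG hM).1.2.1 q hq hqd
  have hqp : q ≠ p := fun e => hpσ (e ▸ hqσ)
  haveI := sigmaCore_solvable hG hM
  have hcop : (Nat.card A).Coprime (Nat.card (Cfsg.sigmaCore M)) := by
    rw [hA2]
    exact (hp.out.coprime_iff_not_dvd.2 (not_dvd_sigmaCore hG hM hpσ)).pow_left 2
  obtain ⟨Q, hQ, hAQ⟩ := CfsgLib.Coprime.exists_invariant_sylow
    (hAM.trans (sigmaCore_normal hG M)) hcop (Or.inr inferInstance) q
  obtain ⟨S, rfl⟩ := sylow_of_hall (sigmaCore_hall hG hM).2 hqσ hQ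
  have hSM : (S : Subgroup G) ≤ M := hQ.1.trans (map_subtype_le _)
  have hS1 : (S : Subgroup G) ≠ ⊥ := fun e => by
    have h1 : (S : Subgroup G).index = Nat.card G := by rw [e, index_bot]
    exact S.not_dvd_index (h1 ▸ hqd.trans (card_subgroup_dvd_card _))
  have hNS := sylow_normal_of_derived hG hM hα S (hQ.1.trans (sigmaCore_le_derived hG hM)) hS1
  have hq2 : q ≠ 2 := ms_ne_two hG (hqd.trans (card_subgroup_dvd_card _))
  have hsolA : Group.IsSolvable A := CfsgLib.Coprime.isSolvable_of_isMulCommutative hAe.1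
  -- a moved subgroup of `S` is the whole of it
  have hmoved : ∀ Y : Subgroup G, Y ≤ (S : Subgroup G) → A ≤ normalizer (Y : Set G) →
      (⁅Y, A⁆ : Subgroup G) = Y := by
    intro Y hY hAY
    have h1 := CfsgLib.Coprime.commutator_sup_centralizer hAY
      (coprime_of_primes hqp hAp (S.2.to_le hY)) (Or.inl hsolA)
    rwa [show Y ⊓ centralizer (A : Set G) = ⊥ from le_bot_iff.1
      ((inf_le_inf_right _ (hY.trans hQ.1)).trans hC.le), sup_bot_eq] at h1
  set Z := centerSocle (S : Subgroup G) q with hZ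
  have hZS : Z ≤ (S : Subgroup G) := centerSocle_le
  have hAZ : A ≤ normalizer (Z : Set G) := hAQ.trans (normalizer_le_normalizer_centerSocle _ _)
  obtain ⟨z, ⟨-, hz⟩, hz1⟩ := centerSocle_ne_bot (q := q) S.2 le_rfl le_normalizer hS1
  obtain ⟨B, hB, hBc, hBZ⟩ := exists_line_not_le (W := (⊥ : Subgroup G)) hAe hA2 hAZ
    (coprime_of_primes hqp hAp (S.2.to_le hZS)) fun h => hz1 (mem_bot.1 (h hz))
  obtain ⟨L, hL, hLM, hNB, hAL, hCB, hCL⟩ := exists_other hG hM hAM hAe hA2 hbad hB hBc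
  set X := Z ⊓ centralizer (B : Set G) with hX
  have hXS : X ≤ (S : Subgroup G) := inf_le_left.trans hZS
  have hAX : A ≤ normalizer (X : Set G) := le_inf_centralizer_line hAe hB hAZ
  have hXA := hmoved X hXS hAX
  have hX1 : X ≠ ⊥ := fun e => hBZ e.le
  have hXq : IsPGroup q X := S.2.to_le hXS
  have hXL : X ≤ L := inf_le_right.trans hCB
  have hXe : ∀ x ∈ X, x ^ q = 1 := fun x hx => hx.1.2.1
  have hSX : (S : Subgroup G) ≤ centralizer (X : Set G) := fun s hs =>
    mem_centralizer_iff.2 fun x hx => (hx.1.2.2 s hs).eq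
  have hqσL : q ∉ Cfsg.sigma L := by
    intro hqσL
    obtain ⟨T, hXT, hTL⟩ := exists_sylow_of_sigma hG hL hqσL hXq hXL
    obtain ⟨g, hg⟩ := exists_conjBy_sylow S T
    have hNT : normalizer ((T : Subgroup G) : Set G) = L := by
      refine le_antisymm (sylow_normalizer_le hG hL hqσL T hTL) ?_
      have h1 : conjBy g M ≤ L := by
        rw [← hNS, ← normalizer_conjBy, ← hg]
        exact sylow_normalizer_le hG hL hqσL T hTL
      rw [hg, normalizer_conjBy, hNS]
      rcases (isCoatom_conjBy g hM).le_iff.1 h1 with h | h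
      · exact absurd h hL.1
      · exact h.le
    have hd : TransData A q := ⟨transitivityHypothesis hG hAe hA2 hAmax, hG.2.1, hG.2.2.1,
      hG.2.2.2, not_dvd_of_prime_pow hqp hAp⟩
    obtain ⟨c, hc, hcT⟩ := hd.conj_of_inf_ne_bot _ (S : Subgroup G) (T : Subgroup G)
      ⟨S.2, hAQ, fun R hR _ hle => S.3 hR hle⟩
      ⟨T.2, hAL.trans hNT.ge, fun R hR _ hle => T.3 hR hle⟩
      (fun e => hX1 (le_bot_iff.1 ((le_inf hXS hXT).trans e.le))) rfl
    have hcL : c ∈ L := hCL (piCoreOf_le _ hc)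
    apply hLM
    have h2 : conjBy c M = L := by rw [← hNS, ← normalizer_conjBy, ← hcT, hNT]
    have h3 := congrArg (conjBy c⁻¹) h2
    rw [conjBy_conjBy, inv_mul_cancel, conjBy_one,
      CfsgLib.Coprime.conjBy_eq_self_iff.2 (le_normalizer (inv_mem hcL))] at h3
    exact h3.symm
  have hact : normalizer (A : Set G) ≤ L → ⁅A, normalizer (A : Set G)⁆ ≤ B := fun hNA =>
    (commutator_normalizer_le hG hAe hA2 hL hAL hXL hXq hAX hXA hqσL hqp hNA).trans
      (inf_centralizer_eq_line hAe hA2 hXA hX1 hB hBc inf_le_right).le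
  have hXO := le_core_of_centralizes hG hL hqσL hXq (hXA.ge.trans (commutator_mono hXL hAL))
    (sigmaCore_le_centralizer hG hAe hA2 hAmax hL hAL hB hBc hNB hXL hXq hqp hqσL hAX hXA hB hBc
      inf_le_right hact)
  have hNX := normalizer_eq_of_le_core hG hL hqσL hXO hXe hX1
  have hSL : (S : Subgroup G) ≤ L :=
    (hSX.trans (CfsgLib.Coprime.centralizer_le_normalizer_self X)).trans hNX.le
  have hSnc : ¬ IsCyclic ↥(S : Subgroup G) := fun hc => by
    have hMX : M ≤ normalizer (X : Set G) := fun g hg => by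
      refine CfsgLib.Coprime.conjBy_eq_self_iff.1 (eq_of_le_of_card_ge ?_
        (CfsgLib.Coprime.card_conjBy g X).ge)
      refine eq_of_cyclic hc hXS ?_ hXe ?_ hX1
      · rintro _ ⟨x, hx, rfl⟩
        exact (mem_normalizer_iff.1 (hNS.ge hg) x).1 (hXS hx)
      · rintro _ ⟨x, hx, rfl⟩
        rw [← map_pow, hXe x hx, map_one]
    rcases hM.le_iff.1 (hMX.trans hNX.le) with h | h
    · exact hL.1 h
    · exact hLM h
  set U := upperSocle hq hq2 (S : Subgroup G) with hU
  have hUS : U ≤ (S : Subgroup G) := upperSocle_le _ _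
  have hXc := card_le_of_cyclic (core_cyclic hG hL hqσL) hXO hXe
  have hUX : ¬ U ≤ X := fun h =>
    absurd ((card_le_of_le h).trans hXc) (not_le.2 (lt_card_upperSocle hq2 S.2 hSnc))
  obtain ⟨B', hB', hB'c, hB'U⟩ := exists_line_not_le hAe hA2
    (hAQ.trans (le_normalizer_upperSocle _ _ _)) (coprime_of_primes hqp hAp (S.2.to_le hUS)) hUX
  set Y := U ⊓ centralizer (B' : Set G) with hY
  have hYS : Y ≤ (S : Subgroup G) := inf_le_left.trans hUS
  have hAY : A ≤ normalizer (Y : Set G) :=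
    le_inf_centralizer_line hAe hB' (hAQ.trans (le_normalizer_upperSocle _ _ _))
  have hYA := hmoved Y hYS hAY
  have hYO := le_core_of_centralizes hG hL hqσL (S.2.to_le hYS)
    (hYA.ge.trans (commutator_mono (hYS.trans hSL) hAL))
    (sigmaCore_le_centralizer hG hAe hA2 hAmax hL hAL hB hBc hNB (hYS.trans hSL) (S.2.to_le hYS)
      hqp hqσL hAY hYA hB' hB'c inf_le_right hact)
  exact hB'U (eq_of_cyclic (core_cyclic hG hL hqσL) hXO hYO hXe (fun y hy => hy.1.2.1) hX1)

theorem centralizer_le_max : centralizer (A : Set G) ≤ M := by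
  have hpσ := sigma_mem hG hM hAM hAe hA2 hbad
  have hα := alpha_empty hG hM hAM hAe hA2 hbad
  have hAp := isPGroup_of_elementary hAe
  obtain ⟨P, hAP, hPM⟩ := exists_sylow_of_sigma hG hM hpσ hAp hAM
  have hP1 : (P : Subgroup G) ≠ ⊥ := fun e => by
    have h1 := card_le_of_le (hAP.trans e.le)
    rw [hA2, card_bot] at h1
    nlinarith [hp.out.two_le]
  have hNP := sylow_normal_of_derived hG hM hα P
    ((isPGroup_le_sigmaCore hG hM hpσ P.2 hPM).trans (sigmaCore_le_derived hG hM)) hP1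
  have hZA : centerSocle (P : Subgroup G) p ≤ A := fun z hz => mem_of_pow hAe hA2
    (fun _ h1 h2 => maximal_elementary hG hM hAM hAe hA2 hbad h1 h2) hz.2.1
    (mem_centralizer_iff.2 fun a ha => (hz.2.2 a (hAP ha)).symm.eq)
  obtain ⟨z, ⟨-, hz⟩, hz1⟩ := centerSocle_ne_bot (q := p) P.2 le_rfl le_normalizer hP1
  exact (centralizer_le hZA).trans (ms_centralizer_le hG hM (centerSocle_le.trans hPM)
    (fun e => hz1 (mem_bot.1 (e.le hz)))
    (hNP.ge.trans (normalizer_le_normalizer_centerSocle _ _)))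

end Main

end MinSimple

end CfsgLib.CFun.TauTwo
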