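import Cfsg.Agent.Lib.CFun.OddTauTwoCentral

/-!
# Centralizers of elementary subgroups of order `p ^ 2` lie in the maximal subgroup
-/

set_option autoImplicit false
set_option linter.style.haveILetI false
set_option linter.unusedSectionVars false

open Subgroup
open scoped commutatorElement
open CfsgLib.Coprime (conjBy conjBy_conjBy conjBy_one mem_conjBy conj_mem_conjBy IsSylowIn)

namespace CfsgLib.CFun.TauTwo

universe u

variable {G : Type u} [Group G] [Finite G] {p q : ℕ} [hp : Fact p.Prime] [hq : Fact q.Prime]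

theorem coprime_of_primes (hqp : q ≠ p) {X Y : Subgroup G} (hX : IsPGroup p X)
    (hY : IsPGroup q Y) : (Nat.card X).Coprime (Nat.card Y) := by
  obtain ⟨i, hi⟩ := IsPGroup.iff_card.1 hX
  obtain ⟨j, hj⟩ := IsPGroup.iff_card.1 hY
  rw [hi, hj]
  exact Nat.Coprime.pow i j ((Nat.coprime_primes hp.out hq.out).2 hqp.symm)

theorem not_dvd_of_prime_pow (hqp : q ≠ p) {X : Subgroup G} (hX : IsPGroup p X) :
    ¬ q ∣ Nat.card X := fun hd => by
  obtain ⟨i, hi⟩ := IsPGroup.iff_card.1 hX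
  exact hqp ((Nat.prime_dvd_prime_iff_eq hq.out hp.out).1 (hq.out.dvd_of_dvd_pow (hi ▸ hd)))

section MinSimple

variable (hG : Cfsg.IsMinSimpleOddOrder G) {M L : Subgroup G}
include hG

omit hp in
/-- Elements of the upper socle of a Sylow subgroup of rank three. -/
theorem centralizer_upperSocle_le (hM : IsCoatom M) (hq2 : q ≠ 2) {Q : Subgroup G}
    (hQ : IsPGroup q Q) (hQM : Q ≤ M) (hQ3 : ¬ Cfsg.PRankLE q 2 Q) {w : G}
    (hw : w ∈ upperSocle hq.out hq2 Q) :
    ∃ E : Subgroup G, Cfsg.InUniqueMaximal E ∧ E ≤ M ∧ E ≤ centralizer ({w} : Set G) := by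
  obtain ⟨hwQ, hwq, hwc⟩ := hw
  by_cases hwZ : w ∈ centerSocle Q q
  · obtain ⟨V, hV, hVe, hV3⟩ := exists_elementary_of_not_pRankLE hQ3
    exact ⟨V, unique_elementary_three hG hVe hV3.ge, hV.trans hQM,
      fun v hv => mem_centralizer_singleton_iff.2 (hwZ.2.2 v (hV hv)).eq.symm⟩
  set Z := centerSocle Q q with hZ
  obtain ⟨hE, hlt⟩ := elementary_sup_zpowers (isElementaryAbelian_centerSocle Q q) hwq
    (mem_centralizer_iff.2 fun z hz => (hz.2.2 w hwQ).eq) hwZ
  set E := Z ⊔ zpowers w with hE'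
  have hwE : w ∈ E := mem_sup_right (mem_zpowers w)
  have hEQ : E ≤ Q := sup_le centerSocle_le (zpowers_le.2 hwQ)
  have hEw : E ≤ centralizer ({w} : Set G) := fun v hv => mem_centralizer_singleton_iff.2
    (commute_of_mem hE hv hwE).eq
  refine ⟨E, ?_, hEQ.trans hQM, hEw⟩
  obtain ⟨k, hk⟩ := IsPGroup.iff_card.1 (isPGroup_of_elementary hE)
  have hQne : Q ≠ ⊥ := fun e => hwZ ((mem_bot.1 (e ▸ hwQ)).symm ▸ one_mem _)
  obtain ⟨z, hz, hz1⟩ := centerSocle_ne_bot (q := q) hQ le_rfl le_normalizer hQne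
  have hk2 : 2 ≤ k := by
    have h1 : q ≤ Nat.card Z := by
      rw [← orderOf_eq_prime hz.2.2.1 hz1]
      exact Nat.le_of_dvd Nat.card_pos (Subgroup.orderOf_dvd_natCard Z hz.2)
    by_contra hlt'
    exact absurd (h1.trans_lt hlt) (not_lt.2 ((hk.le.trans (Nat.pow_le_pow_right hq.out.pos
      (show k ≤ 1 by omega))).trans (pow_one q).le))
  rcases hk2.eq_or_lt with e | h3
  swap
  · exact unique_elementary_three hG hE (hk ▸ Nat.pow_le_pow_right hq.out.pos h3)
  have hQE : Q ≤ normalizer (E : Set G) := by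
    intro y hy
    refine CfsgLib.Coprime.conjBy_eq_self_iff.1 (eq_of_le_of_card_ge ?_
      (CfsgLib.Coprime.card_conjBy y E).ge)
    show E.map (MulAut.conj y).toMonoidHom ≤ E
    rw [hE', Subgroup.map_sup, MonoidHom.map_zpowers]
    refine sup_le ?_ (zpowers_le.2 ?_)
    · rintro _ ⟨x, hx, rfl⟩
      refine mem_sup_left ?_
      show y * x * y⁻¹ ∈ Z
      rw [(hx.2.2 y hy).symm.eq, mul_inv_cancel_right]
      exact hx
    · show y * w * y⁻¹ ∈ Z ⊔ zpowers w
      have h1 : (⁅w, y⁆⁻¹ : G) ∈ Z := inv_mem (hwc y hy)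
      rw [show y * w * y⁻¹ = ⁅w, y⁆⁻¹ * w by rw [commutatorElement_def]; group]
      exact mul_mem (mem_sup_left h1) (mem_sup_right (mem_zpowers w))
  have hE2 : Nat.card E = q ^ 2 := by rw [hk, ← e]
  refine uniqueness_theorem hG (ms_isPGroup_ne_top hG (isPGroup_of_elementary hE)) ?_ (Or.inr ?_)
  · exact fun h => not_pRankLE_of_elementary le_rfl hE
      (by rw [hE2]; exact Nat.pow_lt_pow_right hq.out.one_lt one_lt_two) (h q hq.out)
  · exact fun h => centralizer_normal_two_rank hQ hEQ hQE hE hE2 hQ3 (h q hq.out)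

omit hp in
theorem le_core_of_centralizes (hL : IsCoatom L) (hqσ : q ∉ Cfsg.sigma L) {X : Subgroup G}
    (hXq : IsPGroup q X) (hXd : X ≤ ⁅L, L⁆) (hXC : Cfsg.sigmaCore L ≤ centralizer (X : Set G)) :
    X ≤ core L q := fun x hx => by
  obtain ⟨n, hn⟩ := hXq ⟨x, hx⟩
  exact mem_core_of_centralizes hG hL hqσ (hXd hx) (congrArg Subtype.val hn :)
    (le_centralizer_iff.1 hXC hx)

omit hp in
/-- Exponent `q` subgroups of the cyclic core are normal in the maximal subgroup. -/
theorem normalizer_eq_of_le_core (hL : IsCoatom L) (hqσ : q ∉ Cfsg.sigma L) {X : Subgroup G}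
    (hX : X ≤ core L q) (hXe : ∀ x ∈ X, x ^ q = 1) (hX1 : X ≠ ⊥) :
    normalizer (X : Set G) = L := by
  refine ms_normalizer_eq hG hL (hX.trans core_le) hX1 fun g hg => ?_
  refine CfsgLib.Coprime.conjBy_eq_self_iff.1 (eq_of_le_of_card_ge ?_
    (CfsgLib.Coprime.card_conjBy g X).ge)
  refine eq_of_cyclic (core_cyclic hG hL hqσ) hX ?_ hXe ?_ hX1
  · rintro _ ⟨x, hx, rfl⟩
    exact (mem_normalizer_iff.1 (le_normalizer_core hg) x).1 (hX hx)
  · rintro _ ⟨x, hx, rfl⟩
    rw [← map_pow, hXe x hx, map_one]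

section Action

variable {A : Subgroup G} (hAe : Cfsg.IsElementaryAbelian p A) (hA2 : Nat.card A = p ^ 2)
include hAe hA2

/-- The normalizer of `A` acts on it inside the centralizer of `X`. -/
theorem commutator_normalizer_le (hL : IsCoatom L) (hAL : A ≤ L) {X : Subgroup G} (hXL : X ≤ L)
    (hXq : IsPGroup q X) (hAX : A ≤ normalizer (X : Set G)) (hXA : (⁅X, A⁆ : Subgroup G) = X)
    (hqσ : q ∉ Cfsg.sigma L) (hqp : q ≠ p) (hNA : normalizer (A : Set G) ≤ L) :
    ⁅A, normalizer (A : Set G)⁆ ≤ A ⊓ centralizer (X : Set G) := by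
  have hle : ⁅A, normalizer (A : Set G)⁆ ≤ A := le_normalizer_iff_commutator_le_left.1 le_rfl
  refine le_inf hle fun a ha => mem_centralizer_iff.2 fun x hx => ?_
  obtain ⟨n, hn⟩ := hXq ⟨x, hx⟩
  have hac : (orderOf a).Coprime q := Nat.Coprime.coprime_dvd_left
    (orderOf_dvd_of_pow_eq_one (hAe.2 a (hle ha))) ((Nat.coprime_primes hp.out hq.out).2 hqp.symm)
  have hc := derived_commute hG (q := q) hL
    (commutator_mono hXL hAL (hXA.ge hx)) (congrArg Subtype.val hn :)
    (commutator_mono hAL hNA ha) hac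
  have hcX : ⁅x, a⁆ ∈ X := hXA.le (commutator_mem_commutator hx (hle ha))
  have h1 : ⁅x, a⁆ ∈ X ⊓ Cfsg.sigmaCore L := ⟨hcX, hc⟩
  rw [inf_eq_bot_of_isPGroup hXq (not_dvd_sigmaCore hG hL hqσ), mem_bot] at h1
  exact commutatorElement_eq_one_iff_mul_comm.1 h1

omit hG in
/-- The centralizer in `A` of a moved group is the centralizing line. -/
theorem inf_centralizer_eq_line {X B : Subgroup G} (hXA : (⁅X, A⁆ : Subgroup G) = X)
    (hX1 : X ≠ ⊥) (hB : B ≤ A) (hBc : Nat.card B = p) (hXB : X ≤ centralizer (B : Set G)) :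
    A ⊓ centralizer (X : Set G) = B := by
  have hle : B ≤ A ⊓ centralizer (X : Set G) := le_inf hB (le_centralizer_iff.1 hXB)
  rcases card_pSq_cases hA2 (inf_le_left : A ⊓ centralizer (X : Set G) ≤ A) with h | h | h
  · exact absurd (le_bot_iff.1 (hle.trans h.le)) (line_ne_bot hBc)
  · exact (eq_of_le_of_card_ge hle (by rw [h, hBc])).symm
  · exact absurd (hXA.symm.trans (commutator_eq_bot_iff_le_centralizer.2
      (le_centralizer_iff.1 (h.ge.trans inf_le_right)))) hX1

variable (hAmax : ∀ B : Subgroup G, Cfsg.IsElementaryAbelian p B → A ≤ B → B = A)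
include hAmax

/-- A moved `q`-group centralized by a line centralizes `L_σ`. -/
theorem sigmaCore_le_centralizer (hL : IsCoatom L) (hAL : A ≤ L) {A₁ : Subgroup G}
    (hA₁ : A₁ ≤ A) (hA₁c : Nat.card A₁ = p) (hNA₁ : normalizer (A₁ : Set G) ≤ L)
    {X : Subgroup G} (hXL : X ≤ L) (hXq : IsPGroup q X) (hqp : q ≠ p) (hqσ : q ∉ Cfsg.sigma L)
    (hAX : A ≤ normalizer (X : Set G)) (hXA : (⁅X, A⁆ : Subgroup G) = X)
    {B : Subgroup G} (hB : B ≤ A) (hBc : Nat.card B = p) (hXB : X ≤ centralizer (B : Set G))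
    (hact : normalizer (A : Set G) ≤ L → ⁅A, normalizer (A : Set G)⁆ ≤ A₁) :
    Cfsg.sigmaCore L ≤ centralizer (X : Set G) := by
  by_cases hX1 : X = ⊥
  · intro y _
    rw [hX1]
    exact mem_centralizer_iff.2 fun x hx => by rw [mem_bot.1 hx, one_mul, mul_one]
  have hAp := isPGroup_of_elementary hAe
  by_cases hpσ : p ∈ Cfsg.sigma L
  · exfalso
    have h1 : X ≤ Cfsg.sigmaCore L := hXA.ge.trans
      ((commutator_mono hXL (isPGroup_le_sigmaCore hG hL hpσ hAp hAL)).trans
        (le_normalizer_iff_commutator_le_right.1 (sigmaCore_normal hG L)))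
    exact hX1 (le_bot_iff.1 ((le_inf le_rfl h1).trans
      (inf_eq_bot_of_isPGroup hXq (not_dvd_sigmaCore hG hL hqσ)).le))
  haveI := sigmaCore_solvable hG hL
  have hAXn : A ⊔ X ≤ normalizer (Cfsg.sigmaCore L : Set G) :=
    (sup_le hAL hXL).trans (sigmaCore_normal hG L)
  have hcop : (Nat.card ↥(A ⊔ X)).Coprime (Nat.card (Cfsg.sigmaCore L)) := by
    refine Nat.Coprime.coprime_dvd_left
      (CfsgLib.Coprime.card_sup_dvd_of_le_normalizer hAX) (Nat.Coprime.mul_left ?_ ?_)
    · rw [hA2]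
      exact (hp.out.coprime_iff_not_dvd.2 (not_dvd_sigmaCore hG hL hpσ)).pow_left 2
    · obtain ⟨k, hk⟩ := IsPGroup.iff_card.1 hXq
      rw [hk]
      exact (hq.out.coprime_iff_not_dvd.2 (not_dvd_sigmaCore hG hL hqσ)).pow_left k
  refine le_of_invariant_sylows hAXn hcop (Or.inr inferInstance) fun r hr hrd R hR hRp hAR => ?_
  haveI : Fact r.Prime := ⟨hr⟩
  have hrσ := (sigmaCore_hall hG hL).1.2.1 r hr hrd
  have hrp : r ≠ p := fun e => hpσ (e ▸ hrσ)
  have hrq : r ≠ q := fun e => hqσ (e ▸ hrσ)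
  have hXd : X ≤ ⁅L, L⁆ := hXA.ge.trans (commutator_mono hXL hAL)
  have hRL : R ≤ L := hR.trans (map_subtype_le _)
  by_cases hrb : r ∈ Cfsg.beta L
  swap
  · refine le_centralizer_iff.1 fun x hx => ?_
    obtain ⟨n, hn⟩ := hXq ⟨x, hx⟩
    exact derived_centralizes_non_beta hG hL hrb hRL hRp (hXd hx)
      (Nat.Coprime.coprime_dvd_left (orderOf_dvd_of_pow_eq_one (congrArg Subtype.val hn :))
        (((Nat.coprime_primes hq.out hr).2 hrq.symm).pow_left n))
      ((le_sup_right.trans hAR) hx)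
  by_contra hRX
  -- every other line has a fixed point of order `r`
  have hfix : ∀ C : Subgroup G, C ≤ A → Nat.card C = p → C ≠ B →
      ∃ z, z ∈ R ∧ z ^ r = 1 ∧ z ≠ 1 ∧ z ∈ centralizer (C : Set G) := by
    intro C hC hCc hne
    obtain ⟨a, haC, ha1⟩ := (bot_or_exists_ne_one C).resolve_left (line_ne_bot hCc)
    have hCa : zpowers a = C := eq_of_le_of_card_ge (zpowers_le.2 haC)
      (by rw [hCc, zpowers_card hAe (hC haC) ha1])
    by_cases h0 : ∀ v ∈ R, a * v = v * a → v = 1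
    · refine absurd ?_ hRX
      have hodd : Odd (Nat.card X) := hG.1.of_dvd_nat (card_subgroup_dvd_card X)
      have h1 := FpfComm.commutator_le_centralizer (l := r) hRp hp.out hrp.symm
        (hAe.2 a (hC haC)) (hAR (mem_sup_left (hC haC))) (hAX (hC haC))
        (le_sup_right.trans hAR) hodd (not_dvd_of_prime_pow hqp.symm hXq)
        (not_dvd_of_prime_pow hrq hXq) h0
      refine le_centralizer_iff.1 (hXA.ge.trans (le_trans ?_ h1))
      refine commutator_le.2 fun x hx b hb => ?_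
      have hsup := sup_lines hA2 hB hC hBc hCc hne
      obtain ⟨β, hβ, γ, hγ, rfl⟩ := CfsgLib.Coprime.mem_sup_exists
        (hC.trans ((le_centralizer_line hAe hB).trans
          (CfsgLib.Coprime.centralizer_le_normalizer_self B))) (hsup.ge hb)
      have hxβ : β * x = x * β := mem_centralizer_iff.1 (hXB hx) β hβ
      have hxi : x⁻¹ * β = β * x⁻¹ :=
        (show Commute β x from hxβ).inv_right.eq.symm
      have hcc : ⁅x, β * γ⁆ = β * ⁅x, γ⁆ * β⁻¹ := by
        simp only [commutatorElement_def, mul_inv_rev]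
        calc x * (β * γ) * x⁻¹ * (γ⁻¹ * β⁻¹) = (x * β) * (γ * x⁻¹ * γ⁻¹) * β⁻¹ := by group
          _ = β * (x * γ * x⁻¹ * γ⁻¹) * β⁻¹ := by rw [← hxβ]; group
      rw [hcc]
      have hk : ⁅x, γ⁆ ∈ ⁅X, zpowers a⁆ := commutator_mem_commutator hx (hCa.ge hγ)
      have hAa : A ≤ normalizer ((zpowers a : Subgroup G) : Set G) :=
        (le_centralizer_line hAe (hCa.le.trans hC)).trans
          (CfsgLib.Coprime.centralizer_le_normalizer_self _)
      have hβn : β ∈ normalizer ((⁅X, zpowers a⁆ : Subgroup G) : Set G) :=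
        PGroup.le_normalizer_commutator hAX hAa (hB hβ)
      exact (mem_normalizer_iff.1 hβn _).1 hk
    · push_neg at h0
      obtain ⟨v, hv, hav, hv1⟩ := h0
      obtain ⟨k, hk⟩ := hRp ⟨v, hv⟩
      have hk' : orderOf v ∣ r ^ k := orderOf_dvd_of_pow_eq_one (congrArg Subtype.val hk :)
      obtain ⟨j, -, hj⟩ := (Nat.dvd_prime_pow hr).1 hk'
      rcases j with _ | j
      · exact absurd (orderOf_eq_one_iff.1 (by rw [hj, pow_zero])) hv1
      refine ⟨v ^ r ^ j, pow_mem hv _, ?_, fun e => ?_, ?_⟩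
      · rw [← pow_mul, ← pow_succ, ← hj, pow_orderOf_eq_one]
      · have h2 := Nat.le_of_dvd (pow_pos hr.pos j) (orderOf_dvd_of_pow_eq_one e)
        rw [hj] at h2
        exact absurd h2 (not_le.2 (Nat.pow_lt_pow_right hr.one_lt j.lt_succ_self))
      · rw [← hCa, centralizer_zpowers]
        exact mem_centralizer_singleton_iff.2 ((show Commute a v from hav).pow_right _).eq.symm
  -- the normalizer of `A` lies in `L`
  have hmove : ∀ n ∈ normalizer (A : Set G), conjBy n⁻¹ A₁ ≠ B → n ∈ L := by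
    intro n hn hne
    have hCA : conjBy n⁻¹ A₁ ≤ A := by
      intro x hx
      rw [mem_conjBy, inv_inv] at hx
      exact (mem_normalizer_iff.1 hn x).2 (hA₁ hx)
    obtain ⟨z, hzR, hzr, hz1, hzC⟩ := hfix _ hCA
      (by rw [CfsgLib.Coprime.card_conjBy, hA₁c]) hne
    have hz'C : n * z * n⁻¹ ∈ centralizer (A₁ : Set G) := mem_centralizer_iff.2 fun a ha => by
      have h1 : n⁻¹ * a * n * z = z * (n⁻¹ * a * n) := mem_centralizer_iff.1 hzC _
        (show n⁻¹ * a * n ∈ conjBy n⁻¹ A₁ by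
          simpa using conj_mem_conjBy (g := n⁻¹) ha)
      calc a * (n * z * n⁻¹) = n * (n⁻¹ * a * n * z) * n⁻¹ := by group
        _ = n * z * n⁻¹ * a := by rw [h1]; group
    have hz'L : n * z * n⁻¹ ∈ L :=
      ((CfsgLib.Coprime.centralizer_le_normalizer_self A₁).trans hNA₁) hz'C
    obtain ⟨hzle, -⟩ := beta_centralizer hG hL hrb (hRL hzR) hzr hz1
    obtain ⟨hzle', huniq⟩ := beta_centralizer hG hL hrb hz'L
      (by rw [conj_pow, hzr, mul_one, mul_inv_cancel])
      (fun e => hz1 (by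
        have := congrArg (fun w => n⁻¹ * w * n) e
        simpa [mul_assoc] using this))
    have hcoat : IsCoatom (conjBy n L) := (OrderIso.isCoatom_iff
      (MulAut.conj n).mapSubgroup L).2 hL
    have hcl : centralizer ({n * z * n⁻¹} : Set G) ≤ conjBy n L := by
      intro g hg
      rw [mem_conjBy]
      refine hzle (mem_centralizer_singleton_iff.2 ?_)
      have h1 := mem_centralizer_singleton_iff.1 hg
      calc n⁻¹ * g * n * z = n⁻¹ * (g * (n * z * n⁻¹)) * n := by group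
        _ = z * (n⁻¹ * g * n) := by rw [h1]; group
    have heq := huniq _ hcoat hcl
    rw [← ms_normalizer_self hG hL]
    exact CfsgLib.Coprime.conjBy_eq_self_iff.1 heq
  have hNA : normalizer (A : Set G) ≤ L := by
    intro n hn
    by_contra hnL
    have hodd : Odd (orderOf n) := hG.1.of_dvd_nat (orderOf_dvd_natCard n)
    obtain ⟨k, hk⟩ := hodd
    have hn2 : n * n ∉ L := fun h2 => hnL (by
      have h3 : n = (n * n) ^ (k + 1) := by
        rw [← pow_two, ← pow_mul, show 2 * (k + 1) = orderOf n + 1 by omega, pow_succ,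
          pow_orderOf_eq_one, one_mul]
      rw [h3]; exact pow_mem h2 _)
    have e1 : conjBy n⁻¹ A₁ = B := by_contra fun h1 => hnL (hmove n hn h1)
    have e2 : conjBy (n * n)⁻¹ A₁ = B := by_contra fun h2 => hn2 (hmove _ (mul_mem hn hn) h2)
    rw [mul_inv_rev, ← conjBy_conjBy, e1] at e2
    have e3 : conjBy n B = A₁ := by rw [← e1, conjBy_conjBy, mul_inv_cancel, conjBy_one]
    have e4 : A₁ = B := by
      rw [← e3]
      conv_lhs => rw [← e2]
      rw [conjBy_conjBy, mul_inv_cancel, conjBy_one]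
    exact hnL (hNA₁ (CfsgLib.Coprime.conjBy_eq_self_iff.1 (by rw [e4] at e3 ⊢; exact e3)))
  have hle : ⁅A, normalizer (A : Set G)⁆ ≤ B ⊓ A₁ := le_inf
    (inf_centralizer_eq_line hAe hA2 hXA hX1 hB hBc hXB ▸
      commutator_normalizer_le hG hAe hA2 hL hAL hXL hXq hAX hXA hqσ hqp hNA) (hact hNA)
  rcases normalizer_action hG hAe hA2 hAmax (inf_le_left.trans hB) hle with h0 | ⟨h0, P, hP⟩
  · have h1 := card_le_of_le (h0.ge.trans inf_le_left : A ≤ B)
    rw [hA2, hBc] at h1
    nlinarith [hp.out.two_le]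
  · have e : B ⊓ A₁ = A₁ := eq_of_le_of_card_ge inf_le_right (by rw [h0, hA₁c])
    rw [e] at hP
    exact hpσ (sigma_of_sylow hG hL P (le_normalizer.trans (hP.trans hNA₁)) (hP.trans hNA₁)
      ((hA2 ▸ dvd_pow_self p two_ne_zero : p ∣ Nat.card A).trans (card_dvd_of_le hAL)))

end Action

end MinSimple

end CfsgLib.CFun.TauTwo
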