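import Cfsg.Agent.Lib.CFun.OddKappaPair
import Cfsg.Agent.Lib.CFun.OddStarCount
import Cfsg.Agent.Lib.CFun.OddSigmaTilde
import Cfsg.Agent.Lib.CFun.OddTauTwoTorus
import Cfsg.Agent.Lib.CFun.OddSigmaEmbedding
import Cfsg.Agent.Lib.CFun.OddTypeFComplement
import Cfsg.Agent.Lib.CFun.OddTauTwoElement

/-!
# The sets `M̃` and the conjugates of `Ẑ` cover the nontrivial elements
-/

set_option autoImplicit false
set_option linter.style.haveILetI false
set_option linter.unusedSectionVars false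

open Subgroup
open CfsgLib.Coprime (conjBy conjBy_conjBy conjBy_one mem_conjBy conj_mem_conjBy IsHallIn)

namespace CfsgLib.CFun.Cover

open CfsgLib.CFun.TauTwo CfsgLib.CFun.Lines CfsgLib.CFun.Disjoint CfsgLib.CFun.ElemCent
open CfsgLib.CFun.Kappa CfsgLib.CFun.Partner CfsgLib.CFun.Inter CfsgLib.CFun.Tilde

universe u

variable {G : Type u} [Group G] [Finite G]

/-- Conjugates stay in `M̃`. -/
theorem tilde_conj {M : Subgroup G} {A : Set G} (h : G) {g : G} (hg : g ∈ Cfsg.tildeOf M A) :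
    h * g * h⁻¹ ∈ Cfsg.tildeOf M A := by
  obtain ⟨a, ha, r, hr, y, rfl⟩ := hg
  exact ⟨a, ha, r, hr, h * y, by group⟩

/-- Conjugates stay in the orbit of `Ẑ`. -/
theorem orbit_conj {M K : Subgroup G} (h : G) {g : G} (hg : g ∈ Zhat.orbit M K) :
    h * g * h⁻¹ ∈ Zhat.orbit M K := by
  obtain ⟨y, z, hz, rfl⟩ := hg
  exact ⟨h * y, z, hz, by group⟩

variable (hG : Cfsg.IsMinSimpleOddOrder G)
include hG

/-- Every prime divisor of `|G|` lies in some `σ(M)`. -/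
theorem exists_sigma {t : ℕ} [ht : Fact t.Prime] (htd : t ∣ Nat.card G) :
    ∃ M : Subgroup G, IsCoatom M ∧ t ∈ Cfsg.sigma M := by
  obtain ⟨S⟩ := (inferInstance : Nonempty (Sylow t G))
  have hd : t ∣ Nat.card (S : Subgroup G) := S.dvd_card_of_dvd_card htd
  have hS1 : (S : Subgroup G) ≠ ⊥ := fun e => by
    rw [e, card_bot] at hd
    exact ht.out.ne_one (Nat.dvd_one.1 hd)
  obtain ⟨L, hL, hNL⟩ := (eq_top_or_exists_le_coatom _).resolve_left
    (ms_normalizer_ne_top hG hS1 (ms_isPGroup_ne_top hG S.isPGroup'))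
  exact ⟨L, hL, sigma_of_sylow hG hL S (le_normalizer.trans hNL) hNL
    (hd.trans (card_dvd_of_le (le_normalizer.trans hNL)))⟩

variable {M : Subgroup G} (hM : IsCoatom M)
include hM

section Pair

variable {x x' : G} (hx : x ∈ Cfsg.sigmaCore M) (hx1 : x ≠ 1) (hx'M : x' ∈ M) (hc : Commute x x')
include hx hx1 hx'M hc

omit hG hM hx hx1 in
theorem line_of_dvd {s : ℕ} [hs : Fact s.Prime] (hsd : s ∣ orderOf x') :
    ∃ R : Subgroup G, R ≤ M ∧ Nat.card R = s ∧ R ≤ zpowers x' ∧ x ∈ centralizer (R : Set G) := by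
  obtain ⟨R, hR, hRc⟩ := exists_line_of_dvd (t := s) (H := zpowers x')
    (by rwa [Nat.card_zpowers])
  refine ⟨R, hR.trans (zpowers_le.2 hx'M), hRc, hR, mem_centralizer_iff.2 fun r hr => ?_⟩
  obtain ⟨n, rfl⟩ := mem_zpowers_iff.1 (hR hr)
  exact (hc.zpow_right n).symm.eq

/-- A prime outside `σ(M)` of an element with a fixed point in `M_σ` is in `κ(M)` or `τ₂(M)`. -/
theorem prime_cases {s : ℕ} [hs : Fact s.Prime] (hsd : s ∣ orderOf x') (hsσ : s ∉ Cfsg.sigma M) :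
    s ∈ Cfsg.kappa M ∨ s ∈ Cfsg.tau2 M := by
  by_cases hκ : s ∈ Cfsg.kappa M
  · exact Or.inl hκ
  obtain ⟨R, hRM, hRc, -, hxR⟩ := line_of_dvd hx'M hc hsd
  by_cases hr1 : Cfsg.PRankLE s 1 M
  · exact absurd (mem_bot.1 ((line_regular hG hM hRM hRc hsσ hκ hr1).le (mem_inf.2 ⟨hx, hxR⟩))) hx1
  · exact Or.inr (mem_tau_iff.2 ⟨hsσ,
      pRankLE_two_of_not_alpha hs.out fun h => hsσ (alpha_subset_sigma hG hM h), hr1⟩)

/-- All primes of `x'` are in `κ(M)` or all are in `τ₂(M)`. -/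
theorem kappa_or_tau2 (hσ : ∀ p : ℕ, p.Prime → p ∣ orderOf x' → p ∉ Cfsg.sigma M) :
    (∀ p : ℕ, p.Prime → p ∣ orderOf x' → p ∈ Cfsg.kappa M) ∨
      ∀ p : ℕ, p.Prime → p ∣ orderOf x' → p ∈ Cfsg.tau2 M := by
  by_cases hex : ∃ p : ℕ, p.Prime ∧ p ∣ orderOf x' ∧ p ∈ Cfsg.kappa M
  · left
    intro r hr hrd
    obtain ⟨p, hp, hpd, hpκ⟩ := hex
    haveI : Fact p.Prime := ⟨hp⟩
    haveI : Fact r.Prime := ⟨hr⟩
    obtain ⟨P, hPM, hPc, hPx, hxP⟩ := line_of_dvd hx'M hc hpd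
    obtain ⟨R, hRM, hRc, hRx, -⟩ := line_of_dvd hx'M hc hrd
    exact commute_kappa hG hM (kappa_tau1 hG hM hpκ) hPM hPc (kappa_fixed hG hM hpκ hPM hPc) hRM hRc
      (fun a ha => mem_centralizer_iff.2 fun b hb => by
        obtain ⟨i, rfl⟩ := mem_zpowers_iff.1 (hRx ha)
        obtain ⟨j, rfl⟩ := mem_zpowers_iff.1 (hPx hb)
        rw [← zpow_add, ← zpow_add, add_comm]) (hσ r hr hrd)
  · right
    intro r hr hrd
    haveI : Fact r.Prime := ⟨hr⟩
    exact (prime_cases hG hM hx hx1 hx'M hc hrd (hσ r hr hrd)).resolve_left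
      fun h => hex ⟨r, hr, hrd, h⟩

/-- The `κ` case: `C(x) ≤ M`, and the pair is conjugate into `K × K*`. -/
theorem kappa_case {K : Subgroup G} (hK : Cfsg.IsPiHallOf (Cfsg.kappa M) K M) (hx'1 : x' ≠ 1)
    (hκ : ∀ p : ℕ, p.Prime → p ∣ orderOf x' → p ∈ Cfsg.kappa M) :
    centralizer ({x} : Set G) ≤ M ∧ K ≠ ⊥ ∧ ∃ m ∈ M, m * x' * m⁻¹ ∈ K ∧
      m * x * m⁻¹ ∈ Cfsg.sigmaCore M ⊓ centralizer (K : Set G) := by
  have hH : IsHallIn (Cfsg.kappa M) K M :=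
    ⟨hK.1, hK.2.1, fun p hp hd hpκ => hK.2.2 p hp hpκ hd⟩
  obtain ⟨m, hm, hmK⟩ := hH.exists_conj_le (ms_solvable hG hM.1) (zpowers_le.2 hx'M)
    fun p hp hd => hκ p hp (by rwa [Nat.card_zpowers] at hd)
  have hk : m * x' * m⁻¹ ∈ K := hmK (conj_mem_conjBy (mem_zpowers x'))
  have hk1 : m * x' * m⁻¹ ≠ 1 := fun e => hx'1 (conj_eq_one_iff.1 e)
  have hb : m * x * m⁻¹ ∈ Cfsg.sigmaCore M ⊓ centralizer (K : Set G) := by
    rw [← fixed_eq hG hM hK hk hk1]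
    refine mem_inf.2 ⟨(mem_normalizer_iff.1 (TauTwo.sigmaCore_normal hG M hm) x).1 hx,
      mem_centralizer_singleton_iff.2 ?_⟩
    exact congrArg (fun w => w) (((Commute.conj_iff m).2 hc).eq)
  have hK1 : K ≠ ⊥ := fun e => hk1 (mem_bot.1 (e.le hk))
  refine ⟨fun c hcx => ?_, hK1, m, hm, hk, hb⟩
  have h := (eq_of_fixed_mem hG hM hK hK1 hb (fun e => hx1 (conj_eq_one_iff.1 e)) (g := 1)
    (by rw [conjBy_one]; exact map_subtype_le _ (mem_inf.1 hb).1)).2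
  have h1 : m * c * m⁻¹ ∈ M := h (by rw [← conjBy_centralizer]; exact conj_mem_conjBy hcx)
  have h2 := mul_mem (mul_mem (inv_mem hm) h1) hm
  simpa [mul_assoc] using h2

/-- The `τ₂` case: `C(x')` determines `M`, and the primes of `x'` lie in one `σ(L)`. -/
theorem tau2_case (hx'1 : x' ≠ 1) (hτ : ∀ p : ℕ, p.Prime → p ∣ orderOf x' → p ∈ Cfsg.tau2 M) :
    (∃ L : Subgroup G, IsCoatom L ∧ ∀ p : ℕ, p.Prime → p ∣ orderOf x' → p ∈ Cfsg.sigma L) ∧
      centralizer ({x'} : Set G) ≤ M ∧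
      ∀ L : Subgroup G, IsCoatom L → centralizer ({x'} : Set G) ≤ L → L = M := by
  have hne : orderOf x' ≠ 1 := fun e => hx'1 (orderOf_eq_one_iff.1 e)
  haveI : Fact (orderOf x').minFac.Prime := ⟨Nat.minFac_prime hne⟩
  refine ⟨?_, centralizer_tau2_element (p := (orderOf x').minFac) hG hM hx'M hx'1
    (fun r hr hrd => ⟨Nat.minFac_le_of_dvd hr.two_le hrd, hτ r hr hrd⟩) (Nat.minFac_dvd _) hx hx1
    hc.symm⟩
  set p := (orderOf x').minFac with hp
  have hpt : p ∈ Cfsg.tau2 M := hτ p Fact.out (Nat.minFac_dvd _)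
  obtain ⟨E, hE, -⟩ := exists_complement hG hM (bot_le : (⊥ : Subgroup G) ≤ M) fun r hr hrd => by
    rw [card_bot] at hrd; exact absurd hrd hr.not_dvd_one
  obtain ⟨A, hAE, hAe, hA2⟩ := Compl.exists_elementary_compl hG hM hE hpt
  have hAM : A ≤ M := hAE.trans hE.1
  have hA1 : A ≠ ⊥ := fun e => by
    rw [e, card_bot] at hA2
    exact (Nat.one_lt_pow two_ne_zero (Fact.out : p.Prime).one_lt).ne hA2
  obtain ⟨L, hL, hNL⟩ := (eq_top_or_exists_le_coatom _).resolve_left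
    (ms_normalizer_ne_top hG hA1 (ne_top_of_le_ne_top hM.1 hAM))
  refine ⟨L, hL, fun r hr hrd => ?_⟩
  have hpL := tau_sigma_of_normalizer hG hM hpt hAM hAe hA2 hL hNL
  by_cases hrp : r = p
  · rw [hrp]; exact hpL
  haveI : Fact r.Prime := ⟨hr⟩
  have hrt := hτ r hr hrd
  obtain ⟨B, hBE, hBe, hB2⟩ := Compl.exists_elementary_compl hG hM hE hrt
  have hBL : B ≤ L := hBE.trans ((Cfsg.Agent.S1418.result hG M hM E hE p hpt A
    ⟨hAE, hAe, hA2⟩).1.1.trans hNL)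
  by_contra hrL
  have hrLt : r ∈ Cfsg.tau2 L := mem_tau_iff.2 ⟨hrL,
    pRankLE_two_of_not_alpha hr fun h => hrL (alpha_subset_sigma hG hL h),
    not_pRankLE_of_elementary hBL hBe (by rw [pow_one, hB2]; exact lt_self_pow₀ hr.one_lt one_lt_two)⟩
  have hne' : M ≠ L := fun e => hpt.2.1 (e ▸ hpL)
  have h := tau_inf_eq_bot hG hL hrLt hBL hBe hB2 hM hne' (hBE.trans hE.1)
  have hA' : A ≤ Cfsg.sigmaCore L ⊓ M := le_inf
    (isPGroup_le_sigmaCore hG hL hpL (isPGroup_of_elementary hAe) (le_normalizer.trans hNL)) hAM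
  exact hA1 (le_bot_iff.1 (hA'.trans h.le))

end Pair

omit hM

/-- A product of nontrivial elements of `K` and `K*` lies in `Ẑ`. -/
theorem mul_mem_zhat {M K : Subgroup G} (hM : IsCoatom M)
    (hK : Cfsg.IsPiHallOf (Cfsg.kappa M) K M) {a b : G} (ha : a ∈ K) (ha1 : a ≠ 1)
    (hb : b ∈ Cfsg.sigmaCore M ⊓ centralizer (K : Set G)) (hb1 : b ≠ 1) :
    a * b ∈ Zhat.zhat M K := by
  refine ⟨mul_mem_sup ha hb, ?_⟩
  rintro (h | h)
  · exact hb1 (mem_bot.1 ((Decomp.hall_inf hG hM hK).le (mem_inf.2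
      ⟨(mul_mem_cancel_left ha).1 h, (mem_inf.1 hb).1⟩)))
  · exact ha1 (mem_bot.1 ((Decomp.hall_inf hG hM hK).le (mem_inf.2
      ⟨ha, (mem_inf.1 ((mul_mem_cancel_right hb).1 h)).1⟩)))

/-- An element with commuting `σ(M)` and `σ(M)'` parts. -/
theorem cover_pair {M : Subgroup G} (hM : IsCoatom M) {a b : G} (ha : a ∈ Cfsg.sigmaCore M)
    (ha1 : a ≠ 1) (hab : Commute a b) (hb : ∀ p : ℕ, p.Prime → p ∣ orderOf b → p ∉ Cfsg.sigma M) :
    (∃ N : Subgroup G, IsCoatom N ∧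
        a * b ∈ Cfsg.tildeOf N ((Cfsg.sigmaCore N : Set G) \ {1})) ∨
      ∃ N K : Subgroup G, IsCoatom N ∧ Cfsg.IsPiHallOf (Cfsg.kappa N) K N ∧ K ≠ ⊥ ∧
        a * b ∈ Zhat.orbit N K := by
  obtain ⟨hsplit, hnorm, hcop⟩ := centralizer_split hG hM ha ha1
  set C := centralizer ({a} : Set G) with hC
  set D := M ⊓ C with hD
  set R := Cfsg.supportR M a with hR
  have hcard : Nat.card C = Nat.card D * Nat.card R := card_of_compl hsplit
  have hbC : b ∈ C := mem_centralizer_singleton_iff.2 hab.eq.symm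
  obtain ⟨b₁, b₂, hb₁, hb₂, hb12, hb₁π, hb₂π⟩ :=
    Star.exists_part {p | p ∣ Nat.card D} b
  haveI : (R.subgroupOf C).Normal := normal_subgroupOf_of_le_normalizer hnorm
  have hb₂R : b₂ ∈ R := by
    have hb₂C : b₂ ∈ C := (zpowers_le.2 hbC) hb₂
    have h1 : zpowers (⟨b₂, hb₂C⟩ : C) ≤ R.subgroupOf C :=
      le_normal_of_coprime_index (Nat.coprime_of_dvd fun p hp h1 h2 => by
        rw [Nat.card_zpowers, orderOf_mk] at h1
        refine hb₂π p hp h1 ?_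
        have h3 : (R.subgroupOf C).index = Nat.card D := by
          have h4 := CfsgLib.Coprime.card_mul_relIndex hsplit.2.1
          rw [hcard, mul_comm (Nat.card D)] at h4
          exact Nat.eq_of_mul_eq_mul_left Nat.card_pos h4
        exact h3 ▸ h2)
    exact mem_subgroupOf.1 (h1 (mem_zpowers _))
  have hHall : IsHallIn {p | p ∣ Nat.card D} D C := by
    refine ⟨inf_le_right, fun p _ hd => hd, fun p hp hd hpD => ?_⟩
    have h4 := CfsgLib.Coprime.card_mul_relIndex (inf_le_right : D ≤ C)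
    rw [hcard] at h4
    rw [Nat.eq_of_mul_eq_mul_left Nat.card_pos h4] at hd
    exact hp.one_lt.ne' (Nat.eq_one_of_dvd_coprimes hcop hpD hd)
  obtain ⟨c, hcC, hcD⟩ := hHall.exists_conj_le
    (ms_solvable hG (ms_centralizer_singleton_ne_top hG ha1)) (zpowers_le.2 ((zpowers_le.2 hbC) hb₁))
    fun p hp hd => hb₁π p hp (by rwa [Nat.card_zpowers] at hd)
  have hca : c * a * c⁻¹ = a := by
    rw [mem_centralizer_singleton_iff.1 hcC, mul_inv_cancel_right]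
  suffices key : ∀ u v : G, u ∈ D → v ∈ R → Commute u v →
      (∀ p : ℕ, p.Prime → p ∣ orderOf u → p ∉ Cfsg.sigma M) →
      (∃ N : Subgroup G, IsCoatom N ∧
          a * (u * v) ∈ Cfsg.tildeOf N ((Cfsg.sigmaCore N : Set G) \ {1})) ∨
        ∃ N K : Subgroup G, IsCoatom N ∧ Cfsg.IsPiHallOf (Cfsg.kappa N) K N ∧ K ≠ ⊥ ∧
          a * (u * v) ∈ Zhat.orbit N K by
    have e : a * b = c⁻¹ * (a * ((c * b₁ * c⁻¹) * (c * b₂ * c⁻¹))) * c⁻¹⁻¹ := by
      conv_rhs => rw [← hca]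
      rw [hb12]; group
    have hord : orderOf (c * b₁ * c⁻¹) = orderOf b₁ :=
      orderOf_injective (MulAut.conj c).toMonoidHom (MulEquiv.injective _) b₁
    rcases key (c * b₁ * c⁻¹) (c * b₂ * c⁻¹) (hcD (conj_mem_conjBy (mem_zpowers b₁)))
        ((mem_normalizer_iff.1 (hnorm hcC) b₂).1 hb₂R)
        ((Commute.conj_iff c).2 (by
          obtain ⟨i, rfl⟩ := mem_zpowers_iff.1 hb₁
          obtain ⟨j, rfl⟩ := mem_zpowers_iff.1 hb₂
          exact ((Commute.refl b).zpow_zpow i j)))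
        (fun p hp hd => hb p hp ((hord ▸ hd).trans (orderOf_dvd_of_mem_zpowers hb₁))) with
      ⟨N, hN, h⟩ | ⟨N, K, hN, hK, hK1, h⟩
    · left; exact ⟨N, hN, by rw [e]; exact tilde_conj c⁻¹ h⟩
    · right; exact ⟨N, K, hN, hK, hK1, by rw [e]; exact orbit_conj c⁻¹ h⟩
  intro u v hu hv huv huσ
  by_cases hu1 : u = 1
  · left
    exact ⟨M, hM, a, ⟨ha, fun e => ha1 e⟩, v, hv, 1, by rw [hu1]; group⟩
  have hau : Commute a u := (mem_centralizer_singleton_iff.1 (mem_inf.1 hu).2 : u * a = a * u).symm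
  rcases kappa_or_tau2 hG hM ha ha1 (mem_inf.1 hu).1 hau huσ with hκ | hτ
  · right
    obtain ⟨K, hKM, hK1', hK2⟩ :=
      CfsgLib.Coprime.exists_hallIn (Cfsg.kappa M) (ms_solvable hG hM.1)
    have hK : Cfsg.IsPiHallOf (Cfsg.kappa M) K M :=
      ⟨hKM, hK1', fun p hp hpκ hd => hK2 p hp hd hpκ⟩
    obtain ⟨hCM, hKne, m, -, hmu, hma⟩ := kappa_case hG hM ha ha1 (mem_inf.1 hu).1 hau hK hu1 hκ
    have hv1 : v = 1 := by
      have : R = ⊥ := by rw [hR, Cfsg.supportR, dif_neg (fun h => h.1 hCM)]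
      rwa [this, mem_bot] at hv
    refine ⟨M, K, hM, hK, hKne, ?_⟩
    have e : a * (u * v) = m⁻¹ * ((m * u * m⁻¹) * (m * a * m⁻¹)) * m⁻¹⁻¹ := by
      rw [hv1, mul_one, hau.eq]; group
    rw [e]
    exact orbit_conj _ ⟨1, _, mul_mem_zhat hG hM hK hmu (fun e' => hu1 (conj_eq_one_iff.1 e'))
      hma (fun e' => ha1 (conj_eq_one_iff.1 e')), by group⟩
  · left
    obtain ⟨⟨L, hL, hLσ⟩, hCu, hCu'⟩ := tau2_case hG hM ha ha1 (mem_inf.1 hu).1 hau hu1 hτ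
    have hv1 : v = 1 := by
      have hvM : v ∈ M := hCu (mem_centralizer_singleton_iff.2 huv.eq.symm)
      exact mem_bot.1 (hsplit.2.2.1.le (mem_inf.2 ⟨mem_inf.2 ⟨hvM, hsplit.2.1 hv⟩, hv⟩))
    obtain ⟨h, hh⟩ := sigma_conj_into hG hL (Y := zpowers u) (fun e => hu1 (zpowers_eq_bot.1 e))
      fun p hp hd => hLσ p hp (by rwa [Nat.card_zpowers] at hd)
    set L' := conjBy h⁻¹ L with hL'
    have hL'c : IsCoatom L' := isCoatom_conjBy _ hL
    have huL : u ∈ Cfsg.sigmaCore L' := by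
      have h1 := conj_mem_sigmaCore hG hL h⁻¹ (hh (conj_mem_conjBy (mem_zpowers u)))
      simpa [mul_assoc] using h1
    have hnle : ¬ centralizer ({u} : Set G) ≤ L' := fun hle => by
      obtain ⟨p, hp, hpd⟩ := Nat.exists_prime_and_dvd fun e => hu1 (orderOf_eq_one_iff.1 e)
      have h1 := Cosets.sigma_of_mem hG hL'c huL hp hpd
      rw [hCu' L' hL'c hle] at h1
      exact huσ p hp hpd h1
    obtain ⟨N, hN, -, huniq, -, -, -, hR'⟩ := support_eq hG hL'c huL hu1 hnle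
    obtain rfl : M = N := huniq M hM hCu
    refine ⟨L', hL'c, u, ⟨huL, fun e => hu1 e⟩, a, ?_, 1, ?_⟩
    · rw [hR']
      exact mem_inf.2 ⟨ha, mem_centralizer_singleton_iff.2 hau.eq⟩
    · rw [hv1, mul_one, hau.eq]; group

/-- Every nontrivial element lies in some `M̃` or is conjugate into some `Ẑ`. -/
theorem cover {g : G} (hg : g ≠ 1) :
    (∃ N : Subgroup G, IsCoatom N ∧ g ∈ Cfsg.tildeOf N ((Cfsg.sigmaCore N : Set G) \ {1})) ∨
      ∃ N K : Subgroup G, IsCoatom N ∧ Cfsg.IsPiHallOf (Cfsg.kappa N) K N ∧ K ≠ ⊥ ∧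
        g ∈ Zhat.orbit N K := by
  obtain ⟨t, ht, htd⟩ := Nat.exists_prime_and_dvd fun e => hg (orderOf_eq_one_iff.1 e)
  haveI : Fact t.Prime := ⟨ht⟩
  obtain ⟨M, hM, htM⟩ := exists_sigma hG (htd.trans (orderOf_dvd_natCard g))
  obtain ⟨a, b, haz, hbz, hab, haσ, hbσ⟩ := Star.exists_part (Cfsg.sigma M) g
  have hc : Commute a b := by
    obtain ⟨i, rfl⟩ := mem_zpowers_iff.1 haz
    obtain ⟨j, rfl⟩ := mem_zpowers_iff.1 hbz
    exact (Commute.refl g).zpow_zpow i j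
  have ha1 : a ≠ 1 := fun e => by
    rw [e, one_mul] at hab
    exact hbσ t ht (hab ▸ htd) htM
  obtain ⟨h, hh⟩ := sigma_conj_into hG hM (Y := zpowers a) (fun e => ha1 (zpowers_eq_bot.1 e))
    fun p hp hd => haσ p hp (by rwa [Nat.card_zpowers] at hd)
  have e : g = h⁻¹ * ((h * a * h⁻¹) * (h * b * h⁻¹)) * h⁻¹⁻¹ := by rw [hab]; group
  have hord : orderOf (h * b * h⁻¹) = orderOf b :=
    orderOf_injective (MulAut.conj h).toMonoidHom (MulEquiv.injective _) b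
  rcases cover_pair hG hM (hh (conj_mem_conjBy (mem_zpowers a)))
      (fun e' => ha1 (conj_eq_one_iff.1 e')) ((Commute.conj_iff h).2 hc)
      (fun p hp hd => hbσ p hp (hord ▸ hd)) with ⟨N, hN, h'⟩ | ⟨N, K, hN, hK, hK1, h'⟩
  · left; exact ⟨N, hN, by rw [e]; exact tilde_conj h⁻¹ h'⟩
  · right; exact ⟨N, K, hN, hK, hK1, by rw [e]; exact orbit_conj h⁻¹ h'⟩

end CfsgLib.CFun.Cover
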