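import Cfsg.Agent.Lib.CFun.OddTildeCover

/-!
# The orbit of `Ẑ` is unique and avoids every `M̃`
-/

set_option autoImplicit false
set_option linter.style.haveILetI false
set_option linter.unusedSectionVars false

open Subgroup
open CfsgLib.Coprime (conjBy conjBy_conjBy conjBy_one mem_conjBy conj_mem_conjBy IsHallIn)

namespace CfsgLib.CFun.Cover

open CfsgLib.CFun.TauTwo CfsgLib.CFun.Lines CfsgLib.CFun.Disjoint CfsgLib.CFun.ElemCent
open CfsgLib.CFun.Kappa CfsgLib.CFun.Partner CfsgLib.CFun.Inter CfsgLib.CFun.Tilde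

universe u

variable {G : Type u} [Group G] [Finite G]
variable (hG : Cfsg.IsMinSimpleOddOrder G)
include hG

/-- `Ẑ` is the same for `M` and for its partner. -/
theorem zhat_swap {M K Mstar : Subgroup G} (hM : IsCoatom M)
    (hK : Cfsg.IsPiHallOf (Cfsg.kappa M) K M) (hK1 : K ≠ ⊥) (hMs : IsCoatom Mstar)
    (hKst : K = Cfsg.sigmaCore Mstar ⊓
      centralizer ((Cfsg.sigmaCore M ⊓ centralizer (K : Set G)) : Set G))
    (hKstH : Cfsg.IsPiHallOf (Cfsg.kappa Mstar) (Cfsg.sigmaCore M ⊓ centralizer (K : Set G)) Mstar) :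
    Zhat.zhat Mstar (Cfsg.sigmaCore M ⊓ centralizer (K : Set G)) = Zhat.zhat M K := by
  obtain ⟨hKst', -, -, -⟩ := of_hyp hG hM hK hK1 hMs hKst hKstH
  unfold Zhat.zhat
  rw [← hKst', sup_comm, Set.union_comm]

variable {M K : Subgroup G} (hM : IsCoatom M) (hK : Cfsg.IsPiHallOf (Cfsg.kappa M) K M)
  (hK1 : K ≠ ⊥)
include hM hK hK1

/-- The orbit of `Ẑ` of a conjugate of `M` is the orbit of `Ẑ`. -/
theorem orbit_subset_of_conj {M₀ K₀ : Subgroup G} (hM₀ : IsCoatom M₀)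
    (hK₀ : Cfsg.IsPiHallOf (Cfsg.kappa M₀) K₀ M₀) (hK₀1 : K₀ ≠ ⊥) {g : G}
    (hg : conjBy g M₀ = M) : Zhat.orbit M₀ K₀ ⊆ Zhat.orbit M K := by
  rintro _ ⟨y, z, hz, rfl⟩
  refine orbit_conj y ?_
  suffices h : g * z * g⁻¹ ∈ Zhat.orbit M K by
    have h' := orbit_conj g⁻¹ h
    simpa [mul_assoc] using h'
  obtain ⟨a, b, rfl, ha, ha1, hb, hb1, hab, -, -⟩ := exists_parts hG hM₀ hK₀ hz
  have hb' : g * b * g⁻¹ ∈ Cfsg.sigmaCore M := hg ▸ conj_mem_sigmaCore hG hM₀ g (mem_inf.1 hb).1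
  have hb'1 : g * b * g⁻¹ ≠ 1 := fun e => hb1 (conj_eq_one_iff.1 e)
  have ha' : g * a * g⁻¹ ∈ M := hg ▸ conj_mem_conjBy (hK₀.1 ha)
  have ha'1 : g * a * g⁻¹ ≠ 1 := fun e => ha1 (conj_eq_one_iff.1 e)
  have hc : Commute (g * b * g⁻¹) (g * a * g⁻¹) := (Commute.conj_iff g).2 hab.symm
  have hord : orderOf (g * a * g⁻¹) = orderOf a :=
    orderOf_injective (MulAut.conj g).toMonoidHom (MulEquiv.injective _) a
  have hσ : ∀ p : ℕ, p.Prime → p ∣ orderOf (g * a * g⁻¹) → p ∉ Cfsg.sigma M := by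
    intro p hp hd h
    haveI : Fact p.Prime := ⟨hp⟩
    exact (hK₀.2.1 p hp ((hord ▸ hd).trans (orderOf_dvd_natCard _ ha))).2.2.1
      (mem_sigma_conjBy hG hM₀ (hg.symm ▸ h))
  rcases kappa_or_tau2 hG hM hb' hb'1 ha' hc hσ with hκ | hτ
  · obtain ⟨-, -, m, -, hma, hmb⟩ := kappa_case hG hM hb' hb'1 ha' hc hK ha'1 hκ
    have h1 : m * (g * (a * b) * g⁻¹) * m⁻¹ ∈ Zhat.orbit M K := by
      refine ⟨1, _, mul_mem_zhat hG hM hK hma (fun e => ha'1 (conj_eq_one_iff.1 e)) hmb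
        (fun e => hb'1 (conj_eq_one_iff.1 e)), ?_⟩
      group
    have h2 := orbit_conj m⁻¹ h1
    simpa [mul_assoc] using h2
  · exfalso
    obtain ⟨-, hCa, hCa'⟩ := tau2_case hG hM hb' hb'1 ha' hc ha'1 hτ
    obtain ⟨N, hN, hNK, hNH⟩ := exists_partner hG hM₀ hK₀ hK₀1
    obtain ⟨hNK', -, -, -⟩ := of_hyp hG hM₀ hK₀ hK₀1 hN hNK hNH
    have haN : a ∈ Cfsg.sigmaCore N ⊓
        centralizer ((Cfsg.sigmaCore M₀ ⊓ centralizer (K₀ : Set G) : Subgroup G) : Set G) :=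
      hNK'.le ha
    have hCN := (eq_of_fixed_mem hG hN hNH (fixed_ne_bot hG hM₀ hK₀) haN ha1 (g := 1)
      (by rw [conjBy_one]; exact map_subtype_le _ (mem_inf.1 haN).1)).2
    have e := hCa' (conjBy g N) (isCoatom_conjBy g hN)
      (by rw [← conjBy_centralizer]; exact map_mono hCN)
    obtain ⟨p, hp, hpd⟩ := Nat.exists_prime_and_dvd fun e' => ha1 (orderOf_eq_one_iff.1 e')
    exact hσ p hp (hord.symm ▸ hpd) (Cosets.sigma_of_mem hG hM
      (e ▸ conj_mem_sigmaCore hG hN g (mem_inf.1 haN).1) hp (hord.symm ▸ hpd))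

/-- There is one orbit of `Ẑ`. -/
theorem orbit_subset {M₀ K₀ : Subgroup G} (hM₀ : IsCoatom M₀)
    (hK₀ : Cfsg.IsPiHallOf (Cfsg.kappa M₀) K₀ M₀) (hK₀1 : K₀ ≠ ⊥) :
    Zhat.orbit M₀ K₀ ⊆ Zhat.orbit M K := by
  obtain ⟨N, hN, hNK, hNH⟩ := exists_partner hG hM hK hK1
  obtain ⟨t, T, ht, hTK, hTc⟩ := exists_prime_line hK₀1
  have hne : (Cfsg.kappa M₀).Nonempty := ⟨t, hK₀.2.1 t ht (hTc ▸ card_dvd_of_le hTK)⟩
  obtain ⟨g, hg | hg⟩ := Zhat.kappa_conj hG hM hK hK1 hN hNK hM₀ hne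
  · refine orbit_subset_of_conj hG hM hK hK1 hM₀ hK₀ hK₀1 (g := g⁻¹) ?_
    rw [← hg, conjBy_conjBy, inv_mul_cancel, conjBy_one]
  · have h := orbit_subset_of_conj hG hN hNH (fixed_ne_bot hG hM hK) hM₀ hK₀ hK₀1 (g := g⁻¹)
      (by rw [← hg, conjBy_conjBy, inv_mul_cancel, conjBy_one])
    have e : Zhat.orbit N (Cfsg.sigmaCore M ⊓ centralizer (K : Set G)) = Zhat.orbit M K := by
      unfold Zhat.orbit
      rw [zhat_swap hG hM hK hK1 hN hNK hNH]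
    exact e ▸ h

/-- A coset product equal to an element of `Ẑ` cannot have its core part in `σ(M)`. -/
theorem zhat_coset_false {N : Subgroup G} (hN : IsCoatom N) {z x r : G} (hz : z ∈ Zhat.zhat M K)
    (hx : x ∈ Cfsg.sigmaCore N) (hx1 : x ≠ 1) (hr : r ∈ Cfsg.supportR N x) (hzxr : z = x * r)
    {t : ℕ} (ht : t.Prime) (htd : t ∣ orderOf x) (htM : t ∈ Cfsg.sigma M) : False := by
  haveI : Fact t.Prime := ⟨ht⟩
  obtain ⟨a, b, e, ha, ha1, hb, hb1, hab, -, -⟩ := exists_parts hG hM hK hz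
  obtain ⟨k, hk⟩ := exists_conj_of_sigma hG hM hN htM (Cosets.sigma_of_mem hG hN hx ht htd)
  obtain ⟨hxr, hrσ⟩ := Cosets.support_order hG hN hx hx1 hr
  have hiff : ∀ p : ℕ, p.Prime → (p ∈ Cfsg.sigma N ↔ p ∈ Cfsg.sigma M) := by
    intro p hp
    haveI : Fact p.Prime := ⟨hp⟩
    refine ⟨fun h => mem_sigma_conjBy hG hM (hk.symm ▸ h), fun h => mem_sigma_conjBy hG hN
      (g := k⁻¹) ?_⟩
    rw [← hk, conjBy_conjBy, inv_mul_cancel, conjBy_one]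
    exact h
  have hxb : x = b := Cosets.part_unique (π := Cfsg.sigma M) hxr hab.symm
    (fun p hp hd => (hiff p hp).1 (Cosets.sigma_of_mem hG hN hx hp hd))
    (fun p hp hd h => hrσ p hp hd ((hiff p hp).2 h))
    (fun p hp hd => Cosets.sigma_of_mem hG hM (mem_inf.1 hb).1 hp hd)
    (fun p hp hd => (hK.2.1 p hp (hd.trans (orderOf_dvd_natCard _ ha))).2.2.1)
    (by rw [← hzxr, e, hab.eq])
  subst hxb
  obtain ⟨hkM, hCM⟩ := eq_of_fixed_mem hG hM hK hK1 hb hb1 (g := k)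
    (hk.symm ▸ map_subtype_le _ hx)
  have hNM : N = M := by
    rw [← hk]
    exact CfsgLib.Coprime.conjBy_eq_self_iff.2 (le_normalizer hkM)
  subst hNM
  rw [Cfsg.supportR, dif_neg (fun h => h.1 hCM), mem_bot] at hr
  rw [hr, mul_one] at hzxr
  exact hz.2 (Or.inr (hzxr ▸ hb))

/-- No conjugate of an element of `Ẑ` lies in an `Ñ`. -/
theorem orbit_not_tilde {N : Subgroup G} (hN : IsCoatom N) {w : G} (hw : w ∈ Zhat.orbit M K) :
    w ∉ Cfsg.tildeOf N ((Cfsg.sigmaCore N : Set G) \ {1}) := by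
  intro hwt
  obtain ⟨y, z, hz, rfl⟩ := hw
  obtain ⟨x, ⟨hx, hx1⟩, r, hr, v, e⟩ := hwt
  have hx1' : x ≠ 1 := hx1
  set h := y⁻¹ * v with hh
  have hz' : z = (h * x * h⁻¹) * (h * r * h⁻¹) := by
    have e' : z = y⁻¹ * (v * (x * r) * v⁻¹) * y := by rw [← e]; group
    rw [e', hh]; group
  have hxN := conj_mem_sigmaCore hG hN h hx
  have hx1'' : h * x * h⁻¹ ≠ 1 := fun e' => hx1' (conj_eq_one_iff.1 e')
  have hrN := conj_mem_support hG hN h hx hx1' hr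
  have hN' := isCoatom_conjBy h hN
  obtain ⟨t, ht, htd⟩ := Nat.exists_prime_and_dvd fun e' => hx1'' (orderOf_eq_one_iff.1 e')
  obtain ⟨hxr, hrσ⟩ := Cosets.support_order hG hN' hxN hx1'' hrN
  have hcop : (orderOf (h * x * h⁻¹)).Coprime (orderOf (h * r * h⁻¹)) :=
    Nat.coprime_of_dvd fun p hp h1 h2 => hrσ p hp h2 (Cosets.sigma_of_mem hG hN' hxN hp h1)
  have htz : t ∣ orderOf z := by
    rw [hz']
    exact htd.trans (orderOf_dvd_of_mem_zpowers (Cosets.mem_zpowers_mul hxr hcop))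
  obtain ⟨a, b, e0, ha, -, hb, -, hab, -, -⟩ := exists_parts hG hM hK hz
  rw [e0] at htz
  rcases ht.dvd_mul.1 (htz.trans hab.orderOf_mul_dvd_mul_orderOf) with hd | hd
  · obtain ⟨Ms, hMs, hKst, hKstH⟩ := exists_partner hG hM hK hK1
    obtain ⟨hKst', -, -, -⟩ := of_hyp hG hM hK hK1 hMs hKst hKstH
    exact zhat_coset_false hG hMs hKstH (fixed_ne_bot hG hM hK) hN'
      ((zhat_swap hG hM hK hK1 hMs hKst hKstH).symm ▸ hz) hxN hx1'' hrN hz' ht htd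
      (Cosets.sigma_of_mem hG hMs (mem_inf.1 (hKst'.le ha)).1 ht hd)
  · exact zhat_coset_false hG hM hK hK1 hN' hz hxN hx1'' hrN hz' ht htd
      (Cosets.sigma_of_mem hG hM (mem_inf.1 hb).1 ht hd)

end CfsgLib.CFun.Cover
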