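import Cfsg.Agent.Lib.CFun.OddKappaDerived
import Cfsg.Agent.Lib.CFun.OddFittingTI
import Cfsg.Agent.Lib.CFun.OddFittingChain
import Cfsg.Agent.Lib.CFun.OddFifteenTwo
import Cfsg.Agent.Lib.CFun.OddKappaCount
import Cfsg.Agent.Lib.CFun.OddKappaNormU
import Cfsg.Agent.Lib.CFun.OddUFixed
import Cfsg.Agent.Lib.CFun.OddTypePBasic

/-!
# The types of maximal subgroups with `κ(M)` nonempty
-/

set_option autoImplicit false
set_option linter.style.haveILetI false
set_option linter.unusedSectionVars false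

open Subgroup
open scoped commutatorElement
open CfsgLib.Coprime (conjBy conjBy_conjBy conjBy_one mem_conjBy conj_mem_conjBy card_conjBy
  IsHallIn IsSylowIn IsPiNum)

namespace CfsgLib.CFun.TypeClass

open CfsgLib.CFun.TauTwo CfsgLib.CFun.Lines CfsgLib.CFun.Kappa CfsgLib.CFun.Partner
open CfsgLib.CFun.Inter

universe u

variable {G : Type u} [Group G] [Finite G]

/-- `M_F` is a Hall subgroup of `M`. -/
theorem hall_relIndex (M : Subgroup G) :
    (Nat.card (Cfsg.fittingHallOf M)).Coprime ((Cfsg.fittingHallOf M).relIndex M) := by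
  rw [Cfsg.fittingHallOf, card_map_of_injective M.subtype_injective, Subgroup.relIndex,
    Subgroup.subgroupOf, comap_map_eq_self_of_injective M.subtype_injective]
  exact fittingHall_coprime ↥M

/-- Normal nilpotent Hall subgroups lie in `M_F`. -/
theorem le_fittingHallOf {M X : Subgroup G} (hXM : X ≤ M) (hn : M ≤ normalizer (X : Set G))
    (hnil : Group.IsNilpotent X) (hcop : (Nat.card X).Coprime (X.relIndex M)) :
    X ≤ Cfsg.fittingHallOf M := by
  rw [← map_subgroupOf_eq_of_le hXM]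
  refine map_mono (le_sSup ⟨normal_subgroupOf_of_le_normalizer hn, ?_, ?_⟩)
  · haveI := hnil
    exact Group.nilpotent_of_mulEquiv (subgroupOfEquivOfLe hXM).symm
  · rw [Nat.card_congr (subgroupOfEquivOfLe hXM).toEquiv]
    exact hcop

variable (hG : Cfsg.IsMinSimpleOddOrder G) {M K U : Subgroup G} (hM : IsCoatom M)
include hG hM

/-- A nilpotent Hall subgroup of `M_σ` has its normalizer in `M`. -/
theorem normalizer_le_of_hall {V : Subgroup G} (hVσ : V ≤ Cfsg.sigmaCore M) (hV1 : V ≠ ⊥)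
    (hnil : Group.IsNilpotent V) (hcop : (Nat.card V).Coprime (V.relIndex (Cfsg.sigmaCore M))) :
    normalizer (V : Set G) ≤ M := by
  obtain ⟨r, hr, hrd⟩ := Nat.exists_prime_and_dvd fun e => hV1 (card_eq_one.1 e)
  haveI := Fact.mk hr
  obtain ⟨P⟩ := (inferInstance : Nonempty (Sylow r V))
  haveI := hnil
  haveI : (P : Subgroup V).Normal :=
    Sylow.normal_of_normalizerCondition Group.normalizerCondition_of_isNilpotent P
  haveI := Sylow.characteristic_of_normal P ‹_›
  have hrσ : r ∈ Cfsg.sigma M :=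
    (sigmaCore_hall hG hM).1.2.1 r hr (hrd.trans (card_dvd_of_le hVσ))
  have hP := TauTwo.isSylowIn_of_relIndex
    (TauTwo.isSylowIn_of_relIndex (CfsgLib.Coprime.isSylowIn_map P) hVσ
      fun hd => hr.one_lt.ne' (Nat.eq_one_of_dvd_coprimes hcop hrd hd))
    (map_subtype_le _) fun hd => (sigmaCore_hall hG hM).1.2.2 r hr hrσ hd
  have h := (sigma_sylow hG hM hrσ hP.toSylow).1
  rw [hP.map_toSylow] at h
  exact (CfsgLib.PGroup.normalizer_le_normalizer_map_char _ _).trans h

variable (d : Cfsg.IsSigmaDecomposition M K U)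
include d

omit hG hM in
theorem fixed_normal : K ≤ normalizer ((Cfsg.sigmaCore M ⊓ centralizer (K : Set G) : Subgroup G) : Set G) := by
  intro k hk
  refine CfsgLib.Coprime.centralizer_le_normalizer_self _ (mem_centralizer_iff.2 fun y hy => ?_)
  exact (mem_centralizer_iff.1 (mem_inf.1 hy).2 k hk).symm

section Kappa

variable (hK1 : K ≠ ⊥)
include hK1

theorem card_derived :
    Nat.card ↥⁅M, M⁆ ∣ Nat.card U * Nat.card (Cfsg.sigmaCore M) := by
  rw [KappaDerived.derived_eq hG hM d hK1]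
  exact CfsgLib.Coprime.card_sup_dvd_of_le_normalizer (d.compl.1.trans (sigmaCore_normal hG M))

theorem inf_derived : ⁅M, M⁆ ⊓ K = ⊥ := by
  refine CfsgLib.Coprime.disjoint_of_coprime_card (Nat.coprime_of_dvd fun p hp h1 h2 => ?_)
  have hκ := d.hall.2.1 p hp h2
  rcases hp.dvd_mul.1 (h1.trans (card_derived hG hM d hK1)) with hd | hd
  · exact (Decomp.primes hG hM d hp hd).2 hκ
  · exact hκ.2.2.1 ((sigmaCore_hall hG hM).1.2.1 p hp hd)

theorem derived_compl : Cfsg.IsComplIn ⁅M, M⁆ K M := by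
  refine ⟨commutator_le_self M, d.hall.1, inf_derived hG hM d hK1, fun m hm => ?_⟩
  obtain ⟨u, hu, w, hw, rfl⟩ := d.compl.2.2.2 m hm
  obtain ⟨s, hs, k, hk, rfl⟩ := CfsgLib.Coprime.mem_sup_exists
    (d.hall.1.trans (sigmaCore_normal hG M)) (sup_comm K (Cfsg.sigmaCore M) ▸ hw)
  refine ⟨u * s, ?_, k, hk, (mul_assoc u s k).symm⟩
  rw [KappaDerived.derived_eq hG hM d hK1]
  exact mul_mem_sup hu hs

theorem selfNormalizing :
    Cfsg.IsSelfNormalizingCyclic K (Cfsg.sigmaCore M ⊓ centralizer (K : Set G)) := by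
  have hcyc := isCyclic_Z hG hM d.hall hK1
  refine ⟨hK1, fixed_ne_bot hG hM d.hall, ?_, fun a ha b hb => ?_, hcyc, fun X hX hXne => ?_⟩
  · exact le_bot_iff.1 ((inf_le_inf_left _ inf_le_left).trans (Decomp.hall_inf hG hM d.hall).le)
  · exact mem_centralizer_iff.1 (mem_inf.1 hb).2 a ha
  refine le_antisymm (fun g hg => ?_) fun g hg => mem_set_normalizer_iff.2 fun y => ?_
  · obtain ⟨z, hz⟩ := hXne
    exact zhat_transporter hG hM d.hall hK1 (hX hz) (hX ((mem_set_normalizer_iff.1 hg z).1 hz))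
  · haveI := hcyc
    constructor
    · intro hy
      have hc : g * y = y * g := congrArg Subtype.val
        (IsMulCommutative.is_comm.comm (⟨g, hg⟩ : ↥(K ⊔ (Cfsg.sigmaCore M ⊓ centralizer (K : Set G))))
          ⟨y, (hX hy).1⟩)
      rwa [hc, mul_inv_cancel_right]
    · intro hy
      have hc : g * (g * y * g⁻¹) = (g * y * g⁻¹) * g := congrArg Subtype.val
        (IsMulCommutative.is_comm.comm (⟨g, hg⟩ : ↥(K ⊔ (Cfsg.sigmaCore M ⊓ centralizer (K : Set G))))
          ⟨g * y * g⁻¹, (hX hy).1⟩)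
      rw [inv_mul_cancel_right] at hc
      rwa [mul_left_cancel hc] at hy

/-- The data of type `P` for any nilpotent `K`-invariant complement of `M_F` in `M'`. -/
theorem typePWith {V : Subgroup G} (hVn : Group.IsNilpotent V)
    (hKV : K ≤ normalizer (V : Set G))
    (hV : Cfsg.IsComplIn (Cfsg.fittingHallOf M) V ⁅M, M⁆) :
    Cfsg.IsTypePWith M K V (Cfsg.sigmaCore M ⊓ centralizer (K : Set G)) := by
  have hfit := Chain.fittingOf_eq hG hM d
  have hle2 := Chain.second_derived_le hG hM d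
  have hfd := Chain.fittingOf_le_derived hG hM d hK1
  refine ⟨hK1, d.cyclic, ?_, derived_compl hG hM d hK1, hVn, hKV, hV,
    (KappaDerived.fixed_le_fittingHall hG hM d hK1).2, ?_, ?_, hfd, ?_, ?_,
    selfNormalizing hG hM d hK1⟩
  · refine Nat.coprime_of_dvd fun p hp h1 h2 => ?_
    exact d.hall.2.2 p hp (d.hall.2.1 p hp h1) h2
  · rw [sup_comm, ← hfit]; exact hle2
  · rw [sup_comm, ← hfit]
  · exact le_inf (KappaDerived.fixed_le_fittingHall hG hM d hK1).1
      (KappaDerived.fixed_le_second_derived hG hM d hK1)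
  · intro x hx hx1
    refine le_antisymm (fun y hy => ?_) (le_inf ?_ ?_)
    · obtain ⟨hy', hyC⟩ := mem_inf.1 hy
      have hyZ : y ∈ (Cfsg.sigmaCore M ⊓ centralizer (K : Set G)) ⊔ K := by
        rw [sup_comm, ← Decomp.centralizer_eq hG hM d hx hx1]
        exact mem_inf.2 ⟨commutator_le_self M hy', hyC⟩
      obtain ⟨s, hs, k, hk, rfl⟩ := CfsgLib.Coprime.mem_sup_exists (fixed_normal d) hyZ
      have hsM' : s ∈ ⁅M, M⁆ := KappaDerived.sigmaCore_le_derived hG hM d hK1 (mem_inf.1 hs).1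
      have hk1 : k ∈ ⁅M, M⁆ ⊓ K := by
        refine mem_inf.2 ⟨?_, hk⟩
        have := mul_mem (inv_mem hsM') hy'
        rwa [inv_mul_cancel_left] at this
      rw [inf_derived hG hM d hK1, mem_bot] at hk1
      rwa [hk1, mul_one]
    · exact inf_le_left.trans (KappaDerived.sigmaCore_le_derived hG hM d hK1)
    · exact inf_le_right.trans (centralizer_le (Set.singleton_subset_iff.2 hx))

/-- `M` is not of Frobenius type when `κ(M)` is nonempty. -/
theorem not_typeF : ¬ Cfsg.IsOfTypeF ↥M := by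
  rintro ⟨-, -, -, -, V, -, hVc, -, V₀, hV₀, hexp, hreg⟩
  obtain ⟨p, W, hp, hW, hWc⟩ := exists_prime_line hK1
  haveI := Fact.mk hp
  have hpκ : p ∈ Cfsg.kappa M := d.hall.2.1 p hp (hWc ▸ card_dvd_of_le hW)
  have hFσ := Cosets.fittingHallOf_le hG hM
  have hpH : ¬ p ∣ Nat.card (Cfsg.fittingHall ↥M) := fun hd => hpκ.2.2.1
    ((sigmaCore_hall hG hM).1.2.1 p hp (by
      rw [← card_map_of_injective M.subtype_injective] at hd
      exact hd.trans (card_dvd_of_le hFσ)))
  have hpV : p ∣ Nat.card V := by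
    have h1 := hpκ.2.1
    rw [← hVc.card_mul] at h1
    exact (hp.dvd_mul.1 h1).resolve_left hpH
  obtain ⟨v, hv⟩ := exists_prime_orderOf_dvd_card' p hpV
  have hpV₀ : p ∣ Nat.card V₀ := (hexp ▸ (hv ▸ Monoid.order_dvd_exponent v) :
    p ∣ Monoid.exponent V₀).trans Group.exponent_dvd_nat_card
  obtain ⟨w, hw⟩ := exists_prime_orderOf_dvd_card' p hpV₀
  set w₀ : G := ((w : M) : G) with hw₀
  have hw1 : (w : M) ≠ 1 := fun e => by
    rw [show w = 1 from Subtype.ext e, orderOf_one] at hw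
    exact hp.one_lt.ne hw
  have hwp : w₀ ^ p = 1 := congrArg (fun t : V₀ => ((t : M) : G)) (hw ▸ pow_orderOf_eq_one w)
  have hwc : Nat.card (zpowers w₀) = p := by
    rw [Nat.card_zpowers, orderOf_eq_prime hwp fun e => hw1 (Subtype.ext e)]
  obtain ⟨m, hm, hmK⟩ := IsHallIn.exists_conj_le (π := Cfsg.kappa M) (H := K) (L := M)
    ⟨d.hall.1, d.hall.2.1, fun t ht htd htκ => d.hall.2.2 t ht htκ htd⟩
    (ms_solvable hG hM.1) (zpowers_le.2 (w : M).2) fun t ht htd => by
      rw [hwc] at htd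
      rwa [(Nat.prime_dvd_prime_iff_eq ht hp).1 htd]
  obtain ⟨y, hy, hy1⟩ := (bot_or_exists_ne_one _).resolve_left (fixed_ne_bot hG hM d.hall)
  have hyF : m⁻¹ * y * m ∈ Cfsg.fittingHallOf M :=
    (mem_normalizer_iff''.1 (Chain.fittingHallOf_normal M hm) y).1
      ((KappaDerived.fixed_le_fittingHall hG hM d hK1).1 hy)
  obtain ⟨t, ht, hte⟩ := hyF
  have hc : m * w₀ * m⁻¹ * y = y * (m * w₀ * m⁻¹) :=
    mem_centralizer_iff.1 (mem_inf.1 hy).2 _ (hmK ⟨w₀, mem_zpowers _, rfl⟩)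
  refine hy1 ?_
  have h1 := hreg _ w.2 hw1 t ht (Subtype.ext (by
    show w₀ * (t : G) = (t : G) * w₀
    rw [show (t : G) = m⁻¹ * y * m from hte]
    calc w₀ * (m⁻¹ * y * m) = m⁻¹ * (m * w₀ * m⁻¹ * y) * m := by group
      _ = m⁻¹ * (y * (m * w₀ * m⁻¹)) * m := by rw [hc]
      _ = m⁻¹ * y * m * w₀ := by group))
  rw [h1] at hte
  have h2 : (1 : G) = m⁻¹ * y * m := hte
  calc y = m * (m⁻¹ * y * m) * m⁻¹ := by group
    _ = 1 := by rw [← h2]; group

theorem not_typeI : ¬ Cfsg.IsOfTypeI M := fun h => not_typeF hG hM d hK1 h.1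

/-- The exponent of `M'`: its cardinality. -/
theorem derived_card_eq :
    Nat.card ↥⁅M, M⁆ = Nat.card U * Nat.card (Cfsg.sigmaCore M) := by
  have h1 := Kappa.card_of_compl (derived_compl hG hM d hK1)
  rw [Decomp.card_eq hG hM d] at h1
  refine Nat.eq_of_mul_eq_mul_right (Nat.card_pos (α := K)) ?_
  rw [← h1]; ring

/-- For `U ≠ 1` every complement of `M_F` in `M'` is conjugate to `U`. -/
theorem not_normalizer_le (hU : U ≠ ⊥) {V : Subgroup G}
    (hV : Cfsg.IsComplIn (Cfsg.fittingHallOf M) V ⁅M, M⁆) :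
    ¬ normalizer (V : Set G) ≤ M := by
  intro hN
  have hnil := (nilpotent_of_U_ne_bot hG hM d hU).1
  rw [Cosets.fittingHallOf_eq hG hM hnil] at hV
  have hcard : Nat.card V = Nat.card U := by
    have h1 := Kappa.card_of_compl hV
    rw [derived_card_eq hG hM d hK1, mul_comm] at h1
    exact (Nat.eq_of_mul_eq_mul_left Nat.card_pos h1).symm
  have hcop : (Nat.card (Cfsg.sigmaCore M)).Coprime (Nat.card U) :=
    Nat.coprime_of_dvd fun p hp h1 h2 => (Decomp.primes hG hM d hp h2).1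
      ((sigmaCore_hall hG hM).1.2.1 p hp h1)
  obtain ⟨x, hx, hxV⟩ := CfsgLib.Coprime.sz_conj_in (B := V)
    (d.compl.1.trans (sigmaCore_normal hG M)) hcop
    (hV.2.1.trans (KappaDerived.derived_eq hG hM d hK1).le) hcard
    (Or.inr (CfsgLib.Coprime.isSolvable_of_isNilpotent hnil))
  refine NormU.not_normalizer_le hG hM d hK1 ?_
  rw [← hxV, normalizer_conjBy]
  rintro _ ⟨n, hn, rfl⟩
  exact mul_mem (mul_mem (map_subtype_le _ hx) (hN hn)) (inv_mem (map_subtype_le _ hx))

/-- For `U = 1` a nilpotent complement of `M_F` in `M'` has its normalizer in `M`. -/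
theorem normalizer_le (hU : U = ⊥) {V : Subgroup G} (hV1 : V ≠ ⊥) (hVn : Group.IsNilpotent V)
    (hV : Cfsg.IsComplIn (Cfsg.fittingHallOf M) V ⁅M, M⁆) :
    normalizer (V : Set G) ≤ M := by
  have hM' : ⁅M, M⁆ = Cfsg.sigmaCore M := by
    rw [KappaDerived.derived_eq hG hM d hK1, hU, bot_sup_eq]
  rw [hM'] at hV
  refine normalizer_le_of_hall hG hM hV.2.1 hV1 hVn ?_
  have h1 := Kappa.card_of_compl hV
  have h2 := CfsgLib.Coprime.card_mul_relIndex hV.2.1
  rw [show V.relIndex (Cfsg.sigmaCore M) = Nat.card (Cfsg.fittingHallOf M) from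
    Nat.eq_of_mul_eq_mul_left Nat.card_pos (h2.trans (h1.trans (mul_comm _ _)))]
  have h3 := CfsgLib.Coprime.card_mul_relIndex hV.1
  rw [h1] at h3
  rw [← Nat.eq_of_mul_eq_mul_left Nat.card_pos h3]
  exact ((hall_relIndex M).coprime_dvd_right (Dvd.intro _ (relIndex_mul_relIndex _ _ _ hV.1 (map_subtype_le _)))).symm

/-- `U = 1` with `M_F = M_σ` exactly when `M_F = M'`. -/
theorem derived_eq_fittingHall_iff :
    ⁅M, M⁆ = Cfsg.fittingHallOf M ↔ U = ⊥ ∧ Cfsg.fittingHallOf M = Cfsg.sigmaCore M := by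
  constructor
  · intro e
    have hle : ⁅M, M⁆ ≤ Cfsg.sigmaCore M := e.le.trans (Cosets.fittingHallOf_le hG hM)
    have heq := le_antisymm hle (KappaDerived.sigmaCore_le_derived hG hM d hK1)
    refine ⟨?_, e.symm.trans heq⟩
    have h1 := derived_card_eq hG hM d hK1
    rw [heq] at h1
    exact card_eq_one.1 ((Nat.mul_eq_right Nat.card_pos.ne').1 h1.symm)
  · rintro ⟨hU, hF⟩
    rw [KappaDerived.derived_eq hG hM d hK1, hU, bot_sup_eq, hF]

end Kappa

end CfsgLib.CFun.TypeClass
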