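import Cfsg.Agent.Lib.CFun.OddTypeClasses
import Cfsg.Agent.Lib.CFun.OddMeetCases

/-!
# The classification of maximal subgroups with `κ(M)` nonempty
-/

set_option autoImplicit false
set_option linter.style.haveILetI false
set_option linter.unusedSectionVars false

open Subgroup
open scoped commutatorElement
open CfsgLib.Coprime (conjBy mem_conjBy conj_mem_conjBy card_conjBy
  IsHallIn IsSylowIn IsPiNum)

namespace CfsgLib.CFun.TypeClass

open CfsgLib.CFun.TauTwo CfsgLib.CFun.Lines CfsgLib.CFun.Kappa CfsgLib.CFun.Partner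
open CfsgLib.CFun.Inter

universe u

variable {G : Type u} [Group G] [Finite G]

/-- Subgroups of coprime orders whose orders multiply to that of `M` are complements in `M`. -/
theorem complIn_of_card {A B M : Subgroup G} (hA : A ≤ M) (hB : B ≤ M)
    (hcop : (Nat.card A).Coprime (Nat.card B)) (hc : Nat.card A * Nat.card B = Nat.card M) :
    Cfsg.IsComplIn A B M := by
  have hd := CfsgLib.Coprime.disjoint_of_coprime_card hcop
  refine ⟨hA, hB, hd, fun x hx => ?_⟩
  have hcomp : Subgroup.IsComplement' (A.subgroupOf M) (B.subgroupOf M) := by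
    refine Subgroup.isComplement'_of_card_mul_and_disjoint ?_ (disjoint_iff.2 ?_)
    · rwa [Nat.card_congr (subgroupOfEquivOfLe hA).toEquiv,
        Nat.card_congr (subgroupOfEquivOfLe hB).toEquiv]
    · exact (eq_bot_iff_forall _).2 fun z hz =>
        Subtype.ext (mem_bot.1 (hd.le (mem_inf.2 ⟨(mem_inf.1 hz).1, (mem_inf.1 hz).2⟩)))
  obtain ⟨⟨⟨a, ha⟩, b, hb⟩, he⟩ := hcomp.2 ⟨x, hx⟩
  exact ⟨a, mem_subgroupOf.1 ha, b, mem_subgroupOf.1 hb, (congrArg Subtype.val he).symm⟩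

variable (hG : Cfsg.IsMinSimpleOddOrder G) {M K U : Subgroup G} (hM : IsCoatom M)
include hG hM

/-- The Sylow subgroups of a Hall subgroup of `M` inside `M_σ` have their normalizers in `M`. -/
theorem sylow_normalizer_le {X : Subgroup G} (hXσ : X ≤ Cfsg.sigmaCore M)
    (hcop : (Nat.card X).Coprime (X.relIndex (Cfsg.sigmaCore M))) {r : ℕ} [hr : Fact r.Prime]
    (P : Sylow r X) (hP1 : (P : Subgroup X) ≠ ⊥) :
    normalizer (((P : Subgroup X).map X.subtype : Subgroup G) : Set G) ≤ M := by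
  obtain ⟨j, hj⟩ := IsPGroup.iff_card.1 P.2
  have hrd : r ∣ Nat.card X := by
    rcases Nat.eq_zero_or_pos j with h0 | h0
    · exact absurd (card_eq_one.1 (by rw [hj, h0, pow_zero])) hP1
    · exact (dvd_pow_self r h0.ne').trans (hj ▸ card_subgroup_dvd_card (P : Subgroup X))
  have hrσ : r ∈ Cfsg.sigma M :=
    (sigmaCore_hall hG hM).1.2.1 r hr.out (hrd.trans (card_dvd_of_le hXσ))
  have hP := TauTwo.isSylowIn_of_relIndex
    (TauTwo.isSylowIn_of_relIndex (CfsgLib.Coprime.isSylowIn_map P) hXσ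
      fun hd => hr.out.one_lt.ne' (Nat.eq_one_of_dvd_coprimes hcop hrd hd))
    (map_subtype_le _) fun hd => (sigmaCore_hall hG hM).1.2.2 r hr.out hrσ hd
  have h := (sigma_sylow hG hM hrσ hP.toSylow).1
  rwa [hP.map_toSylow] at h

/-- A Hall subgroup of `M` inside `M_σ` is a Hall subgroup of `G`. -/
theorem coprime_index {X : Subgroup G} (hXσ : X ≤ Cfsg.sigmaCore M)
    (hcop : (Nat.card X).Coprime (X.relIndex M)) : (Nat.card X).Coprime X.index := by
  have hXM : X ≤ M := hXσ.trans (map_subtype_le _)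
  refine Nat.coprime_of_dvd fun r hr h1 h2 => ?_
  have hrσ : r ∈ Cfsg.sigma M :=
    (sigmaCore_hall hG hM).1.2.1 r hr (h1.trans (card_dvd_of_le hXσ))
  rw [← relIndex_mul_index hXM] at h2
  rcases hr.dvd_mul.1 h2 with h | h
  · exact hr.one_lt.ne' (Nat.eq_one_of_dvd_coprimes hcop h1 h)
  · refine (sigmaCore_hall hG hM).2.2 r hr hrσ (h.trans ?_)
    exact index_dvd_of_le (map_subtype_le _)

/-- A maximal subgroup with data of type `P` has `κ(M)` nonempty. -/
theorem kappa_ne_bot (d : Cfsg.IsSigmaDecomposition M K U) {W₁ V W₂ : Subgroup G}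
    (hP : Cfsg.IsTypePWith M W₁ V W₂) : K ≠ ⊥ := by
  obtain ⟨p, W, hp, hWW, hWc⟩ := exists_prime_line hP.W₁_ne
  haveI := Fact.mk hp
  have hpW : p ∣ Nat.card W₁ := hWc ▸ card_dvd_of_le hWW
  have hW₁M : W₁ ≤ M := hP.W₁_compl.2.1
  have hW₁hall : IsHallIn {q | q ∣ Nat.card W₁} W₁ M := ⟨hW₁M, fun q _ hd => hd,
    fun q hq hd hd' => hq.one_lt.ne' (Nat.eq_one_of_dvd_coprimes hP.W₁_hall hd' hd)⟩
  have hpM : p ∣ Nat.card M := hpW.trans (card_dvd_of_le hW₁M)
  have hrel : W₁.relIndex M = Nat.card ↥⁅M, M⁆ := by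
    refine Nat.eq_of_mul_eq_mul_left (Nat.card_pos (α := W₁)) ?_
    rw [CfsgLib.Coprime.card_mul_relIndex hW₁M, Kappa.card_of_compl hP.W₁_compl, mul_comm]
  have hpσ : p ∉ Cfsg.sigma M := fun hσ => by
    have h1 := CfsgLib.Coprime.card_mul_relIndex (map_subtype_le _ : Cfsg.sigmaCore M ≤ M)
    rw [← h1] at hpM
    have h2 : p ∣ Nat.card (Cfsg.sigmaCore M) :=
      (hp.dvd_mul.1 hpM).resolve_right ((sigmaCore_hall hG hM).1.2.2 p hp hσ)
    exact hp.one_lt.ne' (Nat.eq_one_of_dvd_coprimes hP.W₁_hall hpW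
      (hrel ▸ h2.trans (card_dvd_of_le (CfsgLib.CFun.sigmaCore_le_derived hG hM))))
  have hpκ : p ∈ Cfsg.kappa M := by
    refine ⟨hp, hpM, hpσ, fun P => ?_⟩
    obtain ⟨j, hj⟩ := IsPGroup.iff_card.1 P.2
    obtain ⟨m, hm, hmW⟩ := IsHallIn.exists_conj_le hW₁hall (ms_solvable hG hM.1)
      (map_subtype_le (P : Subgroup M)) fun q hq hqd => by
        rw [card_map_of_injective M.subtype_injective, hj] at hqd
        show q ∣ Nat.card W₁
        rwa [(Nat.prime_dvd_prime_iff_eq hq hp).1 (hq.dvd_of_dvd_pow hqd)]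
    have hcyc : IsCyclic P := by
      haveI := hP.W₁_cyclic
      haveI : IsCyclic ↥(conjBy m ((P : Subgroup M).map M.subtype)) :=
        isCyclic_of_injective (inclusion hmW) (inclusion_injective _)
      exact isCyclic_of_injective
        (((P : Subgroup M).equivMapOfInjective M.subtype M.subtype_injective).trans
          (((P : Subgroup M).map M.subtype).equivMapOfInjective (MulAut.conj m).toMonoidHom
            (MulAut.conj m).injective)).toMonoidHom (MulEquiv.injective _)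
    refine ⟨hcyc, ?_⟩
    obtain ⟨a, ha⟩ := exists_prime_orderOf_dvd_card' p (P.dvd_card_of_dvd_card hpM)
    have ha1 : (a : M) ≠ 1 := fun e => by
      rw [show a = 1 from Subtype.ext e, orderOf_one] at ha
      exact hp.one_lt.ne ha
    have hx : m * ((a : M) : G) * m⁻¹ ∈ W₁ := hmW (conj_mem_conjBy ⟨(a : M), a.2, rfl⟩)
    have hx1 : m * ((a : M) : G) * m⁻¹ ≠ 1 := fun e =>
      ha1 (Subtype.ext (conj_eq_one_iff.1 e))
    obtain ⟨y, hy, hy1⟩ := (bot_or_exists_ne_one _).resolve_left hP.selfNormalizing.2.1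
    have hyC : y ∈ centralizer ({m * ((a : M) : G) * m⁻¹} : Set G) := by
      rw [← hP.W₂_centralizer _ hx hx1] at hy
      exact (mem_inf.1 hy).2
    have hc := mem_centralizer_singleton_iff.1 hyC
    refine ⟨a, a.2, ha1, m⁻¹ * y * m, (mem_normalizer_iff''.1 (sigmaCore_normal hG M hm) y).1
      (Cosets.fittingHallOf_le hG hM (mem_inf.1 (hP.W₂_le hy)).1), fun e => hy1 ?_, ?_⟩
    · calc y = m * (m⁻¹ * y * m) * m⁻¹ := by group
        _ = 1 := by rw [e]; group
    · calc ((a : M) : G) * (m⁻¹ * y * m) = m⁻¹ * ((m * ((a : M) : G) * m⁻¹) * y) * m := by group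
        _ = m⁻¹ * (y * (m * ((a : M) : G) * m⁻¹)) * m := by rw [hc]
        _ = m⁻¹ * y * m * ((a : M) : G) := by group
  intro hK
  refine d.hall.2.2 p hp hpκ ?_
  rw [hK, relIndex_bot_left]
  exact hpM

variable (d : Cfsg.IsSigmaDecomposition M K U)
include d

/-- A nilpotent `K`-invariant complement of `M_F` in `M'` when `M_F ≠ M_σ`. -/
theorem exists_compl_of_ne (hne : Cfsg.fittingHallOf M ≠ Cfsg.sigmaCore M) :
    ∃ V : Subgroup G, Group.IsNilpotent V ∧ K ≤ normalizer (V : Set G) ∧ V ≠ ⊥ ∧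
      Cfsg.IsComplIn (Cfsg.fittingHallOf M) V ⁅M, M⁆ := by
  obtain ⟨hU, hK1⟩ := FifteenTwo.bot_of_ne hG hM d hne
  obtain ⟨Q, D, h⟩ := FifteenTwo.exists_split hG hM d hne
  have hM' : ⁅M, M⁆ = Cfsg.sigmaCore M := by
    rw [KappaDerived.derived_eq hG hM d hK1, hU, bot_sup_eq]
  have hFσ := Cosets.fittingHallOf_le hG hM
  obtain ⟨V, ⟨hVσ, hV, hV'⟩, hKV⟩ := CfsgLib.PGroup.exists_invariant_hall
    (d.hall.1.trans (sigmaCore_normal hG M)) (FifteenTwo.Split.coprime_K hG hM d h)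
    (sigmaCore_solvable hG hM) {q | ¬ q ∣ Nat.card (Cfsg.fittingHallOf M)}
  have hcop : (Nat.card (Cfsg.fittingHallOf M)).Coprime (Nat.card V) :=
    Nat.coprime_of_dvd fun q hq h1 h2 => hV q hq h2 h1
  have hcF : (Nat.card (Cfsg.fittingHallOf M)).Coprime
      ((Cfsg.fittingHallOf M).relIndex (Cfsg.sigmaCore M)) :=
    (hall_relIndex M).coprime_dvd_right
      (Dvd.intro _ (relIndex_mul_relIndex _ _ _ hFσ (map_subtype_le _)))
  have hF := CfsgLib.Coprime.card_mul_relIndex hFσ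
  have hVc := CfsgLib.Coprime.card_mul_relIndex hVσ
  have hrV : Nat.card V = (Cfsg.fittingHallOf M).relIndex (Cfsg.sigmaCore M) := by
    refine Nat.dvd_antisymm (hcop.symm.dvd_of_dvd_mul_left (hF ▸ card_dvd_of_le hVσ)) ?_
    refine Nat.Coprime.dvd_of_dvd_mul_right (Nat.coprime_of_dvd fun q hq h1 h2 => ?_)
      (hVc ▸ Dvd.intro_left _ hF)
    exact hV' q hq h2 fun h3 => hq.one_lt.ne' (Nat.eq_one_of_dvd_coprimes hcF h3 h1)
  refine ⟨V, ?_, hKV, fun e => hne ?_, hM' ▸ complIn_of_card hFσ hVσ hcop (hrV ▸ hF)⟩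
  · have hσQD := Kappa.card_of_compl h.compl
    have hDhall : IsHallIn {r | r ∣ Nat.card D} D (Cfsg.sigmaCore M) := by
      refine ⟨h.compl.2.1, fun r _ hr => hr, fun r hr h1 h2 => ?_⟩
      have h3 : D.relIndex (Cfsg.sigmaCore M) = Nat.card Q :=
        Nat.eq_of_mul_eq_mul_left (Nat.card_pos (α := D))
          (by rw [CfsgLib.Coprime.card_mul_relIndex h.compl.2.1, hσQD, mul_comm])
      exact hr.one_lt.ne' (Nat.eq_one_of_dvd_coprimes h.cop h2 (h3 ▸ h1))
    obtain ⟨x, -, hx⟩ := IsHallIn.exists_conj_le hDhall (sigmaCore_solvable hG hM) hVσ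
      fun r hr hrd => by
        have h1 := hrd.trans (card_dvd_of_le hVσ)
        rw [hσQD] at h1
        exact (hr.dvd_mul.1 h1).resolve_left fun h2 => hV r hr hrd
          (h2.trans (card_dvd_of_le (FifteenTwo.Split.le_fittingHall hG hM d h)))
    haveI := FifteenTwo.Split.nilpotent_D hG hM d h
    haveI : Group.IsNilpotent ↥(conjBy x V) :=
      Group.nilpotent_of_mulEquiv (subgroupOfEquivOfLe hx)
    haveI : Group.IsNilpotent ↥(V.map (MulAut.conj x).toMonoidHom) := this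
    exact Group.nilpotent_of_mulEquiv
      (V.equivMapOfInjective (MulAut.conj x).toMonoidHom (MulAut.conj x).injective).symm
  · rw [e, card_bot] at hrV
    exact le_antisymm hFσ (relIndex_eq_one.1 hrV.symm)

/-- The set `F(M)` is a TI-subset when `κ(M) ≠ ∅` and `M` is not of type V. -/
theorem fitting_ti (h : (U ≠ ⊥ ∧ K ≠ ⊥) ∨ Cfsg.fittingHallOf M ≠ Cfsg.sigmaCore M) :
    Cfsg.IsTISubset (Cfsg.fittingOf M : Set G) :=
  FitTI.ti_of_not_meet hG hM fun _ _ hm => h.elim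
    (fun h => FitTI.false_of_U_ne_bot hG hM d hm h.2 h.1)
    (fun h => h (FitTI.fittingHall_eq hG hM hm))

theorem typeII_of (hK1 : K ≠ ⊥) (hU : U ≠ ⊥) : Cfsg.IsOfTypeII M := by
  obtain ⟨hnil, hfix⟩ := nilpotent_of_U_ne_bot hG hM d hU
  have hF := Cosets.fittingHallOf_eq hG hM hnil
  haveI hUc := Decomp.isMulCommutative hG hM d hK1
  have hUn : Group.IsNilpotent U := by
    letI : CommGroup U :=
      { (inferInstance : Group U) with mul_comm := fun a b => IsMulCommutative.is_comm.comm a b }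
    exact CommGroup.isNilpotent
  have hσn := sigmaCore_normal hG M
  have hσ' := KappaDerived.sigmaCore_le_derived hG hM d hK1
  have hU' : U ≤ ⁅M, M⁆ := by
    rw [KappaDerived.derived_eq hG hM d hK1]; exact le_sup_left
  have hcop : (Nat.card (Cfsg.sigmaCore M)).Coprime (Nat.card U) :=
    Nat.coprime_of_dvd fun p hp h1 h2 => (Decomp.primes hG hM d hp h2).1
      ((sigmaCore_hall hG hM).1.2.1 p hp h1)
  have hV : Cfsg.IsComplIn (Cfsg.sigmaCore M) U ⁅M, M⁆ := complIn_of_card hσ' hU' hcop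
    (by rw [derived_card_eq hG hM d hK1, mul_comm])
  have hV' : Cfsg.IsComplIn (Cfsg.fittingHallOf M) U ⁅M, M⁆ := hF.symm ▸ hV
  have hFM' : Cfsg.fittingHallOf ⁅M, M⁆ = Cfsg.sigmaCore M := by
    refine le_antisymm ?_ (le_fittingHallOf hσ' ((commutator_le_self M).trans hσn) hnil ?_)
    · rw [← hF, Cfsg.fittingHallOf, map_le_iff_le_comap]
      refine sSup_le fun N ⟨hN, hNnil, hNcop⟩ => ?_
      haveI := hN
      haveI : N.Characteristic := Subgroup.characteristic_iff_map_le.2 fun φ =>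
        le_normal_of_coprime_index (by
          rwa [card_map_of_injective φ.injective])
      refine map_le_iff_le_comap.1 (le_fittingHallOf ((map_subtype_le N).trans (commutator_le_self M))
        ?_ ?_ ?_)
      · exact (CfsgLib.PGroup.le_normalizer_commutator (le_normalizer (H := M)) le_normalizer).trans
          (CfsgLib.PGroup.normalizer_le_normalizer_map_char _ _)
      · haveI := hNnil
        exact Group.nilpotent_of_mulEquiv
          (N.equivMapOfInjective _ (⁅M, M⁆).subtype_injective)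
      · rw [card_map_of_injective (⁅M, M⁆).subtype_injective]
        rw [← relIndex_mul_relIndex (N.map (⁅M, M⁆).subtype) ⁅M, M⁆ M (map_subtype_le _)
          (commutator_le_self M)]
        refine Nat.Coprime.mul_right ?_ ?_
        · rw [Subgroup.relIndex, subgroupOf,
            comap_map_eq_self_of_injective (⁅M, M⁆).subtype_injective]
          exact hNcop
        · refine Nat.Coprime.coprime_dvd_left (card_subgroup_dvd_card N) ?_
          have h1 := CfsgLib.Coprime.card_mul_relIndex (commutator_le_self M)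
          have h2 := Kappa.card_of_compl (derived_compl hG hM d hK1)
          rw [Nat.eq_of_mul_eq_mul_left Nat.card_pos (h1.trans h2)]
          refine Nat.coprime_of_dvd fun p hp h3 h4 => ?_
          have hκ := d.hall.2.1 p hp h4
          rw [derived_card_eq hG hM d hK1] at h3
          rcases hp.dvd_mul.1 h3 with h5 | h5
          · exact (Decomp.primes hG hM d hp h5).2 hκ
          · exact hκ.2.2.1 ((sigmaCore_hall hG hM).1.2.1 p hp h5)
    · refine hcop.coprime_dvd_right (dvd_of_eq ?_)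
      refine Nat.eq_of_mul_eq_mul_left (Nat.card_pos (α := Cfsg.sigmaCore M)) ?_
      rw [CfsgLib.Coprime.card_mul_relIndex hσ', derived_card_eq hG hM d hK1, mul_comm]
  have hfit : Cfsg.fittingHall ↥⁅M, M⁆ = (Cfsg.sigmaCore M).subgroupOf ⁅M, M⁆ := by
    rw [← hFM', Cfsg.fittingHallOf, subgroupOf,
      comap_map_eq_self_of_injective (⁅M, M⁆).subtype_injective]
  refine ⟨K, U, Cfsg.sigmaCore M ⊓ centralizer (K : Set G),
    typePWith hG hM d hK1 hUn d.normal hV', hU, (prime_of_U_ne_bot hG hM d hK1 hU).1,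
    fitting_ti hG hM d (Or.inl ⟨hU, hK1⟩), hUc, not_normalizer_le hG hM d hK1 hU hV',
    ?_, hFM'.trans hF.symm⟩
  have hne : Cfsg.sigmaCore M ≠ ⊥ := sigmaCore_ne_bot hG hM
  obtain ⟨U₀, hU₀, hexp, hreg⟩ := UFixed.exists_regular_exponent hG hM d
  refine ⟨?_, ?_, ?_, ?_, U.subgroupOf ⁅M, M⁆, ?_, ?_, ⟨U.subgroupOf ⁅M, M⁆, le_rfl, le_normalizer,
    ?_, fun x _ _ => inf_le_left⟩, U₀.subgroupOf ⁅M, M⁆, fun z hz => hU₀ hz, ?_, ?_⟩
  · haveI : Group.IsSolvable M := ms_solvable hG hM.1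
    exact solvable_of_solvable_injective (inclusion_injective (commutator_le_self M))
  · exact hG.1.of_dvd_nat (card_subgroup_dvd_card _)
  · rw [hfit]
    exact fun e => hne (le_bot_iff.1 ((inf_eq_left.2 hσ').ge.trans
      (subgroupOf_eq_bot.1 e).le_bot))
  · rw [hfit, Ne, subgroupOf_eq_top]
    exact fun e => hU (le_bot_iff.1 ((le_inf (hU'.trans e) le_rfl).trans hV.2.2.1.le))
  · exact fun e => hU (le_bot_iff.1 ((inf_eq_left.2 hU').ge.trans
      (subgroupOf_eq_bot.1 e).le_bot))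
  · rw [hfit]
    refine Subgroup.isComplement'_of_card_mul_and_disjoint ?_ (disjoint_iff.2 ?_)
    · rw [Nat.card_congr (subgroupOfEquivOfLe hσ').toEquiv,
        Nat.card_congr (subgroupOfEquivOfLe hU').toEquiv, derived_card_eq hG hM d hK1, mul_comm]
    · exact (eq_bot_iff_forall _).2 fun z hz =>
        Subtype.ext (mem_bot.1 (hV.2.2.1.le (mem_inf.2 ⟨(mem_inf.1 hz).1, (mem_inf.1 hz).2⟩)))
  · exact Subgroup.subgroupOf_isMulCommutative _ _
  · rw [Monoid.exponent_eq_of_mulEquiv (subgroupOfEquivOfLe (hU₀.trans hU')),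
      Monoid.exponent_eq_of_mulEquiv (subgroupOfEquivOfLe hU'), hexp]
  · intro z hz hz1 x hx hc
    rw [hfit] at hx
    by_contra hx1
    exact hz1 (Subtype.ext (hreg _ hz ⟨commutator_le_self M z.2, x, hx,
      fun e => hx1 (Subtype.ext e), congrArg Subtype.val hc⟩))

theorem typeIII_or_IV_of (hne : Cfsg.fittingHallOf M ≠ Cfsg.sigmaCore M) :
    Cfsg.IsOfTypeIII M ∨ Cfsg.IsOfTypeIV M := by
  obtain ⟨hU, hK1⟩ := FifteenTwo.bot_of_ne hG hM d hne
  obtain ⟨Q, D, h⟩ := FifteenTwo.exists_split hG hM d hne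
  obtain ⟨V, hVn, hKV, hV1, hV⟩ := exists_compl_of_ne hG hM d hne
  have hP := typePWith hG hM d hK1 hVn hKV hV
  have hq := (FifteenTwo.Split.frobenius hG hM d h).1
  have hti := fitting_ti hG hM d (Or.inr hne)
  have hN := normalizer_le hG hM d hK1 hU hV1 hVn hV
  by_cases hc : IsMulCommutative V
  · exact Or.inl ⟨K, V, _, hP, hV1, hq, hti, hc, hN⟩
  · exact Or.inr ⟨K, V, _, hP, hV1, hq, hti, hc, hN⟩

theorem typeV_of (hK1 : K ≠ ⊥) (hU : U = ⊥) (he : Cfsg.fittingHallOf M = Cfsg.sigmaCore M) :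
    Cfsg.IsOfTypeV M := by
  have hM' := (derived_eq_fittingHall_iff hG hM d hK1).2 ⟨hU, he⟩
  have hV : Cfsg.IsComplIn (Cfsg.fittingHallOf M) ⊥ ⁅M, M⁆ :=
    ⟨hM'.ge, bot_le, inf_bot_eq _, fun x hx => ⟨x, hM' ▸ hx, 1, one_mem _, (mul_one x).symm⟩⟩
  refine ⟨K, ⊥, Cfsg.sigmaCore M ⊓ centralizer (K : Set G),
    typePWith hG hM d hK1 (Group.isNilpotent_of_subsingleton)
      (by rw [normalizer_eq_top]; exact le_top) hV, rfl, ?_⟩
  by_cases hm : ∃ g x, FitTI.Meet M g x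
  · obtain ⟨g, x, hm⟩ := hm
    rcases MeetStructure.cases_of_meet hG hM hm with ⟨-, -, -, -, hK⟩ | ⟨p, x', hp, -, hm', hxp, hS⟩
    · exact absurd (hK K U d) hK1
    haveI := Fact.mk hp
    have hpd := (MeetStructure.prime_facts hG hM hm' hxp).2.2
    have hcyc := (MeetStructure.hall_facts hG hM hm' hxp hS).1
    rcases MeetStructure.alternatives hG hM hm' hxp hS d with hexp | ⟨hc3, -, -, hdiv⟩
    · refine Or.inr (Or.inl ⟨p, hp, hpd, ?_, hcyc⟩)
      haveI := d.cyclic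
      obtain ⟨k, hk⟩ := IsCyclic.exists_generator (α := K)
      rw [← orderOf_eq_card_of_forall_mem_zpowers hk]
      refine orderOf_dvd_of_pow_eq_one (Subtype.ext ?_)
      have h1 := Monoid.exponent_dvd_iff_forall_pow_eq_one.1 (hexp p hp hpd)
        (QuotientGroup.mk (⟨k, d.hall.1 k.2⟩ : M))
      rw [← QuotientGroup.mk_pow, QuotientGroup.eq_one_iff] at h1
      have h2 : (k : G) ^ (p - 1) ∈ Cfsg.fittingHallOf M :=
        ⟨(⟨k, d.hall.1 k.2⟩ : M) ^ (p - 1), h1, rfl⟩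
      have h3 : (k : G) ^ (p - 1) ∈ ⁅M, M⁆ ⊓ K := mem_inf.2 ⟨hM' ▸ h2, pow_mem k.2 _⟩
      rw [inf_derived hG hM d hK1, mem_bot] at h3
      exact h3
    · refine Or.inr (Or.inr ⟨p, hp, hpd, hc3, ?_, hcyc⟩)
      have hc := Kappa.card_of_compl (derived_compl hG hM d hK1)
      rw [hM', ← CfsgLib.Coprime.card_mul_relIndex
        (map_subtype_le _ : Cfsg.fittingHallOf M ≤ M)] at hc
      rwa [← Nat.eq_of_mul_eq_mul_left Nat.card_pos hc]
  · exact Or.inl fun g hg x hx hgx => by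
      by_contra hx1
      exact hm ⟨g, x, ⟨fun e => hg (Chain.fittingHallOf_normal M e), hx1,
        Chain.fittingHallOf_le_fittingOf M hx, Chain.fittingHallOf_le_fittingOf M hgx⟩⟩

theorem of_typeII (h : Cfsg.IsOfTypeII M) : K ≠ ⊥ ∧ U ≠ ⊥ := by
  obtain ⟨W₁, V, W₂, hP, hV1, -, -, -, hN, -⟩ := h
  have hK1 := kappa_ne_bot hG hM d hP
  exact ⟨hK1, fun hU => hN (normalizer_le hG hM d hK1 hU hV1 hP.U_nilpotent hP.U_compl)⟩

theorem of_typeIII_or_IV (h : Cfsg.IsOfTypeIII M ∨ Cfsg.IsOfTypeIV M) :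
    K ≠ ⊥ ∧ U = ⊥ ∧ Cfsg.fittingHallOf M ≠ Cfsg.sigmaCore M := by
  obtain ⟨W₁, V, W₂, hP, hV1, hN⟩ : ∃ W₁ V W₂ : Subgroup G, Cfsg.IsTypePWith M W₁ V W₂ ∧
      V ≠ ⊥ ∧ normalizer (V : Set G) ≤ M := by
    rcases h with ⟨W₁, V, W₂, hP, hV1, -, -, -, hN⟩ | ⟨W₁, V, W₂, hP, hV1, -, -, -, hN⟩ <;>
      exact ⟨W₁, V, W₂, hP, hV1, hN⟩
  have hK1 := kappa_ne_bot hG hM d hP
  have hU : U = ⊥ := by
    by_contra hU
    exact not_normalizer_le hG hM d hK1 hU hP.U_compl hN
  refine ⟨hK1, hU, fun he => hV1 (le_bot_iff.1 ((le_inf ?_ le_rfl).trans hP.U_compl.2.2.1.le))⟩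
  exact hP.U_compl.2.1.trans ((derived_eq_fittingHall_iff hG hM d hK1).2 ⟨hU, he⟩).le

theorem of_typeV (h : Cfsg.IsOfTypeV M) :
    K ≠ ⊥ ∧ U = ⊥ ∧ Cfsg.fittingHallOf M = Cfsg.sigmaCore M := by
  obtain ⟨W₁, V, W₂, hP, hV1, -⟩ := h
  have hK1 := kappa_ne_bot hG hM d hP
  refine ⟨hK1, (derived_eq_fittingHall_iff hG hM d hK1).1 (le_antisymm (fun x hx => ?_)
    hP.U_compl.1)⟩
  obtain ⟨a, ha, b, hb, rfl⟩ := hP.U_compl.2.2.2 x hx
  rw [hV1, mem_bot] at hb
  rwa [hb, mul_one]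

end CfsgLib.CFun.TypeClass
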