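import Cfsg.Agent.Lib.CFun.OddSigmaASets
import Cfsg.Agent.Lib.CFun.OddSigmaNeighbour
import Cfsg.Agent.Lib.CFun.OddFittingChain
import Cfsg.Agent.Lib.CFun.OddKappaNormU
import Cfsg.Agent.Lib.CFun.OddKappaCount
import Cfsg.Agent.S1418
import Cfsg.Agent.S1420

/-!
# The maximal subgroup over the normalizer of `U` in a group of type II

`M = K U M_σ` with `K`, `U` nontrivial, `M*` its partner and `H` a maximal subgroup over `N(U)`
which is not conjugate to `M`.
-/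

set_option autoImplicit false
set_option linter.style.haveILetI false
set_option linter.unusedSectionVars false

open Subgroup
open scoped commutatorElement
open CfsgLib.Coprime (conjBy conjBy_conjBy conjBy_one mem_conjBy conj_mem_conjBy card_conjBy
  IsSylowIn IsHallIn)

namespace CfsgLib.CFun.TwoNeighbour

open CfsgLib.CFun.TauTwo CfsgLib.CFun.Lines CfsgLib.CFun.Kappa CfsgLib.CFun.Partner
open CfsgLib.CFun.Inter CfsgLib.CFun.ElemCent CfsgLib.CFun.Disjoint

universe u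

variable {G : Type u} [Group G] [Finite G]

/-- The data of a neighbour of a maximal subgroup of type II. -/
structure Setup (M K U Mstar H : Subgroup G) (k : G) (p : ℕ) : Prop where
  coatomM : IsCoatom M
  decomp : Cfsg.IsSigmaDecomposition M K U
  K_ne : K ≠ ⊥
  U_ne : U ≠ ⊥
  coatomS : IsCoatom Mstar
  kst : K = Cfsg.sigmaCore Mstar ⊓
    centralizer ((Cfsg.sigmaCore M ⊓ centralizer (K : Set G)) : Set G)
  kstH : Cfsg.IsPiHallOf (Cfsg.kappa Mstar) (Cfsg.sigmaCore M ⊓ centralizer (K : Set G)) Mstar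
  card : Nat.card K = p
  gen : zpowers k = K
  coatomH : IsCoatom H
  normU : normalizer (U : Set G) ≤ H
  notConj : ∀ g : G, conjBy g M ≠ H

variable (hG : Cfsg.IsMinSimpleOddOrder G) {M K U Mstar H : Subgroup G} {k : G} {p : ℕ}
  [hp : Fact p.Prime]
include hG

theorem Setup.U_le (h : Setup M K U Mstar H k p) : U ≤ H := le_normalizer.trans h.normU

theorem Setup.K_le (h : Setup M K U Mstar H k p) : K ≤ H := h.decomp.normal.trans h.normU

theorem Setup.k_mem (h : Setup M K U Mstar H k p) : k ∈ K := h.gen ▸ mem_zpowers k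

theorem Setup.k_ne (h : Setup M K U Mstar H k p) : k ≠ 1 := fun e => h.K_ne <| by
  rw [← h.gen, e, zpowers_one_eq_bot]

theorem Setup.k_pow (h : Setup M K U Mstar H k p) : k ^ p = 1 := by
  have := pow_card_eq_one' (x := (⟨k, h.k_mem hG⟩ : K))
  rw [h.card] at this
  exact congrArg Subtype.val this

theorem Setup.centralizer_K (h : Setup M K U Mstar H k p) :
    centralizer (K : Set G) = centralizer ({k} : Set G) := by
  rw [← h.gen, TauTwo.centralizer_zpowers]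

theorem Setup.star_facts (h : Setup M K U Mstar H k p) : k ∈ Cfsg.sigmaCore Mstar ∧
    p ∈ Cfsg.sigma Mstar ∧ centralizer ({k} : Set G) ≤ Mstar ∧ normalizer (K : Set G) ≤ Mstar := by
  obtain ⟨hKst', -, h2, -⟩ := of_hyp hG h.coatomM h.decomp.hall h.K_ne h.coatomS h.kst h.kstH
  have hKσ : K ≤ Cfsg.sigmaCore Mstar := hKst'.le.trans inf_le_left
  have hqσ : p ∈ Cfsg.sigma Mstar :=
    (sigmaCore_hall hG h.coatomS).1.2.1 p hp.out (h.card ▸ card_dvd_of_le hKσ)
  have hu := h2.unique hG le_sup_left h.card hqσ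
  exact ⟨hKσ (h.k_mem hG), hqσ, (h.centralizer_K hG) ▸ hu.1,
    normalizer_le_of_unique hG h.coatomS hu⟩

/-- A maximal subgroup through `k` sharing a `σ`-prime with `M*` is `M*`. -/
theorem Setup.eq_star (h : Setup M K U Mstar H k p) {L : Subgroup G} (hL : IsCoatom L)
    (hkL : k ∈ L) {t : ℕ} (ht : t.Prime) (htL : t ∈ Cfsg.sigma L) (htS : t ∈ Cfsg.sigma Mstar) :
    L = Mstar := by
  haveI : Fact t.Prime := ⟨ht⟩
  obtain ⟨hKst', -, -, -⟩ := of_hyp hG h.coatomM h.decomp.hall h.K_ne h.coatomS h.kst h.kstH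
  obtain ⟨g, rfl⟩ := exists_conj_of_sigma hG h.coatomS hL htS htL
  exact CfsgLib.Coprime.conjBy_eq_self_iff.2 (le_normalizer (eq_of_fixed_mem hG h.coatomS h.kstH
    (fixed_ne_bot hG h.coatomM h.decomp.hall) (hKst'.le (h.k_mem hG)) (h.k_ne hG) hkL).1)

theorem Setup.ne_star (h : Setup M K U Mstar H k p) : H ≠ Mstar := fun e => h.U_ne <| by
  obtain ⟨-, h1, -, -⟩ := of_hyp hG h.coatomM h.decomp.hall h.K_ne h.coatomS h.kst h.kstH
  have hUZ : U ≤ K ⊔ (Cfsg.sigmaCore M ⊓ centralizer (K : Set G)) := by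
    rw [← inter_eq hG h.coatomM h.decomp.hall h.K_ne h.coatomS h.kst h.kstH]
    exact le_inf h.decomp.compl.1 (e ▸ h.U_le hG)
  refine eq_bot_iff.2 fun u hu => ?_
  rw [← Decomp.fpf hG h.coatomM h.decomp (h.k_mem hG) (h.k_ne hG)]
  exact ⟨hu, mem_centralizer_singleton_iff.2
    (h1.commute hG (hUZ hu) (mem_sup_left (h.k_mem hG)))⟩

theorem Setup.not_sigma_p (h : Setup M K U Mstar H k p) : p ∉ Cfsg.sigma H := fun hpH =>
  h.ne_star hG (h.eq_star hG h.coatomH (h.K_le hG (h.k_mem hG)) hp.out hpH (h.star_facts hG).2.1)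

theorem Setup.kappa_empty (h : Setup M K U Mstar H k p) : Cfsg.kappa H = ∅ := by
  by_contra hne
  obtain ⟨g, hg | hg⟩ := Zhat.kappa_conj hG h.coatomM h.decomp.hall h.K_ne h.coatomS h.kst
    h.coatomH (Set.nonempty_iff_ne_empty.2 hne)
  · exact h.notConj g hg
  · refine h.not_sigma_p hG ?_
    refine mem_sigma_conjBy hG h.coatomH (g := g⁻¹) ?_
    rw [← hg, conjBy_conjBy, inv_mul_cancel, conjBy_one]
    exact (h.star_facts hG).2.1

/-- A `τ₂` torus of `H` moved by `k` has its prime in `σ(M)`. -/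
theorem Setup.moved_torus (h : Setup M K U Mstar H k p)
    (hreg : Cfsg.sigmaCore H ⊓ centralizer ({k} : Set G) = ⊥) {t : ℕ} [ht : Fact t.Prime]
    (htp : t ≠ p) (htH : t ∈ Cfsg.tau2 H) {A : Subgroup G} (hAH : A ≤ H)
    (hAe : Cfsg.IsElementaryAbelian t A) (hA2 : Nat.card A = t ^ 2)
    (hkN : k ∈ normalizer (A : Set G)) (hkA : k ∉ centralizer (A : Set G)) :
    t ∈ Cfsg.sigma M := by
  obtain ⟨hkσ, hpS, hCk, -⟩ := h.star_facts hG
  have hkH : k ∈ H := h.K_le hG (h.k_mem hG)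
  have hAc : IsMulCommutative A :=
    ⟨⟨fun a b => Subtype.ext (commute_of_mem hAe a.2 b.2)⟩⟩
  obtain ⟨z, hz, hz1⟩ : ∃ z ∈ A ⊓ centralizer ({k} : Set G), z ≠ 1 := by
    refine (bot_or_exists_ne_one _).resolve_left fun he => ?_
    have hsup := NormFpf.fixed_sup_eq_bot (sigmaCore_normal hG H hkH) hkN hAc
      (hAH.trans (sigmaCore_normal hG H)) hreg he
    have hkN' : k ∈ normalizer ((Cfsg.sigmaCore H ⊔ A : Subgroup G) : Set G) :=
      CfsgLib.CFun.le_normalizer_sup (zpowers_le.2 (sigmaCore_normal hG H hkH)) (zpowers_le.2 hkN)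
        (mem_zpowers k)
    refine sigmaCore_ne_bot hG h.coatomH (le_bot_iff.1 ?_)
    rw [← tau_fixed_eq_bot hG h.coatomH htH hAH hAe hA2]
    refine le_inf le_rfl fun x hx => mem_centralizer_iff.2 fun a ha => ?_
    refine (NormFpf.commute (h.k_pow hG) hkN' hsup (mem_sup_left hx) (mem_sup_right ha) ?_).symm
    refine Nat.Coprime.coprime_dvd_right (orderOf_dvd_of_pow_eq_one (hAe.2 a ha)) ?_
    refine (Nat.Coprime.symm ?_)
    exact ht.out.coprime_iff_not_dvd.2 fun hd =>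
      htH.2.1 (Cosets.sigma_of_mem hG h.coatomH hx ht.out hd)
  obtain ⟨hzA, hzk⟩ := mem_inf.1 hz
  have hzt : z ^ t = 1 := hAe.2 z hzA
  have hzo : orderOf z = t := orderOf_eq_prime hzt hz1
  have hzS : z ∈ Mstar := hCk hzk
  have hkz : Commute k z := (mem_centralizer_singleton_iff.1 hzk).symm
  by_cases htS : t ∈ Cfsg.sigma Mstar
  · exfalso
    obtain ⟨L, hL, hNL⟩ := exists_coatom_normalizer hG (X := A)
      (fun e => hz1 (mem_bot.1 (e ▸ hzA)))
      (fun e => h.coatomH.1 (top_le_iff.1 (e ▸ hAH)))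
    have htL := tau_sigma_of_normalizer hG h.coatomH htH hAH hAe hA2 hL hNL
    have hLS := h.eq_star hG hL (hNL hkN) ht.out htL htS
    refine hkA (derived_centralizes_non_beta hG h.coatomS
      (Neighbour.not_beta_of_tau2 hG h.coatomH htH)
      (hLS ▸ le_normalizer.trans hNL) (CfsgLib.CFun.isPGroup_of_elementary hAe)
      (sigmaCore_le_derived hG h.coatomS hkσ) ?_ hkN)
    rw [orderOf_eq_prime (h.k_pow hG) (h.k_ne hG)]
    exact (Nat.coprime_primes hp.out ht.out).2 htp.symm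
  rcases Cover.prime_cases hG h.coatomS hkσ (h.k_ne hG) hzS hkz (by rw [hzo]) htS with hκ | hτ
  · refine (sigmaCore_hall hG h.coatomM).1.2.1 t ht.out (dvd_trans ?_
      (card_dvd_of_le (inf_le_left : Cfsg.sigmaCore M ⊓ centralizer (K : Set G) ≤ _)))
    have h1 : t ∣ Nat.card Mstar := hzo ▸ orderOf_dvd_natCard Mstar hzS
    rw [← CfsgLib.Coprime.card_mul_relIndex h.kstH.1] at h1
    exact (ht.out.dvd_mul.1 h1).resolve_right (h.kstH.2.2 t ht.out hκ)
  · exfalso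
    have hu := (Cover.tau2_case hG h.coatomS hkσ (h.k_ne hG) hzS hkz hz1 fun q hq hqd => by
      rw [hzo] at hqd; rwa [(Nat.prime_dvd_prime_iff_eq hq ht.out).1 hqd]).2.1
    have hAS : A ≤ Mstar := fun a ha =>
      hu (mem_centralizer_singleton_iff.2 (commute_of_mem hAe ha hzA))
    exact h.k_ne hG (mem_bot.1 (tau_inf_eq_bot hG h.coatomS hτ hAS hAe hA2 h.coatomH
      (h.ne_star hG) hAH ▸ mem_inf.2 ⟨hkσ, hkH⟩))

/-- A Sylow subgroup of `U` with its basic properties. -/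
theorem Setup.exists_part (h : Setup M K U Mstar H k p) {t : ℕ} [ht : Fact t.Prime]
    (htU : t ∣ Nat.card U) : ∃ T : Subgroup G, T ≤ U ∧ IsPGroup t T ∧ T ≠ ⊥ ∧
      IsMulCommutative T ∧ K ≤ normalizer (T : Set G) ∧
      T ⊓ centralizer ({k} : Set G) = ⊥ := by
  haveI hUc := Decomp.isMulCommutative hG h.coatomM h.decomp h.K_ne
  obtain ⟨S⟩ := (inferInstance : Nonempty (Sylow t U))
  haveI : (S : Subgroup U).Normal := ⟨fun a ha b => by
    rwa [mul_comm' b a, mul_inv_cancel_right]⟩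
  haveI := Sylow.characteristic_of_normal S ‹_›
  refine ⟨(S : Subgroup U).map U.subtype, map_subtype_le _, S.2.map _, fun e => ?_, ?_,
    h.decomp.normal.trans (CfsgLib.PGroup.normalizer_le_normalizer_map_char _ _), ?_⟩
  · rw [map_eq_bot_iff_of_injective _ U.subtype_injective] at e
    exact S.ne_bot_of_dvd_card htU e
  · refine ⟨⟨fun a b => Subtype.ext ?_⟩⟩
    exact (congrArg Subtype.val (mul_comm' (⟨a, map_subtype_le _ a.2⟩ : U) ⟨b, map_subtype_le _ b.2⟩) :)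
  · exact le_bot_iff.1 ((inf_le_inf_right _ (map_subtype_le _)).trans
      (Decomp.fpf hG h.coatomM h.decomp (h.k_mem hG) (h.k_ne hG)).le)

/-- A fixed-point-free abelian `σ(H)'`-subgroup normalized by a regular `k` centralizes `H_σ`. -/
theorem Setup.sigma_centralizes (h : Setup M K U Mstar H k p)
    (hreg : Cfsg.sigmaCore H ⊓ centralizer ({k} : Set G) = ⊥) {V : Subgroup G} (hVH : V ≤ H)
    (hVc : IsMulCommutative V) (hkV : k ∈ normalizer (V : Set G))
    (hfix : V ⊓ centralizer ({k} : Set G) = ⊥)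
    (hV : ∀ t : ℕ, t.Prime → t ∣ Nat.card V → t ∉ Cfsg.sigma H) :
    Cfsg.sigmaCore H ≤ centralizer (V : Set G) := by
  have hkH : k ∈ H := h.K_le hG (h.k_mem hG)
  have hsup := NormFpf.fixed_sup_eq_bot (sigmaCore_normal hG H hkH) hkV hVc
    (hVH.trans (sigmaCore_normal hG H)) hreg hfix
  have hkN : k ∈ normalizer ((Cfsg.sigmaCore H ⊔ V : Subgroup G) : Set G) :=
    CfsgLib.CFun.le_normalizer_sup (zpowers_le.2 (sigmaCore_normal hG H hkH)) (zpowers_le.2 hkV)
      (mem_zpowers k)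
  refine fun x hx => mem_centralizer_iff.2 fun a ha => ?_
  refine (NormFpf.commute (h.k_pow hG) hkN hsup (mem_sup_left hx) (mem_sup_right ha) ?_).symm
  exact Nat.coprime_of_dvd fun t ht h1 h2 => hV t ht (h2.trans (orderOf_dvd_natCard V ha))
    (Cosets.sigma_of_mem hG h.coatomH hx ht h1)

/-- Complements of `H_σ` over a product `T ⊔ K`. -/
theorem Setup.exists_compl (h : Setup M K U Mstar H k p) {t : ℕ} [ht : Fact t.Prime]
    (htH : t ∉ Cfsg.sigma H) {T : Subgroup G} (hTU : T ≤ U) (hT : IsPGroup t T)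
    (hKT : K ≤ normalizer (T : Set G)) :
    ∃ E : Subgroup G, Cfsg.IsComplIn E (Cfsg.sigmaCore H) H ∧ T ≤ E ∧ K ≤ E := by
  obtain ⟨E, hE, hle⟩ := exists_complement hG h.coatomH
    (sup_le (h.K_le hG) (hTU.trans (h.U_le hG))) fun s hs hsd => by
      obtain ⟨i, hi⟩ := IsPGroup.iff_card.1 hT
      have hd := hsd.trans (CfsgLib.Coprime.card_sup_dvd_of_le_normalizer hKT)
      rw [h.card, hi] at hd
      rcases hs.dvd_mul.1 hd with hd | hd
      · rw [(Nat.prime_dvd_prime_iff_eq hs hp.out).1 hd]; exact h.not_sigma_p hG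
      · rw [(Nat.prime_dvd_prime_iff_eq hs ht.out).1 (hs.dvd_of_dvd_pow hd)]; exact htH
  exact ⟨E, hE, le_sup_right.trans hle, le_sup_left.trans hle⟩

theorem Setup.regular (h : Setup M K U Mstar H k p) (hp2 : p ∉ Cfsg.tau2 H) :
    Cfsg.PRankLE p 1 H ∧ Cfsg.sigmaCore H ⊓ centralizer ({k} : Set G) = ⊥ := by
  have hpσ := h.not_sigma_p hG
  have hr2 : Cfsg.PRankLE p 2 H := by
    by_contra hno
    exact hpσ (alpha_subset_sigma hG h.coatomH ⟨hp.out, hno⟩)
  have hr1 : Cfsg.PRankLE p 1 H := by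
    by_contra hno
    exact hp2 ⟨hp.out, hpσ, hr2, hno⟩
  refine ⟨hr1, ?_⟩
  rw [← h.centralizer_K hG]
  exact line_regular hG h.coatomH (h.K_le hG) h.card hpσ
    (by rw [h.kappa_empty hG]; exact Set.notMem_empty _) hr1

theorem Setup.U_le_sigmaCore (h : Setup M K U Mstar H k p) : U ≤ Cfsg.sigmaCore H := by
  refine le_sigmaCore_of_isPiNum hG h.coatomH (h.U_le hG) fun t ht htU => ?_
  by_contra htH
  haveI : Fact t.Prime := ⟨ht⟩
  obtain ⟨htσ, htκ⟩ := Decomp.primes hG h.coatomM h.decomp ht htU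
  obtain ⟨T, hTU, hT, hT1, hTc, hKT, hTk⟩ := h.exists_part hG htU
  obtain ⟨E, hE, hTE, hKE⟩ := h.exists_compl hG htH hTU hT hKT
  by_cases hp2 : p ∈ Cfsg.tau2 H
  · obtain ⟨B, hBE, hBe, hB2⟩ := Compl.exists_elementary_compl hG h.coatomH hE hp2
    obtain ⟨⟨hEB, hlines⟩, -⟩ := Cfsg.Agent.S1418.result hG H h.coatomH E hE p hp2 B
      ⟨hBE, hBe, hB2⟩
    obtain ⟨s, hs, hs1⟩ := (bot_or_exists_ne_one T).resolve_left hT1
    have hkB : k ∈ B := hlines K hKE h.card (h.k_mem hG)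
    have h1 : ⁅s, k⁆ ∈ B := by
      rw [commutatorElement_def]
      exact mul_mem ((mem_normalizer_iff.1 (hEB (hTE hs)) k).1 hkB) (inv_mem hkB)
    have h2 : ⁅s, k⁆ ∈ T := by
      rw [commutatorElement_def, show s * k * s⁻¹ * k⁻¹ = s * (k * s⁻¹ * k⁻¹) by group]
      exact mul_mem hs ((mem_normalizer_iff.1 (hKT (h.k_mem hG)) _).1 (inv_mem hs))
    have htp : t ≠ p := fun e => htκ (e ▸ h.decomp.hall.2.1 p hp.out (h.card ▸ dvd_rfl))
    have h3 : ⁅s, k⁆ = 1 := by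
      obtain ⟨n, hn⟩ := hT ⟨_, h2⟩
      refine orderOf_eq_one_iff.1 (Nat.eq_one_of_dvd_coprimes ?_
        (orderOf_dvd_of_pow_eq_one (congrArg Subtype.val hn))
        (orderOf_dvd_of_pow_eq_one (hBe.2 _ h1)))
      exact ((Nat.coprime_primes ht hp.out).2 htp).pow_left n
    refine hs1 (mem_bot.1 (hTk ▸ mem_inf.2 ⟨hs, mem_centralizer_singleton_iff.2 ?_⟩))
    exact commutatorElement_eq_one_iff_mul_comm.1 h3
  · obtain ⟨-, hreg⟩ := h.regular hG hp2
    obtain ⟨W, hWT, hWc⟩ := exists_line_of_dvd (t := t) (H := T) (by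
      obtain ⟨i, hi⟩ := IsPGroup.iff_card.1 hT
      rcases i with _ | i
      · exact absurd (card_eq_one.1 (hi.trans (pow_zero t))) hT1
      · rw [hi]; exact dvd_pow_self t i.succ_ne_zero)
    have htE : t ∣ Nat.card E := hWc ▸ card_dvd_of_le (hWT.trans hTE)
    rcases compl_tau_cases hG h.coatomH hE htE with h13 | h2
    · have hr1 : Cfsg.PRankLE t 1 H := h13.elim (fun h1 => h1.2.2.2.2) fun h3 => h3.2.2.2
      have hC := h.sigma_centralizes hG hreg (hTU.trans (h.U_le hG)) hTc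
        (hKT (h.k_mem hG)) hTk fun s hs hsd => by
          obtain ⟨i, hi⟩ := IsPGroup.iff_card.1 hT
          rw [hi] at hsd
          rw [(Nat.prime_dvd_prime_iff_eq hs ht).1 (hs.dvd_of_dvd_pow hsd)]; exact htH
      refine sigmaCore_ne_bot hG h.coatomH (le_bot_iff.1 ?_)
      rw [← line_regular hG h.coatomH (hWT.trans (hTU.trans (h.U_le hG))) hWc htH
        (by rw [h.kappa_empty hG]; exact Set.notMem_empty _) hr1]
      exact le_inf le_rfl (hC.trans (centralizer_le hWT))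
    · obtain ⟨A, hAE, hAe, hA2⟩ := Compl.exists_elementary_compl hG h.coatomH hE h2
      obtain ⟨⟨hEA, hlines⟩, -⟩ := Cfsg.Agent.S1418.result hG H h.coatomH E hE t h2 A
        ⟨hAE, hAe, hA2⟩
      have htp : t ≠ p := fun e => hp2 (e ▸ h2)
      have hWA := hlines W (hWT.trans hTE) hWc
      refine htσ (h.moved_torus hG hreg htp h2 (hAE.trans hE.1) hAe hA2
        (hEA (hKE (h.k_mem hG))) fun hkA => ?_)
      obtain ⟨w, hw, hw1, -, -⟩ := exists_gen hWc
      refine hw1 (mem_bot.1 (hTk ▸ mem_inf.2 ⟨hWT hw, ?_⟩))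
      exact mem_centralizer_singleton_iff.2 (mem_centralizer_iff.1 hkA w (hWA hw))

/-- The derived subgroup of a complement is centralized by `k` when `p ∈ τ₁(H)`. -/
theorem Setup.derived_le_centralizer (h : Setup M K U Mstar H k p) (hp1 : p ∈ Cfsg.tau1 H)
    {E : Subgroup G} (hE : Cfsg.IsComplIn E (Cfsg.sigmaCore H) H) (hKE : K ≤ E) :
    ⁅E, E⁆ ≤ centralizer (K : Set G) := by
  have hp2 : p ∉ Cfsg.tau2 H := fun h2 => h2.2.2.2 hp1.2.2.2.2
  obtain ⟨-, hreg⟩ := h.regular hG hp2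
  have hE'c : IsMulCommutative ↥⁅E, E⁆ := (Cfsg.Agent.S1420.result hG H h.coatomH E hE).2.1
  have hE'E : ⁅E, E⁆ ≤ E := commutator_le.2 fun a ha b hb =>
    mul_mem (mul_mem (mul_mem ha hb) (inv_mem ha)) (inv_mem hb)
  have hpE' : ¬ p ∣ Nat.card ↥⁅E, E⁆ := fun hd =>
    hp1.2.2.2.1 (hd.trans (card_dvd_of_le (commutator_mono hE.1 hE.1)))
  have hKN : K ≤ normalizer ((⁅E, E⁆ : Subgroup G) : Set G) := fun x hx =>
    FixLine.normalizer_le_normalizer_derived E (le_normalizer (hKE hx))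
  rw [← commutator_eq_bot_iff_le_centralizer]
  by_contra hD
  have hDE' : (⁅⁅E, E⁆, K⁆ : Subgroup G) ≤ ⁅E, E⁆ := commutator_le.2 fun a ha b hb => by
    rw [commutatorElement_def, show a * b * a⁻¹ * b⁻¹ = a * (b * a⁻¹ * b⁻¹) by group]
    exact mul_mem ha ((mem_normalizer_iff.1 (hKN hb) _).1 (inv_mem ha))
  obtain ⟨t, W, ht, hWD, hWc⟩ := exists_prime_line hD
  haveI : Fact t.Prime := ⟨ht⟩
  have hDk : (⁅⁅E, E⁆, K⁆ : Subgroup G) ⊓ centralizer ({k} : Set G) = ⊥ := by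
    rw [eq_bot_iff, ← CfsgLib.Coprime.centralizer_inf_commutator_eq_bot (A := K) hE'c hKN
      (by rw [h.card]; exact hp.out.coprime_iff_not_dvd.2 hpE')]
    rw [← h.centralizer_K hG]
    exact le_inf (inf_le_inf_right _ hDE') inf_le_left
  have hDc : IsMulCommutative ↥(⁅⁅E, E⁆, K⁆ : Subgroup G) :=
    ⟨⟨fun a b => Subtype.ext (congrArg Subtype.val
      (hE'c.is_comm.comm (⟨a, hDE' a.2⟩ : ↥⁅E, E⁆) ⟨b, hDE' b.2⟩) :)⟩⟩
  have hC := h.sigma_centralizes hG hreg ((hDE'.trans hE'E).trans hE.1) hDc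
    (FixLine.mem_normalizer_commutator (hKN (h.k_mem hG)) (le_normalizer (h.k_mem hG))) hDk
    fun s hs hsd => by
      haveI : Fact s.Prime := ⟨hs⟩
      exact Compl.compl_not_sigma hG h.coatomH hE (hsd.trans (card_dvd_of_le (hDE'.trans hE'E)))
  have hWC : Cfsg.sigmaCore H ≤ centralizer (W : Set G) := hC.trans (centralizer_le hWD)
  have hWE : W ≤ E := hWD.trans (hDE'.trans hE'E)
  have htσ : t ∉ Cfsg.sigma H :=
    Compl.compl_not_sigma hG h.coatomH hE (hWc ▸ card_dvd_of_le hWE)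
  rcases compl_tau_cases hG h.coatomH hE (hWc ▸ card_dvd_of_le hWE) with h13 | h2
  · have hr1 : Cfsg.PRankLE t 1 H := h13.elim (fun h1 => h1.2.2.2.2) fun h3 => h3.2.2.2
    refine sigmaCore_ne_bot hG h.coatomH (le_bot_iff.1 ?_)
    rw [← line_regular hG h.coatomH (hWE.trans hE.1) hWc htσ
      (by rw [h.kappa_empty hG]; exact Set.notMem_empty _) hr1]
    exact le_inf le_rfl hWC
  obtain ⟨A, hAE, hAe, hA2⟩ := Compl.exists_elementary_compl hG h.coatomH hE h2
  obtain ⟨⟨hEA, hlines⟩, -⟩ := Cfsg.Agent.S1418.result hG H h.coatomH E hE t h2 A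
    ⟨hAE, hAe, hA2⟩
  have htp : t ≠ p := fun e => hp2 (e ▸ h2)
  obtain ⟨w, hw, hw1, -, -⟩ := exists_gen hWc
  have htM : t ∈ Cfsg.sigma M := h.moved_torus hG hreg htp h2 (hAE.trans hE.1) hAe hA2
    (hEA (hKE (h.k_mem hG))) fun hkA => hw1 (mem_bot.1 (hDk ▸ mem_inf.2 ⟨hWD hw,
      mem_centralizer_singleton_iff.2 (mem_centralizer_iff.1 hkA w (hlines W hWE hWc hw))⟩))
  obtain ⟨r, R, hr, hRU, hRc⟩ := exists_prime_line h.U_ne
  haveI : Fact r.Prime := ⟨hr⟩
  obtain ⟨hrσ, hrκ⟩ := Decomp.primes hG h.coatomM h.decomp hr (hRc ▸ card_dvd_of_le hRU)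
  have hEM := Decomp.compl hG h.coatomM h.decomp
  have hrt : r ∈ Cfsg.tau2 M := by
    rcases compl_tau_cases hG h.coatomM hEM
      ((hRc ▸ card_dvd_of_le hRU).trans (card_dvd_of_le le_sup_right)) with (h1 | h3) | h2'
    · rw [← kappa_eq_tau1 hG h.coatomM
        ⟨_, h.decomp.hall.2.1 p hp.out (h.card ▸ dvd_rfl)⟩] at h1
      exact absurd h1 hrκ
    · exact absurd h3 (Neighbour.not_tau3 hG h.coatomM h.coatomH htM h2)
    · exact h2'
  obtain ⟨B, hB, hBe, hB2⟩ := Compl.exists_elementary_compl hG h.coatomM hEM hrt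
  have hUM : U ≤ M := h.decomp.compl.1
  have hBU : B ≤ U := by
    haveI := normal_subgroupOf_of_le_normalizer (Decomp.le_normalizer_U hG h.coatomM h.decomp)
    have hidx : U.relIndex (K ⊔ U) ∣ p := by
      refine Nat.dvd_of_mul_dvd_mul_left (Nat.card_pos : 0 < Nat.card U) ?_
      rw [CfsgLib.Coprime.card_mul_relIndex le_sup_right, mul_comm (Nat.card U) p, ← h.card]
      exact CfsgLib.Coprime.card_sup_dvd_of_le_normalizer h.decomp.normal
    have hle : B.subgroupOf (K ⊔ U) ≤ U.subgroupOf (K ⊔ U) := le_normal_of_coprime_index (by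
      rw [Nat.card_congr (subgroupOfEquivOfLe hB).toEquiv, hB2]
      refine Nat.Coprime.coprime_dvd_right hidx (((Nat.coprime_primes hr hp.out).2 ?_).pow_left 2)
      exact fun e => hrκ (e ▸ h.decomp.hall.2.1 p hp.out (h.card ▸ dvd_rfl)))
    exact fun x hx => hle (show (⟨x, hB hx⟩ : ↥(K ⊔ U)) ∈ B.subgroupOf (K ⊔ U) from hx)
  have hWU : W ≤ centralizer (U : Set G) :=
    le_centralizer_iff.1 ((h.U_le_sigmaCore hG).trans hWC)
  have hWM : W ≤ M := hWU.trans ((centralizer_le hBU).trans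
    (tau_centralizer_le hG h.coatomM hrt (hBU.trans hUM) hBe hB2))
  have hWσ : W ≤ Cfsg.sigmaCore M :=
    isPGroup_le_sigmaCore hG h.coatomM htM (IsPGroup.of_card (n := 1) (by rw [hWc, pow_one])) hWM
  exact hw1 (mem_bot.1 ((nilpotent_of_U_ne_bot hG h.coatomM h.decomp h.U_ne).2 ▸
    mem_inf.2 ⟨hWσ hw, hWU hw⟩))

/-- The complement `H ∩ M*` of `H_σ`. -/
theorem Setup.exists_compl_star (h : Setup M K U Mstar H k p) : ∃ E : Subgroup G,
    Cfsg.IsComplIn E (Cfsg.sigmaCore H) H ∧ E = H ⊓ Mstar ∧ K ≤ Cfsg.fittingOf E := by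
  obtain ⟨hkσ, hpS, hCk, hNK⟩ := h.star_facts hG
  have hkH : k ∈ H := h.K_le hG (h.k_mem hG)
  obtain ⟨E, hE, hKE⟩ := exists_complement hG h.coatomH (h.K_le hG) fun s hs hsd => by
    rw [h.card] at hsd
    rw [(Nat.prime_dvd_prime_iff_eq hs hp.out).1 hsd]; exact h.not_sigma_p hG
  suffices hmain : E ≤ Mstar ∧ Cfsg.sigmaCore H ⊓ Mstar = ⊥ ∧ K ≤ Cfsg.fittingOf E by
    obtain ⟨hES, hinf, hF⟩ := hmain
    refine ⟨E, hE, le_antisymm (le_inf hE.1 hES) ?_, hF⟩
    rintro m ⟨hmH, hmS⟩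
    obtain ⟨e, he, s, hs, rfl⟩ := hE.2.2.2 m hmH
    have hsS : s ∈ Mstar := by
      have := mul_mem (inv_mem (hES he)) hmS
      rwa [inv_mul_cancel_left] at this
    have hs1 : s ∈ Cfsg.sigmaCore H ⊓ Mstar := ⟨hs, hsS⟩
    rw [hinf, mem_bot] at hs1
    rwa [hs1, mul_one]
  by_cases hp2 : p ∈ Cfsg.tau2 H
  · obtain ⟨B, hBE, hBe, hB2⟩ := Compl.exists_elementary_compl hG h.coatomH hE hp2
    obtain ⟨⟨hEB, hlines⟩, -⟩ := Cfsg.Agent.S1418.result hG H h.coatomH E hE p hp2 B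
      ⟨hBE, hBe, hB2⟩
    have hKB : K ≤ B := hlines K hKE h.card
    have hBH : B ≤ H := hBE.trans hE.1
    obtain ⟨L, hL, hNL⟩ := exists_coatom_normalizer hG (X := B)
      (fun e => h.K_ne (le_bot_iff.1 (hKB.trans e.le)))
      (fun e => h.coatomH.1 (top_le_iff.1 (e ▸ hBH)))
    have hLS := h.eq_star hG hL (hNL (le_normalizer (hKB (h.k_mem hG)))) hp.out
      (tau_sigma_of_normalizer hG h.coatomH hp2 hBH hBe hB2 hL hNL) hpS
    subst hLS
    refine ⟨hEB.trans hNL, tau_inf_eq_bot hG h.coatomH hp2 hBH hBe hB2 hL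
      (h.ne_star hG).symm (le_normalizer.trans hNL), hKB.trans (Chain.le_fittingOf hBE hEB ?_)⟩
    exact (CfsgLib.CFun.isPGroup_of_elementary hBe).isNilpotent
  obtain ⟨hr1, hreg⟩ := h.regular hG hp2
  have hEK : E ≤ normalizer (K : Set G) := by
    by_cases hp' : p ∣ Nat.card ↥⁅H, H⁆
    · exact (tau3_line hG h.coatomH hE ⟨hp.out, h.not_sigma_p hG, hp', hr1⟩ hKE h.card).2
    have hp1 : p ∈ Cfsg.tau1 H :=
      ⟨hp.out, h.not_sigma_p hG, h.card ▸ card_dvd_of_le (h.K_le hG), hp', hr1⟩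
    have hC := h.derived_le_centralizer hG hp1 hE hKE
    refine le_trans (fun e he => ?_)
      (CfsgLib.Coprime.centralizer_le_normalizer_self (G := G) K)
    rw [h.centralizer_K hG, mem_centralizer_singleton_iff]
    have hc : ⁅e, k⁆ ∈ ⁅E, E⁆ := commutator_mem_commutator he (hKE (h.k_mem hG))
    have hck : Commute ⁅e, k⁆ k := (mem_centralizer_iff.1 (hC hc) k (h.k_mem hG)).symm
    have hcp : ⁅e, k⁆ ^ p = 1 := by
      have h1 : (⁅e, k⁆ * k) ^ p = 1 := by
        rw [show ⁅e, k⁆ * k = e * k * e⁻¹ by rw [commutatorElement_def]; group, conj_pow,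
          h.k_pow hG, mul_one, mul_inv_cancel]
      rwa [hck.mul_pow, h.k_pow hG, mul_one] at h1
    refine commutatorElement_eq_one_iff_mul_comm.1 (orderOf_eq_one_iff.1
      (Nat.eq_one_of_dvd_coprimes ?_ (orderOf_dvd_natCard _ hc) (orderOf_dvd_of_pow_eq_one hcp)))
    exact (hp.out.coprime_iff_not_dvd.2 fun hd =>
      hp' (hd.trans (card_dvd_of_le (commutator_mono hE.1 hE.1)))).symm
  refine ⟨hEK.trans hNK, ?_, Chain.le_fittingOf hKE hEK
    (IsPGroup.of_card (n := 1) (by rw [h.card, pow_one])).isNilpotent⟩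
  refine eq_bot_iff.2 fun x hx => ?_
  obtain ⟨hxσ, hxS⟩ := mem_inf.1 hx
  have h1 : ⁅x, k⁆ ∈ Cfsg.sigmaCore H := by
    rw [commutatorElement_def, show x * k * x⁻¹ * k⁻¹ = x * (k * x⁻¹ * k⁻¹) by group]
    exact mul_mem hxσ ((mem_normalizer_iff.1 (sigmaCore_normal hG H hkH) _).1 (inv_mem hxσ))
  have h2 : ⁅x, k⁆ ∈ Cfsg.sigmaCore Mstar := by
    rw [commutatorElement_def]
    exact mul_mem ((mem_normalizer_iff.1 (sigmaCore_normal hG Mstar hxS) k).1 hkσ) (inv_mem hkσ)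
  have h3 : ⁅x, k⁆ = 1 := by
    refine orderOf_eq_one_iff.1 (Nat.eq_one_of_dvd_coprimes ?_ (orderOf_dvd_natCard _ h1)
      (orderOf_dvd_natCard _ h2))
    exact Nat.coprime_of_dvd fun t ht ht1 ht2 => h.ne_star hG (h.eq_star hG h.coatomH hkH ht
      ((sigmaCore_hall hG h.coatomH).1.2.1 t ht ht1)
      ((sigmaCore_hall hG h.coatomS).1.2.1 t ht ht2))
  rw [← hreg]
  exact mem_inf.2 ⟨hxσ, mem_centralizer_singleton_iff.2 (commutatorElement_eq_one_iff_mul_comm.1 h3)⟩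

theorem Setup.inter_eq' (h : Setup M K U Mstar H k p) : M ⊓ H = U ⊔ K := by
  refine le_antisymm ?_ (sup_le (le_inf h.decomp.compl.1 (h.U_le hG))
    (le_inf h.decomp.hall.1 (h.K_le hG)))
  rintro m ⟨hmM, hmH⟩
  have hE := Decomp.compl hG h.coatomM h.decomp
  obtain ⟨e, he, s, hs, rfl⟩ := hE.2.2.2 m hmM
  have heH : e ∈ H := sup_le (h.K_le hG) (h.U_le hG) he
  have hsH : s ∈ H := by
    have := mul_mem (inv_mem heH) hmH
    rwa [inv_mul_cancel_left] at this
  have hdisj : ∀ t : ℕ, t.Prime → t ∈ Cfsg.sigma M → t ∉ Cfsg.sigma H := fun t ht htM htH => by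
    haveI : Fact t.Prime := ⟨ht⟩
    obtain ⟨g, hg⟩ := exists_conj_of_sigma hG h.coatomM h.coatomH htM htH
    exact h.notConj g hg
  have hs1 : s = 1 := by
    rw [← mem_bot, ← (nilpotent_of_U_ne_bot hG h.coatomM h.decomp h.U_ne).2]
    refine mem_inf.2 ⟨hs, mem_centralizer_iff.2 fun u hu => ?_⟩
    have h1 : ⁅s, u⁆ ∈ Cfsg.sigmaCore M := by
      rw [commutatorElement_def, show s * u * s⁻¹ * u⁻¹ = s * (u * s⁻¹ * u⁻¹) by group]
      exact mul_mem hs ((mem_normalizer_iff.1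
        (sigmaCore_normal hG M (h.decomp.compl.1 hu)) _).1 (inv_mem hs))
    have h2 : ⁅s, u⁆ ∈ Cfsg.sigmaCore H := by
      rw [commutatorElement_def]
      exact mul_mem ((mem_normalizer_iff.1 (sigmaCore_normal hG H hsH) u).1
        (h.U_le_sigmaCore hG hu)) (inv_mem (h.U_le_sigmaCore hG hu))
    refine (commutatorElement_eq_one_iff_mul_comm.1 (orderOf_eq_one_iff.1
      (Nat.eq_one_of_dvd_coprimes ?_ (orderOf_dvd_natCard _ h1) (orderOf_dvd_natCard _ h2)))).symm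
    exact Nat.coprime_of_dvd fun t ht ht1 ht2 => hdisj t ht
      ((sigmaCore_hall hG h.coatomM).1.2.1 t ht ht1) ((sigmaCore_hall hG h.coatomH).1.2.1 t ht ht2)
  rw [hs1, mul_one, sup_comm]
  exact he

end CfsgLib.CFun.TwoNeighbour
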