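import Cfsg.Agent.Lib.CFun.OddTypeTwoNeighbour
import Cfsg.Agent.Lib.CFun.OddFittingTI
import Cfsg.Agent.Lib.CFun.OddSigmaTrivialInter
import Cfsg.Agent.Lib.CFun.OddFifteenTwo
import Cfsg.Agent.Lib.CFun.OddRankTwoTower
import Cfsg.Agent.S1419

/-!
# `τ₂` is empty for the neighbour of a maximal subgroup of type II

`N = K U N_σ` with `K`, `U` nontrivial, `M*` its partner and `H` the maximal subgroup over `N(U)`.
If some prime lies in `τ₂(N)` then `τ₂(H)` is empty.
-/

set_option autoImplicit false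
set_option linter.style.haveILetI false
set_option linter.unusedSectionVars false

open Subgroup
open scoped commutatorElement
open CfsgLib.Coprime (conjBy conjBy_conjBy conjBy_one mem_conjBy conj_mem_conjBy card_conjBy
  IsSylowIn IsHallIn)

namespace CfsgLib.CFun.TwoNeighbour

open CfsgLib.CFun.TauTwo CfsgLib.CFun.Lines CfsgLib.CFun.Kappa CfsgLib.CFun.Partner
open CfsgLib.CFun.Inter CfsgLib.CFun.ElemCent CfsgLib.CFun.Disjoint

universe u

variable {G : Type u} [Group G] [Finite G]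
variable (hG : Cfsg.IsMinSimpleOddOrder G) {M K U Mstar H : Subgroup G} {k : G} {p : ℕ}
  [hp : Fact p.Prime]
include hG

omit hp in
/-- An elementary `τ₂` torus of a complement lies in `U`. -/
theorem exists_torus_le_U (hM : IsCoatom M) (d : Cfsg.IsSigmaDecomposition M K U) (hK1 : K ≠ ⊥)
    {q : ℕ} [hq : Fact q.Prime] (hqt : q ∈ Cfsg.tau2 M) :
    ∃ B : Subgroup G, B ≤ U ∧ Cfsg.IsElementaryAbelian q B ∧ Nat.card B = q ^ 2 := by
  obtain ⟨B, hB, hBe, hB2⟩ :=
    Compl.exists_elementary_compl hG hM (Decomp.compl hG hM d) hqt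
  refine ⟨B, ?_, hBe, hB2⟩
  haveI := normal_subgroupOf_of_le_normalizer (Decomp.le_normalizer_U hG hM d)
  have hidx : U.relIndex (K ⊔ U) ∣ Nat.card K := by
    refine Nat.dvd_of_mul_dvd_mul_left (Nat.card_pos : 0 < Nat.card U) ?_
    rw [CfsgLib.Coprime.card_mul_relIndex le_sup_right, mul_comm (Nat.card U)]
    exact CfsgLib.Coprime.card_sup_dvd_of_le_normalizer d.normal
  have hqK : ¬ q ∣ Nat.card K := fun hd =>
    hqt.2.2.2 (kappa_tau1 hG hM (d.hall.2.1 q hq.out hd)).2.2.2.2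
  have hle : B.subgroupOf (K ⊔ U) ≤ U.subgroupOf (K ⊔ U) := le_normal_of_coprime_index (by
    rw [Nat.card_congr (subgroupOfEquivOfLe hB).toEquiv, hB2]
    exact Nat.Coprime.coprime_dvd_right hidx ((hq.out.coprime_iff_not_dvd.2 hqK).pow_left 2))
  exact fun x hx => hle (show (⟨x, hB hx⟩ : ↥(K ⊔ U)) ∈ B.subgroupOf (K ⊔ U) from hx)

/-- `K` centralizes the `τ₂` torus of the complement `E = H ∩ M*`. -/
theorem Setup.K_le_centralizer (h : Setup M K U Mstar H k p) {r : ℕ} [hr : Fact r.Prime]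
    (hrt : r ∈ Cfsg.tau2 H) {E A : Subgroup G}
    (hE : Cfsg.IsComplIn E (Cfsg.sigmaCore H) H) (hKF : K ≤ Cfsg.fittingOf E) (hAE : A ≤ E)
    (hAe : Cfsg.IsElementaryAbelian r A) (hA2 : Nat.card A = r ^ 2) :
    K ≤ centralizer (A : Set G) := by
  obtain ⟨⟨hEA, hlines⟩, -⟩ := Cfsg.Agent.S1418.result hG H h.coatomH E hE r hrt A ⟨hAE, hAe, hA2⟩
  have hKE : K ≤ E := hKF.trans (map_subtype_le _)
  rcases eq_or_ne p r with hpr | hpr
  · subst hpr
    exact fun x hx => mem_centralizer_iff.2 fun a ha =>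
      commute_of_mem hAe ha (hlines K hKE h.card hx)
  have hAF : A ≤ Cfsg.fittingOf E :=
    Chain.le_fittingOf hAE hEA (CfsgLib.CFun.isPGroup_of_elementary hAe).isNilpotent
  haveI := Chain.fittingOf_nilpotent (G := G) E
  intro x hx
  refine mem_centralizer_iff.2 fun a ha => ?_
  by_cases ha1 : a = 1
  · simp [ha1]
  by_cases hx1 : x = 1
  · simp [hx1]
  have hxp : orderOf x = p := orderOf_eq_prime (by
    have := pow_card_eq_one' (x := (⟨x, hx⟩ : K))
    rw [h.card] at this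
    exact congrArg Subtype.val this) hx1
  have := commute_of_coprime_order (x := (⟨a, hAF ha⟩ : ↥(Cfsg.fittingOf E)))
    (y := ⟨x, hKF hx⟩) (by
      rw [← orderOf_injective (Cfsg.fittingOf E).subtype (Subgroup.subtype_injective _) ⟨a, hAF ha⟩,
        ← orderOf_injective (Cfsg.fittingOf E).subtype (Subgroup.subtype_injective _) ⟨x, hKF hx⟩]
      show (orderOf a).Coprime (orderOf x)
      rw [orderOf_eq_prime (hAe.2 a ha) ha1, hxp]
      exact (Nat.coprime_primes hr.out hp.out).2 hpr.symm)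
  exact congrArg Subtype.val this.eq

/-- Sylow `r`-subgroups are abelian for `r ∈ τ₂(H)`. -/
theorem Setup.sylow_abelian (h : Setup M K U Mstar H k p) {q : ℕ} [hq : Fact q.Prime]
    (hqt : q ∈ Cfsg.tau2 M) {r : ℕ} [hr : Fact r.Prime] (hrt : r ∈ Cfsg.tau2 H)
    (S : Sylow r G) : IsMulCommutative (S : Subgroup G) := by
  by_contra hS
  have hall : ∀ T : Sylow r G, ¬ IsMulCommutative (T : Subgroup G) := fun T hT => hS <| by
    obtain ⟨g, hg⟩ := exists_conjBy_sylow T S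
    rw [hg]
    exact Subgroup.map_isMulCommutative _ _
  obtain ⟨E, hE, -, -⟩ := h.exists_compl_star hG
  obtain ⟨A, hAE, hAe, hA2⟩ := Compl.exists_elementary_compl hG h.coatomH hE hrt
  obtain ⟨-, ⟨hc, -⟩, -⟩ :=
    Cfsg.Agent.S1419.result hG H h.coatomH E hE r hrt hall A ⟨hAE, hAe, hA2⟩
  obtain ⟨a, ha, ha1⟩ := (bot_or_exists_ne_one _).resolve_left (line_ne_bot hc)
  obtain ⟨haA, haC⟩ := mem_inf.1 ha
  have haH : a ∈ H := hE.1 (hAE haA)
  have hUσ := h.U_le_sigmaCore hG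
  have haU : a ∈ centralizer (U : Set G) := centralizer_le hUσ haC
  obtain ⟨B, hBU, hBe, hB2⟩ := exists_torus_le_U hG h.coatomM h.decomp h.K_ne hqt
  have haM : a ∈ M :=
    tau_centralizer_le hG h.coatomM hqt (hBU.trans h.decomp.compl.1) hBe hB2
      (centralizer_le hBU haU)
  have h1 : a ∈ (↑(K ⊔ U) : Set G) := by
    rw [sup_comm, ← h.inter_eq' hG]
    exact mem_inf.2 ⟨haM, haH⟩
  rw [coe_mul_of_left_le_normalizer_right K U h.decomp.normal] at h1
  obtain ⟨c, hc', u, hu, he⟩ := h1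
  have hUc := Decomp.isMulCommutative hG h.coatomM h.decomp h.K_ne
  by_cases hc1 : c = 1
  · refine ha1 (mem_bot.1 ?_)
    rw [← Compl.compl_inf hG h.coatomH hE]
    refine mem_inf.2 ⟨hUσ ?_, hAE haA⟩
    rw [← he, hc1]
    simpa using hu
  · refine h.U_ne (eq_bot_iff.2 fun v hv => ?_)
    rw [← Decomp.fpf hG h.coatomM h.decomp hc' hc1]
    refine mem_inf.2 ⟨hv, mem_centralizer_singleton_iff.2 ?_⟩
    have h2 : v * (c * u) = (c * u) * v := by
      have h4 := mem_centralizer_iff.1 haU v hv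
      rwa [← he] at h4
    have h3 : u * v = v * u := congrArg Subtype.val (hUc.is_comm.comm (⟨u, hu⟩ : U) ⟨v, hv⟩)
    refine mul_right_cancel (b := u) ?_
    rw [mul_assoc v c u, h2, mul_assoc, h3, ← mul_assoc]

/-- If `τ₂(M)` is nonempty then `τ₂(H)` is empty. -/
theorem Setup.tau2_empty (h : Setup M K U Mstar H k p) {q : ℕ} [hq : Fact q.Prime]
    (hqt : q ∈ Cfsg.tau2 M) : ∀ r, r ∉ Cfsg.tau2 H := by
  intro r hrt
  haveI hr : Fact r.Prime := ⟨hrt.1⟩
  obtain ⟨hkσ, hpS, hCk, -⟩ := h.star_facts hG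
  obtain ⟨hKst', -, -, -⟩ := of_hyp hG h.coatomM h.decomp.hall h.K_ne h.coatomS h.kst h.kstH
  have hKσ : K ≤ Cfsg.sigmaCore Mstar := hKst'.le.trans inf_le_left
  have hKs1 := fixed_ne_bot hG h.coatomM h.decomp.hall
  obtain ⟨E, hE, hEeq, hKF⟩ := h.exists_compl_star hG
  obtain ⟨A, hAE, hAe, hA2⟩ := Compl.exists_elementary_compl hG h.coatomH hE hrt
  have hAH : A ≤ H := hAE.trans hE.1
  have hES : E ≤ Mstar := hEeq.le.trans inf_le_right
  have hKA : K ≤ centralizer (A : Set G) := h.K_le_centralizer hG hrt hE hKF hAE hAe hA2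
  have hCA : centralizer (A : Set G) ≤ E := centralizer_le_compl hG h.coatomH hE hrt hAE hAe hA2
  obtain ⟨S, hAS⟩ := (CfsgLib.CFun.isPGroup_of_elementary hAe).exists_le_sylow
  have hrS : r ∈ Cfsg.sigma Mstar := by
    rcases sigma_or_tau hG h.coatomH hE hrt hAE hAe hA2 S hAS (h.sylow_abelian hG hqt hrt S)
      (hAE.trans hES) with h1 | h1
    · exact h1
    · exfalso
      exact h.k_ne hG (mem_bot.1 (tau_inf_eq_bot hG h.coatomS h1 (hAE.trans hES) hAe hA2 h.coatomH
        (h.ne_star hG) hAH ▸ mem_inf.2 ⟨hkσ, h.K_le hG (h.k_mem hG)⟩))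
  have hAσ : A ≤ Cfsg.sigmaCore Mstar :=
    isPGroup_le_sigmaCore hG h.coatomS hrS (CfsgLib.CFun.isPGroup_of_elementary hAe) (hAE.trans hES)
  have habr : ∀ T : Subgroup G, IsPGroup r T → A ≤ T → T ≤ centralizer (A : Set G) := by
    intro T hT hAT
    obtain ⟨S', hS'⟩ := hT.exists_le_sylow
    haveI := h.sylow_abelian hG hqt hrt S'
    exact fun t ht => mem_centralizer_iff.2 fun a ha =>
      congrArg Subtype.val (mul_comm' (⟨a, hS' (hAT ha)⟩ : (S' : Subgroup G)) ⟨t, hS' ht⟩)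
  -- a nilpotent subgroup over `A` centralizes it
  have hnilC : ∀ V : Subgroup G, Group.IsNilpotent V → A ≤ V → V ≤ centralizer (A : Set G) := by
    intro V hV hAV
    haveI := hV
    refine CfsgLib.Fusion.le_of_forall_prime_pow fun s hs x hx ⟨n, hn⟩ => ?_
    haveI : Fact s.Prime := ⟨hs⟩
    rcases eq_or_ne s r with hsr | hsr
    · subst hsr
      obtain ⟨P⟩ := (inferInstance : Nonempty (Sylow s V))
      haveI := IsPGroup.of_bot (p := s) (G := V)
      have hP : ∀ y : V, (∃ m : ℕ, y ^ s ^ m = 1) → y ∈ (P : Subgroup V) := by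
        rintro y ⟨m, hm⟩
        have hy : IsPGroup s (zpowers y) := by
          obtain ⟨j, -, hj⟩ := (Nat.dvd_prime_pow hs).1 (orderOf_dvd_of_pow_eq_one hm)
          exact IsPGroup.of_card (n := j) (by rw [Nat.card_zpowers, hj])
        obtain ⟨Q, hQ⟩ := hy.exists_le_sylow
        have hnorm : ∀ (t : ℕ) (_ : Fact t.Prime) (T : Sylow t V), (T : Subgroup V).Normal :=
          ((Group.isNilpotent_of_finite_tfae (G := V)).out 0 3).1 hV
        haveI : (P : Subgroup V).Normal := hnorm s ‹_› P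
        haveI := Sylow.unique_of_normal P ‹_›
        rw [Subsingleton.elim P Q]
        exact hQ (mem_zpowers y)
      refine habr ((P : Subgroup V).map V.subtype) (P.2.map _) (fun a ha => ?_)
        ⟨⟨x, hx⟩, hP _ ⟨n, Subtype.ext hn⟩, rfl⟩
      exact ⟨⟨a, hAV ha⟩, hP _ ⟨1, Subtype.ext (by simpa using hAe.2 a ha)⟩, rfl⟩
    · refine mem_centralizer_iff.2 fun a ha => ?_
      exact (congrArg Subtype.val (commute_of_coprime_order (x := (⟨a, hAV ha⟩ : V))
        (y := ⟨x, hx⟩) (Nat.Coprime.of_dvd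
          (orderOf_dvd_of_pow_eq_one (n := r) (Subtype.ext (hAe.2 a ha)))
          (orderOf_dvd_of_pow_eq_one (n := s ^ n) (Subtype.ext hn))
          (((Nat.coprime_primes hr.out hs).2 hsr.symm).pow_right n))).eq :)
  have hcoH : ∀ t : ℕ, t.Prime → t ∈ Cfsg.sigma Mstar → t ∉ Cfsg.sigma H := fun t ht htS htH =>
    h.ne_star hG (h.eq_star hG h.coatomH (h.K_le hG (h.k_mem hG)) ht htH htS)
  by_cases hnil : Group.IsNilpotent (Cfsg.sigmaCore Mstar)
  · -- the nilpotent case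
    have hσH : Cfsg.sigmaCore Mstar ≤ H := ((hnilC _ hnil hAσ).trans hCA).trans hE.1
    have hab : IsMulCommutative (Cfsg.sigmaCore Mstar) :=
      isMulCommutative_of_nilpotent hG h.coatomH hσH hnil fun t ht htd =>
        hcoH t ht ((sigmaCore_hall hG h.coatomS).1.2.1 t ht htd)
    obtain ⟨B, hBA, hBc, hBfix⟩ : ∃ B : Subgroup G, B ≤ A ∧ Nat.card B = r ∧
        ¬ Cfsg.sigmaCore H ⊓ centralizer (B : Set G) ≤ ⊥ := by
      refine exists_line_not_le hAe hA2 (hAH.trans (sigmaCore_normal hG H)) ?_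
        fun hle => sigmaCore_ne_bot hG h.coatomH (le_bot_iff.1 hle)
      rw [hA2]
      exact (hr.out.coprime_iff_not_dvd.2 fun hd =>
        hrt.2.1 ((sigmaCore_hall hG h.coatomH).1.2.1 r hr.out hd)).pow_left 2
    have hu := (Cfsg.Agent.S1418.result hG H h.coatomH E hE r hrt A ⟨hAE, hAe, hA2⟩).2.2 B hBA hBc
      fun e => hBfix e.le
    obtain ⟨z, hzB, hz1, -, hzg⟩ := exists_gen hBc
    obtain ⟨g, hg, hgS⟩ := SetLike.not_le_iff_exists.1 fun hle : centralizer (B : Set G) ≤ Mstar =>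
      h.ne_star hG (hu.2 Mstar h.coatomS hle).symm
    have hmeet : FitTI.Meet Mstar g z := by
      have hzF : z ∈ Cfsg.fittingOf Mstar :=
        Chain.le_fittingOf (map_subtype_le _) (sigmaCore_normal hG Mstar) hnil (hAσ (hBA hzB))
      refine ⟨hgS, hz1, hzF, ?_⟩
      rwa [← mem_centralizer_iff.1 hg z hzB, mul_inv_cancel_right]
    obtain ⟨Us, ds⟩ := Decomp.exists_decomp hG h.coatomS h.kstH
    have hUs : Us = ⊥ := by
      by_contra hne
      exact FitTI.false_of_U_ne_bot hG h.coatomS ds hmeet hKs1 hne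
    have hcs : Cfsg.IsComplIn (Cfsg.sigmaCore M ⊓ centralizer (K : Set G))
        (Cfsg.sigmaCore Mstar) Mstar := by
      have := Decomp.compl hG h.coatomS ds
      rwa [hUs, sup_bot_eq] at this
    refine h.K_ne (le_bot_iff.1 ?_)
    refine hKst'.le.trans ((TauTwo.fixed_le_derived hG h.coatomS hcs).trans
      (commutator_le.2 fun a ha b hb => ?_))
    rw [mem_bot, commutatorElement_eq_one_iff_mul_comm]
    exact congrArg Subtype.val (hab.is_comm.comm (⟨a, ha⟩ : Cfsg.sigmaCore Mstar) ⟨b, hb⟩)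
  -- the non-nilpotent case
  obtain ⟨Us, ds⟩ := Decomp.exists_decomp hG h.coatomS h.kstH
  have hne : Cfsg.fittingHallOf Mstar ≠ Cfsg.sigmaCore Mstar := fun e =>
    hnil (e ▸ Chain.isNilpotent_fittingHallOf Mstar)
  obtain ⟨Q, D, hs⟩ := FifteenTwo.exists_split hG h.coatomS ds hne
  have hfix : Cfsg.sigmaCore Mstar ⊓
      centralizer ((Cfsg.sigmaCore M ⊓ centralizer (K : Set G) : Subgroup G) : Set G) = K :=
    hKst'.symm
  have hlc : Nat.card ↥(Cfsg.sigmaCore Mstar ⊓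
      centralizer ((Cfsg.sigmaCore M ⊓ centralizer (K : Set G) : Subgroup G) : Set G)) = p := by
    rw [hfix, h.card]
  have hpβ : p ∈ Cfsg.beta Mstar := hlc ▸ FifteenTwo.Split.mem_beta hG h.coatomS ds hs
  have hpt : p ∉ Cfsg.tau2 H := fun hp2 => by
    obtain ⟨B, hBE, hBe, hB2⟩ := Compl.exists_elementary_compl hG h.coatomH hE hp2
    obtain ⟨L, hLB, hLc, hLfix⟩ := exists_line_not_le hBe hB2
      ((hBE.trans hE.1).trans (sigmaCore_normal hG H)) (Y := Cfsg.sigmaCore H) (W := ⊥) (by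
        rw [hB2]
        exact (hp.out.coprime_iff_not_dvd.2 fun hd =>
          hp2.2.1 ((sigmaCore_hall hG h.coatomH).1.2.1 p hp.out hd)).pow_left 2)
      fun hle => sigmaCore_ne_bot hG h.coatomH (le_bot_iff.1 hle)
    have hu := (Cfsg.Agent.S1418.result hG H h.coatomH E hE p hp2 B ⟨hBE, hBe, hB2⟩).2.2 L hLB hLc
      fun e => hLfix e.le
    obtain ⟨b, hb, hb1, hbp, hbg⟩ := exists_gen hLc
    refine h.ne_star hG (hu.2 Mstar h.coatomS ?_).symm
    rw [← hbg, TauTwo.centralizer_zpowers]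
    exact (beta_centralizer hG h.coatomS hpβ (hES (hBE (hLB hb))) hbp hb1).1
  have hQcard : Nat.card Q = p ^ (Nat.card (Cfsg.sigmaCore Mstar)).factorization p := by
    have := hs.sylow.2
    rwa [hlc] at this
  have hQp : IsPGroup p Q := IsPGroup.of_card hQcard
  have hrp : r ≠ p := fun e => hpt (e ▸ hrt)
  have hnS : IsHallIn {s | s ≠ p} D (Cfsg.sigmaCore Mstar) := by
    refine ⟨hs.compl.2.1, fun s hs' hsd hsp => ?_, fun s hs' hsd => ?_⟩
    · subst hsp
      have hQ1 : Q ≠ ⊥ := fun e => h.K_ne (le_bot_iff.1 (e ▸ hfix ▸ hs.fix_le))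
      obtain ⟨i, hi⟩ := IsPGroup.iff_card.1 hQp
      rcases i with _ | i
      · exact hQ1 (card_eq_one.1 (hi.trans (pow_zero s)))
      · exact hs'.not_dvd_one ((hs.cop.gcd_eq_one) ▸
          Nat.dvd_gcd hsd (hi ▸ dvd_pow_self s i.succ_ne_zero))
    · intro hsp
      have e : D.relIndex (Cfsg.sigmaCore Mstar) = Nat.card Q :=
        Nat.eq_of_mul_eq_mul_left (Nat.card_pos (α := D))
          ((CfsgLib.Coprime.card_mul_relIndex hs.compl.2.1).trans
            ((Kappa.card_of_compl hs.compl).trans (mul_comm _ _)))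
      rw [e, hQcard] at hsd
      exact hsp ((Nat.prime_dvd_prime_iff_eq hs' hp.out).1 (hs'.dvd_of_dvd_pow hsd))
  obtain ⟨x, hx, hxA⟩ := IsHallIn.exists_conj_le hnS
    (CfsgLib.Coprime.isSolvable_of_le (map_subtype_le _) (ms_solvable hG h.coatomS.1)) hAσ fun s hs' hsd => by
      rw [hA2] at hsd
      rw [(Nat.prime_dvd_prime_iff_eq hs' hr.out).1 (hs'.dvd_of_dvd_pow hsd)]
      exact hrp
  have hxN : x⁻¹ ∈ normalizer (Q : Set G) := inv_mem (hs.normal (map_subtype_le _ hx))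
  have hQx : conjBy x⁻¹ Q = Q := CfsgLib.Coprime.conjBy_eq_self_iff.2 hxN
  have hcomp : Cfsg.IsComplIn Q (conjBy x⁻¹ D) (Cfsg.sigmaCore Mstar) := by
    refine ⟨hs.compl.1, fun y hy => ?_, ?_, fun m hm => ?_⟩
    · obtain ⟨d, hd, rfl⟩ := hy
      exact mul_mem (mul_mem (inv_mem hx) (hs.compl.2.1 hd)) (inv_mem (inv_mem hx))
    · conv_lhs => rw [← hQx]
      rw [← (Subgroup.map_inf_eq Q D _ (MulAut.conj x⁻¹).injective), hs.compl.2.2.1,
        Subgroup.map_bot]
    · obtain ⟨a, ha, b, hb, e⟩ := hs.compl.2.2.2 (x * m * x⁻¹) (mul_mem (mul_mem hx hm) (inv_mem hx))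
      refine ⟨x⁻¹ * a * x, ?_, x⁻¹ * b * x, ?_, ?_⟩
      · have := (mem_normalizer_iff.1 hxN a).1 ha
        rwa [inv_inv] at this
      · exact ⟨b, hb, by simp [mul_assoc]⟩
      · rw [show x⁻¹ * a * x * (x⁻¹ * b * x) = x⁻¹ * (a * b) * x by group, ← e]
        group
  obtain ⟨hD'nil, hQ0⟩ := FifteenTwo.Split.compl_spec hG h.coatomS ds hs hcomp
  obtain ⟨y, hy, hyD⟩ := FifteenTwo.Split.compl_conj hG h.coatomS ds hs hcomp
  have hAD' : A ≤ conjBy x⁻¹ D := fun a ha =>
    ⟨x * a * x⁻¹, hxA ⟨a, ha, rfl⟩, by simp [mul_assoc]⟩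
  have hD'E : conjBy x⁻¹ D ≤ E := (hnilC _ hD'nil hAD').trans hCA
  have hKQ : K ≤ Q := hfix ▸ hs.fix_le
  have hQ0E : Q ⊓ centralizer (D : Set G) ≤ E :=
    hQ0 ▸ (inf_le_right.trans (centralizer_le hAD')).trans hCA
  have hYp : IsPGroup p ↥(Q ⊓ H) := hQp.to_le inf_le_left
  have hp2 : p ≠ 2 := ms_ne_two hG (h.card ▸ card_subgroup_dvd_card K)
  have hYc : IsCyclic ↥(Q ⊓ H) := Compl.isCyclic_of_rank_one hp2 hYp
    (RankTwoTower.pRankLE_of_injective (f := Subgroup.inclusion (inf_le_right : Q ⊓ H ≤ H))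
      (Subgroup.inclusion_injective _) (h.regular hG hpt).1)
  have hKY : K ≤ Q ⊓ H := le_inf hKQ (h.K_le hG)
  have hKp : ∀ z ∈ K, z ^ p = 1 := fun z hz => by
    have := pow_card_eq_one' (x := (⟨z, hz⟩ : K))
    rw [h.card] at this
    exact congrArg Subtype.val this
  have hQ0bot : Q ⊓ centralizer (D : Set G) = ⊥ := by
    by_contra hne'
    obtain ⟨t, W, ht, hW, hWc⟩ := exists_prime_line hne'
    obtain ⟨i, hi⟩ := IsPGroup.iff_card.1 hQp
    have htp : t = p := (Nat.prime_dvd_prime_iff_eq ht hp.out).1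
      (ht.dvd_of_dvd_pow (hi ▸ hWc ▸ card_dvd_of_le (hW.trans inf_le_left)))
    subst htp
    have hWY : W ≤ Q ⊓ H := le_inf (hW.trans inf_le_left) ((hW.trans hQ0E).trans hE.1)
    have hle := eq_of_cyclic hYc hKY hWY hKp (fun w hw => by
      have := pow_card_eq_one' (x := (⟨w, hw⟩ : W))
      rw [hWc] at this
      exact congrArg Subtype.val this) h.K_ne
    refine line_ne_bot hWc (le_bot_iff.1 ?_)
    rw [← FifteenTwo.Split.fixed_inf hG h.coatomS ds hs, hfix]
    exact le_inf hle hW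
  have hQab : ∀ a ∈ Q, ∀ b ∈ Q, a * b = b * a := fun a ha b hb => by
    have := (FifteenTwo.Split.pow_and_commutator_mem hG h.coatomS ds hs ha hb).2
    rw [hQ0bot, mem_bot] at this
    exact commutatorElement_eq_one_iff_mul_comm.1 this
  have hQK : Q ≤ normalizer (K : Set G) := fun a ha =>
    CfsgLib.Coprime.centralizer_le_normalizer_self K
      (mem_centralizer_iff.2 fun z hz => hQab z (hKQ hz) a ha)
  have hD'K : conjBy x⁻¹ D ≤ normalizer (K : Set G) := by
    refine fun d hd => normalizer_le_normalizer_of_cyclic hYc hKY ?_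
    exact CfsgLib.CFun.le_normalizer_inf
      ((hD'E.trans hES).trans hs.normal) ((hD'E.trans hE.1).trans le_normalizer) hd
  have hMK : Mstar ≤ normalizer (K : Set G) := by
    refine FifteenTwo.Split.M_le hG h.coatomS ds hs ?_ hQK ?_
    · exact (inf_le_right : Cfsg.sigmaCore M ⊓ centralizer (K : Set G) ≤ _).trans
        (CfsgLib.Coprime.centralizer_le_normalizer_self K)
    · rw [← hyD]
      rintro _ ⟨d, hd, rfl⟩
      exact mul_mem (mul_mem (hQK hy) (hD'K hd)) (inv_mem (hQK hy))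
  refine FifteenTwo.Split.minimal hG h.coatomS ds hs ?_ ?_ hMK
  · rw [hQ0bot]; exact bot_lt_iff_ne_bot.2 h.K_ne
  · refine lt_of_le_of_ne hKQ fun e => ?_
    have hcard := (FifteenTwo.Split.frobenius hG h.coatomS ds hs).2.1
    rw [hQ0bot, card_bot, one_mul, hlc, ← e, h.card] at hcard
    have h2 := (FifteenTwo.Split.frobenius hG h.coatomS ds hs).1.two_le
    exact absurd hcard (Nat.ne_of_lt (by
      calc p = p ^ 1 := (pow_one p).symm
        _ < _ := Nat.pow_lt_pow_right hp.out.one_lt (by omega)))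

omit hp in
/-- A complement acting regularly on `M_σ` is a Frobenius complement of `M`. -/
theorem frobenius_compl (hM : IsCoatom M) {E : Subgroup G}
    (hE : Cfsg.IsComplIn E (Cfsg.sigmaCore M) M) (hE1 : E ≠ ⊥)
    (hreg : ∀ a ∈ E, a ≠ 1 → Cfsg.sigmaCore M ⊓ centralizer ({a} : Set G) = ⊥) :
    Cfsg.IsFrobeniusComplement (E.subgroupOf M) := by
  refine ⟨fun e => hE1 (le_bot_iff.1 ?_), fun e => sigmaCore_ne_bot hG hM ?_, fun g hg => ?_⟩
  · intro x hx
    have : (⟨x, hE.1 hx⟩ : M) ∈ E.subgroupOf M := hx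
    rw [e, mem_bot] at this
    exact congrArg Subtype.val this
  · have hME : M ≤ E := subgroupOf_eq_top.1 e
    rw [eq_bot_iff, ← Compl.compl_inf hG hM hE]
    exact le_inf le_rfl ((map_subtype_le _).trans hME)
  · refine eq_bot_iff.2 fun y hy => ?_
    obtain ⟨hyE, hyc⟩ := mem_inf.1 hy
    rw [mem_pointwise_smul_iff_inv_smul_mem, MulAut.smul_def, MulAut.inv_apply,
      MulAut.conj_symm_apply, mem_subgroupOf] at hyc
    rw [mem_subgroupOf] at hyE
    rw [mem_bot]
    by_contra hy1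
    apply hg
    rw [mem_subgroupOf]
    obtain ⟨e, he, s, hs, hes⟩ := hE.2.2.2 (g : G) g.2
    set a : G := (g : G)⁻¹ * y * g with ha
    have haE : a ∈ E := by simpa [ha] using hyc
    have ha1 : a ≠ 1 := fun h0 => hy1 (Subtype.ext (show (y : G) = 1 by
      calc (y : G) = g * a * (g : G)⁻¹ := by rw [ha]; group
        _ = 1 := by rw [h0]; group))
    have hsc : s * a * s⁻¹ ∈ E := by
      rw [show s * a * s⁻¹ = e⁻¹ * y * e by rw [ha, hes]; group]
      exact mul_mem (mul_mem (inv_mem he) hyE) he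
    have hcomm : s * a * s⁻¹ * a⁻¹ = 1 := by
      rw [← mem_bot, ← Compl.compl_inf hG hM hE]
      refine mem_inf.2 ⟨?_, mul_mem hsc (inv_mem haE)⟩
      rw [show s * a * s⁻¹ * a⁻¹ = s * (a * s⁻¹ * a⁻¹) by group]
      exact mul_mem hs ((mem_normalizer_iff.1 (sigmaCore_normal hG M (hE.1 haE)) _).1 (inv_mem hs))
    have hs1 : s = 1 := by
      rw [← mem_bot, ← hreg a haE ha1]
      exact mem_inf.2 ⟨hs, mem_centralizer_singleton_iff.2
        (commutatorElement_eq_one_iff_mul_comm.1 (by rw [commutatorElement_def]; exact hcomm))⟩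
    rw [hes, hs1, mul_one]
    exact he

end CfsgLib.CFun.TwoNeighbour
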