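import Cfsg.Agent.Lib.Fusion.Sylow

/-!
# A group with trivially intersecting Sylow 2-subgroups has no offender without a section `S₄`
-/

set_option autoImplicit false
set_option linter.style.haveILetI false

open Subgroup
open CfsgLib.Fusion (conjBy mem_conjBy conj_mem_conjBy conjBy_le_iff conjBy_eq_iff conjBy_conjBy
  conjBy_mono card_conjBy)

namespace CfsgLib.CFun

variable {G V : Type*} [Group G] [CommGroup V]

/-- `[v, g]` for the action `ρ`. -/
def delt (ρ : G →* MulAut V) (g : G) (v : V) : V := ρ g v / v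

/-- The action has no section inducing `S₃` on a group of order `4`. -/
def NoThree (ρ : G →* MulAut V) : Prop :=
  ¬ ∃ (a b : G) (N : Subgroup V) (x y : V), a * a = 1 ∧ b * b = 1 ∧
    (∀ n ∈ N, ρ a n ∈ N ∧ ρ b n ∈ N) ∧ x ∉ N ∧ y ∉ N ∧ x * y ∉ N ∧
    delt ρ a x / y ∈ N ∧ delt ρ a y ∈ N ∧ delt ρ b y / x ∈ N ∧ delt ρ b x ∈ N

variable (ρ : G →* MulAut V)

theorem delt_apply (g : G) (v : V) : ρ g v = delt ρ g v * v := by simp [delt]

theorem delt_mul_left (g : G) (v w : V) : delt ρ g (v * w) = delt ρ g v * delt ρ g w := by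
  simp only [delt, map_mul, mul_div_mul_comm]

theorem delt_mul (g h : G) (v : V) :
    delt ρ (g * h) v = delt ρ g v * ρ g (delt ρ h v) := by
  simp only [delt, map_mul, MulAut.mul_apply, map_div, div_mul_div_cancel']

theorem delt_one (v : V) : delt ρ 1 v = 1 := by simp [delt]

theorem delt_one_right (g : G) : delt ρ g 1 = 1 := by simp [delt]

theorem delt_inv_right (g : G) (v : V) : delt ρ g v⁻¹ = (delt ρ g v)⁻¹ := by
  simp [delt, div_eq_mul_inv, mul_comm]

theorem delt_comm {g h : G} (hgh : Commute g h) (v : V) :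
    delt ρ g (delt ρ h v) = delt ρ h (delt ρ g v) := by
  have : ρ g (ρ h v) = ρ h (ρ g v) := by
    rw [← MulAut.mul_apply, ← map_mul, hgh.eq, map_mul, MulAut.mul_apply]
  simp only [delt, map_div, this]
  rw [div_div_div_comm]

theorem delt_self {a : G} (ha : a * a = 1) (h2 : ∀ v : V, v * v = 1) (v : V) :
    delt ρ a (delt ρ a v) = 1 := by
  have e : ρ a (ρ a v) = v := by rw [← MulAut.mul_apply, ← map_mul, ha, map_one, MulAut.one_apply]
  have hi : ∀ w : V, w⁻¹ = w := fun w => inv_eq_of_mul_eq_one_right (h2 w)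
  simp only [delt, div_eq_mul_inv, hi]
  rw [map_mul, e, mul_comm (ρ a v) v, h2]

/-- The fixed points of `B` modulo `N` in `P`. -/
def fixMod (B : Set G) (P N : Subgroup V) : Subgroup V where
  carrier := {x | x ∈ P ∧ ∀ b ∈ B, delt ρ b x ∈ N}
  one_mem' := ⟨one_mem P, fun b _ => by rw [delt_one_right]; exact one_mem N⟩
  mul_mem' := fun hx hy => ⟨mul_mem hx.1 hy.1, fun b hb => by
    rw [delt_mul_left]; exact mul_mem (hx.2 b hb) (hy.2 b hb)⟩
  inv_mem' := fun hx => ⟨inv_mem hx.1, fun b hb => by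
    rw [delt_inv_right]; exact inv_mem (hx.2 b hb)⟩

theorem mem_fixMod {B : Set G} {P N : Subgroup V} {x : V} :
    x ∈ fixMod ρ B P N ↔ x ∈ P ∧ ∀ b ∈ B, delt ρ b x ∈ N := Iff.rfl

/-- The fixed points of a subgroup. -/
abbrev fixOf (B : Subgroup G) : Subgroup V := fixMod ρ (B : Set G) ⊤ ⊥

/-- `|V| ≤ |A| |C_V(A)|`. -/
def IsOff (A : Subgroup G) : Prop := Nat.card V ≤ Nat.card A * Nat.card (fixOf ρ A)

variable {ρ}

theorem mem_fixOf {B : Subgroup G} {x : V} : x ∈ fixOf ρ B ↔ ∀ b ∈ B, ρ b x = x := by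
  simp [mem_fixMod, delt, div_eq_one]

theorem card_mul_relIndex' {G : Type*} [Group G] {H K : Subgroup G} (h : H ≤ K) :
    Nat.card H * H.relIndex K = Nat.card K := by
  rw [← Subgroup.relIndex_bot_left, relIndex_mul_relIndex _ _ _ bot_le h,
    Subgroup.relIndex_bot_left]

variable [Finite V] [Finite G]

/-- A minimal offender acts quadratically. -/
theorem quadratic_of_minimal (h2 : IsPGroup 2 V) {A : Subgroup G}
    (hcomm : ∀ a ∈ A, ∀ b ∈ A, Commute a b) (hne : A ≠ ⊥) (hoff : IsOff ρ A)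
    (hmin : ∀ B : Subgroup G, B < A → B ≠ ⊥ →
      Nat.card B * Nat.card (fixOf ρ B) < Nat.card A * Nat.card (fixOf ρ A)) :
    ∀ a ∈ A, ∀ b ∈ A, ∀ v : V, delt ρ a (delt ρ b v) = 1 := by
  classical
  set Y := fixOf ρ A with hY
  have hYmem : ∀ {y : V}, y ∈ Y → ∀ a ∈ A, delt ρ a y = 1 := fun hy a ha =>
    Subgroup.mem_bot.1 (hy.2 a ha)
  intro a₀ ha₀ b₀ hb₀ v
  -- the centralizer in `A` of `[v, A]`
  let B : Subgroup G :=
    { carrier := {c | c ∈ A ∧ ∀ b ∈ A, delt ρ c (delt ρ b v) = 1}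
      one_mem' := ⟨one_mem A, fun b _ => delt_one ρ _⟩
      mul_mem' := fun hc hd => ⟨mul_mem hc.1 hd.1, fun b hb => by
        rw [delt_mul, hc.2 b hb, hd.2 b hb, map_one, one_mul]⟩
      inv_mem' := fun {c} hc => ⟨inv_mem hc.1, fun b hb => by
        have h := delt_mul ρ c⁻¹ c (delt ρ b v)
        rw [inv_mul_cancel, delt_one, hc.2 b hb, map_one, mul_one] at h
        exact h.symm⟩ }
  have hBA : B ≤ A := fun c hc => hc.1
  rcases eq_or_lt_of_le hBA with hBeq | hBlt
  · exact (show a₀ ∈ B from hBeq.ge ha₀).2 b₀ hb₀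
  set S := Subgroup.closure ((fun a => delt ρ a v) '' (A : Set G)) with hS
  have hfixB : Y ⊔ S ≤ fixOf ρ B := by
    refine sup_le (fun y hy => ⟨trivial, fun c hc => hy.2 c (hBA hc)⟩) ((closure_le _).2 ?_)
    rintro _ ⟨b, hb, rfl⟩
    exact ⟨trivial, fun c hc => Subgroup.mem_bot.2 (hc.2 b hb)⟩
  let φ : A → V ⧸ Y := fun a => QuotientGroup.mk (delt ρ (a : G) v)
  have hfib : ∀ a a' : A, φ a = φ a' → (a : G) * (a' : G)⁻¹ ∈ B := by
    intro a a' h
    set c := (a : G) * (a' : G)⁻¹ with hc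
    have hcA : c ∈ A := mul_mem a.2 (inv_mem a'.2)
    refine ⟨hcA, fun b hb => ?_⟩
    have hd : (delt ρ (a : G) v)⁻¹ * delt ρ (a' : G) v ∈ Y := QuotientGroup.eq.1 h
    have e : delt ρ (a : G) v / delt ρ (a' : G) v = ρ (a' : G) (delt ρ c v) := by
      have e1 : (a : G) = c * a' := by rw [hc, inv_mul_cancel_right]
      have e2 : ρ (a' : G) (delt ρ c v) = delt ρ (a' : G) (delt ρ c v) * delt ρ c v :=
        delt_apply ρ _ _
      rw [e2, ← delt_comm ρ (hcomm _ hcA _ a'.2), e1, delt_mul,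
        delt_apply ρ c (delt ρ (a' : G) v), mul_div_assoc, mul_div_cancel_right, mul_comm]
    have hd' : delt ρ (a : G) v / delt ρ (a' : G) v ∈ Y := by
      simpa [div_eq_mul_inv, mul_comm] using inv_mem hd
    have hcY : delt ρ c v ∈ Y := by
      have hfx := mem_fixOf.1 hd' _ (inv_mem a'.2)
      rw [e, ← MulAut.mul_apply, ← map_mul, inv_mul_cancel, map_one, MulAut.one_apply, ← e] at hfx
      rw [hfx]
      exact hd'
    rw [delt_comm ρ (hcomm _ hcA _ hb)]
    exact hYmem hcY b hb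
  have hrange : ∀ a : A, φ a ∈ S.map (QuotientGroup.mk' Y) := fun a =>
    ⟨delt ρ (a : G) v, subset_closure ⟨a, a.2, rfl⟩, rfl⟩
  -- `|A| |Y| ≤ |B| |Y ⊔ S|`
  set B' := B.subgroupOf A with hB'
  have hBcard : Nat.card B' = Nat.card B := Nat.card_congr (subgroupOfEquivOfLe hBA).toEquiv
  let ψ : A ⧸ B' → S.map (QuotientGroup.mk' Y) := fun q => ⟨φ q.out, hrange q.out⟩
  have hψ : Function.Injective ψ := by
    intro q q' h
    have hm := hfib q.out q'.out (congrArg Subtype.val h)
    rw [← q.out_eq', ← q'.out_eq']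
    refine QuotientGroup.eq.2 ?_
    show ((q.out : G))⁻¹ * (q'.out : G) ∈ B
    have := inv_mem hm
    rwa [mul_inv_rev, inv_inv, (hcomm _ q'.out.2 _ (inv_mem q.out.2)).eq] at this
  have hcard : Nat.card A = Nat.card (A ⧸ B') * Nat.card B := by
    rw [← hBcard]; exact Subgroup.card_eq_card_quotient_mul_card_subgroup B'
  have hYS : Nat.card (S.map (QuotientGroup.mk' Y)) * Nat.card Y = Nat.card (Y ⊔ S : Subgroup V) := by
    have e : S.map (QuotientGroup.mk' Y) = (Y ⊔ S).map (QuotientGroup.mk' Y) := by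
      rw [Subgroup.map_sup, QuotientGroup.map_mk'_self, bot_sup_eq]
    rw [e, ← Subgroup.relIndex_ker, QuotientGroup.ker_mk', mul_comm,
      card_mul_relIndex' le_sup_left]
  have hle : Nat.card A * Nat.card Y ≤ Nat.card B * Nat.card (Y ⊔ S : Subgroup V) := by
    rw [← hYS, hcard, mul_comm (Nat.card (A ⧸ B')), mul_assoc]
    exact Nat.mul_le_mul le_rfl (Nat.mul_le_mul (Nat.card_le_card_of_injective ψ hψ) le_rfl)
  rcases eq_or_ne B ⊥ with hB | hB
  · -- every class modulo the fixed points is the commutator with an element of `A`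
    exfalso
    have h1 : Nat.card (V ⧸ Y) ≤ Nat.card (A ⧸ B') := by
      refine Nat.le_of_mul_le_mul_right ?_ (Nat.card_pos (α := Y))
      rw [← Subgroup.card_eq_card_quotient_mul_card_subgroup Y]
      refine le_trans hoff (le_of_eq ?_)
      rw [hcard, hB, Subgroup.card_bot, mul_one]
    have hsur : Function.Surjective fun q => (ψ q : V ⧸ Y) := by
      refine ((Nat.bijective_iff_injective_and_card _).2
        ⟨fun q q' h => hψ (Subtype.ext h), le_antisymm ?_ h1⟩).2
      exact Nat.card_le_card_of_injective _ fun q q' h => hψ (Subtype.ext h)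
    obtain ⟨q, hq⟩ := hsur (QuotientGroup.mk v)
    set a : G := ((q.out : A) : G) with haq
    have haA : a ∈ A := (q.out).2
    have hd : (delt ρ a v)⁻¹ * v ∈ Y := QuotientGroup.eq.1 hq
    have hb : ∀ b ∈ A, delt ρ b v = delt ρ b (delt ρ a v) := by
      intro b hb
      have := hYmem hd b hb
      rw [delt_mul_left, delt_inv_right, inv_mul_eq_one] at this
      exact this.symm
    have ha1 : delt ρ a v = 1 := by
      set u := delt ρ a v with hu
      have h1 : ρ a u = u * u := by rw [delt_apply ρ a u, ← hb a haA]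
      have h3 : orderOf (u * u) = orderOf u := by rw [← h1, MulEquiv.orderOf_eq]
      obtain ⟨k, hk⟩ := IsPGroup.iff_orderOf.1 h2 u
      rcases k with _ | k
      · exact orderOf_eq_one_iff.1 (by simpa using hk)
      · rw [← pow_two, orderOf_pow, hk, Nat.gcd_eq_right (dvd_pow_self 2 k.succ_ne_zero)] at h3
        exact absurd h3 (Nat.div_lt_self (by positivity) one_lt_two).ne
    have hvY : v ∈ Y := by rw [ha1, inv_one, one_mul] at hd; exact hd
    refine hne (le_bot_iff.1 ?_)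
    rw [← hB]
    exact fun c hc => ⟨hc, fun b hb => by rw [hYmem hvY b hb, delt_one_right]⟩
  · exact absurd (hle.trans (Nat.mul_le_mul le_rfl (Subgroup.card_le_of_le hfixB)))
      (hmin B hBlt hB).not_ge

/-- A quadratic offender which generates the group with each conjugate outside a proper subgroup
containing a Sylow 2-subgroup gives a section inducing `S₃` on a group of order `4`. -/
theorem false_of_generators {V G : Type*} [CommGroup V] [Finite V] [Group G] [Finite G]
    {ρ : G →* MulAut V} (h2 : ∀ v : V, v * v = 1) (hρ : Function.Injective ρ) (hfree : NoThree ρ)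
    (T : Sylow 2 G) (L : Subgroup G) (hTL : (T : Subgroup G) ≤ L) (hL : L ≠ ⊤)
    (A : Subgroup G) (hne : A ≠ ⊥) (hA2 : ∀ a ∈ A, a * a = 1)
    (hq : ∀ a ∈ A, ∀ b ∈ A, ∀ v : V, delt ρ a (delt ρ b v) = 1) (hoff : IsOff ρ A)
    (gen : ∀ h, h ∉ L → A ⊔ conjBy h A = ⊤)
    (gen' : ∀ h, h ∉ L → ∀ a ∈ A, a ≠ 1 → conjBy h A ⊔ conjBy a (conjBy h A) = ⊤) : False := by
  classical
  have hconjA2 : ∀ h, ∀ d ∈ conjBy h A, d * d = 1 := by
    intro h d hd
    have := hA2 _ (mem_conjBy.1 hd)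
    calc d * d = h * (h⁻¹ * d * h * (h⁻¹ * d * h)) * h⁻¹ := by group
      _ = 1 := by rw [this]; group
  -- an element of odd order
  have hodd : ∀ (g : G) (k : ℕ), Odd k → g ^ k = 1 → ∀ (P N : Subgroup V),
      (∀ u ∈ P, delt ρ g u ∈ N) → ∀ v, delt ρ g v ∈ P → ρ g '' (N : Set V) ⊆ N →
        delt ρ g v ∈ N := by
    intro g k hk hgk P N hP v hv hN
    set u := delt ρ g v with hu
    have hmod : ∀ i : ℕ, delt ρ (g ^ i) v / u ^ i ∈ N := by
      intro i
      induction i with
      | zero => simp [delt_one]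
      | succ i ihi =>
        rw [pow_succ', delt_mul, pow_succ', ← hu, mul_div_mul_left_eq_div]
        have h1 : ρ g (delt ρ (g ^ i) v / u ^ i) ∈ N := hN ⟨_, ihi, rfl⟩
        have h3 : delt ρ g (u ^ i) ∈ N := hP _ (pow_mem hv i)
        have h4 := mul_mem h1 h3
        convert h4 using 1
        simp [delt, map_div, div_eq_mul_inv, mul_assoc]
    have := hmod k
    rw [hgk, delt_one, one_div, inv_mem_iff] at this
    obtain ⟨j, hj⟩ := hk
    rwa [hj, pow_succ, pow_mul, pow_two, h2 u, one_pow, one_mul] at this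
  let Inv : Subgroup V → Prop := fun N => ∀ g : G, ∀ u ∈ N, ρ g u ∈ N
  let Bad : Subgroup V → Prop := fun N =>
    ∃ (g : G) (v : V) (k : ℕ), Odd k ∧ g ^ k = 1 ∧ delt ρ g v ∉ N
  obtain ⟨N, ⟨hNi, hNbad⟩, hNmax⟩ := (Set.toFinite {N : Subgroup V | Inv N ∧ Bad N}).exists_maximal
    ⟨⊥, fun g u hu => by rw [mem_bot.1 hu, map_one]; exact one_mem _, by
      by_contra hb
      simp only [Bad, not_exists, not_and, not_not] at hb
      have h2g : IsPGroup 2 G := by
        intro g
        obtain ⟨e, m, hm, hem⟩ := Nat.exists_eq_two_pow_mul_odd (orderOf_pos g).ne'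
        refine ⟨e, hρ (MulEquiv.ext fun v => ?_)⟩
        have h5 := hb (g ^ 2 ^ e) v m hm (by rw [← pow_mul, ← hem, pow_orderOf_eq_one])
        rw [map_one, MulAut.one_apply]
        rwa [mem_bot, delt, div_eq_one] at h5
      exact hL (top_le_iff.1 (le_trans
        (T.is_maximal' (h2g.to_subgroup ⊤) le_top).le hTL))⟩
  obtain ⟨P, ⟨hPi, hNP⟩, hPmin⟩ := (Set.toFinite {P : Subgroup V | Inv P ∧ N < P}).exists_minimal
    ⟨⊤, fun _ _ _ => mem_top _, lt_top_iff_ne_top.2 fun e => by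
      obtain ⟨g, v, k, -, -, hv⟩ := hNbad; exact hv (e ▸ mem_top _)⟩
  have hnt : ∃ (g : G) (x : V), x ∈ P ∧ delt ρ g x ∉ N := by
    by_contra hb
    push Not at hb
    have hPb : ¬ Bad P := fun hPb => hNP.not_ge (hNmax ⟨hPi, hPb⟩ hNP.le)
    simp only [Bad, not_exists, not_and, not_not] at hPb
    obtain ⟨g, v, k, hk, hgk, hv⟩ := hNbad
    exact hv (hodd g k hk hgk P N (fun u hu => hb g u hu) v (hPb g v k hk hgk) (by
      rintro _ ⟨u, hu, rfl⟩; exact hNi g u hu))
  have hchief : ∀ S : Subgroup V, Inv S → N ≤ S → S ≤ P → S = N ∨ S = P := by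
    intro S hS hNS hSP
    rcases eq_or_lt_of_le hNS with e | e
    · exact Or.inl e.symm
    · exact Or.inr (le_antisymm hSP (hPmin ⟨hS, e⟩ hSP))
  have hsubN : ∀ {u : V} {g : G}, u ∈ N → delt ρ g u ∈ N := fun hu =>
    div_mem (hNi _ _ hu) hu
  set YF := fixMod ρ (A : Set G) P N with hYF
  have hNY : N ≤ YF := fun u hu => ⟨hNP.le hu, fun _ _ => hsubN hu⟩
  have hall : ∀ x : V, x ∈ P → ∀ B₁ B₂ : Subgroup G, B₁ ⊔ B₂ = ⊤ → (∀ b ∈ B₁, delt ρ b x ∈ N) →
      (∀ b ∈ B₂, delt ρ b x ∈ N) → x ∈ N := by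
    intro x hxP B₁ B₂ htop h₁ h₂
    have hg : ∀ g : G, delt ρ g x ∈ N := by
      intro g
      have hgm : g ∈ B₁ ⊔ B₂ := htop ▸ mem_top g
      rw [Subgroup.sup_eq_closure] at hgm
      induction hgm using Subgroup.closure_induction with
      | mem b hb => exact hb.elim (h₁ b) (h₂ b)
      | one => rw [delt_one]; exact one_mem N
      | mul b c _ _ ib ic => rw [delt_mul]; exact mul_mem ib (hNi b _ ic)
      | inv b _ ib =>
        have e : delt ρ b⁻¹ x = ρ b⁻¹ ((delt ρ b x)⁻¹) := by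
          simp [delt, map_div]
        rw [e]; exact hNi _ _ (inv_mem ib)
    by_contra hxN
    let S : Subgroup V := fixMod ρ (Set.univ : Set G) P N
    have hSi : Inv S := fun g u hu => ⟨hPi g u hu.1, fun b _ => by
      have e : delt ρ b (ρ g u) = delt ρ (b * g) u / delt ρ g u := by
        simp [delt, map_mul]
      rw [e]; exact div_mem (hu.2 _ trivial) (hu.2 _ trivial)⟩
    rcases hchief S hSi (fun u hu => ⟨hNP.le hu, fun _ _ => hsubN hu⟩) (fun u hu => hu.1)
      with e | e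
    · exact hxN (e ▸ ⟨hxP, fun g _ => hg g⟩)
    · obtain ⟨g, z, hz, hgz⟩ := hnt
      exact hgz ((e.symm ▸ hz : z ∈ S).2 g trivial)
  have pair : ∀ h, h ∉ L → YF ⊓ fixMod ρ (conjBy h A : Set G) P N = N ∧
      (∃ x ∈ fixMod ρ (conjBy h A : Set G) P N, x ∉ N) ∧
      ∀ x ∈ fixMod ρ (conjBy h A : Set G) P N, x ∉ N →
        (∀ y ∈ YF, ∃ a ∈ A, delt ρ a x / y ∈ N) ∧
        ∀ a ∈ A, a ≠ 1 → delt ρ a x ∉ N := by
    intro h hh
    set D := conjBy h A with hD
    have hAD := gen h hh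
    -- conjugating `D` by an element of `A`
    have gen2 : ∀ a ∈ A, a ≠ 1 → D ⊔ conjBy a D = ⊤ := gen' h hh
    set XF := fixMod ρ (D : Set G) P N with hXF
    have hNX : N ≤ XF := fun u hu => ⟨hNP.le hu, fun _ _ => hsubN hu⟩
    have hinter : YF ⊓ XF = N := le_antisymm
      (fun u hu => hall u hu.1.1 A D hAD hu.1.2 hu.2.2) (le_inf hNY hNX)
    -- transport of `YF` to `XF`
    have hmapYX : YF.map (ρ h : V ≃* V).toMonoidHom = XF := by
      ext u
      constructor
      · rintro ⟨y, hy, rfl⟩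
        refine ⟨hPi h y hy.1, fun d hd => ?_⟩
        have hd' := mem_conjBy.1 hd
        have e : delt ρ d (ρ h y) = ρ h (delt ρ (h⁻¹ * d * h) y) := by
          simp only [delt, map_div, map_mul, MulAut.mul_apply, map_inv]
          simp
        show delt ρ d (ρ h y) ∈ N
        rw [e]; exact hNi h _ (hy.2 _ hd')
      · intro hu
        refine ⟨ρ h⁻¹ u, ⟨hPi _ u hu.1, fun a ha => ?_⟩, by simp⟩
        have e : delt ρ a (ρ h⁻¹ u) = ρ h⁻¹ (delt ρ (h * a * h⁻¹) u) := by
          simp only [delt, map_div, map_mul, MulAut.mul_apply, map_inv]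
          simp
        rw [e]; exact hNi _ _ (hu.2 _ (conj_mem_conjBy ha))
    have hcardXY : Nat.card XF = Nat.card YF := by
      rw [← hmapYX]; exact Subgroup.card_map_of_injective (ρ h).injective
    have hqD : ∀ a ∈ D, ∀ b ∈ D, ∀ v : V, delt ρ a (delt ρ b v) = 1 := by
      intro a ha b hb v
      have ha' := mem_conjBy.1 ha
      have hb' := mem_conjBy.1 hb
      have e : ∀ (c : G) (w : V), delt ρ c w = ρ h (delt ρ (h⁻¹ * c * h) (ρ h⁻¹ w)) := by
        intro c w
        simp only [delt, map_div, map_mul, MulAut.mul_apply, map_inv]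
        simp
      rw [e b v, e a]
      simp only [map_inv, MulAut.inv_apply, MulEquiv.symm_apply_apply]
      rw [hq _ ha' _ hb', map_one]
    have hqa : ∀ a ∈ A, ∀ x ∈ P, delt ρ a x ∈ YF := fun a ha x hx =>
      ⟨div_mem (hPi a x hx) hx, fun b hb => by rw [hq b hb a ha]; exact one_mem N⟩
    have hqd : ∀ d ∈ D, ∀ x ∈ P, delt ρ d x ∈ XF := fun a ha x hx =>
      ⟨div_mem (hPi a x hx) hx, fun b hb => by rw [hqD b hb a ha]; exact one_mem N⟩
    have hsum : YF ⊔ XF = P := by
      set S := YF ⊔ XF with hS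
      have hSP : S ≤ P := sup_le (fun u hu => hu.1) (fun u hu => hu.1)
      have hstep : ∀ g : G, ∀ u ∈ S, ρ g u ∈ S := by
        intro g
        have hgm : g ∈ A ⊔ D := hAD ▸ mem_top g
        rw [Subgroup.sup_eq_closure] at hgm
        induction hgm using Subgroup.closure_induction_left with
        | one => intro u hu; simpa using hu
        | mul_left b hb c _ ic =>
          intro u hu
          rw [map_mul, MulAut.mul_apply, delt_apply ρ b]
          refine mul_mem ?_ (ic u hu)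
          rcases hb with hb | hb
          · exact mem_sup_left (hqa b hb _ (hSP (ic u hu)))
          · exact mem_sup_right (hqd b hb _ (hSP (ic u hu)))
        | inv_mul_cancel b hb c _ ic =>
          intro u hu
          rw [map_mul, MulAut.mul_apply, delt_apply ρ b⁻¹]
          refine mul_mem ?_ (ic u hu)
          rcases hb with hb | hb
          · exact mem_sup_left (hqa _ (inv_mem hb) _ (hSP (ic u hu)))
          · exact mem_sup_right (hqd _ (inv_mem hb) _ (hSP (ic u hu)))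
      rcases hchief S hstep (hNY.trans le_sup_left) hSP with e | e
      · exfalso
        obtain ⟨g, z, hz, hgz⟩ := hnt
        exact hgz (hsubN (hall z hz A D hAD (fun a ha => e ▸ mem_sup_left (hqa a ha z hz))
          fun d hd => e ▸ mem_sup_right (hqd d hd z hz)))
      · exact e
    -- a fixed point of one element is fixed by `A`
    have hsemi : ∀ a ∈ A, a ≠ 1 → ∀ u ∈ P, delt ρ a u ∈ N → u ∈ YF := by
      intro a ha ha1 u hu hau
      obtain ⟨y, hy, x, hx, rfl⟩ := Subgroup.mem_sup.1 (hsum.ge hu)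
      rw [delt_mul_left] at hau
      have hax : delt ρ a x ∈ N := by
        have := mul_mem (inv_mem (hy.2 a ha)) hau
        simpa using this
      have hxN : x ∈ N := by
        refine hall x hx.1 D (conjBy a D) (gen2 a ha ha1) hx.2 fun b hb => ?_
        have hd' := mem_conjBy.1 hb
        rw [show b = a * (a⁻¹ * b * a) * a⁻¹ by group, delt_mul, delt_mul]
        have hai : a⁻¹ = a := inv_eq_of_mul_eq_one_right (hA2 a ha)
        refine mul_mem (mul_mem hax (hNi _ _ (hx.2 _ hd'))) (hNi _ _ ?_)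
        rw [hai]; exact hax
      exact mul_mem hy (hNY hxN)
    -- `|P : N| ≤ |A| |YF : N|`
    have hPY : Nat.card P ≤ Nat.card A * Nat.card YF := by
      have hle : P ⊓ fixOf ρ A ≤ YF := fun u hu => ⟨hu.1, fun a ha => by
        rw [Subgroup.mem_bot.1 (hu.2.2 a ha)]; exact one_mem N⟩
      have h1 : (fixOf ρ A).relIndex P ≤ (fixOf ρ A).index :=
        Nat.le_of_dvd (Nat.pos_of_ne_zero Subgroup.index_ne_zero_of_finite)
          (Subgroup.relIndex_dvd_index_of_normal _ _)
      have h3 : (fixOf ρ A).index ≤ Nat.card A := by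
        refine Nat.le_of_mul_le_mul_right ?_ (Nat.card_pos (α := fixOf ρ A))
        rw [mul_comm _ (Nat.card (fixOf ρ A)), Subgroup.card_mul_index]
        exact hoff
      have h4 : Nat.card (P ⊓ fixOf ρ A : Subgroup V) * (fixOf ρ A).relIndex P = Nat.card P := by
        rw [← Subgroup.inf_relIndex_left P, card_mul_relIndex' inf_le_left]
      rw [← h4, mul_comm]
      exact Nat.mul_le_mul (h1.trans h3) (Subgroup.card_le_of_le hle)
    have hex : ∃ x ∈ XF, x ∉ N := by
      by_contra hb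
      push Not at hb
      obtain ⟨g, z, hz, hgz⟩ := hnt
      refine hgz (hsubN ?_)
      have : YF = N := (Subgroup.eq_of_le_of_card_ge hNY
        (by rw [← hcardXY]; exact Subgroup.card_le_of_le hb)).symm
      rw [← hsum, this, sup_eq_left.2 (show XF ≤ N from hb)] at hz
      exact hz
    refine ⟨hinter, hex, fun x hx hxN => ?_⟩
    -- `a ↦ [x, a]` maps `A` onto the fixed points modulo `N`
    let Φ : A →* V ⧸ N :=
      { toFun := fun a => QuotientGroup.mk (delt ρ (a : G) x)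
        map_one' := by simp [delt_one]
        map_mul' := fun a b => by
          rw [Subgroup.coe_mul, delt_mul, delt_apply ρ (a : G) (delt ρ (b : G) x), hq _ a.2 _ b.2,
            one_mul]
          rfl }
    have hΦker : ∀ a : A, Φ a = 1 → a = 1 := by
      intro a ha
      by_contra ha1
      have hax : delt ρ (a : G) x ∈ N := (QuotientGroup.eq_one_iff _).1 ha
      exact hxN (hinter ▸ mem_inf.2 ⟨hsemi a a.2 (fun e => ha1 (Subtype.ext e)) x hx.1 hax, hx⟩)
    have hΦrange : Φ.range = YF.map (QuotientGroup.mk' N) := by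
      refine Subgroup.eq_of_le_of_card_ge ?_ ?_
      · rintro _ ⟨a, rfl⟩; exact ⟨_, hqa a a.2 x hx.1, rfl⟩
      rw [← Nat.card_congr (Φ.ofInjective ((injective_iff_map_eq_one Φ).2 hΦker)).toEquiv,
        ← Subgroup.relIndex_ker, QuotientGroup.ker_mk']
      have e1 : Nat.card N * N.relIndex YF = Nat.card YF := card_mul_relIndex' hNY
      have e2 : Nat.card YF * Nat.card XF = Nat.card P * Nat.card N := by
        have h5 : XF.relIndex (YF ⊔ XF) = XF.relIndex YF := Subgroup.relIndex_sup_right YF XF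
        rw [hsum] at h5
        have h6 : Nat.card N * XF.relIndex YF = Nat.card YF := by
          rw [← hinter, ← Subgroup.inf_relIndex_left YF, card_mul_relIndex' inf_le_left]
        have h7 : Nat.card XF * XF.relIndex P = Nat.card P :=
          card_mul_relIndex' (hsum ▸ le_sup_right)
        rw [← h7, ← h6, h5]; ring
      rw [hcardXY] at e2
      have hN0 : 0 < Nat.card N := Nat.card_pos
      have hY0 : 0 < Nat.card YF := Nat.card_pos
      nlinarith
    refine ⟨?_, fun a ha ha1 h' => hxN (hinter ▸ mem_inf.2 ⟨hsemi a ha ha1 x hx.1 h', hx⟩)⟩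
    intro y hy
    have : QuotientGroup.mk' N y ∈ Φ.range := hΦrange ▸ mem_map_of_mem _ hy
    obtain ⟨a, ha⟩ := this
    exact ⟨a, a.2, QuotientGroup.eq_iff_div_mem.1 ha⟩
  obtain ⟨h, hh⟩ : ∃ h, h ∉ L := by
    by_contra e
    push Not at e
    exact hL ((Subgroup.eq_top_iff' L).2 e)
  obtain ⟨hinter, ⟨x, hx, hxN⟩, hpair⟩ := pair h hh
  obtain ⟨-, hne'⟩ := hpair x hx hxN
  obtain ⟨a, ha, hane⟩ := (Subgroup.bot_or_exists_ne_one A).resolve_left hne
  set y := delt ρ a x with hy
  have hxP : x ∈ P := hx.1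
  have hyY : y ∈ YF := ⟨div_mem (hPi a x hxP) hxP, fun b hb => by
    rw [hq b hb a ha]; exact one_mem N⟩
  have hyN : y ∉ N := hne' a ha hane
  -- the same map for the conjugate, through conjugation by `h`
  have hh' : h⁻¹ ∉ L := fun h' => hh (by simpa using inv_mem h')
  have hconjδ : ∀ (c : G) (w : V), delt ρ c (ρ h⁻¹ w) = ρ h⁻¹ (delt ρ (h * c * h⁻¹) w) := by
    intro c w
    simp only [delt, map_div, map_mul, MulAut.mul_apply, map_inv]
    simp
  have hx' : ρ h⁻¹ y ∈ fixMod ρ (conjBy h⁻¹ A : Set G) P N :=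
    ⟨hPi _ _ hyY.1, fun c hc => by
      rw [hconjδ]
      exact hNi _ _ (hyY.2 _ (by simpa using mem_conjBy.1 hc))⟩
  have hx'N : ρ h⁻¹ y ∉ N := fun e => hyN (by simpa using hNi h _ e)
  obtain ⟨a', ha', hae⟩ := (((pair h⁻¹ hh').2.2 _ hx' hx'N).1 (ρ h⁻¹ x) ⟨hPi _ _ hxP, fun c hc => by
    rw [hconjδ]; exact hNi _ _ (hx.2 _ (conj_mem_conjBy hc))⟩)
  set d := h * a' * h⁻¹ with hd'
  have hd : d ∈ conjBy h A := conj_mem_conjBy ha'
  have hde : delt ρ d y / x ∈ N := by
    rw [hconjδ, ← map_div] at hae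
    simpa using hNi h _ hae
  have hd2 : d * d = 1 := hconjA2 h d hd
  refine hfree ⟨a, d, N, x, y, hA2 a ha, hd2, fun u hu => ⟨hNi a u hu, hNi d u hu⟩, hxN, hyN, ?_,
    by rw [← hy]; simp, hyY.2 a ha, hde, hx.2 d hd⟩
  intro hxy
  refine hxN (hinter ▸ mem_inf.2 ⟨?_, hx⟩)
  have := mul_mem (hNY hxy) (inv_mem hyY)
  simpa using this

/-- No offender when the Sylow 2-subgroups meet trivially outside a proper subgroup. -/
theorem isOff_eq_bot_of_ti {V : Type*} [CommGroup V] [Finite V] (h2 : ∀ v : V, v * v = 1) (n : ℕ) :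
    ∀ (G : Type*) [Group G] [Finite G] (ρ : G →* MulAut V), Nat.card G = n → Function.Injective ρ →
      NoThree ρ → ∀ (T : Sylow 2 G) (L : Subgroup G), (T : Subgroup G) ≤ L → L ≠ ⊤ →
      (∀ g, g ∉ L → (T : Subgroup G) ⊓ conjBy g T = ⊥) →
      ∀ A : Subgroup G, A ≤ T → (∀ a ∈ A, a * a = 1) → IsOff ρ A → A = ⊥ := by
  induction n using Nat.strong_induction_on with
  | _ n ih =>
  intro G _ _ ρ hn hρ hfree T L hTL hL hTI
  classical
  intro A₀ hA₀T hA₀2 hoff₀
  by_contra hA₀
  obtain ⟨A, ⟨hAA₀, hne, hoff⟩, hmin'⟩ := (Set.toFinite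
    {B : Subgroup G | B ≤ A₀ ∧ B ≠ ⊥ ∧ IsOff ρ B}).exists_minimal ⟨A₀, le_rfl, hA₀, hoff₀⟩
  have hA2 : ∀ a ∈ A, a * a = 1 := fun a ha => hA₀2 a (hAA₀ ha)
  have hAT : A ≤ (T : Subgroup G) := hAA₀.trans hA₀T
  have hcomm : ∀ a ∈ A, ∀ b ∈ A, Commute a b := fun a ha b hb => by
    have e := hA2 _ (mul_mem ha hb)
    have ea : a⁻¹ = a := inv_eq_of_mul_eq_one_right (hA2 a ha)
    have eb : b⁻¹ = b := inv_eq_of_mul_eq_one_right (hA2 b hb)
    show a * b = b * a
    rw [← inv_eq_of_mul_eq_one_right e, mul_inv_rev, ea, eb]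
  have hq := quadratic_of_minimal (fun v => ⟨1, by rw [pow_one, pow_two, h2]⟩) hcomm hne hoff
    fun B hB hBne => lt_of_lt_of_le (not_le.1 fun hBoff =>
      hB.not_ge (hmin' ⟨hB.le.trans hAA₀, hBne, hBoff⟩ hB.le)) hoff
  -- Sylow intersections
  have hTi : ¬ 2 ∣ (T : Subgroup G).relIndex L := fun hd =>
    T.not_dvd_index (hd.trans (relIndex_dvd_index_of_le hTL))
  have key : ∀ d : G, d ≠ 1 → d * d = 1 → d ∈ L → ∀ h, d ∈ conjBy h (T : Subgroup G) → h ∈ L := by
    intro d hd1 hd2 hdL h hdh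
    have hp : IsPGroup 2 (zpowers d) := by
      refine IsPGroup.of_card (n := 1) ?_
      rw [Nat.card_zpowers, pow_one]
      exact orderOf_eq_prime (by rw [pow_two, hd2]) hd1
    obtain ⟨l, hl, hle⟩ := CfsgLib.Fusion.exists_conj_le_of_not_dvd_relIndex T.2 hTL hTi hp
      (zpowers_le.2 hdL)
    have h1 : l * d * l⁻¹ ∈ (T : Subgroup G) := conjBy_le_iff.1 hle d (mem_zpowers d)
    by_contra hh
    have h3 : l * h ∉ L := fun h' => hh (by simpa using mul_mem (inv_mem hl) h')
    have h4 : l * d * l⁻¹ ∈ (T : Subgroup G) ⊓ conjBy (l * h) T :=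
      mem_inf.2 ⟨h1, by rw [← conjBy_conjBy]; exact conj_mem_conjBy hdh⟩
    rw [hTI _ h3, mem_bot] at h4
    exact hd1 (mul_left_cancel (a := l) (by rw [mul_one]; exact mul_inv_eq_one.1 h4))
  have hconjA2 : ∀ h, ∀ d ∈ conjBy h A, d * d = 1 := by
    intro h d hd
    have := hA2 _ (mem_conjBy.1 hd)
    calc d * d = h * (h⁻¹ * d * h * (h⁻¹ * d * h)) * h⁻¹ := by group
      _ = 1 := by rw [this]; group
  -- conjugates outside `L` generate
  have gen : ∀ h, h ∉ L → A ⊔ conjBy h A = ⊤ := by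
    intro h hh
    set D := conjBy h A with hD
    by_contra hH
    set H := A ⊔ D with hHdef
    obtain ⟨T₁, hAT₁, hT₁H, hT₁p, hT₁i⟩ := CfsgLib.Fusion.exists_le_not_dvd_relIndex
      (T.2.to_le hAT) (le_sup_left : A ≤ H)
    obtain ⟨y, -, hy⟩ := CfsgLib.Fusion.exists_conj_le_of_not_dvd_relIndex T.2 le_top
      (by rw [relIndex_top_right]; exact T.not_dvd_index) hT₁p le_top
    have hy' : y ∈ L := by
      obtain ⟨a, ha, ha1⟩ := (Subgroup.bot_or_exists_ne_one A).resolve_left hne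
      have : y * a * y⁻¹ ∈ (T : Subgroup G) := conjBy_le_iff.1 hy a (hAT₁ ha)
      have h5 := key a ha1 (hA2 a ha) (hTL (hAT ha)) y⁻¹ (mem_conjBy.2 (by simpa using this))
      simpa using inv_mem h5
    have hT₁le : T₁ ≤ conjBy y⁻¹ (T : Subgroup G) := by
      have := conjBy_mono (g := y⁻¹) hy
      rwa [CfsgLib.Fusion.conjBy_inv_conjBy] at this
    let TH : Sylow 2 H := (hT₁p.of_equiv (Subgroup.subgroupOfEquivOfLe hT₁H).symm).toSylow hT₁i
    have hT₁L : T₁ ≤ L := hT₁le.trans (conjBy_le_iff.2 fun t ht =>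
      mul_mem (mul_mem (inv_mem hy') (hTL ht)) (by simpa using hy'))
    have hLH : L.subgroupOf H ≠ ⊤ := by
      intro e
      have hDL : D ≤ L := le_sup_right.trans (subgroupOf_eq_top.1 e)
      obtain ⟨d, hd, hd1⟩ := (Subgroup.bot_or_exists_ne_one D).resolve_left fun e' => hne
        ((Subgroup.map_eq_bot_iff_of_injective _ (MulAut.conj h).injective).1 e')
      exact hh (key d hd1 (hconjA2 h d hd) (hDL hd) h (conjBy_mono hAT hd))
    have hTIH : ∀ g : H, g ∉ L.subgroupOf H →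
        (TH : Subgroup H) ⊓ conjBy g (TH : Subgroup H) = ⊥ := by
      intro g hg
      rw [eq_bot_iff]
      intro x hx
      have hx1 : (x : G) ∈ conjBy y⁻¹ (T : Subgroup G) := hT₁le hx.1
      have hx3 : g⁻¹ * x * g ∈ (TH : Subgroup H) := mem_conjBy.1 hx.2
      have hx2 : (g : G)⁻¹ * x * g ∈ conjBy y⁻¹ (T : Subgroup G) := hT₁le hx3
      rw [mem_conjBy, inv_inv] at hx1 hx2
      have hg' : y * (g : G) * y⁻¹ ∉ L := fun h' => hg (show (g : G) ∈ L by
        have := mul_mem (mul_mem (inv_mem hy') h') hy'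
        simpa [mul_assoc] using this)
      have hmem : y * (x : G) * y⁻¹ ∈ (T : Subgroup G) ⊓ conjBy (y * g * y⁻¹) T :=
        mem_inf.2 ⟨hx1, mem_conjBy.2 (by
          convert hx2 using 1
          group)⟩
      rw [hTI _ hg', mem_bot] at hmem
      refine Subgroup.mem_bot.2 (Subtype.ext ?_)
      exact mul_left_cancel (a := y) (by
        rw [OneMemClass.coe_one, mul_one]; exact mul_inv_eq_one.1 hmem)
    have hfreeH : NoThree (ρ.comp H.subtype) := fun ⟨a, b, N, x, y, ha, hb, hN, h⟩ =>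
      hfree ⟨a, b, N, x, y, congrArg Subtype.val ha, congrArg Subtype.val hb, hN, h⟩
    have hlt : Nat.card H < n := by
      rw [← hn]
      exact lt_of_le_of_ne (Nat.le_of_dvd Nat.card_pos (card_subgroup_dvd_card H)) fun e =>
        hH (eq_top_of_card_eq H e)
    have hfixeq : fixOf (ρ.comp H.subtype) (A.subgroupOf H) = fixOf ρ A := by
      ext v
      rw [mem_fixOf, mem_fixOf]
      exact ⟨fun h a ha => h ⟨a, le_sup_left (a := A) (b := D) ha⟩ ha, fun h a ha => h a ha⟩
    have hoffH : IsOff (ρ.comp H.subtype) (A.subgroupOf H) := by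
      show Nat.card V ≤ Nat.card (A.subgroupOf H) * _
      rw [Nat.card_congr (subgroupOfEquivOfLe (le_sup_left : A ≤ H)).toEquiv, hfixeq]
      exact hoff
    have := ih _ hlt H (ρ.comp H.subtype) rfl (hρ.comp H.subtype_injective) hfreeH TH
      (L.subgroupOf H) (fun t ht => hT₁L ht) hLH hTIH
      (A.subgroupOf H) (fun a ha => hAT₁ ha) (fun a ha => Subtype.ext (hA2 a ha)) hoffH
    rw [subgroupOf_eq_bot, disjoint_iff, inf_eq_left.2 (le_sup_left : A ≤ H)] at this
    exact hne this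
  refine false_of_generators h2 hρ hfree T L hTL hL A hne hA2 hq hoff gen ?_
  intro h hh a ha ha1
  have h' : h⁻¹ * a * h ∉ L := by
    intro h'
    refine hh ?_
    have := key (h⁻¹ * a * h) (fun e => ha1 (by
        calc a = h * (h⁻¹ * a * h) * h⁻¹ := by group
          _ = 1 := by rw [e]; group))
      (by calc h⁻¹ * a * h * (h⁻¹ * a * h) = h⁻¹ * (a * a) * h := by group
          _ = 1 := by rw [hA2 a ha]; group) h' h⁻¹
      (mem_conjBy.2 (by
        convert hAT ha using 1
        group))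
    simpa using inv_mem this
  have := congrArg (conjBy h) (gen _ h')
  have etop : conjBy h (⊤ : Subgroup G) = ⊤ :=
    conjBy_eq_iff.2 (by rw [Subgroup.normalizer_eq_top (⊤ : Subgroup G)]; trivial)
  rw [etop, show conjBy h (A ⊔ conjBy (h⁻¹ * a * h) A) =
    conjBy h A ⊔ conjBy h (conjBy (h⁻¹ * a * h) A) from Subgroup.map_sup _ _ _, conjBy_conjBy,
    show h * (h⁻¹ * a * h) = a * h by group, ← conjBy_conjBy] at this
  exact this

end CfsgLib.CFun
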