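import Mathlib

/-!
# Limits of subgroups of a ring under a one-parameter conjugation

For a ring `R` and `N` with `N * N = 0`, conjugation by `1 + t N` is an automorphism of `R[t]`. The
leading coefficients of the images of the polynomials with coefficients in an additive subgroup `S`
form the limit of `S` for `t → ∞`.
-/

set_option autoImplicit false

open Polynomial

universe u

namespace CfsgLib.CFun.Lead

variable {R : Type u} [Ring R]

/-- Conjugation by `1 + t N`. -/
noncomputable def twist (N : R) (f : R[X]) : R[X] := (1 + C N * X) * f * (1 - C N * X)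

theorem twist_inv {N : R} (hN : N * N = 0) (f : R[X]) : twist (-N) (twist N f) = f := by
  have hsq : C N * X * (C N * X) = 0 := by
    rw [mul_assoc (C N) X, ← mul_assoc X (C N), X_mul, mul_assoc (C N) X X, ← mul_assoc, ← map_mul, hN, map_zero,
      zero_mul]
  have h1 : (1 - C N * X) * (1 + C N * X) = 1 := by
    rw [sub_mul, one_mul, mul_add, mul_one, hsq, add_zero, add_sub_cancel_right]
  simp only [twist, map_neg, neg_mul, ← sub_eq_add_neg, sub_neg_eq_add]
  rw [← mul_assoc, ← mul_assoc, h1, one_mul, mul_assoc, h1, mul_one]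

theorem twist_inj {N : R} (hN : N * N = 0) {f g : R[X]} (h : twist N f = twist N g) : f = g := by
  rw [← twist_inv hN f, h, twist_inv hN g]

theorem twist_add (N : R) (f g : R[X]) : twist N (f + g) = twist N f + twist N g := by
  simp only [twist, mul_add, add_mul]

theorem twist_zero (N : R) : twist N (0 : R[X]) = 0 := by simp [twist]

theorem twist_neg (N : R) (f : R[X]) : twist N (-f) = -twist N f := by simp [twist]

theorem twist_mul {N : R} (hN : N * N = 0) (f g : R[X]) : twist N (f * g) = twist N f * twist N g := by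
  have hsq : C N * X * (C N * X) = 0 := by
    rw [mul_assoc (C N) X, ← mul_assoc X (C N), X_mul, mul_assoc (C N) X X, ← mul_assoc, ← map_mul, hN, map_zero,
      zero_mul]
  have h1 : (1 - C N * X) * (1 + C N * X) = 1 := by
    rw [sub_mul, one_mul, mul_add, mul_one, hsq, add_zero, add_sub_cancel_right]
  symm
  calc twist N f * twist N g = (1 + C N * X) * (f * ((1 - C N * X) * (1 + C N * X)) * g) * (1 - C N * X) := by
        simp only [twist, mul_assoc]
    _ = twist N (f * g) := by rw [h1, mul_one]; rfl

theorem twist_X_pow (N : R) (f : R[X]) (e : ℕ) : twist N (f * X ^ e) = twist N f * X ^ e := by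
  simp only [twist, mul_assoc]
  rw [X_pow_mul]

theorem twist_C (N x : R) :
    twist N (C x) = C x + C (N * x - x * N) * X - C (N * x * N) * X ^ 2 := by
  rw [twist, add_mul (1 : R[X]), one_mul, mul_sub, mul_one, add_mul (C x), map_sub, map_mul, map_mul, map_mul,
    map_mul, sub_mul]
  rw [show C N * X * C x = C N * C x * X by rw [mul_assoc, X_mul, ← mul_assoc],
    show C x * (C N * X) = C x * C N * X by rw [mul_assoc],
    show C N * C x * X * (C N * X) = C N * C x * C N * X ^ 2 by
      rw [mul_assoc (C N * C x) X, ← mul_assoc X (C N), X_mul, mul_assoc (C N) X X, ← mul_assoc (C N * C x),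
        pow_two]]
  abel

theorem coeff_twist_C (N x : R) (n : ℕ) :
    (twist N (C x)).coeff n =
      if n = 0 then x else if n = 1 then N * x - x * N else if n = 2 then -(N * x * N) else 0 := by
  rw [twist_C]
  simp only [coeff_sub, coeff_add, coeff_C_mul, coeff_C, coeff_X, coeff_X_pow]
  rcases n with _ | _ | _ | n <;> simp

/-- The polynomials with coefficients in `S`. -/
def InS (S : AddSubgroup R) (f : R[X]) : Prop := ∀ n, f.coeff n ∈ S

theorem InS.twist_mem {N : R} {S T : AddSubgroup R}
    (h : ∀ x ∈ S, x ∈ T ∧ N * x - x * N ∈ T ∧ N * x * N ∈ T) {f : R[X]} (hf : InS S f) :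
    InS T (twist N f) := by
  intro n
  rw [as_sum_range_C_mul_X_pow f]
  have hsum : twist N (∑ i ∈ Finset.range (f.natDegree + 1), C (f.coeff i) * X ^ i) =
      ∑ i ∈ Finset.range (f.natDegree + 1), twist N (C (f.coeff i)) * X ^ i := by
    simp only [← twist_X_pow]
    simp only [twist, Finset.mul_sum, Finset.sum_mul]
  rw [hsum, finset_sum_coeff]
  refine T.sum_mem fun i _ => ?_
  rw [coeff_mul_X_pow']
  split
  · rw [coeff_twist_C]
    obtain ⟨h0, h1, h2⟩ := h _ (hf i)
    split
    · exact h0
    · split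
      · exact h1
      · split
        · exact T.neg_mem h2
        · exact T.zero_mem
  · exact T.zero_mem

/-- The limit of `S`. -/
noncomputable def lead (N : R) (S : AddSubgroup R) : AddSubgroup R where
  carrier := {z | ∃ d : ℕ, ∃ f : R[X], InS S f ∧ (twist N f).natDegree ≤ d ∧ (twist N f).coeff d = z}
  zero_mem' := ⟨0, 0, fun n => by rw [coeff_zero]; exact S.zero_mem, by rw [twist_zero, natDegree_zero],
    by rw [twist_zero, coeff_zero]⟩
  neg_mem' := by
    rintro _ ⟨d, f, hf, hd, rfl⟩
    exact ⟨d, -f, fun n => by rw [coeff_neg]; exact S.neg_mem (hf n), by rw [twist_neg, natDegree_neg]; exact hd,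
      by rw [twist_neg, coeff_neg]⟩
  add_mem' := by
    rintro _ _ ⟨d, f, hf, hd, rfl⟩ ⟨e, g, hg, he, rfl⟩
    refine ⟨d + e, f * X ^ e + g * X ^ d, fun n => ?_, ?_, ?_⟩
    · rw [coeff_add, coeff_mul_X_pow', coeff_mul_X_pow']
      refine S.add_mem ?_ ?_ <;> split <;> first | exact hf _ | exact hg _ | exact S.zero_mem
    · rw [twist_add, twist_X_pow, twist_X_pow]
      refine (natDegree_add_le _ _).trans (max_le ?_ ?_)
      · exact natDegree_mul_le.trans (add_le_add hd (natDegree_X_pow_le e))
      · exact natDegree_mul_le.trans ((add_le_add he (natDegree_X_pow_le d)).trans (add_comm e d).le)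
    · rw [twist_add, coeff_add, twist_X_pow, twist_X_pow, coeff_mul_X_pow]
      congr 1
      rw [add_comm d e, coeff_mul_X_pow]

theorem lead_mono (N : R) {S T : AddSubgroup R} (h : S ≤ T) : lead N S ≤ lead N T := by
  rintro z ⟨d, f, hf, hd, hz⟩
  exact ⟨d, f, fun n => h (hf n), hd, hz⟩

theorem lead_le {N : R} {S T : AddSubgroup R}
    (h : ∀ x ∈ S, x ∈ T ∧ N * x - x * N ∈ T ∧ N * x * N ∈ T) : lead N S ≤ T := by
  rintro z ⟨d, f, hf, -, rfl⟩
  exact InS.twist_mem h hf d

theorem mul_lead_eq_zero {N : R} (hN : N * N = 0) {S T : AddSubgroup R} (h : ∀ x ∈ S, ∀ y ∈ T, x * y = 0) :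
    ∀ x ∈ lead N S, ∀ y ∈ lead N T, x * y = 0 := by
  rintro _ ⟨d, f, hf, hd, rfl⟩ _ ⟨e, g, hg, he, rfl⟩
  have hfg : f * g = 0 := by
    ext n
    rw [coeff_mul, coeff_zero]
    exact Finset.sum_eq_zero fun ij _ => h _ (hf _) _ (hg _)
  rw [← coeff_mul_add_eq_of_natDegree_le hd he, ← twist_mul hN, hfg, twist_zero, coeff_zero]

/-- A stable subgroup lies in its limit. -/
theorem le_lead_of_stable {N : R} (hN : N * N = 0) {B S : AddSubgroup R} (hBS : B ≤ S)
    (h : ∀ x ∈ B, N * x - x * N ∈ B ∧ N * x * N ∈ B) (x : R) (hx : x ∈ B) :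
    ∃ f : R[X], InS S f ∧ twist N f = C x := by
  refine ⟨twist (-N) (C x), fun n => hBS (InS.twist_mem (S := B) ?_ (fun m => ?_) n), ?_⟩
  · intro y hy
    refine ⟨hy, ?_, ?_⟩
    · have e : -N * y - y * -N = -(N * y - y * N) := by noncomm_ring
      rw [e]; exact B.neg_mem (h y hy).1
    · have e : -N * y * -N = N * y * N := by noncomm_ring
      rw [e]; exact (h y hy).2
  · rw [coeff_C]
    split
    · exact hx
    · exact B.zero_mem
  · have hN' : -N * -N = 0 := by rw [neg_mul_neg, hN]
    simpa using twist_inv hN' (C x)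

theorem eq_lead_arith {s l : ℕ} (hl : 0 < l) (h : ∀ n : ℕ, s ^ n ≤ l ^ (n + 2)) : s ≤ l := by
  by_contra hlt
  have key : ∀ n : ℕ, l ^ n * (l + n) ≤ (l + 1) ^ n * l := by
    intro n
    induction n with
    | zero => simp
    | succ n ih =>
      calc l ^ (n + 1) * (l + (n + 1)) ≤ (l + 1) * (l ^ n * (l + n)) := by
            rw [pow_succ]; nlinarith [pow_pos hl n]
        _ ≤ (l + 1) * ((l + 1) ^ n * l) := Nat.mul_le_mul_left _ ih
        _ = _ := by ring
  set n := l ^ 3 with hn
  have h1 : (l + 1) ^ n ≤ l ^ (n + 2) := (Nat.pow_le_pow_left (by omega) n).trans (h n)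
  have h2 : l ^ n * (l + n) ≤ l ^ n * n := by
    calc l ^ n * (l + n) ≤ (l + 1) ^ n * l := key n
      _ ≤ l ^ (n + 2) * l := Nat.mul_le_mul_right l h1
      _ = l ^ n * n := by rw [hn]; ring
  have := Nat.le_of_mul_le_mul_left h2 (pow_pos hl n)
  omega

/-- The limit is at least as large. -/
theorem card_le_card_lead [Finite R] {N : R} (hN : N * N = 0) (S : AddSubgroup R) :
    Nat.card S ≤ Nat.card (lead N S) := by
  classical
  let Q : ℕ → Set R[X] := fun n => {g | (∃ f, InS S f ∧ twist N f = g) ∧ ∀ m, n ≤ m → g.coeff m = 0}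
  have upper : ∀ n, Finite (Q n) ∧ Nat.card (Q n) ≤ Nat.card (lead N S) ^ n := by
    intro n
    induction n with
    | zero =>
      have hsub : ∀ g : Q 0, (g : R[X]) = 0 := fun g => by ext m; rw [coeff_zero]; exact g.2.2 m (Nat.zero_le m)
      haveI : Subsingleton (Q 0) := ⟨fun a b => Subtype.ext ((hsub a).trans (hsub b).symm)⟩
      exact ⟨Finite.of_subsingleton, by rw [pow_zero]; exact Finite.card_le_one_iff_subsingleton.2 inferInstance⟩
    | succ n ih =>
      haveI := ih.1
      have hdeg : ∀ g : Q (n + 1), (g : R[X]).natDegree ≤ n := fun g =>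
        natDegree_le_iff_coeff_eq_zero.2 fun m hm => g.2.2 m hm
      let top : Q (n + 1) → lead N S := fun g => ⟨(g : R[X]).coeff n, by
        obtain ⟨f, hf, hfg⟩ := g.2.1
        exact ⟨n, f, hf, by rw [hfg]; exact hdeg g, by rw [hfg]⟩⟩
      haveI : Nonempty (Q (n + 1)) :=
        ⟨⟨0, ⟨0, fun m => by rw [coeff_zero]; exact S.zero_mem, twist_zero N⟩, fun m _ => coeff_zero m⟩⟩
      let low : Q (n + 1) → Q n := fun g => ⟨(g : R[X]) - (Function.invFun top (top g) : Q (n + 1)), by
        obtain ⟨f, hf, hfg⟩ := g.2.1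
        obtain ⟨f', hf', hfg'⟩ := (Function.invFun top (top g)).2.1
        exact ⟨f - f', fun m => by rw [coeff_sub]; exact S.sub_mem (hf m) (hf' m),
          by rw [sub_eq_add_neg, twist_add, twist_neg, hfg, hfg', ← sub_eq_add_neg]⟩,
        fun m hm => by
          rw [coeff_sub]
          rcases hm.eq_or_lt with rfl | hlt
          · exact sub_eq_zero.2 (congrArg Subtype.val (Function.invFun_eq (f := top) ⟨g, rfl⟩)).symm
          · rw [g.2.2 m hlt, (Function.invFun top (top g)).2.2 m hlt, sub_zero]⟩
      have hinj : Function.Injective fun g => (top g, low g) := by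
        intro a b h
        obtain ⟨h1, h2⟩ := Prod.ext_iff.1 h
        have h3 : (a : R[X]) - (Function.invFun top (top a) : Q (n + 1)) =
            (b : R[X]) - (Function.invFun top (top b) : Q (n + 1)) := congrArg Subtype.val h2
        have h4 : top a = top b := h1
        rw [h4] at h3
        exact Subtype.ext (sub_left_inj.1 h3)
      refine ⟨Finite.of_injective _ hinj, (Nat.card_le_card_of_injective _ hinj).trans ?_⟩
      rw [Nat.card_prod, pow_succ']
      exact Nat.mul_le_mul_left _ ih.2
  refine eq_lead_arith Nat.card_pos fun n => ?_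
  haveI := (upper (n + 2)).1
  let build : (Fin n → S) → R[X] := fun s => ∑ i, C (s i : R) * X ^ (i : ℕ)
  have hco : ∀ s m, (build s).coeff m = if h : m < n then (s ⟨m, h⟩ : R) else 0 := by
    intro s m
    simp only [build, finset_sum_coeff, coeff_C_mul_X_pow]
    split
    · rename_i h
      rw [Finset.sum_eq_single ⟨m, h⟩]
      · simp
      · intro i _ hi
        rw [if_neg]
        exact fun e => hi (Fin.ext e.symm)
      · simp
    · rename_i h
      refine Finset.sum_eq_zero fun i _ => if_neg ?_
      have := i.2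
      omega
  have hS : ∀ s, InS S (build s) := fun s m => by
    rw [hco]; split
    · exact SetLike.coe_mem _
    · exact S.zero_mem
  have hz : ∀ s m, n + 2 ≤ m → (twist N (build s)).coeff m = 0 := by
    intro s m hm
    have e : twist N (build s) = ∑ i : Fin n, twist N (C (s i : R)) * X ^ (i : ℕ) := by
      simp only [← twist_X_pow]
      simp only [build, twist, Finset.mul_sum, Finset.sum_mul]
    rw [e, finset_sum_coeff]
    refine Finset.sum_eq_zero fun i _ => ?_
    have := i.2
    rw [coeff_mul_X_pow', if_pos (by omega), coeff_twist_C, if_neg (by omega), if_neg (by omega), if_neg (by omega)]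
  have hinj : Function.Injective
      (fun s => (⟨twist N (build s), ⟨_, hS s, rfl⟩, hz s⟩ : Q (n + 2))) := by
    intro a b h
    have h1 := twist_inj hN (congrArg Subtype.val h)
    funext i
    have h2 := congrArg (fun q : R[X] => q.coeff (i : ℕ)) h1
    simp only [hco, i.2, dif_pos, Fin.eta] at h2
    exact Subtype.ext h2
  have h := Nat.card_le_card_of_injective _ hinj
  rw [Nat.card_fun, Nat.card_fin] at h
  exact h.trans (upper (n + 2)).2

/-- If `B` is stable, `x ∈ S` and its two images lie outside of `B`, the limit gets larger. -/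
theorem exists_lead_not_mem {N : R} (hN : N * N = 0) {B S : AddSubgroup R} (hBS : B ≤ S)
    (hB : ∀ y ∈ B, N * y - y * N ∈ B ∧ N * y * N ∈ B) {x : R} (hx : x ∈ S)
    (h : N * x - x * N ∉ B ∨ N * x * N ∉ B) :
    ∃ z ∈ lead N S, z ∉ B ∧ (z = N * x - x * N ∨ z = -(N * x * N)) := by
  have hxS : InS S (C x) := fun n => by
    rw [coeff_C]; split
    · exact hx
    · exact S.zero_mem
  by_cases h2 : N * x * N ∈ B
  · have h1 := h.resolve_right (fun h' => h' h2)
    obtain ⟨g, hg, hgeq⟩ := le_lead_of_stable hN hBS hB _ h2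
    refine ⟨_, ⟨1, C x + g * X ^ 2, fun n => ?_, ?_, ?_⟩, h1, Or.inl rfl⟩
    · rw [coeff_add, coeff_mul_X_pow']
      refine S.add_mem (hxS n) ?_
      split
      · exact hg _
      · exact S.zero_mem
    · rw [twist_add, twist_X_pow, hgeq, natDegree_le_iff_coeff_eq_zero]
      intro m hm
      rw [coeff_add, coeff_twist_C, coeff_C_mul_X_pow, if_neg (by omega), if_neg (by omega)]
      split <;> simp
    · rw [twist_add, twist_X_pow, hgeq, coeff_add, coeff_twist_C, coeff_C_mul_X_pow]
      simp
  · refine ⟨_, ⟨2, C x, hxS, ?_, ?_⟩, fun h' => h2 (B.neg_mem_iff.1 h'), Or.inr rfl⟩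
    · rw [natDegree_le_iff_coeff_eq_zero]
      intro m hm
      rw [coeff_twist_C, if_neg (by omega), if_neg (by omega), if_neg (by omega)]
    · rw [coeff_twist_C]; simp

end CfsgLib.CFun.Lead
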