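import Cfsg.Agent.Lib.CFun.OffenderTwoSub
import Mathlib

/-!
# An offender normal in its normal closure

The quadratic offender lying deepest in the filtration is normalized by all of its conjugates.
-/

set_option autoImplicit false

open Subgroup Polynomial

universe u v

namespace CfsgLib.CFun.TwoSub

theorem exists_conjugate_pair {G : Type v} [Group G] [Finite G] [Group.IsNilpotent G] (A : Subgroup G)
    (h : ¬ ∀ g : G, ∀ a ∈ A, g * a * g⁻¹ ∈ normalizer (A : Set G)) :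
    ∃ g : G, ∃ a ∈ A, g * a * g⁻¹ ∉ normalizer (A : Set G) ∧ ∀ i j : ℕ, ∀ x ∈ A,
      (g * a * g⁻¹) ^ i * x * ((g * a * g⁻¹) ^ i)⁻¹ ∈
        normalizer ((A.map (MulAut.conj ((g * a * g⁻¹) ^ j)).toMonoidHom : Subgroup G) : Set G) := by
  set Δ : Set G := {x | ∃ g : G, (∀ a ∈ A, g * a * g⁻¹ ∈ normalizer (A : Set G)) ∧
    ∃ a ∈ A, x = g * a * g⁻¹} with hΔ
  set D := closure Δ with hD
  have hDN : D ≤ normalizer (A : Set G) := by
    rw [hD, closure_le]
    rintro _ ⟨g, hg, a, ha, rfl⟩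
    exact hg a ha
  have hAD : ∀ a ∈ A, a ∈ D := fun a ha =>
    subset_closure ⟨1, fun b hb => by rw [one_mul, inv_one, mul_one]; exact le_normalizer hb, a, ha, by group⟩
  set N := normalizer (D : Set G) with hN
  have hNtop : N < ⊤ := lt_of_le_of_ne le_top fun e => h fun g a ha =>
    hDN ((mem_normalizer_iff.1 (show g ∈ N from e ▸ mem_top g) a).1 (hAD a ha))
  obtain ⟨k, hk, hkN⟩ := SetLike.exists_of_lt (normalizerCondition_of_isNilpotent N hNtop)
  obtain ⟨s, hs, hsD⟩ : ∃ s ∈ Δ, k * s * k⁻¹ ∉ D := by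
    by_contra hc
    push Not at hc
    refine hkN ?_
    have hle : D ≤ D.comap (MulAut.conj k).toMonoidHom := by
      rw [hD, closure_le]; exact fun s hs => hc s hs
    have heq : D.map (MulAut.conj k).toMonoidHom = D := Subgroup.eq_of_le_of_card_ge (map_le_iff_le_comap.2 hle)
      (le_of_eq (Subgroup.card_map_of_injective (f := (MulAut.conj k).toMonoidHom) (MulAut.conj k).injective).symm)
    refine mem_normalizer_iff.2 fun x => ⟨fun hx => hle hx, fun hx => ?_⟩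
    rw [← heq] at hx
    obtain ⟨y, hy, e⟩ := hx
    rwa [← (MulAut.conj k).injective (show MulAut.conj k y = MulAut.conj k x from e)]
  obtain ⟨g, hg, a, ha, rfl⟩ := hs
  have hconj : ∀ y : G, k * (g * y * g⁻¹) * k⁻¹ = k * g * y * (k * g)⁻¹ := fun y => by group
  rw [hconj] at hsD
  have hbN : ∀ y ∈ A, k * g * y * (k * g)⁻¹ ∈ N := fun y hy => by
    rw [← hconj]
    exact (mem_normalizer_iff.1 hk _).1 (le_normalizer (subset_closure ⟨g, hg, y, hy, rfl⟩))
  obtain ⟨y, hy, hyN⟩ : ∃ y ∈ A, k * g * y * (k * g)⁻¹ ∉ normalizer (A : Set G) := by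
    by_contra hc
    push Not at hc
    exact hsD (subset_closure ⟨k * g, hc, a, ha, rfl⟩)
  refine ⟨k * g, y, hy, hyN, fun i j x hx => ?_⟩
  set b := k * g * y * (k * g)⁻¹ with hb
  have hbp : ∀ n : ℕ, b ^ n ∈ N := fun n => N.pow_mem (hbN y hy) n
  set w := (b ^ j)⁻¹ * (b ^ i * x * (b ^ i)⁻¹) * b ^ j with hw
  have hwA : w ∈ normalizer (A : Set G) := by
    refine hDN ?_
    have h1 := (mem_normalizer_iff.1 (N.mul_mem (N.inv_mem (hbp j)) (hbp i)) x).1 (hAD x hx)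
    rwa [mul_inv_rev, inv_inv, show (b ^ j)⁻¹ * b ^ i * x * ((b ^ i)⁻¹ * b ^ j) = w by rw [hw]; group] at h1
  rw [show b ^ i * x * (b ^ i)⁻¹ = b ^ j * w * (b ^ j)⁻¹ by rw [hw]; group]
  rw [mem_normalizer_iff] at hwA ⊢
  intro z
  constructor
  · rintro ⟨a', ha', rfl⟩
    refine ⟨w * a' * w⁻¹, (hwA a').1 ha', ?_⟩
    show b ^ j * (w * a' * w⁻¹) * (b ^ j)⁻¹ = b ^ j * w * (b ^ j)⁻¹ * (b ^ j * a' * (b ^ j)⁻¹) * (b ^ j * w * (b ^ j)⁻¹)⁻¹
    group
  · rintro ⟨a', ha', e⟩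
    refine ⟨w⁻¹ * a' * w, (hwA _).2 (by rwa [show w * (w⁻¹ * a' * w) * w⁻¹ = a' by group]), ?_⟩
    have e' : b ^ j * a' * (b ^ j)⁻¹ = b ^ j * w * (b ^ j)⁻¹ * z * (b ^ j * w * (b ^ j)⁻¹)⁻¹ := e
    calc (MulAut.conj (b ^ j)).toMonoidHom (w⁻¹ * a' * w)
        = (b ^ j * w * (b ^ j)⁻¹)⁻¹ * (b ^ j * a' * (b ^ j)⁻¹) * (b ^ j * w * (b ^ j)⁻¹) := by
          show b ^ j * (w⁻¹ * a' * w) * (b ^ j)⁻¹ = _
          group
      _ = z := by rw [e']; group

variable {p : ℕ} [Fact p.Prime] {M : Type u} [AddCommGroup M] [Module (ZMod p) M] [Finite M]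
variable {G : Type v} [Group G] [Finite G] (ρ : G →* Module.End (ZMod p) M)

theorem card_logq (hρ : Function.Injective ρ) {A : Subgroup G} (hA : Quad ρ A) :
    Nat.card (logq ρ hA) = Nat.card A :=
  (Nat.card_congr (Equiv.ofBijective (fun a : A => (⟨ρ a - 1, a, a.2, rfl⟩ : logq ρ hA))
    ⟨fun a b h => Subtype.ext (hρ (sub_left_inj.1 (congrArg Subtype.val h))), by
      rintro ⟨z, a, ha, rfl⟩; exact ⟨⟨a, ha⟩, rfl⟩⟩)).symm

/-- The right annihilator of a set of endomorphisms. -/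
def rann (S : AddSubgroup (Module.End (ZMod p) M)) : AddSubgroup (Module.End (ZMod p) M) where
  carrier := {y | ∀ x ∈ S, x * y = 0}
  zero_mem' := fun x _ => mul_zero x
  add_mem' := fun {a b} ha hb x hx => by rw [mul_add, ha x hx, hb x hx, add_zero]
  neg_mem' := fun {a} ha x hx => by rw [mul_neg, ha x hx, neg_zero]

/-- The common kernel. -/
def kerl (S : AddSubgroup (Module.End (ZMod p) M)) : Submodule (ZMod p) M where
  carrier := {m | ∀ x ∈ S, x m = 0}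
  zero_mem' := fun x _ => map_zero x
  add_mem' := fun {a b} ha hb x hx => by rw [map_add, ha x hx, hb x hx, add_zero]
  smul_mem' := fun c a ha x hx => by rw [map_smul, ha x hx, smul_zero]

theorem card_rann (S : AddSubgroup (Module.End (ZMod p) M)) :
    Nat.card (rann S) = Nat.card (kerl S) ^ Module.finrank (ZMod p) M := by
  have e : rann S ≃ (M →ₗ[ZMod p] kerl S) :=
    { toFun := fun y => LinearMap.codRestrict (kerl S) y.1 fun m x hx => LinearMap.congr_fun (y.2 x hx) m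
      invFun := fun f => ⟨(kerl S).subtype.comp f, fun x hx => LinearMap.ext fun m => (f m).2 x hx⟩
      left_inv := fun y => rfl
      right_inv := fun f => rfl }
  rw [Nat.card_congr e, Module.natCard_eq_pow_finrank (K := ZMod p) (V := M →ₗ[ZMod p] kerl S),
    Module.natCard_eq_pow_finrank (K := ZMod p) (V := kerl S), Module.finrank_linearMap, ← pow_mul]
  congr 1
  ring

theorem kerl_eq_fixd {A : Subgroup G} (hA : Quad ρ A) : kerl (logq ρ hA) = fixd ρ A := by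
  ext m
  constructor
  · intro h a ha
    exact sub_eq_zero.1 (h _ ⟨a, ha, rfl⟩)
  · rintro h _ ⟨a, ha, rfl⟩
    exact sub_eq_zero.2 (h a ha)

/-- A quadratic offender normalized by all its conjugates. -/
theorem exists_two_subnormal (hp : p ≠ 2) (hρ : Function.Injective ρ) (hG : IsPGroup p G) {E : Subgroup G}
    (h0 : E ≠ ⊥) (hab : ∀ a ∈ E, ∀ b ∈ E, a * b = b * a) (hoff : Off ρ E) :
    ∃ A : Subgroup G, A ≠ ⊥ ∧ Quad ρ A ∧ Off ρ A ∧ ∀ g : G, ∀ a ∈ A, g * a * g⁻¹ ∈ normalizer (A : Set G) := by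
  classical
  haveI := hG.isNilpotent
  haveI : Finite (Module.End (ZMod p) M) := Finite.of_injective _ DFunLike.coe_injective
  obtain ⟨E', hE'0, hE'q, hE'o⟩ := exists_quad ρ hρ hG h0 hab hoff
  obtain ⟨n, hn⟩ := exists_ser_bot ρ hG
  haveI : Nonempty {A : Subgroup G // A ≠ ⊥ ∧ Quad ρ A ∧ Off ρ A} := ⟨⟨E', hE'0, hE'q, hE'o⟩⟩
  obtain ⟨⟨A, hA0, hAq, hAo⟩, hmax⟩ := Finite.exists_max
    fun A : {A : Subgroup G // A ≠ ⊥ ∧ Quad ρ A ∧ Off ρ A} =>
      ∑ k ∈ Finset.range (n + 1), Nat.card ↥(logq ρ A.2.2.1 ⊓ deg ρ k)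
  refine ⟨A, hA0, hAq, hAo, ?_⟩
  by_contra hnot
  obtain ⟨g, y, hy, hbad, hnorm⟩ := exists_conjugate_pair A hnot
  set b := g * y * g⁻¹ with hb
  set N := ρ b - 1 with hNdef
  have conjQ : ∀ c : G, Quad ρ (A.map (MulAut.conj c).toMonoidHom) := by
    intro c
    rintro _ ⟨x, hx, rfl⟩ _ ⟨x', hx', rfl⟩
    show (ρ (c * x * c⁻¹) - 1) * (ρ (c * x' * c⁻¹) - 1) = 0
    have h1 : ∀ x, ρ (c * x * c⁻¹) - 1 = ρ c * (ρ x - 1) * ρ c⁻¹ := fun x => by
      rw [map_mul, map_mul, mul_sub, sub_mul, mul_one, ← map_mul ρ c c⁻¹, mul_inv_cancel, map_one]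
    rw [h1, h1]
    calc ρ c * (ρ x - 1) * ρ c⁻¹ * (ρ c * (ρ x' - 1) * ρ c⁻¹)
        = ρ c * (ρ x - 1) * (ρ c⁻¹ * ρ c) * ((ρ x' - 1) * ρ c⁻¹) := by simp only [mul_assoc]
      _ = ρ c * ((ρ x - 1) * (ρ x' - 1)) * ρ c⁻¹ := by
        rw [← map_mul ρ c⁻¹ c, inv_mul_cancel, map_one, mul_one]; simp only [mul_assoc]
      _ = 0 := by rw [hAq x hx x' hx', mul_zero, zero_mul]
  have hbmem : b ∈ A.map (MulAut.conj g).toMonoidHom := mem_map_of_mem _ hy
  have hN : N * N = 0 := conjQ g b hbmem b hbmem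
  have hpow : ∀ i : ℕ, ρ (b ^ i) = 1 + i • N := rho_pow ρ (conjQ g) hbmem
  have hpowi : ∀ i : ℕ, ρ (b ^ i)⁻¹ = 1 - i • N := fun i => by
    rw [rho_inv ρ (conjQ g) (Subgroup.pow_mem _ hbmem i), hpow i, add_sub_cancel_left]
  -- where stability starts
  let good : ℕ → Prop := fun k => ∀ x ∈ logq ρ hAq ⊓ deg ρ k, N * x - x * N ∈ logq ρ hAq ∧ N * x * N ∈ logq ρ hAq
  have hgn : good n := fun x hx => by
    have hx0 : x = 0 := LinearMap.ext fun m => by
      have h := hx.2 0 m (by rw [ser]; exact AddSubgroup.mem_top m)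
      rw [zero_add, hn, AddSubgroup.mem_bot] at h
      exact h
    subst hx0
    constructor <;> simp [(logq ρ hAq).zero_mem]
  have hex : ∃ k, good k := ⟨n, hgn⟩
  have hdeg1 : ∀ x ∈ logq ρ hAq, x ∈ deg ρ 0 := by
    rintro _ ⟨a, -, rfl⟩ i m hm
    exact ser_succ_le ρ i (ser_mem ρ a hm)
  have hg0 : ¬ good 0 := by
    intro h
    have hb1 := hpow 1
    have hb1i := hpowi 1
    rw [pow_one, one_nsmul] at hb1 hb1i
    have hsub : A.map (MulAut.conj b).toMonoidHom ≤ A := by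
      rintro _ ⟨a, ha, rfl⟩
      obtain ⟨h1, h2⟩ := h _ ⟨⟨a, ha, rfl⟩, hdeg1 _ ⟨a, ha, rfl⟩⟩
      obtain ⟨a', ha', e⟩ := (logq ρ hAq).sub_mem ((logq ρ hAq).add_mem ⟨a, ha, rfl⟩ h1) h2
      show b * a * b⁻¹ ∈ A
      convert ha' using 1
      refine hρ (sub_left_inj.1 (?_ : _ - (1 : Module.End (ZMod p) M) = _ - 1))
      rw [← e, map_mul, map_mul, hb1, hb1i]
      simp only [add_mul, mul_add, sub_mul, mul_sub, one_mul, mul_one, hN]
      abel
    have heq : A.map (MulAut.conj b).toMonoidHom = A := Subgroup.eq_of_le_of_card_ge hsub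
      (le_of_eq (Subgroup.card_map_of_injective (f := (MulAut.conj b).toMonoidHom) (MulAut.conj b).injective).symm)
    refine hbad (mem_normalizer_iff.2 fun x => ⟨fun hx => hsub (mem_map_of_mem _ hx), fun hx => ?_⟩)
    rw [← heq] at hx
    obtain ⟨z, hz, e⟩ := hx
    rwa [← (MulAut.conj b).injective (show MulAut.conj b z = MulAut.conj b x from e)]
  obtain ⟨k, hk⟩ : ∃ k, Nat.find hex = k + 1 :=
    Nat.exists_eq_succ_of_ne_zero fun e => hg0 (e ▸ Nat.find_spec hex)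
  have hkn : k + 1 ≤ n := hk ▸ Nat.find_min' hex hgn
  have hgood : good (k + 1) := hk ▸ Nat.find_spec hex
  obtain ⟨x, hx, hxbad⟩ : ∃ x ∈ logq ρ hAq ⊓ deg ρ k,
      N * x - x * N ∉ logq ρ hAq ∨ N * x * N ∉ logq ρ hAq := by
    have h := Nat.find_min hex (show k < Nat.find hex by omega)
    by_contra hc
    push Not at hc
    exact h hc
  set Bs := logq ρ hAq ⊓ deg ρ (k + 1) with hBs
  have hBstable : ∀ z ∈ Bs, N * z - z * N ∈ Bs ∧ N * z * N ∈ Bs := fun z hz =>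
    ⟨⟨(hgood z hz).1, deg_succ_le ρ _ (deg_twist ρ b hz.2).1⟩,
      ⟨(hgood z hz).2, deg_succ_le ρ _ (deg_twist ρ b hz.2).2⟩⟩
  obtain ⟨z, hzlead, hzB, hzeq⟩ := Lead.exists_lead_not_mem hN
    (show Bs ≤ logq ρ hAq ⊓ deg ρ k from fun z hz => ⟨hz.1, deg_succ_le ρ k hz.2⟩) hBstable hx
    (hxbad.imp (fun h h' => h h'.1) (fun h h' => h h'.1))
  have hzdeg : z ∈ deg ρ (k + 1) := by
    rcases hzeq with rfl | rfl
    · exact (deg_twist ρ b hx.2).1
    · exact (deg ρ (k + 1)).neg_mem (deg_twist ρ b hx.2).2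
  -- the limit
  set Z := Lead.lead N (logq ρ hAq) with hZ
  set A₀ := A.map (MulAut.conj (b ^ 0)).toMonoidHom with hA₀
  set A₁ := A.map (MulAut.conj (b ^ 1)).toMonoidHom with hA₁
  set A₂ := A.map (MulAut.conj (b ^ 2)).toMonoidHom with hA₂
  have hnor : ∀ i j : ℕ, A.map (MulAut.conj (b ^ i)).toMonoidHom ≤
      normalizer ((A.map (MulAut.conj (b ^ j)).toMonoidHom : Subgroup G) : Set G) := by
    rintro i j _ ⟨x, hx, rfl⟩
    exact hnorm i j x hx
  have hspan : Z ≤ logq ρ (conjQ (b ^ 0)) ⊔ logq ρ (conjQ (b ^ 1)) ⊔ logq ρ (conjQ (b ^ 2)) := by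
    refine Lead.lead_le fun x hx => ?_
    set T := logq ρ (conjQ (b ^ 0)) ⊔ logq ρ (conjQ (b ^ 1)) ⊔ logq ρ (conjQ (b ^ 2)) with hT
    have hi : ∀ i : ℕ, (1 + i • N) * x * (1 - i • N) ∈ logq ρ (conjQ (b ^ i)) := fun i => by
      rw [← hpow i, ← hpowi i]
      exact logq_conj ρ hAq (conjQ (b ^ i)) (fun a ha => mem_map_of_mem _ ha) hx
    have h0 : x ∈ T := by
      have := hi 0
      simp only [zero_nsmul, add_zero, sub_zero, one_mul, mul_one] at this
      exact AddSubgroup.mem_sup_left (AddSubgroup.mem_sup_left this)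
    have h1 : (1 + N) * x * (1 - N) ∈ T := by
      have := hi 1
      rw [one_nsmul] at this
      exact AddSubgroup.mem_sup_left (AddSubgroup.mem_sup_right this)
    have h2 : (1 + (N + N)) * x * (1 - (N + N)) ∈ T := by
      have := hi 2
      rw [two_nsmul] at this
      exact AddSubgroup.mem_sup_right this
    have hzz : N * x * N ∈ T := by
      obtain ⟨m, hm, -⟩ := exists_half hp (N * x * N)
      rw [← hm, ← nsmul_add]
      refine T.nsmul_mem ?_ m
      have h3 := T.sub_mem (T.sub_mem (T.add_mem h1 h1) h2) h0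
      have e : (1 + N) * x * (1 - N) + (1 + N) * x * (1 - N) - (1 + (N + N)) * x * (1 - (N + N)) - x =
          N * x * N + N * x * N := by noncomm_ring
      rwa [e] at h3
    refine ⟨h0, ?_, hzz⟩
    have h4 := T.add_mem (T.sub_mem h1 h0) hzz
    have e : (1 + N) * x * (1 - N) - x + N * x * N = N * x - x * N := by noncomm_ring
    rwa [e] at h4
  have hZZ : ∀ u ∈ Z, ∀ w ∈ Z, u * w = 0 :=
    Lead.mul_lead_eq_zero hN fun u hu w hw => logq_mul ρ hAq hu hw
  have hexp : ∀ u ∈ Z, ∃ c : G, ρ c = 1 + u := fun u hu =>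
    exists_exp ρ hp (conjQ (b ^ 0)) (conjQ (b ^ 1)) (conjQ (b ^ 2)) (hnor 0 1) (hnor 1 0) (hnor 0 2) (hnor 2 0)
      (hnor 1 2) (hnor 2 1) (hspan hu) (hZZ u hu u hu)
  let A' : Subgroup G :=
    { carrier := {c | ρ c - 1 ∈ Z}
      one_mem' := by
        show ρ 1 - 1 ∈ Z
        rw [map_one, sub_self]; exact Z.zero_mem
      mul_mem' := fun {c d} hc hd => by
        show ρ (c * d) - 1 ∈ Z
        rw [map_mul, show ρ c * ρ d - 1 = (ρ c - 1) * (ρ d - 1) + ((ρ c - 1) + (ρ d - 1)) by noncomm_ring,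
          hZZ _ hc _ hd, zero_add]
        exact Z.add_mem hc hd
      inv_mem' := fun {c} hc => by
        show ρ c⁻¹ - 1 ∈ Z
        have h : ρ c⁻¹ = 1 - (ρ c - 1) := by
          have h1 : ρ c * (1 - (ρ c - 1)) = 1 := by
            rw [show ρ c * (1 - (ρ c - 1)) = 1 - (ρ c - 1) * (ρ c - 1) by noncomm_ring, hZZ _ hc _ hc, sub_zero]
          calc ρ c⁻¹ = ρ c⁻¹ * (ρ c * (1 - (ρ c - 1))) := by rw [h1, mul_one]
            _ = _ := by rw [← mul_assoc, ← map_mul, inv_mul_cancel, map_one, one_mul]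
        rw [h, sub_sub_cancel_left]
        exact Z.neg_mem hc }
  have hA'q : Quad ρ A' := fun c hc d hd => hZZ _ hc _ hd
  have hlog : logq ρ hA'q = Z := by
    ext u
    constructor
    · rintro ⟨c, hc, rfl⟩; exact hc
    · intro hu
      obtain ⟨c, hc⟩ := hexp u hu
      have hu' : u = ρ c - 1 := by rw [hc, add_sub_cancel_left]
      exact ⟨c, show ρ c - 1 ∈ Z by rw [← hu']; exact hu, hu'⟩
  have hcardA : Nat.card A ≤ Nat.card A' := by
    rw [← card_logq ρ hρ hAq, ← card_logq ρ hρ hA'q, hlog]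
    exact Lead.card_le_card_lead hN _
  have hA'0 : A' ≠ ⊥ := by
    intro e
    rw [e, Subgroup.card_bot] at hcardA
    exact hA0 (Subgroup.card_eq_one.1 (le_antisymm hcardA Nat.card_pos))
  have hM0 : Module.finrank (ZMod p) M ≠ 0 := by
    intro e
    haveI : Subsingleton M := Module.finrank_zero_iff.1 e
    exact hA0 ((Subgroup.eq_bot_iff_forall A).2 fun a _ => hρ (LinearMap.ext fun m => Subsingleton.elim _ _))
  have hfix : Nat.card (fixd ρ A) ≤ Nat.card (fixd ρ A') := by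
    rw [← kerl_eq_fixd ρ hAq, ← kerl_eq_fixd ρ hA'q, ← Nat.pow_le_pow_iff_left hM0, ← card_rann, ← card_rann, hlog]
    refine (Lead.card_le_card_lead hN _).trans (AddSubgroup.card_le_of_le ?_)
    exact fun w hw u hu => Lead.mul_lead_eq_zero hN (S := logq ρ hAq) (T := rann (logq ρ hAq))
      (fun u hu w hw => hw u hu) u hu w hw
  have hA'o : Off ρ A' := hAo.trans (Nat.mul_le_mul hcardA hfix)
  have hle := hmax ⟨A', hA'0, hA'q, hA'o⟩
  refine absurd hle (not_le.2 (Finset.sum_lt_sum (fun j _ => ?_) ⟨k + 1, Finset.mem_range.2 (by omega), ?_⟩))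
  · show Nat.card ↥(logq ρ hAq ⊓ deg ρ j) ≤ Nat.card ↥(logq ρ hA'q ⊓ deg ρ j)
    rw [hlog]
    refine (Lead.card_le_card_lead hN _).trans (AddSubgroup.card_le_of_le (le_inf ?_ ?_))
    · exact Lead.lead_mono N inf_le_left
    · exact Lead.lead_le fun w hw =>
        ⟨hw.2, deg_succ_le ρ j (deg_twist ρ b hw.2).1, deg_succ_le ρ j (deg_twist ρ b hw.2).2⟩
  · show Nat.card Bs < Nat.card ↥(logq ρ hA'q ⊓ deg ρ (k + 1))
    rw [hlog]
    have hBsub : Bs ≤ Z ⊓ deg ρ (k + 1) := fun w hw => by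
      obtain ⟨f, hf, hfw⟩ := Lead.le_lead_of_stable hN (show Bs ≤ logq ρ hAq from inf_le_left) hBstable w hw
      exact ⟨⟨0, f, hf, by rw [hfw, natDegree_C], by rw [hfw, coeff_C]; simp⟩, hw.2⟩
    refine Set.ncard_lt_ncard (lt_of_le_of_ne hBsub fun e => hzB ?_) (Set.toFinite _)
    rw [SetLike.coe_injective e]
    exact ⟨Lead.lead_mono N inf_le_left hzlead, hzdeg⟩

end CfsgLib.CFun.TwoSub
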