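import Cfsg.Agent.Lib.CFun.OffenderLead
import Mathlib

/-!
# Quadratic offenders normal in their normal closure

For `p` odd and a `p`-group `G` acting faithfully on an elementary abelian `p`-group `M`, an offender
gives a quadratic one normal in its normal closure: among the quadratic offenders take one lying
deepest in a filtration of the endomorphisms; if some conjugate does not normalize it, a limit under a
one-parameter conjugation lies deeper.
-/

set_option autoImplicit false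

open Subgroup

universe u v

namespace CfsgLib.CFun.TwoSub

variable {p : ℕ} [Fact p.Prime] {M : Type u} [AddCommGroup M] [Module (ZMod p) M] [Finite M]
variable {G : Type v} [Group G] [Finite G] (ρ : G →* Module.End (ZMod p) M)

/-- The fixed points of a subgroup. -/
def fixd (A : Subgroup G) : Submodule (ZMod p) M where
  carrier := {m | ∀ a ∈ A, ρ a m = m}
  add_mem' := fun {x y} hx hy a ha => by rw [map_add, hx a ha, hy a ha]
  zero_mem' := fun a _ => map_zero _
  smul_mem' := fun c x hx a ha => by rw [map_smul, hx a ha]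

/-- `A` offends. -/
def Off (A : Subgroup G) : Prop := Nat.card M ≤ Nat.card A * Nat.card (fixd ρ A)

/-- `A` acts quadratically. -/
def Quad (A : Subgroup G) : Prop := ∀ a ∈ A, ∀ b ∈ A, (ρ a - 1) * (ρ b - 1) = 0

/-- The series of a unipotent action. -/
def ser : ℕ → AddSubgroup M
  | 0 => ⊤
  | i + 1 => AddSubgroup.closure {x | ∃ g : G, ∃ m ∈ ser i, x = ρ g m - m}

theorem ser_mem {i : ℕ} (g : G) {m : M} (hm : m ∈ ser ρ i) : ρ g m - m ∈ ser ρ (i + 1) := by
  rw [ser]
  exact AddSubgroup.subset_closure ⟨g, m, hm, rfl⟩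

theorem ser_succ_le (i : ℕ) : ser ρ (i + 1) ≤ ser ρ i := by
  induction i with
  | zero => exact le_top
  | succ i ih =>
    rw [ser, AddSubgroup.closure_le]
    rintro _ ⟨g, m, hm, rfl⟩
    exact ser_mem ρ g (ih hm)

theorem exists_ser_bot (hG : IsPGroup p G) : ∃ n, ser ρ n = ⊥ := by
  classical
  have step : ∀ i, ser ρ i ≠ ⊥ → ser ρ (i + 1) < ser ρ i := by
    intro i hi
    refine lt_of_le_of_ne (ser_succ_le ρ i) fun heq => ?_
    let W : Submodule (ZMod p) M := AddSubgroup.toZModSubmodule p (ser ρ i)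
    have hWmem : ∀ g : G, ∀ m ∈ W, ρ g m ∈ W := fun g m hm => by
      rw [show ρ g m = (ρ g m - m) + m by abel]
      exact (ser ρ i).add_mem (heq.le (ser_mem ρ g hm)) hm
    let act : G → W →ₗ[ZMod p] W := fun g => (ρ g).restrict (hWmem g)
    have hact : ∀ g h x, act g (act h x) = act (g * h) x := fun g h x => Subtype.ext (by
      show ρ g (ρ h x) = ρ (g * h) x
      rw [map_mul]; rfl)
    have hact1 : ∀ x, act 1 x = x := fun x => Subtype.ext (by show ρ 1 (x : M) = x; rw [map_one]; rfl)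
    letI : MulAction G (W →ₗ[ZMod p] ZMod p) :=
      { smul := fun g f => f.comp (act g⁻¹)
        one_smul := fun f => LinearMap.ext fun x => by show f (act 1⁻¹ x) = f x; rw [inv_one, hact1]
        mul_smul := fun g h f => LinearMap.ext fun x => by
          show f (act (g * h)⁻¹ x) = f (act h⁻¹ (act g⁻¹ x))
          rw [hact, mul_inv_rev] }
    have hWne : 0 < Module.finrank (ZMod p) W := by
      haveI : Nontrivial W := (AddSubgroup.nontrivial_iff_ne_bot _).2 hi
      exact Module.finrank_pos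
    have hdvd : p ∣ Nat.card (W →ₗ[ZMod p] ZMod p) := by
      rw [Module.natCard_eq_pow_finrank (K := ZMod p) (V := W →ₗ[ZMod p] ZMod p), Nat.card_zmod,
        Module.finrank_linearMap, Module.finrank_self, mul_one]
      exact dvd_pow_self p hWne.ne'
    haveI : Finite (W →ₗ[ZMod p] ZMod p) := Finite.of_injective _ DFunLike.coe_injective
    obtain ⟨f, hf, hf0⟩ := hG.exists_fixed_point_of_prime_dvd_card_of_fixed_point _ hdvd
      (a := (0 : W →ₗ[ZMod p] ZMod p)) (fun g => LinearMap.ext fun x => rfl)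
    refine hf0 (LinearMap.ext fun x => ?_).symm
    have hx : (x : M) ∈ AddSubgroup.closure {y | ∃ g : G, ∃ m ∈ ser ρ i, y = ρ g m - m} := by
      have := heq.ge x.2
      rw [ser] at this
      exact this
    let K : AddSubgroup M :=
      { carrier := {y | ∃ h : y ∈ W, f ⟨y, h⟩ = 0}
        zero_mem' := ⟨W.zero_mem, map_zero f⟩
        add_mem' := fun {a b} ⟨ha, ea⟩ ⟨hb, eb⟩ => ⟨W.add_mem ha hb, by
          rw [show (⟨a + b, W.add_mem ha hb⟩ : W) = ⟨a, ha⟩ + ⟨b, hb⟩ from rfl, map_add, ea, eb, add_zero]⟩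
        neg_mem' := fun {a} ⟨ha, ea⟩ => ⟨W.neg_mem ha, by
          rw [show (⟨-a, W.neg_mem ha⟩ : W) = -⟨a, ha⟩ from rfl, map_neg, ea, neg_zero]⟩ }
    have hle : AddSubgroup.closure {y | ∃ g : G, ∃ m ∈ ser ρ i, y = ρ g m - m} ≤ K := by
      rw [AddSubgroup.closure_le]
      rintro _ ⟨g, m, hm, rfl⟩
      refine ⟨W.sub_mem (hWmem g m hm) hm, ?_⟩
      have h1 : f (act g⁻¹⁻¹ ⟨m, hm⟩) = f ⟨m, hm⟩ := LinearMap.congr_fun (hf g⁻¹) ⟨m, hm⟩
      rw [inv_inv] at h1
      rw [show (⟨ρ g m - m, W.sub_mem (hWmem g m hm) hm⟩ : W) = act g ⟨m, hm⟩ - ⟨m, hm⟩ from rfl, map_sub, h1,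
        sub_self]
    obtain ⟨h, e⟩ := hle hx
    exact e
  by_contra hne
  push Not at hne
  have hdec : StrictAnti fun i => Nat.card (ser ρ i) := strictAnti_nat_of_succ_lt fun i =>
    Set.ncard_lt_ncard (step i (hne i)) (Set.toFinite _)
  exact not_strictAnti_of_wellFoundedLT _ hdec

/-- The endomorphisms moving the series `k` steps down. -/
def deg (k : ℕ) : AddSubgroup (Module.End (ZMod p) M) where
  carrier := {f | ∀ i, ∀ m ∈ ser ρ i, f m ∈ ser ρ (i + k)}
  zero_mem' := fun i m _ => (ser ρ (i + k)).zero_mem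
  add_mem' := fun {f g} hf hg i m hm => (ser ρ (i + k)).add_mem (hf i m hm) (hg i m hm)
  neg_mem' := fun {f} hf i m hm => (ser ρ (i + k)).neg_mem (hf i m hm)

theorem deg_succ_le (k : ℕ) : deg ρ (k + 1) ≤ deg ρ k := fun _ hf i m hm => ser_succ_le ρ (i + k) (hf i m hm)

theorem deg_twist {k : ℕ} (g : G) {x : Module.End (ZMod p) M} (hx : x ∈ deg ρ k) :
    (ρ g - 1) * x - x * (ρ g - 1) ∈ deg ρ (k + 1) ∧ (ρ g - 1) * x * (ρ g - 1) ∈ deg ρ (k + 1) := by
  have hl : ∀ y ∈ deg ρ k, (ρ g - 1) * y ∈ deg ρ (k + 1) := fun y hy i m hm => ser_mem ρ g (hy i m hm)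
  have hr : x * (ρ g - 1) ∈ deg ρ (k + 1) := fun i m hm => by
    have := hx (i + 1) _ (ser_mem ρ g hm)
    rw [show i + 1 + k = i + (k + 1) by omega] at this
    exact this
  refine ⟨(deg ρ (k + 1)).sub_mem (hl x hx) hr, ?_⟩
  rw [mul_assoc]
  exact hl _ (deg_succ_le ρ k hr)

theorem eq_bot_of_comm_fix {E : Subgroup G} (hρ : Function.Injective ρ) (hG : IsPGroup p G)
    (h : ∀ m : M, ∃ c ∈ fixd ρ E, ∃ s ∈ AddSubgroup.closure {x | ∃ e ∈ E, ∃ w : M, x = ρ e w - w}, m = c + s) :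
    E = ⊥ := by
  obtain ⟨n, hn⟩ := exists_ser_bot ρ hG
  have key : ∀ i, ∀ m : M, ∃ c ∈ fixd ρ E, ∃ s ∈ ser ρ i, m = c + s := by
    intro i
    induction i with
    | zero => exact fun m => ⟨0, (fixd ρ E).zero_mem, m, AddSubgroup.mem_top m, (zero_add m).symm⟩
    | succ i ih =>
      have hgen : AddSubgroup.closure {x | ∃ e ∈ E, ∃ w : M, x = ρ e w - w} ≤ ser ρ (i + 1) := by
        rw [AddSubgroup.closure_le]
        rintro _ ⟨e, he, w, rfl⟩
        obtain ⟨c, hc, s, hs, rfl⟩ := ih w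
        rw [map_add, hc e he, add_sub_add_left_eq_sub]
        exact ser_mem ρ e hs
      intro m
      obtain ⟨c, hc, s, hs, e⟩ := h m
      exact ⟨c, hc, s, hgen hs, e⟩
  refine (Subgroup.eq_bot_iff_forall E).2 fun e he => hρ ?_
  rw [map_one]
  refine LinearMap.ext fun m => ?_
  obtain ⟨c, hc, s, hs, rfl⟩ := key n m
  rw [hn, AddSubgroup.mem_bot] at hs
  rw [hs, add_zero]
  exact hc e he

/-- Timmesfeld's replacement: there is a quadratic offender. -/
theorem exists_quad (hρ : Function.Injective ρ) (hG : IsPGroup p G) {E₀ : Subgroup G} (h0 : E₀ ≠ ⊥)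
    (hab : ∀ a ∈ E₀, ∀ b ∈ E₀, a * b = b * a) (hoff : Off ρ E₀) :
    ∃ E : Subgroup G, E ≠ ⊥ ∧ Quad ρ E ∧ Off ρ E := by
  classical
  haveI : Nonempty {E : Subgroup G // E ≠ ⊥ ∧ (∀ a ∈ E, ∀ b ∈ E, a * b = b * a) ∧ Off ρ E} :=
    ⟨⟨E₀, h0, hab, hoff⟩⟩
  obtain ⟨⟨E, hne, hEab, hEoff⟩, hmin⟩ := Finite.exists_min
    fun E : {E : Subgroup G // E ≠ ⊥ ∧ (∀ a ∈ E, ∀ b ∈ E, a * b = b * a) ∧ Off ρ E} => Nat.card E.1
  refine ⟨E, hne, ?_, hEoff⟩
  have hcomm : ∀ a ∈ E, ∀ b ∈ E, ∀ m : M, ρ a (ρ b m) = ρ b (ρ a m) := fun a ha b hb m => by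
    have h := congrArg (fun g => ρ g m) (hEab a ha b hb)
    simpa [map_mul] using h
  have key : ∀ v : M, ∀ e ∈ E, ∀ x ∈ E, ρ x (ρ e v - v) = ρ e v - v := by
    intro v
    set C := fixd ρ E with hC
    set Xs : AddSubgroup M := AddSubgroup.closure ((C : Set M) ∪ {x | ∃ e ∈ E, x = ρ e v - v}) with hXs
    let E1 : Subgroup G :=
      { carrier := {e | e ∈ E ∧ ∀ x ∈ Xs, ρ e x = x}
        one_mem' := ⟨E.one_mem, fun x _ => by rw [map_one]; rfl⟩
        mul_mem' := fun {a b} ha hb => ⟨E.mul_mem ha.1 hb.1, fun x hx => by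
          rw [map_mul]; show ρ a (ρ b x) = x; rw [hb.2 x hx, ha.2 x hx]⟩
        inv_mem' := fun {a} ha => ⟨E.inv_mem ha.1, fun x hx => by
          have h := congrArg (ρ a⁻¹) (ha.2 x hx)
          rw [show ρ a⁻¹ (ρ a x) = ρ (a⁻¹ * a) x by rw [map_mul]; rfl, inv_mul_cancel, map_one] at h
          exact h.symm⟩ }
    have hE1le : E1 ≤ E := fun e he => he.1
    -- the fibres
    let C' : AddSubgroup Xs := (C.toAddSubgroup).addSubgroupOf Xs
    let F : E → Xs ⧸ C' := fun e =>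
      QuotientAddGroup.mk ⟨ρ e v - v, AddSubgroup.subset_closure (Or.inr ⟨e, e.2, rfl⟩)⟩
    have hF : ∀ a b : E, F a = F b → (a : G)⁻¹ * b ∈ E1 := by
      intro a b h
      have hd : (a : G)⁻¹ * b ∈ E := E.mul_mem (E.inv_mem a.2) b.2
      have h1 : -(ρ a v - v) + (ρ b v - v) ∈ C := QuotientAddGroup.eq.1 h
      have h2 : ρ ((a : G)⁻¹ * b) v - v ∈ C := by
        intro x hx
        have h3 : -(ρ a v - v) + (ρ b v - v) = ρ a (ρ ((a : G)⁻¹ * b) v - v) := by
          rw [map_sub, show ρ a (ρ ((a : G)⁻¹ * b) v) = ρ ((a : G) * ((a : G)⁻¹ * b)) v by simp only [map_mul]; rfl,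
            mul_inv_cancel_left]
          abel
        have h4 := h1 x hx
        rw [h3, hcomm x hx a a.2] at h4
        have h5 := congrArg (ρ (a : G)⁻¹) h4
        simp only [show ∀ m, ρ (a : G)⁻¹ (ρ (a : G) m) = ρ ((a : G)⁻¹ * a) m from fun m => by rw [map_mul]; rfl,
          inv_mul_cancel, map_one] at h5
        exact h5
      refine ⟨hd, fun x hx => ?_⟩
      induction hx using AddSubgroup.closure_induction with
      | mem x hx =>
        rcases hx with hx | ⟨e, he, rfl⟩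
        · exact hx _ hd
        · have h4 := h2 e he
          rw [map_sub] at h4
          rw [map_sub, hcomm _ hd e he, eq_comm, ← sub_eq_zero]
          rw [← sub_eq_zero] at h4
          calc ρ e v - v - (ρ e (ρ ((a : G)⁻¹ * b) v) - ρ ((a : G)⁻¹ * b) v)
              = -(ρ e (ρ ((a : G)⁻¹ * b) v) - ρ e v - (ρ ((a : G)⁻¹ * b) v - v)) := by abel
            _ = 0 := by rw [h4, neg_zero]
      | zero => exact map_zero _
      | add x y _ _ ihx ihy => rw [map_add, ihx, ihy]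
      | neg x _ ihx => rw [map_neg, ihx]
    haveI : Nonempty E := ⟨1⟩
    have hinj : Function.Injective (fun e : E => ((⟨((Function.invFun F (F e) : E) : G)⁻¹ * e,
        hF _ _ (Function.invFun_eq (f := F) ⟨e, rfl⟩)⟩ : E1), F e)) := by
      intro a b h
      obtain ⟨h1, h2⟩ := Prod.ext_iff.1 h
      have h3 : ((Function.invFun F (F a) : E) : G)⁻¹ * a = ((Function.invFun F (F b) : E) : G)⁻¹ * b :=
        congrArg Subtype.val h1
      have h2' : F a = F b := h2
      rw [h2'] at h3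
      exact Subtype.ext (mul_left_cancel h3)
    have hle := Nat.card_le_card_of_injective _ hinj
    rw [Nat.card_prod] at hle
    have hCX : C.toAddSubgroup ≤ Xs := fun c hc => AddSubgroup.subset_closure (Or.inl hc)
    have hXcard : Nat.card (Xs ⧸ C') * Nat.card C = Nat.card Xs := by
      rw [show Nat.card C = Nat.card C' from (Nat.card_congr (AddSubgroup.addSubgroupOfEquivOfLe hCX).toEquiv).symm]
      exact (AddSubgroup.card_eq_card_quotient_mul_card_addSubgroup C').symm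
    have hXfix : Nat.card Xs ≤ Nat.card (fixd ρ E1) :=
      Nat.card_le_card_of_injective
        (fun x : Xs => (⟨x.1, fun e he => he.2 x.1 x.2⟩ : fixd ρ E1))
        (fun a b h => Subtype.ext (congrArg Subtype.val h :))
    have hval : Nat.card M ≤ Nat.card E1 * Nat.card Xs := by
      calc Nat.card M ≤ Nat.card E * Nat.card C := hEoff
        _ ≤ Nat.card E1 * Nat.card (Xs ⧸ C') * Nat.card C := Nat.mul_le_mul_right _ hle
        _ = _ := by rw [mul_assoc, hXcard]
    by_cases hE1 : E1 = ⊥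
    · exfalso
      rw [hE1, Subgroup.card_bot, one_mul] at hval
      have htop : Xs = ⊤ := AddSubgroup.eq_top_of_le_card Xs hval
      refine hne (eq_bot_of_comm_fix ρ hρ hG fun m => ?_)
      have hm : m ∈ Xs := htop ▸ AddSubgroup.mem_top m
      rw [hXs, AddSubgroup.closure_union, AddSubgroup.mem_sup] at hm
      obtain ⟨c, hc, s, hs, e⟩ := hm
      refine ⟨c, ?_, s, ?_, e.symm⟩
      · have : AddSubgroup.closure (C : Set M) = C.toAddSubgroup := AddSubgroup.closure_eq C.toAddSubgroup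
        rw [this] at hc
        exact hc
      · refine AddSubgroup.closure_mono ?_ hs
        rintro x ⟨e', he, hx⟩
        exact ⟨e', he, v, hx⟩
    · have h := hmin ⟨E1, hE1, fun a ha b hb => hEab a ha.1 b hb.1,
        hval.trans (Nat.mul_le_mul_left _ hXfix)⟩
      have heq : E1 = E := Subgroup.eq_of_le_of_card_ge hE1le h
      intro e he x hx
      exact (heq.ge hx).2 _ (AddSubgroup.subset_closure (Or.inr ⟨e, he, rfl⟩))
  intro a ha b hb
  refine LinearMap.ext fun v => ?_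
  show ρ a (ρ b v - v) - (ρ b v - v) = 0
  rw [key v b hb a ha, sub_self]

/-- The logarithm of a quadratically acting subgroup. -/
def logq {A : Subgroup G} (hA : Quad ρ A) : AddSubgroup (Module.End (ZMod p) M) where
  carrier := {z | ∃ a ∈ A, z = ρ a - 1}
  zero_mem' := ⟨1, A.one_mem, by rw [map_one, sub_self]⟩
  add_mem' := by
    rintro _ _ ⟨a, ha, rfl⟩ ⟨b, hb, rfl⟩
    refine ⟨a * b, A.mul_mem ha hb, ?_⟩
    rw [map_mul, show ρ a * ρ b - 1 = (ρ a - 1) * (ρ b - 1) + ((ρ a - 1) + (ρ b - 1)) by noncomm_ring,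
      hA a ha b hb, zero_add]
  neg_mem' := by
    rintro _ ⟨a, ha, rfl⟩
    refine ⟨a⁻¹, A.inv_mem ha, ?_⟩
    have h := hA a⁻¹ (A.inv_mem ha) a ha
    have h1 : ρ a⁻¹ * ρ a = 1 := by rw [← map_mul, inv_mul_cancel, map_one]
    rw [sub_mul, mul_sub, mul_sub, one_mul, one_mul, mul_one, h1] at h
    have h2 : ρ a⁻¹ - 1 + (ρ a - 1) = 0 := by
      calc ρ a⁻¹ - 1 + (ρ a - 1) = -(1 - ρ a⁻¹ - (ρ a - 1)) := by abel
        _ = 0 := by rw [h, neg_zero]
    exact (eq_neg_of_add_eq_zero_left h2).symm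

theorem logq_conj {A A' : Subgroup G} (hA : Quad ρ A) (hA' : Quad ρ A') {c : G}
    (hc : ∀ a ∈ A, c * a * c⁻¹ ∈ A') {x : Module.End (ZMod p) M} (hx : x ∈ logq ρ hA) :
    ρ c * x * ρ c⁻¹ ∈ logq ρ hA' := by
  obtain ⟨a, ha, rfl⟩ := hx
  refine ⟨_, hc a ha, ?_⟩
  rw [map_mul, map_mul, mul_sub, sub_mul, mul_one, ← map_mul ρ c c⁻¹, mul_inv_cancel, map_one]

theorem rho_inv {A : Subgroup G} (hA : Quad ρ A) {a : G} (ha : a ∈ A) : ρ a⁻¹ = 1 - (ρ a - 1) := by
  have h1 : ρ a * (1 - (ρ a - 1)) = 1 := by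
    rw [show ρ a * (1 - (ρ a - 1)) = 1 - (ρ a - 1) * (ρ a - 1) by noncomm_ring, hA a ha a ha, sub_zero]
  calc ρ a⁻¹ = ρ a⁻¹ * (ρ a * (1 - (ρ a - 1))) := by rw [h1, mul_one]
    _ = _ := by rw [← mul_assoc, ← map_mul, inv_mul_cancel, map_one, one_mul]

theorem rho_pow {A : Subgroup G} (hA : Quad ρ A) {a : G} (ha : a ∈ A) (n : ℕ) :
    ρ (a ^ n) = 1 + n • (ρ a - 1) := by
  induction n with
  | zero => simp
  | succ n ih =>
    rw [pow_succ, map_mul, ih, add_mul, one_mul, smul_mul_assoc,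
      show (ρ a - 1) * ρ a = (ρ a - 1) * (ρ a - 1) + (ρ a - 1) by noncomm_ring, hA a ha a ha, zero_add, succ_nsmul]
    abel

/-- The half of an element, `p` being odd. -/
theorem exists_half (hp : p ≠ 2) (x : Module.End (ZMod p) M) :
    ∃ n : ℕ, n • x + n • x = x ∧ (p : ℕ) • x = 0 := by
  have h0 : (p : ℕ) • x = 0 := by
    rw [← Nat.cast_smul_eq_nsmul (ZMod p), ZMod.natCast_self, zero_smul]
  obtain ⟨j, hj⟩ := (Fact.out : p.Prime).odd_of_ne_two hp
  refine ⟨j + 1, ?_, h0⟩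
  rw [← add_nsmul, show j + 1 + (j + 1) = p + 1 by omega, add_nsmul, h0, one_nsmul, zero_add]

/-- Mutual normalization of quadratic subgroups, in terms of the logarithms. -/
theorem mutual_normal (hp : p ≠ 2) {A B : Subgroup G} (hA : Quad ρ A) (hB : Quad ρ B)
    (hBA : B ≤ normalizer (A : Set G)) (hAB : A ≤ normalizer (B : Set G))
    {x c : Module.End (ZMod p) M} (hx : x ∈ logq ρ hA) (hc : c ∈ logq ρ hB) :
    c * x - x * c ∈ logq ρ hA ∧ c * x - x * c ∈ logq ρ hB ∧ x * c * x = 0 := by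
  have one : ∀ (A B : Subgroup G) (hA : Quad ρ A) (hB : Quad ρ B), B ≤ normalizer (A : Set G) →
      ∀ x ∈ logq ρ hA, ∀ c ∈ logq ρ hB, c * x - x * c ∈ logq ρ hA := by
    intro A B hA hB hBA x hx c hc
    obtain ⟨b, hb, rfl⟩ := hc
    have h1 := logq_conj ρ hA hA (fun a ha => (mem_normalizer_iff.1 (hBA hb) a).1 ha) hx
    have h2 := logq_conj ρ hA hA (fun a ha => (mem_normalizer_iff.1 (hBA (B.inv_mem hb)) a).1 ha) hx
    rw [inv_inv] at h2
    rw [rho_inv ρ hB hb] at h1 h2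
    obtain ⟨n, hn, -⟩ := exists_half hp ((ρ b - 1) * x - x * (ρ b - 1))
    rw [← hn, ← nsmul_add]
    refine AddSubgroup.nsmul_mem _ ?_ n
    have h3 := (logq ρ hA).sub_mem h1 h2
    have e : ρ b * x * (1 - (ρ b - 1)) - (1 - (ρ b - 1)) * x * ρ b =
        (ρ b - 1) * x - x * (ρ b - 1) + ((ρ b - 1) * x - x * (ρ b - 1)) := by noncomm_ring
    rwa [e] at h3
  have hW := one A B hA hB hBA x hx c hc
  refine ⟨hW, ?_, ?_⟩
  · have h := (logq ρ hB).neg_mem (one B A hB hA hAB c hc x hx)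
    rwa [neg_sub] at h
  · obtain ⟨a, ha, e1⟩ := hW
    obtain ⟨a', ha', e2⟩ := hx
    have h := hA a ha a' ha'
    rw [← e1, ← e2] at h
    have hxx : x * x = 0 := by rw [e2]; exact hA a' ha' a' ha'
    rw [sub_mul, mul_assoc c x x, hxx, mul_zero, zero_sub, neg_eq_zero] at h
    exact h

theorem logq_mul {A : Subgroup G} (hA : Quad ρ A) {x y : Module.End (ZMod p) M} (hx : x ∈ logq ρ hA)
    (hy : y ∈ logq ρ hA) : x * y = 0 := by
  obtain ⟨a, ha, rfl⟩ := hx
  obtain ⟨b, hb, rfl⟩ := hy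
  exact hA a ha b hb

/-- A square zero element in the sum of three mutually normalizing logarithms is a logarithm. -/
theorem exists_exp (hp : p ≠ 2) {A B C : Subgroup G} (hA : Quad ρ A) (hB : Quad ρ B) (hC : Quad ρ C)
    (hAB : A ≤ normalizer (B : Set G)) (hBA : B ≤ normalizer (A : Set G))
    (hAC : A ≤ normalizer (C : Set G)) (hCA : C ≤ normalizer (A : Set G))
    (hBC : B ≤ normalizer (C : Set G)) (hCB : C ≤ normalizer (B : Set G))
    {z : Module.End (ZMod p) M} (hz : z ∈ logq ρ hA ⊔ logq ρ hB ⊔ logq ρ hC) (hzz : z * z = 0) :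
    ∃ g : G, ρ g = 1 + z := by
  obtain ⟨pq, hpq, R, hR, rfl⟩ := AddSubgroup.mem_sup.1 hz
  obtain ⟨P, hP, Q, hQ, rfl⟩ := AddSubgroup.mem_sup.1 hpq
  obtain ⟨u1, u2, hPQP⟩ := mutual_normal ρ hp hA hB hBA hAB hP hQ
  obtain ⟨-, -, hQPQ⟩ := mutual_normal ρ hp hB hA hAB hBA hQ hP
  obtain ⟨v1, v2, hPRP⟩ := mutual_normal ρ hp hA hC hCA hAC hP hR
  obtain ⟨-, -, hRPR⟩ := mutual_normal ρ hp hC hA hAC hCA hR hP
  obtain ⟨w1, w2, hQRQ⟩ := mutual_normal ρ hp hB hC hCB hBC hQ hR
  obtain ⟨-, -, hRQR⟩ := mutual_normal ρ hp hC hB hBC hCB hR hQ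
  have pp := logq_mul ρ hA hP hP
  have qq := logq_mul ρ hB hQ hQ
  have rr := logq_mul ρ hC hR hR
  have hz2 : P * Q + Q * P + (P * R + R * P) + (Q * R + R * Q) = 0 := by
    calc P * Q + Q * P + (P * R + R * P) + (Q * R + R * Q)
        = (P + Q + R) * (P + Q + R) - (P * P + Q * Q + R * R) := by noncomm_ring
      _ = 0 := by rw [hzz, pp, qq, rr]; simp
  -- the six triple products
  have t1 : P * Q * R + P * R * Q = 0 := by
    calc P * Q * R + P * R * Q = P * (P * Q + Q * P + (P * R + R * P) + (Q * R + R * Q)) -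
          (P * P * Q + P * Q * P + (P * P * R + P * R * P)) := by noncomm_ring
      _ = 0 := by rw [hz2, hPQP, hPRP, pp]; simp
  have t2 : Q * P * R + Q * R * P = 0 := by
    calc Q * P * R + Q * R * P = Q * (P * Q + Q * P + (P * R + R * P) + (Q * R + R * Q)) -
          (Q * P * Q + Q * Q * P + (Q * Q * R + Q * R * Q)) := by noncomm_ring
      _ = 0 := by rw [hz2, hQPQ, hQRQ, qq]; simp
  have t4 : P * Q * R + Q * P * R = 0 := by
    calc P * Q * R + Q * P * R = (P * Q + Q * P + (P * R + R * P) + (Q * R + R * Q)) * R -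
          (P * (R * R) + R * P * R + (Q * (R * R) + R * Q * R)) := by noncomm_ring
      _ = 0 := by rw [hz2, hRPR, hRQR, rr]; simp
  have t6 : Q * R * P + R * Q * P = 0 := by
    calc Q * R * P + R * Q * P = (P * Q + Q * P + (P * R + R * P) + (Q * R + R * Q)) * P -
          (P * Q * P + Q * (P * P) + (P * R * P + R * (P * P))) := by noncomm_ring
      _ = 0 := by rw [hz2, hPQP, hPRP, pp]; simp
  have t3 : R * P * Q + R * Q * P = 0 := by
    calc R * P * Q + R * Q * P = R * (P * Q + Q * P + (P * R + R * P) + (Q * R + R * Q)) -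
          (R * P * R + R * R * P + (R * Q * R + R * R * Q)) := by noncomm_ring
      _ = 0 := by rw [hz2, hRPR, hRQR, rr]; simp
  set w₁ := Q * P - P * Q with hw1
  set w₂ := R * P - P * R with hw2
  set w₃ := R * Q - Q * R with hw3
  obtain ⟨n, -⟩ := exists_half hp (0 : Module.End (ZMod p) M)
  have half : ∀ x : Module.End (ZMod p) M, ∃ y, y + y = x ∧ ∀ S : AddSubgroup (Module.End (ZMod p) M), x ∈ S → y ∈ S :=
    fun x => by
      obtain ⟨n, hn, -⟩ := exists_half hp x
      exact ⟨n • x, hn, fun S hS => S.nsmul_mem hS n⟩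
  obtain ⟨a, ha, haS⟩ := half w₁
  obtain ⟨b, hb, hbS⟩ := half w₂
  obtain ⟨c, hc, hcS⟩ := half w₃
  have inj2 : ∀ x : Module.End (ZMod p) M, x + x = 0 → x = 0 := fun x h => by
    obtain ⟨n, hn, -⟩ := exists_half hp x
    rw [← hn, ← nsmul_add, h, nsmul_zero]
  have a1 := haS _ u1
  have a2 := haS _ u2
  have b1 := hbS _ v1
  have b3 := hbS _ v2
  have c2 := hcS _ w1
  have c3 := hcS _ w2
  -- products with the halves
  have Pa := logq_mul ρ hA hP a1
  have Pb := logq_mul ρ hA hP b1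
  have Qa := logq_mul ρ hB hQ a2
  have Qc := logq_mul ρ hB hQ c2
  have Rb := logq_mul ρ hC hR b3
  have Rc := logq_mul ρ hC hR c3
  have ab := logq_mul ρ hA a1 b1
  have ac := logq_mul ρ hB a2 c2
  have bc := logq_mul ρ hC b3 c3
  -- the key products
  have hQb : Q * b = P * Q * R := by
    refine sub_eq_zero.1 (inj2 _ ?_)
    calc Q * b - P * Q * R + (Q * b - P * Q * R) = Q * (b + b) - (P * Q * R + P * Q * R) := by noncomm_ring
      _ = (Q * P * R + Q * R * P) - ((P * Q * R + Q * P * R) + (P * Q * R + Q * P * R)) := by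
        rw [hb, hw2]; noncomm_ring
      _ = 0 := by rw [t2, t4]; simp
  have hPc : P * c = -(P * Q * R) := by
    refine eq_neg_of_add_eq_zero_left (inj2 _ ?_)
    calc P * c + P * Q * R + (P * c + P * Q * R) = P * (c + c) + (P * Q * R + P * Q * R) := by noncomm_ring
      _ = P * Q * R + P * R * Q := by rw [hc, hw3]; noncomm_ring
      _ = 0 := t1
  have hRa : R * a = -(P * Q * R) := by
    refine eq_neg_of_add_eq_zero_left (inj2 _ ?_)
    calc R * a + P * Q * R + (R * a + P * Q * R) = R * (a + a) + (P * Q * R + P * Q * R) := by noncomm_ring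
      _ = (R * Q * P + (P * Q * R + Q * P * R)) + (P * Q * R + Q * P * R) - (R * P * Q + R * Q * P)
          + (Q * R * P + R * Q * P) - (Q * P * R + Q * R * P) - (Q * P * R) := by rw [ha, hw1]; noncomm_ring
      _ = R * Q * P - Q * P * R := by rw [t4, t3, t6, t2]; simp
      _ = (Q * R * P + R * Q * P) - (Q * P * R + Q * R * P) := by noncomm_ring
      _ = 0 := by rw [t6, t2, sub_zero]
  have hsum : P * Q + P * R + Q * R + (a + b + c) = 0 := by
    refine inj2 _ ?_
    calc P * Q + P * R + Q * R + (a + b + c) + (P * Q + P * R + Q * R + (a + b + c))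
        = P * Q + P * Q + (P * R + P * R) + (Q * R + Q * R) + ((a + a) + (b + b) + (c + c)) := by abel
      _ = P * Q + Q * P + (P * R + R * P) + (Q * R + R * Q) := by rw [ha, hb, hc, hw1, hw2, hw3]; abel
      _ = 0 := hz2
  have hhh : (a + b + c) * (a + b + c) = 0 := by
    calc (a + b + c) * (a + b + c)
        = a * a + a * b + a * c + (b * a + b * b + b * c) + (c * a + c * b + c * c) := by noncomm_ring
      _ = 0 := by
        rw [logq_mul ρ hA a1 a1, ab, ac, logq_mul ρ hA b1 a1, logq_mul ρ hA b1 b1, bc,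
          logq_mul ρ hB c2 a2, logq_mul ρ hC c3 b3, logq_mul ρ hB c2 c2]
        simp
  obtain ⟨gP, -, eP⟩ := hP
  obtain ⟨gQ, -, eQ⟩ := hQ
  obtain ⟨gR, -, eR⟩ := hR
  obtain ⟨ga, -, ea⟩ := a1
  obtain ⟨gb, -, eb⟩ := b1
  obtain ⟨gc, -, ec⟩ := c2
  refine ⟨gP * gQ * gR * ga * gb * gc, ?_⟩
  rw [map_mul, map_mul, map_mul, map_mul, map_mul,
    show ρ gP = 1 + P by rw [eP]; abel, show ρ gQ = 1 + Q by rw [eQ]; abel, show ρ gR = 1 + R by rw [eR]; abel,
    show ρ ga = 1 + a by rw [ea]; abel, show ρ gb = 1 + b by rw [eb]; abel, show ρ gc = 1 + c by rw [ec]; abel]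
  have hQR : (1 + P) * (1 + Q) * (1 + R) = 1 + (P + Q + R) - (a + b + c) + P * Q * R := by
    calc (1 + P) * (1 + Q) * (1 + R)
        = 1 + (P + Q + R) - (a + b + c) + P * Q * R + (P * Q + P * R + Q * R + (a + b + c)) := by noncomm_ring
      _ = _ := by rw [hsum, add_zero]
  have habc : (1 + a) * (1 + b) * (1 + c) = 1 + (a + b + c) := by
    calc (1 + a) * (1 + b) * (1 + c) = 1 + (a + b + c) + (a * b + a * c + b * c + a * b * c) := by noncomm_ring
      _ = _ := by rw [ab, ac, bc]; simp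
  have hM : P * Q * R * (a + b + c) = 0 := by
    calc P * Q * R * (a + b + c) = P * Q * (R * a) + P * Q * (R * b) + P * Q * (R * c) := by noncomm_ring
      _ = -(P * Q * P * (Q * R)) := by rw [hRa, Rb, Rc]; noncomm_ring
      _ = 0 := by rw [hPQP, zero_mul, neg_zero]
  calc (1 + P) * (1 + Q) * (1 + R) * (1 + a) * (1 + b) * (1 + c)
      = (1 + P) * (1 + Q) * (1 + R) * ((1 + a) * (1 + b) * (1 + c)) := by simp only [mul_assoc]
    _ = 1 + (P + Q + R) + P * Q * R + ((P * a + P * b + P * c) + (Q * a + Q * b + Q * c) + (R * a + R * b + R * c))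
        - (a + b + c) * (a + b + c) + P * Q * R * (a + b + c) := by rw [hQR, habc]; noncomm_ring
    _ = _ := by rw [hhh, hM, Pa, Pb, hPc, Qa, hQb, Qc, hRa, Rb, Rc]; abel

end CfsgLib.CFun.TwoSub
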