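import Cfsg.Agent.Lib.CFun.SectionOp
import Cfsg.Agent.Lib.CFun.Series
import Cfsg.Agent.Lib.Fusion.Thompson
import Cfsg.Prelude.Def_LocalEven
import Mathlib.GroupTheory.Transfer
import Mathlib.GroupTheory.GroupAction.Quotient
import Mathlib.Algebra.Polynomial.Lifts
import Mathlib.FieldTheory.Finite.Basic

/-!
# Transfer of elements of a normal subgroup, orbit by orbit
-/

set_option autoImplicit false
set_option linter.style.haveILetI false

open Subgroup
open scoped commutatorElement

namespace CfsgLib.CFun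

universe u

section orbit

variable {S : Type*} [Group S] [Finite S] {A : Type*} [CommGroup A] {p : ℕ} [Fact p.Prime]

/-- A product over cosets vanishes when it vanishes along the powers of a moving element. -/
theorem prod_cosets_eq_one (hS : IsPGroup p S) (D : Subgroup S) {e : S} (he : e ∉ D)
    [Fintype (S ⧸ D)] (F : S ⧸ D → A)
    (h : ∀ r b : S, ∏ j ∈ Finset.range p, F ((r * e ^ j * b : S) : S ⧸ D) = 1) :
    ∏ q : S ⧸ D, F q = 1 := by
  classical
  haveI := hS.isNilpotent
  obtain ⟨B, ⟨hDB, heB⟩, hBmax⟩ := (Set.toFinite {B : Subgroup S | D ≤ B ∧ e ∉ B}).exists_maximal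
    ⟨D, le_rfl, he⟩
  have heN : e ∈ normalizer (B : Set S) := by
    by_contra hn
    have hlt : B < normalizer (B : Set S) := by
      refine Group.normalizerCondition_of_isNilpotent B (lt_top_iff_ne_top.2 fun h => heB ?_)
      rw [h]; exact mem_top e
    exact hlt.not_ge (hBmax ⟨hDB.trans le_normalizer, hn⟩ le_normalizer)
  have hnorm : ∀ i : ℤ, zpowers (e ^ i) ≤ normalizer (B : Set S) := fun i =>
    zpowers_le.2 (zpow_mem heN i)
  have hgen : ∀ i : ℤ, IsCoprime i (p : ℤ) → e ^ i ∈ B → e ∈ B := by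
    intro i hi hmem
    obtain ⟨n, hn⟩ := hS e
    obtain ⟨a, b, hab⟩ := hi.pow_right (n := n)
    have h1 : e = e ^ (a * i) * e ^ (b * (p : ℤ) ^ n) := by rw [← zpow_add, hab, zpow_one]
    rw [h1, mul_comm a i, zpow_mul e i a, mul_comm b, zpow_mul e ((p : ℤ) ^ n) b,
      ← Nat.cast_pow, zpow_natCast e (p ^ n), hn, one_zpow, mul_one]
    exact zpow_mem hmem a
  have hdec : ∀ (i : ℤ) (x : S), x ∈ B ⊔ zpowers (e ^ i) →
      ∃ k : ℤ, (e ^ (i * k))⁻¹ * x ∈ B := by
    intro i x hx
    rw [← SetLike.mem_coe, Subgroup.coe_mul_of_right_le_normalizer_left _ _ (hnorm i)] at hx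
    obtain ⟨a, ha, b, hb, rfl⟩ := Set.mem_mul.1 hx
    obtain ⟨k, rfl⟩ := mem_zpowers_iff.1 hb
    refine ⟨k, ?_⟩
    rw [zpow_mul, ← mul_assoc]
    exact (mem_normalizer_iff''.1 (hnorm i (zpow_mem (mem_zpowers _) k)) a).1 ha
  have hpB : e ^ p ∈ B := by
    have hle : B ⊔ zpowers (e ^ (p : ℤ)) ≤ B := by
      refine hBmax ⟨hDB.trans le_sup_left, fun hmem => ?_⟩ le_sup_left
      obtain ⟨k, hk⟩ := hdec p e hmem
      refine heB (hgen (1 - (p : ℤ) * k) ?_ ?_)
      · exact ⟨1, k, by ring⟩
      · rwa [show (1 : ℤ) - (p : ℤ) * k = -((p : ℤ) * k) + 1 by ring, zpow_add, zpow_neg, zpow_one]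
    simpa [zpow_natCast] using hle (le_sup_right (a := B) (mem_zpowers (e ^ (p : ℤ))))
  set B' := B ⊔ zpowers e with hB'
  have hBB' : B ≤ B' := le_sup_left
  have he' : ∀ j : ℕ, e ^ j ∈ B' := fun j => le_sup_right (a := B) (pow_mem (mem_zpowers e) j)
  -- the cosets of `B` are indexed by those of `B'` and a residue modulo `p`
  let g : (S ⧸ B') × Fin p → S ⧸ B := fun x => (x.1.out * e ^ (x.2 : ℕ) : S)
  have hg : Function.Bijective g := by
    constructor
    · rintro ⟨a, i⟩ ⟨b, j⟩ h
      have h1 : (a.out * e ^ (i : ℕ))⁻¹ * (b.out * e ^ (j : ℕ)) ∈ B := QuotientGroup.eq.1 h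
      have hab : a = b := by
        rw [← a.out_eq', ← b.out_eq', QuotientGroup.eq]
        have := mul_mem (mul_mem (he' i) (hBB' h1)) (inv_mem (he' j))
        convert this using 1
        group
      subst hab
      refine Prod.ext rfl (Fin.ext ?_)
      rw [show (a.out * e ^ (i : ℕ))⁻¹ * (a.out * e ^ (j : ℕ)) = e ^ ((j : ℤ) - i) by
        rw [sub_eq_neg_add, zpow_add, zpow_neg, zpow_natCast, zpow_natCast]; group] at h1
      by_contra hne
      refine heB (hgen _ ?_ h1)
      rw [Int.isCoprime_iff_gcd_eq_one, Int.gcd, Int.natAbs_natCast, ← Nat.coprime_iff_gcd_eq_one,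
        Nat.coprime_comm, (Fact.out : p.Prime).coprime_iff_not_dvd]
      intro hd
      have hij : (i : ℕ) ≠ j := hne
      have hi := i.isLt
      have hj := j.isLt
      have := Nat.le_of_dvd (Int.natAbs_pos.2 (by omega)) hd
      omega
    · intro y
      induction y using QuotientGroup.induction_on with
      | _ s =>
        have h1 : ((s : S ⧸ B').out)⁻¹ * s ∈ B' := QuotientGroup.eq.1 (Quotient.out_eq' _)
        obtain ⟨k, hk⟩ := hdec 1 _ (by rwa [zpow_one])
        have hp0 : (0 : ℤ) < p := by exact_mod_cast (Fact.out : p.Prime).pos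
        refine ⟨⟨(s : S ⧸ B'), ⟨(k % (p : ℤ)).toNat, ?_⟩⟩, QuotientGroup.eq.2 ?_⟩
        · have := Int.emod_lt_of_pos k hp0
          have := Int.emod_nonneg k hp0.ne'
          omega
        · have h3 : (e ^ p) ^ (k / (p : ℤ)) ∈ B := zpow_mem hpB _
          have hk0 : e ^ k = e ^ (k % (p : ℤ)).toNat * (e ^ p) ^ (k / (p : ℤ)) := by
            rw [← zpow_natCast e p, ← zpow_mul, ← zpow_natCast e (Int.toNat _), ← zpow_add,
              Int.toNat_of_nonneg (Int.emod_nonneg k hp0.ne'), Int.emod_add_mul_ediv]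
          have := mul_mem h3 hk
          rw [one_mul, hk0] at this
          convert this using 1
          group
  let E := Equiv.ofBijective g hg
  let f : S ⧸ B → S := fun y => (E.symm y).1.out * e ^ ((E.symm y).2 : ℕ)
  have hf : Function.RightInverse f (QuotientGroup.mk : S → S ⧸ B) := fun y => E.apply_symm_apply y
  let E2 := (Subgroup.quotientEquivProdOfLE' hDB f hf).symm
  haveI : Fintype (S ⧸ B') := Fintype.ofFinite _
  haveI : Fintype (B ⧸ D.subgroupOf B) := Fintype.ofFinite _
  haveI : Fintype (S ⧸ B) := Fintype.ofFinite _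
  rw [← Fintype.prod_equiv E2 (fun z => F (E2 z)) F fun _ => rfl, Fintype.prod_prod_type,
    ← Fintype.prod_equiv E (fun z => ∏ b, F (E2 (E z, b))) (fun y => ∏ b, F (E2 (y, b)))
      fun _ => rfl, Fintype.prod_prod_type]
  refine Finset.prod_eq_one fun a _ => ?_
  rw [Finset.prod_comm]
  refine Finset.prod_eq_one fun b _ => ?_
  induction b using QuotientGroup.induction_on with
  | _ b =>
    refine Eq.trans ?_ (h a.out (b : S))
    rw [← Fin.prod_univ_eq_prod_range]
    refine Finset.prod_congr rfl fun j _ => congrArg F ?_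
    show ((f (E (a, j)) * (b : S) : S) : S ⧸ D) = _
    simp only [f, Equiv.symm_apply_apply]

end orbit

section transfer

variable {G : Type u} [Group G] [Finite G]

/-- Transfer of an element of a normal subgroup contained in `M`. -/
theorem transfer_eq_prod_conj (M : Subgroup G) {A : Type*} [CommGroup A] (φ : M →* A)
    {U : Subgroup G} [hU : U.Normal] (hUM : U ≤ M) {x : G} (hx : x ∈ U) [Fintype (G ⧸ M)] :
    MonoidHom.transfer φ x =
      ∏ q : G ⧸ M, φ ⟨q.out⁻¹ * x * q.out, hUM (hU.conj_mem' x hx _)⟩ := by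
  classical
  let T : M.LeftTransversal :=
    ⟨Set.range (Quotient.out : G ⧸ M → G), isComplement_range_left Quotient.out_eq'⟩
  have hT : ∀ q : G ⧸ M, (T.2.leftQuotientEquiv q : G) = q.out :=
    fun q => IsComplement.leftQuotientEquiv_apply Quotient.out_eq' q
  rw [MonoidHom.transfer_def φ T]
  unfold Subgroup.leftTransversals.diff
  refine Finset.prod_congr (by ext; simp) fun q _ => ?_
  have hfix : x⁻¹ • q = q := by
    conv_lhs => rw [← q.out_eq']
    conv_rhs => rw [← q.out_eq']
    refine (QuotientGroup.eq.2 ?_ : ((x⁻¹ * q.out : G) : G ⧸ M) = q.out)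
    have := hUM (hU.conj_mem' x hx q.out)
    convert this using 1
    group
  refine congrArg φ (Subtype.ext ?_)
  show (T.2.leftQuotientEquiv q : G)⁻¹ * ((x • T).2.leftQuotientEquiv q : G) = _
  rw [Subgroup.smul_apply_eq_smul_apply_inv_smul, hfix, hT, smul_eq_mul]
  exact (mul_assoc _ _ _).symm

end transfer

section geometric

/-- `(D - 1) ^ (p - 1)` is the sum of the first `p` powers of `D` in characteristic `p`. -/
theorem sum_pow_eq_sub_one_pow {R : Type*} [Ring R] {p : ℕ} [Fact p.Prime] (hp : (p : R) = 0)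
    (a : R) : ∑ j ∈ Finset.range p, a ^ j = (a - 1) ^ (p - 1) := by
  open Polynomial in
  have hd : C (p : ℤ) ∣ (∑ j ∈ Finset.range p, (X : ℤ[X]) ^ j) - (X - 1) ^ (p - 1) := by
    rw [C_dvd_iff_dvd_coeff]
    intro i
    have : ((∑ j ∈ Finset.range p, (X : ℤ[X]) ^ j) - (X - 1) ^ (p - 1)).map
        (Int.castRingHom (ZMod p)) = 0 := by
      simp only [Polynomial.map_sub, Polynomial.map_sum, Polynomial.map_pow, Polynomial.map_X,
        Polynomial.map_one, sub_eq_zero]
      have hX : (X - 1 : (ZMod p)[X]) ≠ 0 := by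
        simpa using X_sub_C_ne_zero (1 : ZMod p)
      refine mul_right_cancel₀ hX ?_
      rw [geom_sum_mul, ← pow_succ, Nat.sub_add_cancel (Fact.out : p.Prime).pos,
        sub_pow_char, one_pow]
    have h2 := congrArg (fun q => Polynomial.coeff q i) this
    rw [Polynomial.coeff_map, Polynomial.coeff_zero] at h2
    exact (ZMod.intCast_zmod_eq_zero_iff_dvd _ p).1 h2
  obtain ⟨r, hr⟩ := hd
  have h := congrArg (Polynomial.aeval a) hr
  simp only [map_sub, map_sum, map_pow, map_mul, map_one, Polynomial.aeval_X,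
    eq_intCast, Int.cast_natCast, map_natCast, hp, zero_mul] at h
  exact sub_eq_zero.1 h

end geometric

end CfsgLib.CFun
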