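import Cfsg.Agent.Lib.CFun.KSeq

/-!
# A term of the `K`-sequences outside a normal subgroup
-/

set_option autoImplicit false

open Subgroup
open scoped commutatorElement

namespace CfsgLib.CFun

variable {P : Type*} [Group P]

/-- The first possibility: a subgroup outside `Q` acting quadratically enough on `A`. -/
def EngelData (A Q : Subgroup P) : Prop :=
  ∃ B : Subgroup P, ¬ B ≤ Q ∧ ⁅⁅A, B⁆, B⁆ ≤ cen A ∧ ⁅⁅⁅A, B⁆, B⁆, B⁆ = ⊥ ∧ ⁅⁅cen A, B⁆, B⁆ = ⊥

/-- The second possibility: a member of a lower-star family outside `Q`, with its test property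
restricted to the subgroups of `A`. -/
def TestData (A Q : Subgroup P) : Prop :=
  ∃ B : Subgroup P, B ∈ Cfsg.classTwoSubgroups P ∧ ¬ B ≤ Q ∧ cen B ≤ Q ∧
    A ≤ normalizer (B : Set P) ∧ ⁅⁅⁅A, B⁆, B⁆, B⁆ = ⊥ ∧ ⁅⁅cen A, B⁆, B⁆ = ⊥ ∧
    ∀ A₀ ≤ A, B ≤ normalizer (A₀ : Set P) → ⁅B, ⁅A₀, A₀⁆⁆ = ⊥ → ⁅B, A₀⁆ ≤ cen B

theorem classTwo_of_le {A A₀ : Subgroup P} (hA : A ∈ Cfsg.classTwoSubgroups P) (h : A₀ ≤ A) :
    A₀ ∈ Cfsg.classTwoSubgroups P :=
  (commutator_mono h h).trans (hA.trans (centralizer_le h))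

theorem data_of_overflow {A Q : Subgroup P} [A.Normal] (hA2 : A ∈ Cfsg.classTwoSubgroups P)
    (hAQ : A ≤ Q) (hQA : ⁅Q, A⁆ ≤ cen A)
    (hover : ¬ ∀ n : ℕ, Cfsg.kSeqEven P n ≤ Q ∧ Cfsg.kSeqOdd P (n + 1) ≤ Q) :
    EngelData A Q ∨ TestData A Q := by
  classical
  have hAn : ∀ H : Subgroup P, H ≤ normalizer (A : Set P) := fun H => by
    rw [Subgroup.normalizer_eq_top A]; exact le_top
  by_cases hodd : ∀ n : ℕ, Cfsg.kSeqOdd P (n + 1) ≤ Q
  swap
  · -- a member of an upper-star family outside `Q`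
    left
    push Not at hodd
    obtain ⟨n, hn⟩ := hodd
    rw [kSeqOdd_succ] at hn
    obtain ⟨B, hB, hBQ⟩ : ∃ B ∈ Cfsg.kUpperStarFamily (Cfsg.kSeqEven P n), ¬ B ≤ Q := by
      by_contra h
      push Not at h
      exact hn (sSup_le h)
    by_cases hAlow : A ∈ Cfsg.kLowerStarFamily (Cfsg.kSeqOdd P n)
    · have hc : ⁅A, B⁆ ≤ cen B := by
        rw [commutator_comm]
        exact (commutator_mono le_rfl ((le_sSup hAlow).trans (kSeqEven_def n).ge)).trans hB.2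
      have h1 : ⁅⁅A, B⁆, B⁆ = ⊥ :=
        le_bot_iff.1 ((commutator_mono hc le_rfl).trans (cen_commutator_eq_bot B).le)
      refine ⟨B, hBQ, h1 ▸ bot_le, ?_, ?_⟩
      · rw [h1, commutator_bot_left]
      · exact le_bot_iff.1 ((commutator_mono (commutator_mono inf_le_left le_rfl) le_rfl).trans h1.le)
    · obtain ⟨A₁, hA₁, hle, hnA, hc1, hc2, hbad⟩ : ∃ A₁, A₁ ∈ Cfsg.classTwoSubgroups P ∧
          A₁ ≤ Cfsg.kSeqOdd P n ∧ A ≤ normalizer (A₁ : Set P) ∧ ⁅A, ⁅A₁, A₁⁆⁆ = ⊥ ∧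
          ⁅⁅cen A, A₁⁆, A₁⁆ = ⊥ ∧ ¬ ⁅A, A₁⁆ ≤ cen A := by
        by_contra hno
        push Not at hno
        exact hAlow ⟨hA2, hAn _, fun A₁ h1 h2 h3 h4 h5 => hno A₁ h1 h2 h3 h4 h5⟩
      have hA₁Q : ¬ A₁ ≤ Q := fun h => hbad (by
        rw [commutator_comm]; exact (commutator_mono h le_rfl).trans hQA)
      have hi1 : ⁅A, A₁⁆ ≤ A₁ := le_normalizer_iff_commutator_le_right.1 hnA
      have hi2 : ⁅⁅A, A₁⁆, A₁⁆ ≤ A ⊓ ⁅A₁, A₁⁆ :=
        le_inf ((commutator_le_left _ _).trans' (commutator_mono (commutator_le_left A A₁) le_rfl))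
          (commutator_mono hi1 le_rfl)
      refine ⟨A₁, hA₁Q, hi2.trans (le_inf inf_le_left (inf_le_right.trans ?_)), ?_, hc2⟩
      · rw [← commutator_eq_bot_iff_le_centralizer, commutator_comm]; exact hc1
      · refine le_bot_iff.1 ((commutator_mono (hi2.trans inf_le_right) le_rfl).trans ?_)
        exact (commutator_eq_bot_iff_le_centralizer.2 hA₁).le
  · have hex : ∃ n, ¬ Cfsg.kSeqEven P n ≤ Q := by
      by_contra h
      push Not at h
      exact hover fun n => ⟨h n, hodd n⟩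
    obtain ⟨n, hn, hmin⟩ : ∃ n, ¬ Cfsg.kSeqEven P n ≤ Q ∧ ∀ m < n, Cfsg.kSeqEven P m ≤ Q :=
      ⟨Nat.find hex, Nat.find_spec hex, fun m hm => not_not.1 (Nat.find_min hex hm)⟩
    rw [kSeqEven_def] at hn
    obtain ⟨B, hB, hBQ⟩ : ∃ B ∈ Cfsg.kLowerStarFamily (Cfsg.kSeqOdd P n), ¬ B ≤ Q := by
      by_contra h
      push Not at h
      exact hn (sSup_le h)
    have hAO : A ≤ Cfsg.kSeqOdd P n := by
      cases n with
      | zero => exact le_top
      | succ m =>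
        refine le_sSup ⟨hA2, ?_⟩
        rw [commutator_comm]
        exact (commutator_mono (hmin m (Nat.lt_succ_self m)) le_rfl).trans hQA
    obtain ⟨hB2, hQB, htest⟩ := hB
    have hAB : A ≤ normalizer (B : Set P) := hAO.trans hQB
    have hi1 : ⁅A, B⁆ ≤ A := commutator_le_left A B
    have hi2 : ⁅A, B⁆ ≤ B := le_normalizer_iff_commutator_le_right.1 hAB
    by_cases hZB : cen B ≤ Q
    swap
    · left
      have hC : ⁅A, cen B⁆ ≤ cen B :=
        le_normalizer_iff_commutator_le_right.1 (le_normalizer_cen hAB)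
      have h1 : ⁅⁅A, cen B⁆, cen B⁆ = ⊥ :=
        le_bot_iff.1 ((commutator_mono hC inf_le_left).trans (cen_commutator_eq_bot B).le)
      exact ⟨cen B, hZB, h1 ▸ bot_le, by rw [h1, commutator_bot_left],
        le_bot_iff.1 ((commutator_mono (commutator_mono inf_le_left le_rfl) le_rfl).trans h1.le)⟩
    right
    have htest' : ∀ A₀ ≤ A, B ≤ normalizer (A₀ : Set P) → ⁅B, ⁅A₀, A₀⁆⁆ = ⊥ →
        ⁅B, A₀⁆ ≤ cen B := by
      intro A₀ h0 h1 h2
      refine htest A₀ (classTwo_of_le hA2 h0) (h0.trans hAO) h1 h2 ?_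
      have : ⁅cen B, A₀⁆ ≤ cen A := (commutator_mono hZB h0).trans hQA
      exact le_bot_iff.1 ((commutator_mono this h0).trans (cen_commutator_eq_bot A).le)
    refine ⟨B, hB2, hBQ, hZB, hAB, ?_, ?_, htest'⟩
    · refine le_bot_iff.1 ((commutator_mono (commutator_mono hi2 le_rfl) le_rfl).trans ?_)
      exact (commutator_eq_bot_iff_le_centralizer.2 hB2).le
    · have h := htest' (cen A) inf_le_left (le_normalizer_cen (hAn B)) (by
        rw [le_bot_iff.1 ((commutator_mono le_rfl inf_le_left).trans (cen_commutator_eq_bot A).le),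
          commutator_bot_right])
      rw [commutator_comm] at h
      exact le_bot_iff.1 ((commutator_mono h le_rfl).trans (cen_commutator_eq_bot B).le)

end CfsgLib.CFun
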