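import Cfsg.Agent.Lib.CFun.NilpotentProduct
import Cfsg.Agent.Lib.Coprime.ItoProduct

/-!
# Derived length of a product of an abelian group and a group of class at most two
-/

set_option autoImplicit false
set_option linter.style.haveILetI false
set_option linter.unusedSectionVars false

open Subgroup
open scoped commutatorElement
open CfsgLib.CFun (core core_le isPGroup_core le_normalizer_core)

namespace CfsgLib.ProductDerivedLength

universe u

variable {G : Type u} [Group G] [Finite G]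

theorem isNilpotent_of_class_two {B : Subgroup G} (h : ⁅⁅B, B⁆, B⁆ = ⊥) : Group.IsNilpotent B := by
  have hc : ∀ x y : B ⧸ center B, x * y = y * x := by
    intro x y
    obtain ⟨x, rfl⟩ := QuotientGroup.mk'_surjective _ x
    obtain ⟨y, rfl⟩ := QuotientGroup.mk'_surjective _ y
    rw [← commutatorElement_eq_one_iff_mul_comm, ← map_commutatorElement, QuotientGroup.mk'_apply,
      QuotientGroup.eq_one_iff, mem_center_iff]
    intro z
    have h1 : ⁅((⁅x, y⁆ : B) : G), (z : G)⁆ ∈ ⁅⁅B, B⁆, B⁆ :=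
      commutator_mem_commutator (commutator_mem_commutator x.2 y.2) z.2
    rw [h, mem_bot, commutatorElement_eq_one_iff_mul_comm] at h1
    exact (Subtype.ext h1).symm
  letI : CommGroup (B ⧸ center B) := { (inferInstance : Group (B ⧸ center B)) with mul_comm := hc }
  haveI : Group.IsNilpotent (B ⧸ center B) := CommGroup.isNilpotent
  exact Subgroup.isNilpotent_of_ker_le_center (QuotientGroup.mk' (center B)) (by simp)

/-- A nontrivial product of an abelian group and a group of class two has a nontrivial abelian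
normal subgroup that is factorised. -/
theorem exists_abelian_factorised_normal [Nontrivial G] {A B : Subgroup G} [IsMulCommutative A]
    (h2 : ⁅⁅B, B⁆, B⁆ = ⊥) (hm : ∀ g : G, ∃ a ∈ A, ∃ b ∈ B, g = a * b) :
    ∃ M : Subgroup G, M.Normal ∧ M ≠ ⊥ ∧ (∀ g ∈ M, ∃ a ∈ M ⊓ A, ∃ b ∈ M ⊓ B, g = a * b) ∧
      ∀ x ∈ M ⊓ B, ∀ y ∈ M ⊓ B, x * y = y * x := by
  have hA : Group.IsNilpotent A := by
    letI : CommGroup A := { (inferInstance : Group A) with mul_comm := mul_comm' }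
    exact CommGroup.isNilpotent
  have hB : Group.IsNilpotent B := isNilpotent_of_class_two h2
  haveI := CfsgLib.NilpotentProduct.isSolvable_of_product hA hB hm
  have hm' : ∀ g : G, ∃ b ∈ B, ∃ a ∈ A, g = b * a := fun g => by
    obtain ⟨a, ha, b, hb, e⟩ := hm g⁻¹
    exact ⟨b⁻¹, inv_mem hb, a⁻¹, inv_mem ha, by rw [← inv_inv g, e, mul_inv_rev]⟩
  have hcA : ∀ a ∈ A, ∀ a' ∈ A, a' * a * a'⁻¹ = a := fun a ha a' ha' => by
    have h1 : a' * a = a * a' := congrArg Subtype.val (mul_comm' (⟨a', ha'⟩ : A) ⟨a, ha⟩)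
    rw [h1, mul_inv_cancel_right]
  by_cases hB0 : ∃ N : Subgroup G, N.Normal ∧ N ≠ ⊥ ∧ N ≤ B
  · obtain ⟨N, hNn, hN, hNB⟩ := hB0
    obtain ⟨W, hWn, hW, hWN, hmin⟩ := CfsgLib.Coprime.exists_minimal_normal_le hN
    haveI := hWn
    obtain ⟨hcomm, -⟩ := CfsgLib.Coprime.minimal_normal_solvable hW hmin
    exact ⟨W, hWn, hW, fun g hg => ⟨1, one_mem _, g, ⟨hg, hNB (hWN hg)⟩, (one_mul g).symm⟩,
      fun x hx y hy => hcomm x hx.1 y hy.1⟩
  have hAB : A ⊓ B = ⊥ := by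
    by_contra hne
    refine hB0 ⟨Subgroup.normalClosure ((A ⊓ B : Subgroup G) : Set G), normalClosure_normal,
      fun h => hne (le_bot_iff.1 (h ▸ subset_normalClosure)), (closure_le _).2 fun g hg => ?_⟩
    obtain ⟨w, hw, hwg⟩ := Group.mem_conjugatesOfSet_iff.1 hg
    obtain ⟨c, rfl⟩ := isConj_iff.1 hwg
    obtain ⟨b, hb, a, ha, rfl⟩ := hm' c
    rw [show b * a * w * (b * a)⁻¹ = b * (a * w * a⁻¹) * b⁻¹ by group, hcA w hw.1 a ha]
    exact mul_mem (mul_mem hb hw.2) (inv_mem hb)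
  have htop : (⊤ : Subgroup G) ≠ ⊥ := top_ne_bot
  obtain ⟨W, hWn, hW, -, hmin⟩ := CfsgLib.Coprime.exists_minimal_normal_le htop
  haveI := hWn
  obtain ⟨hcomm, p, hp, hexp⟩ := CfsgLib.Coprime.minimal_normal_solvable hW hmin
  haveI : Fact p.Prime := ⟨hp⟩
  have hWp : IsPGroup p W := fun x => ⟨1, by rw [pow_one]; exact Subtype.ext (hexp x x.2)⟩
  have hBW : B ≤ normalizer (W : Set G) := by rw [normalizer_eq_top]; exact le_top
  set X := W ⊔ B with hX
  set A₁ := A ⊓ X with hA₁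
  have hXfac : ∀ g ∈ X, ∃ a ∈ A₁, ∃ b ∈ B, g = a * b := fun g hg => by
    obtain ⟨a, ha, b, hb, e⟩ := hm g
    refine ⟨a, ⟨ha, ?_⟩, b, hb, e⟩
    have := mul_mem hg (inv_mem (mem_sup_right hb : b ∈ X))
    rwa [e, mul_inv_cancel_right] at this
  have hA₁X : ∀ g : G, ∀ a ∈ A₁, g * a * g⁻¹ ∈ X := by
    intro g a ha
    obtain ⟨b, hb, a', ha', rfl⟩ := hm' g
    rw [show b * a' * a * (b * a')⁻¹ = b * (a' * a * a'⁻¹) * b⁻¹ by group, hcA a ha.1 a' ha']
    exact mul_mem (mul_mem (mem_sup_right hb) ha.2) (inv_mem (mem_sup_right hb))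
  have hA₁p : IsPGroup p A₁ := by
    have e1 := CfsgLib.Coprime.relIndex_eq_index_of_product (H := A₁.subgroupOf X)
      (K := B.subgroupOf X) fun g => by
        obtain ⟨a, ha, b, hb, e⟩ := hXfac g g.2
        exact ⟨⟨a, ha.2⟩, ha, ⟨b, mem_sup_right hb⟩, hb, Subtype.ext e⟩
    have e2 := CfsgLib.Coprime.relIndex_eq_index_of_product (H := W.subgroupOf X)
      (K := B.subgroupOf X) fun g => by
        obtain ⟨w, hw, b, hb, e⟩ := CfsgLib.Coprime.mem_sup_exists hBW g.2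
        exact ⟨⟨w, mem_sup_left hw⟩, hw, ⟨b, mem_sup_right hb⟩, hb, Subtype.ext e.symm⟩
    rw [relIndex_subgroupOf inf_le_right] at e1
    rw [relIndex_subgroupOf le_sup_left] at e2
    have e3 : B.relIndex A₁ = Nat.card A₁ := by
      rw [← inf_relIndex_right, show B ⊓ A₁ = ⊥ from le_bot_iff.1 (hAB ▸ le_inf
        (inf_le_right.trans inf_le_left) inf_le_left), relIndex_bot_left]
    obtain ⟨k, hk⟩ := IsPGroup.iff_card.1 hWp
    obtain ⟨j, -, hj⟩ := (Nat.dvd_prime_pow hp).1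
      ((relIndex_dvd_card B W).trans (dvd_of_eq hk))
    exact IsPGroup.of_card (n := j) (by rw [← e3, e1, ← e2, hj])
  have hA₁W : ∀ a ∈ A₁, ∀ w ∈ W, a * w = w * a := by
    set L := X.normalCore with hL
    have hA₁L : A₁ ≤ L := fun a ha g => hA₁X g a ha
    have hWL : W ≤ L := normal_le_normalCore.2 le_sup_left
    haveI : L.Normal := normalCore_normal X
    set f := QuotientGroup.mk' W with hf
    have hLf : L.map f ≤ B.map f := by
      refine (map_mono (normalCore_le X)).trans (le_of_eq ?_)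
      rw [hX, Subgroup.map_sup, show W.map f = ⊥ by simp [hf], bot_sup_eq]
    haveI : Group.IsNilpotent (L.map f) := CfsgLib.NilpotentProduct.nil_of_le
      (haveI := hB; Group.nilpotent_of_surjective _ (MonoidHom.subgroupMap_surjective f B)) hLf
    set Q := L ⊓ (core (L.map f) p).comap f with hQ
    have hAQ : A₁ ≤ Q := le_inf hA₁L (map_le_iff_le_comap.1
      (CfsgLib.NilpotentProduct.le_core inferInstance (map_mono hA₁L) (hA₁p.map f)))
    have hQp : IsPGroup p Q := by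
      refine IsPGroup.to_le ?_ inf_le_right
      refine (isPGroup_core (H := L.map f) (s := p)).comap_of_ker_isPGroup f ?_
      rwa [hf, QuotientGroup.ker_mk']
    have hQn : L ≤ normalizer (Q : Set G) := by
      refine CfsgLib.Coprime.inf_le_normalizer le_normalizer fun g hg => ?_
      refine le_normalizer_comap f ?_
      exact le_normalizer_core (H := L.map f) (mem_map_of_mem f hg)
    have hcore : A₁ ≤ core L p :=
      hAQ.trans (CfsgLib.CFun.BenderInvariant.le_core_of_normalized inf_le_left hQn hQp)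
    haveI := CfsgLib.Coprime.pCore_characteristic (G := L) p
    haveI hcn : (core L p).Normal :=
      CfsgLib.Coprime.map_subtype_normal_of_characteristic L (Cfsg.pCore p L)
    have hWc : W ≤ core L p :=
      CfsgLib.CFun.BenderInvariant.le_core_of_normalized hWL
        (by rw [normalizer_eq_top]; exact le_top) hWp
    haveI : Group.IsNilpotent (core L p) := (isPGroup_core (H := L) (s := p)).isNilpotent
    have hne := CfsgLib.Coprime.nilpotent_inf_center_ne_bot' (M := W) (N := core L p) hWc hW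
    have hZn : (W ⊓ centralizer (core L p : Set G)).Normal := by
      haveI : (centralizer (core L p : Set G)).Normal := normalizer_eq_top_iff.1 (top_le_iff.1
        ((normalizer_eq_top (core L p)).ge.trans
          (CfsgLib.Coprime.normalizer_le_normalizer_centralizer _)))
      infer_instance
    have hWcent : W ≤ centralizer (core L p : Set G) :=
      (le_inf_iff.1 ((hmin _ hZn inf_le_left).resolve_left hne).ge).2
    exact fun a ha w hw => mem_centralizer_iff.1 (hWcent hw) a (hcore ha)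
  -- the projections of `A₁` to `B`, closed under `B`
  set S : Set G := {c | ∃ b ∈ B, ∃ c₁ ∈ B, (∃ w ∈ W, w * c₁ ∈ A) ∧ c = b * c₁ * b⁻¹} with hS
  have hB₁W : ∀ c₁ ∈ B, ∀ w₀ ∈ W, w₀ * c₁ ∈ A → ∀ w ∈ W, c₁ * w = w * c₁ := by
    intro c₁ hc₁ w₀ hw₀ hA' w hw
    have h1 := hA₁W _ ⟨hA', mul_mem (mem_sup_left hw₀) (mem_sup_right hc₁)⟩ w hw
    have h3 : w₀ * (c₁ * w) = w₀ * (w * c₁) := by
      rw [← mul_assoc, h1, ← mul_assoc, ← mul_assoc, hcomm w hw w₀ hw₀]
    exact mul_left_cancel h3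
  have hSW : ∀ c ∈ S, ∀ w ∈ W, c * w = w * c := by
    rintro _ ⟨b, hb, c₁, hc₁, ⟨w₀, hw₀, hA'⟩, rfl⟩ w hw
    have hw' : b⁻¹ * w * b ∈ W := by simpa using hWn.conj_mem w hw b⁻¹
    have h1 := hB₁W c₁ hc₁ w₀ hw₀ hA' _ hw'
    calc b * c₁ * b⁻¹ * w = b * (c₁ * (b⁻¹ * w * b)) * b⁻¹ := by group
      _ = b * (b⁻¹ * w * b * c₁) * b⁻¹ := by rw [h1]
      _ = w * (b * c₁ * b⁻¹) := by group
  have hcent : ∀ x ∈ B, ∀ y ∈ B, ∀ z ∈ B, ⁅x, y⁆ * z = z * ⁅x, y⁆ := fun x hx y hy z hz => by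
    have h1 : ⁅⁅x, y⁆, z⁆ ∈ ⁅⁅B, B⁆, B⁆ :=
      commutator_mem_commutator (commutator_mem_commutator hx hy) hz
    rwa [h2, mem_bot, commutatorElement_eq_one_iff_mul_comm] at h1
  have hSS : ∀ c ∈ S, ∀ c' ∈ S, c * c' = c' * c := by
    rintro _ ⟨b, hb, c₁, hc₁, ⟨w₀, hw₀, hA'⟩, rfl⟩ _ ⟨b', hb', c₂, hc₂, ⟨w₁, hw₁, hA''⟩, rfl⟩
    have h12 : c₁ * c₂ = c₂ * c₁ := by
      have h1 : w₀ * c₁ * (w₁ * c₂) = w₁ * c₂ * (w₀ * c₁) :=
        congrArg Subtype.val (mul_comm' (⟨_, hA'⟩ : A) ⟨_, hA''⟩)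
      have e1 := hB₁W c₁ hc₁ w₀ hw₀ hA' w₁ hw₁
      have e2 := hB₁W c₂ hc₂ w₁ hw₁ hA'' w₀ hw₀
      have h3 : w₀ * w₁ * (c₁ * c₂) = w₀ * w₁ * (c₂ * c₁) := by
        calc w₀ * w₁ * (c₁ * c₂) = w₀ * (w₁ * c₁) * c₂ := by group
          _ = w₀ * (c₁ * w₁) * c₂ := by rw [e1]
          _ = w₀ * c₁ * (w₁ * c₂) := by group
          _ = w₁ * c₂ * (w₀ * c₁) := h1
          _ = w₁ * (c₂ * w₀) * c₁ := by group
          _ = w₁ * (w₀ * c₂) * c₁ := by rw [e2]
          _ = w₁ * w₀ * (c₂ * c₁) := by group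
          _ = _ := by rw [hcomm w₁ hw₁ w₀ hw₀]
      exact mul_left_cancel h3
    have k1 : b * c₁ * b⁻¹ = ⁅b, c₁⁆ * c₁ := by rw [commutatorElement_def, inv_mul_cancel_right]
    have k2 : b' * c₂ * b'⁻¹ = ⁅b', c₂⁆ * c₂ := by rw [commutatorElement_def, inv_mul_cancel_right]
    have hz1 : ⁅b, c₁⁆ ∈ B :=
      mul_mem (mul_mem (mul_mem hb hc₁) (inv_mem hb)) (inv_mem hc₁)
    have hz2 : ⁅b', c₂⁆ ∈ B :=
      mul_mem (mul_mem (mul_mem hb' hc₂) (inv_mem hb')) (inv_mem hc₂)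
    rw [k1, k2]
    have f1 : Commute ⁅b, c₁⁆ ⁅b', c₂⁆ := hcent b hb c₁ hc₁ _ hz2
    have f2 : Commute ⁅b, c₁⁆ c₂ := hcent b hb c₁ hc₁ _ hc₂
    have f3 : Commute c₁ ⁅b', c₂⁆ := (hcent b' hb' c₂ hc₂ _ hc₁).symm
    exact ((f1.mul_right f2).mul_left (f3.mul_right h12)).eq
  set M := Subgroup.normalClosure ((W : Set G) ∪ (A₁ : Set G)) with hM
  have hMX : M ≤ X := by
    refine (closure_le _).2 fun g hg => ?_
    obtain ⟨w, hw, hwg⟩ := Group.mem_conjugatesOfSet_iff.1 hg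
    obtain ⟨c, rfl⟩ := isConj_iff.1 hwg
    rcases hw with hw | hw
    · exact mem_sup_left (hWn.conj_mem w hw c)
    · exact hA₁X c w hw
  have hMC : M ≤ Subgroup.closure ((W : Set G) ∪ S) := by
    refine (closure_le _).2 fun g hg => ?_
    obtain ⟨w, hw, hwg⟩ := Group.mem_conjugatesOfSet_iff.1 hg
    obtain ⟨c, rfl⟩ := isConj_iff.1 hwg
    rcases hw with hw | hw
    · exact subset_closure (Or.inl (hWn.conj_mem w hw c))
    · obtain ⟨b, hb, a', ha', rfl⟩ := hm' c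
      obtain ⟨w₀, hw₀, c₁, hc₁, e⟩ := CfsgLib.Coprime.mem_sup_exists hBW hw.2
      rw [show b * a' * w * (b * a')⁻¹ = b * (a' * w * a'⁻¹) * b⁻¹ by group, hcA w hw.1 a' ha',
        ← e, show b * (w₀ * c₁) * b⁻¹ = b * w₀ * b⁻¹ * (b * c₁ * b⁻¹) by group]
      exact mul_mem (subset_closure (Or.inl (hWn.conj_mem w₀ hw₀ b)))
        (subset_closure (Or.inr ⟨b, hb, c₁, hc₁, ⟨w₀, hw₀, e ▸ hw.1⟩, rfl⟩))
  have hab : ∀ x ∈ M, ∀ y ∈ M, x * y = y * x := by
    have h1 : (Subgroup.closure ((W : Set G) ∪ S)) ≤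
        centralizer ((Subgroup.closure ((W : Set G) ∪ S) : Subgroup G) : Set G) := by
      rw [centralizer_closure, closure_le]
      rintro x hx
      refine mem_centralizer_iff.2 fun y hy => ?_
      rcases hx with hx | hx <;> rcases hy with hy | hy
      · exact hcomm y hy x hx
      · exact hSW y hy x hx
      · exact (hSW x hx y hy).symm
      · exact hSS y hy x hx
    exact fun x hx y hy => (mem_centralizer_iff.1 (h1 (hMC hx)) y (hMC hy)).symm
  refine ⟨M, normalClosure_normal, fun h => hW (le_bot_iff.1 (h ▸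
    (fun w hw => subset_normalClosure (Or.inl hw)))), fun g hg => ?_,
    fun x hx y hy => hab x hx.1 y hy.1⟩
  obtain ⟨a, ha, b, hb, e⟩ := hXfac g (hMX hg)
  have haM : a ∈ M := subset_normalClosure (Or.inr ha)
  refine ⟨a, ⟨haM, ha.1⟩, b, ⟨?_, hb⟩, e⟩
  have := mul_mem (inv_mem haM) hg
  rwa [e, inv_mul_cancel_left] at this

theorem derivedSeries_add_le {K : Subgroup G} {j : ℕ} (h : derivedSeries G j ≤ K) :
    ∀ i, derivedSeries G (j + i) ≤ (derivedSeries K i).map K.subtype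
  | 0 => by simpa [← MonoidHom.range_eq_map] using h
  | i + 1 => by
    rw [← add_assoc, derivedSeries_succ, derivedSeries_succ, map_commutator]
    exact commutator_mono (derivedSeries_add_le h i) (derivedSeries_add_le h i)

theorem length_lt_of_dvd {m n : ℕ} (h : m ∣ n) (hlt : m < n) (hm : m ≠ 0) :
    m.primeFactorsList.length < n.primeFactorsList.length := by
  obtain ⟨k, rfl⟩ := h
  have hk : 1 < k := by
    by_contra hk
    have := Nat.mul_le_mul_left m (show k ≤ 1 by omega)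
    omega
  rw [(Nat.perm_primeFactorsList_mul hm (by omega)).length_eq, List.length_append]
  have : k.primeFactorsList ≠ [] := fun e => by
    have := (Nat.primeFactorsList_eq_nil k).1 e
    omega
  have := List.length_pos_iff.2 this
  omega

theorem derived_length_aux : ∀ (n : ℕ) (G : Type u) [Group G] [Finite G] (A B : Subgroup G),
    IsMulCommutative A → ⁅⁅B, B⁆, B⁆ = ⊥ → (∀ g : G, ∃ a ∈ A, ∃ b ∈ B, g = a * b) →
    (Nat.card (⁅B, B⁆ : Subgroup G)).primeFactorsList.length = n →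
    derivedSeries G (2 * (1 + n)) = ⊥ := by
  intro n
  induction n using Nat.strong_induction_on with
  | _ n ih =>
  intro G _ _ A B hA h2 hm hn
  haveI := hA
  by_cases hB : ⁅B, B⁆ = ⊥
  · haveI : IsMulCommutative B := ⟨⟨fun x y => Subtype.ext (commutatorElement_eq_one_iff_mul_comm.1
      (mem_bot.1 (hB ▸ commutator_mem_commutator x.2 y.2)))⟩⟩
    have h1 := CfsgLib.Coprime.commutator_isMulCommutative_of_product A B hm
    exact le_bot_iff.1 ((derivedSeries_antitone G (by omega)).trans h1.le)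
  obtain ⟨K, -, hKmax⟩ := exists_maximal_ge_of_wellFoundedGT (fun K : Subgroup G => K.Normal ∧
    (∀ g ∈ K, ∃ a ∈ K ⊓ A, ∃ b ∈ K ⊓ B, g = a * b) ∧
    (∀ x ∈ K ⊓ B, ∀ y ∈ K ⊓ B, x * y = y * x) ∧ K ⊓ ⁅B, B⁆ = ⊥) ⊥
    ⟨inferInstance, fun g hg => ⟨1, one_mem _, 1, one_mem _, by simp [mem_bot.1 hg]⟩,
      fun x hx y hy => by simp [mem_bot.1 hx.1], bot_inf_eq _⟩
  obtain ⟨hKn, hKfac, hKc, hKb⟩ := hKmax.prop
  haveI := hKn
  set f := QuotientGroup.mk' K
  have hf : Function.Surjective f := QuotientGroup.mk'_surjective K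
  haveI : Nontrivial (G ⧸ K) := by
    refine QuotientGroup.nontrivial_iff.2 fun h => hB ?_
    rwa [h, top_inf_eq] at hKb
  haveI : IsMulCommutative (A.map f) := ⟨⟨by
    rintro ⟨_, a, ha, rfl⟩ ⟨_, a', ha', rfl⟩
    exact Subtype.ext (by
      rw [coe_mul, coe_mul, ← map_mul, ← map_mul]
      exact congrArg f (congrArg Subtype.val (mul_comm' (⟨a, ha⟩ : A) ⟨a', ha'⟩)))⟩⟩
  obtain ⟨M, hMn, hM, hMfac, hMc⟩ := exists_abelian_factorised_normal (A := A.map f) (B := B.map f)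
    (by rw [← map_commutator, ← map_commutator, h2, Subgroup.map_bot]) fun g => by
      obtain ⟨g, rfl⟩ := hf g
      obtain ⟨a, ha, b, hb, rfl⟩ := hm g
      exact ⟨_, ⟨a, ha, rfl⟩, _, ⟨b, hb, rfl⟩, map_mul _ _ _⟩
  set K' := M.comap f with hK'
  haveI hK'n : K'.Normal := hMn.comap f
  have hKK' : K ≤ K' := fun x hx => by
    rw [hK', mem_comap, show f x = 1 from (QuotientGroup.eq_one_iff x).2 hx]
    exact one_mem _
  have hfac' : ∀ g ∈ K', ∃ a ∈ K' ⊓ A, ∃ b ∈ K' ⊓ B, g = a * b := by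
    intro g hg
    obtain ⟨_, ⟨haM, a, ha, rfl⟩, _, ⟨hbM, b, hb, rfl⟩, e⟩ := hMfac (f g) hg
    have hk : a⁻¹ * g * b⁻¹ ∈ K := by
      refine (QuotientGroup.eq_one_iff _).1 ?_
      show f (a⁻¹ * g * b⁻¹) = 1
      rw [map_mul, map_mul, map_inv, map_inv, e]
      group
    obtain ⟨a₀, ha₀, b₀, hb₀, e₀⟩ := hKfac _ hk
    refine ⟨a * a₀, ⟨mul_mem haM (hKK' ha₀.1), mul_mem ha ha₀.2⟩, b₀ * b,
      ⟨mul_mem (hKK' hb₀.1) hbM, mul_mem hb₀.2 hb⟩, ?_⟩
    rw [show a * a₀ * (b₀ * b) = a * (a₀ * b₀) * b by group, ← e₀]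
    group
  have hc' : ∀ x ∈ K' ⊓ B, ∀ y ∈ K' ⊓ B, x * y = y * x := by
    intro x hx y hy
    refine commutatorElement_eq_one_iff_mul_comm.1 (mem_bot.1 (hKb ▸
      (⟨(QuotientGroup.eq_one_iff _).1 ?_, commutator_mem_commutator hx.2 hy.2⟩ :
        ⁅x, y⁆ ∈ K ⊓ ⁅B, B⁆)))
    show f ⁅x, y⁆ = 1
    rw [map_commutatorElement, commutatorElement_eq_one_iff_mul_comm]
    exact hMc _ ⟨hx.1, x, hx.2, rfl⟩ _ ⟨hy.1, y, hy.2, rfl⟩
  have hmeet : K' ⊓ ⁅B, B⁆ ≠ ⊥ := by
    intro h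
    have hle := hKmax.le_of_ge ⟨hK'n, hfac', hc', h⟩ hKK'
    refine hM (le_bot_iff.1 ?_)
    rw [← map_comap_eq_self_of_surjective hf M]
    exact (map_mono hle).trans (QuotientGroup.map_mk'_self K).le
  set f' := QuotientGroup.mk' K'
  have hf' : Function.Surjective f' := QuotientGroup.mk'_surjective K'
  set m := (Nat.card (⁅B.map f', B.map f'⁆ : Subgroup (G ⧸ K'))).primeFactorsList.length
  have hmn : m < n := by
    rw [← hn]
    refine length_lt_of_dvd ?_ ?_ Nat.card_pos.ne'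
    · rw [← map_commutator]; exact card_map_dvd _ _
    · rw [← map_commutator]
      refine lt_of_le_of_ne (Nat.le_of_dvd Nat.card_pos (card_map_dvd _ _)) fun h => hmeet ?_
      rw [eq_bot_iff]
      intro x hx
      have hinj : Function.Bijective (f'.subgroupMap ⁅B, B⁆) := (Nat.bijective_iff_surjective_and_card _).2
        ⟨MonoidHom.subgroupMap_surjective f' _, h.symm⟩
      exact mem_bot.2 (congrArg Subtype.val (hinj.1 (a₁ := ⟨x, hx.2⟩) (a₂ := 1) (Subtype.ext (by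
        rw [map_one]
        exact (QuotientGroup.eq_one_iff x).2 hx.1))))
  haveI : IsMulCommutative (A.map f') := ⟨⟨by
    rintro ⟨_, a, ha, rfl⟩ ⟨_, a', ha', rfl⟩
    exact Subtype.ext (by
      rw [coe_mul, coe_mul, ← map_mul, ← map_mul]
      exact congrArg f' (congrArg Subtype.val (mul_comm' (⟨a, ha⟩ : A) ⟨a', ha'⟩)))⟩⟩
  have hq := ih m hmn (G ⧸ K') (A.map f') (B.map f') inferInstance
    (by rw [← map_commutator, ← map_commutator, h2, Subgroup.map_bot]) (fun g => by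
      obtain ⟨g, rfl⟩ := hf' g
      obtain ⟨a, ha, b, hb, rfl⟩ := hm g
      exact ⟨_, ⟨a, ha, rfl⟩, _, ⟨b, hb, rfl⟩, map_mul _ _ _⟩) rfl
  have h1 : derivedSeries G (2 * (1 + m)) ≤ K' := by
    have h0 := map_derivedSeries_eq hf' (2 * (1 + m))
    rw [hq, Subgroup.map_eq_bot_iff, QuotientGroup.ker_mk'] at h0
    exact h0
  haveI : IsMulCommutative (A.subgroupOf K') := ⟨⟨fun x y => Subtype.ext (Subtype.ext
    (by simpa using congrArg Subtype.val (mul_comm' (⟨((x : K') : G), x.2⟩ : A) ⟨((y : K') : G), y.2⟩)))⟩⟩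
  haveI : IsMulCommutative (B.subgroupOf K') := ⟨⟨fun x y => Subtype.ext (Subtype.ext
    (hc' _ ⟨x.1.2, x.2⟩ _ ⟨y.1.2, y.2⟩))⟩⟩
  have hK2 := CfsgLib.Coprime.commutator_isMulCommutative_of_product (A.subgroupOf K')
    (B.subgroupOf K') fun g => by
      obtain ⟨a, ha, b, hb, e⟩ := hfac' g g.2
      exact ⟨⟨a, ha.1⟩, ha.2, ⟨b, hb.1⟩, hb.2, Subtype.ext e⟩
  have h3 := derivedSeries_add_le h1 2
  rw [hK2, Subgroup.map_bot] at h3
  exact le_bot_iff.1 ((derivedSeries_antitone G (by omega)).trans h3)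

end CfsgLib.ProductDerivedLength
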