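import Cfsg.Agent.Lib.CFun.FusionSection
import Cfsg.Agent.Lib.CFun.KFunctor
import Cfsg.Agent.Lib.Qd.QdGroup

/-!
# In `Qd(p)` the lower `K`-infinity subgroup does not control fusion
-/

set_option autoImplicit false
set_option linter.style.haveILetI false

open Matrix
open CfsgLib.Qd (affine affine_mul affine_inj affine_one mem_qd_iff up up_mul up_pow ext2 mul00 mul01 mul10 mul11 det2)

namespace CfsgLib.CFun

universe u

variable {p : ℕ} [Fact p.Prime]

theorem qd_not_strongCtrl {X : Type u} [Group X] [Finite X] (e : X ≃* ↥(Cfsg.qd p)) :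
    ¬ StrongCtrl p Cfsg.kInfLower X := by
  intro hctl
  let f : X →* Matrix.SpecialLinearGroup (Fin 3) (ZMod p) := (Cfsg.qd p).subtype.comp e.toMonoidHom
  have hf : Function.Injective f := (Cfsg.qd p).subtype_injective.comp e.injective
  have hfex : ∀ x, ∃ A w, f x = affine A w := fun x => (mem_qd_iff _).1 (e x).2
  choose lin tr hfx using hfex
  have hlm : ∀ x y, lin (x * y) = lin x * lin y := fun x y =>
    (affine_inj (by rw [← hfx, map_mul, hfx, hfx, affine_mul])).1
  let l : X →* Matrix.SpecialLinearGroup (Fin 2) (ZMod p) := MonoidHom.mk' lin hlm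
  have hsur : ∀ A w, ∃ x, f x = affine A w := fun A w =>
    ⟨e.symm ⟨_, (mem_qd_iff _).2 ⟨A, w, rfl⟩⟩, by simp [f]⟩
  have hlin : ∀ {x A w}, f x = affine A w → lin x = A := fun h =>
    (affine_inj ((hfx _).symm.trans h)).1
  have hup0 : up (0 : ZMod p) = 1 := by
    refine ext2 ?_ ?_ ?_ ?_ <;> simp [up]
  have haff_pow : ∀ (w : Fin 2 → ZMod p) (n : ℕ),
      (affine (1 : Matrix.SpecialLinearGroup (Fin 2) (ZMod p)) w) ^ n = affine 1 (n • w) := by
    intro w n
    induction n with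
    | zero => rw [pow_zero, zero_smul, affine_one]
    | succ n ih =>
      rw [pow_succ, ih, affine_mul, mul_one, Matrix.SpecialLinearGroup.coe_one, Matrix.one_mulVec,
        succ_nsmul]
  -- the Sylow subgroup
  let S0 : Subgroup X := (MonoidHom.range (MonoidHom.mk'
    (fun a : Multiplicative (ZMod p) => up a.toAdd) fun a b => (up_mul _ _).symm)).comap l
  have hS0mem : ∀ x, x ∈ S0 ↔ ∃ a, lin x = up a := fun x =>
    ⟨fun ⟨a, ha⟩ => ⟨a.toAdd, ha.symm⟩, fun ⟨a, ha⟩ => ⟨Multiplicative.ofAdd a, ha.symm⟩⟩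
  have hS0p : IsPGroup p S0 := by
    rintro ⟨x, hx⟩
    obtain ⟨a, ha⟩ := (hS0mem x).1 hx
    refine ⟨2, Subtype.ext (hf ?_)⟩
    show f (x ^ p ^ 2) = f 1
    have h1 : lin (x ^ p) = 1 := by
      show l (x ^ p) = 1
      rw [map_pow, show l x = up a from ha, up_pow, ZMod.natCast_self, zero_mul, hup0]
    rw [sq, pow_mul, map_pow, hfx (x ^ p), h1, haff_pow, ← Nat.cast_smul_eq_nsmul (ZMod p),
      ZMod.natCast_self, zero_smul, affine_one, map_one]
  -- elements normalizing `S0`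
  have htri : ∀ x ∈ Subgroup.normalizer (S0 : Set X), (lin x).1 1 0 = 0 := by
    intro x hx
    obtain ⟨u, hu⟩ := hsur (up 1) 0
    obtain ⟨c, hc⟩ := (hS0mem _).1 ((Subgroup.mem_normalizer_iff.1 hx u).1
      ((hS0mem u).2 ⟨1, hlin hu⟩))
    have h2 : lin x * up 1 = up c * lin x := by
      rw [← hc, ← hlin hu, ← hlm, ← hlm, inv_mul_cancel_right]
    have h3 := congrArg (fun M : Matrix.SpecialLinearGroup (Fin 2) (ZMod p) => M.1 1 1) h2
    simp only [mul11] at h3
    simpa [up] using h3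
  obtain ⟨T, hTle⟩ := hS0p.exists_le_sylow
  have hTeq : (T : Subgroup X) = S0 := by
    by_contra hne
    haveI := T.2.isNilpotent
    obtain ⟨x, hx, hxS⟩ := SetLike.exists_of_lt
      (CfsgLib.Fusion.lt_inf_normalizer hTle fun e => hne e.symm)
    obtain ⟨hxT, hxN⟩ := Subgroup.mem_inf.1 hx
    obtain ⟨k, hk⟩ := T.2 ⟨x, hxT⟩
    have h10 := htri x hxN
    set M := lin x
    have hpow : ∀ n : ℕ, (M ^ n).1 1 0 = 0 ∧ (M ^ n).1 0 0 = M.1 0 0 ^ n := by
      intro n
      induction n with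
      | zero => simp
      | succ n ih =>
        obtain ⟨i1, i2⟩ := ih
        constructor
        · rw [pow_succ, mul10, i1, h10]; ring
        · rw [pow_succ M, mul00, i2, h10, pow_succ]; ring
    have hk1 : M ^ p ^ k = 1 := by
      show l x ^ p ^ k = 1
      rw [← map_pow, show x ^ p ^ k = 1 from congrArg Subtype.val hk, map_one]
    have h00 : M.1 0 0 = 1 := by
      have h := (hpow (p ^ k)).2
      rw [hk1, ZMod.pow_card_pow] at h
      simpa using h.symm
    have h11 : M.1 1 1 = 1 := by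
      have := det2 M
      rw [h00, h10, one_mul, mul_zero, sub_zero] at this
      exact this
    exact hxS ((hS0mem x).2 ⟨M.1 0 1, ext2 (by simpa [up] using h00) (by simp [up, M])
      (by simpa [up] using h10) (by simpa [up] using h11)⟩)
  -- abelian normal subgroups generating the Sylow subgroup
  have hP : ∀ x, x ∈ l.ker ↔ lin x = 1 := fun x => MonoidHom.mem_ker
  let L : Subgroup X :=
    { carrier := {x | ∃ a c : ZMod p, f x = affine (up a) ![c, 0]}
      one_mem' := ⟨0, 0, by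
        rw [map_one, hup0, show (![0, 0] : Fin 2 → ZMod p) = 0 by funext i; fin_cases i <;> rfl,
          affine_one]⟩
      mul_mem' := by
        rintro x y ⟨a, c, hx⟩ ⟨b, d, hy⟩
        refine ⟨a + b, c + d, ?_⟩
        rw [map_mul, hx, hy, affine_mul, up_mul]
        congr 1
        funext i; fin_cases i <;> simp [up, Matrix.vecHead, Matrix.vecTail] <;> ring
      inv_mem' := by
        rintro x ⟨a, c, hx⟩
        refine ⟨-a, -c, ?_⟩
        rw [map_inv]
        refine inv_eq_of_mul_eq_one_right ?_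
        rw [hx, affine_mul, up_mul, add_neg_cancel, hup0,
          show ![c, 0] + (up a).1 *ᵥ ![-c, 0] = (0 : Fin 2 → ZMod p) by
            funext i; fin_cases i <;> simp [up], affine_one] }
  have hLmem : ∀ x, x ∈ L ↔ ∃ a c : ZMod p, f x = affine (up a) ![c, 0] := fun x => Iff.rfl
  have hLle : L ≤ S0 := fun x ⟨a, c, hx⟩ => (hS0mem x).2 ⟨a, hlin hx⟩
  have hPle : l.ker ≤ S0 := fun x hx => (hS0mem x).2 ⟨0, by rw [hup0]; exact (hP x).1 hx⟩
  have hLc : ∀ x ∈ L, ∀ y ∈ L, Commute x y := by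
    rintro x ⟨a, c, hx⟩ y ⟨b, d, hy⟩
    refine hf ?_
    rw [map_mul, map_mul, hx, hy, affine_mul, affine_mul, up_mul, up_mul, add_comm a b]
    congr 1
    funext i; fin_cases i <;> simp [up, add_comm]
  have hPc : ∀ x ∈ l.ker, ∀ y ∈ l.ker, Commute x y := by
    intro x hx y hy
    refine hf ?_
    rw [map_mul, map_mul, hfx x, hfx y, (hP x).1 hx, (hP y).1 hy, affine_mul, affine_mul,
      Matrix.SpecialLinearGroup.coe_one, Matrix.one_mulVec, Matrix.one_mulVec, add_comm]
  have hLn : S0 ≤ Subgroup.normalizer (L : Set X) := by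
    intro s hs
    refine CfsgLib.Fusion.conjBy_eq_iff.1 (CfsgLib.Fusion.conjBy_eq_of_le
      (CfsgLib.Fusion.conjBy_le_iff.2 ?_))
    rintro x ⟨a, c, hx⟩
    obtain ⟨b, hb⟩ := (hS0mem s).1 hs
    have hkey : f (s * x) = affine (up (b + a)) (tr s + (up b).1 *ᵥ ![c, 0]) := by
      rw [map_mul, hfx s, hb, hx, affine_mul, up_mul]
    refine ⟨a, c - a * (tr s) 1, ?_⟩
    rw [map_mul, map_inv, hkey, hfx s, hb, mul_inv_eq_iff_eq_mul, affine_mul, up_mul, add_comm a b]
    congr 1
    funext i; fin_cases i <;> simp [up, Matrix.vecHead, Matrix.vecTail] <;> ring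
  have hgen : ⨆ A ∈ {A : Subgroup S0 | A.Normal ∧ IsMulCommutative A}, A = ⊤ := by
    refine top_le_iff.1 fun z _ => ?_
    obtain ⟨a, ha⟩ := (hS0mem _).1 z.2
    obtain ⟨y, hy⟩ := hsur 1 ![0, (tr (z : X)) 1]
    obtain ⟨w, hw⟩ := hsur (up a) ![(tr (z : X)) 0, 0]
    have hyP : y ∈ l.ker := (hP y).2 (hlin hy)
    have hz : (z : X) = y * w := by
      refine hf ?_
      rw [map_mul, hy, hw, hfx, ha, affine_mul, one_mul, Matrix.SpecialLinearGroup.coe_one,
        Matrix.one_mulVec]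
      congr 1
      funext i; fin_cases i <;> simp
    have hz' : z = ⟨y, hPle hyP⟩ * ⟨w, hLle ⟨a, _, hw⟩⟩ := Subtype.ext hz
    rw [hz']
    refine mul_mem ?_ ?_
    · refine Subgroup.mem_iSup_of_mem (l.ker.subgroupOf S0) (Subgroup.mem_iSup_of_mem
        ⟨inferInstance, ⟨⟨fun x y => ?_⟩⟩⟩ hyP)
      exact Subtype.ext (Subtype.ext (hPc _ x.2 _ y.2).eq)
    · refine Subgroup.mem_iSup_of_mem (L.subgroupOf S0) (Subgroup.mem_iSup_of_mem
        ⟨Subgroup.normal_subgroupOf_of_le_normalizer hLn, ⟨⟨fun x y => ?_⟩⟩⟩ ⟨a, _, hw⟩)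
      exact Subtype.ext (Subtype.ext (hLc _ x.2 _ y.2).eq)
  have hW : Cfsg.inducedFunctor Cfsg.kInfLower S0 = S0 := by
    show (Cfsg.kInfLower S0).map S0.subtype = S0
    rw [(kInf_eq_top hgen).1, ← MonoidHom.range_eq_map, Subgroup.range_subtype]
  -- the fusion not realised in the normalizer
  let J : Matrix.SpecialLinearGroup (Fin 2) (ZMod p) := ⟨!![0, -1; 1, 0], by simp [Matrix.det_fin_two]⟩
  obtain ⟨g, hg⟩ := hsur J 0
  obtain ⟨v, hv⟩ := hsur 1 ![1, 0]
  obtain ⟨v', hv'⟩ := hsur 1 ![0, 1]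
  have hgv : g * v * g⁻¹ = v' := by
    refine mul_inv_eq_iff_eq_mul.2 (hf ?_)
    rw [map_mul, map_mul, hg, hv, hv', affine_mul, affine_mul, mul_one, one_mul]
    congr 1
    funext i; fin_cases i <;> simp [J]
  have hSA := strongAt_of_ctrl kInfLower_isCharPFunctor hctl T
  rw [hTeq] at hSA
  obtain ⟨x, hx, hxe⟩ := hSA {v} g (by
      rintro a rfl; exact hPle ((hP _).2 (hlin hv))) (by
      rintro a rfl; rw [hgv]; exact hPle ((hP _).2 (hlin hv')))
  rw [hW] at hx
  have h10 := htri x hx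
  have h := hxe v rfl
  rw [hgv, mul_inv_eq_iff_eq_mul] at h
  have h' := congrArg f h
  rw [map_mul, map_mul, hfx x, hv, hv', affine_mul, affine_mul] at h'
  have h2 := congrFun (affine_inj h').2 1
  simp [h10] at h2

end CfsgLib.CFun
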