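import Cfsg.Agent.Lib.CFun.OddPLengthOne
import Cfsg.Agent.Lib.CFun.Critical
import Cfsg.Agent.Lib.Coprime.UniqueOrderP
import Cfsg.Agent.Lib.PGroup.RankTwoOmega
import Cfsg.Agent.Lib.PGroup.OmegaOddAut
import Cfsg.Agent.Lib.Block.PSolvableOne
import Cfsg.Agent.Lib.Coprime.Primitive

/-!
# Chief factors of `p`-solvable groups of `p`-rank two
-/

set_option autoImplicit false
set_option linter.style.haveILetI false
set_option linter.unusedSectionVars false

open Subgroup
open scoped commutatorElement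

namespace CfsgLib.RankTwoChief

universe u

/-- A series of normal subgroups all of whose steps have `p`-part at most `p ^ 2`. -/
inductive Chain (p : ℕ) {G : Type u} [Group G] : Subgroup G → Prop
  | bot : Chain p ⊥
  | step {L X : Subgroup G} : Chain p L → X.Normal → L ≤ X → ¬ p ^ 3 ∣ L.relIndex X → Chain p X

variable {G : Type u} [Group G] {p : ℕ}

theorem Chain.normal {X : Subgroup G} (h : Chain p X) : X.Normal := by
  cases h with
  | bot => infer_instance
  | step _ hX _ _ => exact hX

theorem Chain.comap {H : Type u} [Group H] {f : G →* H} (hf : Function.Surjective f)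
    (hk : Chain p f.ker) {X : Subgroup H} (h : Chain p X) : Chain p (X.comap f) := by
  induction h with
  | bot => rwa [MonoidHom.comap_bot]
  | @step L X _ hX hle hd ih =>
    refine Chain.step ih (hX.comap f) (comap_mono hle) ?_
    rwa [relIndex_comap, map_comap_eq_self_of_surjective hf]

theorem Chain.chief [Fact p.Prime] {X : Subgroup G} (h : Chain p X) {H K : Subgroup G} [H.Normal]
    [K.Normal] (hKH : K < H) {n : ℕ} (hn : K.relIndex H = p ^ n)
    (hchief : ∀ L : Subgroup G, L.Normal → K ≤ L → L ≤ H → L = K ∨ L = H) :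
    H ≤ X ⊔ K → n ≤ 2 := by
  induction h with
  | bot =>
    intro hle
    rw [bot_sup_eq] at hle
    exact absurd hle (not_le_of_gt hKH)
  | @step L X hL hX hLX hd ih =>
    intro hle
    haveI := hX
    haveI : L.Normal := hL.normal
    rcases hchief (H ⊓ (L ⊔ K)) inferInstance (le_inf hKH.le le_sup_right) inf_le_left with e | e
    · have hsup : H = K ⊔ (H ⊓ X) := by
        refine le_antisymm (fun g hg => ?_) (sup_le hKH.le inf_le_left)
        obtain ⟨x, hx, k, hk, rfl⟩ := mem_sup_of_normal_right.1 (hle hg)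
        have hxH : x ∈ H := by simpa using mul_mem hg (inv_mem (hKH.le hk))
        exact mul_mem (mem_sup_right ⟨hxH, hx⟩) (mem_sup_left hk)
      have hLH : L ⊓ (H ⊓ X) ≤ K := fun g hg => e.le ⟨hg.2.1, mem_sup_left hg.1⟩
      have h1 : K.relIndex H ∣ L.relIndex (H ⊓ X) := by
        conv_lhs => rw [hsup, sup_comm, relIndex_sup_right]
        rw [← inf_relIndex_right L (H ⊓ X)]
        exact relIndex_dvd_of_le_left (H ⊓ X) hLH
      have h2 : L.relIndex (H ⊓ X) ∣ L.relIndex X := by
        rw [← relIndex_sup_right (H ⊓ X) L, ← relIndex_mul_relIndex L ((H ⊓ X) ⊔ L) X le_sup_right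
          (sup_le inf_le_right hLX)]
        exact Dvd.intro _ rfl
      by_contra hn2
      exact hd ((pow_dvd_pow p (by omega : 3 ≤ n)).trans (hn ▸ h1.trans h2))
    · exact ih (e.ge.trans inf_le_right)

/-- The `p`-central groups with at most `p ^ 2` elements of order dividing `p`. -/
def PCentral (p : ℕ) (R : Type u) [Group R] : Prop :=
  (∀ x : R, x ^ p = 1 → x ∈ center R) ∧ Nat.card {x : R // x ^ p = 1} ≤ p ^ 2

theorem PCentral.congr {R S : Type u} [Group R] [Group S] (e : R ≃* S) (h : PCentral p R) :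
    PCentral p S := by
  refine ⟨fun x hx => mem_center_iff.2 fun g => ?_, le_of_eq_of_le ?_ h.2⟩
  · have h1 := mem_center_iff.1 (h.1 (e.symm x) (by rw [← map_pow, hx, map_one])) (e.symm g)
    rw [← map_mul, ← map_mul] at h1
    exact e.symm.injective h1
  · refine Nat.card_congr (e.toEquiv.subtypeEquiv fun x => ?_).symm
    show x ^ p = 1 ↔ e x ^ p = 1
    rw [← map_pow, MulEquiv.map_eq_one_iff]

/-- The elements of order dividing `p` of a `p`-central group. -/
def omega {R : Type u} [Group R] (h : ∀ x : R, x ^ p = 1 → x ∈ center R) : Subgroup R where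
  carrier := {x | x ^ p = 1}
  one_mem' := one_pow p
  mul_mem' := fun {a b} ha hb => by
    show (a * b) ^ p = 1
    rw [(show Commute a b from mem_center_iff.1 (h b hb) a).mul_pow, show a ^ p = 1 from ha,
      show b ^ p = 1 from hb, one_mul]
  inv_mem' := fun {a} ha => by
    show a⁻¹ ^ p = 1
    rw [inv_pow, show a ^ p = 1 from ha, inv_one]

theorem card_lt_of_injective_not_surjective {α β : Type*} [Finite β] (f : α → β)
    (hf : Function.Injective f) (hs : ¬ Function.Surjective f) : Nat.card α < Nat.card β :=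
  lt_of_le_of_ne (Nat.card_le_card_of_injective f hf) fun e =>
    hs ((Nat.bijective_iff_injective_and_card f).2 ⟨hf, e⟩).2

theorem pow_commutator (hp : p.Prime) (hp2 : p ≠ 2) : ∀ (n : ℕ) (R : Type u) [Group R] [Finite R],
    Nat.card R = n → IsPGroup p R → (∀ x : R, x ^ p = 1 → x ∈ center R) →
    ∀ x : R, (x ^ p) ^ p = 1 → ∀ y : R, (y * x * y⁻¹ * x⁻¹) ^ p = 1 := by
  intro n
  induction n using Nat.strong_induction_on with
  | _ n ih =>
  intro R _ _ hn hR hc x hx y
  haveI : Fact p.Prime := ⟨hp⟩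
  set x' := y * x * y⁻¹ with hx'
  set K := Subgroup.closure ({x, x'} : Set R) with hK
  by_cases hKt : K = ⊤
  · have htop : zpowers x ⊔ frattini R = ⊤ := by
      rw [eq_top_iff, ← hKt, hK, closure_le]
      rintro g (rfl | rfl)
      · exact mem_sup_left (mem_zpowers _)
      · rw [show x' = (y * x * y⁻¹ * x⁻¹) * x by rw [hx']; group]
        exact mul_mem (mem_sup_right (CfsgLib.Coprime.commutator_le_frattini hR
          (commutator_mem_commutator (mem_top y) (mem_top x)))) (mem_sup_left (mem_zpowers x))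
    obtain ⟨i, hi⟩ := mem_zpowers_iff.1
      (frattini_nongenerating htop ▸ mem_top y : y ∈ zpowers x)
    rw [hx', ← hi]
    group
  · have hxK : x ∈ K := subset_closure (Or.inl rfl)
    have hx'K : x' ∈ K := subset_closure (Or.inr rfl)
    have hlt : Nat.card K < n := hn ▸ lt_of_le_of_ne (K.card_le_card_group)
      fun e => hKt (eq_top_of_card_eq K e)
    have h1 := ih (Nat.card K) hlt K rfl (hR.to_subgroup K)
      (fun k hk => mem_center_iff.2 fun g => Subtype.ext
        (mem_center_iff.1 (hc k (by rw [← coe_pow, hk, coe_one])) g))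
      ⟨x, hxK⟩ (Subtype.ext hx) ⟨x'⁻¹, inv_mem hx'K⟩
    have hw : (x'⁻¹ * x * x'⁻¹⁻¹ * x⁻¹) ^ p = 1 := congrArg Subtype.val h1
    set w := x'⁻¹ * x * x'⁻¹⁻¹ * x⁻¹ with hwdef
    have hwc : ∀ g : R, Commute w⁻¹ g := fun g =>
      (show Commute w g from (mem_center_iff.1 (hc w hw) g).symm).inv_left
    have hbg : x⁻¹ * x' = x' * x⁻¹ * w⁻¹ := by rw [hwdef]; group
    have hformula := CfsgLib.Coprime.mul_pow_of_central hwc hbg p
    have hxp : x' ^ p = x ^ p := by
      rw [hx', conj_pow, mem_center_iff.1 (hc _ hx) y, mul_inv_cancel_right]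
    rw [hformula, hxp, inv_pow, mul_inv_cancel, one_mul]
    obtain ⟨m, hm⟩ := hp.dvd_choose_self two_ne_zero (lt_of_le_of_ne hp.two_le (Ne.symm hp2))
    rw [hm, pow_mul, inv_pow, hw, inv_one, one_pow]

theorem PCentral.quotient {R : Type u} [Group R] [Finite R] [hp : Fact p.Prime] (hp2 : p ≠ 2)
    (hR : IsPGroup p R) (h : PCentral p R) [(omega h.1).Normal] :
    PCentral p (R ⧸ omega h.1) := by
  set f := QuotientGroup.mk' (omega h.1) with hf
  have hmem : ∀ x : R, f x ^ p = 1 → (x ^ p) ^ p = 1 := fun x hx => by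
    rw [← map_pow] at hx
    exact (QuotientGroup.eq_one_iff _).1 hx
  have hcomm : ∀ x : R, (x ^ p) ^ p = 1 → ∀ y, (y * x * y⁻¹ * x⁻¹) ^ p = 1 :=
    pow_commutator hp.out hp2 _ R rfl hR h.1
  refine ⟨fun x hx => mem_center_iff.2 fun y => ?_, le_trans ?_ h.2⟩
  · obtain ⟨x, rfl⟩ := QuotientGroup.mk'_surjective _ x
    obtain ⟨y, rfl⟩ := QuotientGroup.mk'_surjective _ y
    have h1 : f (y * x * y⁻¹ * x⁻¹) = 1 :=
      (QuotientGroup.eq_one_iff _).2 (hcomm x (hmem x hx) y)
    rwa [map_mul, map_mul, map_mul, map_inv, map_inv, mul_inv_eq_one, mul_inv_eq_iff_eq_mul] at h1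
  · have hout : ∀ x : R ⧸ omega h.1, f x.out = x := fun x => QuotientGroup.out_eq' x
    refine Nat.card_le_card_of_injective (fun x : {x : R ⧸ omega h.1 // x ^ p = 1} =>
      (⟨x.1.out ^ p, hmem _ (by rw [hout, x.2])⟩ : {y : R // y ^ p = 1})) ?_
    intro a b hab
    have e : a.1.out ^ p = b.1.out ^ p := congrArg Subtype.val hab
    set s := a.1.out
    set t := b.1.out
    have hs : (s⁻¹ ^ p) ^ p = 1 := by
      rw [inv_pow, inv_pow, hmem s (by rw [hout, a.2]), inv_one]
    set c := t * s⁻¹ * t⁻¹ * s⁻¹⁻¹ with hc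
    have hcp : c ^ p = 1 := hcomm s⁻¹ hs t
    have hcc : ∀ g : R, Commute c g := fun g => (mem_center_iff.1 (h.1 c hcp) g).symm
    have hbg : t⁻¹ * s = s * t⁻¹ * c := by rw [hc]; group
    have hformula := CfsgLib.Coprime.mul_pow_of_central hcc hbg p
    obtain ⟨m, hm⟩ := hp.out.dvd_choose_self two_ne_zero
      (lt_of_le_of_ne hp.out.two_le (Ne.symm hp2))
    rw [e, inv_pow, mul_inv_cancel, one_mul, hm, pow_mul, hcp, one_pow] at hformula
    refine Subtype.ext ?_
    rw [← hout a.1, ← hout b.1]
    have h1 : f (s * t⁻¹) = 1 := (QuotientGroup.eq_one_iff _).2 hformula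
    rwa [map_mul, map_inv, mul_inv_eq_one] at h1

/-- A normal `p`-central subgroup with few elements of order `p` has a series with small steps. -/
theorem chain_of_pCentral [hp : Fact p.Prime] (hp2 : p ≠ 2) : ∀ (n : ℕ) (G : Type u) [Group G]
    [Finite G] (Q : Subgroup G), Q.Normal → Nat.card Q = n → IsPGroup p Q → PCentral p Q →
    Chain p Q := by
  intro n
  induction n using Nat.strong_induction_on with
  | _ n ih =>
  intro G _ _ Q hQn hn hQ h
  haveI := hQn
  by_cases hQ0 : Q = ⊥
  · rw [hQ0]; exact Chain.bot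
  haveI hon : (omega h.1).Normal := ⟨fun x hx g => by
    rw [show g * x * g⁻¹ = x by
      rw [mem_center_iff.1 (h.1 x hx) g, mul_inv_cancel_right]]
    exact hx⟩
  set E := (omega h.1).map Q.subtype with hE
  haveI hEn : E.Normal := ⟨by
    rintro _ ⟨x, hx, rfl⟩ g
    refine ⟨⟨g * (x : G) * g⁻¹, hQn.conj_mem _ x.2 g⟩, Subtype.ext ?_, rfl⟩
    show (g * (x : G) * g⁻¹) ^ p = 1
    rw [conj_pow, ← coe_pow, show x ^ p = 1 from hx, coe_one, mul_one, mul_inv_cancel]⟩
  have hEQ : E ≤ Q := map_subtype_le _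
  have hE0 : E ≠ ⊥ := by
    intro h0
    obtain ⟨k, hk⟩ := IsPGroup.iff_card.1 hQ
    have hdvd : p ∣ Nat.card Q := by
      rcases k with _ | k
      · exact absurd (card_eq_one.1 (by rw [hk, pow_zero])) hQ0
      · exact hk ▸ dvd_pow_self p k.succ_ne_zero
    obtain ⟨x, hx⟩ := exists_prime_orderOf_dvd_card' p hdvd
    have hxE : (x : G) ∈ E := ⟨x, show x ^ p = 1 by rw [← hx]; exact pow_orderOf_eq_one x, rfl⟩
    rw [h0, mem_bot, ← coe_one Q, Subtype.coe_inj] at hxE
    rw [hxE, orderOf_one] at hx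
    exact hp.out.one_lt.ne hx
  have hEle : Nat.card E ≤ p ^ 2 := by
    rw [hE, card_map_of_injective Q.subtype_injective]
    exact h.2
  have hchainE : Chain p E := Chain.step Chain.bot hEn bot_le fun hd => by
    rw [relIndex_bot_left] at hd
    exact absurd ((Nat.le_of_dvd Nat.card_pos hd).trans hEle)
      (not_le_of_gt (Nat.pow_lt_pow_right hp.out.one_lt (by omega)))
  set f := QuotientGroup.mk' E with hf
  have hfs : Function.Surjective f := QuotientGroup.mk'_surjective E
  have hker : (f.subgroupMap Q).ker = omega h.1 := by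
    ext x
    rw [MonoidHom.mem_ker, Subtype.ext_iff]
    show f (x : G) = 1 ↔ _
    rw [hf, QuotientGroup.mk'_apply, QuotientGroup.eq_one_iff]
    constructor
    · rintro ⟨y, hy, e⟩
      rwa [Subtype.ext e] at hy
    · exact fun hx => ⟨x, hx, rfl⟩
  have hq : PCentral p (Q.map f) := by
    haveI := hon
    exact ((h.quotient hp2 hQ).congr ((QuotientGroup.quotientMulEquivOfEq hker.symm).trans
      (QuotientGroup.quotientKerEquivOfSurjective _ (MonoidHom.subgroupMap_surjective f Q))))
  have hlt : Nat.card (Q.map f) < n := by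
    refine hn ▸ lt_of_le_of_ne (Nat.le_of_dvd Nat.card_pos (card_map_dvd Q f)) fun e => hE0 ?_
    have hb : Function.Bijective (f.subgroupMap Q) := (Nat.bijective_iff_surjective_and_card _).2
      ⟨MonoidHom.subgroupMap_surjective f Q, e.symm⟩
    rw [hE, ← hker, (MonoidHom.ker_eq_bot_iff _).2 hb.1, Subgroup.map_bot]
  have hrec := ih _ hlt (G ⧸ E) (Q.map f) (hQn.map f hfs) rfl (hQ.map f) hq
  have h2 := Chain.comap hfs (by rw [hf, QuotientGroup.ker_mk']; exact hchainE) hrec
  rwa [comap_map_eq, hf, QuotientGroup.ker_mk', sup_eq_left.2 hEQ] at h2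

variable [Finite G] [hp : Fact p.Prime]

/-- A normal subgroup of order dividing `p ^ 2` has a centraliser of index not divisible
by `p ^ 2`. -/
theorem not_sq_dvd_index {E : Subgroup G} [hEn : E.Normal] (hE : Nat.card E ∣ p ^ 2) :
    ¬ p ^ 2 ∣ (centralizer (E : Set G)).index := by
  set C := centralizer (E : Set G) with hC
  haveI : C.Normal := normal_centralizer
  obtain ⟨S⟩ : Nonempty (Sylow p G) := inferInstance
  have hrel : C.relIndex (S : Subgroup G) ∣ p := by
    obtain ⟨k, hk⟩ := IsPGroup.iff_card.1 S.2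
    obtain ⟨i, -, hi⟩ := (Nat.dvd_prime_pow hp.out).1
      ((relIndex_dvd_card C (S : Subgroup G)).trans (dvd_of_eq hk))
    rw [hi]
    suffices i ≤ 1 from (pow_dvd_pow p this).trans (dvd_of_eq (pow_one p))
    obtain ⟨j, hj2, hjE⟩ := (Nat.dvd_prime_pow hp.out).1 hE
    have hEp : IsPGroup p E := IsPGroup.of_card hjE
    have hES : E ≤ (S : Subgroup G) :=
      (CfsgLib.Coprime.le_pCore hEp).trans (CfsgLib.Coprime.pCore_le_sylow S)
    by_cases hE0 : E = ⊥
    · have h1 : C.relIndex (S : Subgroup G) = 1 := relIndex_eq_one.2 fun s _ =>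
        mem_centralizer_iff.2 fun x hx => by
          rw [SetLike.mem_coe, hE0, mem_bot] at hx
          rw [hx, one_mul, mul_one]
      rw [hi] at h1
      have := (Nat.pow_eq_one.1 h1).resolve_left hp.out.one_lt.ne'
      omega
    haveI : Group.IsNilpotent (S : Subgroup G) := S.2.isNilpotent
    have hL := CfsgLib.Coprime.nilpotent_inf_center_ne_bot' (M := E) (N := (S : Subgroup G)) hES hE0
    set L := E ⊓ centralizer ((S : Subgroup G) : Set G) with hLdef
    by_cases hEL : E ≤ L
    · have h1 : C.relIndex (S : Subgroup G) = 1 := relIndex_eq_one.2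
        (le_centralizer_iff.1 (hEL.trans inf_le_right))
      rw [hi] at h1
      have := (Nat.pow_eq_one.1 h1).resolve_left hp.out.one_lt.ne'
      omega
    obtain ⟨e, heE, heL⟩ := SetLike.not_le_iff_exists.1 hEL
    have hgen : E ≤ L ⊔ zpowers e := by
      obtain ⟨l, hl⟩ := IsPGroup.iff_card.1 (hEp.to_le (inf_le_left : L ≤ E))
      obtain ⟨m, hm⟩ := IsPGroup.iff_card.1
        (hEp.to_le (sup_le inf_le_left (zpowers_le.2 heE) : L ⊔ zpowers e ≤ E))
      have hl1 : 1 ≤ l := by
        by_contra hl0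
        exact hL (card_eq_one.1 (by rw [hl, show l = 0 by omega, pow_zero]))
      have hlt : l < m := by
        refine (Nat.pow_lt_pow_iff_right hp.out.one_lt).1 (hl ▸ hm ▸ ?_)
        refine lt_of_le_of_ne (Nat.card_le_card_of_injective _ (inclusion_injective le_sup_left))
          fun e' => heL ?_
        rw [eq_of_le_of_card_ge le_sup_left e'.ge]
        exact mem_sup_right (mem_zpowers e)
      refine le_of_eq (eq_of_le_of_card_ge (sup_le inf_le_left (zpowers_le.2 heE)) ?_).symm
      rw [hm, hjE]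
      exact Nat.pow_le_pow_right hp.out.pos (by omega)
    have hstab : (S : Subgroup G) ⊓ centralizer ({e} : Set G) ≤ C := by
      intro s hs
      have h1 : L ⊔ zpowers e ≤ centralizer ({s} : Set G) := by
        refine sup_le (fun l hl => mem_centralizer_singleton_iff.2 ?_) (zpowers_le.2
          (mem_centralizer_singleton_iff.2 (mem_centralizer_singleton_iff.1 hs.2).symm))
        exact (mem_centralizer_iff.1 hl.2 s hs.1).symm
      exact mem_centralizer_iff.2 fun x hx => mem_centralizer_singleton_iff.1 (h1 (hgen hx))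
    have hcount : C.relIndex (S : Subgroup G) < p ^ 2 := by
      refine lt_of_lt_of_le ?_ (Nat.le_of_dvd (pow_pos hp.out.pos 2) hE)
      refine lt_of_le_of_lt (le_trans (Nat.le_of_dvd (Nat.pos_of_ne_zero
        index_ne_zero_of_finite) (relIndex_dvd_of_le_left (S : Subgroup G) hstab))
        (le_of_eq (inf_relIndex_left (S : Subgroup G) _))) ?_
      set T := (centralizer ({e} : Set G)).subgroupOf (S : Subgroup G)
      show Nat.card ((S : Subgroup G) ⧸ T) < _
      have hmem : ∀ q : (S : Subgroup G) ⧸ T, (q.out : G) * e * (q.out : G)⁻¹ ∈ E := fun q =>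
        hEn.conj_mem e heE _
      refine (card_lt_of_injective_not_surjective (fun q => (⟨_, hmem q⟩ : E)) ?_
        fun hsurj => ?_)
      · intro a b hab
        have h2 : (a.out : G) * e * (a.out : G)⁻¹ = (b.out : G) * e * (b.out : G)⁻¹ :=
          congrArg Subtype.val hab
        rw [← QuotientGroup.out_eq' a, ← QuotientGroup.out_eq' b]
        refine QuotientGroup.eq.2 (mem_subgroupOf.2 (mem_centralizer_singleton_iff.2 ?_))
        rw [coe_mul, coe_inv]
        calc (a.out : G)⁻¹ * b.out * e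
            = (a.out : G)⁻¹ * ((b.out : G) * e * (b.out : G)⁻¹) * b.out := by group
          _ = (a.out : G)⁻¹ * ((a.out : G) * e * (a.out : G)⁻¹) * b.out := by rw [h2]
          _ = e * ((a.out : G)⁻¹ * b.out) := by group
      · obtain ⟨q, hq⟩ := hsurj 1
        have h3 : (q.out : G) * e * (q.out : G)⁻¹ = 1 := congrArg Subtype.val hq
        rw [mul_inv_eq_one, mul_eq_left] at h3
        exact heL (h3 ▸ one_mem L)
    rw [hi] at hcount
    have := (Nat.pow_lt_pow_iff_right hp.out.one_lt).1 hcount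
    omega
  intro hd
  have h1 : Nat.card (S : Subgroup G) ∣ p * Nat.card C := by
    rw [← CfsgLib.Coprime.card_mul_relIndex (inf_le_right : C ⊓ (S : Subgroup G) ≤ _), inf_relIndex_right,
      mul_comm p]
    exact mul_dvd_mul (card_dvd_of_le inf_le_left) hrel
  rw [S.card_eq_multiplicity, hp.out.pow_dvd_iff_le_factorization
    (Nat.mul_ne_zero hp.out.ne_zero Nat.card_pos.ne'), ← C.card_mul_index,
    Nat.factorization_mul Nat.card_pos.ne' index_ne_zero_of_finite,
    Nat.factorization_mul hp.out.ne_zero Nat.card_pos.ne', Finsupp.add_apply, Finsupp.add_apply,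
    hp.out.factorization, Finsupp.single_eq_same] at h1
  have := (hp.out.pow_dvd_iff_le_factorization index_ne_zero_of_finite).1 hd
  omega

theorem pCentral_of_centralized {Y E : Subgroup G} (hEY : Y ≤ centralizer (E : Set G))
    (hin : ∀ x ∈ Y, x ^ p = 1 → x ∈ E) (hE : Nat.card E ≤ p ^ 2) : PCentral p Y := by
  refine ⟨fun x hx => mem_center_iff.2 fun y => ?_, le_trans ?_ hE⟩
  · exact Subtype.ext (mem_centralizer_iff.1 (hEY y.2) x
      (hin x x.2 (by rw [← coe_pow, hx, coe_one]))).symm
  · refine Nat.card_le_card_of_injective (fun x : {x : Y // x ^ p = 1} =>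
      (⟨((x : Y) : G), hin _ (x : Y).2 (by rw [← coe_pow, x.2, coe_one])⟩ : E)) fun a b hab => ?_
    exact Subtype.ext (Subtype.ext (congrArg Subtype.val hab :))

theorem mem_of_rank (hr : Cfsg.PRankLE p 2 G) {B : Subgroup G} (hB : Nat.card B = p ^ 2)
    (hBc : IsMulCommutative B) (hBe : ∀ b ∈ B, b ^ p = 1) {x : G} (hx : x ^ p = 1)
    (hxB : x ∈ centralizer (B : Set G)) : x ∈ B := by
  have hcomm : ∀ a ∈ B, ∀ b ∈ B, a * b = b * a := fun a ha b hb =>
    congrArg Subtype.val (hBc.is_comm.comm (⟨a, ha⟩ : B) ⟨b, hb⟩)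
  set U := Subgroup.closure ((B : Set G) ∪ {x}) with hU
  have hUc : U ≤ centralizer (U : Set G) := by
    rw [hU, centralizer_closure, closure_le]
    rintro a (ha | rfl)
    · refine mem_centralizer_iff.2 ?_
      rintro b (hb | rfl)
      · exact hcomm b hb a ha
      · exact (mem_centralizer_iff.1 hxB a ha).symm
    · refine mem_centralizer_iff.2 ?_
      rintro b (hb | rfl)
      · exact mem_centralizer_iff.1 hxB b hb
      · rfl
  have h1 := hr U ⟨⟨fun a b => Subtype.ext (mem_centralizer_iff.1 (hUc b.2) a a.2)⟩⟩ fun a ha => by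
    induction ha using Subgroup.closure_induction with
    | mem a ha =>
      rcases ha with ha | ha
      · exact hBe a ha
      · rw [Set.mem_singleton_iff] at ha; rw [ha]; exact hx
    | one => exact one_pow p
    | mul a b ha hb iha ihb =>
      rw [(show Commute a b from (mem_centralizer_iff.1 (hUc hb) a ha)).mul_pow, iha, ihb, one_mul]
    | inv a _ iha => rw [inv_pow, iha, inv_one]
  rw [eq_of_le_of_card_ge (show B ≤ U from fun b hb => subset_closure (Or.inl hb)) (hB ▸ h1)]
  exact subset_closure (Or.inr rfl)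

/-- The series in the reduced case. -/
theorem chain_top_reduced (hp2 : p ≠ 2) (hG : Cfsg.IsPSolvable p G) (hr : Cfsg.PRankLE p 2 G)
    (hcore : Cfsg.pPrimeCore p G = ⊥) : Chain p (⊤ : Subgroup G) := by
  set Q := Cfsg.pCore p G with hQdef
  haveI hQn : Q.Normal := CfsgLib.Coprime.pCore_normal' p
  have hQp : IsPGroup p Q := CfsgLib.Coprime.pCore_isPGroup p
  have hCQ : centralizer (Q : Set G) ≤ Q :=
    CfsgLib.Block.centralizer_pCore_le_of_isPSolvable hG hcore
  obtain ⟨A, hAQ, hAn, -, hApow, hAcl, -, hAcen, hAφ⟩ := CfsgLib.CFun.exists_critical_in hQp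
  haveI := hAn
  have hAp : IsPGroup p A := hQp.to_le hAQ
  have hccomm : ∀ a ∈ A, ∀ b ∈ A, ⁅a, b⁆ ∈ A ∧ ∀ c ∈ A, c * ⁅a, b⁆ = ⁅a, b⁆ * c :=
    fun a ha b hb => ⟨mul_mem (mul_mem (mul_mem ha hb) (inv_mem ha)) (inv_mem hb),
      fun c hc => mem_centralizer_iff.1 (hAcl (commutator_mem_commutator ha hb)) c hc⟩
  -- class two: `(a * b) ^ p = a ^ p * b ^ p`
  have hpow : ∀ a ∈ A, ∀ b ∈ A, (a * b) ^ p = a ^ p * b ^ p := by
    intro a ha b hb
    set c := (⟨⁅b⁻¹, a⁻¹⁆, (hccomm _ (inv_mem hb) _ (inv_mem ha)).1⟩ : A) with hc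
    have hcc : ∀ x : A, Commute c x := fun x => Subtype.ext
      ((hccomm _ (inv_mem hb) _ (inv_mem ha)).2 x x.2).symm
    have hbg : (⟨b, hb⟩ : A) * ⟨a, ha⟩ = ⟨a, ha⟩ * ⟨b, hb⟩ * c := by
      refine Subtype.ext ?_
      show b * a = a * b * ⁅b⁻¹, a⁻¹⁆
      rw [commutatorElement_def]; group
    have h1 := CfsgLib.Coprime.mul_pow_of_central hcc hbg p
    have hcp : c ^ p = 1 := by
      set u := (⟨b⁻¹, inv_mem hb⟩ : A)
      set v := (⟨a⁻¹, inv_mem ha⟩ : A)
      have huv : u * v * u⁻¹ = c * v := by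
        refine Subtype.ext ?_
        show b⁻¹ * a⁻¹ * b⁻¹⁻¹ = ⁅b⁻¹, a⁻¹⁆ * a⁻¹
        rw [commutatorElement_def, inv_mul_cancel_right]
      have h2 : (u * v * u⁻¹) ^ p = (c * v) ^ p := by rw [huv]
      rw [conj_pow, (hcc v).mul_pow] at h2
      have hvc : u * v ^ p = v ^ p * u :=
        Subtype.ext (mem_centralizer_iff.1 (hApow (a⁻¹) (inv_mem ha)).2 u u.2)
      rw [hvc, mul_inv_cancel_right, eq_comm, mul_eq_right] at h2
      exact h2
    obtain ⟨m, hm⟩ := hp.out.dvd_choose_self two_ne_zero
      (lt_of_le_of_ne hp.out.two_le (Ne.symm hp2))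
    rw [hm, pow_mul, hcp, one_pow, mul_one] at h1
    exact congrArg Subtype.val h1
  let D : Subgroup G :=
    { carrier := {x | x ∈ A ∧ x ^ p = 1}
      one_mem' := ⟨one_mem A, one_pow p⟩
      mul_mem' := fun {a b} ha hb => ⟨mul_mem ha.1 hb.1, by rw [hpow a ha.1 b hb.1, ha.2, hb.2,
        one_mul]⟩
      inv_mem' := fun {a} ha => ⟨inv_mem ha.1, by rw [inv_pow, ha.2, inv_one]⟩ }
  have hDA : D ≤ A := fun x hx => hx.1
  haveI hDn : D.Normal := ⟨fun x hx g => ⟨hAn.conj_mem x hx.1 g, by
    rw [conj_pow, hx.2, mul_one, mul_inv_cancel]⟩⟩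
  have hDp : IsPGroup p D := hAp.to_le hDA
  -- elements of order prime to `p` centralising `D` are trivial
  have kernel : ∀ N : Subgroup G, N.Normal →
      (∀ g ∈ N, (orderOf g).Coprime p → g ∈ centralizer (D : Set G)) → N ≤ Q := by
    intro N hNn hN
    haveI := hNn
    have hone : ∀ g ∈ N, (orderOf g).Coprime p → g = 1 := by
      intro g hg hgp
      have hA1 : MulAut.conjNormal (H := A) g = 1 := by
        refine CfsgLib.PGroup.mulAut_eq_one_of_fix_omega hp2 hAp _
          (hgp.coprime_dvd_left (orderOf_map_dvd _ g)) fun x hx => Subtype.ext ?_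
        rw [MulAut.conjNormal_apply]
        rw [← mem_centralizer_iff.1 (hN g hg hgp) x ⟨x.2, by rw [← coe_pow, hx, coe_one]⟩,
          mul_inv_cancel_right]
      have hQ1 : MulAut.conjNormal (H := Q) g = 1 := by
        refine hAφ _ (hgp.coprime_dvd_left (orderOf_map_dvd _ g)) fun a ha => Subtype.ext ?_
        rw [MulAut.conjNormal_apply]
        have := congrArg (fun ψ : MulAut A => ((ψ ⟨a, ha⟩ : A) : G)) hA1
        simpa using this
      have hgC : g ∈ centralizer (Q : Set G) := mem_centralizer_iff.2 fun x hx => by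
        have := congrArg (fun ψ : MulAut Q => ((ψ ⟨x, hx⟩ : Q) : G)) hQ1
        simp only [MulAut.conjNormal_apply, MulAut.one_apply] at this
        exact ((mul_inv_eq_iff_eq_mul).1 this).symm
      obtain ⟨k, hk⟩ := hQp ⟨g, hCQ hgC⟩
      exact orderOf_eq_one_iff.1 (Nat.eq_one_of_dvd_coprimes (hgp.pow_right k) dvd_rfl
        (orderOf_dvd_of_pow_eq_one (congrArg Subtype.val hk)))
    refine CfsgLib.Coprime.le_pCore (IsPGroup.iff_card.2
      ⟨_, Nat.eq_prime_pow_of_unique_prime_dvd Nat.card_pos.ne' fun {q} hq hqd => ?_⟩)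
    by_contra hqp
    haveI := Fact.mk hq
    obtain ⟨x, hx⟩ := exists_prime_orderOf_dvd_card' q hqd
    rw [← orderOf_coe] at hx
    have := hone x x.2 (hx ▸ (Nat.coprime_primes hq hp.out).2 hqp)
    rw [this, orderOf_one] at hx
    exact hq.one_lt.ne hx
  have top_step : ∀ K : Subgroup G, Chain p Q → K ≤ Q → ¬ p ^ 2 ∣ K.index →
      Chain p (⊤ : Subgroup G) := by
    intro K hch hKQ hK
    refine Chain.step hch inferInstance le_top fun hd => hK ?_
    rw [relIndex_top_right] at hd
    exact ((pow_dvd_pow p (by norm_num : 2 ≤ 3)).trans hd).trans (index_dvd_of_le hKQ)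
  have hrkD : ∀ E : Subgroup D, Cfsg.IsElementaryAbelian p E → Nat.card E ≤ p ^ 2 := fun E hE => by
    have he := CfsgLib.Fusion.elementary_map D.subtype hE
    have h1 := hr _ he.1 he.2
    rwa [card_map_of_injective D.subtype_injective] at h1
  have hD3 := CfsgLib.RankTwoOmega.card_le_of_exponent hDp hp2 (fun x => Subtype.ext x.2.2) hrkD
  obtain ⟨i, hi⟩ := IsPGroup.iff_card.1 hDp
  have hi3 : i ≤ 3 := (Nat.pow_le_pow_iff_right hp.out.one_lt).1 (hi ▸ hD3)
  by_cases hi2 : i = 2
  · -- a normal elementary abelian subgroup of order `p ^ 2`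
    rw [hi2] at hi
    have hDc : IsMulCommutative D := IsPGroup.isMulCommutative_of_card_eq_prime_sq hi
    have hidx := not_sq_dvd_index (E := D) (dvd_of_eq hi)
    set C := centralizer (D : Set G) with hC
    haveI : C.Normal := normal_centralizer
    have hCQ' : C ≤ Q := kernel C inferInstance fun g hg _ => hg
    have hY : Chain p C := chain_of_pCentral hp2 _ G C inferInstance rfl (hQp.to_le hCQ')
      (pCentral_of_centralized le_rfl
        (fun x hx hxp => mem_of_rank hr hi hDc (fun b hb => hb.2) hxp hx) hi.le)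
    exact top_step C (Chain.step hY hQn hCQ' fun hd => hidx (((pow_dvd_pow p
      (by norm_num : 2 ≤ 3)).trans hd).trans (relIndex_dvd_index_of_normal C Q))) hCQ' hidx
  by_cases hi3' : i = 3
  · -- an extraspecial subgroup of order `p ^ 3`
    rw [hi3'] at hi
    have hDnc : ¬ IsMulCommutative D := fun hc => by
      have h1 := hr D hc fun a ha => ha.2
      rw [hi, Nat.pow_le_pow_iff_right hp.out.one_lt] at h1
      omega
    obtain ⟨d, hd, e, he, hde⟩ : ∃ d ∈ D, ∃ e ∈ D, d * e ≠ e * d := by
      by_contra! hall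
      exact hDnc ⟨⟨fun a b => Subtype.ext (hall a a.2 b b.2)⟩⟩
    set z := ⁅d, e⁆ with hz
    have hzD : z ∈ D := mul_mem (mul_mem (mul_mem hd he) (inv_mem hd)) (inv_mem he)
    have hzc : ∀ c ∈ A, c * z = z * c := (hccomm d hd.1 e he.1).2
    have hz1 : z ≠ 1 := fun h => hde (commutatorElement_eq_one_iff_mul_comm.1 h)
    have hoz : orderOf z = p := orderOf_eq_prime hzD.2 hz1
    set Z := D ⊓ centralizer (D : Set G) with hZ
    have hzZ : z ∈ Z := ⟨hzD, mem_centralizer_iff.2 fun c hc => hzc c (hDA hc)⟩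
    haveI : (centralizer (D : Set G)).Normal := normal_centralizer
    haveI hZn : Z.Normal := inferInstance
    have hdZ : d ∉ Z := fun h => hde ((mem_centralizer_iff.1 h.2 e he).symm)
    -- the abelian subgroup generated by `Z` and `d`
    set B := Z ⊔ zpowers d with hB
    have hBD : B ≤ D := sup_le inf_le_left (zpowers_le.2 hd)
    have hBc : IsMulCommutative B := by
      have h1 : B ≤ centralizer (B : Set G) := by
        refine sup_le (fun x hx => ?_) (zpowers_le.2 ?_)
        · exact centralizer_le hBD hx.2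
        · refine le_centralizer_iff.1 (sup_le (fun x hx => ?_) (zpowers_le.2 ?_)) (mem_zpowers d)
          · exact mem_centralizer_iff.2 fun c hc => mem_centralizer_iff.1 hx.2 c
              ((zpowers_le.2 hd) hc)
          · exact mem_centralizer_iff.2 fun c hc => by
              obtain ⟨m, rfl⟩ := hc
              exact (Commute.zpow_left (Commute.refl d) m).eq
      exact ⟨⟨fun a b => Subtype.ext (mem_centralizer_iff.1 (h1 b.2) a a.2)⟩⟩
    have hcardB : Nat.card B = p ^ 2 ∧ Nat.card Z = p := by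
      obtain ⟨a, ha⟩ := IsPGroup.iff_card.1 (hDp.to_le (inf_le_left : Z ≤ D))
      obtain ⟨b, hb⟩ := IsPGroup.iff_card.1 (hDp.to_le hBD)
      have ha1 : 1 ≤ a := by
        by_contra h0
        have := card_eq_one.1 (show Nat.card Z = 1 by rw [ha, show a = 0 by omega, pow_zero])
        rw [this, mem_bot] at hzZ
        exact hz1 hzZ
      have hab : a < b := by
        refine (Nat.pow_lt_pow_iff_right hp.out.one_lt).1 (ha ▸ hb ▸ ?_)
        refine lt_of_le_of_ne (Nat.card_le_card_of_injective _ (inclusion_injective le_sup_left))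
          fun e' => hdZ ?_
        rw [eq_of_le_of_card_ge (le_sup_left : Z ≤ B) e'.ge]
        exact mem_sup_right (mem_zpowers d)
      have hb2 : b ≤ 2 :=
        (Nat.pow_le_pow_iff_right hp.out.one_lt).1 (hb ▸ hr B hBc fun x hx => (hBD hx).2)
      rw [ha, hb, show b = 2 by omega, show a = 1 by omega, pow_one]
      exact ⟨rfl, rfl⟩
    have heB : e ∉ B := fun h => hde (congrArg Subtype.val
      (hBc.is_comm.comm (⟨d, mem_sup_right (mem_zpowers d)⟩ : B) ⟨e, h⟩))
    have hgen : D ≤ B ⊔ zpowers e := by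
      refine le_of_eq (eq_of_le_of_card_ge (sup_le hBD (zpowers_le.2 he)) ?_).symm
      obtain ⟨b, hb⟩ := IsPGroup.iff_card.1 (hDp.to_le (sup_le hBD (zpowers_le.2 he)))
      rw [hi, hb]
      refine Nat.pow_le_pow_right hp.out.pos ?_
      have : p ^ 2 < p ^ b := by
        rw [← hcardB.1, ← hb]
        refine lt_of_le_of_ne (Nat.card_le_card_of_injective _ (inclusion_injective le_sup_left))
          fun e' => heB ?_
        rw [eq_of_le_of_card_ge (le_sup_left : B ≤ B ⊔ zpowers e) e'.ge]
        exact mem_sup_right (mem_zpowers e)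
      have := (Nat.pow_lt_pow_iff_right hp.out.one_lt).1 this
      omega
    have hZz : Z = zpowers z := (eq_of_le_of_card_ge (zpowers_le.2 hzZ)
      (by rw [Nat.card_zpowers, hoz, hcardB.2])).symm
    set f := QuotientGroup.mk' Z with hf
    have hfs : Function.Surjective f := QuotientGroup.mk'_surjective Z
    haveI : (D.map f).Normal := hDn.map f hfs
    have hcardDb : Nat.card (D.map f) ∣ p ^ 2 := by
      have h1 := CfsgLib.Coprime.card_eq_card_mul_card_map_mk' Z (inf_le_left : Z ≤ D)
      rw [hi, hcardB.2] at h1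
      exact dvd_of_eq (Nat.eq_of_mul_eq_mul_left hp.out.pos (h1.symm.trans (pow_succ' p 2)))
    set K := (centralizer (D.map f : Set (G ⧸ Z))).comap f with hK
    haveI : (centralizer (D.map f : Set (G ⧸ Z))).Normal := normal_centralizer
    haveI hKn : K.Normal := Normal.comap inferInstance f
    have hact : ∀ g ∈ K, ∀ c ∈ D, g * c * g⁻¹ * c⁻¹ ∈ Z := by
      intro g hg c hc
      refine (QuotientGroup.eq_one_iff _).1 ?_
      show f (g * c * g⁻¹ * c⁻¹) = 1
      rw [map_mul, map_mul, map_mul, map_inv, map_inv,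
        ← mem_centralizer_iff.1 (mem_comap.1 hg) (f c) ⟨c, hc, rfl⟩, mul_inv_cancel_right,
        mul_inv_cancel]
    have hKQ : K ≤ Q := by
      refine kernel K hKn fun g hg hgp => ?_
      have hgz : g * z * g⁻¹ = z := by
        obtain ⟨a, ha⟩ : ∃ a, g * d * g⁻¹ = a * d ∧ a ∈ Z :=
          ⟨_, by group, hact g hg d hd⟩
        obtain ⟨b, hb⟩ : ∃ b, g * e * g⁻¹ = b * e ∧ b ∈ Z :=
          ⟨_, by group, hact g hg e he⟩
        rw [hz, ← MulAut.conj_apply, map_commutatorElement, MulAut.conj_apply, MulAut.conj_apply,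
          ha.1, hb.1, commutatorElement_def, commutatorElement_def]
        have ha' : ∀ c ∈ D, c * a = a * c := mem_centralizer_iff.1 ha.2.2
        have hb' : ∀ c ∈ D, c * b = b * c := mem_centralizer_iff.1 hb.2.2
        have e1 : a * d * (b * e) = a * b * (d * e) := by
          rw [mul_assoc a d, ← mul_assoc d b e, hb' d hd]; group
        have e2 : b * e * (a * d) = a * b * (e * d) :=
          calc b * e * (a * d) = b * (e * a) * d := by group
            _ = b * (a * e) * d := by rw [ha' e he]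
            _ = b * a * (e * d) := by group
            _ = a * b * (e * d) := by rw [ha' b hb.2.1]
        calc a * d * (b * e) * (a * d)⁻¹ * (b * e)⁻¹
            = a * d * (b * e) * (b * e * (a * d))⁻¹ := by group
          _ = a * b * (d * e) * (a * b * (e * d))⁻¹ := by rw [e1, e2]
          _ = a * b * (d * e * d⁻¹ * e⁻¹) * (a * b)⁻¹ := by group
          _ = d * e * d⁻¹ * e⁻¹ := by
            have h5 : (d * e * d⁻¹ * e⁻¹) * (a * b) = a * b * (d * e * d⁻¹ * e⁻¹) :=
              ((show Commute (d * e * d⁻¹ * e⁻¹) a from ha' _ hzD).mul_right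
                (hb' _ hzD)).eq
            rw [← h5, mul_inv_cancel_right]
      refine mem_centralizer_iff.2 fun c hc => ?_
      set w := g * c * g⁻¹ * c⁻¹ with hw
      have hwZ : w ∈ Z := hact g hg c hc
      have hgw : g * w * g⁻¹ = w := by
        rw [hZz] at hwZ
        obtain ⟨m, hm⟩ := hwZ
        rw [← hm, ← conj_zpow, hgz]
      have hiter : ∀ k : ℕ, g ^ k * c * (g ^ k)⁻¹ = w ^ k * c := by
        intro k
        induction k with
        | zero => simp
        | succ k ih =>
          rw [pow_succ' g, show g * g ^ k * c * (g * g ^ k)⁻¹ = g * (g ^ k * c * (g ^ k)⁻¹) * g⁻¹ by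
            group, ih, show g * (w ^ k * c) * g⁻¹ = (g * w * g⁻¹) ^ k * (g * c * g⁻¹) by
            rw [conj_pow]; group, hgw, show g * c * g⁻¹ = w * c by rw [hw]; group, ← mul_assoc,
            ← pow_succ]
      have h0 := hiter (orderOf g)
      rw [pow_orderOf_eq_one, one_mul, inv_one, mul_one, eq_comm, mul_eq_right] at h0
      have hw1 : w = 1 := orderOf_eq_one_iff.1 (Nat.eq_one_of_dvd_coprimes hgp
        (orderOf_dvd_of_pow_eq_one h0) (orderOf_dvd_of_pow_eq_one hwZ.1.2))
      rw [hw, mul_inv_eq_one, mul_inv_eq_iff_eq_mul] at hw1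
      exact hw1.symm
    have hidx : ¬ p ^ 2 ∣ K.index := by
      rw [hK, index_comap_of_surjective _ hfs]
      exact not_sq_dvd_index hcardDb
    set Y := centralizer (D : Set G) with hY
    have hYK : Y ≤ K := by
      intro g hg
      refine mem_comap.2 (mem_centralizer_iff.2 ?_)
      rintro _ ⟨c, hc, rfl⟩
      rw [← map_mul, ← map_mul, mem_centralizer_iff.1 hg c hc]
    have hchY : Chain p Y := chain_of_pCentral hp2 _ G Y inferInstance rfl
      (hQp.to_le (hYK.trans hKQ)) (pCentral_of_centralized (E := Z) (centralizer_le inf_le_left)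
        (fun x hx hxp => ⟨hBD (mem_of_rank hr hcardB.1 hBc (fun b hb => (hBD hb).2) hxp
          (centralizer_le hBD hx)), hx⟩)
        (by rw [hcardB.2]; exact Nat.le_self_pow two_ne_zero p))
    have hYKidx : Y.relIndex K ≤ p ^ 2 := by
      show Nat.card (K ⧸ Y.subgroupOf K) ≤ _
      rw [sq, ← hcardB.2, ← Nat.card_prod]
      refine Nat.card_le_card_of_injective (fun q : K ⧸ Y.subgroupOf K =>
        ((⟨_, hact q.out q.out.2 d hd⟩, ⟨_, hact q.out q.out.2 e he⟩) : Z × Z)) ?_
      intro a b hab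
      have h1 := congrArg (fun w : Z × Z => (w.1 : G)) hab
      have h2 := congrArg (fun w : Z × Z => (w.2 : G)) hab
      simp only [mul_left_inj] at h1 h2
      rw [← QuotientGroup.out_eq' a, ← QuotientGroup.out_eq' b]
      refine QuotientGroup.eq.2 (mem_subgroupOf.2 ?_)
      set k := ((a.out⁻¹ * b.out : K) : G) with hk
      have hkd : ∀ c : G, (a.out : G) * c * (a.out : G)⁻¹ = (b.out : G) * c * (b.out : G)⁻¹ →
          k ∈ centralizer ({c} : Set G) := by
        intro c h3
        refine mem_centralizer_singleton_iff.2 ?_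
        rw [hk, coe_mul, coe_inv]
        calc (a.out : G)⁻¹ * b.out * c
            = (a.out : G)⁻¹ * ((b.out : G) * c * (b.out : G)⁻¹) * b.out := by group
          _ = (a.out : G)⁻¹ * ((a.out : G) * c * (a.out : G)⁻¹) * b.out := by rw [h3]
          _ = c * ((a.out : G)⁻¹ * b.out) := by group
      have hall : B ⊔ zpowers e ≤ centralizer ({k} : Set G) := by
        refine sup_le (sup_le ?_ (zpowers_le.2 ?_)) (zpowers_le.2 ?_)
        · intro x hx
          refine mem_centralizer_singleton_iff.2 ?_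
          have hgx : ∀ g ∈ K, g * z * g⁻¹ = z → g * x * g⁻¹ = x := fun g _ h4 => by
            rw [hZz] at hx
            obtain ⟨m, rfl⟩ := hx
            show g * z ^ m * g⁻¹ = z ^ m
            rw [← conj_zpow, h4]
          have hkz : k * z * k⁻¹ = z := by
            have hkd' := mem_centralizer_singleton_iff.1 (hkd d h1)
            have hke' := mem_centralizer_singleton_iff.1 (hkd e h2)
            rw [hz, ← MulAut.conj_apply, map_commutatorElement, MulAut.conj_apply,
              MulAut.conj_apply, hkd', hke', mul_inv_cancel_right, mul_inv_cancel_right]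
          exact (mul_inv_eq_iff_eq_mul.1 (hgx k (a.out⁻¹ * b.out).2 hkz)).symm
        · exact mem_centralizer_singleton_iff.2 (mem_centralizer_singleton_iff.1 (hkd d h1)).symm
        · exact mem_centralizer_singleton_iff.2 (mem_centralizer_singleton_iff.1 (hkd e h2)).symm
      exact mem_centralizer_iff.2 fun c hc => mem_centralizer_singleton_iff.1 (hall (hgen hc))
    have hchK : Chain p K := Chain.step hchY hKn hYK fun hd => by
      have h1 := Nat.le_of_dvd (Nat.pos_of_ne_zero index_ne_zero_of_finite) hd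
      exact absurd (h1.trans hYKidx)
        (not_le_of_gt (Nat.pow_lt_pow_right hp.out.one_lt (by omega)))
    refine top_step K (Chain.step hchK hQn hKQ fun hd => hidx (((pow_dvd_pow p
      (by norm_num : 2 ≤ 3)).trans hd).trans (relIndex_dvd_index_of_normal K Q))) hKQ hidx
  -- at most `p` elements of order dividing `p` in the critical subgroup
  have hi1 : i ≤ 1 := by omega
  have hcomm : ∀ a ∈ A, ∀ b ∈ A, a * b = b * a := by
    haveI : IsCyclic A := by
      refine CfsgLib.Coprime.isCyclic_of_unique_odd hp2 hAp fun x y hx hy hx1 => ?_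
      have hxD : (x : G) ∈ D := ⟨x.2, by rw [← coe_pow, hx, coe_one]⟩
      have hyD : (y : G) ∈ D := ⟨y.2, by rw [← coe_pow, hy, coe_one]⟩
      have hox : orderOf (x : G) = p := by
        rw [orderOf_coe]; exact orderOf_eq_prime hx hx1
      have h1 : zpowers (x : G) = D := eq_of_le_of_card_ge (zpowers_le.2 hxD) (by
        rw [hi, Nat.card_zpowers, hox]
        exact (Nat.pow_le_pow_right hp.out.pos hi1).trans (pow_one p).le)
      rw [← h1] at hyD
      obtain ⟨m, hm⟩ := hyD
      exact ⟨m, Subtype.ext (by rw [← hm, coe_zpow])⟩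
    intro a ha b hb
    letI := IsCyclic.commGroup (α := A)
    exact congrArg Subtype.val (mul_comm (⟨a, ha⟩ : A) ⟨b, hb⟩)
  have hDA' : D ≤ centralizer (A : Set G) := fun x hx => mem_centralizer_iff.2 fun y hy =>
    hcomm y hy x hx.1
  haveI hAcyc : IsCyclic A := by
    refine CfsgLib.Coprime.isCyclic_of_unique_odd hp2 hAp fun x y hx hy hx1 => ?_
    have hxD : (x : G) ∈ D := ⟨x.2, by rw [← coe_pow, hx, coe_one]⟩
    have hyD : (y : G) ∈ D := ⟨y.2, by rw [← coe_pow, hy, coe_one]⟩
    have hox : orderOf (x : G) = p := by rw [orderOf_coe]; exact orderOf_eq_prime hx hx1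
    have h1 : zpowers (x : G) = D := eq_of_le_of_card_ge (zpowers_le.2 hxD) (by
      rw [hi, Nat.card_zpowers, hox]
      exact (Nat.pow_le_pow_right hp.out.pos hi1).trans (pow_one p).le)
    rw [← h1] at hyD
    obtain ⟨m, hm⟩ := hyD
    exact ⟨m, Subtype.ext (by rw [← hm, coe_zpow])⟩
  have hidx := not_sq_dvd_index (E := D) (hi ▸ pow_dvd_pow p (by omega : i ≤ 2))
  haveI : (centralizer (D : Set G)).Normal := normal_centralizer
  have hCQ' : centralizer (D : Set G) ≤ Q := kernel _ inferInstance fun g hg _ => hg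
  have hchA : Chain p A := by
    refine chain_of_pCentral hp2 _ G A hAn rfl hAp (pCentral_of_centralized (E := D) ?_ ?_ ?_)
    · exact le_centralizer_iff.1 hDA'
    · exact fun x hx hxp => ⟨hx, hxp⟩
    · exact hi ▸ Nat.pow_le_pow_right hp.out.pos (by omega)
  set f := QuotientGroup.mk' A with hf
  have hfs : Function.Surjective f := QuotientGroup.mk'_surjective A
  let φ : Q →* MulAut A := (MulAut.conjNormal (H := A)).comp Q.subtype
  have hφker : φ.ker = (f.subgroupMap Q).ker := by
    ext q
    rw [MonoidHom.mem_ker, MonoidHom.mem_ker, Subtype.ext_iff]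
    show MulAut.conjNormal (H := A) (q : G) = 1 ↔ f (q : G) = 1
    rw [hf, QuotientGroup.mk'_apply, QuotientGroup.eq_one_iff]
    constructor
    · intro hq
      have h1 : (q : G) ∈ Q ⊓ centralizer (A : Set G) := ⟨q.2, mem_centralizer_iff.2 fun y hy => by
        have := congrArg (fun ψ : MulAut A => ((ψ ⟨y, hy⟩ : A) : G)) hq
        simp only [MulAut.conjNormal_apply, MulAut.one_apply] at this
        exact ((mul_inv_eq_iff_eq_mul).1 this).symm⟩
      rw [hAcen] at h1
      exact h1.1
    · intro hq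
      refine MulEquiv.ext fun y => Subtype.ext ?_
      rw [MulAut.conjNormal_apply, MulAut.one_apply, hcomm _ hq _ y.2, mul_inv_cancel_right]
  haveI hMcyc : IsCyclic (MulAut A) := by
    obtain ⟨k, hk⟩ := IsPGroup.iff_card.1 hAp
    have h2 : IsCyclic (ZMod (Nat.card A))ˣ := by
      rw [hk]; exact ZMod.isCyclic_units_of_prime_pow p hp.out hp2 k
    exact (IsCyclic.mulAutMulEquiv A).isCyclic.2 h2
  haveI : IsCyclic φ.range := inferInstance
  haveI hQcyc : IsCyclic (Q.map f) :=
    (((QuotientGroup.quotientKerEquivRange φ).symm.trans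
      (QuotientGroup.quotientMulEquivOfEq hφker)).trans
        (QuotientGroup.quotientKerEquivOfSurjective _ (MonoidHom.subgroupMap_surjective f Q))).isCyclic.1
      inferInstance
  have hPC : PCentral p (Q.map f) := by
    letI := IsCyclic.commGroup (α := (Q.map f : Subgroup (G ⧸ A)))
    refine ⟨fun x _ => mem_center_iff.2 fun y => mul_comm y x, ?_⟩
    classical
    haveI := Fintype.ofFinite (Q.map f : Subgroup (G ⧸ A))
    rw [Nat.card_eq_fintype_card, Fintype.card_subtype]
    exact (IsCyclic.card_pow_eq_one_le hp.out.pos).trans (Nat.le_self_pow two_ne_zero p)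
  have hrec := chain_of_pCentral hp2 _ (G ⧸ A) (Q.map f) (hQn.map f hfs) rfl (hQp.map f) hPC
  have h2 := Chain.comap hfs (by rw [hf, QuotientGroup.ker_mk']; exact hchA) hrec
  rw [comap_map_eq, hf, QuotientGroup.ker_mk', sup_eq_left.2 hAQ] at h2
  exact top_step _ h2 hCQ' hidx

theorem chain_top (hp2 : p ≠ 2) (hG : Cfsg.IsPSolvable p G) (hr : Cfsg.PRankLE p 2 G) :
    Chain p (⊤ : Subgroup G) := by
  set O := Cfsg.pPrimeCore p G
  haveI : O.Normal := Subgroup.sSup_normal _ fun _ h => h.1
  set f := QuotientGroup.mk' O with hf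
  have h0 : Chain p f.ker := by
    rw [hf, QuotientGroup.ker_mk']
    refine Chain.step Chain.bot inferInstance bot_le fun hd => ?_
    rw [relIndex_bot_left] at hd
    exact CfsgLib.Coprime.pPrimeCore_not_dvd hp.out ((dvd_pow_self p (by omega)).trans hd)
  have h := chain_top_reduced hp2 (CfsgLib.PGroup.isPSolvable_quotient hp.out hG O)
    (CfsgLib.CFun.pRankLE_quotient_pPrimeCore hr) (CfsgLib.Coprime.pPrimeCore_quotient_eq_bot hp.out)
  simpa using Chain.comap (QuotientGroup.mk'_surjective O) h0 h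

end CfsgLib.RankTwoChief
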