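import Cfsg.Agent.Lib.CFun.Tools
import Cfsg.Prelude.Def_PLocal
import Mathlib.Algebra.Ring.GeomSum
import Mathlib.GroupTheory.QuotientGroup.Basic

/-!
# Iterated commutators with an element as powers of an endomorphism of an abelian section
-/

set_option autoImplicit false

open Subgroup
open scoped commutatorElement

namespace CfsgLib.CFun

universe u

variable {G : Type u} [Group G]

/-- The additive commutative group structure of an abelian subgroup. -/
@[reducible] def addCommGroupOfCommute (U : Subgroup G) (h : ∀ a ∈ U, ∀ b ∈ U, Commute a b) :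
    AddCommGroup (Additive U) :=
  { (inferInstance : AddGroup (Additive U)) with
    add_comm := fun a b => Subtype.ext (h a.toMul a.toMul.2 b.toMul b.toMul.2) }

/-- The value of an element of the additive group in `G`. -/
abbrev val' (U : Subgroup G) (x : Additive U) : G := (Additive.toMul x : U)

theorem iterCommutator_map {H : Type*} [Group H] (f : G →* H) (N K : Subgroup G) (n : ℕ) :
    (Cfsg.iterCommutator N K n).map f = Cfsg.iterCommutator (N.map f) (K.map f) n := by
  induction n with
  | zero => rfl
  | succ n ih =>
    show (⁅Cfsg.iterCommutator N K n, K⁆).map f = ⁅Cfsg.iterCommutator (N.map f) (K.map f) n, K.map f⁆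
    rw [map_commutator, ih]

theorem iterCommutator_mono {N N' K K' : Subgroup G} (hN : N ≤ N') (hK : K ≤ K') (n : ℕ) :
    Cfsg.iterCommutator N K n ≤ Cfsg.iterCommutator N' K' n := by
  induction n with
  | zero => exact hN
  | succ n ih => exact commutator_mono ih hK

theorem iterCommutator_le_of_le_normalizer {N K : Subgroup G} (h : K ≤ normalizer (N : Set G))
    (n : ℕ) : Cfsg.iterCommutator N K n ≤ N ∧
      K ≤ normalizer ((Cfsg.iterCommutator N K n : Subgroup G) : Set G) := by
  induction n with
  | zero => exact ⟨le_rfl, h⟩
  | succ n ih =>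
    exact ⟨((le_normalizer_iff_commutator_le_left.1 ih.2)).trans ih.1,
      normalizer_commutator_ge_right _ _⟩

/-- Modulo a normal subgroup, an iterated commutator is trivial iff it lies in that subgroup. -/
theorem iterCommutator_le_iff (V U K : Subgroup G) [V.Normal] (n : ℕ) :
    Cfsg.iterCommutator U K n ≤ V ↔ Cfsg.iterCommutator (U.map (QuotientGroup.mk' V))
      (K.map (QuotientGroup.mk' V)) n = ⊥ := by
  rw [← iterCommutator_map, Subgroup.map_eq_bot_iff, QuotientGroup.ker_mk']


/-- Conjugation by `g` as an endomorphism of the abelian subgroup. -/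
def secEnd (U : Subgroup G) [U.Normal] (hU : ∀ a ∈ U, ∀ b ∈ U, Commute a b) (g : G) : letI := addCommGroupOfCommute U hU; AddMonoid.End (Additive U) :=
  letI := addCommGroupOfCommute U hU
  MonoidHom.toAdditive (MulAut.conjNormal g : MulAut U).toMonoidHom

theorem secEnd_apply (U : Subgroup G) [U.Normal] (hU : ∀ a ∈ U, ∀ b ∈ U, Commute a b) (g : G)
    (x : Additive U) :
    letI := addCommGroupOfCommute U hU
    val' U (secEnd U hU g x) = g * val' U x * g⁻¹ :=
  MulAut.conjNormal_apply g _

theorem secEnd_pow_apply (U : Subgroup G) [U.Normal] (hU : ∀ a ∈ U, ∀ b ∈ U, Commute a b) (g : G)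
    (k : ℕ) (x : Additive U) :
    letI := addCommGroupOfCommute U hU
    val' U ((secEnd U hU g ^ k) x) = g ^ k * val' U x * (g ^ k)⁻¹ := by
  letI := addCommGroupOfCommute U hU
  induction k with
  | zero => simp [val']
  | succ k ih =>
    show val' U ((secEnd U hU g ^ (k + 1)) x) = _
    rw [pow_succ' (secEnd U hU g)]
    show val' U (secEnd U hU g ((secEnd U hU g ^ k) x)) = _
    rw [secEnd_apply, ih, pow_succ' g]
    group

theorem sub_one_apply (U : Subgroup G) [U.Normal] (hU : ∀ a ∈ U, ∀ b ∈ U, Commute a b) (g : G)
    (x : Additive U) :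
    letI := addCommGroupOfCommute U hU
    val' U ((secEnd U hU g - 1) x) = ⁅g, val' U x⁆ := by
  letI := addCommGroupOfCommute U hU
  show val' U (secEnd U hU g x - x) = _
  rw [sub_eq_add_neg]
  show val' U (secEnd U hU g x) * (val' U x)⁻¹ = _
  rw [secEnd_apply, commutatorElement_def]

/-- An iterated commutator with a cyclic group vanishes iff the power of `g - 1` does. -/
theorem iterCommutator_eq_bot_iff (U : Subgroup G) [U.Normal] (hU : ∀ a ∈ U, ∀ b ∈ U, Commute a b) (g : G)
    [Finite G] (n : ℕ) :
    letI := addCommGroupOfCommute U hU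
    Cfsg.iterCommutator U (zpowers g) n = ⊥ ↔ (secEnd U hU g - 1) ^ n = 0 := by
  letI := addCommGroupOfCommute U hU
  set D := secEnd U hU g - 1 with hD
  have hn : zpowers g ≤ normalizer (U : Set G) := by
    rw [Subgroup.normalizer_eq_top U]; exact le_top
  constructor
  · intro h
    have key : ∀ m, ∀ x : Additive U, val' U ((D ^ m) x) ∈ Cfsg.iterCommutator U (zpowers g) m := by
      intro m
      induction m with
      | zero => intro x; exact (Additive.toMul x).2
      | succ m ih =>
        intro x
        rw [pow_succ' D]
        show val' U (D ((D ^ m) x)) ∈ ⁅Cfsg.iterCommutator U (zpowers g) m, zpowers g⁆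
        rw [hD, sub_one_apply, ← commutatorElement_inv]
        exact inv_mem (commutator_mem_commutator (ih x) (mem_zpowers g))
    refine AddMonoidHom.ext fun x => ?_
    have := key n x
    rw [h, mem_bot] at this
    exact Additive.toMul.injective (Subtype.ext this)
  · intro h
    have key : ∀ m, ∀ y ∈ Cfsg.iterCommutator U (zpowers g) m,
        ∃ x : Additive U, val' U ((D ^ m) x) = y := by
      intro m
      induction m with
      | zero => intro y hy; exact ⟨Additive.ofMul ⟨y, hy⟩, by rw [pow_zero]; rfl⟩
      | succ m ih =>
        intro y hy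
        let R : Subgroup G :=
          { carrier := {y | ∃ x : Additive U, val' U ((D ^ (m + 1)) x) = y}
            one_mem' := ⟨0, by rw [map_zero]; rfl⟩
            mul_mem' := by
              rintro _ _ ⟨a, rfl⟩ ⟨b, rfl⟩
              exact ⟨a + b, by rw [map_add]; rfl⟩
            inv_mem' := by
              rintro _ ⟨a, rfl⟩
              exact ⟨-a, by rw [map_neg]; rfl⟩ }
        have hle : ⁅Cfsg.iterCommutator U (zpowers g) m, zpowers g⁆ ≤ R := by
          rw [commutator_le]
          intro z hz w hw
          obtain ⟨x, rfl⟩ := ih z hz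
          obtain ⟨k, rfl⟩ := (isOfFinOrder_of_finite g).mem_powers_iff_mem_zpowers.2 hw
          refine ⟨-((Finset.range k).sum fun i => secEnd U hU g ^ i) x, ?_⟩
          show val' U ((D ^ (m + 1)) _) = ⁅val' U ((D ^ m) x), g ^ k⁆
          have hc : D ^ m * ((Finset.range k).sum fun i => secEnd U hU g ^ i) =
              ((Finset.range k).sum fun i => secEnd U hU g ^ i) * D ^ m := by
            refine (Commute.pow_left ?_ m).eq
            refine Commute.sum_right _ _ _ fun i _ => ?_
            exact (((Commute.refl (secEnd U hU g)).sub_left (Commute.one_left _)).pow_right i)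
          have e : (D ^ (m + 1)) (-((Finset.range k).sum fun i => secEnd U hU g ^ i) x) =
              -((secEnd U hU g ^ k - 1) ((D ^ m) x)) := by
            rw [map_neg, ← geom_sum_mul]
            congr 1
            show (D ^ (m + 1) * (Finset.range k).sum fun i => secEnd U hU g ^ i) x =
              (((Finset.range k).sum fun i => secEnd U hU g ^ i) * D * D ^ m) x
            rw [mul_assoc _ D, ← pow_succ' D]
            congr 1
            refine (Commute.pow_left ?_ (m + 1)).eq
            refine Commute.sum_right _ _ _ fun i _ => ?_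
            exact (((Commute.refl (secEnd U hU g)).sub_left (Commute.one_left _)).pow_right i)
          rw [e]
          show val' U (-((secEnd U hU g ^ k) ((D ^ m) x) - (D ^ m) x)) = _
          rw [neg_sub, sub_eq_add_neg]
          show val' U ((D ^ m) x) * (val' U ((secEnd U hU g ^ k) ((D ^ m) x)))⁻¹ = _
          rw [secEnd_pow_apply, commutatorElement_def]
          group
        exact hle hy
    rw [eq_bot_iff]
    intro y hy
    obtain ⟨x, rfl⟩ := key n y hy
    rw [h, mem_bot]
    rfl

end CfsgLib.CFun
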