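import Mathlib

/-!
# Groups of order 320 with derived group of order 64

Such a group, when the centre of the derived group is a four-group, is determined up to isomorphism:
it is generated by an element `g` of order five and an element `x` of order four subject to relations
that do not depend on the group.
-/

set_option autoImplicit false

open Subgroup
open scoped commutatorElement

universe u v

namespace CfsgLib.CFun.Split320

variable {H : Type*} [Group H]

/-- The `i`-th translate of `x` under `g`. -/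
def tr (g x : H) (i : ℕ) : H := g ^ i * x * (g ^ i)⁻¹

theorem tr_zero (g x : H) : tr g x 0 = x := by simp [tr]

theorem conj_tr (g x : H) (i : ℕ) : g * tr g x i * g⁻¹ = tr g x (i + 1) := by
  simp [tr, pow_succ', mul_assoc]

/-- The relations. -/
structure Rel (g x b₁ b₂ : H) : Prop where
  g5 : g ^ 5 = 1
  b1 : b₁ * b₁ = 1
  b2 : b₂ * b₂ = 1
  b1g : Commute b₁ g
  b1x : Commute b₁ x
  b2g : Commute b₂ g
  b2x : Commute b₂ x
  sq : x * x = b₁ * b₂
  c1 : x * tr g x 1 = b₁ * (tr g x 1 * x)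
  c2 : x * tr g x 2 = b₂ * (tr g x 2 * x)
  c3 : x * tr g x 3 = b₂ * (tr g x 3 * x)
  sum : x * tr g x 1 * tr g x 2 * tr g x 3 * tr g x 4 = 1

theorem card_sup_zpowers_le [Finite H] {K : Subgroup H} {y : H}
    (hn : y ∈ normalizer (K : Set H)) (hy : y * y ∈ K) :
    Nat.card ↥(K ⊔ zpowers y) ≤ 2 * Nat.card K := by
  classical
  let T : Subgroup H :=
    { carrier := {h | h ∈ K ∨ h * y⁻¹ ∈ K}
      one_mem' := Or.inl K.one_mem
      mul_mem' := by
        intro a b ha hb
        rcases ha with ha | ha <;> rcases hb with hb | hb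
        · exact Or.inl (K.mul_mem ha hb)
        · exact Or.inr (by rw [mul_assoc]; exact K.mul_mem ha hb)
        · refine Or.inr ?_
          rw [show a * b * y⁻¹ = a * y⁻¹ * (y * b * y⁻¹) by group]
          exact K.mul_mem ha ((mem_normalizer_iff.1 hn b).1 hb)
        · refine Or.inl ?_
          rw [show a * b = a * y⁻¹ * (y * (b * y⁻¹) * y⁻¹) * (y * y) by group]
          exact K.mul_mem (K.mul_mem ha ((mem_normalizer_iff.1 hn _).1 hb)) hy
      inv_mem' := by
        intro a ha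
        rcases ha with ha | ha
        · exact Or.inl (K.inv_mem ha)
        · refine Or.inr ?_
          have h1 := (mem_normalizer_iff.1 ((normalizer (K : Set H)).inv_mem hn) _).1 (K.inv_mem ha)
          rw [show a⁻¹ * y⁻¹ = y⁻¹ * (a * y⁻¹)⁻¹ * y⁻¹⁻¹ * (y * y)⁻¹ by group]
          exact K.mul_mem h1 (K.inv_mem hy) }
  have hle : K ⊔ zpowers y ≤ T :=
    sup_le (fun h hh => Or.inl hh) (zpowers_le.2 (Or.inr (by simp)))
  refine (Subgroup.card_le_of_le hle).trans ?_
  have hsurj : Function.Surjective (fun p : Bool × K => (⟨if p.1 then (p.2 : H) * y else p.2, by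
      obtain ⟨b, k⟩ := p
      cases b
      · exact Or.inl k.2
      · exact Or.inr (by simp)⟩ : T)) := by
    rintro ⟨h, hh⟩
    rcases hh with hh | hh
    · exact ⟨(false, ⟨h, hh⟩), rfl⟩
    · exact ⟨(true, ⟨h * y⁻¹, hh⟩), Subtype.ext (by simp)⟩
  refine (Nat.card_le_card_of_surjective _ hsurj).trans ?_
  rw [Nat.card_prod, Nat.card_eq_fintype_card, Fintype.card_bool]

/-- conjugating a relation between translates -/
theorem conj_rel {g x b : H} (hbg : Commute b g) {i j : ℕ} (k : ℕ)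
    (h : tr g x i * tr g x j = b * (tr g x j * tr g x i)) :
    tr g x (i + k) * tr g x (j + k) = b * (tr g x (j + k) * tr g x (i + k)) := by
  induction k with
  | zero => simpa using h
  | succ k ih =>
    rw [← add_assoc, ← add_assoc, ← conj_tr g x (i + k), ← conj_tr g x (j + k)]
    calc g * tr g x (i + k) * g⁻¹ * (g * tr g x (j + k) * g⁻¹)
        = g * (tr g x (i + k) * tr g x (j + k)) * g⁻¹ := by group
      _ = g * b * g⁻¹ * (g * tr g x (j + k) * g⁻¹ * (g * tr g x (i + k) * g⁻¹)) := by rw [ih]; group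
      _ = _ := by rw [hbg.symm.eq, mul_inv_cancel_right]

/-- The relations bound the order of the generated group by 320. -/
theorem card_closure_le [Finite H] {g x b₁ b₂ : H} (h : Rel g x b₁ b₂) :
    Nat.card ↥(closure ({g, x} : Set H)) ≤ 320 := by
  have ctr : ∀ b : H, Commute b g → Commute b x → ∀ i, Commute b (tr g x i) := fun b hg hx i =>
    ((hg.pow_right i).mul_right hx).mul_right (hg.pow_right i).inv_right
  have hbb : Commute b₁ b₂ := by
    have h1 : b₂ = b₁ * (x * x) := by rw [h.sq, ← mul_assoc, h.b1, one_mul]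
    rw [h1]; exact (Commute.refl b₁).mul_right (h.b1x.mul_right h.b1x)
  have hsq : ∀ i, tr g x i * tr g x i = b₁ * b₂ := by
    intro i
    show g ^ i * x * (g ^ i)⁻¹ * (g ^ i * x * (g ^ i)⁻¹) = _
    rw [show g ^ i * x * (g ^ i)⁻¹ * (g ^ i * x * (g ^ i)⁻¹) = g ^ i * (x * x) * (g ^ i)⁻¹ by group, h.sq,
      ((h.b1g.mul_left h.b2g).pow_right i).symm.eq, mul_inv_cancel_right]
  have e0 : tr g x 0 = x := tr_zero g x
  have r01 : tr g x 0 * tr g x 1 = b₁ * (tr g x 1 * tr g x 0) := by rw [e0]; exact h.c1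
  have r02 : tr g x 0 * tr g x 2 = b₂ * (tr g x 2 * tr g x 0) := by rw [e0]; exact h.c2
  have r03 : tr g x 0 * tr g x 3 = b₂ * (tr g x 3 * tr g x 0) := by rw [e0]; exact h.c3
  set K₂ := (⊥ : Subgroup H) ⊔ zpowers b₁ ⊔ zpowers b₂ with hK₂
  set K₃ := K₂ ⊔ zpowers (tr g x 0) with hK₃
  set K₄ := K₃ ⊔ zpowers (tr g x 1) with hK₄
  set K₅ := K₄ ⊔ zpowers (tr g x 2) with hK₅
  set K₆ := K₅ ⊔ zpowers (tr g x 3) with hK₆
  have hb1 : b₁ ∈ K₂ := mem_sup_left (mem_sup_right (mem_zpowers _))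
  have hb2 : b₂ ∈ K₂ := mem_sup_right (mem_zpowers _)
  have l23 : K₂ ≤ K₃ := le_sup_left
  have l34 : K₃ ≤ K₄ := le_sup_left
  have l45 : K₄ ≤ K₅ := le_sup_left
  have l56 : K₅ ≤ K₆ := le_sup_left
  have norm : ∀ (L : Subgroup H) (y : H), (∃ gens : Set H, L = closure gens ∧
      ∀ s ∈ gens, y * s * y⁻¹ ∈ L) → y ∈ normalizer (L : Set H) := by
    rintro L y ⟨gens, rfl, hy⟩
    refine mem_normalizer_iff_map_conj_eq.2 (Subgroup.eq_of_le_of_card_ge ?_ ?_)
    · rw [MonoidHom.map_closure, closure_le]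
      rintro _ ⟨s, hs, rfl⟩
      exact hy s hs
    · rw [Subgroup.card_map_of_injective (MulAut.conj y).injective]
  have cK₂ : K₂ = closure {b₁, b₂} := by
    rw [hK₂, bot_sup_eq, zpowers_eq_closure, zpowers_eq_closure, ← Subgroup.closure_union]; rfl
  have cK₃ : K₃ = closure {b₁, b₂, tr g x 0} := by
    rw [hK₃, cK₂, zpowers_eq_closure, ← Subgroup.closure_union]
    congr 1; ext; simp [or_comm, or_assoc]
  have cK₄ : K₄ = closure {b₁, b₂, tr g x 0, tr g x 1} := by
    rw [hK₄, cK₃, zpowers_eq_closure, ← Subgroup.closure_union]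
    congr 1; ext; simp [or_comm, or_assoc]
  have cK₅ : K₅ = closure {b₁, b₂, tr g x 0, tr g x 1, tr g x 2} := by
    rw [hK₅, cK₄, zpowers_eq_closure, ← Subgroup.closure_union]
    congr 1; ext; simp [or_comm, or_assoc]
  have cK₆ : K₆ = closure {b₁, b₂, tr g x 0, tr g x 1, tr g x 2, tr g x 3} := by
    rw [hK₆, cK₅, zpowers_eq_closure, ← Subgroup.closure_union]
    congr 1; ext; simp [or_comm, or_assoc]
  have fixb : ∀ b, Commute b g → Commute b x → ∀ i, tr g x i * b * (tr g x i)⁻¹ = b := fun b hg hx i => by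
    rw [(ctr b hg hx i).symm.eq, mul_inv_cancel_right]
  have swap : ∀ {b y z : H}, b * b = 1 → Commute b y → Commute b z → y * z = b * (z * y) →
      z * y * z⁻¹ = b * y := by
    intro b y z hb hby hbz he
    have h1 : z * y = b * (y * z) := by rw [he, ← mul_assoc, hb, one_mul]
    rw [h1]; group
  have s01 : tr g x 1 * tr g x 0 * (tr g x 1)⁻¹ = b₁ * tr g x 0 :=
    swap h.b1 (ctr _ h.b1g h.b1x 0) (ctr _ h.b1g h.b1x 1) r01
  have s02 : tr g x 2 * tr g x 0 * (tr g x 2)⁻¹ = b₂ * tr g x 0 :=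
    swap h.b2 (ctr _ h.b2g h.b2x 0) (ctr _ h.b2g h.b2x 2) r02
  have s12 : tr g x 2 * tr g x 1 * (tr g x 2)⁻¹ = b₁ * tr g x 1 :=
    swap h.b1 (ctr _ h.b1g h.b1x 1) (ctr _ h.b1g h.b1x 2) (conj_rel h.b1g 1 r01)
  have s03 : tr g x 3 * tr g x 0 * (tr g x 3)⁻¹ = b₂ * tr g x 0 :=
    swap h.b2 (ctr _ h.b2g h.b2x 0) (ctr _ h.b2g h.b2x 3) r03
  have s13 : tr g x 3 * tr g x 1 * (tr g x 3)⁻¹ = b₂ * tr g x 1 :=
    swap h.b2 (ctr _ h.b2g h.b2x 1) (ctr _ h.b2g h.b2x 3) (conj_rel h.b2g 1 r02)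
  have s23 : tr g x 3 * tr g x 2 * (tr g x 3)⁻¹ = b₁ * tr g x 2 :=
    swap h.b1 (ctr _ h.b1g h.b1x 2) (ctr _ h.b1g h.b1x 3) (conj_rel h.b1g 2 r01)
  have m0 : tr g x 0 ∈ K₃ := mem_sup_right (mem_zpowers _)
  have m1 : tr g x 1 ∈ K₄ := mem_sup_right (mem_zpowers _)
  have m2 : tr g x 2 ∈ K₅ := mem_sup_right (mem_zpowers _)
  have m3 : tr g x 3 ∈ K₆ := mem_sup_right (mem_zpowers _)
  have n3 : tr g x 0 ∈ normalizer (K₂ : Set H) := norm _ _ ⟨_, cK₂, by
    rintro s (rfl | rfl)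
    · rw [fixb _ h.b1g h.b1x]; exact hb1
    · rw [fixb _ h.b2g h.b2x]; exact hb2⟩
  have n4 : tr g x 1 ∈ normalizer (K₃ : Set H) := norm _ _ ⟨_, cK₃, by
    rintro s (rfl | rfl | rfl)
    · rw [fixb _ h.b1g h.b1x]; exact l23 hb1
    · rw [fixb _ h.b2g h.b2x]; exact l23 hb2
    · rw [s01]; exact mul_mem (l23 hb1) m0⟩
  have n5 : tr g x 2 ∈ normalizer (K₄ : Set H) := norm _ _ ⟨_, cK₄, by
    rintro s (rfl | rfl | rfl | rfl)
    · rw [fixb _ h.b1g h.b1x]; exact l34 (l23 hb1)
    · rw [fixb _ h.b2g h.b2x]; exact l34 (l23 hb2)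
    · rw [s02]; exact mul_mem (l34 (l23 hb2)) (l34 m0)
    · rw [s12]; exact mul_mem (l34 (l23 hb1)) m1⟩
  have n6 : tr g x 3 ∈ normalizer (K₅ : Set H) := norm _ _ ⟨_, cK₅, by
    rintro s (rfl | rfl | rfl | rfl | rfl)
    · rw [fixb _ h.b1g h.b1x]; exact l45 (l34 (l23 hb1))
    · rw [fixb _ h.b2g h.b2x]; exact l45 (l34 (l23 hb2))
    · rw [s03]; exact mul_mem (l45 (l34 (l23 hb2))) (l45 (l34 m0))
    · rw [s13]; exact mul_mem (l45 (l34 (l23 hb2))) (l45 m1)
    · rw [s23]; exact mul_mem (l45 (l34 (l23 hb1))) m2⟩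
  have hs : ∀ i, tr g x i * tr g x i ∈ K₂ := fun i => by rw [hsq]; exact mul_mem hb1 hb2
  have hc1 : Nat.card ↥((⊥ : Subgroup H) ⊔ zpowers b₁) ≤ 2 := by
    have h0 := card_sup_zpowers_le (K := (⊥ : Subgroup H)) (y := b₁) (mem_normalizer_iff.2 (fun s => by
      simp [mem_bot])) (by simp [h.b1])
    rwa [Subgroup.card_bot, mul_one] at h0
  have hc2 : Nat.card ↥K₂ ≤ 2 * 2 := (card_sup_zpowers_le (centralizer_le_normalizer _ (by
    rw [bot_sup_eq, mem_centralizer_iff]
    intro s hs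
    obtain ⟨k, rfl⟩ := mem_zpowers_iff.1 hs
    exact (hbb.zpow_left k).eq)) (by rw [h.b2]; exact one_mem _)).trans (by omega)
  have hc3 : Nat.card ↥K₃ ≤ 8 := (card_sup_zpowers_le n3 (hs 0)).trans (by omega)
  have hc4 : Nat.card ↥K₄ ≤ 16 := (card_sup_zpowers_le n4 (l23 (hs 1))).trans (by omega)
  have hc5 : Nat.card ↥K₅ ≤ 32 := (card_sup_zpowers_le n5 (l34 (l23 (hs 2)))).trans (by omega)
  have hc6 : Nat.card ↥K₆ ≤ 64 := (card_sup_zpowers_le n6 (l45 (l34 (l23 (hs 3))))).trans (by omega)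
  have p0 : tr g x 0 ∈ K₆ := l56 (l45 (l34 m0))
  have p1 : tr g x 1 ∈ K₆ := l56 (l45 m1)
  have p2 : tr g x 2 ∈ K₆ := l56 m2
  have p4 : tr g x 4 ∈ K₆ := by
    have he : tr g x 4 = (tr g x 0 * tr g x 1 * tr g x 2 * tr g x 3)⁻¹ := by
      rw [e0]; exact eq_inv_of_mul_eq_one_right h.sum
    rw [he]
    exact inv_mem (mul_mem (mul_mem (mul_mem p0 p1) p2) m3)
  have pb1 : b₁ ∈ K₆ := l56 (l45 (l34 (l23 hb1)))
  have pb2 : b₂ ∈ K₆ := l56 (l45 (l34 (l23 hb2)))
  have ng : g ∈ normalizer (K₆ : Set H) := norm _ _ ⟨_, cK₆, by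
    rintro s (rfl | rfl | rfl | rfl | rfl | rfl)
    · rw [h.b1g.symm.eq, mul_inv_cancel_right]; exact pb1
    · rw [h.b2g.symm.eq, mul_inv_cancel_right]; exact pb2
    · rw [conj_tr]; exact p1
    · rw [conj_tr]; exact p2
    · rw [conj_tr]; exact m3
    · rw [conj_tr]; exact p4⟩
  let T : Subgroup H :=
    { carrier := {w | ∃ n ∈ K₆, ∃ k : ℕ, k < 5 ∧ w = n * g ^ k}
      one_mem' := ⟨1, K₆.one_mem, 0, by norm_num, by simp⟩
      mul_mem' := by
        rintro a b ⟨n, hn, k, -, rfl⟩ ⟨n', hn', k', -, rfl⟩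
        refine ⟨n * (g ^ k * n' * (g ^ k)⁻¹), K₆.mul_mem hn
          ((mem_normalizer_iff.1 (pow_mem ng k) n').1 hn'), (k + k') % 5, Nat.mod_lt _ (by norm_num), ?_⟩
        rw [← pow_eq_pow_mod (k + k') h.g5, pow_add]; group
      inv_mem' := by
        rintro a ⟨n, hn, k, hk, rfl⟩
        have hinv : (g ^ k)⁻¹ = g ^ (5 - k) :=
          inv_eq_of_mul_eq_one_right (by rw [← pow_add, Nat.add_sub_cancel' hk.le, h.g5])
        refine ⟨g ^ (5 - k) * n⁻¹ * (g ^ (5 - k))⁻¹,
          (mem_normalizer_iff.1 (pow_mem ng _) n⁻¹).1 (K₆.inv_mem hn), (5 - k) % 5,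
          Nat.mod_lt _ (by norm_num), ?_⟩
        rw [← pow_eq_pow_mod (5 - k) h.g5, mul_inv_rev, hinv]; group }
  have hle : closure ({g, x} : Set H) ≤ T := (closure_le T).2 (by
    rintro w (rfl | rfl)
    · exact ⟨1, one_mem _, 1, by norm_num, by simp⟩
    · exact ⟨w, e0 ▸ p0, 0, by norm_num, by simp⟩)
  refine (Subgroup.card_le_of_le hle).trans ?_
  have hsurj : Function.Surjective (fun p : K₆ × Fin 5 => (⟨p.1 * g ^ (p.2 : ℕ), p.1, p.1.2, p.2, p.2.2, rfl⟩ : T)) := by
    rintro ⟨w, n, hn, k, hk, rfl⟩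
    exact ⟨(⟨n, hn⟩, ⟨k, hk⟩), rfl⟩
  refine (Nat.card_le_card_of_surjective _ hsurj).trans ?_
  rw [Nat.card_prod, Nat.card_eq_fintype_card (α := Fin 5), Fintype.card_fin]
  omega

/-- Fixed points of an element of order five normalizing a subgroup. -/
theorem card_fixed_modEq [Finite H] {K : Subgroup H} {g : H} (hg : orderOf g = 5)
    (hn : g ∈ normalizer (K : Set H)) :
    Nat.card K ≡ Nat.card ↥(K ⊓ centralizer ({g} : Set H)) [MOD 5] := by
  haveI : Fact (Nat.Prime 5) := ⟨by norm_num⟩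
  have hS : IsPGroup 5 (zpowers g) := IsPGroup.of_card (n := 1) (by rw [Nat.card_zpowers, hg, pow_one])
  have hmem : ∀ s ∈ zpowers g, s ∈ normalizer (K : Set H) := fun s hs => zpowers_le.2 hn hs
  letI : MulAction (zpowers g) K :=
    { smul := fun s k => ⟨(s : H) * k * (s : H)⁻¹, (mem_normalizer_iff.1 (hmem s s.2) k).1 k.2⟩
      one_smul := fun k => Subtype.ext (by show ((1 : zpowers g) : H) * k * ((1 : zpowers g) : H)⁻¹ = k; simp)
      mul_smul := fun a b k => Subtype.ext (by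
        show ((a * b : zpowers g) : H) * k * ((a * b : zpowers g) : H)⁻¹ = (a : H) * ((b : H) * k * (b : H)⁻¹) * (a : H)⁻¹
        rw [Subgroup.coe_mul]; group) }
  have h := hS.card_modEq_card_fixedPoints K
  refine h.trans (congrArg (fun n => n % 5) ?_)
  refine Nat.card_congr ⟨fun k => ⟨(k.1 : H), k.1.2, ?_⟩, fun k => ⟨⟨k.1, k.2.1⟩, fun s => ?_⟩,
    fun k => rfl, fun k => rfl⟩
  · have h1 : g * (k.1 : H) * g⁻¹ = (k.1 : H) :=
      congrArg Subtype.val (k.2 ⟨g, mem_zpowers g⟩)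
    exact mem_centralizer_singleton_iff.2 (mul_inv_eq_iff_eq_mul.1 h1).symm
  · obtain ⟨s, hs⟩ := s
    refine Subtype.ext ?_
    show s * k.1 * s⁻¹ = k.1
    obtain ⟨i, rfl⟩ := mem_zpowers_iff.1 hs
    have hc : Commute g k.1 := (mem_centralizer_singleton_iff.1 k.2.2).symm
    rw [(hc.zpow_left i).eq, mul_inv_cancel_right]

theorem two_pow_cases {n k : ℕ} (hn : n ∣ 2 ^ k) : ∃ j, j ≤ k ∧ n = 2 ^ j :=
  (Nat.dvd_prime_pow Nat.prime_two).1 hn

/-- The relations hold in every group of the kind considered. -/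
theorem exists_rel {G : Type u} [Group G] [Finite G] (hG : Nat.card G = 320)
    (hD : Nat.card (commutator G) = 64) (hZ : IsKleinFour (center (commutator G))) :
    ∃ g x b₁ b₂ : G, Rel g x b₁ b₂ ∧ closure ({g, x} : Set G) = ⊤ := by
  haveI : Fact (Nat.Prime 5) := ⟨by norm_num⟩
  haveI : Fact (Nat.Prime 2) := ⟨Nat.prime_two⟩
  haveI := hZ
  set Q := commutator G with hQ
  obtain ⟨g, hg⟩ := exists_prime_orderOf_dvd_card' (G := G) 5 (by rw [hG]; norm_num)
  set Z := (center Q).map Q.subtype with hZdef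
  have hZ4 : Nat.card Z = 4 := by
    rw [hZdef, Subgroup.card_map_of_injective Q.subtype_injective]; exact hZ.card_four
  have hZQ : Z ≤ Q := map_subtype_le _
  have hZc : ∀ z ∈ Z, ∀ q ∈ Q, Commute z q := by
    rintro _ ⟨z, hz, rfl⟩ q hq
    exact (congrArg Subtype.val (mem_center_iff.1 hz ⟨q, hq⟩)).symm
  have hZ2 : ∀ z ∈ Z, z * z = 1 := by
    rintro _ ⟨z, hz, rfl⟩
    have := congrArg (fun w : center Q => ((w : Q) : G)) (IsKleinFour.mul_self (⟨z, hz⟩ : center Q))
    simpa using this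
  haveI hQn : Q.Normal := inferInstance
  haveI hZn : Z.Normal := by
    rw [hZdef]; infer_instance
  -- `g` centralizes the centre
  have hgZ : ∀ z ∈ Z, Commute g z := by
    let σ : MulAut Z := MulAut.conjNormal g
    have h5 : σ ^ 5 = 1 := by
      show (MulAut.conjNormal g) ^ 5 = 1
      rw [← map_pow, ← hg, pow_orderOf_eq_one, map_one]
    letI := Fintype.ofFinite Z
    classical
    have hp : (MulAut.toPerm Z σ) = 1 := by
      refine orderOf_eq_one_iff.1 (Nat.eq_one_of_dvd_coprimes (a := 5) (b := 24) (by norm_num) ?_ ?_)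
      · exact orderOf_dvd_of_pow_eq_one (by rw [← map_pow, h5, map_one])
      · refine (orderOf_dvd_card).trans ?_
        rw [Fintype.card_perm, ← Nat.card_eq_fintype_card, hZ4]; decide
    intro z hz
    have h1 : (σ ⟨z, hz⟩ : Z) = ⟨z, hz⟩ := congrFun (congrArg DFunLike.coe hp) ⟨z, hz⟩
    have h2 : g * z * g⁻¹ = z := congrArg Subtype.val h1
    exact mul_inv_eq_iff_eq_mul.1 h2
  -- `G = Q⟨g⟩`
  have htop : Q ⊔ zpowers g = ⊤ := by
    refine eq_top_of_le_card _ (le_of_eq ?_)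
    symm
    refine Nat.dvd_antisymm ((Subgroup.card_dvd_of_le le_top).trans (by rw [Subgroup.card_top])) ?_
    rw [hG]
    refine Nat.Coprime.mul_dvd_of_dvd_of_dvd (m := 64) (n := 5) (by norm_num) ?_ ?_
    · exact hD ▸ Subgroup.card_dvd_of_le le_sup_left
    · have := Subgroup.card_dvd_of_le (le_sup_right : zpowers g ≤ Q ⊔ zpowers g)
      rwa [Nat.card_zpowers, hg] at this
  have hZG : ∀ z ∈ Z, ∀ w : G, Commute z w := by
    intro z hz w
    have hle : Q ⊔ zpowers g ≤ centralizer ({z} : Set G) :=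
      sup_le (fun q hq => mem_centralizer_singleton_iff.2 (hZc z hz q hq).symm.eq)
        (zpowers_le.2 (mem_centralizer_singleton_iff.2 (hgZ z hz).eq))
    exact (mem_centralizer_singleton_iff.1 (hle (htop ▸ mem_top w))).symm
  -- the quotient by the centre
  let π := QuotientGroup.mk' Z
  set V := Q.map π with hV
  have hkerπ : π.ker = Z := QuotientGroup.ker_mk' Z
  have hπs : Function.Surjective π := QuotientGroup.mk'_surjective Z
  have hVc : Nat.card V = 16 := by
    have h1 := Subgroup.relIndex_map_map (f := π) (⊥ : Subgroup G) Q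
    have h2 : Nat.card (G ⧸ Z) * 4 = 320 := by rw [← hZ4, ← hG]; exact (Subgroup.card_eq_card_quotient_mul_card_subgroup Z).symm
    rw [Subgroup.map_bot, Subgroup.relIndex_bot_left, hkerπ, bot_sup_eq, sup_eq_left.2 hZQ] at h1
    have h3 := Subgroup.relIndex_mul_relIndex (⊥ : Subgroup G) Z Q bot_le hZQ
    rw [Subgroup.relIndex_bot_left, Subgroup.relIndex_bot_left, hZ4, hD] at h3
    rw [hV, h1]; omega
  haveI hVn : V.Normal := hQn.map π hπs
  set gb := π g with hgb
  have hgb5 : orderOf gb = 5 := by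
    have hd : orderOf gb ∣ 5 := hg ▸ orderOf_map_dvd π g
    refine ((Nat.dvd_prime (by norm_num)).1 hd).resolve_left fun e => ?_
    rw [orderOf_eq_one_iff] at e
    have hgZ' : g ∈ Z := by rw [← hkerπ]; exact e
    have := Subgroup.orderOf_dvd_natCard Z hgZ'
    rw [hg, hZ4] at this
    norm_num at this
  have hnorm : ∀ w : G ⧸ Z, w ∈ normalizer (V : Set (G ⧸ Z)) := fun w => by
    rw [normalizer_eq_top]; exact mem_top w
  have hV2 : IsPGroup 2 V := IsPGroup.of_card (n := 4) (by rw [hVc]; norm_num)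
  have hVtop : V ⊔ zpowers gb = ⊤ := by
    rw [hV, hgb, ← MonoidHom.map_zpowers, ← Subgroup.map_sup, htop, Subgroup.map_top_of_surjective π hπs]
  have hcomm : commutator (G ⧸ Z) = V := by
    rw [hV, hQ, _root_.commutator_def G, _root_.commutator_def (G ⧸ Z), map_commutator,
      map_top_of_surjective π hπs]
  -- `g` acts without fixed points on the quotient
  have hfpf : ∀ v ∈ V, Commute gb v → v = 1 := by
    have hmod := card_fixed_modEq hgb5 (hnorm gb)
    obtain ⟨j, hj, hjc⟩ := two_pow_cases (k := 4)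
      ((Subgroup.card_dvd_of_le (inf_le_left : V ⊓ centralizer {gb} ≤ V)).trans (by rw [hVc]; norm_num))
    rw [hVc, hjc] at hmod
    have hj' : j = 0 ∨ j = 4 := by
      interval_cases j <;> simp_all [Nat.ModEq]
    rcases hj' with rfl | rfl
    · intro v hv hc
      have h1 : V ⊓ centralizer {gb} = ⊥ := Subgroup.eq_bot_of_card_eq _ (by rw [hjc, pow_zero])
      have h2 : v ∈ V ⊓ centralizer {gb} := ⟨hv, mem_centralizer_singleton_iff.2 hc.symm.eq⟩
      rwa [h1, mem_bot] at h2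
    · exfalso
      have hall : V ⊓ centralizer {gb} = V := Subgroup.eq_of_le_of_card_ge inf_le_left (by rw [hjc, hVc]; norm_num)
      set D := ⁅V, V⁆ with hDdef
      haveI : D.Normal := Subgroup.commutator_normal V V
      have hle : commutator (G ⧸ Z) ≤ D := by
        have hc : ∀ a ∈ V ⊔ zpowers gb, ∀ b ∈ V ⊔ zpowers gb,
            QuotientGroup.mk' D a * QuotientGroup.mk' D b = QuotientGroup.mk' D b * QuotientGroup.mk' D a := by
          let Sg : Set ((G ⧸ Z) ⧸ D) := (QuotientGroup.mk' D) '' ((V : Set (G ⧸ Z)) ∪ {gb})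
          have hSc : ∀ a ∈ Sg, ∀ b ∈ Sg, a * b = b * a := by
            rintro _ ⟨a, ha, rfl⟩ _ ⟨b, hb, rfl⟩
            rcases ha with ha | ha <;> rcases hb with hb | hb
            · rw [← map_mul, ← map_mul]
              refine (QuotientGroup.eq.2 ?_)
              have e : (a * b)⁻¹ * (b * a) = ⁅b⁻¹, a⁻¹⁆ := by rw [commutatorElement_def]; group
              rw [e]; exact commutator_mem_commutator (V.inv_mem hb) (V.inv_mem ha)
            · rw [Set.mem_singleton_iff.1 hb, ← map_mul, ← map_mul]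
              exact congrArg _ (mem_centralizer_singleton_iff.1 (hall.ge ha).2)
            · rw [Set.mem_singleton_iff.1 ha, ← map_mul, ← map_mul]
              exact congrArg _ (mem_centralizer_singleton_iff.1 (hall.ge hb).2).symm
            · rw [Set.mem_singleton_iff.1 ha, Set.mem_singleton_iff.1 hb]
          have hcl : (V ⊔ zpowers gb).map (QuotientGroup.mk' D) = closure Sg := by
            rw [show V ⊔ zpowers gb = closure ((V : Set (G ⧸ Z)) ∪ {gb}) by
              rw [Subgroup.closure_union, V.closure_eq, zpowers_eq_closure], MonoidHom.map_closure]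
          haveI := Subgroup.isMulCommutative_closure hSc
          intro a ha b hb
          exact congrArg Subtype.val (mul_comm' (⟨_, hcl ▸ mem_map_of_mem _ ha⟩ : closure Sg)
            ⟨_, hcl ▸ mem_map_of_mem _ hb⟩)
        rw [_root_.commutator_def, commutator_le]
        intro a _ b _
        rw [← QuotientGroup.eq_one_iff, ← QuotientGroup.mk'_apply, map_commutatorElement,
          commutatorElement_eq_one_iff_mul_comm]
        exact hc a (hVtop ▸ mem_top a) b (hVtop ▸ mem_top b)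
      rw [hcomm] at hle
      haveI := hV2.isNilpotent
      haveI : Nontrivial V := Finite.one_lt_card_iff_nontrivial.1 (by rw [hVc]; norm_num)
      haveI : Group.IsSolvable V := inferInstance
      refine (Group.IsSolvable.commutator_lt_top_of_nontrivial V).ne (Subgroup.map_injective V.subtype_injective ?_)
      rw [_root_.commutator_def, map_commutator, ← MonoidHom.range_eq_map, V.range_subtype]
      exact le_antisymm (Subgroup.commutator_le_self V) hle
  -- invariant subgroups of the quotient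
  have inv_top : ∀ W : Subgroup (G ⧸ Z), W ≤ V → gb ∈ normalizer (W : Set (G ⧸ Z)) → W ≠ ⊥ → W = V := by
    intro W hW hn hne
    have hmod := card_fixed_modEq hgb5 hn
    have hbot : W ⊓ centralizer {gb} = ⊥ := (Subgroup.eq_bot_iff_forall _).2 fun w hw =>
      hfpf w (hW hw.1) (mem_centralizer_singleton_iff.1 hw.2).symm
    rw [hbot, Subgroup.card_bot] at hmod
    obtain ⟨j, hj, hjc⟩ := two_pow_cases (k := 4) ((Subgroup.card_dvd_of_le hW).trans (by rw [hVc]; norm_num))
    have h1 : 1 < Nat.card W := Finite.one_lt_card_iff_nontrivial.2 ((nontrivial_iff_ne_bot W).2 hne)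
    rw [hjc] at hmod h1
    have : j = 4 := by interval_cases j <;> simp_all [Nat.ModEq]
    exact Subgroup.eq_of_le_of_card_ge hW (by rw [hjc, hVc, this]; norm_num)
  have hVab : ∀ a ∈ V, ∀ b ∈ V, Commute a b := by
    set W := (center V).map V.subtype with hW
    haveI : W.Normal := by rw [hW]; infer_instance
    have hne : W ≠ ⊥ := by
      haveI : Nontrivial V := Finite.one_lt_card_iff_nontrivial.1 (by rw [hVc]; norm_num)
      intro h
      rw [hW, Subgroup.map_eq_bot_iff_of_injective _ V.subtype_injective] at h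
      exact absurd h ((nontrivial_iff_ne_bot _).1 hV2.center_nontrivial)
    have := inv_top W (map_subtype_le _) (by rw [normalizer_eq_top]; exact mem_top _) hne
    intro a ha b hb
    obtain ⟨a', ha', rfl⟩ : a ∈ W := this.ge ha
    exact (congrArg Subtype.val (mem_center_iff.1 ha' ⟨b, hb⟩)).symm
  have hVsq : ∀ a ∈ V, a * a = 1 := by
    let W : Subgroup (G ⧸ Z) :=
      { carrier := {a | a ∈ V ∧ a * a = 1}
        one_mem' := ⟨V.one_mem, one_mul 1⟩
        mul_mem' := fun {a b} ha hb => ⟨V.mul_mem ha.1 hb.1, by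
          rw [(hVab b hb.1 a ha.1).mul_mul_mul_comm, ha.2, hb.2, one_mul]⟩
        inv_mem' := fun {a} ha => ⟨V.inv_mem ha.1, by rw [← mul_inv_rev, ha.2, inv_one]⟩ }
    have hle : W ≤ V := fun a ha => ha.1
    have hn : gb ∈ normalizer (W : Set (G ⧸ Z)) := by
      refine mem_normalizer_iff.2 fun a => ⟨fun ha => ⟨(mem_normalizer_iff.1 (hnorm gb) a).1 ha.1, ?_⟩,
        fun ha => ⟨(mem_normalizer_iff.1 (hnorm gb) a).2 ha.1, ?_⟩⟩
      · rw [show gb * a * gb⁻¹ * (gb * a * gb⁻¹) = gb * (a * a) * gb⁻¹ by group, ha.2]; group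
      · have h := ha.2
        rw [show gb * a * gb⁻¹ * (gb * a * gb⁻¹) = gb * (a * a) * gb⁻¹ by group, mul_inv_eq_one,
          mul_eq_left] at h
        exact h
    have hne : W ≠ ⊥ := by
      obtain ⟨w, hw⟩ := exists_prime_orderOf_dvd_card' (G := V) 2 (by rw [hVc]; norm_num)
      intro h
      have h1 : (w : G ⧸ Z) ∈ W := ⟨w.2, by
        have := pow_orderOf_eq_one w
        rw [hw, pow_two] at this
        exact congrArg Subtype.val this⟩
      rw [h, mem_bot] at h1
      rw [show w = 1 from Subtype.ext h1, orderOf_one] at hw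
      omega
    exact fun a ha => ((inv_top W hle hn hne).ge ha).2
  have toZ : ∀ w : G, π w = 1 → w ∈ Z := fun w h => by rw [← hkerπ]; exact h
  have hVmem : ∀ q ∈ Q, π q ∈ V := fun q hq => mem_map_of_mem π hq
  -- the generator
  obtain ⟨y, hyQ, hyZ⟩ : ∃ y ∈ Q, y ∉ Z := SetLike.exists_of_lt (lt_of_le_of_ne hZQ (fun e => by
    rw [e, hD] at hZ4; norm_num at hZ4))
  have htrQ : ∀ x ∈ Q, ∀ i, tr g x i ∈ Q := fun x hx i => hQn.conj_mem x hx _
  have hg5 : g ^ 5 = 1 := hg ▸ pow_orderOf_eq_one g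
  have htr5 : ∀ x : G, tr g x 5 = x := fun x => by simp [tr, hg5]
  set s := y * tr g y 1 * tr g y 2 * tr g y 3 * tr g y 4 with hs
  have hsQ : s ∈ Q := by
    rw [hs]
    exact mul_mem (mul_mem (mul_mem (mul_mem hyQ (htrQ y hyQ 1)) (htrQ y hyQ 2)) (htrQ y hyQ 3)) (htrQ y hyQ 4)
  have hsZ : s ∈ Z := by
    refine toZ _ (hfpf _ (hVmem s hsQ) ?_)
    have hshift : g * s * g⁻¹ = y⁻¹ * s * y := by
      rw [hs]
      calc g * (y * tr g y 1 * tr g y 2 * tr g y 3 * tr g y 4) * g⁻¹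
          = (g * y * g⁻¹) * (g * tr g y 1 * g⁻¹) * (g * tr g y 2 * g⁻¹) * (g * tr g y 3 * g⁻¹) *
              (g * tr g y 4 * g⁻¹) := by group
        _ = tr g y 1 * tr g y 2 * tr g y 3 * tr g y 4 * y := by
          rw [conj_tr, conj_tr, conj_tr, conj_tr, htr5, ← conj_tr g y 0, tr_zero]
        _ = _ := by group
    have h1 := congrArg π hshift
    rw [map_mul π (g * s) g⁻¹, map_mul π g s, map_inv, ← hgb, map_mul π (y⁻¹ * s) y, map_mul π y⁻¹ s, map_inv,
      mul_assoc (π y)⁻¹, (hVab _ (hVmem s hsQ) _ (hVmem y hyQ)).eq, inv_mul_cancel_left] at h1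
    exact mul_inv_eq_iff_eq_mul.1 h1
  set x := y * s with hx
  have hxQ : x ∈ Q := mul_mem hyQ hsQ
  have hxtr : ∀ i, tr g x i = tr g y i * s := fun i => by
    show g ^ i * (y * s) * (g ^ i)⁻¹ = g ^ i * y * (g ^ i)⁻¹ * s
    rw [mul_assoc (g ^ i * y) (g ^ i)⁻¹ s, ← (hZG s hsZ (g ^ i)⁻¹).eq]; group
  have hss := hZ2 s hsZ
  have hsum : x * tr g x 1 * tr g x 2 * tr g x 3 * tr g x 4 = 1 := by
    rw [hxtr, hxtr, hxtr, hxtr, hx]
    have c : ∀ w : G, s * w = w * s := fun w => (hZG s hsZ w).eq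
    have hpair : ∀ a b : G, a * s * (b * s) = a * b := fun a b => by
      calc a * s * (b * s) = a * (s * b) * s := by group
        _ = a * b * (s * s) := by rw [c b]; group
        _ = a * b := by rw [hss, mul_one]
    rw [hpair, ← mul_assoc (y * tr g y 1) (tr g y 2) s, hpair,
      ← mul_assoc (y * tr g y 1 * tr g y 2 * tr g y 3) (tr g y 4) s, ← hs, hss]
  have hxZ : x ∉ Z := fun h => hyZ (by
    have := mul_mem h (inv_mem hsZ)
    rwa [hx, mul_inv_cancel_right] at this)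
  set b₁ := x * tr g x 1 * x⁻¹ * (tr g x 1)⁻¹ with hb₁
  set b₂ := x * tr g x 2 * x⁻¹ * (tr g x 2)⁻¹ with hb₂
  have hbZ : ∀ a ∈ Q, ∀ b ∈ Q, a * b * a⁻¹ * b⁻¹ ∈ Z := fun a ha b hb => toZ _ (by
    rw [map_mul, map_mul, map_mul, map_inv, map_inv, (hVab _ (hVmem a ha) _ (hVmem b hb)).eq,
      mul_inv_cancel_right, mul_inv_cancel])
  have hb₁Z : b₁ ∈ Z := hbZ x hxQ _ (htrQ x hxQ 1)
  have hb₂Z : b₂ ∈ Z := hbZ x hxQ _ (htrQ x hxQ 2)
  have c1 : x * tr g x 1 = b₁ * (tr g x 1 * x) := by rw [hb₁]; group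
  have c2 : x * tr g x 2 = b₂ * (tr g x 2 * x) := by rw [hb₂]; group
  have flip : ∀ {b y z : G}, b ∈ Z → y * z = b * (z * y) → z * y = b * (y * z) := by
    intro b y z hb he
    rw [he, ← mul_assoc, hZ2 b hb, one_mul]
  have e0 : tr g x 0 = x := tr_zero g x
  have r01 : tr g x 0 * tr g x 1 = b₁ * (tr g x 1 * tr g x 0) := by rw [e0]; exact c1
  have r02 : tr g x 0 * tr g x 2 = b₂ * (tr g x 2 * tr g x 0) := by rw [e0]; exact c2
  have c3 : x * tr g x 3 = b₂ * (tr g x 3 * x) := by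
    have h := conj_rel (hgZ b₂ hb₂Z).symm 3 r02
    rw [show (0 : ℕ) + 3 = 3 from rfl, show (2 : ℕ) + 3 = 5 from rfl, htr5] at h
    exact flip hb₂Z h
  -- the square of `x`
  have hsq : x * x = b₁ * b₂ := by
    set a := x * x with ha
    have haZ : a ∈ Z := toZ _ (by rw [ha, map_mul]; exact hVsq _ (hVmem x hxQ))
    have hsqi : ∀ i, tr g x i * tr g x i = a := fun i => by
      show g ^ i * x * (g ^ i)⁻¹ * (g ^ i * x * (g ^ i)⁻¹) = a
      rw [show g ^ i * x * (g ^ i)⁻¹ * (g ^ i * x * (g ^ i)⁻¹) = g ^ i * (x * x) * (g ^ i)⁻¹ by group, ← ha,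
        (hZG a haZ (g ^ i)).symm.eq, mul_inv_cancel_right]
    have sq_mul : ∀ {u w c : G}, c ∈ Z → w * u = c * (u * w) →
        (u * w) * (u * w) = c * ((u * u) * (w * w)) := by
      intro u w c hc he
      calc u * w * (u * w) = u * (w * u) * w := by group
        _ = u * c * (u * w * w) := by rw [he]; group
        _ = c * ((u * u) * (w * w)) := by rw [(hZG c hc u).symm.eq]; group
    have step : ∀ {u z w c d : G}, c ∈ Z → d ∈ Z → w * u = c * (u * w) → w * z = d * (z * w) →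
        w * (u * z) = c * d * (u * z * w) := by
      intro u z w c d hc hd h1 h2
      calc w * (u * z) = (w * u) * z := by group
        _ = c * u * (w * z) := by rw [h1]; group
        _ = c * (u * d) * (z * w) := by rw [h2]; group
        _ = _ := by rw [(hZG d hd u).symm.eq]; group
    have e10 := flip hb₁Z r01
    have e20 := flip hb₂Z r02
    have e30 : tr g x 3 * tr g x 0 = b₂ * (tr g x 0 * tr g x 3) := by
      rw [e0]; exact flip hb₂Z c3
    have e21 : tr g x 2 * tr g x 1 = b₁ * (tr g x 1 * tr g x 2) :=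
      flip hb₁Z (conj_rel (hgZ b₁ hb₁Z).symm 1 r01)
    have e31 : tr g x 3 * tr g x 1 = b₂ * (tr g x 1 * tr g x 3) :=
      flip hb₂Z (conj_rel (hgZ b₂ hb₂Z).symm 1 r02)
    have e32 : tr g x 3 * tr g x 2 = b₁ * (tr g x 2 * tr g x 3) :=
      flip hb₁Z (conj_rel (hgZ b₁ hb₁Z).symm 2 r01)
    have haa := hZ2 a haZ
    have hbb1 := hZ2 b₁ hb₁Z
    have hbb2 := hZ2 b₂ hb₂Z
    have d2 : (tr g x 0 * tr g x 1) * (tr g x 0 * tr g x 1) = b₁ := by
      rw [sq_mul hb₁Z e10, hsqi, hsqi, haa, mul_one]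
    have d3 : (tr g x 0 * tr g x 1 * tr g x 2) * (tr g x 0 * tr g x 1 * tr g x 2) = b₂ * a := by
      rw [sq_mul (mul_mem hb₂Z hb₁Z) (step hb₂Z hb₁Z e20 e21), d2, hsqi, mul_assoc b₂, ← mul_assoc b₁ b₁,
        hbb1, one_mul]
    have d4 : (tr g x 0 * tr g x 1 * tr g x 2 * tr g x 3) * (tr g x 0 * tr g x 1 * tr g x 2 * tr g x 3) =
        b₁ * b₂ := by
      rw [sq_mul (mul_mem (mul_mem hb₂Z hb₂Z) hb₁Z) (step (mul_mem hb₂Z hb₂Z) hb₁Z (step hb₂Z hb₂Z e30 e31) e32),
        d3, hsqi, hbb2, one_mul, mul_assoc b₂, haa, mul_one]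
    have h4 : tr g x 4 = (tr g x 0 * tr g x 1 * tr g x 2 * tr g x 3)⁻¹ := by
      rw [e0]; exact eq_inv_of_mul_eq_one_right hsum
    have h := hsqi 4
    rw [h4, ← mul_inv_rev, d4, inv_eq_of_mul_eq_one_right (hZ2 _ (mul_mem hb₁Z hb₂Z))] at h
    exact h.symm
  refine ⟨g, x, b₁, b₂, ⟨hg5, hZ2 _ hb₁Z, hZ2 _ hb₂Z, hZG _ hb₁Z g, hZG _ hb₁Z x, hZG _ hb₂Z g,
    hZG _ hb₂Z x, hsq, c1, c2, c3, hsum⟩, ?_⟩
  set M := closure ({g, x} : Set G) with hM
  have hgM : g ∈ M := subset_closure (by simp)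
  have hxM : x ∈ M := subset_closure (by simp)
  have hMV : Q.map π ≤ M.map π := by
    have hW : M.map π ⊓ V = V := by
      refine inv_top _ inf_le_right ?_ ?_
      · have hn1 : gb ∈ normalizer ((M.map π : Subgroup _) : Set (G ⧸ Z)) :=
          le_normalizer (mem_map_of_mem π hgM)
        refine mem_normalizer_iff.2 fun a => ?_
        rw [Subgroup.mem_inf, Subgroup.mem_inf, mem_normalizer_iff.1 hn1 a, mem_normalizer_iff.1 (hnorm gb) a]
      · intro h
        have h1 : π x ∈ M.map π ⊓ V := ⟨mem_map_of_mem π hxM, hVmem x hxQ⟩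
        rw [h, mem_bot] at h1
        exact hxZ (toZ x h1)
    intro v hv
    have : v ∈ M.map π ⊓ V := hW.symm ▸ hv
    exact this.1
  have hMZ : ∀ w : G, ∃ m ∈ M, ∃ z ∈ Z, w = m * z := by
    intro w
    have hle : Q ⊔ zpowers g ≤ (M.map π).comap π :=
      sup_le (map_le_iff_le_comap.1 hMV) (zpowers_le.2 (mem_comap.2 (mem_map_of_mem π hgM)))
    obtain ⟨m, hm, hmw⟩ := mem_comap.1 (hle (htop ▸ mem_top w))
    exact ⟨m, hm, m⁻¹ * w, toZ _ (by rw [map_mul, map_inv, hmw, inv_mul_cancel]), by group⟩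
  have hQM : Q ≤ M := by
    rw [hQ, _root_.commutator_def, commutator_le]
    intro a _ b _
    obtain ⟨m, hm, z, hz, rfl⟩ := hMZ a
    obtain ⟨m', hm', z', hz', rfl⟩ := hMZ b
    have e : ⁅m * z, m' * z'⁆ = ⁅m, m'⁆ := by
      rw [commutatorElement_def, commutatorElement_def]
      calc m * z * (m' * z') * (m * z)⁻¹ * (m' * z')⁻¹
          = m * (z * m') * (z' * z⁻¹) * m⁻¹ * z'⁻¹ * m'⁻¹ := by group
        _ = m * m' * (z * (z' * z⁻¹)) * m⁻¹ * z'⁻¹ * m'⁻¹ := by rw [(hZG z hz m').eq]; group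
        _ = m * m' * (z' * (m⁻¹ * z'⁻¹)) * m'⁻¹ := by
            rw [(hZG z hz (z' * z⁻¹)).eq]; group
        _ = _ := by rw [(hZG z' hz' (m⁻¹ * z'⁻¹)).eq]; group
    rw [e]
    exact commutatorElement_def m m' ▸ mul_mem (mul_mem (mul_mem hm hm') (inv_mem hm)) (inv_mem hm')
  exact top_le_iff.1 (htop ▸ sup_le hQM (zpowers_le.2 hgM))

/-- Two groups of order 320 with these properties are isomorphic. -/
theorem nonempty_mulEquiv {G : Type u} {G' : Type v} [Group G] [Group G'] [Finite G] [Finite G']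
    (hG : Nat.card G = 320) (hD : Nat.card (commutator G) = 64) (hZ : IsKleinFour (center (commutator G)))
    (hG' : Nat.card G' = 320) (hD' : Nat.card (commutator G') = 64)
    (hZ' : IsKleinFour (center (commutator G'))) : Nonempty (G ≃* G') := by
  obtain ⟨g, x, b₁, b₂, h, ht⟩ := exists_rel hG hD hZ
  obtain ⟨g', x', c₁, c₂, h', ht'⟩ := exists_rel hG' hD' hZ'
  have htr : ∀ i, tr ((g, g') : G × G') (x, x') i = (tr g x i, tr g' x' i) := fun i => rfl
  have hrel : Rel ((g, g') : G × G') (x, x') (b₁, c₁) (b₂, c₂) := by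
    constructor
    · exact Prod.ext h.g5 h'.g5
    · exact Prod.ext h.b1 h'.b1
    · exact Prod.ext h.b2 h'.b2
    · exact Prod.ext h.b1g.eq h'.b1g.eq
    · exact Prod.ext h.b1x.eq h'.b1x.eq
    · exact Prod.ext h.b2g.eq h'.b2g.eq
    · exact Prod.ext h.b2x.eq h'.b2x.eq
    · exact Prod.ext h.sq h'.sq
    · rw [htr]; exact Prod.ext h.c1 h'.c1
    · rw [htr]; exact Prod.ext h.c2 h'.c2
    · rw [htr]; exact Prod.ext h.c3 h'.c3
    · rw [htr, htr, htr, htr]; exact Prod.ext h.sum h'.sum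
  set R := closure ({(g, g'), (x, x')} : Set (G × G')) with hR
  have hcard : Nat.card R ≤ 320 := card_closure_le hrel
  let p : R →* G := (MonoidHom.fst G G').comp R.subtype
  let p' : R →* G' := (MonoidHom.snd G G').comp R.subtype
  have hp : Function.Surjective p := by
    rw [← MonoidHom.range_eq_top, MonoidHom.range_comp, R.range_subtype, hR, MonoidHom.map_closure,
      Set.image_insert_eq, Set.image_singleton]
    exact ht
  have hp' : Function.Surjective p' := by
    rw [← MonoidHom.range_eq_top, MonoidHom.range_comp, R.range_subtype, hR, MonoidHom.map_closure,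
      Set.image_insert_eq, Set.image_singleton]
    exact ht'
  have hb : Function.Bijective p := (Nat.bijective_iff_surjective_and_card p).2 ⟨hp,
    le_antisymm (hcard.trans hG.ge) (Nat.card_le_card_of_surjective p hp)⟩
  have hb' : Function.Bijective p' := (Nat.bijective_iff_surjective_and_card p').2 ⟨hp',
    le_antisymm (hcard.trans hG'.ge) (Nat.card_le_card_of_surjective p' hp')⟩
  exact ⟨(MulEquiv.ofBijective p hb).symm.trans (MulEquiv.ofBijective p' hb')⟩

end CfsgLib.CFun.Split320
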