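import Cfsg.Agent.Lib.Qd.Unstable
import Cfsg.Agent.Lib.Fusion.ZJ
import Cfsg.Agent.Lib.CFun.FusionSection
import Cfsg.Prelude.Def_LocalEven

/-!
# Stability in the normalizer form and quotients

Stability is read off pairs of quadratic elements; it passes to subgroups, to quotients by normal
`p'`-subgroups and, for odd `p`, to quotients by central `p`-subgroups.
-/

set_option autoImplicit false
set_option linter.style.haveILetI false

open scoped commutatorElement
open Matrix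

namespace CfsgLib.CFun

universe u

/-- Two quadratic elements of `N(P)` generate a `p`-group of operators on `P`. -/
def StablePair (p : ℕ) (G : Type u) [Group G] : Prop :=
  ∀ P : Subgroup G, IsPGroup p P → ∀ a ∈ Subgroup.normalizer (P : Set G),
    ∀ b ∈ Subgroup.normalizer (P : Set G),
      ⁅⁅P, Subgroup.zpowers a⁆, Subgroup.zpowers a⁆ = ⊥ →
      ⁅⁅P, Subgroup.zpowers b⁆, Subgroup.zpowers b⁆ = ⊥ →
      ∀ y ∈ Subgroup.closure {a, b}, ∃ e : ℕ, y ^ p ^ e ∈ Subgroup.centralizer (P : Set G)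

variable {G : Type u} [Group G] [Finite G] {p : ℕ} [Fact p.Prime]

/-- Stability gives the pair form. -/
theorem stablePair_of_isNormalizerPStable (h : Cfsg.IsNormalizerPStable p G) : StablePair p G := by
  intro P hP a ha b hb hqa hqb y hy
  set N := Subgroup.normalizer (P : Set G)
  set q := QuotientGroup.mk' ((Subgroup.centralizer (P : Set G)).subgroupOf N) with hq
  have ha' : q ⟨a, ha⟩ ∈ Cfsg.pCore p _ := h P hP a ha hqa
  have hb' : q ⟨b, hb⟩ ∈ Cfsg.pCore p _ := h P hP b hb hqb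
  have hmap : (Subgroup.closure {(⟨a, ha⟩ : N), ⟨b, hb⟩}).map N.subtype = Subgroup.closure {a, b} := by
    rw [MonoidHom.map_closure, Set.image_pair]; rfl
  rw [← hmap] at hy
  obtain ⟨y', hy', rfl⟩ := hy
  have hle : Subgroup.closure {(⟨a, ha⟩ : N), ⟨b, hb⟩} ≤ (Cfsg.pCore p _).comap q :=
    (Subgroup.closure_le _).2 (by rintro z (rfl | rfl) <;> assumption)
  obtain ⟨e, he⟩ := CfsgLib.Coprime.pCore_isPGroup p ⟨q y', hle hy'⟩
  exact ⟨e, (QuotientGroup.eq_one_iff (y' ^ p ^ e)).1 ((map_pow q y' _).trans (congrArg Subtype.val he))⟩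

/-- The pair form gives stability. -/
theorem isNormalizerPStable_of_stablePair (h : StablePair p G) : Cfsg.IsNormalizerPStable p G := by
  intro P hP g hg hq
  by_contra hn
  obtain ⟨x, y, hy, hye⟩ :=
    CfsgLib.Qd.exists_pair_of_not_mem _ (QuotientGroup.mk'_surjective _) hn
  have hy' : (y : G) ∈ Subgroup.closure {g, (x : G) * g * (x : G)⁻¹} := by
    have := Subgroup.mem_map_of_mem (Subgroup.normalizer (P : Set G)).subtype hy
    rwa [MonoidHom.map_closure, Set.image_pair] at this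
  obtain ⟨e, he⟩ := h P hP g hg _ (mul_mem (mul_mem x.2 hg) (inv_mem x.2)) hq
    (CfsgLib.Qd.quadratic_conj x.2 hq) _ hy'
  exact hye e ((QuotientGroup.eq_one_iff _).2 he)

/-- The pair form passes along injective homomorphisms. -/
theorem StablePair.of_injective {H : Type u} [Group H] (h : StablePair p G) (f : H →* G)
    (hf : Function.Injective f) : StablePair p H := by
  intro P hP a ha b hb hqa hqb y hy
  have hy' : f y ∈ Subgroup.closure {f a, f b} := by
    have := Subgroup.mem_map_of_mem f hy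
    rwa [MonoidHom.map_closure, Set.image_pair] at this
  obtain ⟨e, he⟩ := h (P.map f) (hP.map f) (f a) (Subgroup.le_normalizer_map f ⟨a, ha, rfl⟩) (f b)
    (Subgroup.le_normalizer_map f ⟨b, hb, rfl⟩) (CfsgLib.Qd.quadratic_map f hqa)
    (CfsgLib.Qd.quadratic_map f hqb) _ hy'
  refine ⟨e, Subgroup.mem_centralizer_iff.2 fun x hx => hf ?_⟩
  simpa only [map_mul, map_pow] using
    Subgroup.mem_centralizer_iff.1 he (f x) ⟨x, hx, rfl⟩

/-- A normal `p'`-subgroup may be factored out. -/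
theorem StablePair.quotient_pPrime (h : StablePair p G) (N : Subgroup G) [N.Normal]
    (hN : ¬ p ∣ Nat.card N) : StablePair p (G ⧸ N) := by
  intro P hP a ha b hb hqa hqb y hy
  set π := QuotientGroup.mk' N
  have hπ := QuotientGroup.mk'_surjective N
  obtain ⟨S⟩ := (inferInstance : Nonempty (Sylow p ↥(P.comap π)))
  set P0 : Subgroup G := (S : Subgroup ↥(P.comap π)).map (P.comap π).subtype with hP0
  have hP0p : IsPGroup p P0 := S.2.map _
  have hmap : P0.map π = P := by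
    rw [hP0, Subgroup.map_map]
    let f : ↥(P.comap π) →* ↥P := π.subgroupComap P
    have hf : Function.Surjective f := MonoidHom.subgroupComap_surjective_of_surjective π P hπ
    have h1 : (S : Subgroup ↥(P.comap π)).map f = ⊤ :=
      ((S.mapSurjective hf).is_maximal' (hP.to_subgroup ⊤ |>.of_equiv (MulEquiv.refl _)) le_top).symm
    have h2 : π.comp (P.comap π).subtype = P.subtype.comp f := rfl
    rw [h2, ← Subgroup.map_map, h1, ← MonoidHom.range_eq_map, Subgroup.range_subtype]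
  have hlift : ∀ z ∈ Subgroup.normalizer (P : Set (G ⧸ N)), ∃ z0 ∈ Subgroup.normalizer (P0 : Set G),
      π z0 = z := fun z hz => by
    rw [← hmap] at hz
    exact CfsgLib.Fusion.normalizer_map_le (p := p) N hN hP0p hz
  have hquad : ∀ z0 ∈ Subgroup.normalizer (P0 : Set G),
      ⁅⁅P, Subgroup.zpowers (π z0)⁆, Subgroup.zpowers (π z0)⁆ = ⊥ →
      ⁅⁅P0, Subgroup.zpowers z0⁆, Subgroup.zpowers z0⁆ = ⊥ := by
    intro z0 hz0 hq
    rw [← hmap, ← MonoidHom.map_zpowers, ← Subgroup.map_commutator, ← Subgroup.map_commutator,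
      Subgroup.map_eq_bot_iff, QuotientGroup.ker_mk'] at hq
    rw [eq_bot_iff]
    have hle : ⁅⁅P0, Subgroup.zpowers z0⁆, Subgroup.zpowers z0⁆ ≤ P0 := by
      have hz : Subgroup.zpowers z0 ≤ Subgroup.normalizer (P0 : Set G) := Subgroup.zpowers_le.2 hz0
      have h1 : ⁅P0, Subgroup.zpowers z0⁆ ≤ P0 := Subgroup.le_normalizer_iff_commutator_le_left.1 hz
      exact (Subgroup.commutator_mono h1 le_rfl).trans h1
    intro v hv
    exact Subgroup.mem_bot.2 (CfsgLib.Fusion.eq_one_of_pGroup_of_coprime hP0p (hle hv)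
      ((CfsgLib.Fusion.not_dvd_card_iff_forall_coprime_orderOf N).1 hN v (hq hv)))
  obtain ⟨a0, ha0, rfl⟩ := hlift a ha
  obtain ⟨b0, hb0, rfl⟩ := hlift b hb
  rw [← Set.image_pair, ← MonoidHom.map_closure] at hy
  obtain ⟨y0, hy0, rfl⟩ := hy
  obtain ⟨e, he⟩ := h P0 hP0p a0 ha0 b0 hb0 (hquad a0 ha0 hqa) (hquad b0 hb0 hqb) y0 hy0
  refine ⟨e, Subgroup.mem_centralizer_iff.2 fun x hx => ?_⟩
  rw [← hmap] at hx
  obtain ⟨v, hv, rfl⟩ := hx
  rw [← map_pow, ← map_mul, ← map_mul, Subgroup.mem_centralizer_iff.1 he v hv]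

omit [Fact p.Prime] in
/-- Powers that fix a set force an element of coprime order to fix it. -/
theorem mem_of_ppow_mem {K : Subgroup G} {t : G} {e : ℕ} (hcop : (orderOf t).Coprime p)
    (h : t ^ p ^ e ∈ K) : t ∈ K := by
  obtain ⟨m, hm⟩ := exists_pow_eq_self_of_coprime (Nat.Coprime.pow_left e hcop.symm)
  exact hm ▸ pow_mem h m

omit [Fact p.Prime] in
/-- An element normalizing `P` may be adjusted to commute with an involutory operator. -/
theorem exists_commuting_adjust {Q : Type u} [Group Q] {T A : Q} (hT : T * T = 1) {j : ℕ}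
    (hw : (A * T * A⁻¹ * T) ^ (2 * j + 1) = 1) :
    Commute T (((A * T * A⁻¹ * T) ^ (j + 1))⁻¹ * A) := by
  have hTi : T⁻¹ = T := inv_eq_of_mul_eq_one_right hT
  set T1 := A * T * A⁻¹ with hT1
  have hT1i : T1⁻¹ = T1 := by
    refine inv_eq_of_mul_eq_one_right ?_
    rw [hT1, show A * T * A⁻¹ * (A * T * A⁻¹) = A * (T * T) * A⁻¹ by group, hT, mul_one, mul_inv_cancel]
  set w := T1 * T with hwdef
  set h := w ^ (j + 1) with hh
  have e1 : T * h * T = h⁻¹ := by
    have : T * w * T⁻¹ = w⁻¹ := by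
      rw [hwdef, _root_.mul_inv_rev, hT1i, hTi, mul_assoc T, mul_assoc T1, hT, mul_one]
    have h2 := conj_pow (a := T) (b := w) (i := j + 1)
    rw [this, inv_pow, hTi] at h2
    exact h2.symm
  have e2 : h * T * h⁻¹ = T1 := by
    have : h * T * h⁻¹ = h * h * T := by
      rw [← e1]
      simp only [mul_assoc, mul_left_cancel_iff]
      rw [← mul_assoc T T, hT, one_mul]
    rw [this, hh, ← pow_add, show j + 1 + (j + 1) = 2 * j + 1 + 1 by omega, pow_succ, hw, one_mul,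
      hwdef, mul_assoc, hT, mul_one]
  show T * (h⁻¹ * A) = h⁻¹ * A * T
  calc T * (h⁻¹ * A) = h⁻¹ * (h * T * h⁻¹) * A := by group
    _ = h⁻¹ * A * T := by rw [e2, hT1]; group

/-- A natural module on `P / M` over a central subgroup contradicts stability. -/
theorem false_of_natural (hst : StablePair p G) (hp : p ≠ 2) {P M Z : Subgroup G}
    (hP : IsPGroup p P) (hMP : M ≤ P) (hZc : Z ≤ Subgroup.center G)
    (hM : M = (frattini P).map P.subtype ⊔ Z) {a c : G} {K : Subgroup G}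
    (hK : K = Subgroup.closure {a, c}) (ψ : K →* Matrix.SpecialLinearGroup (Fin 2) (ZMod p))
    (hψ : Function.Surjective ψ) (θ : G → Fin 2 → ZMod p)
    (hadd : ∀ x ∈ P, ∀ y ∈ P, θ (x * y) = θ x + θ y)
    (hker : ∀ x ∈ P, θ x = 0 ↔ x ∈ M) (hsurj : ∀ w, ∃ x ∈ P, θ x = w)
    (hN : K ≤ Subgroup.normalizer (P : Set G))
    (hconj : ∀ (x : K), ∀ v ∈ P,
      θ ((x : G) * v * (x : G)⁻¹) = (ψ x).1 *ᵥ θ v)
    (hqa : ⁅⁅P, Subgroup.zpowers a⁆, Subgroup.zpowers a⁆ ≤ M)
    (hqc : ⁅⁅P, Subgroup.zpowers c⁆, Subgroup.zpowers c⁆ ≤ M)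
    (hind : ∀ x ∈ K, ∃ e : ℕ, x ^ p ^ e ∈ Subgroup.centralizer (M : Set G)) :
    False := by
  classical
  have hpr : p.Prime := Fact.out
  haveI : Fact (Even (Fintype.card (Fin 2))) := ⟨by simp⟩
  have hodd : Odd p := hpr.odd_of_ne_two hp
  have h2 : (2 : ZMod p) ≠ 0 := by
    intro h
    have : ((2 : ℕ) : ZMod p) = 0 := by exact_mod_cast h
    exact hp ((Nat.prime_dvd_prime_iff_eq hpr Nat.prime_two).1 ((ZMod.natCast_eq_zero_iff _ _).1 this))
  have cj : ∀ x ∈ K, ∀ v ∈ P, x * v * x⁻¹ ∈ P := fun x hx v hv =>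
    (Subgroup.mem_normalizer_iff.1 (hN hx) v).1 hv
  have hθ1 : θ 1 = 0 := (hker 1 (one_mem P)).2 (one_mem M)
  have hθinv : ∀ x ∈ P, θ x⁻¹ = -θ x := fun x hx => eq_neg_of_add_eq_zero_left (by
    rw [← hadd _ (inv_mem hx) x hx, inv_mul_cancel, hθ1])
  have hneg : ∀ w : Fin 2 → ZMod p,
      (-1 : Matrix.SpecialLinearGroup (Fin 2) (ZMod p)).1 *ᵥ w = -w := fun w => by
    rw [Matrix.SpecialLinearGroup.coe_neg, Matrix.SpecialLinearGroup.coe_one, Matrix.neg_mulVec,
      Matrix.one_mulVec]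
  have hone : ∀ w : Fin 2 → ZMod p,
      (1 : Matrix.SpecialLinearGroup (Fin 2) (ZMod p)).1 *ᵥ w = w := fun w => by
    rw [Matrix.SpecialLinearGroup.coe_one, Matrix.one_mulVec]
  have halve : ∀ w : Fin 2 → ZMod p,
      -((-2 : ZMod p)⁻¹ • w) + -((-2 : ZMod p)⁻¹ • w) = w := fun w => by
    rw [← neg_add, ← add_smul, ← neg_smul, inv_neg, ← neg_add, neg_neg, ← two_mul,
      mul_inv_cancel₀ h2, one_smul]
  -- an element of coprime order inverting `P / M`
  obtain ⟨t, hψt, htcop⟩ : ∃ t : K, ψ t = -1 ∧ (orderOf (t : G)).Coprime p := by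
    obtain ⟨t0, ht0⟩ := hψ (-1)
    obtain ⟨k, l, hl, hkl⟩ :=
      Nat.exists_eq_pow_mul_and_not_dvd (orderOf_pos (t0 : G)).ne' p hpr.ne_one
    refine ⟨t0 ^ p ^ k, ?_, Nat.Coprime.coprime_dvd_left (orderOf_dvd_of_pow_eq_one (n := l) ?_)
      (hpr.coprime_iff_not_dvd.2 hl).symm⟩
    · rw [map_pow, ht0, hodd.pow.neg_one_pow]
    · rw [SubgroupClass.coe_pow, ← pow_mul, ← hkl, pow_orderOf_eq_one]
  have hθt : ∀ v ∈ P, θ ((t : G) * v * (t : G)⁻¹) = -θ v := fun v hv => by
    rw [hconj t v hv, hψt, hneg]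
  have htM : (t : G) ∈ Subgroup.centralizer (M : Set G) := by
    obtain ⟨e, he⟩ := hind _ t.2
    exact mem_of_ppow_mem htcop he
  have fixM : ∀ m ∈ M, (t : G) * m * (t : G)⁻¹ = m := fun m hm =>
    mul_inv_eq_iff_eq_mul.2 (Subgroup.mem_centralizer_iff.1 htM m hm).symm
  -- `M` is central in `P`
  have hMn : ∀ x ∈ P, ∀ m ∈ M, x * m * x⁻¹ ∈ M := fun x hx m hm => by
    have hm' := hMP hm
    refine (hker _ (mul_mem (mul_mem hx hm') (inv_mem hx))).1 ?_
    rw [hadd _ (mul_mem hx hm') _ (inv_mem hx), hadd x hx m hm', hθinv x hx, (hker m hm').2 hm]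
    abel
  have hPC : P ≤ Subgroup.centralizer (M : Set G) := by
    set C := P ⊓ Subgroup.centralizer (M : Set G)
    have hu : ∀ x ∈ P, (t : G) * x * (t : G)⁻¹ * x⁻¹ ∈ C := by
      intro x hx
      have hu' : (t : G) * x * (t : G)⁻¹ * x⁻¹ ∈ P := mul_mem (cj _ t.2 x hx) (inv_mem hx)
      refine Subgroup.mem_inf.2 ⟨hu', Subgroup.mem_centralizer_iff.2 fun m hm => ?_⟩
      have h1 := fixM _ (hMn x⁻¹ (inv_mem hx) m hm)
      rw [inv_inv] at h1
      have h2 : (t : G) * x * (t : G)⁻¹ * x⁻¹ * m * ((t : G) * x * (t : G)⁻¹ * x⁻¹)⁻¹ = m := by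
        calc _ = (t : G) * x * (t : G)⁻¹ * (x⁻¹ * m * x) * ((t : G) * x * (t : G)⁻¹)⁻¹ := by group
          _ = (t : G) * x * (t : G)⁻¹ * ((t : G) * (x⁻¹ * m * x) * (t : G)⁻¹) *
              ((t : G) * x * (t : G)⁻¹)⁻¹ := by rw [h1]
          _ = (t : G) * m * (t : G)⁻¹ := by group
          _ = m := fixM m hm
      exact (mul_inv_eq_iff_eq_mul.1 h2).symm
    have hCM : P ≤ C ⊔ M := by
      intro v hv
      obtain ⟨x, hx, hxv⟩ := hsurj ((-2 : ZMod p)⁻¹ • θ v)
      have hu1 := hu x hx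
      have huP := (Subgroup.mem_inf.1 hu1).1
      have e : θ ((t : G) * x * (t : G)⁻¹ * x⁻¹) = θ v := by
        rw [hadd _ (cj _ t.2 x hx) _ (inv_mem hx), hθt x hx, hθinv x hx, hxv]
        exact halve _
      have hm : ((t : G) * x * (t : G)⁻¹ * x⁻¹)⁻¹ * v ∈ M := by
        refine (hker _ (mul_mem (inv_mem huP) hv)).1 ?_
        rw [hadd _ (inv_mem huP) v hv, hθinv _ huP, e, neg_add_cancel]
      have := mul_mem (Subgroup.mem_sup_left (T := M) hu1) (Subgroup.mem_sup_right (S := C) hm)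
      rwa [mul_inv_cancel_left] at this
    have hZC : Z ≤ Subgroup.centralizer (M : Set G) := hZc.trans (Subgroup.center_le_centralizer _)
    have hZP : Z ≤ P := le_trans (hM ▸ le_sup_right) hMP
    have hle : P ≤ C ⊔ (frattini P).map P.subtype := by
      refine hCM.trans (sup_le le_sup_left ?_)
      rw [hM]
      exact sup_le le_sup_right ((le_inf hZP hZC).trans le_sup_left)
    have htop : C.subgroupOf P = ⊤ := by
      refine frattini_nongenerating ?_
      refine Subgroup.map_injective P.subtype_injective ?_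
      rw [Subgroup.map_sup, Subgroup.map_subgroupOf_eq_of_le inf_le_left, ← MonoidHom.range_eq_map,
        Subgroup.range_subtype]
      exact le_antisymm (sup_le inf_le_left (Subgroup.map_subtype_le _)) hle
    intro x hx
    exact (Subgroup.mem_inf.1 (Subgroup.subgroupOf_eq_top.1 htop hx)).2
  have cMP : ∀ m ∈ M, ∀ x ∈ P, Commute m x := fun m hm x hx =>
    Subgroup.mem_centralizer_iff.1 (hPC hx) m hm
  -- the derived subgroup of `P`
  obtain ⟨x1, hx1, hθx1⟩ := hsurj ![1, 0]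
  obtain ⟨x2, hx2, hθx2⟩ := hsurj ![0, 1]
  set z0 := x1 * x2 * x1⁻¹ * x2⁻¹ with hz0
  have hz0P : z0 ∈ P := mul_mem (mul_mem (mul_mem hx1 hx2) (inv_mem hx1)) (inv_mem hx2)
  have hcommM : ∀ x ∈ P, ∀ y ∈ P, x * y * x⁻¹ * y⁻¹ ∈ M := fun x hx y hy => by
    refine (hker _ (mul_mem (mul_mem (mul_mem hx hy) (inv_mem hx)) (inv_mem hy))).1 ?_
    rw [hadd _ (mul_mem (mul_mem hx hy) (inv_mem hx)) _ (inv_mem hy), hadd _ (mul_mem hx hy) _ (inv_mem hx),
      hadd x hx y hy, hθinv x hx, hθinv y hy]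
    abel
  have hz0M : z0 ∈ M := hcommM x1 hx1 x2 hx2
  have hθpow : ∀ x ∈ P, ∀ n : ℕ, θ (x ^ n) = (n : ZMod p) • θ x := by
    intro x hx n
    induction n with
    | zero => simp [hθ1]
    | succ n ih => rw [pow_succ, hadd _ (pow_mem hx n) x hx, ih, Nat.cast_succ, add_smul, one_smul]
  have hz0p : z0 ^ p = 1 := by
    have key : ∀ n : ℕ, x1 ^ n * x2 * (x1 ^ n)⁻¹ = z0 ^ n * x2 := by
      intro n
      induction n with
      | zero => simp
      | succ n ih =>
        calc x1 ^ (n + 1) * x2 * (x1 ^ (n + 1))⁻¹ = x1 * (x1 ^ n * x2 * (x1 ^ n)⁻¹) * x1⁻¹ := by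
              rw [pow_succ']; group
          _ = x1 * z0 ^ n * x2 * x1⁻¹ := by rw [ih]; group
          _ = z0 ^ n * (z0 * x2) := by
              rw [((cMP z0 hz0M x1 hx1).pow_left n).symm.eq]
              simp only [mul_assoc]
              rw [hz0]
              simp only [mul_assoc, inv_mul_cancel, mul_one]
          _ = z0 ^ (n + 1) * x2 := by rw [pow_succ, mul_assoc (z0 ^ n) z0 x2]
    have h := key p
    have hpM : x1 ^ p ∈ M := (hker _ (pow_mem hx1 p)).1 (by
      rw [hθpow x1 hx1, ZMod.natCast_self, zero_smul])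
    rw [(cMP _ hpM x2 hx2).eq, mul_inv_cancel_right] at h
    exact mul_eq_right.1 h.symm
  set D := Subgroup.zpowers z0 with hD
  have hDM : D ≤ M := Subgroup.zpowers_le.2 hz0M
  have hcommD : ∀ x ∈ P, ∀ y ∈ P, ∃ d ∈ D, x * y * x⁻¹ = d * y := by
    have hdec : ∀ y ∈ P, ∃ (i j : ℕ) (m : G), m ∈ M ∧ y = x1 ^ i * x2 ^ j * m := by
      intro y hy
      refine ⟨(θ y 0).val, (θ y 1).val, (x1 ^ (θ y 0).val * x2 ^ (θ y 1).val)⁻¹ * y, ?_,
        (mul_inv_cancel_left _ _).symm⟩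
      have hq := mul_mem (pow_mem hx1 (θ y 0).val) (pow_mem hx2 (θ y 1).val)
      refine (hker _ (mul_mem (inv_mem hq) hy)).1 ?_
      rw [hadd _ (inv_mem hq) y hy, hθinv _ hq, hadd _ (pow_mem hx1 _) _ (pow_mem hx2 _),
        hθpow x1 hx1, hθpow x2 hx2, hθx1, hθx2]
      funext i
      fin_cases i <;> simp
    have hbase : ∀ x, (x = x1 ∨ x = x2) → ∀ y ∈ P, ∃ d ∈ D, x * y * x⁻¹ = d * y := by
      intro x hx y hy
      obtain ⟨i, j, m, hm, rfl⟩ := hdec y hy
      have e21 : x2 * x1 * x2⁻¹ = z0⁻¹ * x1 := by rw [hz0]; group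
      rcases hx with hx | hx <;> rw [hx]
      · refine ⟨z0 ^ j, pow_mem (Subgroup.mem_zpowers _) j, ?_⟩
        calc x1 * (x1 ^ i * x2 ^ j * m) * x1⁻¹
            = x1 ^ i * (x1 * x2 * x1⁻¹) ^ j * (x1 * m * x1⁻¹) := by rw [conj_pow]; group
          _ = x1 ^ i * (z0 * x2) ^ j * m := by
              rw [(cMP m hm x1 hx1).symm.eq, mul_inv_cancel_right]
              congr 3
              rw [hz0]; group
          _ = z0 ^ j * (x1 ^ i * x2 ^ j * m) := by
              rw [(cMP z0 hz0M x2 hx2).mul_pow,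
                ← mul_assoc (x1 ^ i), ← ((cMP z0 hz0M x1 hx1).pow_pow j i).eq]
              simp only [mul_assoc]
      · refine ⟨z0⁻¹ ^ i, pow_mem (inv_mem (Subgroup.mem_zpowers _)) i, ?_⟩
        calc x2 * (x1 ^ i * x2 ^ j * m) * x2⁻¹
            = (x2 * x1 * x2⁻¹) ^ i * x2 ^ j * (x2 * m * x2⁻¹) := by rw [conj_pow]; group
          _ = z0⁻¹ ^ i * (x1 ^ i * x2 ^ j * m) := by
              rw [(cMP m hm x2 hx2).symm.eq, mul_inv_cancel_right, e21,
                (cMP _ (inv_mem hz0M) x1 hx1).mul_pow]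
              simp only [mul_assoc]
    let T : Subgroup G :=
      { carrier := {x | x ∈ P ∧ ∀ y ∈ P, ∃ d ∈ D, x * y * x⁻¹ = d * y}
        one_mem' := ⟨one_mem P, fun y _ => ⟨1, one_mem D, by simp⟩⟩
        mul_mem' := by
          rintro x x' ⟨hx, h⟩ ⟨hx', h'⟩
          refine ⟨mul_mem hx hx', fun y hy => ?_⟩
          obtain ⟨d', hd', e'⟩ := h' y hy
          obtain ⟨d, hd, e⟩ := h y hy
          refine ⟨d' * d, mul_mem hd' hd, ?_⟩
          rw [show x * x' * y * (x * x')⁻¹ = x * (x' * y * x'⁻¹) * x⁻¹ by group, e',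
            ← mul_assoc x d' y, (cMP d' (hDM hd') x hx).symm.eq, mul_assoc d', mul_assoc d', e,
            mul_assoc]
        inv_mem' := by
          rintro x ⟨hx, h⟩
          refine ⟨inv_mem hx, fun y hy => ?_⟩
          obtain ⟨d, hd, e⟩ := h (x⁻¹ * y * x) (mul_mem (mul_mem (inv_mem hx) hy) hx)
          refine ⟨d⁻¹, inv_mem hd, ?_⟩
          rw [show x * (x⁻¹ * y * x) * x⁻¹ = y by group] at e
          rw [inv_inv, eq_inv_mul_iff_mul_eq]
          exact e.symm }
    intro x hx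
    have hxT : x ∈ T := by
      obtain ⟨i, j, m, hm, rfl⟩ := hdec x hx
      exact mul_mem (mul_mem (pow_mem (show x1 ∈ T from ⟨hx1, hbase x1 (Or.inl rfl)⟩) i)
        (pow_mem (show x2 ∈ T from ⟨hx2, hbase x2 (Or.inr rfl)⟩) j))
        (show m ∈ T from ⟨hMP hm, fun y hy => ⟨1, one_mem D, by
          rw [one_mul, (cMP m hm y hy).eq, mul_inv_cancel_right]⟩⟩)
    exact hxT.2
  have fixD : ∀ g ∈ K, ∀ d ∈ D, g * d * g⁻¹ = d := by
    intro g hg
    suffices h : g * z0 * g⁻¹ = z0 by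
      intro d hd
      obtain ⟨i, rfl⟩ := Subgroup.mem_zpowers_iff.1 hd
      rw [← conj_zpow, h]
    obtain ⟨d, hd, e⟩ := hcommD _ (cj g hg x1 hx1) _ (cj g hg x2 hx2)
    have hgz : g * z0 * g⁻¹ = d := by
      rw [eq_comm, ← eq_mul_inv_iff_mul_eq] at e
      rw [e, hz0]
      group
    obtain ⟨i, hi⟩ : ∃ i : ℕ, z0 ^ i = d :=
      Submonoid.mem_powers_iff _ _ |>.1 (mem_powers_iff_mem_zpowers.2 hd)
    have hit : ∀ n : ℕ, g ^ n * z0 * (g ^ n)⁻¹ = z0 ^ i ^ n := by
      intro n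
      induction n with
      | zero => simp
      | succ n ih =>
        rw [pow_succ, show g ^ n * g * z0 * (g ^ n * g)⁻¹ = g ^ n * (g * z0 * g⁻¹) * (g ^ n)⁻¹ by group,
          hgz, ← hi, ← conj_pow, ih, ← pow_mul, pow_succ]
    rw [hgz, ← hi]
    obtain ⟨e, he⟩ := hind g hg
    have h1 := hit (p ^ e)
    rw [(Subgroup.mem_centralizer_iff.1 he z0 hz0M).symm, mul_inv_cancel_right] at h1
    by_cases hz1 : z0 = 1
    · rw [hz1, one_pow]
    have hord : orderOf z0 = p := orderOf_eq_prime hz0p hz1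
    have h3 : i ^ p ^ e ≡ 1 [MOD p] := by
      have h' := (pow_eq_pow_iff_modEq (x := z0)).1 (h1.symm.trans (pow_one z0).symm)
      rwa [hord] at h'
    have h4 : (i : ZMod p) = 1 := by
      have := (ZMod.natCast_eq_natCast_iff _ _ _).2 h3
      rwa [Nat.cast_pow, ZMod.pow_card_pow, Nat.cast_one] at this
    have h5 : i ≡ 1 [MOD orderOf z0] := by
      rw [hord]
      exact (ZMod.natCast_eq_natCast_iff _ _ _).1 (by rw [h4, Nat.cast_one])
    rw [pow_eq_pow_iff_modEq.2 h5, pow_one]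
  -- operators
  set N := Subgroup.normalizer (P : Set G) with hNdef
  set q := QuotientGroup.mk' ((Subgroup.centralizer (P : Set G)).subgroupOf N) with hq
  have hq1 : ∀ z : N, (z : G) ∈ Subgroup.centralizer (P : Set G) → q z = 1 := fun z hz =>
    (QuotientGroup.eq_one_iff z).2 hz
  have stab : ∀ x : K, ψ x = 1 → (x : G) ∈ Subgroup.centralizer (M : Set G) →
      ∃ k : ℕ, (x : G) ^ p ^ k ∈ Subgroup.centralizer (P : Set G) := fun x hx hxM =>
    exists_ppow_mem_of_stabilizes hP hMP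
      (fun m hm => (Subgroup.mem_centralizer_iff.1 hxM m hm).symm) fun v hv => by
      refine (hker _ (mul_mem (cj _ x.2 v hv) (inv_mem hv))).1 ?_
      rw [hadd _ (cj _ x.2 v hv) _ (inv_mem hv), hconj x v hv, hx, hone, hθinv v hv, add_neg_cancel]
  have ht2 : ((t * t : K) : G) ∈ Subgroup.centralizer (P : Set G) := by
    obtain ⟨k, hk⟩ := stab (t * t) (by rw [map_mul, hψt, neg_mul_neg, one_mul])
      (mul_mem htM htM)
    refine mem_of_ppow_mem ?_ hk
    rw [Subgroup.coe_mul, ← sq]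
    exact Nat.Coprime.coprime_dvd_left (orderOf_pow_dvd 2) htcop
  let T : N := ⟨t, hN t.2⟩
  have hTT : q T * q T = 1 := by rw [← map_mul]; exact hq1 _ ht2
  have adjust : ∀ x : K, ∃ x' : K, ψ x' = ψ x ∧
      ∀ v ∈ P, (x' : G) * ((t : G) * v * (t : G)⁻¹) * (x' : G)⁻¹ =
        (t : G) * ((x' : G) * v * (x' : G)⁻¹) * (t : G)⁻¹ := by
    intro x
    set w : K := x * t * x⁻¹ * t
    have hψw : ψ w = 1 := by
      rw [map_mul, map_mul, map_mul, map_inv, hψt]
      simp only [mul_neg, mul_one, neg_mul, neg_neg, mul_inv_cancel]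
    have hwM : (w : G) ∈ Subgroup.centralizer (M : Set G) := by
      have hxn : (x : G) ∈ Subgroup.normalizer (M : Set G) := by
        refine CfsgLib.Fusion.conjBy_eq_iff.1 (CfsgLib.Fusion.conjBy_eq_of_le
          (CfsgLib.Fusion.conjBy_le_iff.2 fun m hm => ?_))
        refine (hker _ (cj _ x.2 m (hMP hm))).1 ?_
        rw [hconj x m (hMP hm), (hker m (hMP hm)).2 hm, Matrix.mulVec_zero]
      exact mul_mem ((Subgroup.mem_normalizer_iff.1
        (CfsgLib.CFun.le_normalizer_centralizer le_rfl hxn) _).1 htM) htM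
    obtain ⟨k, hk⟩ := stab w hψw hwM
    obtain ⟨j, hj⟩ := hodd.pow (n := k)
    let X : N := ⟨x, hN x.2⟩
    have hw : (q X * q T * (q X)⁻¹ * q T) ^ (2 * j + 1) = 1 := by
      rw [← map_inv, ← map_mul, ← map_mul, ← map_mul, ← map_pow, ← hj]
      exact hq1 _ hk
    have hc := exists_commuting_adjust hTT hw
    refine ⟨(w ^ (j + 1))⁻¹ * x, by rw [map_mul, map_inv, map_pow, hψw, one_pow, inv_one, one_mul],
      fun v hv => ?_⟩
    set x' : K := (w ^ (j + 1))⁻¹ * x with hx'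
    let X' : N := ⟨x', hN x'.2⟩
    have hX' : q X' = ((q X * q T * (q X)⁻¹ * q T) ^ (j + 1))⁻¹ * q X := by
      rw [← map_inv, ← map_mul, ← map_mul, ← map_mul, ← map_pow, ← map_inv, ← map_mul]
      rfl
    have h0 : q ((T * X')⁻¹ * (X' * T)) = 1 := by
      rw [map_mul, map_inv, map_mul, map_mul, hX', hc.eq, inv_mul_cancel]
    have h1 := Subgroup.mem_centralizer_iff.1 ((QuotientGroup.eq_one_iff
      (N := (Subgroup.centralizer (P : Set G)).subgroupOf N) _).1 h0) v hv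
    calc (x' : G) * ((t : G) * v * (t : G)⁻¹) * (x' : G)⁻¹
        = (t : G) * (x' : G) * ((((T * X')⁻¹ * (X' * T) : N) : G) * v) * (((T * X')⁻¹ * (X' * T) : N) : G)⁻¹ *
            ((t : G) * (x' : G))⁻¹ := by
          simp only [Subgroup.coe_mul, Subgroup.coe_inv, T, X']; group
      _ = (t : G) * ((x' : G) * v * (x' : G)⁻¹) * (t : G)⁻¹ := by
          rw [← show v * (((T * X')⁻¹ * (X' * T) : N) : G) = (((T * X')⁻¹ * (X' * T) : N) : G) * v from h1]
          group
  -- the inverted part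
  let R : Subgroup G :=
    { carrier := {x | x ∈ P ∧ (t : G) * x * (t : G)⁻¹ * x ∈ D}
      one_mem' := ⟨one_mem P, by simp⟩
      mul_mem' := by
        rintro x y ⟨hx, hx'⟩ ⟨hy, hy'⟩
        refine ⟨mul_mem hx hy, ?_⟩
        obtain ⟨d, hd, e⟩ := hcommD _ (cj _ t.2 y hy) x hx
        rw [mul_inv_eq_iff_eq_mul] at e
        have e2 : (t : G) * (x * y) * (t : G)⁻¹ * (x * y) =
            ((t : G) * x * (t : G)⁻¹) * d * (x * ((t : G) * y * (t : G)⁻¹ * y)) := by
          calc _ = (t : G) * x * (t : G)⁻¹ * ((t : G) * y * (t : G)⁻¹ * x) * y := by group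
            _ = _ := by rw [e]; group
        rw [e2, (cMP d (hDM hd) _ (cj _ t.2 x hx)).symm.eq, mul_assoc d, ← mul_assoc _ x]
        exact mul_mem hd (mul_mem hx' hy')
      inv_mem' := by
        rintro x ⟨hx, hx'⟩
        refine ⟨inv_mem hx, ?_⟩
        obtain ⟨d, hd, e⟩ := hcommD x hx _ (cj _ t.2 x hx)
        rw [mul_inv_eq_iff_eq_mul] at e
        rw [show (t : G) * x⁻¹ * (t : G)⁻¹ * x⁻¹ = (x * ((t : G) * x * (t : G)⁻¹))⁻¹ by group, e,
          mul_assoc]
        exact inv_mem (mul_mem hd hx') }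
  have hR : ∀ x, x ∈ R ↔ x ∈ P ∧ (t : G) * x * (t : G)⁻¹ * x ∈ D := fun _ => Iff.rfl
  have htD : ∀ d ∈ D, (t : G) * d * (t : G)⁻¹ = d := fun d hd => fixM d (hDM hd)
  have hRM : ∀ x ∈ R, x ∈ M → x ∈ D := by
    intro x hx hxM
    have h := ((hR x).1 hx).2
    rw [fixM x hxM, ← sq] at h
    obtain ⟨k, hk⟩ := hP ⟨x, hMP hxM⟩
    refine mem_of_ppow_mem (p := 2) (e := 1) ?_ (by simpa using h)
    exact Nat.Coprime.coprime_dvd_left (orderOf_dvd_of_pow_eq_one (congrArg Subtype.val hk))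
      ((Nat.coprime_two_right.2 hodd).pow_left k)
  have hRsup : P ≤ R ⊔ M := by
    intro v hv
    obtain ⟨x, hx, hxv⟩ := hsurj ((-2 : ZMod p)⁻¹ • θ v)
    set u := x⁻¹ * ((t : G) * x * (t : G)⁻¹) with hu
    have huP : u ∈ P := mul_mem (inv_mem hx) (cj _ t.2 x hx)
    have huR : u ∈ R := by
      refine (hR u).2 ⟨huP, ?_⟩
      have h1 : (t : G) * u * (t : G)⁻¹ * u = 1 := by
        have hc := Subgroup.mem_centralizer_iff.1 ht2 x hx
        rw [Subgroup.coe_mul] at hc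
        calc (t : G) * u * (t : G)⁻¹ * u
            = (t : G) * x⁻¹ * (t : G)⁻¹ * (((t : G) * t) * x * ((t : G) * t)⁻¹) * x⁻¹ *
                ((t : G) * x * (t : G)⁻¹) := by rw [hu]; group
          _ = 1 := by rw [← hc]; group
      rw [h1]
      exact one_mem D
    have hm : u⁻¹ * v ∈ M := by
      refine (hker _ (mul_mem (inv_mem huP) hv)).1 ?_
      rw [hadd _ (inv_mem huP) v hv, hθinv u huP, hu, hadd _ (inv_mem hx) _ (cj _ t.2 x hx),
        hθinv x hx, hθt x hx, hxv, halve, neg_add_cancel]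
    have := mul_mem (Subgroup.mem_sup_left (T := M) huR) (Subgroup.mem_sup_right (S := R) hm)
    rwa [mul_inv_cancel_left] at this
  have normR : ∀ x' : K, (∀ v ∈ P, (x' : G) * ((t : G) * v * (t : G)⁻¹) * (x' : G)⁻¹ =
        (t : G) * ((x' : G) * v * (x' : G)⁻¹) * (t : G)⁻¹) →
      (x' : G) ∈ Subgroup.normalizer (R : Set G) := by
    intro x' hx'
    refine CfsgLib.Fusion.conjBy_eq_iff.1 (CfsgLib.Fusion.conjBy_eq_of_le
      (CfsgLib.Fusion.conjBy_le_iff.2 fun v hv => ?_))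
    obtain ⟨hvP, hvD⟩ := (hR v).1 hv
    refine (hR _).2 ⟨cj _ x'.2 v hvP, ?_⟩
    rw [← hx' v hvP,
      show (x' : G) * ((t : G) * v * (t : G)⁻¹) * (x' : G)⁻¹ * ((x' : G) * v * (x' : G)⁻¹) =
        (x' : G) * ((t : G) * v * (t : G)⁻¹ * v) * (x' : G)⁻¹ by group, fixD _ x'.2 _ hvD]
    exact hvD
  have quadR : ∀ x x' : K, ⁅⁅P, Subgroup.zpowers (x : G)⁆, Subgroup.zpowers (x : G)⁆ ≤ M →
      ψ x' = ψ x →
      (∀ v ∈ P, (x' : G) * ((t : G) * v * (t : G)⁻¹) * (x' : G)⁻¹ =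
        (t : G) * ((x' : G) * v * (x' : G)⁻¹) * (t : G)⁻¹) →
      ⁅⁅R, Subgroup.zpowers (x' : G)⁆, Subgroup.zpowers (x' : G)⁆ = ⊥ := by
    intro x x' hq hψx hx'
    rw [Subgroup.commutator_eq_bot_iff_le_centralizer, Subgroup.commutator_le]
    intro r hr h hh
    obtain ⟨i, rfl⟩ := Subgroup.mem_zpowers_iff.1 hh
    have hrP := ((hR r).1 hr).1
    set y := ⁅r, (x' : G) ^ i⁆ with hy
    have hyR : y ∈ R := by
      rw [hy, commutatorElement_def]
      have h1 := (Subgroup.mem_normalizer_iff.1 (zpow_mem (normR x' hx') i) r⁻¹).1 (inv_mem hr)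
      simpa only [mul_assoc] using mul_mem hr h1
    obtain ⟨hyP, hyD⟩ := (hR y).1 hyR
    set z := ⁅r, (x : G) ^ i⁆ with hz
    have hzP : z ∈ P := by
      rw [hz, commutatorElement_def]
      have h1 := cj _ (zpow_mem x.2 i) r⁻¹ (inv_mem hrP)
      simpa only [mul_assoc] using mul_mem hrP h1
    have hyz : θ y = θ z := by
      have e1 : y = r * (((x' ^ i : K) : G) * r⁻¹ * ((x' ^ i : K) : G)⁻¹) := by
        rw [hy, commutatorElement_def, SubgroupClass.coe_zpow]; group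
      have e2 : z = r * (((x ^ i : K) : G) * r⁻¹ * ((x ^ i : K) : G)⁻¹) := by
        rw [hz, commutatorElement_def, SubgroupClass.coe_zpow]; group
      rw [e1, e2, hadd _ hrP _ (cj _ (x' ^ i).2 _ (inv_mem hrP)),
        hadd _ hrP _ (cj _ (x ^ i).2 _ (inv_mem hrP)), hconj _ _ (inv_mem hrP),
        hconj _ _ (inv_mem hrP), map_zpow, map_zpow, hψx]
    set u := (x' : G) * y * (x' : G)⁻¹ * y⁻¹ with hu
    have huM : u ∈ M := by
      refine (hker _ (mul_mem (cj _ x'.2 y hyP) (inv_mem hyP))).1 ?_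
      rw [hadd _ (cj _ x'.2 y hyP) _ (inv_mem hyP), hconj x' y hyP, hψx, hyz, ← hconj x z hzP,
        hθinv y hyP, hyz, ← hθinv z hzP, ← hadd _ (cj _ x.2 z hzP) _ (inv_mem hzP)]
      refine (hker _ (mul_mem (cj _ x.2 z hzP) (inv_mem hzP))).2 ?_
      have h1 : ⁅z, (x : G)⁆ ∈ M := hq (Subgroup.commutator_mem_commutator
        (Subgroup.commutator_mem_commutator hrP (Subgroup.zpow_mem_zpowers _ i))
        (Subgroup.mem_zpowers _))
      rw [show (x : G) * z * (x : G)⁻¹ * z⁻¹ = ⁅z, (x : G)⁆⁻¹ by rw [commutatorElement_def]; group]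
      exact inv_mem h1
    have huR : u ∈ R :=
      mul_mem ((Subgroup.mem_normalizer_iff.1 (normR x' hx') y).1 hyR) (inv_mem hyR)
    have huD := hRM u huR huM
    have hu2 : u = u⁻¹ := by
      set d := (t : G) * y * (t : G)⁻¹ * y with hd
      have e1 : (t : G) * y * (t : G)⁻¹ = d * y⁻¹ := by rw [hd, mul_inv_cancel_right]
      calc u = (t : G) * u * (t : G)⁻¹ := (htD u huD).symm
        _ = ((t : G) * ((x' : G) * y * (x' : G)⁻¹) * (t : G)⁻¹) *
              ((t : G) * y * (t : G)⁻¹)⁻¹ := by rw [hu]; group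
        _ = ((x' : G) * ((t : G) * y * (t : G)⁻¹) * (x' : G)⁻¹) *
              ((t : G) * y * (t : G)⁻¹)⁻¹ := by rw [hx' y hyP]
        _ = ((x' : G) * d * (x' : G)⁻¹) * ((x' : G) * y * (x' : G)⁻¹)⁻¹ * y * d⁻¹ := by
              rw [e1]; group
        _ = d * (y⁻¹ * u⁻¹ * y) * d⁻¹ := by
              rw [fixD _ x'.2 d hyD, hu]; group
        _ = u⁻¹ := by
              rw [mul_assoc y⁻¹, (cMP _ (inv_mem huM) y hyP).eq, inv_mul_cancel_left,
                (cMP d (hDM hyD) _ (inv_mem (hMP huM))).eq, mul_inv_cancel_right]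
    have hu1 : u = 1 := by
      have h22 : u ^ 2 = 1 := by rw [sq]; nth_rw 2 [hu2]; rw [mul_inv_cancel]
      obtain ⟨k, hk⟩ := hP ⟨u, hMP huM⟩
      have hc : (orderOf u).Coprime 2 := Nat.Coprime.coprime_dvd_left
        (orderOf_dvd_of_pow_eq_one (congrArg Subtype.val hk))
        ((Nat.coprime_two_right.2 hodd).pow_left k)
      exact orderOf_eq_one_iff.1 (Nat.eq_one_of_dvd_coprimes hc dvd_rfl
        (orderOf_dvd_of_pow_eq_one h22))
    rw [hu, mul_inv_eq_one, mul_inv_eq_iff_eq_mul] at hu1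
    rw [Subgroup.mem_centralizer_iff]
    rintro g ⟨l, rfl⟩
    exact (Commute.zpow_left hu1 l).eq
  let ga : K := ⟨a, hK ▸ Subgroup.subset_closure (Or.inl rfl)⟩
  let gc : K := ⟨c, hK ▸ Subgroup.subset_closure (Or.inr rfl)⟩
  obtain ⟨a', ha', hat⟩ := adjust ga
  obtain ⟨c', hc', hct⟩ := adjust gc
  have hψK : ∀ z, ∃ s : K, s ∈ Subgroup.closure {a', c'} ∧ ψ s = z := by
    intro z
    have htop : (Subgroup.closure {a', c'}).map ψ = ⊤ := by
      rw [MonoidHom.map_closure, Set.image_pair, ha', hc', ← Set.image_pair, ← MonoidHom.map_closure]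
      have : Subgroup.closure {ga, gc} = ⊤ := by
        refine Subgroup.map_injective K.subtype_injective ?_
        rw [MonoidHom.map_closure, Set.image_pair, ← MonoidHom.range_eq_map, Subgroup.range_subtype]
        exact hK.symm
      rw [this, Subgroup.map_top_of_surjective _ hψ]
    obtain ⟨s, hs, e⟩ := htop.ge (Subgroup.mem_top z)
    exact ⟨s, hs, e⟩
  obtain ⟨s, hs, hψs⟩ := hψK (-1)
  have hs' : (s : G) ∈ Subgroup.closure {(a' : G), (c' : G)} := by
    have := Subgroup.mem_map_of_mem K.subtype hs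
    rwa [MonoidHom.map_closure, Set.image_pair] at this
  obtain ⟨e, he⟩ := hst R (hP.to_le fun x hx => ((hR x).1 hx).1) a' (normR a' hat) c' (normR c' hct)
    (quadR ga a' hqa ha' hat) (quadR gc c' hqc hc' hct) _ hs'
  have hsn : ∀ v ∈ P, θ (((s ^ p ^ e : K) : G) * v * ((s ^ p ^ e : K) : G)⁻¹) = -θ v := fun v hv => by
    rw [hconj _ v hv, map_pow, hψs, hodd.pow.neg_one_pow, hneg]
  have hz : ∀ v ∈ R, θ v = 0 := fun v hv => by
    have hvP := ((hR v).1 hv).1
    have h1 := hsn v hvP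
    rw [SubgroupClass.coe_pow, (Subgroup.mem_centralizer_iff.1 he v hv).symm,
      mul_inv_cancel_right] at h1
    have h3 : (2 : ZMod p) • θ v = 0 := by
      rw [two_smul]; nth_rw 2 [h1]; rw [add_neg_cancel]
    exact (smul_eq_zero.1 h3).resolve_left h2
  have hle : P ≤ M := hRsup.trans (sup_le (fun v hv => (hker v ((hR v).1 hv).1).1 (hz v hv)) le_rfl)
  have : θ x1 = 0 := (hker x1 hx1).2 (hle hx1)
  rw [hθx1] at this
  simpa using congrFun this 0

/-- Two elements quadratic modulo a central `p`-subgroup generate a `p`-group of operators. -/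
theorem exists_ppow_mem_of_quadratic_mod (hst : StablePair p G) (hp : p ≠ 2) {Z : Subgroup G}
    (hZc : Z ≤ Subgroup.center G) (n : ℕ) : ∀ P : Subgroup G, Nat.card P = n → IsPGroup p P → Z ≤ P →
    ∀ a ∈ Subgroup.normalizer (P : Set G), ∀ b ∈ Subgroup.normalizer (P : Set G),
      ⁅⁅P, Subgroup.zpowers a⁆, Subgroup.zpowers a⁆ ≤ Z →
      ⁅⁅P, Subgroup.zpowers b⁆, Subgroup.zpowers b⁆ ≤ Z →
      ∀ y ∈ Subgroup.closure {a, b}, ∃ e : ℕ, y ^ p ^ e ∈ Subgroup.centralizer (P : Set G) := by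
  induction n using Nat.strong_induction_on with
  | _ n ih =>
  intro P hPn hP hZP a ha b hb hqa hqb
  by_contra hcon
  push Not at hcon
  obtain ⟨y, hy, hye⟩ := hcon
  have hpr : p.Prime := Fact.out
  haveI : Z.Normal := ⟨fun z hz g => by
    rw [(Subgroup.mem_center_iff.1 (hZc hz) g), mul_inv_cancel_right]; exact hz⟩
  set Φ := (frattini P).map P.subtype with hΦ
  set M := Φ ⊔ Z with hM
  have hMP : M ≤ P := sup_le (Subgroup.map_subtype_le _) hZP
  have hΦN : Subgroup.normalizer (P : Set G) ≤ Subgroup.normalizer (Φ : Set G) :=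
    CfsgLib.PGroup.normalizer_le_normalizer_frattini P
  set N := Subgroup.normalizer (M : Set G) with hN
  have hNP : Subgroup.normalizer (P : Set G) ≤ N := by
    intro x hx
    refine CfsgLib.Fusion.conjBy_eq_iff.1 ?_
    show M.map (MulAut.conj x).toMonoidHom = M
    rw [hM, Subgroup.map_sup]
    congr 1
    · exact CfsgLib.Fusion.conjBy_eq_iff.2 (hΦN hx)
    · exact CfsgLib.Fusion.conjBy_eq_iff.2 (Subgroup.normalizer_eq_top Z ▸ Subgroup.mem_top x)
  have hPN : P ≤ N := Subgroup.le_normalizer.trans hNP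
  haveI : (M.subgroupOf N).Normal := Subgroup.normal_in_normalizer
  set π := QuotientGroup.mk' (M.subgroupOf N) with hπ
  set V := (P.subgroupOf N).map π with hV
  have hone : ∀ z : N, π z = 1 ↔ (z : G) ∈ M := fun z =>
    (QuotientGroup.eq_one_iff (N := M.subgroupOf N) z)
  have hΦM : ∀ v : P, v ∈ frattini P → (v : G) ∈ M := fun v hv =>
    Subgroup.mem_sup_left ⟨v, hv, rfl⟩
  have hVea : Cfsg.IsElementaryAbelian p V := by
    refine ⟨⟨⟨fun u v => Subtype.ext ?_⟩⟩, ?_⟩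
    · obtain ⟨x, hx, hxu⟩ := u.2
      obtain ⟨y, hy, hyv⟩ := v.2
      show (u : N ⧸ M.subgroupOf N) * v = v * u
      rw [← hxu, ← hyv, ← commutatorElement_eq_one_iff_mul_comm, ← map_commutatorElement]
      exact (hone _).2 (hΦM ⁅(⟨x, hx⟩ : P), ⟨y, hy⟩⁆ (CfsgLib.Coprime.commutator_le_frattini hP
        (Subgroup.commutator_mem_commutator (Subgroup.mem_top _) (Subgroup.mem_top _))))
    · rintro _ ⟨x, hx, rfl⟩
      rw [← map_pow]
      exact (hone _).2 (hΦM ((⟨x, hx⟩ : P) ^ p) (CfsgLib.Coprime.pow_mem_frattini hP _))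
  set a' : N := ⟨a, hNP ha⟩ with ha'
  set b' : N := ⟨b, hNP hb⟩ with hb'
  have hnorm : ∀ z : N, (z : G) ∈ Subgroup.normalizer (P : Set G) →
      π z ∈ Subgroup.normalizer (V : Set (N ⧸ M.subgroupOf N)) := fun z hz => by
    have hz' : z ∈ Subgroup.normalizer ((P.subgroupOf N : Subgroup N) : Set N) :=
      Subgroup.mem_normalizer_iff.2 fun w => Subgroup.mem_normalizer_iff.1 hz (w : G)
    exact Subgroup.le_normalizer_map π (Subgroup.mem_map_of_mem π hz')
  have hq : ∀ z : N, ⁅⁅P, Subgroup.zpowers (z : G)⁆, Subgroup.zpowers (z : G)⁆ ≤ Z →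
      ⁅⁅V, Subgroup.zpowers (π z)⁆, Subgroup.zpowers (π z)⁆ = ⊥ := fun z hz => by
    rw [← MonoidHom.map_zpowers, hV, ← Subgroup.map_commutator, ← Subgroup.map_commutator,
      Subgroup.map_eq_bot_iff, hπ, QuotientGroup.ker_mk']
    intro w hw
    have h := Subgroup.mem_map_of_mem N.subtype hw
    rw [Subgroup.map_commutator, Subgroup.map_commutator, MonoidHom.map_zpowers,
      Subgroup.map_subgroupOf_eq_of_le hPN] at h
    exact Subgroup.mem_sup_right (hz h)
  have hyN : y ∈ Subgroup.normalizer (P : Set G) :=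
    ((Subgroup.closure_le _).2 (by rintro x (rfl | rfl) <;> assumption) : _ ≤ _) hy
  have hmap : (Subgroup.closure {a', b'}).map N.subtype = Subgroup.closure {a, b} := by
    rw [MonoidHom.map_closure, Set.image_pair]; rfl
  rw [← hmap] at hy
  obtain ⟨y', hy', rfl⟩ := hy
  have hyV : ∀ f : ℕ, π y' ^ p ^ f ∉ Subgroup.centralizer (V : Set (N ⧸ M.subgroupOf N)) := by
    intro f hf
    obtain ⟨k, l, hl, hkl⟩ :=
      Nat.exists_eq_pow_mul_and_not_dvd (orderOf_pos (y' : G)).ne' p hpr.ne_one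
    set y₀ := (y' : G) ^ p ^ (k + f) with hy₀
    have hcop : (orderOf y₀).Coprime p := by
      refine Nat.Coprime.coprime_dvd_left (orderOf_dvd_of_pow_eq_one (n := l) ?_)
        (hpr.coprime_iff_not_dvd.2 hl).symm
      rw [hy₀, ← pow_mul, pow_add, mul_right_comm, ← hkl, pow_mul, pow_orderOf_eq_one, one_pow]
    have hM1 : ∀ v ∈ P, y₀ * v * y₀⁻¹ * v⁻¹ ∈ M := by
      intro v hv
      have hmem : π (y' ^ p ^ (k + f)) ∈
          Subgroup.centralizer (V : Set (N ⧸ M.subgroupOf N)) := by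
        rw [map_pow, pow_add, mul_comm, pow_mul]
        exact pow_mem hf _
      set z := y' ^ p ^ (k + f) with hz
      have h1 : π (z * ⟨v, hPN hv⟩ * z⁻¹ * ⟨v, hPN hv⟩⁻¹) = 1 := by
        rw [map_mul, map_mul, map_mul, map_inv, map_inv,
          ← Subgroup.mem_centralizer_iff.1 hmem (π ⟨v, hPN hv⟩) ⟨_, hv, rfl⟩,
          mul_inv_cancel_right, mul_inv_cancel]
      exact (hone _).1 h1
    have hy₀N : y₀ ∈ Subgroup.normalizer (P : Set G) := pow_mem hyN _
    -- trivial modulo `Φ` by coprimality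
    set m0 := orderOf y₀ with hm0
    have hΦ1 : ∀ v ∈ P, y₀ * v * y₀⁻¹ * v⁻¹ ∈ Φ := by
      intro v hv
      obtain ⟨φv, hφ, zv, hzv, he⟩ : ∃ φv ∈ Φ, ∃ zv ∈ Z, φv * zv = y₀ * v * y₀⁻¹ * v⁻¹ :=
        Subgroup.mem_sup_of_normal_right.1 (hM1 v hv)
      have hzy : Commute zv y₀ := (Subgroup.mem_center_iff.1 (hZc hzv) y₀).symm
      have key : ∀ i : ℕ, ∃ φi ∈ Φ, y₀ ^ i * v * (y₀ ^ i)⁻¹ = φi * zv ^ i * v := by
        intro i
        induction i with
        | zero => exact ⟨1, one_mem _, by simp⟩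
        | succ i ihi =>
          obtain ⟨φi, hφi, hei⟩ := ihi
          have hzc : Commute (zv ^ i) y₀ := hzy.pow_left i
          refine ⟨(y₀ * φi * y₀⁻¹) * φv, mul_mem ((Subgroup.mem_normalizer_iff.1
            (hΦN hy₀N) φi).1 hφi) hφ, ?_⟩
          have hzφ : Commute (zv ^ i) φv :=
            Commute.pow_left (show Commute zv φv from (Subgroup.mem_center_iff.1 (hZc hzv) φv).symm) i
          calc y₀ ^ (i + 1) * v * (y₀ ^ (i + 1))⁻¹ = y₀ * (y₀ ^ i * v * (y₀ ^ i)⁻¹) * y₀⁻¹ := by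
                rw [pow_succ']; group
            _ = (y₀ * φi * y₀⁻¹) * (y₀ * zv ^ i * y₀⁻¹) * (y₀ * v * y₀⁻¹ * v⁻¹) * v := by
                rw [hei]; group
            _ = (y₀ * φi * y₀⁻¹) * (zv ^ i * φv) * zv * v := by
                rw [hzc.symm.eq, mul_inv_cancel_right, ← he]; simp only [mul_assoc]
            _ = (y₀ * φi * y₀⁻¹) * φv * zv ^ (i + 1) * v := by
                rw [hzφ.eq, pow_succ]; simp only [mul_assoc]
      obtain ⟨φm, hφm, hem⟩ := key m0
      rw [pow_orderOf_eq_one, one_mul, inv_one, mul_one, eq_comm, mul_eq_right] at hem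
      have hzm : zv ^ m0 ∈ Φ := eq_inv_of_mul_eq_one_right hem ▸ inv_mem hφm
      obtain ⟨r, hr⟩ := hP ⟨zv, hZP hzv⟩
      obtain ⟨s, hs⟩ := exists_pow_eq_self_of_coprime (n := m0) (x := zv)
        (Nat.Coprime.coprime_dvd_right (orderOf_dvd_of_pow_eq_one (congrArg Subtype.val hr))
          (hcop.pow_right r))
      rw [← he]
      exact mul_mem hφ (hs ▸ pow_mem hzm s)
    obtain ⟨m, hm⟩ := IsPGroup.iff_card.1 (hP.to_subgroup (frattini P))
    have hc := CfsgLib.Coprime.le_centralizer_of_trivial_on_frattini_quotient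
      (A := Subgroup.zpowers y₀) (K := P) (Subgroup.zpowers_le.2 hy₀N)
      (by rw [Nat.card_zpowers, hm]; exact hcop.pow_right m) fun w hw v hv => ?_
    · exact hye (k + f) (hc (Subgroup.mem_zpowers y₀))
    · obtain ⟨i, rfl⟩ := mem_powers_iff_mem_zpowers.2 hw
      show y₀ ^ i * v * (y₀ ^ i)⁻¹ * v⁻¹ ∈ Φ
      clear hw
      induction i with
      | zero => simp
      | succ i ihi =>
        have h1 := (Subgroup.mem_normalizer_iff.1 (hΦN hy₀N) _).1 ihi
        have h2 := mul_mem h1 (hΦ1 v hv)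
        convert h2 using 1
        rw [pow_succ']; group
  obtain ⟨d, g, hg, hdK⟩ := CfsgLib.Qd.exists_naturalPair_closure hp V hVea (hnorm a' ha) (hnorm b' hb)
    (hq a' hqa) (hq b' hqb)
    ⟨π y', by rw [← Set.image_pair, ← MonoidHom.map_closure]; exact ⟨y', hy', rfl⟩, hyV⟩
  rw [← Set.image_pair, ← MonoidHom.map_closure] at hg
  obtain ⟨g', hg', rfl⟩ := hg
  set c : G := (g' : G) * a * (g' : G)⁻¹ with hc
  have hg'P : (g' : G) ∈ Subgroup.normalizer (P : Set G) := by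
    have := Subgroup.mem_map_of_mem N.subtype hg'
    rw [hmap] at this
    exact ((Subgroup.closure_le _).2 (by rintro x (rfl | rfl) <;> assumption) : _ ≤ _) this
  have hcP : c ∈ Subgroup.normalizer (P : Set G) := mul_mem (mul_mem hg'P ha) (inv_mem hg'P)
  have hqc : ⁅⁅P, Subgroup.zpowers c⁆, Subgroup.zpowers c⁆ ≤ Z := by
    have := Subgroup.map_mono (f := (MulAut.conj (g' : G)).toMonoidHom) hqa
    rw [Subgroup.map_commutator, Subgroup.map_commutator, MonoidHom.map_zpowers] at this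
    rw [show P.map (MulAut.conj (g' : G)).toMonoidHom = P from CfsgLib.Fusion.conjBy_eq_iff.2 hg'P,
      show Z.map (MulAut.conj (g' : G)).toMonoidHom = Z from
        CfsgLib.Fusion.conjBy_eq_iff.2 (Subgroup.normalizer_eq_top Z ▸ Subgroup.mem_top _)] at this
    exact this
  set K := Subgroup.closure {a, c} with hK
  have hKP : K ≤ Subgroup.normalizer (P : Set G) :=
    (Subgroup.closure_le _).2 (by rintro x (rfl | rfl) <;> assumption)
  let j : K →* N := Subgroup.inclusion (hKP.trans hNP)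
  have hjK : ∀ x : K, π (j x) ∈ d.K := by
    intro x
    rw [hdK, ← map_inv, ← map_mul, ← map_mul, ← Set.image_pair, ← MonoidHom.map_closure]
    refine Subgroup.mem_map_of_mem π ?_
    have hm2 : (Subgroup.closure {a', g' * a' * g'⁻¹}).map N.subtype = K := by
      rw [MonoidHom.map_closure, Set.image_pair]; rfl
    obtain ⟨z, hz, hzx⟩ := hm2.ge x.2
    rwa [← show z = j x from Subtype.ext hzx]
  let ψ : K →* Matrix.SpecialLinearGroup (Fin 2) (ZMod p) :=
    d.ψ.comp ((π.comp j).codRestrict d.K hjK)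
  have hψ : Function.Surjective ψ := by
    refine d.ψ_surj.comp fun k => ?_
    obtain ⟨k, hk⟩ := k
    rw [hdK, ← map_inv, ← map_mul, ← map_mul, ← Set.image_pair, ← MonoidHom.map_closure] at hk
    obtain ⟨z, hz, rfl⟩ := hk
    have hm2 : (Subgroup.closure {a', g' * a' * g'⁻¹}).map N.subtype = K := by
      rw [MonoidHom.map_closure, Set.image_pair]; rfl
    exact ⟨⟨z, hm2.le ⟨z, hz, rfl⟩⟩, rfl⟩
  -- the preimage of the module
  set U := ((d.ι.range.comap π).map N.subtype) with hU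
  have hmemU : ∀ z : N, (z : G) ∈ U ↔ π z ∈ d.ι.range := fun z =>
    Subgroup.mem_map_iff_mem N.subtype_injective
  have hUP : U ≤ P := by
    rintro _ ⟨z, ⟨w, hw⟩, rfl⟩
    obtain ⟨v, hv, hvw⟩ := d.ι_mem w
    have h1 : (v : G)⁻¹ * z ∈ M := (hone (v⁻¹ * z)).1 (by rw [map_mul, map_inv, hvw, hw, inv_mul_cancel])
    have h2 := mul_mem (show (v : G) ∈ P from hv) (hMP h1)
    rwa [mul_inv_cancel_left] at h2
  have hMU : M ≤ U := fun m hm => (hmemU ⟨m, hPN (hMP hm)⟩).2
    ⟨1, (map_one d.ι).trans ((hone ⟨m, hPN (hMP hm)⟩).2 hm).symm⟩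
  have hUK : K ≤ Subgroup.normalizer (U : Set G) := by
    intro x hx
    refine CfsgLib.Fusion.conjBy_eq_iff.1 (CfsgLib.Fusion.conjBy_eq_of_le
      (CfsgLib.Fusion.conjBy_le_iff.2 fun u hu => ?_))
    obtain ⟨z, ⟨w, hw⟩, rfl⟩ := hu
    refine (hmemU (j ⟨x, hx⟩ * z * (j ⟨x, hx⟩)⁻¹)).2 ?_
    rw [map_mul, map_mul, map_inv, ← hw]
    exact ⟨_, (d.ι_conj ⟨_, hjK ⟨x, hx⟩⟩ w).symm⟩
  have hindK : ∀ U0 : Subgroup G, U0 < P → Z ≤ U0 → K ≤ Subgroup.normalizer (U0 : Set G) →
      ∀ x ∈ K, ∃ e : ℕ, x ^ p ^ e ∈ Subgroup.centralizer (U0 : Set G) := by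
    intro U0 hlt hZU hKU
    have hsmall : Nat.card U0 < n := hPn ▸ CfsgLib.Fusion.card_lt_card_of_lt (G := G) hlt
    exact ih _ hsmall U0 rfl (hP.to_le hlt.le) hZU a
      (hKU (Subgroup.subset_closure (Or.inl rfl))) c (hKU (Subgroup.subset_closure (Or.inr rfl)))
      ((Subgroup.commutator_mono (Subgroup.commutator_mono hlt.le le_rfl) le_rfl).trans hqa)
      ((Subgroup.commutator_mono (Subgroup.commutator_mono hlt.le le_rfl) le_rfl).trans hqc)
  haveI : Fact (Even (Fintype.card (Fin 2))) := ⟨by simp⟩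
  have hUeq : U = P := by
    by_contra hne
    obtain ⟨t0, ht0⟩ := hψ (-1)
    obtain ⟨e, he⟩ := hindK U (lt_of_le_of_ne hUP hne) (le_sup_right.trans hMU) hUK t0 t0.2
    set w : Multiplicative (Fin 2 → ZMod p) := Multiplicative.ofAdd ![1, 0]
    obtain ⟨z, hz, hzw⟩ := d.ι_mem w
    have hzU : (z : G) ∈ U := (hmemU z).2 ⟨w, hzw.symm⟩
    have h2 : π (j (t0 ^ p ^ e)) * π z * (π (j (t0 ^ p ^ e)))⁻¹ = π z := by
      rw [← map_inv, ← map_mul, ← map_mul]
      refine congrArg π (Subtype.ext ?_)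
      show (t0 : G) ^ p ^ e * (z : G) * ((t0 : G) ^ p ^ e)⁻¹ = z
      rw [← Subgroup.mem_centralizer_iff.1 he z hzU, mul_inv_cancel_right]
    rw [hzw] at h2
    have h3 := d.ι_inj ((d.ι_conj ⟨_, hjK (t0 ^ p ^ e)⟩ w).symm.trans h2)
    rw [show d.ψ ⟨_, hjK (t0 ^ p ^ e)⟩ = ψ (t0 ^ p ^ e) from rfl, map_pow, ht0,
      (hpr.odd_of_ne_two hp).pow.neg_one_pow] at h3
    have h4 := congrFun (congrArg Multiplicative.toAdd h3) 0
    simp [w, Matrix.neg_mulVec] at h4
    have h5 : ((2 : ℕ) : ZMod p) = 0 := by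
      rw [Nat.cast_two]; linear_combination -h4
    exact hp ((Nat.prime_dvd_prime_iff_eq hpr Nat.prime_two).1 ((ZMod.natCast_eq_zero_iff _ _).1 h5))
  classical
  let θ : G → Fin 2 → ZMod p := fun x =>
    if hx : x ∈ P then Multiplicative.toAdd ((hmemU ⟨x, hPN hx⟩).1 (hUeq.ge hx)).choose else 0
  have hθ : ∀ x (hx : x ∈ P), d.ι (Multiplicative.ofAdd (θ x)) = π ⟨x, hPN hx⟩ := fun x hx => by
    simp only [θ, dif_pos hx, ofAdd_toAdd]
    exact ((hmemU ⟨x, hPN hx⟩).1 (hUeq.ge hx)).choose_spec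
  have hθe : ∀ (x : G) (hx : x ∈ P) (w : Fin 2 → ZMod p),
      d.ι (Multiplicative.ofAdd w) = π ⟨x, hPN hx⟩ → θ x = w := fun x hx w h =>
    Multiplicative.ofAdd.injective (d.ι_inj ((hθ x hx).trans h.symm))
  have hMne : M ≠ P := by
    intro e
    obtain ⟨z, hz, hzw⟩ := d.ι_mem (Multiplicative.ofAdd ![1, 0])
    have h1 : π z = 1 := (hone z).2 (e.ge hz)
    rw [h1] at hzw
    have h2 := congrFun (congrArg Multiplicative.toAdd
      (d.ι_inj (hzw.symm.trans (map_one d.ι).symm))) 0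
    simp at h2
  refine false_of_natural hst hp hP hMP hZc rfl hK ψ hψ θ ?_ ?_ ?_ hKP ?_
    (hqa.trans le_sup_right) (hqc.trans le_sup_right)
    (hindK M (lt_of_le_of_ne hMP hMne) le_sup_right ?_)
  · intro x hx y hy
    refine hθe _ (mul_mem hx hy) _ ?_
    have h1 := hθ x hx
    have h2 := hθ y hy
    rw [ofAdd_add, map_mul, h1, h2, ← map_mul]
    rfl
  · intro x hx
    constructor
    · intro h
      have := hθ x hx
      rw [h, ofAdd_zero, map_one] at this
      exact (hone ⟨x, hPN hx⟩).1 this.symm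
    · intro h
      refine hθe x hx 0 ?_
      rw [ofAdd_zero, map_one, (hone ⟨x, hPN hx⟩).2 h]
  · intro w
    obtain ⟨z, hz, hzw⟩ := d.ι_mem (Multiplicative.ofAdd w)
    exact ⟨z, hz, hθe _ hz w hzw.symm⟩
  · intro x v hv
    refine hθe _ ((Subgroup.mem_normalizer_iff.1 (hKP x.2) v).1 hv) _ ?_
    have := d.ι_conj ⟨_, hjK x⟩ (Multiplicative.ofAdd (θ v))
    rw [hθ v hv] at this
    refine this.symm.trans ?_
    show π (j x) * π ⟨v, hPN hv⟩ * (π (j x))⁻¹ = _
    rw [← map_inv, ← map_mul, ← map_mul]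
    rfl
  · exact hKP.trans hNP

/-- A central `p`-subgroup may be factored out. -/
theorem StablePair.quotient_central (h : StablePair p G) (hp : p ≠ 2) (Z : Subgroup G) [Z.Normal]
    (hZ : IsPGroup p Z) (hZc : Z ≤ Subgroup.center G) : StablePair p (G ⧸ Z) := by
  intro P hP a ha b hb hqa hqb y hy
  set π := QuotientGroup.mk' Z
  have hπ := QuotientGroup.mk'_surjective Z
  set P0 := P.comap π with hP0
  have hP0p : IsPGroup p P0 :=
    hP.comap_of_ker_isPGroup π (by rw [QuotientGroup.ker_mk']; exact hZ)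
  have hZP : Z ≤ P0 := fun z hz => by
    rw [hP0, Subgroup.mem_comap, show π z = 1 from (QuotientGroup.eq_one_iff z).2 hz]
    exact one_mem P
  have hn : ∀ z, π z ∈ Subgroup.normalizer (P : Set (G ⧸ Z)) →
      z ∈ Subgroup.normalizer (P0 : Set G) := fun z hz =>
    Subgroup.mem_normalizer_iff.2 fun w => by
      rw [hP0, Subgroup.mem_comap, Subgroup.mem_comap, map_mul, map_mul, map_inv]
      exact Subgroup.mem_normalizer_iff.1 hz _
  have hq : ∀ z, ⁅⁅P, Subgroup.zpowers (π z)⁆, Subgroup.zpowers (π z)⁆ = ⊥ →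
      ⁅⁅P0, Subgroup.zpowers z⁆, Subgroup.zpowers z⁆ ≤ Z := fun z hz => by
    rw [← Subgroup.map_comap_eq_self_of_surjective hπ P, ← MonoidHom.map_zpowers,
      ← Subgroup.map_commutator, ← Subgroup.map_commutator, Subgroup.map_eq_bot_iff,
      QuotientGroup.ker_mk'] at hz
    exact hz
  obtain ⟨a0, rfl⟩ := hπ a
  obtain ⟨b0, rfl⟩ := hπ b
  rw [← Set.image_pair, ← MonoidHom.map_closure] at hy
  obtain ⟨y0, hy0, rfl⟩ := hy
  obtain ⟨e, he⟩ := exists_ppow_mem_of_quadratic_mod h hp hZc _ P0 rfl hP0p hZP a0 (hn a0 ha) b0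
    (hn b0 hb) (hq a0 hqa) (hq b0 hqb) y0 hy0
  refine ⟨e, Subgroup.mem_centralizer_iff.2 fun x hx => ?_⟩
  obtain ⟨v, rfl⟩ := hπ x
  rw [← map_pow, ← map_mul, ← map_mul, Subgroup.mem_centralizer_iff.1 he v hx]

/-- A normal `p`-subgroup `Q` with `G = C(Q) T` for a Sylow subgroup `T` may be factored out. -/
theorem StablePair.quotient_of_sup_eq_top (hp : p ≠ 2) (n : ℕ) :
    ∀ (G : Type u) [Group G] [Finite G], Nat.card G = n → StablePair p G →
      ∀ (Q : Subgroup G) [Q.Normal], IsPGroup p Q →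
        ∀ T : Sylow p G, Subgroup.centralizer (Q : Set G) ⊔ (T : Subgroup G) = ⊤ →
          StablePair p (G ⧸ Q) := by
  induction n using Nat.strong_induction_on with
  | _ n ih =>
  intro G _ _ hn hst Q _ hQ T htop
  by_cases hQb : Q = ⊥
  · subst hQb
    exact hst.of_injective (QuotientGroup.quotientBot (G := G)).toMonoidHom
      (QuotientGroup.quotientBot (G := G)).injective
  have hQT : Q ≤ (T : Subgroup G) := hQ.le_sylow_of_normal T
  have hZ0 : Q ⊓ Subgroup.center G ≠ ⊥ := by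
    haveI : (Q.subgroupOf (T : Subgroup G)).Normal := inferInstance
    haveI : Nontrivial ↥(Q.subgroupOf (T : Subgroup G)) := by
      refine (Subgroup.nontrivial_iff_ne_bot _).2 fun e => hQb (eq_bot_iff.2 fun q hq => ?_)
      have h1 : (⟨q, hQT hq⟩ : (T : Subgroup G)) ∈ Q.subgroupOf (T : Subgroup G) := hq
      rw [e, Subgroup.mem_bot] at h1
      exact congrArg Subtype.val h1
    haveI := T.2.isNilpotent
    obtain ⟨x, hx, hx1⟩ : ∃ x ∈ Q.subgroupOf (T : Subgroup G) ⊓ Subgroup.center (T : Subgroup G),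
        x ≠ 1 := (Subgroup.bot_or_exists_ne_one _).resolve_left
      (CfsgLib.Coprime.nilpotent_inf_center_ne_bot (Q.subgroupOf (T : Subgroup G))
        ((Subgroup.nontrivial_iff_ne_bot _).1 inferInstance))
    obtain ⟨hxQ, hxc⟩ := Subgroup.mem_inf.1 hx
    refine fun e => hx1 (Subtype.ext (Subgroup.mem_bot.1 (e ▸ Subgroup.mem_inf.2 ⟨hxQ, ?_⟩ :
      (x : G) ∈ (⊥ : Subgroup G))))
    have hle : Subgroup.centralizer (Q : Set G) ⊔ (T : Subgroup G) ≤
        Subgroup.centralizer {(x : G)} := by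
      refine sup_le (fun c hc => Subgroup.mem_centralizer_iff.2 ?_) fun s hs =>
        Subgroup.mem_centralizer_iff.2 ?_
      · rintro _ rfl
        exact Subgroup.mem_centralizer_iff.1 hc _ hxQ
      · rintro _ rfl
        exact (congrArg Subtype.val (Subgroup.mem_center_iff.1 hxc ⟨s, hs⟩)).symm
    rw [htop] at hle
    exact Subgroup.mem_center_iff.2 fun g =>
      (Subgroup.mem_centralizer_iff.1 (hle (Subgroup.mem_top g)) _ rfl).symm
  set Z := Q ⊓ Subgroup.center G with hZdef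
  haveI : Z.Normal := inferInstanceAs (Q ⊓ Subgroup.center G).Normal
  have hst1 := hst.quotient_central hp Z (hQ.to_le inf_le_left) inf_le_right
  set π := QuotientGroup.mk' Z
  have hπ := QuotientGroup.mk'_surjective Z
  have hlt : Nat.card (G ⧸ Z) < n := by
    have h1 : 1 < Nat.card Z := (Subgroup.one_lt_card_iff_ne_bot Z).2 hZ0
    rw [← hn, Subgroup.card_eq_card_quotient_mul_card_subgroup Z]
    exact lt_mul_of_one_lt_right Nat.card_pos h1
  haveI : (Q.map π).Normal := Subgroup.Normal.map ‹_› π hπ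
  have htop' : Subgroup.centralizer ((Q.map π : Subgroup (G ⧸ Z)) : Set (G ⧸ Z)) ⊔
      ((T.mapSurjective hπ : Sylow p (G ⧸ Z)) : Subgroup (G ⧸ Z)) = ⊤ := by
    refine top_le_iff.1 ?_
    rw [← Subgroup.map_top_of_surjective π hπ, ← htop, Subgroup.map_sup]
    refine sup_le_sup ?_ le_rfl
    rintro _ ⟨c, hc, rfl⟩
    refine Subgroup.mem_centralizer_iff.2 ?_
    rintro _ ⟨q, hq, rfl⟩
    rw [← map_mul, ← map_mul, Subgroup.mem_centralizer_iff.1 hc q hq]
  have h2 := ih _ hlt (G ⧸ Z) rfl hst1 (Q.map π) (hQ.map π) _ htop'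
  exact h2.of_injective (QuotientGroup.quotientQuotientEquivQuotient Z Q inf_le_left).symm.toMonoidHom
    (QuotientGroup.quotientQuotientEquivQuotient Z Q inf_le_left).symm.injective

/-- In a stable group the action on every normal `p`-subgroup is stable. -/
theorem StablePair.isPStableOn (h : StablePair p G) (P : Subgroup G) [P.Normal] (hP : IsPGroup p P) :
    Cfsg.IsPStableOn p P := by
  intro a hq
  by_contra ha
  obtain ⟨x, y, hy, hye⟩ :=
    CfsgLib.Qd.exists_pair_of_not_mem (QuotientGroup.mk' _) (QuotientGroup.mk'_surjective _) ha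
  have hN : ∀ z : G, z ∈ Subgroup.normalizer (P : Set G) := fun z =>
    P.normalizer_eq_top.symm ▸ Subgroup.mem_top z
  obtain ⟨e, he⟩ := h P hP a (hN a) _ (hN _) hq (CfsgLib.Qd.quadratic_conj (hN x) hq) y hy
  exact hye e ((QuotientGroup.eq_one_iff _).2 he)

/-- A functor that is normal in the constrained stable groups controls strong fusion in stable
groups. -/
theorem strongCtrl_of_stablePair {W : ∀ (Q : Type u) [Group Q], Subgroup Q} (hp : p ≠ 2)
    (hW : Cfsg.IsCharPFunctor.{u} p W)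
    (hloc : ∀ (Y : Type u) [Group Y] [Finite Y],
      Subgroup.centralizer ((Cfsg.pCore p Y : Subgroup Y) : Set Y) ≤ Cfsg.pCore p Y →
        (∀ (P : Subgroup Y) [P.Normal], IsPGroup p P → Cfsg.IsPStableOn p P) →
          ∀ T : Sylow p Y, (Cfsg.inducedFunctor W (T : Subgroup Y)).Normal) (n : ℕ) :
    ∀ (X : Type u) [Group X] [Finite X], Nat.card X = n → StablePair p X → StrongCtrl p W X := by
  induction n using Nat.strong_induction_on with
  | _ n ih =>
    intro X _ _ hn hst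
    obtain ⟨S⟩ := (inferInstance : Nonempty (Sylow p X))
    refine ctrl_of_strongAt S (strongAt_of_minimal hW (fun H hH => ?_) (fun N _ hN hcase => ?_)
      (fun hc => hloc X hc fun P _ hP => hst.isPStableOn P hP) S)
    · refine ih _ ?_ H rfl (hst.of_injective H.subtype H.subtype_injective)
      have := CfsgLib.Fusion.card_lt_card_of_lt (G := X) (lt_top_iff_ne_top.2 hH)
      rwa [Nat.card_congr (Subgroup.topEquiv (G := X)).toEquiv, hn] at this
    · refine ih _ ?_ (X ⧸ N) rfl ?_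
      · have h1 : 1 < Nat.card N := (Subgroup.one_lt_card_iff_ne_bot N).2 hN
        rw [← hn, Subgroup.card_eq_card_quotient_mul_card_subgroup N]
        exact lt_mul_of_one_lt_right Nat.card_pos h1
      · rcases hcase with hN' | ⟨hNp, T, hT⟩
        · exact hst.quotient_pPrime N hN'
        · exact StablePair.quotient_of_sup_eq_top hp _ X rfl hst N hNp T hT

end CfsgLib.CFun
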