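import Cfsg.Agent.Lib.CFun.ThompsonWeak
import Cfsg.Agent.Lib.Fusion.System.Functor
import Cfsg.Agent.Lib.Fusion.System.FourFree

/-!
# The centre of a system and of the normalizer system of the Thompson subgroup
-/

set_option autoImplicit false
set_option linter.style.haveILetI false

open Subgroup
open Cfsg (FusionSystem thompsonSubgroupAOf)
open Cfsg.FusionSystem (normalizerIn)
open CfsgLib.Fusion

namespace CfsgLib.CFun

universe u

variable {Ω : Type u} [Group Ω] {S : Subgroup Ω} {F : FusionSystem S} {p : ℕ}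

/-- Models of a free system do not involve `S₄`: only the maps on normalized subgroups are needed. -/
theorem not_involves_of_free_normalizers [Finite S] {A : Subgroup Ω} [Finite A] (hAS : A ≤ S) (hF : Free p F)
    {L : Type*} [Group L] [Finite L] [Fact p.Prime] {ι : A →* L} (hι : Function.Injective ι)
    (T : Sylow p L) (hT : (T : Subgroup L) = ι.range)
    (hmap : ∀ V, V ≤ A → ∀ l ∈ Subgroup.normalizer (imgι ι V : Set L),
      ∃ f, IsMap F V f ∧ img V f = V ∧ ∀ x ∈ V, ext1 ι (f x) = l * ext1 ι x * l⁻¹) :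
    p ≠ 2 ∨ ¬ Cfsg.Involves (Equiv.Perm (Fin 4)) L := by
  rcases hF with h | hn
  · exact Or.inl h
  by_cases h2 : p = 2
  swap; · exact Or.inl h2
  subst h2
  refine Or.inr fun hinv => ?_
  obtain ⟨Q', U', g, k, hU'T, hQU', hnorm, hind, hgQ, hgU, hkQ, hkU, hc⟩ :=
    exists_fourCond_of_involves T hinv
  obtain ⟨U, hUA, rfl⟩ := exists_imgι_eq hι (hU'T.trans hT.le)
  obtain ⟨Q, hQA, rfl⟩ := exists_imgι_eq hι ((hQU'.trans hU'T).trans hT.le)
  have hQU : Q ≤ U := (imgι_le_iff hι hQA hUA).1 hQU'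
  have hex : ∀ g : L, g ∈ Subgroup.normalizer (imgι ι U : Set L) →
      g ∈ Subgroup.normalizer (imgι ι Q : Set L) →
      ∃ f, IsMap F U f ∧ img U f = U ∧ img Q f = Q ∧
        ∀ x ∈ U, ext1 ι (f x) = g * ext1 ι x * g⁻¹ := by
    intro g hgU hgQ
    obtain ⟨f, hf, hfU, hfg⟩ := hmap U hUA g hgU
    have hfA : ∀ x ∈ U, f x ∈ A := fun x hx => hUA (mem_of_img_eq hf le_rfl hfU hx)
    refine ⟨f, hf, hfU, img_eq_of_map_le (hQA.trans hAS) hf hQU fun x hx => ?_, hfg⟩
    refine mem_of_ext1_mem_imgι hι hQA (hfA x (hQU hx)) ?_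
    rw [hfg x (hQU hx)]
    exact (Subgroup.mem_normalizer_iff.1 hgQ _).1 (ext1_mem_imgι hQA hx)
  obtain ⟨a, ha, haU, haQ, hae⟩ := hex g hgU hgQ
  obtain ⟨b, hb, hbU, hbQ, hbe⟩ := hex k hkU hkQ
  refine hn Q U a b ⟨hQU, le_rfl, (imgι_le_normalizer_iff hι hQA hUA).1 hnorm, ?_, ha, hb, haU, hbU,
    haU, hbU, haQ, hbQ, ?_⟩
  · rwa [imgι, imgι, Subgroup.relIndex_map_map_of_injective _ _ hι,
      Subgroup.relIndex_subgroupOf hUA] at hind
  · exact (fourCond_iff (ext1 ι) (fun y => mem_imgι hUA)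
      (fun x hx => ⟨fun h => ext1_mem_imgι hQA h, fun h => mem_of_ext1_mem_imgι hι hQA (hUA hx) h⟩)
      (fun x hx y hy => ext1_mul ι (hUA hx) (hUA hy))
      (fun x hx => mem_of_img_eq ha le_rfl haU hx) (fun x hx => mem_of_img_eq hb le_rfl hbU hx)
      (fun x hx => (hae x hx).symm) (fun x hx => (hbe x hx).symm)).2 hc

variable [Finite S] [Fact p.Prime]

/-- Parts of the centre of the normalizer system of the Thompson subgroup lying in the centre. -/
theorem le_center_of_thompsonA (hS : IsPGroup p S) (hF : F.IsSaturated p)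
    {N : FusionSystem (normalizerIn S (thompsonSubgroupAOf S))}
    (hN : F.IsNormalizerSystem (thompsonSubgroupAOf S) N)
    {Q : Subgroup Ω} (hQ : Q ≤ N.center)
    (h : (∀ x ∈ Q, ∃ z ∈ S ⊓ Subgroup.centralizer (S : Set Ω), z ^ p = x) ∨ Free p F) :
    Q ≤ F.center := by
  have hJS : thompsonSubgroupAOf S ≤ S := thompsonA_le_self S
  have hn : normalizerIn S (thompsonSubgroupAOf S) = S := le_antisymm inf_le_left
    ((le_normalizerIn (le_refl S)).trans (normalizerIn_le_normalizerIn_thompsonA hS le_rfl))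
  haveI := finite_of_le (S := S) (P := normalizerIn S (thompsonSubgroupAOf S)) inf_le_left
  have hQS : Q ≤ S := hQ.trans ((isCentral_center (F := N)).1.trans inf_le_left)
  have hQC : Q ≤ Subgroup.centralizer (S : Set Ω) :=
    hQ.trans ((center_le_centralizer (F := N)).trans (Subgroup.centralizer_le hn.ge))
  have hVQ : ∀ T : Subgroup Ω, T ≤ S → Q ≤ T → Q ≤ thompsonSubgroupAOf T := by
    intro T hT hQT x hx
    haveI := finite_of_le hT
    exact center_le_thompsonA T ⟨hQT hx, Subgroup.centralizer_le hT (hQC hx)⟩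
  refine le_sSup (isCentral_of_fixed hS hF hQS fun R f hf x hx hxQ => ?_)
  refine fixes_of_local hS hF hQS hQC (fun T => thompsonSubgroupAOf T)
    (fun T hT => by haveI := finite_of_le hT; exact thompsonA_le_self T) hVQ
    (fun T hT => normalizerIn_le_normalizerIn_thompsonA hS hT) ?_ ?_ hf x hx (Or.inl hxQ)
  · intro f hf himg x hx
    have hfN : IsMap N (thompsonSubgroupAOf S) f := (isMap_of_isNormalizerSystem hN).2
      ⟨le_normalizerIn hJS, fun y hy => hn.ge (hf.mem_S hy), f, by rwa [sup_idem], fun _ _ => rfl,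
        himg⟩
    exact center_fixed hfN (hVQ S le_rfl hQS hx) (hQ hx)
  · intro P hPn hPc hfix α hα x hx
    obtain ⟨L, hL, hLfin, ι, hι, ⟨T, hT⟩, hcore, hPcore, hlift, hnorm⟩ :=
      exists_local_group hS hF hPn hPc
    haveI := finite_of_le (S := S) (P := normalizerIn S P) inf_le_left
    haveI : Finite ↥(S ⊓ Subgroup.normalizer (P : Set Ω)) :=
      finite_of_le (S := S) inf_le_left
    have hxP := le_of_isCentric_of_central hQS hQC hPc hx
    have hPA : P ≤ normalizerIn S P := le_normalizerIn hPn.1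
    have hxT : x ∈ normalizerIn S P := hPA hxP
    obtain ⟨l, hl⟩ := hlift α hα
    have hJT : thompsonSubgroupAOf (T : Subgroup L) =
        imgι ι (thompsonSubgroupAOf (normalizerIn S P)) := by
      rw [imgι, thompsonA_eq_map_top (normalizerIn S P), Subgroup.subgroupOf,
        Subgroup.comap_map_eq_self_of_injective (normalizerIn S P).subtype_injective,
        map_thompsonSubgroupAOf ι hι, ← MonoidHom.range_eq_map, hT]
    have hTN : ∀ n ∈ Subgroup.normalizer (thompsonSubgroupAOf (T : Subgroup L) : Set L),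
        Commute n (ext1 ι x) := by
      intro n hn
      rw [hJT] at hn
      obtain ⟨f, hf, hfimg, hfl⟩ := hnorm _ (thompsonA_le_self _) n hn
      have hxV := hVQ _ inf_le_left (fun y hy =>
        hPA (le_of_isCentric_of_central hQS hQC hPc hy)) hx
      have h1 := hfl x hxV
      rw [hfix f hf hfimg x hx, eq_comm] at h1
      exact mul_inv_eq_iff_eq_mul.1 h1
    have hmem : ext1 ι x ∈ (T : Subgroup L) := hT.ge (ext1_mem_range ι x)
    have hQn : (Cfsg.pCore p L).Normal := CfsgLib.Coprime.pCore_normal' p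
    have hconj : l * ext1 ι x * l⁻¹ ∈ (T : Subgroup L) :=
      (CfsgLib.Coprime.pCore_isPGroup p).le_sylow_of_normal T
        (hQn.conj_mem _ (hPcore (ext1_mem_imgι hPA hxP)) l)
    have key := thompsonA_weaklyClosed T hmem hTN (by
      rcases h with h | h
      · obtain ⟨z, hz, hzx⟩ := h x hx
        have hzA : z ∈ normalizerIn S P := ⟨hz.1,
          Subgroup.centralizer_le_normalizer _ (Subgroup.centralizer_le hPn.1 hz.2)⟩
        refine Or.inr (Or.inl ⟨ι ⟨z, hzA⟩, mem_inf.2 ⟨hT.ge ⟨_, rfl⟩,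
          Subgroup.mem_centralizer_iff.2 ?_⟩, ?_⟩)
        · intro t ht
          rw [SetLike.mem_coe, hT] at ht
          obtain ⟨a, rfl⟩ := ht
          rw [← map_mul, ← map_mul]
          congr 1
          exact Subtype.ext (Subgroup.mem_centralizer_iff.1 hz.2 a a.2.1)
        · rw [ext1_apply ι hxT, ← map_pow]
          congr 1
          exact Subtype.ext hzx
      · exact (not_involves_of_free_normalizers inf_le_left h hι T hT hnorm).imp id Or.inr) hconj
    rw [← hl x hxP] at key
    exact ext1_inj hι (hPA (autFun_mem α hxP)) hxT key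

omit [Finite S] [Fact p.Prime] in
theorem exists_pow_of_mem_powers {x : Ω} (hx : x ∈ Subgroup.closure ((fun z : Ω => z ^ p) ''
    ((S ⊓ Subgroup.centralizer (S : Set Ω) : Subgroup Ω) : Set Ω))) :
    ∃ z ∈ S ⊓ Subgroup.centralizer (S : Set Ω), z ^ p = x := by
  induction hx using Subgroup.closure_induction with
  | mem y hy =>
    obtain ⟨w, hw, rfl⟩ := hy
    exact ⟨w, hw, rfl⟩
  | one => exact ⟨1, one_mem _, one_pow _⟩
  | mul a b _ _ ia ib =>
    obtain ⟨⟨v, hv, rfl⟩, w, hw, rfl⟩ := And.intro ia ib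
    exact ⟨v * w, mul_mem hv hw,
      (show Commute v w from Subgroup.mem_centralizer_iff.1 hw.2 v hv.1).mul_pow p⟩
  | inv a _ ia =>
    obtain ⟨v, hv, rfl⟩ := ia
    exact ⟨v⁻¹, inv_mem hv, inv_pow v p⟩

end CfsgLib.CFun
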