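import Cfsg.Agent.Lib.CFun.FourFreeCenter
import Cfsg.Agent.Lib.CFun.WeakBases
import Cfsg.Agent.Lib.Fusion.ThompsonQuadratic
import Cfsg.Agent.Lib.Fusion.System.ZJGenerated

/-!
# Weak closure of central elements fixed by the normalizer of the Thompson subgroup
-/

set_option autoImplicit false
set_option linter.style.haveILetI false

open Subgroup
open scoped commutatorElement
open Cfsg (thompsonSubgroupAOf)

namespace CfsgLib.CFun

universe u

variable {G : Type u} [Group G] [Finite G] {p : ℕ} [Fact p.Prime]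

theorem thompsonA_isConjugacyFunctor :
    Cfsg.IsConjugacyFunctor p (thompsonSubgroupAOf : Subgroup G → Subgroup G) := by
  intro P hP
  refine ⟨CfsgLib.Fusion.thompsonSubgroupAOf_le P, fun hne => ?_, fun g => ?_⟩
  · exact CfsgLib.Fusion.thompsonA_ne_bot_in hP hne
  · exact (CfsgLib.Fusion.map_thompsonSubgroupAOf _ (MulAut.conj g).injective P).symm

theorem center_map_eq_cen {K : Type*} [Group K] (Q : Subgroup K) :
    (Subgroup.center ↥Q).map Q.subtype = cen Q := by
  ext z
  constructor
  · rintro ⟨z, hz, rfl⟩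
    exact mem_inf.2 ⟨z.2, mem_centralizer_iff.2 fun w hw =>
      congrArg Subtype.val (Subgroup.mem_center_iff.1 hz ⟨w, hw⟩)⟩
  · intro hz
    exact ⟨⟨z, hz.1⟩, Subgroup.mem_center_iff.2 fun w =>
      Subtype.ext (mem_centralizer_iff.1 hz.2 w w.2), rfl⟩

/-- A quadratic element on the centre of `O_p` when the Thompson subgroup is not normal. -/
theorem exists_quadratic_cen (H T : Subgroup G) (hTH : T ≤ H) (hT : IsPGroup p T)
    (hTi : ¬ p ∣ T.relIndex H)
    (hne : ¬ H ≤ normalizer ((thompsonSubgroupAOf T : Subgroup G) : Set G)) :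
    ∃ g : G, g ∈ T ∧ g ∉ Cfsg.pCoreOf p H ∧
      ⁅⁅Cfsg.pCoreOf p H ⊓ centralizer ((Cfsg.pCoreOf p H : Subgroup G) : Set G), zpowers g⁆,
        zpowers g⁆ = ⊥ := by
  let P : Sylow p H := (hT.of_equiv (Subgroup.subgroupOfEquivOfLe hTH).symm).toSylow hTi
  have hPT : (P : Subgroup H).map H.subtype = T := map_subgroupOf_eq_of_le hTH
  obtain ⟨g, hgP, hgQ, hquad⟩ := CfsgLib.Fusion.exists_quadratic_of_not_normal P fun hn => hne (by
    haveI := hn
    rw [← hPT, ← CfsgLib.Fusion.map_thompsonSubgroupAOf _ H.subtype_injective]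
    intro h hh
    exact le_normalizer_map H.subtype
      ⟨⟨h, hh⟩, by rw [Subgroup.normalizer_eq_top]; exact mem_top _, rfl⟩)
  refine ⟨g, hgP, fun ⟨q, hq, hqg⟩ => hgQ (H.subtype_injective hqg ▸ hq), ?_⟩
  have h1 := congrArg (fun K : Subgroup H => K.map H.subtype) hquad
  simp only [map_commutator, MonoidHom.map_zpowers, center_map_eq_cen, Subgroup.map_bot] at h1
  rw [cen_map _ H.subtype_injective] at h1
  exact h1

theorem iterCommutator_eq_bot {L : Type*} [Group L] {N K : Subgroup L}
    (h : ⁅⁅N, K⁆, K⁆ = ⊥) : ∀ i, 2 ≤ i → Cfsg.iterCommutator N K i = ⊥ := by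
  intro i hi
  induction i, hi using Nat.le_induction with
  | base => exact h
  | succ i _ ih =>
    show ⁅Cfsg.iterCommutator N K i, K⁆ = ⊥
    rw [ih, commutator_bot_left]

/-- Weak closure of central elements fixed by the normalizer of the Thompson subgroup. -/
theorem thompsonA_weaklyClosed (S : Sylow p G) {x : G} (hxS : x ∈ (S : Subgroup G))
    (hxN : ∀ g ∈ normalizer ((thompsonSubgroupAOf (S : Subgroup G)) : Set G), Commute g x)
    (h : p ≠ 2 ∨ (∃ z ∈ cen (S : Subgroup G), z ^ p = x) ∨
      ¬ Cfsg.Involves (Equiv.Perm (Fin 4)) G) {g : G} (hg : g * x * g⁻¹ ∈ (S : Subgroup G)) :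
    g * x * g⁻¹ = x := by
  have hW : Cfsg.IsConjugacyFunctor p (thompsonSubgroupAOf : Subgroup G → Subgroup G) :=
    thompsonA_isConjugacyFunctor
  have hWZ : ∀ P : Subgroup G, IsPGroup p P →
      P ⊓ centralizer (P : Set G) ≤ thompsonSubgroupAOf P :=
    fun P _ => CfsgLib.Fusion.center_le_thompsonA P
  have hSN : (S : Subgroup G) ≤ normalizer ((thompsonSubgroupAOf (S : Subgroup G)) : Set G) :=
    le_normalizer.trans (CfsgLib.Fusion.normalizer_le_normalizer_thompsonA _)
  have hxcen : x ∈ cen (S : Subgroup G) :=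
    mem_inf.2 ⟨hxS, mem_centralizer_iff.2 fun s hs => (hxN s (hSN hs)).eq⟩
  have hSi : ¬ p ∣ (S : Subgroup G).relIndex ⊤ := by
    rw [relIndex_top_right]; exact S.not_dvd_index
  by_cases hp : p = 2
  swap
  · refine weaklyClosed_of_engel hW hWZ ?_ le_top S.2 hSi (x := x) ?_ (mem_top g) hg
    · intro H T hTH hT hTi hne
      obtain ⟨a, haT, haQ, hquad⟩ := exists_quadratic_cen H T hTH hT hTi hne
      refine ⟨a, haT, haQ, fun U V _ hU => ?_⟩
      have h2 : ⁅⁅U.map H.subtype, zpowers a⁆, zpowers a⁆ = ⊥ := le_bot_iff.1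
        ((commutator_mono (commutator_mono hU le_rfl) le_rfl).trans hquad.le)
      have := (Fact.out : p.Prime).two_le
      rw [iterCommutator_eq_bot h2 (p - 1) (by omega)]
      exact bot_le
    · rw [top_inf_eq]
      exact mem_inf.2 ⟨hxS, mem_centralizer_iff.2 fun s hs => (hxN s hs).eq⟩
  have hfix : normalizer ((thompsonSubgroupAOf (S : Subgroup G)) : Set G) ≤
      normalizer ({x} : Set G) := fun n hn =>
    mem_normalizer_singleton (by rw [(hxN n hn).eq, mul_inv_cancel_right])
  refine conj_eq_of_mem_normalizer_singleton ?_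
  rcases h.resolve_left (fun h' => h' hp) with ⟨z, hz, hzx⟩ | hfree
  · refine weaklyClosed_of_quadratic hW hWZ exists_quadratic_cen S ({x} : Set G) ?_ hfix ?_
    · intro a ha
      rw [Set.mem_singleton_iff.1 ha, ← hzx]
      exact subset_closure ⟨z, hz, rfl⟩
    · intro a ha
      rw [Set.mem_singleton_iff.1 ha]
      exact hg
  · subst hp
    refine weaklyClosed_of_local hW hWZ ({x} : Set G) (fun _ => True) (fun _ _ _ _ _ => trivial) ?_ _
      ⊤ rfl (S : Subgroup G) le_top S.2 hSi ?_ trivial (by rw [top_inf_eq]; exact hfix) g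
      (mem_top g) ?_
    · intro K T hTK hT hTi _ hxT hxQ _ hfixK _
      let P : Sylow 2 K := (hT.of_equiv (Subgroup.subgroupOfEquivOfLe hTK).symm).toSylow hTi
      have hPT : (P : Subgroup K).map K.subtype = T := map_subgroupOf_eq_of_le hTK
      obtain ⟨q, hq, hqx⟩ := (hxQ x rfl).1
      have hqx' : (q : G) = x := hqx
      intro k hk
      refine mem_normalizer_singleton ?_
      have hc := commute_of_fix_thompsonA (fun h' => hfree
        (CfsgLib.Fusion.involves_of_injective K.subtype K.subtype_injective h')) P hq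
        (fun t ht => Subtype.ext (show (t : G) * q = q * t by
          rw [hqx']
          exact mem_centralizer_iff.1 (hxT x rfl).2 _ ht))
        (fun n hn => Subtype.ext (show (n : G) * q = q * n by
          rw [hqx']
          refine mul_inv_eq_iff_eq_mul.1 (conj_eq_of_mem_normalizer_singleton (hfixK
            (mem_inf.2 ⟨n.2, ?_⟩)))
          rw [← hPT, ← CfsgLib.Fusion.map_thompsonSubgroupAOf _ K.subtype_injective]
          exact le_normalizer_map K.subtype ⟨n, hn, rfl⟩)) ⟨k, hk⟩
      have h3 : k * (q : G) = q * k := congrArg Subtype.val hc.eq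
      rw [← hqx', h3, mul_inv_cancel_right]
    · intro a ha
      rw [Set.mem_singleton_iff.1 ha]
      exact hxcen
    · intro a ha
      rw [Set.mem_singleton_iff.1 ha]
      exact hg

end CfsgLib.CFun
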