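import Cfsg.Agent.Lib.PGroup.ThompsonPQ
import Cfsg.Agent.Lib.Invol.PConstrained
import Cfsg.Agent.Lib.Invol.SignalizerTransitivity
import Cfsg.Agent.Lib.Coprime.PConstrained
import Cfsg.Agent.Lib.Fusion.PrimeCoreQuotient
import Cfsg.Prelude.Def_OddOrderLocal

/-!
# Invariant `p'`-subgroups in constrained groups and transitivity

In a `p`-constrained group an abelian `p`-subgroup `A` containing the `p`-elements of its
centralizer normalizes no `p'`-subgroup outside `O_{p'}` (`p` odd, or Sylow subgroups of class at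
most two). Transitivity on maximal invariant `q`-subgroups follows.
-/

set_option autoImplicit false
set_option linter.style.haveILetI false
set_option linter.unusedSectionVars false

open Subgroup
open scoped commutatorElement
open CfsgLib.Coprime (conj_mem_of_le_normalizer)

namespace CfsgLib.CFun

universe u

variable {p : ℕ} [hp : Fact p.Prime]

/-- Class two at `p = 2`, fixed points: the case without `p'`-core. -/
theorem le_centralizer_of_classTwo {H : Type u} [Group H] [Finite H] {A K P₀ : Subgroup H}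
    (hA : IsPGroup p A) (hK : (Nat.card K).Coprime p) (hP : IsPGroup p P₀)
    (hAK : A ≤ normalizer (K : Set H)) (hAP : A ≤ normalizer (P₀ : Set H))
    (hKP : K ≤ normalizer (P₀ : Set H))
    (hcls : ⁅⁅P₀, A⁆, P₀⁆ = ⊥) (hC : P₀ ⊓ centralizer (A : Set H) ≤ centralizer (K : Set H)) :
    K ≤ centralizer (P₀ : Set H) := by
  have hcop : (Nat.card A).Coprime (Nat.card K) := by
    obtain ⟨k, hk⟩ := IsPGroup.iff_card.1 hA
    rw [hk]; exact (hK.pow_right k).symm
  have hsolv : Group.IsSolvable A ∨ Group.IsSolvable K :=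
    Or.inl (CfsgLib.Coprime.isSolvable_of_isNilpotent hA.isNilpotent)
  set C := K ⊓ centralizer (A : Set H) with hCdef
  have hCc : C ≤ centralizer (P₀ : Set H) :=
    CfsgLib.Coprime.pq_lemma hA (Nat.Coprime.coprime_dvd_left (card_dvd_of_le inf_le_left) hK) hP
      (le_centralizer_iff.1 inf_le_right) hAP (inf_le_left.trans hKP)
      (hC.trans (centralizer_le inf_le_left))
  -- `[P₀, A]` is central in `P₀`
  set D := P₀ ⊓ centralizer (P₀ : Set H) with hD
  have hPA : ⁅P₀, A⁆ ≤ P₀ := le_normalizer_iff_commutator_le_left.1 hAP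
  have hPAD : ⁅P₀, A⁆ ≤ D := le_inf hPA (commutator_eq_bot_iff_le_centralizer.1 hcls)
  set N := normalizer (P₀ : Set H) with hN
  have hDN : D ≤ N := inf_le_left.trans le_normalizer
  have hDc : IsMulCommutative D := ⟨⟨fun x y => Subtype.ext
    (mem_centralizer_iff.1 y.2.2 x x.2.1)⟩⟩
  have hND : N ≤ normalizer (D : Set H) :=
    CfsgLib.Coprime.inf_le_normalizer le_rfl (CfsgLib.Coprime.normalizer_le_normalizer_centralizer P₀)
  -- the kernel of the action on `P₀ / D`
  have hcomm : ∀ k ∈ K, ∀ x ∈ P₀, ⁅x, k⁆ ∈ D := by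
    let W : Subgroup H :=
      { carrier := {w | w ∈ N ∧ ∀ x ∈ P₀, x * (w * x⁻¹ * w⁻¹) ∈ D}
        one_mem' := ⟨one_mem _, fun x _ => by simp⟩
        mul_mem' := by
          rintro a b ⟨ha, ha'⟩ ⟨hb, hb'⟩
          refine ⟨mul_mem ha hb, fun x hx => ?_⟩
          have h1 := conj_mem_of_le_normalizer (K := D) hND ha (hb' x hx)
          have h2 := mul_mem (ha' x hx) h1
          convert h2 using 1
          group
        inv_mem' := by
          rintro a ⟨ha, ha'⟩
          refine ⟨inv_mem ha, fun x hx => ?_⟩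
          have h2 := conj_mem_of_le_normalizer (K := D) hND (inv_mem ha) (ha' x hx)
          convert inv_mem h2 using 1
          group }
    have hAW : A ≤ W := fun a ha => ⟨hAP ha, fun x hx => by
      have := hPAD (commutator_mem_commutator hx ha)
      rw [commutatorElement_def] at this
      simpa only [mul_assoc] using this⟩
    have hKW : K ≤ W := by
      rw [← CfsgLib.Coprime.commutator_sup_centralizer hAK hcop hsolv]
      refine sup_le ?_ ?_
      · rw [commutator_le]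
        intro k hk a ha
        have hWn : k * a * k⁻¹ ∈ W := by
          obtain ⟨haN, haW⟩ := hAW ha
          refine ⟨mul_mem (mul_mem (hKP hk) haN) (inv_mem (hKP hk)), fun x hx => ?_⟩
          have hx' : k⁻¹ * x * k ∈ P₀ := (mem_normalizer_iff''.1 (hKP hk) x).1 hx
          have h2 := conj_mem_of_le_normalizer (K := D) hND (hKP hk) (haW _ hx')
          convert h2 using 1
          group
        rw [commutatorElement_def]
        exact mul_mem hWn (inv_mem (hAW ha))
      · intro c hc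
        refine ⟨hKP hc.1, fun x hx => ?_⟩
        rw [← mem_centralizer_iff.1 (hCc hc) x⁻¹ (inv_mem hx), mul_inv_cancel_right, mul_inv_cancel]
        exact one_mem _
    intro k hk x hx
    rw [commutatorElement_def]
    simpa only [mul_assoc] using (hKW hk).2 x hx
  have hPKD : ⁅P₀, K⁆ ≤ D := by
    rw [commutator_le]; exact fun x hx k hk => hcomm k hk x hx
  -- `K` centralizes `D`
  have hcopD : (Nat.card K).Coprime (Nat.card D) := by
    obtain ⟨k, hk⟩ := IsPGroup.iff_card.1 (hP.to_le (inf_le_left : D ≤ P₀))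
    rw [hk]; exact hK.pow_right k
  have hKD : K ≤ normalizer (D : Set H) := hKP.trans hND
  have hbot := CfsgLib.Coprime.centralizer_inf_commutator_eq_bot hDc hKD hcopD
  have hDK : ⁅D, K⁆ = ⊥ := by
    by_contra hne
    set E := ⁅D, K⁆ with hE
    have hED : E ≤ D := le_normalizer_iff_commutator_le_left.1 hKD
    have hAE : A ≤ normalizer (E : Set H) := by
      intro a ha
      refine CfsgLib.Fusion.conjBy_eq_iff.1 ?_
      show E.map (MulAut.conj a).toMonoidHom = E
      rw [hE, Subgroup.map_commutator]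
      exact congrArg₂ (⁅·, ·⁆) (CfsgLib.Fusion.conjBy_eq_iff.2 (hND (hAP ha)))
        (CfsgLib.Fusion.conjBy_eq_iff.2 (hAK ha))
    letI : MulAction A E :=
      { smul := fun a e => ⟨(a : H) * e * (a : H)⁻¹, conj_mem_of_le_normalizer hAE a.2 e.2⟩
        one_smul := fun e => Subtype.ext (show ((1 : A) : H) * e * ((1 : A) : H)⁻¹ = e by simp)
        mul_smul := fun a b e => Subtype.ext
          (show ((a * b : A) : H) * e * ((a * b : A) : H)⁻¹ =
            (a : H) * ((b : H) * e * (b : H)⁻¹) * (a : H)⁻¹ by rw [Subgroup.coe_mul]; group) }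
    have hEp : IsPGroup p E := hP.to_le (hED.trans inf_le_left)
    haveI : Nontrivial E := (nontrivial_iff_ne_bot _).2 hne
    obtain ⟨n, hn0, hn⟩ := hEp.nontrivial_iff_card.1 inferInstance
    obtain ⟨b, hb, hb1⟩ := hA.exists_fixed_point_of_prime_dvd_card_of_fixed_point E
      (hn ▸ dvd_pow_self p hn0.ne') (a := 1) fun a => Subtype.ext
        (show (a : H) * ((1 : E) : H) * (a : H)⁻¹ = 1 by simp)
    have hbA : (b : H) ∈ centralizer (A : Set H) := mem_centralizer_iff.2 fun a ha => by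
      have h1 : a * (b : H) * a⁻¹ = b := congrArg Subtype.val (hb ⟨a, ha⟩)
      exact mul_inv_eq_iff_eq_mul.1 h1
    have hbK := hC ⟨(hED b.2).1, hbA⟩
    exact hb1 (Subtype.ext (mem_bot.1 (hbot.le ⟨⟨hED b.2, hbK⟩, b.2⟩))).symm
  have hcop' : (Nat.card K).Coprime (Nat.card P₀) := by
    obtain ⟨k, hk⟩ := IsPGroup.iff_card.1 hP
    rw [hk]; exact hK.pow_right k
  refine CfsgLib.Coprime.le_centralizer_of_le_centralizer_commutator hKP hcop'
    (Or.inr (CfsgLib.Coprime.isSolvable_of_isNilpotent hP.isNilpotent)) ?_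
  exact (le_centralizer_iff.1 (commutator_eq_bot_iff_le_centralizer.1 hDK)).trans
    (centralizer_le hPKD)

/-- Invariant `p'`-subgroups of a constrained group lie in the `p'`-core. -/
theorem le_pPrimeCore_of_invariant {H : Type u} [Group H] [Finite H]
    (hc : CfsgLib.Invol.PCons p H) {A : Subgroup H} (hA : IsPGroup p A)
    (hfull : ∀ x ∈ centralizer (A : Set H), IsPGroup p (zpowers x) → x ∈ A)
    (hclass : p = 2 → ∀ T : Subgroup H, IsPGroup p T → ⁅⁅T, T⁆, T⁆ = ⊥)
    {K : Subgroup H} (hK : (Nat.card K).Coprime p) (hAK : A ≤ normalizer (K : Set H)) :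
    K ≤ Cfsg.pPrimeCore p H := by
  set O := Cfsg.pPrimeCore p H with hO
  haveI : O.Normal := Subgroup.sSup_normal _ fun _ h => h.1
  have hOc : ¬ p ∣ Nat.card O := CfsgLib.Coprime.pPrimeCore_not_dvd hp.out
  set π := QuotientGroup.mk' O with hπ
  have hπs := QuotientGroup.mk'_surjective O
  haveI := CfsgLib.Coprime.pCore_normal' (G := H ⧸ O) p
  set P₀ := Cfsg.pCore p (H ⧸ O) with hP₀
  have hP : IsPGroup p P₀ := CfsgLib.Coprime.pCore_isPGroup p
  have hKb : (Nat.card (K.map π)).Coprime p :=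
    Nat.Coprime.coprime_dvd_left (card_map_dvd K π) hK
  have hAb : IsPGroup p (A.map π) := hA.map π
  have hAKb : A.map π ≤ normalizer (K.map π : Set (H ⧸ O)) :=
    (Subgroup.map_mono hAK).trans (le_normalizer_map π)
  have hAPb : A.map π ≤ normalizer (P₀ : Set (H ⧸ O)) := by rw [normalizer_eq_top]; exact le_top
  have hKPb : K.map π ≤ normalizer (P₀ : Set (H ⧸ O)) := by rw [normalizer_eq_top]; exact le_top
  have hfix : P₀ ⊓ centralizer (A.map π : Set (H ⧸ O)) ≤ centralizer (K.map π : Set (H ⧸ O)) := by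
    rintro x ⟨hxP, hxA⟩
    obtain ⟨c, hc', rfl⟩ := CfsgLib.Fusion.centralizer_map_le O hOc hA hxA
    obtain ⟨k, l, hl, hkl⟩ :=
      Nat.exists_eq_pow_mul_and_not_dvd (orderOf_pos c).ne' p hp.out.ne_one
    obtain ⟨k', hk'⟩ := hP ⟨π c, hxP⟩
    obtain ⟨i, hi⟩ := exists_pow_eq_self_of_coprime (n := l) (x := π c)
      (Nat.Coprime.coprime_dvd_right (orderOf_dvd_of_pow_eq_one (congrArg Subtype.val hk'))
        ((hp.out.coprime_iff_not_dvd.2 hl).symm.pow_right k'))
    set c' := (c ^ l) ^ i with hc''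
    have hc'p : IsPGroup p (zpowers c') := by
      have h1 : c' ^ p ^ k = 1 := by
        rw [hc'', ← pow_mul, mul_comm i, pow_mul, ← pow_mul c, mul_comm l, ← hkl, pow_orderOf_eq_one,
          one_pow]
      refine IsPGroup.of_card (n := ((Nat.dvd_prime_pow hp.out).1 (orderOf_dvd_of_pow_eq_one h1)).choose)
        ?_
      rw [Nat.card_zpowers]
      exact ((Nat.dvd_prime_pow hp.out).1 (orderOf_dvd_of_pow_eq_one h1)).choose_spec.2
    have hc'A := hfull c' (pow_mem (pow_mem hc' _) _) hc'p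
    have he : π c' = π c := by rw [hc'', map_pow, map_pow, hi]
    rw [mem_centralizer_iff]
    intro k₀ (hk₀ : k₀ ∈ K.map π)
    have hxA' : π c ∈ A.map π := he ▸ mem_map_of_mem π hc'A
    have h1 : ⁅π c, k₀⁆ ∈ K.map π ⊓ P₀ := by
      refine mem_inf.2 ⟨?_, ?_⟩
      · rw [commutatorElement_def]
        exact mul_mem (conj_mem_of_le_normalizer hAKb hxA' hk₀) (inv_mem hk₀)
      · rw [commutatorElement_def, mul_assoc (π c * k₀), mul_assoc (π c), ← mul_assoc k₀]
        exact mul_mem hxP (conj_mem_of_le_normalizer hKPb hk₀ (inv_mem hxP))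
    rw [CfsgLib.Coprime.pPrime_inf_pGroup_eq_bot hKb hP, mem_bot,
      commutatorElement_eq_one_iff_mul_comm] at h1
    exact h1.symm
  have hle : K.map π ≤ centralizer (P₀ : Set (H ⧸ O)) := by
    rcases eq_or_ne p 2 with h2 | h2
    · refine le_centralizer_of_classTwo hAb hKb hP hAKb hAPb hKPb ?_ hfix
      have hT : IsPGroup p ↥(P₀ ⊔ A.map π) := hP.to_sup_of_normal_left hAb
      obtain ⟨S, hS⟩ := hT.exists_le_sylow
      obtain ⟨S'⟩ : Nonempty (Sylow p H) := inferInstance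
      obtain ⟨g, hg⟩ := hπs (Classical.choose (MulAction.exists_smul_eq (H ⧸ O) (S'.mapSurjective hπs) S))
      have hgS := Classical.choose_spec (MulAction.exists_smul_eq (H ⧸ O) (S'.mapSurjective hπs) S)
      rw [← hg] at hgS
      have himg : (S : Subgroup (H ⧸ O)) = ((g • S' : Sylow p H) : Subgroup H).map π := by
        rw [← hgS, Sylow.coe_subgroup_smul, Sylow.coe_mapSurjective, Sylow.coe_subgroup_smul]
        ext y
        constructor
        · rintro ⟨_, ⟨s, hs, rfl⟩, rfl⟩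
          exact ⟨g * s * g⁻¹, ⟨s, hs, rfl⟩, by simp [hπ]⟩
        · rintro ⟨_, ⟨s, hs, rfl⟩, rfl⟩
          exact ⟨π s, ⟨s, hs, rfl⟩, by simp [hπ]⟩
      have h := congrArg (Subgroup.map π) (hclass h2 _ (g • S' : Sylow p H).2)
      rw [Subgroup.map_commutator, Subgroup.map_commutator, Subgroup.map_bot, ← himg] at h
      rw [eq_bot_iff, ← h]
      exact commutator_mono (commutator_mono (le_sup_left.trans hS) (le_sup_right.trans hS))
        (le_sup_left.trans hS)
    · exact CfsgLib.PGroup.thompson_pq_semidirect h2 _ _ hAb hKb hAKb P₀ hP hAPb hKPb hfix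
  intro x hx
  refine (QuotientGroup.eq_one_iff x).1 (hc (π x) ?_ (hle (mem_map_of_mem π hx)))
  exact Nat.Coprime.coprime_dvd_left
    (Subgroup.orderOf_dvd_natCard _ (mem_map_of_mem π hx)) hKb

variable {G : Type u} [Group G] [Finite G]

/-- Burnside: an abelian `p`-group containing the `p`-elements of its centralizer splits it. -/
theorem mem_pPrimeCore_centralizer {E : Subgroup G} (hEc : IsMulCommutative E) (hE : IsPGroup p E)
    (hfull : ∀ x ∈ centralizer (E : Set G), IsPGroup p (zpowers x) → x ∈ E)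
    {x : G} (hx : x ∈ centralizer (E : Set G)) (hxp : (orderOf x).Coprime p) :
    x ∈ (Cfsg.pPrimeCore p ↥(centralizer (E : Set G))).map (centralizer (E : Set G)).subtype := by
  set C := centralizer (E : Set G) with hC
  have hEC : E ≤ C := fun a ha => mem_centralizer_iff.2 fun b hb =>
    congrArg Subtype.val (hEc.is_comm.comm (⟨b, hb⟩ : E) ⟨a, ha⟩)
  obtain ⟨R⟩ := (inferInstance : Nonempty (Sylow p C))
  have hRE : (R : Subgroup C).map C.subtype ≤ E := by
    rintro _ ⟨r, hr, rfl⟩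
    refine hfull _ r.2 ?_
    exact (R.2.map C.subtype).to_le (zpowers_le.2 ⟨r, hr, rfl⟩)
  have hcen : normalizer ((R : Subgroup C) : Set C) ≤ centralizer ((R : Subgroup C) : Set C) :=
    fun z _ => mem_centralizer_iff.2 fun r hr =>
      Subtype.ext (mem_centralizer_iff.1 z.2 r (hRE ⟨r, hr, rfl⟩))
  set D := (MonoidHom.transferSylow R hcen).ker with hD
  have hDle : D ≤ Cfsg.pPrimeCore p C :=
    CfsgLib.Coprime.le_pPrimeCore ((hp.out.coprime_iff_not_dvd.2
      (MonoidHom.not_dvd_card_ker_transferSylow R hcen)).symm)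
  refine ⟨⟨x, hx⟩, hDle ?_, rfl⟩
  obtain ⟨k, hk⟩ := R.2 ((MonoidHom.transferSylow R hcen) ⟨x, hx⟩)
  refine MonoidHom.mem_ker.2 (orderOf_eq_one_iff.1 (Nat.eq_one_of_dvd_coprimes (hxp.pow_right k) ?_
    (orderOf_dvd_of_pow_eq_one hk)))
  exact (orderOf_map_dvd _ _).trans (by rw [Subgroup.orderOf_mk])

section Transitive

variable {E : Subgroup G} {q : ℕ} [hq : Fact q.Prime]

/-- Transitivity on maximal invariant `q`-subgroups. -/
theorem transitive_of_locals
    (hloc : ∀ T : Subgroup G, IsPGroup p T → T ≠ ⊥ → Cfsg.IsPConstrained p ↥(normalizer (T : Set G)))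
    (hclass : p = 2 → ∀ T : Subgroup G, IsPGroup p T → ⁅⁅T, T⁆, T⁆ = ⊥)
    (hEp : IsPGroup p E) (hEc : IsMulCommutative E) {A : Subgroup G} (hAE : A ≤ E)
    (hA : Cfsg.IsElementaryAbelian p A) (hA3 : p ^ 3 ≤ Nat.card A)
    (hfull : ∀ x ∈ centralizer (E : Set G), IsPGroup p (zpowers x) → x ∈ E) (hqp : q ≠ p) :
    ∀ (n : ℕ) (Q₁ Q₂ : Subgroup G),
      (IsPGroup q Q₁ ∧ E ≤ normalizer (Q₁ : Set G) ∧
        ∀ R : Subgroup G, IsPGroup q R → E ≤ normalizer (R : Set G) → Q₁ ≤ R → R = Q₁) →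
      (IsPGroup q Q₂ ∧ E ≤ normalizer (Q₂ : Set G) ∧
        ∀ R : Subgroup G, IsPGroup q R → E ≤ normalizer (R : Set G) → Q₂ ≤ R → R = Q₂) →
      Nat.card G - Nat.card ↥(Q₁ ⊓ Q₂) = n →
      ∃ c, c ∈ (Cfsg.pPrimeCore p ↥(centralizer (E : Set G))).map (centralizer (E : Set G)).subtype ∧
        Q₂ = Q₁.map (MulAut.conj c).toMonoidHom := by
  intro n
  induction n using Nat.strongRecOn with
  | ind n ih =>
  intro Q₁ Q₂ h₁ h₂ hn
  set Θ := (Cfsg.pPrimeCore p ↥(centralizer (E : Set G))).map (centralizer (E : Set G)).subtype with hΘ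
  by_cases hD₁ : Q₁ ⊓ Q₂ = Q₁
  · refine ⟨1, one_mem _, ?_⟩
    rw [← h₁.2.2 Q₂ h₂.1 h₂.2.1 (inf_eq_left.1 hD₁)]
    exact (CfsgLib.Fusion.conjBy_one _).symm
  by_cases hD₂ : Q₁ ⊓ Q₂ = Q₂
  · refine ⟨1, one_mem _, ?_⟩
    rw [h₂.2.2 Q₁ h₁.1 h₁.2.1 (inf_eq_right.1 hD₂)]
    exact (CfsgLib.Fusion.conjBy_one _).symm
  obtain ⟨a, haA, ha1, hC₁, hC₂⟩ := CfsgLib.Invol.exists_common_fixing hA hA3 hqp h₁.1 h₂.1
    (hAE.trans h₁.2.1) (hAE.trans h₂.2.1) hD₁ hD₂
  set D := Q₁ ⊓ Q₂ with hDdef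
  have hDp : IsPGroup q D := h₁.1.to_le inf_le_left
  have hED : E ≤ normalizer (D : Set G) := CfsgLib.Coprime.inf_le_normalizer h₁.2.1 h₂.2.1
  set Z := zpowers a with hZ
  set N := normalizer (Z : Set G) with hN
  have hEN : E ≤ N := fun e he => CfsgLib.Fusion.conjBy_eq_iff.1 (CfsgLib.Fusion.conjBy_eq_of_le
    (CfsgLib.Fusion.conjBy_le_iff.2 fun z hz => by
      have h1 : e * z = z * e := congrArg Subtype.val (hEc.is_comm.comm (⟨e, he⟩ : E)
        ⟨z, (zpowers_le.2 (hAE haA)) hz⟩)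
      rw [h1, mul_inv_cancel_right]; exact hz))
  have hZp : IsPGroup p Z := hEp.to_le (zpowers_le.2 (hAE haA))
  have hcons : CfsgLib.Invol.PCons p N :=
    CfsgLib.Invol.isPConstrained_iff.1 (hloc Z hZp (by rw [hZ, Ne, zpowers_eq_bot]; exact ha1))
  -- the signalizer at `a`
  set W := (Cfsg.pPrimeCore p N).map N.subtype with hW
  have hWN : W ≤ N := map_subtype_le _
  have hWc : (Nat.card W).Coprime p := by
    rw [hW, card_map_of_injective N.subtype_injective]
    exact CfsgLib.Coprime.pPrimeCore_coprime hp.out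
  have hEW : E ≤ normalizer (W : Set G) := by
    haveI : (Cfsg.pPrimeCore p N).Normal := Subgroup.sSup_normal _ fun _ h => h.1
    intro e he
    exact le_normalizer_map N.subtype
      ⟨⟨e, hEN he⟩, (normalizer_eq_top (Cfsg.pPrimeCore p N)).symm ▸ mem_top _, rfl⟩
  have hinW : ∀ K : Subgroup G, K ≤ N → (Nat.card K).Coprime p → E ≤ normalizer (K : Set G) →
      K ≤ W := by
    intro K hKN hKc hEK
    have h := le_pPrimeCore_of_invariant hcons (A := E.subgroupOf N)
      (hEp.of_equiv (subgroupOfEquivOfLe hEN).symm) (fun x hx hxp => hfull x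
        (mem_centralizer_iff.2 fun e he => congrArg Subtype.val
          (mem_centralizer_iff.1 hx ⟨e, hEN he⟩ he))
        (by rw [← N.coe_subtype, ← MonoidHom.map_zpowers]; exact hxp.map _))
      (fun h2 T hT => map_injective N.subtype_injective (by
        rw [Subgroup.map_commutator, Subgroup.map_commutator, Subgroup.map_bot]
        exact hclass h2 _ (hT.map _)))
      (K := K.subgroupOf N) (by rw [Nat.card_congr (subgroupOfEquivOfLe hKN).toEquiv]; exact hKc)
      (fun e he => mem_normalizer_iff.2 fun y => mem_normalizer_iff.1 (hEK he) (y : G))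
    calc K = (K.subgroupOf N).map N.subtype := (map_subgroupOf_eq_of_le hKN).symm
      _ ≤ W := map_mono h
  have hqcop : ∀ {X : Subgroup G}, IsPGroup q X → (Nat.card X).Coprime p := by
    intro X hX
    obtain ⟨k, hk⟩ := IsPGroup.iff_card.1 hX
    rw [hk]
    exact ((Nat.coprime_primes hq.out hp.out).2 hqp).pow_left k
  have hCmem : ∀ Q : Subgroup G, IsPGroup q Q → E ≤ normalizer (Q : Set G) →
      normalizer (D : Set G) ⊓ Q ⊓ centralizer {a} ≤ W ⊓ normalizer (D : Set G) ∧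
      E ≤ normalizer ((normalizer (D : Set G) ⊓ Q ⊓ centralizer {a} : Subgroup G) : Set G) := by
    intro Q hQ hEQ
    have hinv : E ≤ normalizer ((normalizer (D : Set G) ⊓ Q ⊓ centralizer {a} : Subgroup G) : Set G) :=
      CfsgLib.Coprime.inf_le_normalizer (CfsgLib.Coprime.inf_le_normalizer (hED.trans le_normalizer) hEQ)
        (le_trans (show E ≤ centralizer {a} from fun e he => mem_centralizer_singleton_iff.2
          (congrArg Subtype.val (hEc.is_comm.comm (⟨e, he⟩ : E) ⟨a, hAE haA⟩))) le_normalizer)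
    refine ⟨le_inf (hinW _ (fun x hx => ?_) (hqcop (hQ.to_le (inf_le_left.trans inf_le_right))) hinv)
      (inf_le_left.trans inf_le_left), hinv⟩
    exact CfsgLib.Coprime.centralizer_le_normalizer_self Z
      (by rw [hZ, zpowers_eq_closure, centralizer_closure]; exact hx.2)
  set M := W ⊓ normalizer (D : Set G) with hMdef
  have hMinv : E ≤ normalizer (M : Set G) :=
    CfsgLib.Coprime.inf_le_normalizer hEW (hED.trans le_normalizer)
  have hcop : (Nat.card E).Coprime (Nat.card M) := by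
    obtain ⟨k, hk⟩ := IsPGroup.iff_card.1 hEp
    rw [hk]
    exact (Nat.Coprime.pow_right k (Nat.Coprime.coprime_dvd_left (card_dvd_of_le inf_le_left) hWc)).symm
  have hsolv : Group.IsSolvable E ∨ Group.IsSolvable M :=
    Or.inl (CfsgLib.Coprime.isSolvable_of_isMulCommutative hEc)
  obtain ⟨P₁, hP₁s, hC₁P, hP₁A⟩ := CfsgLib.Coprime.le_invariant_sylow hMinv hcop hsolv
    (hCmem Q₁ h₁.1 h₁.2.1).1 (h₁.1.to_le (inf_le_left.trans inf_le_right)) (hCmem Q₁ h₁.1 h₁.2.1).2
  obtain ⟨P₂, hP₂s, hC₂P, hP₂A⟩ := CfsgLib.Coprime.le_invariant_sylow hMinv hcop hsolv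
    (hCmem Q₂ h₂.1 h₂.2.1).1 (h₂.1.to_le (inf_le_left.trans inf_le_right)) (hCmem Q₂ h₂.1 h₂.2.1).2
  obtain ⟨c, hc, hcP⟩ := CfsgLib.Coprime.invariant_sylow_conj hMinv hcop hsolv hP₁s hP₂s hP₁A hP₂A
  obtain ⟨hcM, hcE⟩ := mem_inf.1 hc
  obtain ⟨hcW, hcD⟩ := mem_inf.1 hcM
  have hcΘ : c ∈ Θ := mem_pPrimeCore_centralizer hEc hEp hfull hcE
    (Nat.Coprime.coprime_dvd_left (Subgroup.orderOf_dvd_natCard W hcW) hWc)
  -- enlarge
  have hex : ∀ U : Subgroup G, IsPGroup q U → E ≤ normalizer (U : Set G) → ∃ S : Subgroup G,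
      (IsPGroup q S ∧ E ≤ normalizer (S : Set G) ∧
        ∀ R : Subgroup G, IsPGroup q R → E ≤ normalizer (R : Set G) → S ≤ R → R = S) ∧ U ≤ S := by
    intro U hU hEU
    obtain ⟨S, hUS, hS⟩ := exists_maximal_ge_of_wellFoundedGT
      (fun S : Subgroup G => IsPGroup q S ∧ E ≤ normalizer (S : Set G)) U ⟨hU, hEU⟩
    exact ⟨S, ⟨hS.prop.1, hS.prop.2, fun R h1 h2 h3 => (hS.eq_of_le ⟨h1, h2⟩ h3).symm⟩, hUS⟩
  have hT : ∀ P : Subgroup G, CfsgLib.Coprime.IsSylowIn q P M → E ≤ normalizer (P : Set G) →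
      ∃ S : Subgroup G, (IsPGroup q S ∧ E ≤ normalizer (S : Set G) ∧
        ∀ R : Subgroup G, IsPGroup q R → E ≤ normalizer (R : Set G) → S ≤ R → R = S) ∧ D ⊔ P ≤ S :=
    fun P hP hPA => hex _ (CfsgLib.Invol.isPGroup_sup hDp hP.isPGroup (hP.1.trans inf_le_right))
      (CfsgLib.Coprime.sup_le_normalizer hED hPA)
  obtain ⟨S₁, hS₁, hT₁⟩ := hT P₁ hP₁s hP₁A
  obtain ⟨S₂, hS₂, hT₂⟩ := hT P₂ hP₂s hP₂A
  obtain ⟨hDS₁, hPS₁⟩ := sup_le_iff.1 hT₁
  obtain ⟨hDS₂, hPS₂⟩ := sup_le_iff.1 hT₂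
  have hmeas : ∀ {X : Subgroup G}, Nat.card D < Nat.card X → Nat.card G - Nat.card X < n := by
    intro X hX
    have := card_le_card_group X
    omega
  obtain ⟨c₁, hc₁, e₁⟩ := ih _ (hmeas (CfsgLib.Invol.card_lt_of_not_le (le_inf inf_le_left hDS₁)
    (le_inf (inf_le_left.trans inf_le_right) (hC₁P.trans hPS₁)) hC₁)) Q₁ S₁ h₁ hS₁ rfl
  set S₁' := S₁.map (MulAut.conj c).toMonoidHom with hS₁def
  have hcEn : ∀ R : Subgroup G, E ≤ normalizer (R : Set G) → ∀ d ∈ centralizer (E : Set G),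
      E ≤ normalizer (R.map (MulAut.conj d).toMonoidHom : Set G) := by
    intro R hR d hd e he
    refine CfsgLib.Fusion.conjBy_eq_iff.1 ?_
    show CfsgLib.Fusion.conjBy e (CfsgLib.Fusion.conjBy d R) = CfsgLib.Fusion.conjBy d R
    rw [CfsgLib.Fusion.conjBy_conjBy, mem_centralizer_iff.1 hd e he, ← CfsgLib.Fusion.conjBy_conjBy,
      CfsgLib.Fusion.conjBy_eq_iff.2 (hR he)]
  have hS₁' : IsPGroup q S₁' ∧ E ≤ normalizer (S₁' : Set G) ∧
      ∀ R : Subgroup G, IsPGroup q R → E ≤ normalizer (R : Set G) → S₁' ≤ R → R = S₁' := by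
    refine ⟨hS₁.1.map _, hcEn S₁ hS₁.2.1 c hcE, fun R hR hER hle => ?_⟩
    have h := hS₁.2.2 (R.map (MulAut.conj c⁻¹).toMonoidHom) (hR.map _) (hcEn R hER _ (inv_mem hcE))
      (by
        intro x hx
        refine ⟨c * x * c⁻¹, hle ⟨x, hx, rfl⟩, ?_⟩
        simp [mul_assoc])
    rw [hS₁def, ← h]
    show R = CfsgLib.Fusion.conjBy c (CfsgLib.Fusion.conjBy c⁻¹ R)
    rw [CfsgLib.Fusion.conjBy_conjBy, mul_inv_cancel, CfsgLib.Fusion.conjBy_one]
  have hDS₁' : D ≤ S₁' := by
    have : CfsgLib.Fusion.conjBy c D = D := CfsgLib.Fusion.conjBy_eq_iff.2 hcD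
    rw [← this]
    exact map_mono hDS₁
  have hPS₁' : P₂ ≤ S₁' := by
    rw [← hcP]
    exact map_mono hPS₁
  obtain ⟨c₂, hc₂, e₂⟩ := ih _ (hmeas (CfsgLib.Invol.card_lt_of_not_le (le_inf hDS₁' hDS₂)
    (le_inf (hC₂P.trans hPS₁') (hC₂P.trans hPS₂)) hC₂)) _ S₂ hS₁' hS₂ rfl
  obtain ⟨c₃, hc₃, e₃⟩ := ih _ (hmeas (CfsgLib.Invol.card_lt_of_not_le (le_inf hDS₂ inf_le_right)
    (le_inf (hC₂P.trans hPS₂) (inf_le_left.trans inf_le_right)) hC₂)) S₂ Q₂ hS₂ h₂ rfl
  refine ⟨c₃ * (c₂ * (c * c₁)), mul_mem hc₃ (mul_mem hc₂ (mul_mem hcΘ hc₁)), ?_⟩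
  show Q₂ = CfsgLib.Fusion.conjBy (c₃ * (c₂ * (c * c₁))) Q₁
  rw [← CfsgLib.Fusion.conjBy_conjBy, ← CfsgLib.Fusion.conjBy_conjBy, ← CfsgLib.Fusion.conjBy_conjBy,
    e₃, e₂, hS₁def, e₁]

end Transitive

end CfsgLib.CFun
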