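import Cfsg.Agent.Lib.Char.UnitalGraph
import Cfsg.Agent.Lib.SU.UnitalModel
import Cfsg.Agent.Lib.CFun.SixtyFourByFive

/-!
# An involution centralizer in `SU(3,4)`

For the involution `tInv` (the fifth power of an element of order ten) the centralizer has order 320,
its derived group has order 64 and the centre of the derived group is a four-group.
-/

set_option autoImplicit false

open Subgroup
open scoped commutatorElement
open CfsgLib.Char CfsgLib.Char.Unital

namespace CfsgLib.CFun.SU34

/-- the involution -/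
def tInv : SU4 := g10 ^ 5

/-- an element of order five commuting with it -/
def sFive : SU4 := g10 ^ 2

/-- the centre of the transvection -/
def eVec : V3 := ![K16.ofNat 1, K16.ofNat 4, K16.ofNat 11]

/-- an isotropic vector with form value one at the centre -/
def fVec : V3 := ![K16.ofNat 0, K16.ofNat 3, K16.ofNat 13]

/-- a unit vector -/
def uVec : V3 := ![K16.ofNat 1, K16.ofNat 2, K16.ofNat 2]

/-- a unit vector orthogonal to the previous one -/
def vVec : V3 := ![K16.ofNat 1, K16.ofNat 1, K16.ofNat 15]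

/-- an element of the centralizer not commuting with the element of order five -/
def pEl : SU4 := mkSU (ofCodes 10 5 9 15 4 14 1 15 15) (by decide +kernel) (by decide +kernel)

theorem orderOf_tInv : orderOf tInv = 2 := by
  rw [tInv, orderOf_pow_of_dvd (by norm_num) (by rw [orderOf_g10]; norm_num), orderOf_g10]

theorem orderOf_sFive : orderOf sFive = 5 := by
  rw [sFive, orderOf_pow_of_dvd (by norm_num) (by rw [orderOf_g10]; norm_num), orderOf_g10]

theorem powers : (g10 ^ 2).1.1 = ofCodes 7 11 8 3 7 10 8 15 15 ∧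
    (g10 ^ 5).1.1 = ofCodes 7 13 8 11 0 6 15 6 6 := by
  have h1 : (g10 ^ 1).1.1 = ofCodes 1 15 8 2 10 2 3 1 7 := by rw [pow_one]; decide +kernel
  have h2 := pow_val_add g10 h1 h1 (C := ofCodes 7 11 8 3 7 10 8 15 15) (by decide +kernel)
  have h4 := pow_val_add g10 h2 h2 (C := ofCodes 4 1 14 15 4 4 14 6 10) (by decide +kernel)
  have h5 := pow_val_add g10 h4 h1 (C := ofCodes 7 13 8 11 0 6 15 6 6) (by decide +kernel)
  exact ⟨h2, h5⟩

theorem pEl_comm_t : pEl * tInv = tInv * pEl := by
  refine Subtype.ext (Subtype.ext ?_)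
  show pEl.1.1 * tInv.1.1 = tInv.1.1 * pEl.1.1
  rw [tInv, powers.2]; decide +kernel

theorem pEl_not_comm_s : pEl * sFive ≠ sFive * pEl := by
  intro h
  have h1 : pEl.1.1 * sFive.1.1 = sFive.1.1 * pEl.1.1 := congrArg (fun g : SU4 => g.1.1) h
  rw [sFive, powers.1] at h1
  revert h1; decide +kernel

theorem pEl_fix : ap pEl eVec = eVec := by decide +kernel

theorem t_rows : ∀ a b c : K16, (ofCodes 7 13 8 11 0 6 15 6 6).mulVec ![a, b, c] =
    ![a, b, c] + (K16.ofNat 6 * hf ![a, b, c] eVec) • eVec := by decide +kernel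

theorem ap_tInv (v : V3) : ap tInv v = v + (K16.ofNat 6 * hf v eVec) • eVec := by
  have hv : v = ![v 0, v 1, v 2] := by funext i; fin_cases i <;> rfl
  rw [hv]
  show tInv.1.1.mulVec _ = _
  rw [tInv, powers.2]
  exact t_rows _ _ _

theorem hf_fe : hf fVec eVec = 1 ∧ hf uVec uVec = 1 ∧ hf vVec vVec = 1 ∧ hf vVec uVec = 0 ∧
    uVec = eVec + K16.ofNat 2 • fVec ∧ vVec = eVec + K16.ofNat 3 • fVec := by decide +kernel

theorem ap_add (g : SU4) (u v : V3) : ap g (u + v) = ap g u + ap g v := Matrix.mulVec_add _ _ _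

theorem ap_smul (g : SU4) (c : K16) (v : V3) : ap g (c • v) = c • ap g v := Matrix.mulVec_smul _ _ _

/-- elements of the centralizer stabilize the line and act on it by fifth roots of unity -/
theorem exists_lambda {g : SU4} (hg : g * tInv = tInv * g) :
    ∃ l : K16, ap g eVec = l • eVec ∧ l ^ 5 = 1 := by
  have h6 : K16.ofNat 6 ≠ 0 := by decide
  have hcomm : ∀ v, ap g ((K16.ofNat 6 * hf v eVec) • eVec) = (K16.ofNat 6 * hf (ap g v) eVec) • eVec := by
    intro v
    have h1 : ap g (ap tInv v) = ap tInv (ap g v) := by rw [← ap_mul, hg, ap_mul]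
    rw [ap_tInv, ap_tInv, ap_add] at h1
    exact add_left_cancel h1
  set l := hf (ap g fVec) eVec with hl
  have he : ap g eVec = l • eVec := by
    have h := hcomm fVec
    rw [hf_fe.1, mul_one, ap_smul, mul_smul] at h
    exact smul_right_injective V3 h6 h
  refine ⟨l, he, ?_⟩
  have h := hf_ap g fVec eVec
  rw [he, hf_smul_right, hf_fe.1, ← hl] at h
  rw [pow_succ]; exact h

theorem eq_of_fix (g : SU4) (hu : ap g uVec = uVec) (hv : ap g vVec = vVec) : g = 1 := by
  obtain ⟨h, hh0, hh1⟩ := su_of_frame hf_fe.2.1 hf_fe.2.2.1 hf_fe.2.2.2.1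
  have h0 : ap h e0 = uVec := by rw [e0_eq, ap_col]; exact funext hh0
  have h1 : ap h (Pi.single 1 1) = vVec := by rw [ap_col]; exact funext hh1
  have k0 : ap (h⁻¹ * g * h) e0 = e0 := by
    rw [ap_mul, h0, ap_mul, hu, ← h0, ← ap_mul, inv_mul_cancel, ap_one]
  have k1 : ap (h⁻¹ * g * h) (Pi.single 1 1) = Pi.single 1 1 := by
    rw [ap_mul, h1, ap_mul, hv, ← h1, ← ap_mul, inv_mul_cancel, ap_one]
  have hk := eq_one_of_fix _ k0 k1
  calc g = h * (h⁻¹ * g * h) * h⁻¹ := by group
    _ = 1 := by rw [hk]; group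

/-- isotropic vectors with form value one at the centre -/
def Tgt : Type := {a : K16 × K16 × K16 // hf ![a.1, a.2.1, a.2.2] ![a.1, a.2.1, a.2.2] = 0 ∧
  hf ![a.1, a.2.1, a.2.2] eVec = 1}

instance : Fintype Tgt := Subtype.fintype _

theorem card_tgt : Fintype.card Tgt = 64 := by decide +kernel

theorem hf_ff : hf fVec fVec = 0 := by decide +kernel

/-- The centralizer facts. -/
theorem centralizer_data :
    Nat.card ↥(centralizer ({tInv} : Set SU4)) = 320 ∧
    Nat.card ↥(commutator ↥(centralizer ({tInv} : Set SU4))) = 64 ∧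
    IsKleinFour (center ↥(commutator ↥(centralizer ({tInv} : Set SU4)))) := by
  haveI : Fact (Nat.Prime 2) := ⟨Nat.prime_two⟩
  haveI : Fact (Nat.Prime 5) := ⟨by norm_num⟩
  haveI : CharP K16 2 := charP_of_card_eq_prime_pow (f := 4) (by rw [K16.card_eq]; norm_num)
  set C := centralizer ({tInv} : Set SU4) with hC
  -- the subgroup fixing the centre
  let K : Subgroup SU4 :=
    { carrier := {g | g ∈ C ∧ ap g eVec = eVec}
      one_mem' := ⟨C.one_mem, ap_one _⟩
      mul_mem' := fun {a b} ha hb => ⟨C.mul_mem ha.1 hb.1, by rw [ap_mul, hb.2, ha.2]⟩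
      inv_mem' := fun {a} ha => ⟨C.inv_mem ha.1, by
        conv_lhs => rw [← ha.2]
        rw [← ap_mul, inv_mul_cancel, ap_one]⟩ }
  have hKC : K ≤ C := fun g hg => hg.1
  have hKle : Nat.card K ≤ 64 := by
    rw [← card_tgt, ← Nat.card_eq_fintype_card]
    refine Nat.card_le_card_of_injective (fun g => ⟨(ap g.1 fVec 0, ap g.1 fVec 1, ap g.1 fVec 2), ?_, ?_⟩) ?_
    · have hv : ![ap g.1 fVec 0, ap g.1 fVec 1, ap g.1 fVec 2] = ap g.1 fVec := by funext i; fin_cases i <;> rfl
      rw [hv, hf_ap, hf_ff]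
    · have hv : ![ap g.1 fVec 0, ap g.1 fVec 1, ap g.1 fVec 2] = ap g.1 fVec := by funext i; fin_cases i <;> rfl
      have h := hf_ap g.1 fVec eVec
      rw [g.2.2, hf_fe.1] at h
      show hf ![ap g.1 fVec 0, ap g.1 fVec 1, ap g.1 fVec 2] eVec = 1
      rw [hv, h]
    · intro g g' hgg
      have h := congrArg Subtype.val hgg
      simp only [Prod.mk.injEq] at h
      have hf' : ap g.1 fVec = ap g'.1 fVec := by
        funext i; fin_cases i
        exacts [h.1, h.2.1, h.2.2]
      have hf2 : ap (g'.1⁻¹ * g.1) fVec = fVec := by rw [ap_mul, hf', ← ap_mul, inv_mul_cancel, ap_one]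
      have he2 : ap (g'.1⁻¹ * g.1) eVec = eVec := (K.mul_mem (K.inv_mem g'.2) g.2).2
      refine Subtype.ext (inv_mul_eq_one.1 (eq_of_fix _ ?_ ?_)).symm
      · rw [hf_fe.2.2.2.2.1, ap_add, ap_smul, he2, hf2]
      · rw [hf_fe.2.2.2.2.2, ap_add, ap_smul, he2, hf2]
  -- cosets of that subgroup
  have hl : ∀ g : C, ∃ l : K16, ap g.1 eVec = l • eVec ∧ l ^ 5 = 1 :=
    fun g => exists_lambda (mem_centralizer_singleton_iff.1 g.2)
  choose lam hlam hlam5 using hl
  have he_inj : ∀ a b : K16, a • eVec = b • eVec → a = b := by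
    intro a b h
    have h0 := congrFun h 0
    have e1 : eVec 0 = 1 := by decide +kernel
    simpa [e1] using h0
  have hlmul : ∀ g h : C, lam (g * h) = lam g * lam h := by
    intro g h
    refine he_inj _ _ ?_
    rw [← hlam, Subgroup.coe_mul, ap_mul, hlam, ap_smul, hlam, smul_smul, mul_comm]
  let μ : C →* K16ˣ :=
    { toFun := fun g => Units.ofPowEqOne (lam g) 5 (hlam5 g) (by norm_num)
      map_one' := Units.ext (by
        show lam 1 = 1
        refine he_inj _ _ ?_
        rw [← hlam, one_smul]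
        exact ap_one _)
      map_mul' := fun g h => Units.ext (hlmul g h) }
  have hker : μ.ker = K.subgroupOf C := by
    ext g
    rw [MonoidHom.mem_ker, mem_subgroupOf, Units.ext_iff]
    show lam g = 1 ↔ (g : SU4) ∈ K
    constructor
    · intro h; exact ⟨g.2, by rw [hlam, h, one_smul]⟩
    · intro h; exact he_inj _ _ (by rw [← hlam, one_smul]; exact h.2)
  have hrange : Nat.card μ.range ≤ 5 := by
    have h15 : ∀ a : K16, a ^ 5 = 1 → a ∈ ([K16.ofNat 1, K16.ofNat 8, K16.ofNat 10, K16.ofNat 12, K16.ofNat 15] : List K16) := by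
      decide +kernel
    classical
    let L : Finset K16 := {K16.ofNat 1, K16.ofNat 8, K16.ofNat 10, K16.ofNat 12, K16.ofNat 15}
    refine (Nat.card_le_card_of_injective (fun u : μ.range => (⟨((u : K16ˣ) : K16), ?_⟩ : L))
      (fun a b h => Subtype.ext (Units.ext (congrArg Subtype.val h)))).trans ?_
    · obtain ⟨g, hg⟩ := u.2
      rw [← hg]
      have := h15 (lam g) (hlam5 g)
      show lam g ∈ L
      simpa [L] using this
    · rw [Nat.card_eq_finsetCard]; decide +kernel
  have hCle : Nat.card C ≤ 320 := by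
    rw [Subgroup.card_eq_card_quotient_mul_card_subgroup μ.ker,
      Nat.card_congr (QuotientGroup.quotientKerEquivRange μ).toEquiv, hker,
      Nat.card_congr (subgroupOfEquivOfLe hKC).toEquiv]
    calc Nat.card μ.range * Nat.card K ≤ 5 * 64 := Nat.mul_le_mul hrange hKle
      _ = 320 := by norm_num
  -- a Sylow subgroup
  have hqF : Fintype.card K16 = (2 ^ 2) ^ 2 := by rw [K16.card_eq]; norm_num
  obtain ⟨P, hP⟩ := (IsPGroup.of_card (G := zpowers tInv) (p := 2) (n := 1)
    (by rw [Nat.card_zpowers, orderOf_tInv, pow_one])).exists_le_sylow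
  have hU : Nonempty (CfsgLib.SU.Unital ↥(P : Subgroup SU4) K16) := by
    obtain ⟨U, -⟩ := CfsgLib.SU.unital_sylow_su (F := K16) (n := 2) (by norm_num) hqF P
    exact ⟨U⟩
  obtain ⟨U⟩ := hU
  have hPcard : Nat.card P = 64 := by
    rw [U.card_eq (q := 4) (by rw [Nat.card_eq_fintype_card, hqF]; norm_num)]; norm_num
  have htP : tInv ∈ (P : Subgroup SU4) := hP (mem_zpowers _)
  have htc : (⟨tInv, htP⟩ : (P : Subgroup SU4)) ∈ center _ := by
    rw [U.mem_center_iff, ← U.mul_self_eq_one_iff]
    exact Subtype.ext (by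
      show tInv * tInv = 1
      rw [← pow_two]
      have := pow_orderOf_eq_one tInv
      rwa [orderOf_tInv] at this)
  have hPC : (P : Subgroup SU4) ≤ C := fun x hx => mem_centralizer_singleton_iff.2
    (congrArg Subtype.val (mem_center_iff.1 htc ⟨x, hx⟩))
  have hPK : (P : Subgroup SU4) ≤ K := by
    intro x hx
    have h1 : orderOf x ∣ 64 := hPcard ▸ (P : Subgroup SU4).orderOf_dvd_natCard hx
    have h2 : orderOf (μ ⟨x, hPC hx⟩) ∣ 1 := by
      have a : orderOf (μ ⟨x, hPC hx⟩) ∣ 64 := (orderOf_map_dvd μ _).trans (by rwa [Subgroup.orderOf_mk])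
      have b : orderOf (μ ⟨x, hPC hx⟩) ∣ 5 := orderOf_dvd_of_pow_eq_one (Units.ext (hlam5 _))
      have := Nat.dvd_gcd a b
      simpa using this
    have h3 : (⟨x, hPC hx⟩ : C) ∈ μ.ker :=
      MonoidHom.mem_ker.2 (orderOf_eq_one_iff.1 (Nat.dvd_one.1 h2))
    rw [hker] at h3
    exact h3
  have hPKeq : (P : Subgroup SU4) = K := Subgroup.eq_of_le_of_card_ge hPK (hKle.trans hPcard.ge)
  have hsC : sFive ∈ C := mem_centralizer_singleton_iff.2
    (by rw [sFive, tInv, ← pow_add, ← pow_add])
  have hC320 : Nat.card C = 320 := by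
    refine le_antisymm hCle (Nat.le_of_dvd Nat.card_pos ?_)
    exact Nat.Coprime.mul_dvd_of_dvd_of_dvd (m := 64) (n := 5) (by norm_num)
      (hPcard ▸ Subgroup.card_dvd_of_le hPC) (orderOf_sFive ▸ C.orderOf_dvd_natCard hsC)
  -- the derived group
  set D := (commutator C).map C.subtype with hD
  have hDK : D ≤ K := by
    rw [hD, map_le_iff_le_comap]
    exact (Abelianization.commutator_subset_ker μ).trans hker.le
  have hpK : pEl ∈ K := ⟨mem_centralizer_singleton_iff.2 pEl_comm_t, pEl_fix⟩
  set W := (center (P : Subgroup SU4)).map (P : Subgroup SU4).subtype with hW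
  have hW4 : Nat.card W = 4 := by
    rw [hW, Subgroup.card_map_of_injective (P : Subgroup SU4).subtype_injective,
      U.card_center_eq (q := 4) (by rw [Nat.card_eq_fintype_card, hqF]; norm_num)]
  have hWsq : ∀ w ∈ W, w * w = 1 := by
    rintro _ ⟨w, hw, rfl⟩
    exact congrArg Subtype.val (U.mul_self_eq_one_iff.2 (U.mem_center_iff.1 hw))
  have hWD : W ≤ D := by
    rintro _ ⟨w, hw, rfl⟩
    have h1 : w ∈ commutator (P : Subgroup SU4) := U.mem_commutator_iff.2 (U.mem_center_iff.1 hw)
    have h2 : (w : SU4) ∈ ⁅(P : Subgroup SU4), (P : Subgroup SU4)⁆ := by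
      have h3 := mem_map_of_mem (P : Subgroup SU4).subtype h1
      rwa [_root_.commutator_def, map_commutator, ← MonoidHom.range_eq_map, range_subtype] at h3
    rw [hD, _root_.commutator_def, map_commutator, ← MonoidHom.range_eq_map, range_subtype]
    exact commutator_mono hPC hPC h2
  have hDC : D ≤ C := hDK.trans hKC
  have hsN : ∀ L : Subgroup SU4, (L = K ∨ L = D) → sFive ∈ normalizer (L : Set SU4) := by
    intro L hL
    have hn : ∀ M : Subgroup C, M.Normal → sFive ∈ normalizer ((M.map C.subtype : Subgroup SU4) : Set SU4) := by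
      intro M hM
      haveI := hM
      exact le_normalizer_map C.subtype ⟨⟨sFive, hsC⟩, by simp [normalizer_eq_top], rfl⟩
    rcases hL with rfl | rfl
    · have h := hn μ.ker inferInstance
      rwa [hker, map_subgroupOf_eq_of_le hKC] at h
    · exact hn (commutator C) inferInstance
  have hsW : sFive ∈ centralizer (W : Set SU4) := by
    have hn : sFive ∈ normalizer (W : Set SU4) := by
      refine mem_normalizer_iff_map_conj_eq.2 (Subgroup.eq_of_le_of_card_ge ?_ ?_)
      · rintro _ ⟨_, ⟨w, hw, rfl⟩, rfl⟩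
        have hsP : sFive ∈ normalizer ((P : Subgroup SU4) : Set SU4) := by rw [hPKeq]; exact hsN K (Or.inl rfl)
        have hcon : sFive * w * sFive⁻¹ ∈ (P : Subgroup SU4) := (mem_normalizer_iff.1 hsP _).1 w.2
        refine ⟨⟨_, hcon⟩, ?_, rfl⟩
        rw [SetLike.mem_coe, U.mem_center_iff, ← U.mul_self_eq_one_iff]
        refine Subtype.ext ?_
        show sFive * w * sFive⁻¹ * (sFive * w * sFive⁻¹) = 1
        have h1 : (w : SU4) * w = 1 := congrArg Subtype.val (U.mul_self_eq_one_iff.2 (U.mem_center_iff.1 hw))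
        rw [show sFive * w * sFive⁻¹ * (sFive * w * sFive⁻¹) = sFive * (w * w : SU4) * sFive⁻¹ by group, h1]
        group
      · exact (Subgroup.card_map_of_injective (f := (MulAut.conj sFive).toMonoidHom) (MulAut.conj sFive).injective).ge
    have hmod := CfsgLib.CFun.Split320.card_fixed_modEq orderOf_sFive hn
    obtain ⟨j, hj, hjc⟩ := CfsgLib.CFun.Split320.two_pow_cases (k := 2)
      ((Subgroup.card_dvd_of_le (inf_le_left : W ⊓ centralizer {sFive} ≤ W)).trans (by rw [hW4]; norm_num))
    rw [hW4, hjc] at hmod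
    have : j = 2 := by interval_cases j <;> simp_all [Nat.ModEq]
    have hall : W ⊓ centralizer {sFive} = W := Subgroup.eq_of_le_of_card_ge inf_le_left (by rw [hjc, hW4, this]; norm_num)
    exact mem_centralizer_iff.2 fun w hw => mem_centralizer_singleton_iff.1 (hall.ge hw).2
  have hWK : W ≤ K := hWD.trans hDK
  -- commutators with the element of order five leave the centre
  have hesc : sFive * pEl * sFive⁻¹ * pEl⁻¹ ∉ W := by
    intro h
    set w := sFive * pEl * sFive⁻¹ * pEl⁻¹ with hw
    have hws : Commute sFive w := (mem_centralizer_iff.1 hsW w h).symm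
    have hk : ∀ k : ℕ, sFive ^ k * pEl * (sFive ^ k)⁻¹ = w ^ k * pEl := by
      intro k
      induction k with
      | zero => simp
      | succ k ih =>
        calc sFive ^ (k + 1) * pEl * (sFive ^ (k + 1))⁻¹
            = sFive * (sFive ^ k * pEl * (sFive ^ k)⁻¹) * sFive⁻¹ := by rw [pow_succ']; group
          _ = (sFive * w ^ k) * (pEl * sFive⁻¹) := by rw [ih]; group
          _ = w ^ (k + 1) * pEl := by rw [(hws.pow_right k).eq, pow_succ, hw]; group
    have h5 := hk 5
    rw [← orderOf_sFive, pow_orderOf_eq_one, orderOf_sFive, inv_one, one_mul, mul_one, right_eq_mul] at h5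
    have hw1 : w = 1 := by
      have e : w ^ 5 = (w * w) * (w * w) * w := by simp [pow_succ, mul_assoc]
      rw [e, hWsq w h, one_mul, one_mul] at h5
      exact h5
    exact pEl_not_comm_s (by
      have h6 : sFive * pEl * sFive⁻¹ * pEl⁻¹ = 1 := hw1
      rw [mul_inv_eq_one, mul_inv_eq_iff_eq_mul] at h6
      exact h6.symm)
  have hpD : sFive * pEl * sFive⁻¹ * pEl⁻¹ ∈ D :=
    ⟨⁅(⟨sFive, hsC⟩ : C), ⟨pEl, hKC hpK⟩⁆,
      commutator_mem_commutator (H₁ := ⊤) (H₂ := ⊤) (mem_top _) (mem_top _), rfl⟩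
  have hDcard : Nat.card D = 64 := by
    have hK64 : Nat.card K = 64 := hPKeq ▸ hPcard
    have hm1 := CfsgLib.CFun.Split320.card_fixed_modEq orderOf_sFive (hsN K (Or.inl rfl))
    have hm2 := CfsgLib.CFun.Split320.card_fixed_modEq orderOf_sFive (hsN D (Or.inr rfl))
    have hF4 : Nat.card ↥(K ⊓ centralizer {sFive}) = 4 := by
      obtain ⟨j, hj, hjc⟩ := CfsgLib.CFun.Split320.two_pow_cases (k := 6)
        ((Subgroup.card_dvd_of_le (inf_le_left : K ⊓ centralizer {sFive} ≤ K)).trans (by rw [hK64]; norm_num))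
      rw [hK64, hjc] at hm1
      have hj' : j = 2 ∨ j = 6 := by interval_cases j <;> simp_all [Nat.ModEq]
      rcases hj' with rfl | rfl
      · rw [hjc]; norm_num
      · exfalso
        have hall : K ⊓ centralizer {sFive} = K :=
          Subgroup.eq_of_le_of_card_ge inf_le_left (by rw [hjc, hK64]; norm_num)
        exact pEl_not_comm_s (mem_centralizer_singleton_iff.1 (hall.ge hpK).2)
    have hWF : W = K ⊓ centralizer {sFive} := Subgroup.eq_of_le_of_card_ge
      (le_inf hWK fun w hw => mem_centralizer_singleton_iff.2 (mem_centralizer_iff.1 hsW w hw))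
      (by rw [hF4, hW4])
    have hfix : D ⊓ centralizer {sFive} = W := le_antisymm
      (le_trans (inf_le_inf_right _ hDK) hWF.ge)
      (le_inf hWD (hWF.le.trans inf_le_right))
    rw [hfix, hW4] at hm2
    obtain ⟨j, hj, hjc⟩ := CfsgLib.CFun.Split320.two_pow_cases (k := 6)
      ((Subgroup.card_dvd_of_le hDK).trans (by rw [hK64]; norm_num))
    rw [hjc] at hm2
    have hj' : j = 2 ∨ j = 6 := by interval_cases j <;> simp_all [Nat.ModEq]
    rcases hj' with rfl | rfl
    · exfalso
      have hDW : W = D := Subgroup.eq_of_le_of_card_ge hWD (by rw [hjc, hW4]; norm_num)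
      exact hesc (hDW ▸ hpD)
    · rw [hjc]; norm_num
  have hDP : D = (P : Subgroup SU4) := Subgroup.eq_of_le_of_card_ge (hDK.trans hPKeq.ge) (by rw [hDcard, hPcard])
  refine ⟨hC320, ?_, ?_⟩
  · rw [← Subgroup.card_map_of_injective (f := C.subtype) C.subtype_injective]; exact hDcard
  · let e : commutator C ≃* (P : Subgroup SU4) :=
      ((commutator C).equivMapOfInjective C.subtype C.subtype_injective).trans (MulEquiv.subgroupCongr hDP)
    let e' : center (commutator C) ≃* center (P : Subgroup SU4) := Subgroup.centerCongr e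
    have hc4 : Nat.card (center (P : Subgroup SU4)) = 4 :=
      U.card_center_eq (q := 4) (by rw [Nat.card_eq_fintype_card, hqF]; norm_num)
    refine ⟨(Nat.card_congr e'.toEquiv).trans hc4, ?_⟩
    haveI : Nontrivial (center (P : Subgroup SU4)) := Finite.one_lt_card_iff_nontrivial.1 (by rw [hc4]; norm_num)
    have hexp : Monoid.exponent (center (P : Subgroup SU4)) = 2 :=
      (Monoid.exponent_eq_prime_iff (G := center (P : Subgroup SU4)) Nat.prime_two).2 fun z hz =>
        orderOf_eq_prime (by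
          rw [pow_two]
          exact Subtype.ext (U.mul_self_eq_one_iff.2 (U.mem_center_iff.1 z.2))) hz
    rw [Monoid.exponent_eq_of_mulEquiv e', hexp]

end CfsgLib.CFun.SU34
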