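import Cfsg.Agent.Lib.CFun.LocalGlobal

/-!
# Weak closure from the well-placed local subgroups
-/

set_option autoImplicit false
set_option linter.style.haveILetI false

open Subgroup
open CfsgLib.Fusion (conjBy mem_conjBy conj_mem_conjBy conjBy_le_iff conjBy_eq_iff conjBy_conjBy
  conjBy_mono conjBy_normalizer card_conjBy)

namespace CfsgLib.CFun

variable {G : Type*} [Group G] [Finite G] {p : ℕ} [Fact p.Prime]

/-- A central subgroup fixed by the normalizer of the value at `S` and by the normalizers of the
well-placed subgroups containing it is weakly closed in `S`. -/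
theorem weaklyClosed_of_wellPlaced (S : Sylow p G) {W : Subgroup G → Subgroup G}
    (hW : Cfsg.IsConjugacyFunctor p W)
    (hWZ : ∀ P : Subgroup G, IsPGroup p P → P ⊓ centralizer (P : Set G) ≤ W P) (A : Subgroup G)
    (hA : A ≤ (S : Subgroup G) ⊓ centralizer ((S : Subgroup G) : Set G))
    (hfix : normalizer ((W (S : Subgroup G) : Subgroup G) : Set G) ≤ normalizer (A : Set G))
    (hwit : ∀ T : Subgroup G, Cfsg.IsWellPlaced p W (S : Subgroup G) T → A ≤ T →
      normalizer ((W ((S : Subgroup G) ⊓ normalizer (T : Set G)) : Subgroup G) : Set G) ≤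
        normalizer (A : Set G) →
      normalizer (T : Set G) ≤ normalizer (A : Set G))
    (g : G) (hg : conjBy g A ≤ (S : Subgroup G)) : g ∈ normalizer (A : Set G) := by
  set S0 : Subgroup G := (S : Subgroup G) with hS0
  have hcen : ∀ L : Subgroup G, L ≤ S0 → A ≤ L → A ≤ W L := fun L hL hAL =>
    (le_inf hAL ((hA.trans inf_le_right).trans (centralizer_le hL))).trans
      (hWZ L (S.2.to_le hL))
  have hAk : ∀ {k : G}, k ∈ normalizer (A : Set G) → conjBy k A = A := fun hk =>
    conjBy_eq_iff.2 hk
  have main : ∀ n : ℕ,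
      (∀ R : Subgroup G, R ≤ S0 → A ≤ R → Nat.card S0 - Nat.card R = n → ∀ g : G,
        conjBy g R ≤ S0 → g ∈ normalizer (A : Set G)) ∧
      (∀ P : Subgroup G, Cfsg.IsWellPlaced p W S0 P → A ≤ P →
        Nat.card S0 - Nat.card (S0 ⊓ normalizer (P : Set G) : Subgroup G) = n →
        normalizer (P : Set G) ≤ normalizer (A : Set G)) := by
    intro n
    induction n using Nat.strong_induction_on with
    | _ n ih =>
      have hB : ∀ P : Subgroup G, Cfsg.IsWellPlaced p W S0 P → A ≤ P →
          Nat.card S0 - Nat.card (S0 ⊓ normalizer (P : Set G) : Subgroup G) = n →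
          normalizer (P : Set G) ≤ normalizer (A : Set G) := by
        intro P hP hAP hn
        refine hwit P hP hAP ?_
        set L := S0 ⊓ normalizer (P : Set G) with hL
        have hLS : L ≤ S0 := inf_le_left
        have hLp : IsPGroup p L := S.2.to_le hLS
        by_cases hLeq : L = S0
        · rw [hLeq]; exact hfix
        have hAL : A ≤ L := le_inf (hA.trans inf_le_left) (hAP.trans le_normalizer)
        have hlt : Nat.card L < Nat.card (S0 ⊓ normalizer ((W L : Subgroup G) : Set G) : Subgroup G) :=
          lt_of_lt_of_le (card_lt_card (lt_inf_normalizer_sylow S hLS hLeq))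
            (Subgroup.card_le_of_le (inf_le_inf le_rfl (cfun_normalizer_le hW hLp)))
        set R := S0 ⊓ normalizer ((W L : Subgroup G) : Set G) with hR
        have hRS : Nat.card R ≤ Nat.card S0 := Subgroup.card_le_of_le inf_le_left
        have hLR : L ≤ R := le_inf hLS (le_normalizer.trans (cfun_normalizer_le hW hLp))
        obtain ⟨k, hk, hkpl⟩ := exists_wellPlaced S hW _ (W L) ((cfun_le hW hLp).trans hLS) rfl
        have hkA : k ∈ normalizer (A : Set G) :=
          (ih _ (by omega)).1 R inf_le_left (hAL.trans hLR) rfl k hk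
        have hkR : conjBy k R ≤ S0 ⊓ normalizer (conjBy k (W L) : Set G) :=
          le_inf hk (conjBy_normalizer k (W L) ▸ conjBy_mono inf_le_right)
        have hcard : Nat.card R ≤
            Nat.card (S0 ⊓ normalizer (conjBy k (W L) : Set G) : Subgroup G) := by
          rw [← card_conjBy k]; exact Subgroup.card_le_of_le hkR
        have hle2 : Nat.card (S0 ⊓ normalizer (conjBy k (W L) : Set G) : Subgroup G) ≤
            Nat.card S0 := Subgroup.card_le_of_le inf_le_left
        have h2 := (ih _ (by omega)).2 (conjBy k (W L)) hkpl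
          ((hAk hkA).ge.trans (conjBy_mono (hcen L hLS hAL))) rfl
        intro y hy
        have hy2 : k * y * k⁻¹ ∈ normalizer (A : Set G) :=
          h2 (by rw [← conjBy_normalizer]; exact conj_mem_conjBy hy)
        simpa [mul_assoc] using mul_mem (mul_mem (inv_mem hkA) hy2) hkA
      refine ⟨?_, hB⟩
      intro R hR hAR hn g hg
      set R' := conjBy g R with hR'
      rcases eq_or_ne R S0 with hRS | hRS
      · refine hfix (cfun_normalizer_le hW S.2 ?_)
        rw [hR', hRS] at hg
        exact conjBy_eq_iff.1 (CfsgLib.Fusion.conjBy_eq_of_le hg)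
      obtain ⟨h, hh, hpl⟩ := exists_wellPlaced S hW _ R hR rfl
      set Rs := conjBy h R with hRs
      set Y := S0 ⊓ normalizer (R : Set G)
      set X := S0 ⊓ normalizer (R' : Set G)
      have hR'ne : R' ≠ S0 := fun e => hRS (Subgroup.eq_of_le_of_card_ge hR
        (by rw [← e, hR', card_conjBy]))
      have hR'c : Nat.card R' = Nat.card R := card_conjBy g R
      have l1 : Nat.card R < Nat.card Y := card_lt_card (lt_inf_normalizer_sylow S hR hRS)
      have l2 : Nat.card R' < Nat.card X := card_lt_card (lt_inf_normalizer_sylow S hg hR'ne)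
      have hYS : Nat.card Y ≤ Nat.card S0 := Subgroup.card_le_of_le inf_le_left
      have hXS : Nat.card X ≤ Nat.card S0 := Subgroup.card_le_of_le inf_le_left
      have hhA : h ∈ normalizer (A : Set G) := (ih _ (by omega)).1 Y inf_le_left
        (le_inf (hA.trans inf_le_left) (hAR.trans le_normalizer)) rfl h hh
      have hARs : A ≤ Rs := (hAk hhA).ge.trans (conjBy_mono hAR)
      have hRsS : Rs ≤ S0 := hpl.1
      have hlocal : normalizer (Rs : Set G) ≤ normalizer (A : Set G) := by
        have hc : Nat.card R ≤ Nat.card (S0 ⊓ normalizer (Rs : Set G) : Subgroup G) := by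
          rw [← card_conjBy h]; exact Subgroup.card_le_of_le (le_inf hRsS le_normalizer)
        rcases eq_or_lt_of_le (show Nat.card S0 -
            Nat.card (S0 ⊓ normalizer (Rs : Set G) : Subgroup G) ≤ n by omega) with e | e
        · exact hB Rs hpl hARs e
        · exact (ih _ e).2 Rs hpl hARs rfl
      have hmR : conjBy (h * g⁻¹) R' = Rs := by
        rw [hR', conjBy_conjBy, inv_mul_cancel_right]
      obtain ⟨c, hc, hcX⟩ := CfsgLib.Fusion.exists_conj_le_of_not_dvd_relIndex
        (S.2.to_le (inf_le_left : S0 ⊓ normalizer (Rs : Set G) ≤ S0)) inf_le_right (hpl.2 0)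
        (CfsgLib.Fusion.isPGroup_conjBy (h * g⁻¹) (S.2.to_le (inf_le_left : X ≤ S0)))
        (by
          refine (conjBy_mono (inf_le_right : X ≤ normalizer (R' : Set G))).trans ?_
          rw [conjBy_normalizer, hmR])
      rw [conjBy_conjBy] at hcX
      have hcA : c ∈ normalizer (A : Set G) := hlocal hc
      have hcard' : Nat.card (conjBy (c * (h * g⁻¹)) X) = Nat.card X := card_conjBy _ _
      have hkA : (c * (h * g⁻¹))⁻¹ ∈ normalizer (A : Set G) := by
        refine (ih (Nat.card S0 - Nat.card (conjBy (c * (h * g⁻¹)) X)) (by omega)).1 _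
          (hcX.trans inf_le_left) ?_ rfl _
          (by rw [CfsgLib.Fusion.conjBy_inv_conjBy]; exact inf_le_left)
        calc A = conjBy c A := (hAk hcA).symm
          _ ≤ conjBy c Rs := conjBy_mono hARs
          _ = conjBy (c * (h * g⁻¹)) R' := by rw [← hmR, conjBy_conjBy]
          _ ≤ conjBy (c * (h * g⁻¹)) X := conjBy_mono (le_inf hg le_normalizer)
      have := mul_mem hkA (mul_mem hcA hhA)
      simpa [mul_assoc] using this
  exact (main _).1 A (hA.trans inf_le_left) le_rfl rfl g hg

end CfsgLib.CFun
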